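import Cfsg.Statements.S4593
import Cfsg.Agent.Lib.ZStarTheorem

set_option autoImplicit false
open Cfsg

namespace Cfsg.Agent.S4593

open scoped Pointwise

/-- An involution of an abelian Sylow subgroup fixed by its normalizer is isolated. -/
theorem isolated_of_fixed {H : Type*} [Group H] [Finite H] (S : Sylow 2 H)
    (hab : IsMulCommutative (S : Subgroup H)) {z : H} (hz : orderOf z = 2)
    (hzS : z ∈ (S : Subgroup H))
    (hfix : ∀ n ∈ Subgroup.normalizer ((S : Subgroup H) : Set H), n * z = z * n) :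
    IsIsolatedInvolution z := by
  haveI := hab
  refine ⟨hz, fun g hg => ?_⟩
  have hSC : (S : Subgroup H) ≤ Subgroup.centralizer ({z} : Set H) := fun s hs => by
    rw [Subgroup.mem_centralizer_singleton_iff]
    exact congrArg Subtype.val (hab.1.comm (⟨s, hs⟩ : (S : Subgroup H)) ⟨z, hzS⟩)
  have hwC : g * z * g⁻¹ ∈ Subgroup.centralizer ({z} : Set H) := by
    rw [Subgroup.mem_centralizer_singleton_iff]; exact hg.eq.symm
  set C := Subgroup.centralizer ({z} : Set H) with hC
  haveI : Fact (Nat.Prime 2) := ⟨Nat.prime_two⟩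
  have hw : IsPGroup 2 (Subgroup.zpowers (⟨_, hwC⟩ : C)) := IsPGroup.of_card (n := 1) (by
    rw [Nat.card_zpowers, ← Subgroup.orderOf_coe, pow_one]
    exact (MulEquiv.orderOf_eq (MulAut.conj g) z).trans hz)
  obtain ⟨Q, hQ⟩ := hw.exists_le_sylow
  obtain ⟨c, hc⟩ := MulAction.exists_smul_eq C Q (S.subtype hSC)
  have hmem : (c : H) * (g * z * g⁻¹) * (c : H)⁻¹ ∈ (S : Subgroup H) := by
    have h1 : MulAut.conj c ⟨_, hwC⟩ ∈ ((S.subtype hSC : Sylow 2 C) : Subgroup C) := by
      rw [← hc]
      exact Subgroup.smul_mem_pointwise_smul _ (MulAut.conj c) _ (hQ (Subgroup.mem_zpowers _))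
    exact h1
  obtain ⟨n, hn, he⟩ := S.conj_eq_normalizer_conj_of_mem z (((c : H) * g)⁻¹) hzS (by
    have e : ((c : H) * g)⁻¹⁻¹ * z * ((c : H) * g)⁻¹ = (c : H) * (g * z * g⁻¹) * (c : H)⁻¹ := by
      group
    rw [e]
    exact hmem)
  have h2 : (c : H) * (g * z * g⁻¹) * (c : H)⁻¹ = z := by
    rw [show n⁻¹ * z * n = z by rw [mul_assoc, ← hfix n hn, inv_mul_cancel_left]] at he
    simpa [mul_assoc] using he
  have hcz : (c : H) * z = z * (c : H) := Subgroup.mem_centralizer_singleton_iff.mp c.2
  calc g * z * g⁻¹ = (c : H)⁻¹ * ((c : H) * (g * z * g⁻¹) * (c : H)⁻¹) * (c : H) := by group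
    _ = z := by rw [h2, mul_assoc, ← hcz, inv_mul_cancel_left]

/-- Let G be a finite group with trivial centre and no nontrivial normal subgroup of odd order, whose Sylow 2-subgroups are abelian, and let P be a Sylow 2-subgroup. Every automorphism of G of 2-power order that fixes P elementwise is inner. -/
theorem result {G : Type*} [Group G] [Finite G] (hZ : Subgroup.center G = ⊥) (hcore : Cfsg.pPrimeCore 2 G = ⊥) (P : Sylow 2 G) (hab : IsMulCommutative (P : Subgroup G))
    (α : MulAut G) (h2 : ∃ j : ℕ, orderOf α = 2 ^ j) (hfix : ∀ x ∈ (P : Subgroup G), α x = x) :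
    ∃ g : G, ∀ x : G, α x = g * x * g⁻¹ := by
  classical
  haveI : Fact (Nat.Prime 2) := ⟨Nat.prime_two⟩
  haveI : Finite (MulAut G) := Finite.of_injective (fun a : MulAut G => (a : G → G))
    fun a b h => DFunLike.coe_injective h
  let ι : G →* MulAut G := MulAut.conj
  have hι : Function.Injective ι := (injective_iff_map_eq_one ι).mpr fun g hg => by
    have : g ∈ Subgroup.center G := Subgroup.mem_center_iff.mpr fun x => by
      have h1 : g * x * g⁻¹ = x := by simpa [ι] using DFunLike.congr_fun hg x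
      exact (mul_inv_eq_iff_eq_mul.mp h1).symm
    rwa [hZ, Subgroup.mem_bot] at this
  have hconj : ∀ (a : MulAut G) (g : G), a * ι g * a⁻¹ = ι (a g) := fun a g =>
    MulEquiv.ext fun x => by simp [ι, MulAut.mul_apply]
  set I : Subgroup (MulAut G) := ι.range with hI
  set H : Subgroup (MulAut G) := I ⊔ Subgroup.zpowers α with hH
  let j : G →* H := ι.codRestrict H fun g => Subgroup.mem_sup_left ⟨g, rfl⟩
  let a : H := ⟨α, Subgroup.mem_sup_right (Subgroup.mem_zpowers α)⟩
  set J : Subgroup H := j.range with hJdef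
  have hjconj : ∀ (h : H) (g : G), h * j g * h⁻¹ = j ((h : MulAut G) g) := fun h g =>
    Subtype.ext (hconj (h : MulAut G) g)
  haveI hJn : J.Normal := ⟨by
    rintro _ ⟨g, rfl⟩ h
    exact ⟨_, (hjconj h g).symm⟩⟩
  have hj : Function.Injective j := fun x y h => hι (congrArg Subtype.val h)
  -- the odd core of `H` is trivial
  have hOH : pPrimeCore 2 H = ⊥ := by
    rw [Subgroup.eq_bot_iff_forall]
    set K := pPrimeCore 2 H with hK
    haveI : K.Normal := HallCore.pPrimeCore_normal 2 H
    have hbot : K.comap j = ⊥ := by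
      refine le_antisymm (hcore ▸ le_sSup ⟨inferInstance, ?_⟩) bot_le
      refine (HallCore.coprime_card_pPrimeCore 2 H).coprime_dvd_left ?_
      rw [← Subgroup.card_map_of_injective (K := K.comap j) hj]
      exact Subgroup.card_dvd_of_le (Subgroup.map_comap_le _ _)
    intro k hk
    refine Subtype.ext (MulEquiv.ext fun g => ?_)
    have h1 : j ((k : MulAut G) g) * (j g)⁻¹ ∈ K := by
      rw [← hjconj]
      simpa [mul_assoc] using mul_mem hk
        (Subgroup.Normal.conj_mem inferInstance _ (inv_mem hk) (j g))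
    rw [← map_inv, ← map_mul, ← Subgroup.mem_comap, hbot, Subgroup.mem_bot,
      mul_inv_eq_one] at h1
    simpa using h1
  -- an abelian Sylow subgroup containing `a`
  set P' : Subgroup H := (P : Subgroup G).map j with hP'
  have hcomm : ∀ x ∈ P', Commute a x := by
    rintro _ ⟨g, hg, rfl⟩
    have := hjconj a g
    rw [show (a : MulAut G) g = g from hfix g hg] at this
    exact mul_inv_eq_iff_eq_mul.mp this
  set S₀ : Subgroup H := P' ⊔ Subgroup.zpowers a with hS₀
  have hPn : P' ≤ Subgroup.normalizer (Subgroup.zpowers a : Set H) := fun x hx => by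
    refine Subgroup.centralizer_le_normalizer _ (Subgroup.mem_centralizer_iff.mpr ?_)
    rintro _ ⟨i, rfl⟩
    exact ((hcomm x hx).zpow_left i).eq
  obtain ⟨i₂, hi₂⟩ := h2
  have haord : orderOf a = 2 ^ i₂ := by rw [← hi₂, ← Subgroup.orderOf_coe]
  have hS₀p : IsPGroup 2 S₀ := (P.2.map j).to_sup_of_normal_right'
    (IsPGroup.of_card (n := i₂) (by rw [Nat.card_zpowers, haord])) hPn
  obtain ⟨S, hS⟩ := hS₀p.exists_le_sylow
  have hJtop : J ⊔ Subgroup.zpowers a = ⊤ := by
    rw [eq_top_iff]
    intro h _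
    have hh : (h : MulAut G) ∈ (J ⊔ Subgroup.zpowers a).map H.subtype := by
      rw [Subgroup.map_sup, MonoidHom.map_zpowers, hJdef, ← MonoidHom.range_comp]
      exact h.2
    obtain ⟨h', hh', he⟩ := hh
    rwa [← Subtype.ext he]
  -- every element of `S` lies in `S₀`
  have hSeq : (S : Subgroup H) ≤ S₀ := by
    intro s hs
    have hs' : s ∈ (Subgroup.zpowers a : Set H) * (J : Set H) := by
      rw [← Subgroup.mul_normal, sup_comm, hJtop]; trivial
    obtain ⟨y, hy, x, hx, rfl⟩ := hs'
    obtain ⟨g, rfl⟩ := hx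
    have haS : ∀ y ∈ Subgroup.zpowers a, y ∈ (S : Subgroup H) := fun y hy =>
      hS (Subgroup.mem_sup_right hy)
    refine mul_mem (Subgroup.mem_sup_right hy) (Subgroup.mem_sup_left ⟨g, ?_, rfl⟩)
    have hg : g ∈ (S : Subgroup H).comap j :=
      (Subgroup.mul_mem_cancel_left _ (haS y hy)).mp hs
    have hle : (P : Subgroup G) ≤ (S : Subgroup H).comap j := fun q hq =>
      hS (Subgroup.mem_sup_left ⟨q, hq, rfl⟩)
    rw [P.3 (S.2.comap_of_injective j hj) hle] at hg
    exact hg
  have hSab : IsMulCommutative (S : Subgroup H) := by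
    have hc : S₀ ≤ Subgroup.centralizer (S₀ : Set H) := by
      rw [Subgroup.le_centralizer_iff]
      refine sup_le ?_ (Subgroup.zpowers_le.mpr (Subgroup.mem_centralizer_iff.mpr ?_)) <;>
        [rw [Subgroup.le_centralizer_iff]; skip]
      · refine sup_le ?_ (Subgroup.zpowers_le.mpr ?_)
        · rintro _ ⟨g, hg, rfl⟩
          refine Subgroup.mem_centralizer_iff.mpr ?_
          rintro _ ⟨g', hg', rfl⟩
          have h4 : g' * g = g * g' :=
            congrArg Subtype.val (hab.1.comm (⟨g', hg'⟩ : (P : Subgroup G)) ⟨g, hg⟩)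
          rw [← map_mul, ← map_mul, h4]
        · exact Subgroup.mem_centralizer_iff.mpr fun x hx => (hcomm x hx).eq.symm
      · intro x hx
        refine Subgroup.mem_centralizer_singleton_iff.mp ?_
        refine sup_le (fun y hy => Subgroup.mem_centralizer_singleton_iff.mpr (hcomm y hy).eq.symm)
          (Subgroup.zpowers_le.mpr (Subgroup.mem_centralizer_singleton_iff.mpr rfl)) hx
    exact ⟨⟨fun x y => Subtype.ext
      (Subgroup.mem_centralizer_iff.mp (hc (hSeq y.2)) x (hSeq x.2))⟩⟩
  haveI := hSab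
  -- averaging over the normalizer
  set N : Subgroup H := Subgroup.normalizer ((S : Subgroup H) : Set H) with hN
  set φ := (S : Subgroup H).normalizerMonoidHom with hφ
  set A : Subgroup (MulAut (S : Subgroup H)) := φ.range with hA
  letI : CommGroup (S : Subgroup H) :=
    { (inferInstance : Group (S : Subgroup H)) with mul_comm := fun x y => hSab.1.comm x y }
  haveI : Finite (MulAut (S : Subgroup H)) := Finite.of_injective
    (fun e : MulAut (S : Subgroup H) => ⇑e)
    fun e f h => DFunLike.coe_injective h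
  letI := Fintype.ofFinite A
  have haS : a ∈ (S : Subgroup H) := hS (Subgroup.mem_sup_right (Subgroup.mem_zpowers a))
  set t : (S : Subgroup H) := ∏ e : A, (e : MulAut (S : Subgroup H)) ⟨a, haS⟩ with ht
  have htfix : ∀ n ∈ N, n * (t : H) = (t : H) * n := by
    intro n hn
    have h1 : φ ⟨n, hn⟩ t = t := by
      rw [ht, map_prod]
      exact Fintype.prod_equiv (Equiv.mulLeft (⟨φ ⟨n, hn⟩, ⟨n, hn⟩, rfl⟩ : A)) _ _ fun e => rfl
    have h2 := congrArg Subtype.val h1
    rw [hφ, Subgroup.normalizerMonoidHom_apply_apply_coe] at h2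
    exact mul_inv_eq_iff_eq_mul.mp h2
  -- its image modulo inner automorphisms
  have htq : QuotientGroup.mk' J (t : H) = QuotientGroup.mk' J a ^ Fintype.card A := by
    letI : CommGroup (H ⧸ J) :=
      { (inferInstance : Group (H ⧸ J)) with
        mul_comm := fun u v => by
          have hgen : ∀ w : H ⧸ J, ∃ i : ℤ, QuotientGroup.mk' J a ^ i = w := fun w => by
            obtain ⟨h, rfl⟩ := QuotientGroup.mk'_surjective J w
            have hh : h ∈ (Subgroup.zpowers a : Set H) * (J : Set H) := by
              rw [← Subgroup.mul_normal, sup_comm, hJtop]; trivial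
            obtain ⟨y, ⟨i, rfl⟩, x, hx, rfl⟩ := hh
            refine ⟨i, ?_⟩
            rw [map_mul, show QuotientGroup.mk' J x = 1 from (QuotientGroup.eq_one_iff x).mpr hx,
              mul_one, map_zpow]
          obtain ⟨i, rfl⟩ := hgen u
          obtain ⟨i', rfl⟩ := hgen v
          exact zpow_mul_comm _ i i' }
    change ((QuotientGroup.mk' J).comp (S : Subgroup H).subtype) t = _
    rw [ht, map_prod, ← Finset.card_univ, Finset.prod_eq_pow_card]
    rintro ⟨_, ⟨n, hn⟩, rfl⟩ -
    show QuotientGroup.mk' J (n * a * n⁻¹) = QuotientGroup.mk' J a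
    have hn' : n ∈ (Subgroup.zpowers a : Set H) * (J : Set H) := by
      rw [← Subgroup.mul_normal, sup_comm, hJtop]; trivial
    obtain ⟨y, ⟨i, rfl⟩, x, hx, rfl⟩ := hn'
    have hxq : QuotientGroup.mk' J x = 1 := (QuotientGroup.eq_one_iff x).mpr hx
    simp only [map_mul, map_inv, map_zpow, hxq, mul_one]
    exact mul_inv_eq_iff_eq_mul.mpr ((Commute.refl _).zpow_left i).eq
  have hodd : Odd (Fintype.card A) := by
    rw [← Nat.card_eq_fintype_card, hA, ← Subgroup.index_ker]
    have hker : (S : Subgroup H).subgroupOf N ≤ φ.ker := by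
      intro n hn
      rw [MonoidHom.mem_ker]
      refine MulEquiv.ext fun x => Subtype.ext ?_
      rw [hφ, Subgroup.normalizerMonoidHom_apply_apply_coe]
      have h3 := congrArg Subtype.val (hSab.1.comm (⟨(n : H), hn⟩ : (S : Subgroup H)) x)
      change (n : H) * x = x * n at h3
      rw [h3, mul_inv_cancel_right]
      rfl
    have hnd : ¬ 2 ∣ ((S : Subgroup H).subgroupOf N).index := fun h =>
      S.not_dvd_index (h.trans (Subgroup.relIndex_dvd_index_of_le Subgroup.le_normalizer))
    exact Nat.not_even_iff_odd.mp fun h =>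
      hnd ((even_iff_two_dvd.mp h).trans (Subgroup.index_dvd_of_le hker))
  by_cases htone : (t : H) = 1
  · -- `α` is inner
    rw [htone, map_one] at htq
    have hd1 : orderOf (QuotientGroup.mk' J a) ∣ Fintype.card A :=
      orderOf_dvd_of_pow_eq_one htq.symm
    have hd2 : orderOf (QuotientGroup.mk' J a) ∣ 2 ^ i₂ := haord ▸ orderOf_map_dvd _ _
    have hq1 : QuotientGroup.mk' J a = 1 := orderOf_eq_one_iff.mp
      (Nat.eq_one_of_dvd_coprimes ((Nat.coprime_two_right.mpr hodd).pow_right i₂) hd1 hd2)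
    obtain ⟨g, hg⟩ := (QuotientGroup.eq_one_iff a).mp hq1
    exact ⟨g, fun x => by
      rw [show α = ι g from (congrArg Subtype.val hg).symm]; rfl⟩
  · -- otherwise some involution would be central
    exfalso
    obtain ⟨i, hi⟩ := (IsPGroup.iff_orderOf.mp S.2) t
    rw [← Subgroup.orderOf_coe] at hi
    rcases i with _ | i
    · rw [pow_zero, orderOf_eq_one_iff] at hi; exact htone hi
    set z := (t : H) ^ 2 ^ i with hz
    have hzord : orderOf z = 2 := by
      rw [hz, orderOf_pow' _ (pow_ne_zero _ two_ne_zero), hi,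
        Nat.gcd_eq_right (pow_dvd_pow 2 i.le_succ), pow_succ, Nat.mul_div_cancel_left _
          (pow_pos two_pos i)]
    have hzc := ZStarTheorem.mem_center_of_isolated
      (isolated_of_fixed S hSab hzord (pow_mem t.2 _)
        fun n hn => ((show Commute n (t : H) from htfix n hn).pow_right _).eq) hOH
    have hz1 : z = 1 := Subtype.ext (MulEquiv.ext fun g => by
      have h1 := hjconj z g
      rw [← Subgroup.mem_center_iff.mp hzc (j g), mul_inv_cancel_right] at h1
      simpa using (hj h1).symm)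
    rw [hz1, orderOf_one] at hzord
    omega

end Cfsg.Agent.S4593
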