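import Cfsg.Statements.S4602
import Mathlib
import Cfsg.Agent.Lib.HallSolvable
-- import your own Cfsg.Agent.* helpers here

set_option autoImplicit false
open Cfsg

namespace Cfsg.Agent.S4602

open scoped Pointwise
open Cfsg.Agent.HallCore Cfsg.Agent.HallSolvable

theorem exists_le_normalizer_sylow {G : Type*} [Group G] [Finite G] {p q : ℕ} [Fact p.Prime]
    [Fact q.Prime] (P H : Subgroup G) (hP : IsPGroup p P)
    (hPH : P ≤ Subgroup.normalizer (H : Set G)) (hnd : ¬ p ∣ Nat.card (Sylow q H)) :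
    ∃ R : Sylow q H, P ≤ Subgroup.normalizer (((R : Subgroup H).map H.subtype : Subgroup G) : Set G) := by
  let φ : P →* MulAut H := (H.normalizerMonoidHom).comp (Subgroup.inclusion hPH)
  let _ : MulAction P (Sylow q H) := MulAction.compHom _ φ
  have hmod := hP.card_modEq_card_fixedPoints (α := Sylow q H)
  have hne : Nonempty (MulAction.fixedPoints P (Sylow q H)) := by
    rw [← Finite.card_pos_iff]
    by_contra h
    have h0 : Nat.card (MulAction.fixedPoints P (Sylow q H)) = 0 := by omega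
    rw [h0] at hmod
    exact hnd (Nat.modEq_zero_iff_dvd.mp hmod)
  obtain ⟨R, hR⟩ := hne
  refine ⟨R, fun x hx => ?_⟩
  have key : ∀ y : P, ∀ g ∈ (R : Subgroup H).map H.subtype,
      (y : G) * g * (y : G)⁻¹ ∈ (R : Subgroup H).map H.subtype := by
    rintro y g ⟨r, hr, rfl⟩
    refine ⟨φ y r, ?_, rfl⟩
    have h1 : φ y • r ∈ φ y • (R : Subgroup H) := Subgroup.smul_mem_pointwise_smul _ _ _ hr
    have h2 : φ y • (R : Subgroup H) = (R : Subgroup H) := congrArg (fun S : Sylow q H => (S : Subgroup H)) (hR y)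
    rw [h2] at h1
    exact h1
  rw [Subgroup.mem_normalizer_iff]
  intro g
  refine ⟨key ⟨x, hx⟩ g, fun h => ?_⟩
  have := key (⟨x, hx⟩ : P)⁻¹ _ h
  simpa [mul_assoc] using this

theorem sylow_map_isMax {G : Type*} [Group G] [Finite G] {q : ℕ} [Fact q.Prime] (H : Subgroup G)
    (hH : ¬ q ∣ H.index) (R : Sylow q H) :
    ∃ Q : Sylow q G, (Q : Subgroup G) = (R : Subgroup H).map H.subtype := by
  refine ⟨Sylow.ofCard ((R : Subgroup H).map H.subtype) ?_, rfl⟩
  rw [← Nat.card_congr ((R : Subgroup H).equivMapOfInjective _ H.subtype_injective).toEquiv,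
    R.card_eq_multiplicity, ← Subgroup.card_mul_index H,
    Nat.factorization_mul Nat.card_pos.ne' Subgroup.index_ne_zero_of_finite]
  simp [Nat.factorization_eq_zero_of_not_dvd hH]

theorem not_dvd_index_core {G : Type*} [Group G] [Finite G] {p q : ℕ} [Fact p.Prime]
    [Fact q.Prime] (hsolv : Cfsg.IsPSolvable p G)
    (h : ∀ [(Cfsg.pPrimeCore p G).Normal], ∀ x : G ⧸ Cfsg.pPrimeCore p G, orderOf x = q →
      x ∈ Subgroup.centralizer (Cfsg.pCore p (G ⧸ Cfsg.pPrimeCore p G) : Set (G ⧸ Cfsg.pPrimeCore p G)))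
    (hpq : p ≠ q) : ¬ q ∣ (Cfsg.pPrimeCore p G).index := by
  have := pPrimeCore_normal p G
  intro hd
  obtain ⟨x, hx⟩ := exists_prime_orderOf_dvd_card' (G := G ⧸ Cfsg.pPrimeCore p G) q
    (by simpa [Subgroup.index] using hd)
  have hc := centralizer_pCore_le (isPSolvable_quotient hsolv _) (pPrimeCore_quotient_self p G) (h x hx)
  obtain ⟨k, hk⟩ := IsPGroup.iff_orderOf.mp (isPGroup_pCore p (G ⧸ Cfsg.pPrimeCore p G)) ⟨x, hc⟩
  rw [← Subgroup.orderOf_coe, hx] at hk
  rcases k with _ | k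
  · exact (Fact.out : q.Prime).ne_one (by simpa using hk)
  · exact hpq ((Nat.prime_dvd_prime_iff_eq Fact.out Fact.out).mp
      (hk ▸ dvd_pow_self p k.succ_ne_zero))

theorem normalizes_of_not_dvd {G : Type*} [Group G] [Finite G] (p q : ℕ) [Fact p.Prime]
    [Fact q.Prime] (hq : ¬ q ∣ (Cfsg.pPrimeCore p G).index) :
    ∃ (P : Sylow p G) (Q : Sylow q G), (P : Subgroup G) ≤ Subgroup.normalizer ((Q : Subgroup G) : Set G) := by
  have := pPrimeCore_normal p G
  let P : Sylow p G := default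
  obtain ⟨R, hR⟩ := exists_le_normalizer_sylow (p := p) (q := q) (P : Subgroup G)
    (Cfsg.pPrimeCore p G) P.isPGroup'
    (by rw [Subgroup.normalizer_eq_top]; exact le_top)
    (fun h => not_dvd_card_pPrimeCore p G (h.trans (by
      rw [(default : Sylow q (Cfsg.pPrimeCore p G)).card_eq_index_normalizer]
      exact Subgroup.index_dvd_card _)))
  obtain ⟨Q, hQ⟩ := sylow_map_isMax _ hq R
  exact ⟨P, Q, hQ ▸ hR⟩


/-- Let G be a finite p-solvable group and q a prime different from p. Some Sylow p-subgroup of G normalizes some Sylow q-subgroup of G if and only if q does not divide the order of G/O_{p'}(G), the quotient by the largest normal subgroup of order prime to p. -/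
theorem result {G : Type*} [Group G] [Finite G] (p q : ℕ) [Fact p.Prime] [Fact q.Prime] (hpq : p ≠ q) (hsolv : Cfsg.IsPSolvable p G) :
    (∃ (P : Sylow p G) (Q : Sylow q G), (P : Subgroup G) ≤ Subgroup.normalizer ((Q : Subgroup G) : Set G)) ↔ ¬ q ∣ (Cfsg.pPrimeCore p G).index := by
  have := pPrimeCore_normal p G
  refine ⟨?_, normalizes_of_not_dvd p q⟩
  rintro ⟨P, Q, hPQ⟩ hd
  set K := Cfsg.pPrimeCore p G
  have hs : Function.Surjective (QuotientGroup.mk' K) := QuotientGroup.mk'_surjective K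
  set P' := P.mapSurjective hs
  set Q' := Q.mapSurjective hs
  have hU : Cfsg.pCore p (G ⧸ K) ≤ (P' : Subgroup (G ⧸ K)) := pCore_le_sylow _
  have hn := pCore_normal p (G ⧸ K)
  have hC : ∀ y ∈ (Q' : Subgroup (G ⧸ K)), y ∈ Subgroup.centralizer (Cfsg.pCore p (G ⧸ K) : Set (G ⧸ K)) := by
    rintro y ⟨b, hb, rfl⟩
    rw [Subgroup.mem_centralizer_iff]
    intro u hu
    obtain ⟨a, ha, rfl⟩ := hU hu
    have h1 : a * b * a⁻¹ * b⁻¹ ∈ (Q : Subgroup G) :=
      mul_mem ((Subgroup.mem_normalizer_iff.mp (hPQ ha) b).mp hb) (inv_mem hb)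
    have h2 : QuotientGroup.mk' K (a * b * a⁻¹ * b⁻¹) ∈ Cfsg.pCore p (G ⧸ K) ⊓ (Q' : Subgroup (G ⧸ K)) := by
      refine ⟨?_, ⟨_, h1, rfl⟩⟩
      have h3 : QuotientGroup.mk' K (a * b * a⁻¹ * b⁻¹) = QuotientGroup.mk' K a *
          (QuotientGroup.mk' K b * (QuotientGroup.mk' K a)⁻¹ * (QuotientGroup.mk' K b)⁻¹) := by
        simp [mul_assoc]
      rw [h3]
      exact mul_mem hu (hn.conj_mem _ (inv_mem hu) _)
    have h4 : Disjoint (Cfsg.pCore p (G ⧸ K)) (Q' : Subgroup (G ⧸ K)) :=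
      IsPGroup.disjoint_of_ne _ _ hpq _ _ (isPGroup_pCore p _) Q'.isPGroup'
    have h6 : QuotientGroup.mk' K (a * b * a⁻¹ * b⁻¹) = 1 :=
      Subgroup.mem_bot.mp (h4.eq_bot ▸ h2)
    rw [map_mul, map_mul, map_mul, map_inv, map_inv, mul_inv_eq_one, mul_inv_eq_iff_eq_mul] at h6
    exact h6
  refine not_dvd_index_core hsolv (fun x hx => ?_) hpq hd
  obtain ⟨R, hR⟩ := (IsPGroup.of_card (p := q) (n := 1) (G := Subgroup.zpowers x)
    (by rw [Nat.card_zpowers, hx, pow_one])).exists_le_sylow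
  obtain ⟨g, hg⟩ := MulAction.exists_smul_eq (G ⧸ K) Q' R
  have hxR : x ∈ MulAut.conj g • (Q' : Subgroup (G ⧸ K)) := by
    rw [← Sylow.coe_subgroup_smul, hg]; exact hR (Subgroup.mem_zpowers x)
  rw [Subgroup.mem_pointwise_smul_iff_inv_smul_mem] at hxR
  have h5 := (inferInstance : (Subgroup.centralizer (Cfsg.pCore p (G ⧸ K) : Set (G ⧸ K))).Normal).conj_mem _
    (hC _ hxR) g
  simpa [mul_assoc] using h5

end Cfsg.Agent.S4602
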