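import Cfsg.Statements.S4601
import Mathlib
import Cfsg.Agent.Lib.HallSolvable
import Cfsg.Agent.S4602
-- import your own Cfsg.Agent.* helpers here

set_option autoImplicit false
open Cfsg

namespace Cfsg.Agent.S4601

open scoped Pointwise
open Cfsg.Agent.HallCore Cfsg.Agent.HallSolvable

def ClassHyp (p q : ℕ) (G : Type*) [Group G] : Prop :=
  ∀ y : G, (∃ k : ℕ, orderOf y = q ^ k) → ¬ p ∣ (Subgroup.centralizer ({y} : Set G)).index

theorem classHyp_quotient {G : Type*} [Group G] [Finite G] {p q : ℕ} [Fact q.Prime]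
    (h : ClassHyp p q G) (N : Subgroup G) [N.Normal] : ClassHyp p q (G ⧸ N) := by
  intro y hy
  obtain ⟨k, hk⟩ := hy
  let Q : Sylow q G := default
  obtain ⟨R, hR⟩ := (IsPGroup.of_card (p := q) (n := k) (G := Subgroup.zpowers y)
    (by rw [Nat.card_zpowers, hk])).exists_le_sylow
  obtain ⟨g, hg⟩ := MulAction.exists_smul_eq (G ⧸ N) (Q.mapSurjective (QuotientGroup.mk'_surjective N)) R
  have hyR : y ∈ MulAut.conj g • ((Q.mapSurjective (QuotientGroup.mk'_surjective N) : Sylow q (G ⧸ N)) : Subgroup (G ⧸ N)) := by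
    rw [← Sylow.coe_subgroup_smul, hg]; exact hR (Subgroup.mem_zpowers y)
  rw [Subgroup.mem_pointwise_smul_iff_inv_smul_mem] at hyR
  obtain ⟨b, hb, hby⟩ := hyR
  obtain ⟨a, rfl⟩ := QuotientGroup.mk'_surjective N g
  have hyb : QuotientGroup.mk' N (a * b * a⁻¹) = y := by
    rw [map_mul, map_mul, hby, map_inv]
    simp [mul_assoc]
  obtain ⟨l, hl⟩ := IsPGroup.iff_orderOf.mp Q.isPGroup' ⟨b, hb⟩
  have hl' : orderOf (a * b * a⁻¹) = q ^ l := by
    rw [← hl, ← Subgroup.orderOf_coe]
    exact orderOf_injective (MulAut.conj a).toMonoidHom (MulAut.conj a).injective b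
  intro hd
  apply h (a * b * a⁻¹) ⟨l, hl'⟩
  refine hd.trans ?_
  have h1 : (Subgroup.centralizer ({a * b * a⁻¹} : Set G)).map (QuotientGroup.mk' N) ≤
      Subgroup.centralizer ({y} : Set (G ⧸ N)) := by
    rintro _ ⟨c, hc, rfl⟩
    rw [← hyb, Subgroup.mem_centralizer_singleton_iff, ← map_mul, ← map_mul,
      Subgroup.mem_centralizer_singleton_iff.mp hc]
  exact (Subgroup.index_dvd_of_le h1).trans
    (Subgroup.index_map_dvd _ (QuotientGroup.mk'_surjective N))

theorem relIndex_dvd_index {G : Type*} [Group G] [Finite G] (A N : Subgroup G) [N.Normal] :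
    A.relIndex N ∣ A.index := by
  have e1 := card_mul_relIndex (show N ≤ A ⊔ N from le_sup_right)
  have e2 := card_mul_relIndex (show A ≤ A ⊔ N from le_sup_left)
  rw [Subgroup.relIndex_sup_right] at e1
  have e3 : Nat.card (A ⊓ N : Subgroup G) * A.relIndex N = Nat.card N := by
    rw [← Subgroup.inf_relIndex_right A N]
    exact card_mul_relIndex inf_le_right
  have e4 : Nat.card (A ⊓ N : Subgroup G) * N.relIndex A = Nat.card A := by
    rw [← Subgroup.inf_relIndex_right N A, inf_comm A N]
    exact card_mul_relIndex inf_le_right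
  have e5 : Nat.card A * A.relIndex (A ⊔ N) = Nat.card A * A.relIndex N := by
    rw [e2, ← e1, ← e3]
    calc _ = (Nat.card (A ⊓ N : Subgroup G) * N.relIndex A) * A.relIndex N := by ring
      _ = _ := by rw [e4]
  rw [← Nat.eq_of_mul_eq_mul_left Nat.card_pos e5]
  exact Subgroup.relIndex_dvd_index_of_le le_sup_left

theorem conj_fix {G : Type*} [Group G] [Finite G] {p q : ℕ} [Fact p.Prime] [Fact q.Prime]
    (N : Subgroup G) [N.Normal] (hNq : ¬ q ∣ Nat.card N) (y : G)
    (hy : ∃ k : ℕ, orderOf y = q ^ k) (S : Sylow p N)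
    (hyS : y ∈ Subgroup.normalizer (((S : Subgroup N).map N.subtype : Subgroup G) : Set G))
    (hc : ¬ p ∣ (Subgroup.centralizer ({y} : Set G)).index) :
    ∀ s ∈ (S : Subgroup N).map N.subtype, y * s = s * y := by
  classical
  obtain ⟨k, hk⟩ := hy
  set C := Subgroup.centralizer ({y} : Set G) with hC
  have hCp : ¬ p ∣ (C.subgroupOf N).index := fun hd => hc (hd.trans (relIndex_dvd_index C N))
  obtain ⟨T, hT⟩ := Cfsg.Agent.S4602.sylow_map_isMax (G := N) (C.subgroupOf N) hCp
    (default : Sylow p (C.subgroupOf N))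
  have hTC : (T : Subgroup N) ≤ C.subgroupOf N := hT ▸ Subgroup.map_subtype_le _
  let W : Set N := {c | MulAut.conj c • (T : Subgroup N) = (S : Subgroup N)}
  obtain ⟨c0, hc0⟩ := MulAction.exists_smul_eq N T S
  have hc0' : MulAut.conj c0 • (T : Subgroup N) = (S : Subgroup N) := by
    rw [← Sylow.coe_subgroup_smul, hc0]
  let st : Subgroup N := MulAction.stabilizer N T
  have hW : Nat.card W = Nat.card st := by
    refine Nat.card_congr
      { toFun := fun c => ⟨c0⁻¹ * c.1, ?_⟩
        invFun := fun d => ⟨c0 * d.1, ?_⟩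
        left_inv := fun c => by simp
        right_inv := fun d => by simp }
    · apply MulAction.mem_stabilizer_iff.mpr
      apply Sylow.ext
      have hcc : MulAut.conj (c : N) • (T : Subgroup N) = (S : Subgroup N) := c.2
      rw [Sylow.coe_subgroup_smul, map_mul, mul_smul, hcc, ← hc0', map_inv, inv_smul_smul]
    · show MulAut.conj (c0 * d.1) • (T : Subgroup N) = (S : Subgroup N)
      have h1 : MulAut.conj (d : N) • (T : Subgroup N) = (T : Subgroup N) := by
        rw [← Sylow.coe_subgroup_smul, MulAction.mem_stabilizer_iff.mp d.2]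
      rw [map_mul, mul_smul, h1, hc0']
  let φ : N ≃* N := MulAut.conjNormal y
  have hTfix : ∀ t ∈ (T : Subgroup N), φ t = t := by
    intro t ht
    apply Subtype.ext
    have h1 := Subgroup.mem_centralizer_singleton_iff.mp (hTC ht)
    show y * (t : G) * y⁻¹ = t
    rw [mul_inv_eq_iff_eq_mul]
    exact h1.symm
  have hSfix : ∀ s : N, s ∈ (S : Subgroup N) → φ s ∈ (S : Subgroup N) := by
    intro s hs
    obtain ⟨s', hs', he⟩ := (Subgroup.mem_normalizer_iff.mp hyS (s : G)).mp ⟨s, hs, rfl⟩
    have : φ s = s' := Subtype.ext (by rw [MulAut.conjNormal_apply]; exact he.symm)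
    rw [this]; exact hs'
  have hφW : ∀ c : N, c ∈ W → φ c ∈ W := by
    intro c hc
    show MulAut.conj (φ c) • (T : Subgroup N) = (S : Subgroup N)
    apply Subgroup.eq_of_le_of_card_ge
    · intro z hz
      rw [Subgroup.mem_pointwise_smul_iff_inv_smul_mem] at hz
      set t := (MulAut.conj (φ c))⁻¹ • z
      have hzt : z = φ c * t * (φ c)⁻¹ := by simp [t, mul_assoc]
      have hct : c * t * c⁻¹ ∈ (S : Subgroup N) := by
        have h1 : MulAut.conj c • (T : Subgroup N) = (S : Subgroup N) := hc
        rw [← h1]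
        exact Subgroup.smul_mem_pointwise_smul _ (MulAut.conj c) _ hz
      rw [hzt, ← hTfix t hz, ← map_inv, ← map_mul, ← map_mul]
      exact hSfix _ hct
    · rw [← Nat.card_congr (Subgroup.equivSMul (MulAut.conj (φ c)) (T : Subgroup N)).toEquiv,
        T.card_eq_multiplicity, S.card_eq_multiplicity]
  let Y : Subgroup (MulAut N) := Subgroup.zpowers φ
  have hY : IsPGroup q Y := by
    have h1 : orderOf φ ∣ q ^ k := by
      rw [← hk]; exact orderOf_map_dvd MulAut.conjNormal y
    obtain ⟨l, -, hl⟩ := (Nat.dvd_prime_pow (Fact.out : q.Prime)).mp h1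
    exact IsPGroup.of_card (n := l) (by rw [Nat.card_zpowers, hl])
  let _ : MulAction Y W :=
    { smul := fun e c => ⟨(e : MulAut N) c.1, by
        obtain ⟨i, hi⟩ := (isOfFinOrder_of_finite φ).mem_powers_iff_mem_zpowers.mpr e.2
        rw [← hi]
        clear hi
        induction i with
        | zero => simpa using c.2
        | succ i ih => show (φ ^ (i + 1)) c.1 ∈ W; rw [pow_succ', MulAut.mul_apply]; exact hφW _ ih⟩
      one_smul := fun c => rfl
      mul_smul := fun a b c => rfl }
  have hmod := hY.card_modEq_card_fixedPoints (α := W)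
  have hne : Nonempty (MulAction.fixedPoints Y W) := by
    rw [← Finite.card_pos_iff]
    by_contra h
    have h0 : Nat.card (MulAction.fixedPoints Y W) = 0 := by omega
    rw [h0, hW] at hmod
    exact hNq ((Nat.modEq_zero_iff_dvd.mp hmod).trans (Subgroup.card_subgroup_dvd_card st))
  obtain ⟨⟨c, hc⟩, hcfix⟩ := hne
  have hfc : φ c = c := congrArg Subtype.val (hcfix ⟨φ, Subgroup.mem_zpowers φ⟩)
  rintro s ⟨s0, hs0, rfl⟩
  have hc' : MulAut.conj c • (T : Subgroup N) = (S : Subgroup N) := hc
  rw [SetLike.mem_coe, ← hc', Subgroup.mem_pointwise_smul_iff_inv_smul_mem] at hs0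
  set t := (MulAut.conj c)⁻¹ • s0
  have hst : s0 = c * t * c⁻¹ := by simp [t, mul_assoc]
  have hfix : φ s0 = s0 := by
    rw [hst, map_mul, map_mul, map_inv, hfc, hTfix t hs0]
  have hfix' := congrArg Subtype.val hfix
  rw [MulAut.conjNormal_apply, mul_inv_eq_iff_eq_mul] at hfix'
  exact hfix'

theorem main_q.{u} (p q : ℕ) [Fact p.Prime] [Fact q.Prime] (hpq : p ≠ q) :
    ∀ (n : ℕ) (G : Type u) [Group G] [Finite G], Nat.card G = n → Cfsg.IsPSolvable q G →
      ClassHyp p q G →
      ∃ (P : Sylow p G) (Q : Sylow q G), (P : Subgroup G) ≤ Subgroup.normalizer ((Q : Subgroup G) : Set G) := by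
  intro n
  induction n using Nat.strong_induction_on with
  | _ n ih =>
    intro G _ _ hn hs hh
    rcases subsingleton_or_nontrivial G with hG | hG
    · exact ⟨default, default, fun x _ => by rw [Subsingleton.elim x 1]; exact one_mem _⟩
    obtain ⟨N, hN, hpiece⟩ := ((isPSolvable_iff q).mp hs).exists_minNormal_piece
    have := hN.normal
    set f := QuotientGroup.mk' N
    have hf : Function.Surjective f := QuotientGroup.mk'_surjective N
    obtain ⟨P', Q', hPQ⟩ := ih (Nat.card (G ⧸ N)) (hn ▸ card_quotient_lt hN.ne_bot) (G ⧸ N) rfl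
      (isPSolvable_quotient hs N) (classHyp_quotient hh N)
    obtain ⟨g, hg⟩ := MulAction.exists_smul_eq (G ⧸ N) ((default : Sylow p G).mapSurjective hf) P'
    obtain ⟨a, rfl⟩ := hf g
    set P : Sylow p G := a • (default : Sylow p G) with hP
    have hPmap : ∀ x ∈ (P : Subgroup G), f x ∈ (P' : Subgroup (G ⧸ N)) := by
      intro x hx
      rw [hP, Sylow.coe_subgroup_smul, Subgroup.mem_pointwise_smul_iff_inv_smul_mem] at hx
      rw [← hg, Sylow.coe_subgroup_smul, Subgroup.mem_pointwise_smul_iff_inv_smul_mem]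
      exact ⟨_, hx, by simp [mul_assoc]⟩
    set H := (Q' : Subgroup (G ⧸ N)).comap f with hH
    have hPH : (P : Subgroup G) ≤ Subgroup.normalizer (H : Set G) := by
      intro x hx
      rw [Subgroup.mem_normalizer_iff]
      intro z
      simp only [hH, Subgroup.mem_comap, map_mul, map_inv]
      exact Subgroup.mem_normalizer_iff.mp (hPQ (hPmap x hx)) (f z)
    have hHidx : ¬ q ∣ H.index := by
      rw [hH, Subgroup.index_comap_of_surjective _ hf]
      exact Q'.not_dvd_index
    suffices hnd : ¬ p ∣ Nat.card (Sylow q H) by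
      obtain ⟨R, hR⟩ := Cfsg.Agent.S4602.exists_le_normalizer_sylow (P : Subgroup G) H P.isPGroup' hPH hnd
      obtain ⟨Q, hQ⟩ := Cfsg.Agent.S4602.sylow_map_isMax H hHidx R
      exact ⟨P, Q, hQ ▸ hR⟩
    let R : Sylow q H := default
    rw [R.card_eq_index_normalizer]
    rcases hpiece with hq | hq'
    · intro hd
      have hHq : IsPGroup q H := isPGroup_comap_mk'
        ((isPGroup_iff_piNat (p := q)).mpr hq) Q'.isPGroup'
      obtain ⟨m, hm⟩ := IsPGroup.iff_card.mp hHq
      exact hpq ((Nat.prime_dvd_prime_iff_eq Fact.out Fact.out).mp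
        ((Fact.out : p.Prime).dvd_of_dvd_pow (hm ▸ hd.trans (Subgroup.index_dvd_card _))))
    · have hNq : ¬ q ∣ Nat.card N := fun hd => hq' q Fact.out hd rfl
      obtain ⟨Q, hQ⟩ := Cfsg.Agent.S4602.sylow_map_isMax H hHidx R
      obtain ⟨S, hS⟩ := Cfsg.Agent.S4602.exists_le_normalizer_sylow (p := q) (q := p)
        (Q : Subgroup G) N Q.isPGroup' (by rw [Subgroup.normalizer_eq_top]; exact le_top)
        (fun h => hNq (h.trans (by
          rw [(default : Sylow p N).card_eq_index_normalizer]; exact Subgroup.index_dvd_card _)))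
      have hNH : N ≤ H := fun x hx => by
        rw [hH, Subgroup.mem_comap, show f x = 1 from (QuotientGroup.eq_one_iff (N := N) x).mpr hx]
        exact one_mem _
      set S' := ((S : Subgroup N).map N.subtype).subgroupOf H with hS'
      have hle : S' ≤ Subgroup.normalizer ((R : Subgroup H) : Set H) := by
        refine le_trans ?_ (Subgroup.centralizer_le_normalizer _)
        intro s hs
        rw [Subgroup.mem_centralizer_iff]
        intro r hr
        apply Subtype.ext
        have hrQ : (r : G) ∈ (Q : Subgroup G) := hQ ▸ ⟨r, hr, rfl⟩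
        obtain ⟨l, hl⟩ := IsPGroup.iff_orderOf.mp R.isPGroup' ⟨r, hr⟩
        have hord : orderOf (r : G) = q ^ l := by
          rw [← hl, Subgroup.orderOf_coe]
          exact (Subgroup.orderOf_coe (⟨r, hr⟩ : (R : Subgroup H)))
        exact conj_fix N hNq (r : G) ⟨l, hord⟩
          S (hS hrQ) (hh _ ⟨l, hord⟩) _ hs
      intro hd
      have h1 := hd.trans (Subgroup.index_dvd_of_le hle)
      have hcard : Nat.card S' = Nat.card (S : Subgroup N) := by
        rw [hS', Nat.card_congr (Subgroup.subgroupOfEquivOfLe ((Subgroup.map_subtype_le _).trans hNH)).toEquiv]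
        exact (Nat.card_congr ((S : Subgroup N).equivMapOfInjective _ N.subtype_injective).toEquiv).symm
      have hHcard : Nat.card H = Nat.card N * Nat.card (Q' : Subgroup (G ⧸ N)) := by
        rw [hH, mul_comm]; exact (card_comap_mk' N _).symm
      have h2 := Subgroup.card_mul_index S'
      rw [hcard, hHcard, ← Subgroup.card_mul_index (S : Subgroup N), mul_assoc] at h2
      have h3 := Nat.eq_of_mul_eq_mul_left Nat.card_pos h2
      rw [h3] at h1
      rcases (Nat.Prime.dvd_mul Fact.out).mp h1 with h4 | h4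
      · exact S.not_dvd_index h4
      · obtain ⟨m, hm⟩ := IsPGroup.iff_card.mp Q'.isPGroup'
        exact hpq ((Nat.prime_dvd_prime_iff_eq Fact.out Fact.out).mp
          ((Fact.out : p.Prime).dvd_of_dvd_pow (hm ▸ h4)))


/-- Let p and q be primes and G a finite group that is p-solvable or q-solvable, in which no q-element has conjugacy class size divisible by p. Then some Sylow p-subgroup of G normalizes some Sylow q-subgroup of G. -/
theorem result {G : Type*} [Group G] [Finite G] (p q : ℕ) [Fact p.Prime] [Fact q.Prime] (hsolv : Cfsg.IsPSolvable p G ∨ Cfsg.IsPSolvable q G)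
    (h : ∀ y : G, (∃ k : ℕ, orderOf y = q ^ k) → ¬ p ∣ (Subgroup.centralizer ({y} : Set G)).index) :
    ∃ (P : Sylow p G) (Q : Sylow q G), (P : Subgroup G) ≤ Subgroup.normalizer ((Q : Subgroup G) : Set G) := by
  rcases eq_or_ne p q with rfl | hpq
  · exact ⟨default, default, Subgroup.le_normalizer⟩
  rcases hsolv with hs | hs
  · apply Cfsg.Agent.S4602.normalizes_of_not_dvd
    refine Cfsg.Agent.S4602.not_dvd_index_core hs (fun x hx => ?_) hpq
    have hnd := classHyp_quotient h (Cfsg.pPrimeCore p G) x ⟨1, by rw [hx, pow_one]⟩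
    obtain ⟨T, hT⟩ := Cfsg.Agent.S4602.sylow_map_isMax _ hnd
      (default : Sylow p (Subgroup.centralizer ({x} : Set (G ⧸ Cfsg.pPrimeCore p G))))
    rw [Subgroup.mem_centralizer_iff]
    intro u hu
    have h1 : u ∈ (T : Subgroup (G ⧸ Cfsg.pPrimeCore p G)) := pCore_le_sylow T hu
    rw [hT] at h1
    obtain ⟨u', -, rfl⟩ := h1
    exact Subgroup.mem_centralizer_singleton_iff.mp u'.2
  · exact main_q p q hpq _ G rfl hs h

end Cfsg.Agent.S4601
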