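import Cfsg.Statements.S4604
import Mathlib
import Cfsg.Agent.Lib.CharBasicOrth
-- import your own Cfsg.Agent.* helpers here

set_option autoImplicit false
open Cfsg

namespace Cfsg.Agent.S4604

open scoped ComplexConjugate

theorem sum_pow_congr {p : ℕ} [hp : Fact p.Prime] {ι : Type*} (s : Finset ι) (n : ℕ)
    (f : ι → Cfsg.AlgInt) :
    ∃ γ : Cfsg.AlgInt, (∑ i ∈ s, f i) ^ p ^ n = (∑ i ∈ s, f i ^ p ^ n) + (p : Cfsg.AlgInt) * γ := by
  classical
  induction s using Finset.induction with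
  | empty => exact ⟨0, by simp [zero_pow (pow_ne_zero n hp.out.ne_zero)]⟩
  | @insert a s has ih =>
    obtain ⟨γ, hγ⟩ := ih
    obtain ⟨r, hr⟩ := exists_add_pow_prime_pow_eq hp.out (f a) (∑ i ∈ s, f i) n
    exact ⟨γ + f a * (∑ i ∈ s, f i) * r, by
      rw [Finset.sum_insert has, Finset.sum_insert has, hr, hγ]; ring⟩

theorem char_pow_congr {G : Type*} [Group G] [Finite G] {p : ℕ} [Fact p.Prime]
    (χ : Cfsg.IrrCharacter G) (g : G) (n : ℕ) :
    ∃ γ : Cfsg.AlgInt, (χ : G → ℂ) g ^ p ^ n = (χ : G → ℂ) (g ^ p ^ n) + (p : ℂ) * (γ : ℂ) := by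
  obtain ⟨c, hc⟩ := χ
  obtain ⟨d, ρ, hi, rfl⟩ := hc
  obtain ⟨b, μ, h1, h2, h3, h4⟩ := CharBasic.exists_rep_eigenbasis ρ g
  have hint : ∀ i, IsIntegral ℤ (μ i) := fun i =>
    IsIntegral.of_pow (isOfFinOrder_of_finite g).orderOf_pos (by rw [h2 i]; exact isIntegral_one)
  obtain ⟨γ, hγ⟩ := sum_pow_congr (p := p) Finset.univ n
    (fun i => (⟨μ i, hint i⟩ : Cfsg.AlgInt))
  refine ⟨γ, ?_⟩
  have h := congrArg Subtype.val hγ
  push_cast at h
  show ρ.character g ^ _ = ρ.character (g ^ p ^ n) + _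
  have h5 := h4 1
  simp only [pow_one] at h5
  rw [h5, h4, h]

theorem pow_eq_pow_part {G : Type*} [Group G] [Finite G] {p : ℕ} [hp : Fact p.Prime] {x x' : G}
    (hx : (∃ k : ℕ, orderOf (x * x'⁻¹) = p ^ k) ∧ Commute (x * x'⁻¹) x' ∧ ¬ p ∣ orderOf x') :
    x ^ p ^ (Nat.card G).factorization p = x' ^ p ^ (Nat.card G).factorization p := by
  obtain ⟨⟨k, hk⟩, hc, -⟩ := hx
  have hle : k ≤ (Nat.card G).factorization p :=
    (hp.out.pow_dvd_iff_le_factorization Nat.card_pos.ne').mp (hk ▸ orderOf_dvd_natCard _)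
  have h1 : (x * x'⁻¹) ^ p ^ (Nat.card G).factorization p = 1 :=
    orderOf_dvd_iff_pow_eq_one.mp (hk ▸ pow_dvd_pow p hle)
  calc x ^ p ^ (Nat.card G).factorization p
      = ((x * x'⁻¹) * x') ^ p ^ (Nat.card G).factorization p := by
        rw [inv_mul_cancel_right]
    _ = _ := by rw [hc.mul_pow, h1, one_mul]

theorem not_congr_pow {G : Type*} [Group G] [Finite G] {p : ℕ} [hp : Fact p.Prime] {x y : G}
    (hx : ¬ p ∣ orderOf x) (hy : ¬ p ∣ orderOf y)
    (h : ∀ χ : Cfsg.IrrCharacter G, ∃ γ : Cfsg.AlgInt,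
      (χ : G → ℂ) x - (χ : G → ℂ) y = (p : ℂ) * (γ : ℂ)) : IsConj x y := by
  classical
  by_contra hne
  let C := Subgroup.centralizer ({x} : Set G)
  let P : Sylow p C := default
  let Z := Subgroup.zpowers x
  have hcomm : ∀ (z : Z) (u : (P : Subgroup C)),
      Commute (z : G) ((u : C) : G) := by
    intro z u
    obtain ⟨i, hi⟩ := z.2
    have hxu : Commute x ((u : C) : G) :=
      (Subgroup.mem_centralizer_singleton_iff.mp (u : C).2).symm
    exact hi ▸ hxu.zpow_left i
  let f : Z × (P : Subgroup C) →* G :=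
    MonoidHom.noncommCoprod Z.subtype (C.subtype.comp (P : Subgroup C).subtype) hcomm
  have := Fintype.ofFinite G
  let z₀ : Z := ⟨x, Subgroup.mem_zpowers x⟩
  let a : Cfsg.IrrCharacter G → ℂ := fun χ =>
    (Nat.card (P : Subgroup C) : ℂ)⁻¹ * ∑ u : (P : Subgroup C), conj ((χ : G → ℂ) (f (z₀, u)))
  have ha : ∀ χ, IsIntegral ℤ (a χ) := by
    intro χ
    let A : Z → ℂ := fun z =>
      (Nat.card (P : Subgroup C) : ℂ)⁻¹ * ∑ u : (P : Subgroup C), conj ((χ : G → ℂ) (f (z, u)))
    have hA : Cfsg.IsClassFunction Z A := by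
      intro g h
      have : h * g * h⁻¹ = g := by
        rw [IsMulCommutative.is_comm.comm h g, mul_inv_cancel_right]
      rw [this]
    have hsum : a χ = A z₀ := rfl
    rw [hsum, CharBasicOrth.eq_sum_classInner hA, Finset.sum_apply]
    refine IsIntegral.sum _ fun l _ => ?_
    rw [Pi.smul_apply, smul_eq_mul]
    refine IsIntegral.mul ?_ (CharBasic.isCharacter_integral (CharBasic.isCharacter_of_isIrrCharacter l.2) _)
    have e : Cfsg.classInner A (l : Z → ℂ) = conj (Cfsg.classInner ((χ : G → ℂ) ∘ f)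
        (fun q => conj ((l : Z → ℂ) q.1))) := by
      simp only [Cfsg.classInner, A, Function.comp_apply, map_mul, map_inv₀, map_natCast, map_sum,
        Complex.conj_conj, Fintype.sum_prod_type, Nat.card_prod, Nat.cast_mul, mul_inv,
        Finset.mul_sum, Finset.sum_mul]
      refine Finset.sum_congr rfl fun z _ => Finset.sum_congr rfl fun u _ => ?_
      ring
    have e2 : (fun q : Z × (P : Subgroup C) => conj ((l : Z → ℂ) q.1)) =
        ((l : Z → ℂ) ∘ fun z => z⁻¹) ∘ MonoidHom.fst Z (P : Subgroup C) := by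
      funext q
      simp [CharBasic.isCharacter_inv (CharBasic.isCharacter_of_isIrrCharacter l.2)]
    let inv' : Z →* Z :=
      { toFun := fun z => z⁻¹, map_one' := inv_one,
        map_mul' := fun a b => by rw [mul_inv_rev, IsMulCommutative.is_comm.comm] }
    obtain ⟨m, hm⟩ := CharBasicOrth.classInner_isCharacter
      (CharBasic.isCharacter_comap f (CharBasic.isCharacter_of_isIrrCharacter χ.2))
      (CharBasic.isCharacter_comap (inv'.comp (MonoidHom.fst Z (P : Subgroup C)))
        (CharBasic.isCharacter_of_isIrrCharacter l.2))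
    rw [e, e2]
    rw [show ((l : Z → ℂ) ∘ fun z => z⁻¹) ∘ MonoidHom.fst Z (P : Subgroup C) =
      (l : Z → ℂ) ∘ (inv'.comp (MonoidHom.fst Z (P : Subgroup C))) from rfl, hm, map_natCast]
    exact isIntegral_algebraMap (R := ℤ) (x := (m : ℤ))
  have hord : ∀ (g : G) (u : (P : Subgroup C)), ¬ p ∣ orderOf g → orderOf (f (z₀, u)) = orderOf g →
      u = 1 := by
    intro g u hg he
    obtain ⟨k, hk⟩ := IsPGroup.iff_orderOf.mp P.isPGroup' u
    rcases k with _ | k
    · rwa [pow_zero, orderOf_eq_one_iff] at hk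
    · exfalso
      have hk' : orderOf ((u : C) : G) = p ^ (k + 1) := by
        rw [Subgroup.orderOf_coe, Subgroup.orderOf_coe, hk]
      have hcp : (orderOf x).Coprime (orderOf ((u : C) : G)) := by
        rw [hk']
        exact Nat.Coprime.pow_right _ (hp.out.coprime_iff_not_dvd.mpr hx).symm
      have h1 : orderOf (f (z₀, u)) = orderOf x * orderOf ((u : C) : G) :=
        (hcomm z₀ u).orderOf_mul_eq_mul_orderOf_of_coprime hcp
      apply hg
      rw [← he, h1, hk']
      exact dvd_mul_of_dvd_right (dvd_pow_self p k.succ_ne_zero) _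
  have key : ∀ g : G, ¬ p ∣ orderOf g → ∑ χ, a χ * (χ : G → ℂ) g =
      if IsConj g x then (Nat.card C : ℂ) / Nat.card (P : Subgroup C) else 0 := by
    intro g hg
    simp only [a, Finset.mul_sum, Finset.sum_mul]
    rw [Finset.sum_comm]
    have h1 : ∀ u : (P : Subgroup C),
        (∑ χ : Cfsg.IrrCharacter G, (Nat.card (P : Subgroup C) : ℂ)⁻¹ *
          conj ((χ : G → ℂ) (f (z₀, u))) * (χ : G → ℂ) g) =
        (Nat.card (P : Subgroup C) : ℂ)⁻¹ * if IsConj g (f (z₀, u)) then
          (Nat.card (Subgroup.centralizer ({g} : Set G)) : ℂ) else 0 := by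
      intro u
      rw [← CharBasicOrth.sum_irr_mul_conj g (f (z₀, u)), Finset.mul_sum]
      exact Finset.sum_congr rfl fun _ _ => by ring
    simp only [h1]
    rw [Finset.sum_eq_single (1 : (P : Subgroup C))]
    · have hf : f (z₀, 1) = x := by
        show (z₀ : G) * (((1 : (P : Subgroup C)) : C) : G) = x
        simp [z₀]
      rw [hf]
      split_ifs with hgx
      · have hc : Nat.card (Subgroup.centralizer ({g} : Set G)) = Nat.card C := by
          have e1 := CharBasicOrth.card_conj_mul_card_centralizer g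
          have e2 := CharBasicOrth.card_conj_mul_card_centralizer x
          have e3 : Nat.card {y : G // IsConj g y} = Nat.card {y : G // IsConj x y} :=
            Nat.card_congr (Equiv.subtypeEquivRight fun y =>
              ⟨fun e => hgx.symm.trans e, fun e => hgx.trans e⟩)
          rw [e3] at e1
          have : Nonempty {y : G // IsConj x y} := ⟨⟨x, IsConj.refl x⟩⟩
          exact Nat.eq_of_mul_eq_mul_left Nat.card_pos (e1.trans e2.symm)
        rw [hc]; ring
      · simp
    · intro u _ hu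
      rw [if_neg, mul_zero]
      intro hc
      obtain ⟨c, hc'⟩ := isConj_iff.mp hc
      apply hu (hord g u hg ?_)
      rw [← hc']
      exact orderOf_injective (MulAut.conj c).toMonoidHom (MulAut.conj c).injective g
    · simp
  choose γ hγ using h
  have h1 := key x hx
  rw [if_pos (IsConj.refl x)] at h1
  have h2 := key y hy
  rw [if_neg (fun e => hne e.symm)] at h2
  have hnd : ¬ p ∣ Nat.card C / Nat.card (P : Subgroup C) := by
    have h3 := P.not_dvd_index
    rwa [← Subgroup.card_mul_index (P : Subgroup C), Nat.mul_div_cancel_left _ Nat.card_pos]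
  have h3 : ((Nat.card C / Nat.card (P : Subgroup C) : ℕ) : ℂ) = (p : ℂ) * ∑ χ, a χ * (γ χ : ℂ) := by
    rw [Nat.cast_div (Subgroup.card_subgroup_dvd_card _) (Nat.cast_ne_zero.mpr Nat.card_pos.ne'),
      ← sub_zero ((Nat.card C : ℂ) / _), ← h1, ← h2, ← Finset.sum_sub_distrib, Finset.mul_sum]
    exact Finset.sum_congr rfl fun χ _ => by rw [← mul_sub, hγ χ]; ring
  have h4 : IsIntegral ℤ (∑ χ, a χ * (γ χ : ℂ)) :=
    IsIntegral.sum _ fun χ _ => (ha χ).mul (γ χ).2
  set c := Nat.card C / Nat.card (P : Subgroup C)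
  have h5 : (∑ χ, a χ * (γ χ : ℂ)) = algebraMap ℚ ℂ ((c : ℚ) / p) := by
    rw [map_div₀, map_natCast, map_natCast, h3,
      mul_div_cancel_left₀ _ (Nat.cast_ne_zero.mpr hp.out.ne_zero)]
  rw [h5, isIntegral_algebraMap_iff (algebraMap ℚ ℂ).injective,
    IsIntegrallyClosed.isIntegral_iff] at h4
  obtain ⟨k, hk⟩ := h4
  apply hnd
  have : (c : ℤ) = p * k := by
    have h6 : (k : ℚ) = (c : ℚ) / p := by simpa using hk
    rw [eq_div_iff (Nat.cast_ne_zero.mpr hp.out.ne_zero)] at h6
    exact_mod_cast (by linarith : (c : ℚ) = p * k)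
  exact Int.natCast_dvd_natCast.mp ⟨k, this⟩


/-- Let G be a finite group, p a prime and p^a the p-part of the order of G. Let x, y ∈ G and let x′, y′ be their p-regular parts: x′ has order prime to p, commutes with x·x′⁻¹, and x·x′⁻¹ has p-power order (likewise for y). Then x′ and y′ are conjugate in G if and only if for every irreducible character χ of G the algebraic integer χ(x)^(p^a) − χ(y)^(p^a) is p times an algebraic integer. -/
theorem result {G : Type*} [Group G] [Finite G] (p : ℕ) [Fact p.Prime] (x y x' y' : G)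
    (hx : (∃ k : ℕ, orderOf (x * x'⁻¹) = p ^ k) ∧ Commute (x * x'⁻¹) x' ∧ ¬ p ∣ orderOf x')
    (hy : (∃ k : ℕ, orderOf (y * y'⁻¹) = p ^ k) ∧ Commute (y * y'⁻¹) y' ∧ ¬ p ∣ orderOf y') :
    IsConj x' y' ↔ ∀ χ : Cfsg.IrrCharacter G, ∃ γ : Cfsg.AlgInt,
      (χ : G → ℂ) x ^ (p ^ (Nat.card G).factorization p) - (χ : G → ℂ) y ^ (p ^ (Nat.card G).factorization p) = (p : ℂ) * (γ : ℂ) := by
  set q := p ^ (Nat.card G).factorization p with hq
  have hcop : ∀ z : G, ¬ p ∣ orderOf z → q.Coprime (orderOf z) := fun z hz =>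
    Nat.Coprime.pow_left _ ((Fact.out : p.Prime).coprime_iff_not_dvd.mpr hz)
  constructor
  · intro h χ
    obtain ⟨γ, hγ⟩ := char_pow_congr (p := p) χ x ((Nat.card G).factorization p)
    obtain ⟨δ, hδ⟩ := char_pow_congr (p := p) χ y ((Nat.card G).factorization p)
    refine ⟨γ - δ, ?_⟩
    rw [hγ, hδ, pow_eq_pow_part hx, pow_eq_pow_part hy,
      CharBasic.apply_eq_of_isConj (CharBasic.isClassFunction_of_isCharacter
        (CharBasic.isCharacter_of_isIrrCharacter χ.2)) (h.pow q)]
    push_cast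
    ring
  · intro h
    have hx' : ¬ p ∣ orderOf (x' ^ q) := fun hd => hx.2.2 (hd.trans (orderOf_pow_dvd q))
    have hy' : ¬ p ∣ orderOf (y' ^ q) := fun hd => hy.2.2 (hd.trans (orderOf_pow_dvd q))
    have hc : IsConj (x' ^ q) (y' ^ q) := not_congr_pow hx' hy' (fun χ => by
      obtain ⟨γ, hγ⟩ := char_pow_congr (p := p) χ x ((Nat.card G).factorization p)
      obtain ⟨δ, hδ⟩ := char_pow_congr (p := p) χ y ((Nat.card G).factorization p)
      obtain ⟨ε, hε⟩ := h χ
      refine ⟨ε - γ + δ, ?_⟩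
      rw [hγ, hδ, pow_eq_pow_part hx, pow_eq_pow_part hy] at hε
      push_cast
      linear_combination hε)
    obtain ⟨j, hj⟩ : ∃ j : ℕ, q * j ≡ 1 [MOD orderOf x' * orderOf y'] := by
      rcases Nat.lt_or_ge 1 (orderOf x' * orderOf y') with hlt | hge
      · obtain ⟨j, -, hj⟩ := Nat.exists_mul_mod_eq_one_of_coprime
          (((hcop x' hx.2.2).mul_right (hcop y' hy.2.2))) hlt
        exact ⟨j, by rw [Nat.ModEq, hj, Nat.mod_eq_of_lt hlt]⟩
      · have h1 : orderOf x' * orderOf y' = 1 := by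
          have := Nat.mul_pos (isOfFinOrder_of_finite x').orderOf_pos
            (isOfFinOrder_of_finite y').orderOf_pos
          omega
        exact ⟨1, by rw [h1]; exact Nat.modEq_one⟩
    have hpow : ∀ z : G, orderOf z ∣ orderOf x' * orderOf y' → (z ^ q) ^ j = z := fun z hz => by
      rw [← pow_mul, pow_eq_pow_iff_modEq.mpr (hj.of_dvd hz), pow_one]
    have h2 := hc.pow j
    rwa [hpow x' (dvd_mul_right _ _), hpow y' (dvd_mul_left _ _)] at h2

end Cfsg.Agent.S4604
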