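import Cfsg.Statements.S4606
import Cfsg.Agent.Lib.BlockCyclicRank81
import Cfsg.Agent.Lib.BlockPrincipal81
import Cfsg.Agent.Lib.BlockTheoryHeightSolv
import Cfsg.Agent.S4646
-- import your own Cfsg.Agent.* helpers here

set_option autoImplicit false
open Cfsg

namespace Cfsg.Agent.S4606

open Cfsg.Agent.BlockTheoryLocalRing Cfsg.Agent.BlockTheoryCentre Cfsg.Agent.BlockTheoryIdem
open Cfsg.Agent.BlockTheoryBrauer Cfsg.Agent.BlockTheoryDefect Cfsg.Agent.CharInduced
open Cfsg.Agent.BrauerPairs81Base Cfsg.Agent.BrauerPairs81Conj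
open Cfsg.Agent.BlockCyclicRank81

attribute [local instance] Classical.propDecidable

variable {G : Type*} [Group G] [Fintype G] {p : ℕ} [Fact p.Prime] {M : Ideal AlgInt}

/-- With at most one character beyond the rank, all nontrivial `p`-elements with a subsection are
conjugate, and their subsections have rank one. -/
theorem single_class (hM : IsPModular p M) {B : Set (IrrCharacter G)} (hB : IsPBlock M B)
    (hk : Nat.card B ≤ blockRank p B + 1)
    (hsub : ∀ u : G, (∃ k, orderOf u = p ^ k) → u ≠ 1 → (subs M B u).Nonempty)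
    {u : G} (hu : ∃ k, orderOf u = p ^ k) (hu1 : u ≠ 1) :
    (∀ v : G, (∃ k, orderOf v = p ^ k) → v ≠ 1 → IsConj u v) ∧
      ∀ b ∈ subs M B u, blockRank p b = 1 := by
  set S := (Finset.univ.filter (fun v : G => ∃ k, orderOf v = p ^ k)).erase 1 with hS
  set L : G → ℕ := fun v => ∑ b ∈ subs M B v, blockRank p b with hL
  set C : G → ℕ := fun v => Nat.card (Cen (Subgroup.zpowers v)) with hC
  have hmem : ∀ v, v ∈ S ↔ v ≠ 1 ∧ ∃ k, orderOf v = p ^ k := fun v => by simp [hS]
  have hL1 : ∀ v ∈ S, 1 ≤ L v := fun v hv => by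
    obtain ⟨b, hb⟩ := hsub v ((hmem v).1 hv).2 ((hmem v).1 hv).1
    exact (blockRank_pos hM (Finset.mem_filter.1 hb).2.1).trans
      (Finset.single_le_sum (f := fun b => blockRank p b) (fun _ _ => Nat.zero_le _) hb)
  have htot : ∑ v ∈ S, C v * L v ≤ Nat.card G := by
    have h := card_eq hM hB
    have h2 := Nat.mul_le_mul_left (Nat.card G) hk
    rw [mul_add, mul_one] at h2
    simp only [hC, hL, hS]
    omega
  set K := S.filter (fun v => IsConj u v) with hK
  have hCv : ∀ v, C v = Nat.card (Subgroup.centralizer ({v} : Set G)) := fun v => by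
    show Nat.card (Cen (Subgroup.zpowers v)) = _
    rw [← BlockContribSection.centralizer_eq (centralizer_zpowers v)]
  have hKsum : ∑ v ∈ K, C v = Nat.card G := by
    have h1 : ∀ v ∈ K, C v = Nat.card (Subgroup.centralizer ({u} : Set G)) := fun v hv => by
      obtain ⟨g, rfl⟩ := isConj_iff.1 (Finset.mem_filter.1 hv).2
      rw [hCv, BrauerPairs81Max.card_centralizer_conj]
    rw [Finset.sum_congr rfl h1, Finset.sum_const, smul_eq_mul,
      show K.card = Nat.card {g : G // IsConj u g} from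
        (Nat.subtype_card _ fun v => ?_).symm,
      CharBasicOrth.card_conj_mul_card_centralizer]
    simp only [hK, Finset.mem_filter, hmem]
    refine ⟨fun h => h.2, fun h => ⟨⟨fun e => hu1 (isConj_one_left.1 (e ▸ h)), ?_⟩, h⟩⟩
    obtain ⟨g, rfl⟩ := isConj_iff.1 h
    obtain ⟨k, hk⟩ := hu
    exact ⟨k, by rw [← hk, show g * u * g⁻¹ = MulAut.conj g u from rfl, MulEquiv.orderOf_eq]⟩
  have hge : Nat.card G ≤ ∑ v ∈ K, C v * L v := by
    rw [← hKsum]
    exact Finset.sum_le_sum fun v hv =>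
      Nat.le_mul_of_pos_right _ (hL1 v (Finset.mem_filter.1 hv).1)
  have hCpos : ∀ v, 0 < C v := fun v => Nat.card_pos
  refine ⟨fun v hv hv1 => ?_, fun b hb => ?_⟩
  · by_contra hc
    have hvS : v ∈ S := (hmem v).2 ⟨hv1, hv⟩
    have hsum := Finset.sum_filter_add_sum_filter_not S (fun w => IsConj u w) (fun w => C w * L w)
    have hvle : C v * L v ≤ ∑ w ∈ S.filter (fun w => ¬ IsConj u w), C w * L w :=
      Finset.single_le_sum (f := fun w => C w * L w) (fun _ _ => Nat.zero_le _)
        (Finset.mem_filter.2 ⟨hvS, hc⟩)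
    simp only [hK] at hge
    have := Nat.mul_pos (hCpos v) (hL1 v hvS)
    omega
  · by_contra hne
    have hbS : IsPBlock M b := (Finset.mem_filter.1 hb).2.1
    have h2 : 2 ≤ L u := by
      have h3 : blockRank p b ≤ L u :=
        Finset.single_le_sum (f := fun b => blockRank p b) (fun _ _ => Nat.zero_le _) hb
      have := blockRank_pos hM hbS
      omega
    have huK : u ∈ K := Finset.mem_filter.2 ⟨(hmem u).2 ⟨hu1, hu⟩, IsConj.refl u⟩
    have hlt : ∑ v ∈ K, C v < ∑ v ∈ K, C v * L v :=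
      Finset.sum_lt_sum (fun v hv => Nat.le_mul_of_pos_right _ (hL1 v (Finset.mem_filter.1 hv).1))
        ⟨u, huK, lt_mul_of_one_lt_right (hCpos u) (by omega)⟩
    have hsum := Finset.sum_le_sum_of_subset (f := fun w => C w * L w)
      (show K ⊆ S from Finset.filter_subset _ _)
    omega

omit [Fintype G] in
theorem pow_prime_eq_one [Finite G] (D : Sylow p G)
    (hall : ∀ u v : G, (∃ k, orderOf u = p ^ k) → u ≠ 1 → (∃ k, orderOf v = p ^ k) → v ≠ 1 →
      IsConj u v) {a : G} (ha : a ∈ (D : Subgroup G)) : a ^ p = 1 := by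
  by_cases ha1 : a = 1
  · rw [ha1, one_pow]
  obtain ⟨k, hk⟩ := (IsPGroup.iff_orderOf.1 D.isPGroup') ⟨a, ha⟩
  rw [Subgroup.orderOf_mk] at hk
  have hk0 : k ≠ 0 := by
    rintro rfl
    exact ha1 (orderOf_eq_one_iff.1 (by rw [hk, pow_zero]))
  have hord : orderOf (a ^ p ^ (k - 1)) = p := by
    rw [orderOf_pow_of_dvd (pow_ne_zero _ (Fact.out : p.Prime).ne_zero)
      (hk ▸ pow_dvd_pow p (Nat.sub_le k 1)), hk,
      Nat.pow_div (Nat.sub_le k 1) (Fact.out : p.Prime).pos,
      show k - (k - 1) = 1 by omega, pow_one]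
  obtain ⟨g, hg⟩ := isConj_iff.1 (hall _ a ⟨1, by rw [hord, pow_one]⟩ (fun e => by
    rw [e, orderOf_one] at hord; exact (Fact.out : p.Prime).ne_one hord.symm) ⟨k, hk⟩ ha1)
  have : orderOf a = p := by
    rw [← hg, show g * a ^ p ^ (k - 1) * g⁻¹ = MulAut.conj g (a ^ p ^ (k - 1)) from rfl,
      MulEquiv.orderOf_eq, hord]
  rw [← this, pow_orderOf_eq_one]

/-- The principal block case. -/
theorem principal_case (hM : IsPModular p M) {D : Subgroup G}
    (hD : IsDefectGroup p M (principalBlock M G) D)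
    (hk : Nat.card (principalBlock M G) ≤ blockRank p (principalBlock M G) + 1) :
    IsElementaryAbelian p D := by
  have hp : p.Prime := Fact.out
  have hB : IsPBlock M (principalBlock M G) := BlockPrincipal81.isPBlock_principal
  have hsub : ∀ u : G, (∃ k, orderOf u = p ^ k) → u ≠ 1 →
      principalBlock M (Cen (Subgroup.zpowers u)) ∈ subs M (principalBlock M G) u := by
    intro u hu _
    obtain ⟨k, hk⟩ := hu
    exact mem_subs hM (BlockPrincipal81.isBrauerPairOf_principal hM
      (BrauerPairs81Nilpotent.isPGroup_zpowers hk))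
  obtain ⟨S, hDS⟩ := (isPGroup_of_isDefectGroup hD).exists_le_sylow
  have hDS' : D = (S : Subgroup G) := Subgroup.eq_of_le_of_card_ge hDS (card_le_of_conjLe
    (conjLe_defect_of_pairOf hM (BlockPrincipal81.isBrauerPairOf_principal hM S.isPGroup') hD))
  subst hDS'
  have hsc := fun u hu hu1 => single_class hM hB hk (fun u hu hu1 => ⟨_, hsub u hu hu1⟩)
    (u := u) hu hu1
  have hpel : ∀ a ∈ (S : Subgroup G), ∃ k, orderOf a = p ^ k := fun a ha => by
    obtain ⟨k, hk⟩ := (IsPGroup.iff_orderOf.1 S.isPGroup') ⟨a, ha⟩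
    exact ⟨k, by rwa [Subgroup.orderOf_mk] at hk⟩
  have hexp : ∀ a ∈ (S : Subgroup G), a ^ p = 1 := fun a ha =>
    pow_prime_eq_one S (fun u v hu hu1 hv hv1 => (hsc u hu hu1).1 v hv hv1) ha
  refine ⟨?_, hexp⟩
  -- a regular element of the normaliser commuting with a nontrivial element of `S`
  have key : ∀ t : G, t ∈ Subgroup.normalizer ((S : Subgroup G) : Set G) → ¬ p ∣ orderOf t →
      ∀ u ∈ (S : Subgroup G), u ≠ 1 → Commute u t →
      ∀ y ∈ (S : Subgroup G), Commute u y → Commute t y := by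
    intro t htN htr u hu hu1 hut y hy huy
    obtain ⟨hl, hH⟩ := And.intro
      ((hsc u (hpel u hu) hu1).2 _ (hsub u (hpel u hu) hu1)) (centralizer_zpowers (G := G) u)
    set t' : Cen (Subgroup.zpowers u) := ⟨t, (hH t).2 hut⟩
    set y' : Cen (Subgroup.zpowers u) := ⟨y, (hH y).2 huy⟩
    have htr' : IsPRegular p t' := by
      show ¬ p ∣ orderOf t'
      rwa [← Subgroup.orderOf_coe]
    have hreg : ¬ p ∣ orderOf (t' * y' * t'⁻¹ * y'⁻¹) :=
      BlockPrincipal81.not_dvd_of_forall_eq hM BlockPrincipal81.isPBlock_principal fun χ hχ =>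
        BlockPrincipal81.apply_commutator_eq χ (S4646.pRegular_ker_of_rank_one hM hl htr' hχ) y'
    have hcS : t * y * t⁻¹ * y⁻¹ ∈ (S : Subgroup G) :=
      mul_mem ((Subgroup.mem_normalizer_iff.1 htN y).1 hy) (inv_mem hy)
    obtain ⟨k, hk⟩ := hpel _ hcS
    rw [← Subgroup.orderOf_coe] at hreg
    have hk0 : k = 0 := by
      by_contra hne
      exact hreg (hk ▸ dvd_pow_self p hne :)
    rw [hk0, pow_zero, orderOf_eq_one_iff, mul_inv_eq_one, mul_inv_eq_iff_eq_mul] at hk
    exact hk
  rcases subsingleton_or_nontrivial (S : Subgroup G) with hss | hnt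
  · exact ⟨⟨fun a b => Subsingleton.elim _ _⟩⟩
  rcases hp.eq_two_or_odd' with rfl | hodd
  · refine ⟨⟨fun a b => ?_⟩⟩
    have h2 : ∀ x : (S : Subgroup G), x⁻¹ = x := fun x => by
      refine inv_eq_of_mul_eq_one_right (Subtype.ext ?_)
      have := hexp x x.2
      rwa [pow_two] at this
    calc a * b = (a * b)⁻¹ := (h2 _).symm
      _ = b * a := by rw [mul_inv_rev, h2, h2]
  -- a central element and an element inverting it
  haveI := S.isPGroup'.center_nontrivial
  obtain ⟨z, hz⟩ := exists_ne (1 : Subgroup.center (S : Subgroup G))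
  set w : G := ((z : (S : Subgroup G)) : G) with hw
  have hwS : w ∈ (S : Subgroup G) := (z : (S : Subgroup G)).2
  have hw1 : w ≠ 1 := fun h => hz (Subtype.ext (Subtype.ext h))
  have hwc : ∀ y ∈ (S : Subgroup G), Commute w y := fun y hy =>
    (congrArg Subtype.val (Subgroup.mem_center_iff.1 z.2 ⟨y, hy⟩)).symm
  have hwC : w ∈ Subgroup.centralizer ((S : Subgroup G) : Set G) :=
    Subgroup.mem_centralizer_iff.2 fun y hy => (hwc y hy).eq.symm
  obtain ⟨g₀, hg₀⟩ := isConj_iff.1 ((hsc w (hpel w hwS) hw1).1 w⁻¹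
    (hpel _ (inv_mem hwS)) (inv_ne_one.2 hw1))
  obtain ⟨n, hn, hnw⟩ := S.conj_eq_normalizer_conj_of_mem_centralizer w g₀⁻¹ hwC (by
    rw [inv_inv, hg₀]; exact inv_mem hwC)
  rw [inv_inv, hg₀] at hnw
  obtain ⟨a, t, hat, hac, ha, ht⟩ := BrauerBlocksPPart.exists_isPPart hp n⁻¹
  have hmem : a ∈ Subgroup.zpowers n⁻¹ ∧ t ∈ Subgroup.zpowers n⁻¹ := by
    obtain ⟨m, hm⟩ := BrauerBlocksPPart.exists_pow_of_isPPart hp (g := n⁻¹) (x := a)
      ⟨t, hat, hac, ha, ht⟩
    have h1 : a ∈ Subgroup.zpowers n⁻¹ := hm ▸ Subgroup.npow_mem_zpowers _ _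
    exact ⟨h1, (Subgroup.mul_mem_cancel_left _ h1).1 (hat ▸ Subgroup.mem_zpowers n⁻¹)⟩
  have hNle := Subgroup.zpowers_le.2 (inv_mem hn)
  have haS : a ∈ (S : Subgroup G) := by
    obtain ⟨k, hk⟩ := ha
    have hpa : IsPGroup p (Subgroup.zpowers a) := BrauerPairs81Nilpotent.isPGroup_zpowers hk
    have h1 : Subgroup.zpowers a ≤ Subgroup.normalizer ((S : Subgroup G) : Set G) :=
      Subgroup.zpowers_le.2 (hNle hmem.1)
    have h2 := IsPGroup.inf_normalizer_sylow hpa S
    exact (h2.le ⟨Subgroup.mem_zpowers a, h1 (Subgroup.mem_zpowers a)⟩).2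
  have htN : t ∈ Subgroup.normalizer ((S : Subgroup G) : Set G) := hNle hmem.2
  have htw : t * w * t⁻¹ = w⁻¹ := by
    have h1 : a * t = n⁻¹ := hat
    have h2 : n⁻¹ * w * (n⁻¹)⁻¹ = w⁻¹ := by rw [inv_inv]; exact hnw.symm
    rw [← h1] at h2
    have h3 : a * (t * w * t⁻¹) * a⁻¹ = w⁻¹ := by rw [← h2]; group
    have h4 : a⁻¹ * w⁻¹ * a = w⁻¹ := by
      rw [mul_assoc, ((hwc a haS).inv_left).eq, inv_mul_cancel_left]
    rw [← h4, ← h3]; group
  have hwodd : w ≠ w⁻¹ := fun h => by
    have h2 : w ^ 2 = 1 := by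
      rw [pow_two]
      nth_rewrite 2 [h]
      exact mul_inv_cancel w
    obtain ⟨j, hj⟩ := hodd
    have h3 := hexp w hwS
    rw [hj, pow_succ, pow_mul, h2, one_pow, one_mul] at h3
    exact hw1 h3
  -- `t` acts without fixed points, and its square trivially
  have hfix : ∀ u ∈ (S : Subgroup G), Commute u t → u = 1 := fun u hu hut => by
    by_contra hu1
    have htc := key t htN ht u hu hu1 hut w hwS ((hwc u hu).symm)
    exact hwodd (by rw [← htw, htc.eq, mul_inv_cancel_right])
  have ht2 : ∀ y ∈ (S : Subgroup G), Commute (t * t) y := by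
    have hwt : Commute w (t * t) := by
      refine (mul_inv_eq_iff_eq_mul.1 ?_).symm
      rw [show t * t * w * (t * t)⁻¹ = t * (t * w * t⁻¹) * t⁻¹ by group, htw,
        show t * w⁻¹ * t⁻¹ = (t * w * t⁻¹)⁻¹ by group, htw, inv_inv]
    have htr : ¬ p ∣ orderOf (t * t) := fun h => ht (h.trans (by
      rw [← pow_two]; exact orderOf_pow_dvd 2))
    exact fun y hy => key (t * t) (mul_mem htN htN) htr w hwS hw1 hwt y hy (hwc y hy)
  let φ : (S : Subgroup G) →* (S : Subgroup G) :=
    { toFun := fun y => ⟨t * y * t⁻¹, (Subgroup.mem_normalizer_iff.1 htN _).1 y.2⟩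
      map_one' := Subtype.ext (by simp)
      map_mul' := fun y y' => Subtype.ext (by
        show t * ((y : G) * y') * t⁻¹ = t * y * t⁻¹ * (t * y' * t⁻¹)
        group) }
  have hfpf : MonoidHom.FixedPointFree φ := fun y hy =>
    Subtype.ext (hfix y y.2 (mul_inv_eq_iff_eq_mul.1 (congrArg Subtype.val hy :)).symm)
  have hinv : Function.Involutive φ := fun y => Subtype.ext (by
    show t * (t * (y : G) * t⁻¹) * t⁻¹ = y
    rw [show t * (t * (y : G) * t⁻¹) * t⁻¹ = t * t * y * (t * t)⁻¹ by group,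
      (ht2 y y.2).eq, mul_inv_cancel_right])
  exact ⟨⟨fun y y' => (hfpf.commute_all_of_involutive hinv y y').eq⟩⟩

/-- All nontrivial `p`-elements conjugate in a `p`-solvable group. -/
theorem sylow_abelian_of_conj (hsolv : IsPSolvable p G) (D : Sylow p G)
    (hall : ∀ u v : G, (∃ k, orderOf u = p ^ k) → u ≠ 1 → (∃ k, orderOf v = p ^ k) → v ≠ 1 →
      IsConj u v) : IsMulCommutative (D : Subgroup G) := by
  have hp : p.Prime := Fact.out
  rcases subsingleton_or_nontrivial (D : Subgroup G) with hss | hnt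
  · exact ⟨⟨fun a b => Subsingleton.elim _ _⟩⟩
  set K := pPrimeCore p G with hKdef
  haveI : K.Normal := HallCore.pPrimeCore_normal p G
  have hKp : ¬ p ∣ Nat.card K := HallCore.not_dvd_card_pPrimeCore p G
  set q := QuotientGroup.mk' K
  set V := pCore p (G ⧸ K) with hV
  haveI : V.Normal := HallCore.pCore_normal p (G ⧸ K)
  have hVp : IsPGroup p V := HallCore.isPGroup_pCore p (G ⧸ K)
  haveI : (pPrimePCore p G).Normal := by unfold pPrimePCore; infer_instance
  -- the conjugates of a `p`-element in a normal subgroup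
  have habsorb : ∀ W : Subgroup G, W.Normal → p ∣ Nat.card W →
      ∀ a ∈ (D : Subgroup G), a ∈ W := by
    intro W hW hdvd a ha
    by_cases ha1 : a = 1
    · rw [ha1]; exact one_mem W
    obtain ⟨x, hx⟩ := exists_prime_orderOf_dvd_card' p hdvd
    obtain ⟨k, hk⟩ := (IsPGroup.iff_orderOf.1 D.isPGroup') ⟨a, ha⟩
    rw [Subgroup.orderOf_mk] at hk
    rw [← Subgroup.orderOf_coe] at hx
    obtain ⟨g, hg⟩ := isConj_iff.1 (hall (x : G) a ⟨1, by rw [hx, pow_one]⟩ (fun e => by
      rw [e, orderOf_one] at hx; exact hp.ne_one hx.symm) ⟨k, hk⟩ ha1)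
    rw [← hg]
    exact hW.conj_mem _ x.2 g
  have hUdvd : p ∣ Nat.card (pPrimePCore p G) := by
    by_contra hn
    obtain ⟨T⟩ : Nonempty (Sylow p (pPrimePCore p G)) := inferInstance
    have hT : (T : Subgroup (pPrimePCore p G)) = ⊥ := by
      refine Subgroup.card_eq_one.1 ?_
      obtain ⟨j, hj⟩ := IsPGroup.iff_card.1 T.isPGroup'
      rcases j with _ | j
      · simpa using hj
      · exact absurd ((hj ▸ dvd_pow_self p j.succ_ne_zero : p ∣ Nat.card T).trans
          (Subgroup.card_subgroup_dvd_card _)) hn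
    have hc := HallSolvable.isPConstrained_of_isPSolvable hsolv T
    rw [hT, Subgroup.map_bot] at hc
    refine hn ?_
    have htop : pPrimePCore p G = ⊤ := top_le_iff.1 ((fun g _ => hc
      (Subgroup.mem_centralizer_iff.2 fun y hy => by
        rw [SetLike.mem_coe, Subgroup.mem_bot] at hy; subst hy; simp)))
    rw [htop, Subgroup.card_top]
    obtain ⟨a, ha⟩ := exists_ne (1 : (D : Subgroup G))
    obtain ⟨j, hj⟩ := (IsPGroup.iff_orderOf.1 D.isPGroup') a
    rcases j with _ | j
    · exact absurd (orderOf_eq_one_iff.1 (by simpa using hj)) ha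
    · exact ((hj ▸ dvd_pow_self p j.succ_ne_zero : p ∣ orderOf a).trans (orderOf_dvd_natCard a)).trans
        (Subgroup.card_subgroup_dvd_card _)
  have hVnt : Nontrivial V := by
    by_contra hnt
    rw [not_nontrivial_iff_subsingleton] at hnt
    refine hKp (hUdvd.trans (dvd_of_eq ?_))
    rw [show pPrimePCore p G = V.comap q from rfl, Subgroup.eq_bot_of_subsingleton V,
      MonoidHom.comap_bot, QuotientGroup.ker_mk']
  haveI := hVp.center_nontrivial
  set W := ((Subgroup.center V).map V.subtype).comap q with hW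
  have hWn : W.Normal := by rw [hW]; infer_instance
  have hWdvd : p ∣ Nat.card W := by
    show p ∣ Nat.card (((Subgroup.center V).map V.subtype).comap (QuotientGroup.mk' K))
    rw [← HallCore.card_comap_mk']
    refine dvd_mul_of_dvd_left ?_ _
    rw [Subgroup.card_map_of_injective Subtype.val_injective]
    obtain ⟨j, hj⟩ := IsPGroup.iff_card.1 (hVp.to_subgroup (Subgroup.center V))
    rcases j with _ | j
    · exact absurd (Nat.card_eq_one_iff_unique.1 (hj.trans (pow_zero p))).1
        (not_subsingleton _)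
    · exact hj ▸ dvd_pow_self p j.succ_ne_zero
  refine ⟨⟨fun a b => Subtype.ext ?_⟩⟩
  obtain ⟨va, hva, ea⟩ := habsorb W hWn hWdvd a a.2
  obtain ⟨vb, hvb, eb⟩ := habsorb W hWn hWdvd b b.2
  have hq : q ((a : G) * b) = q ((b : G) * a) := by
    rw [map_mul, map_mul, ← ea, ← eb, ← map_mul, ← map_mul,
      Subgroup.mem_center_iff.1 hvb va]
  have hc : ((b : G) * a)⁻¹ * ((a : G) * b) ∈ K := by
    rw [← QuotientGroup.eq_one_iff]
    show q _ = 1
    rw [map_mul, map_inv, hq, inv_mul_cancel]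
  have hcD : ((b : G) * a)⁻¹ * ((a : G) * b) ∈ (D : Subgroup G) :=
    mul_mem (inv_mem (mul_mem b.2 a.2)) (mul_mem a.2 b.2)
  obtain ⟨j, hj⟩ := (IsPGroup.iff_orderOf.1 D.isPGroup') ⟨_, hcD⟩
  rw [Subgroup.orderOf_mk] at hj
  have hj0 : j = 0 := by
    by_contra hne
    exact hKp ((hj ▸ dvd_pow_self p hne : p ∣ _).trans
      (Subgroup.orderOf_dvd_natCard _ hc))
  rw [hj0, pow_zero, orderOf_eq_one_iff, inv_mul_eq_one] at hj
  exact hj.symm

universe w

/-- The `p`-solvable case. -/
theorem solvable_case (hM : IsPModular p M) : ∀ (n : ℕ) {G : Type w} [Group G] [Finite G],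
    Nat.card G = n → IsPSolvable p G → ∀ {B : Set (IrrCharacter G)}, IsPBlock M B →
    Nat.card B ≤ blockRank p B + 1 →
    ∀ {D : Subgroup G}, IsDefectGroup p M B D → IsElementaryAbelian p D := by
  intro n
  induction n using Nat.strong_induction_on with
  | _ n ih =>
  intro G _ _ hn hsolv B hB hk D hD
  have : Fintype G := Fintype.ofFinite G
  set N := pPrimeCore p G with hNdef
  have hNp : ¬ p ∣ Nat.card N := HallCore.not_dvd_card_pPrimeCore p G
  haveI : N.Normal := HallCore.pPrimeCore_normal p G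
  obtain ⟨χ, hχ⟩ := block_nonempty hM hB
  obtain ⟨θ, hθ⟩ := BrauerBlocksCovering.exists_constituent (G := N)
    (f := fun n : N => (χ : G → ℂ) n)
    (isCharacter_res N (CharBasic.isCharacter_of_isIrrCharacter χ.2)) (irr_one_ne_zero χ)
  have hb := BlockTheoryFong.isPBlock_single N θ hM hNp
  set T := inertia N (θ : N → ℂ)
  have hNT : N ≤ T := le_inertia N (irr_classFun θ)
  by_cases htop : T = ⊤
  · obtain ⟨B0, hB0, hmem, hsyl, hdef⟩ :=
      S4492.result p M hM hsolv N hNdef θ fun g x =>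
        congrFun ((mem_inertia N).mp (htop ▸ Subgroup.mem_top g : g ∈ T)) x
    obtain rfl : B = B0 := block_eq_of_mem hM hB hB0 hχ ((hmem χ).mpr hθ)
    obtain ⟨S, rfl⟩ := hdef D hD
    have hsub : ∀ u : G, (∃ k, orderOf u = p ^ k) → u ≠ 1 → (subs M B u).Nonempty := by
      intro u hu _
      obtain ⟨k, hk⟩ := hu
      have hQ := BrauerPairs81Nilpotent.isPGroup_zpowers (p := p) hk
      obtain ⟨R, hR⟩ := hQ.exists_le_sylow
      obtain ⟨b, hb⟩ := exists_pairOf_of_not_small hM hB hQ
        ((not_small_cut_iff hM hB (hsyl R) hQ).2 (conjLe_of_le hR))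
      exact ⟨b, mem_subs hM hb⟩
    have hall : ∀ u v : G, (∃ k, orderOf u = p ^ k) → u ≠ 1 → (∃ k, orderOf v = p ^ k) → v ≠ 1 →
        IsConj u v := fun u v hu hu1 hv hv1 => (single_class hM hB hk hsub hu hu1).1 v hv hv1
    exact ⟨sylow_abelian_of_conj hsolv S hall, fun a ha => pow_prime_eq_one S hall ha⟩
  · have hstab : ∀ g : G, g ∈ T ↔ ∀ θ₀ ∈ ({θ} : Set (IrrCharacter N)), ∀ θ' : IrrCharacter N,
        (∀ x : N, (θ' : N → ℂ) x = (θ₀ : N → ℂ) ⟨g * x * g⁻¹,
          (inferInstance : N.Normal).conj_mem x x.2 g⟩) → θ' ∈ ({θ} : Set (IrrCharacter N)) := by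
      intro g
      rw [mem_inertia_iff]
      constructor
      · intro h θ₀ hθ₀ θ' h'
        obtain rfl : θ₀ = θ := hθ₀
        exact Set.mem_singleton_iff.mpr (Subtype.ext (funext fun x => (h' x).trans (h x)))
      · intro h x
        have h' := h θ rfl
          ⟨conjFun N (θ : N → ℂ) g, isIrrCharacter_conjFun N θ.2 g⟩ (fun _ => rfl)
        exact congrFun (congrArg Subtype.val (Set.mem_singleton_iff.mp h')) x
    have hS := FongReynolds78.isStab_of_statement N hstab
    obtain ⟨ψ, hov, hm⟩ := FongReynolds78.exists_over (b := ({θ} : Set (IrrCharacter N))) hNT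
      (χ := χ) ⟨θ, rfl, hθ⟩
    have hχψ := (FongReynolds78.constituent_key hS hNT hM hb χ hov hm).1
    have hB' : IsPBlock M (blockOf M (ψ : T → ℂ)) := isPBlock_blockOf ψ
    have hψ := self_mem_blockOf hM ψ
    obtain ⟨B1, hind, -, -, hiff⟩ := FongReynolds78.correspondence hS hNT hM hb hB' ⟨ψ, hψ, hov⟩
    obtain rfl : B = B1 := block_eq_of_mem hM hB hind.2.1 hχ ((hiff χ).mpr ⟨ψ, hψ, hχψ⟩)
    set B' := blockOf M (ψ : T → ℂ)
    have hdef := (S4436.result p M hM N {θ} hb T hstab hNT _ hB' ⟨ψ, hψ, hov⟩ B hind).1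
    -- the characters
    have hex : ∀ ξ : B', ∃ χ' : B, ((χ' : IrrCharacter G) : G → ℂ) =
          indFun T ((ξ : IrrCharacter T) : T → ℂ) ∧
        classInner (fun t : T => ((χ' : IrrCharacter G) : G → ℂ) t)
          ((ξ : IrrCharacter T) : T → ℂ) ≠ 0 := fun ξ => by
      obtain ⟨χ', he, hne⟩ := FongReynolds78.exists_induced hS hNT hM hb
        (FongReynolds78.over_of_sameBlock hS hNT hM hb (sameBlock_of_mem hM hB' hψ ξ.2) hov)
      exact ⟨⟨χ', (hiff χ').2 ⟨ξ, ξ.2, he⟩⟩, he, hne⟩
    choose F hF using hex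
    have hinj : Function.Injective F := fun ξ ξ' h => by
      have ho : ∀ ζ : B', FongReynolds78.Over hNT (b := ({θ} : Set (IrrCharacter N)))
          (ζ : IrrCharacter T) := fun ζ =>
        FongReynolds78.over_of_sameBlock hS hNT hM hb (sameBlock_of_mem hM hB' hψ ζ.2) hov
      refine Subtype.ext ((FongReynolds78.constituent_key hS hNT hM hb (F ξ) (ho ξ') ?_).2.2.1 _
        (ho ξ) (hF ξ).2)
      rw [h]; exact (hF ξ').2
    have hcard : Nat.card B' ≤ Nat.card B := Nat.card_le_card_of_injective F hinj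
    have hext : ∀ (f : T → ℂ) (y : G),
        extendByZero T f y = if h : y ∈ T then f ⟨y, h⟩ else 0 := fun f y => by
      split_ifs with h
      · exact Subtype.val_injective.extend_apply f (0 : G → ℂ) ⟨y, h⟩
      · exact Function.extend_apply' f (0 : G → ℂ) y fun ⟨t, ht⟩ => h (ht ▸ t.2)
    let Ind : (T → ℂ) →ₗ[ℂ] (G → ℂ) :=
      { toFun := indFun T
        map_add' := fun f f' => by
          funext g
          simp only [indFun, hext, Pi.add_apply, ← mul_add, ← Finset.sum_add_distrib]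
          congr 1
          refine Finset.sum_congr rfl fun x _ => ?_
          split_ifs <;> simp
        map_smul' := fun a f => by
          funext g
          simp only [indFun, hext, Pi.smul_apply, smul_eq_mul, RingHom.id_apply,
            Finset.mul_sum]
          refine Finset.sum_congr rfl fun x _ => ?_
          split_ifs
          · ring
          · ring }
    have hpart : ∀ f : T → ℂ, pRegularPart p (indFun T f) = Ind (pRegularPart p f) := fun f => by
      funext g
      show (if IsPRegular p g then indFun T f g else 0) = indFun T (pRegularPart p f) g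
      have hconj : ∀ x : G, orderOf (x⁻¹ * g * x) = orderOf g := fun x => by
        have h := MulEquiv.orderOf_eq (MulAut.conj x⁻¹) g
        simpa using h
      simp only [indFun, hext, pRegularPart, IsPRegular, ← Subgroup.orderOf_coe]
      by_cases hg : p ∣ orderOf g
      · rw [if_neg (not_not_intro hg), Finset.sum_eq_zero, mul_zero]
        intro x _
        split_ifs with h1 h2
        all_goals first
          | rfl
          | exact absurd (by rw [hconj]; exact hg) h2
      · rw [if_pos hg]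
        congr 1
        refine Finset.sum_congr rfl fun x _ => ?_
        split_ifs with h1 h2
        all_goals first
          | rfl
          | exact absurd h2 (by rw [hconj]; exact hg)
    have hrank : blockRank p B ≤ blockRank p B' := by
      refine le_trans (Submodule.finrank_mono (Submodule.span_le.2 ?_))
        (Submodule.finrank_map_le Ind _)
      rintro _ ⟨χ', hχ', rfl⟩
      obtain ⟨ξ, hξ, he⟩ := (hiff χ').1 hχ'
      exact ⟨_, Submodule.subset_span ⟨ξ, hξ, rfl⟩, by rw [← hpart, ← he]⟩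
    obtain ⟨D', hD'⟩ := exists_defectGroup hM hB'
    obtain ⟨x, hx⟩ := defectGroup_conj hM hB (hdef D' hD') hD
    have hlt : Nat.card T < n := hn ▸ lt_of_le_of_ne
      (Nat.le_of_dvd Nat.card_pos T.card_subgroup_dvd_card)
      fun h => htop (Subgroup.eq_top_of_card_eq T h)
    obtain ⟨⟨⟨hc⟩⟩, hpw⟩ := ih _ hlt rfl (HallSolvable.isPSolvable_subgroup hsolv T) hB'
      (by omega) hD'
    subst hx
    refine ⟨⟨⟨fun a b => ?_⟩⟩, fun a ha => ?_⟩
    · obtain ⟨a, a', ⟨⟨a', ha', rfl⟩, rfl⟩⟩ := a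
      obtain ⟨b, b', ⟨⟨b', hb', rfl⟩, rfl⟩⟩ := b
      refine Subtype.ext ?_
      show MulAut.conj x (a' : G) * MulAut.conj x (b' : G) =
        MulAut.conj x (b' : G) * MulAut.conj x (a' : G)
      rw [← map_mul, ← map_mul]
      exact congrArg _ (congrArg (fun y : D' => ((y : T) : G)) (hc ⟨a', ha'⟩ ⟨b', hb'⟩))
    · obtain ⟨_, ⟨a', ha', rfl⟩, rfl⟩ := ha
      rw [← map_pow, ← map_pow, hpw a' ha', map_one, map_one]

/-- Let G be a finite group, p a prime, M a maximal ideal of the algebraic integers containing p, and B a p-block of G with defect group D. Suppose the number of irreducible characters in B exceeds the p-regular rank of B (the number of irreducible Brauer characters in B) by exactly one. If B is the principal block, or if G is p-solvable, then D is elementary abelian. -/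
theorem result {G : Type*} [Group G] [Finite G] (p : ℕ) [Fact p.Prime] (M : Ideal Cfsg.AlgInt) (hM : Cfsg.IsPModular p M) (B : Set (Cfsg.IrrCharacter G)) (hB : Cfsg.IsPBlock M B) (D : Subgroup G) (hD : Cfsg.IsDefectGroup p M B D)
    (hk : Nat.card B = Cfsg.blockRank p B + 1) (hB0 : B = Cfsg.principalBlock M G ∨ Cfsg.IsPSolvable p G) :
    Cfsg.IsElementaryAbelian p D := by
  haveI := Fintype.ofFinite G
  rcases hB0 with rfl | hsolv
  · exact principal_case hM hD hk.le
  · exact solvable_case hM _ rfl hsolv hB hk.le hD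

end Cfsg.Agent.S4606
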