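import Cfsg.Statements.S4607
import Cfsg.Agent.Lib.BrandtBlock42

set_option autoImplicit false
open Cfsg

namespace Cfsg.Agent.S4607

/-- Let G be a finite group, p a prime, M a maximal ideal of the algebraic integers containing p, and B a p-block of G with defect group D. Then B contains exactly two irreducible characters if and only if D has order 2. -/
theorem result {G : Type*} [Group G] [Finite G] (p : ℕ) [Fact p.Prime] (M : Ideal Cfsg.AlgInt) (hM : Cfsg.IsPModular p M) (B : Set (Cfsg.IrrCharacter G)) (hB : Cfsg.IsPBlock M B) (D : Subgroup G) (hD : Cfsg.IsDefectGroup p M B D) : Nat.card B = 2 ↔ Nat.card D = 2 := by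
  classical
  haveI := Fintype.ofFinite G
  rw [BlockContribBounds.card_defectGroup hM hB hD]
  constructor
  · intro h
    exact BrandtBlock42.defect_pow_eq_two hM hB h hD
  · intro h
    obtain rfl : p = 2 := by
      have hd : Cfsg.blockDefect p B ≠ 0 := fun h0 => by simp [h0] at h
      exact (Nat.prime_dvd_prime_iff_eq hM.1 Nat.prime_two).1 (h ▸ dvd_pow_self p hd)
    exact (BlockDefectOneTwo79.defect_one hM hB
      (Nat.pow_right_injective le_rfl (h.trans (pow_one 2).symm))).1

end Cfsg.Agent.S4607
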