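import Cfsg.Statements.S4608
import Cfsg.Agent.Lib.RankOneBlockFive27
import Cfsg.Agent.Lib.RankOneFiveOrbits27
import Cfsg.Agent.Lib.SmallRankOneNilp42
import Cfsg.Agent.S4675

set_option autoImplicit false
open Cfsg

namespace Cfsg.Agent.S4608

/-- Five positive squares of total at most twelve. -/
theorem five_squares {ι : Type*} {s : Finset ι} {f : ι → ℕ} (hs : s.card = 5)
    (hf : ∀ i ∈ s, 1 ≤ f i) (h : ∑ i ∈ s, f i ^ 2 ≤ 12) :
    ∑ i ∈ s, f i ^ 2 = 5 ∨ ∑ i ∈ s, f i ^ 2 = 8 ∨ ∑ i ∈ s, f i ^ 2 = 11 := by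
  classical
  have hlow : ∀ t ⊆ s, t.card ≤ ∑ i ∈ t, f i ^ 2 := fun t ht => by
    rw [Finset.card_eq_sum_ones]
    exact Finset.sum_le_sum fun i hi => Nat.one_le_pow _ _ (hf i (ht hi))
  have h12 : ∀ i ∈ s, f i ^ 2 % 3 = 1 := by
    intro i hi
    have h1 := Finset.add_sum_erase s (fun j => f j ^ 2) hi
    have h2 := hlow (s.erase i) (Finset.erase_subset _ _)
    rw [Finset.card_erase_of_mem hi, hs] at h2
    have h3 : f i ^ 2 ≤ 8 := by omega
    have h4 : f i ≤ 2 := by nlinarith
    have := hf i hi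
    interval_cases (f i) <;> norm_num
  have h5 := hlow s subset_rfl
  have hmod : (∑ i ∈ s, f i ^ 2) % 3 = 2 := by
    rw [Finset.sum_nat_mod, Finset.sum_congr rfl h12, Finset.sum_const, hs]
    rfl
  omega

/-- Let G be a finite group, p a prime, M a maximal ideal of the algebraic integers containing p, and B a p-block of G with defect group D. If B has p-regular rank one and exactly five irreducible characters, then D is cyclic of order 5, or D has order 8 and is non-abelian (dihedral or quaternion). -/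
theorem result {G : Type*} [Group G] [Finite G] (p : ℕ) [Fact p.Prime] (M : Ideal Cfsg.AlgInt) (hM : Cfsg.IsPModular p M) (B : Set (Cfsg.IrrCharacter G)) (hB : Cfsg.IsPBlock M B) (D : Subgroup G) (hD : Cfsg.IsDefectGroup p M B D)
    (hl : Cfsg.blockRank p B = 1) (hk : Nat.card B = 5) :
    (Nat.card D = 5) ∨ (Nat.card D = 8 ∧ ¬ IsMulCommutative D) := by
  classical
  haveI : Fintype G := Fintype.ofFinite G
  have hp : p.Prime := Fact.out
  have hcard : Nat.card D = p ^ blockDefect p B := BlockContribBounds.card_defectGroup hM hB hD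
  have hle := RankOneBlockFive27.pow_defect_le hM hB hl hk.le
  obtain ⟨φ, d, -, hφ, hsum⟩ := S4675.main hM hB hl
  rw [BlockContribBounds.finsum_eq_members] at hsum
  have hd1 : ∀ χ ∈ BlockContribBounds.members B, 1 ≤ d χ := fun χ hχ =>
    Nat.pos_of_ne_zero fun h0 => BlockTheoryCentre.irr_one_ne_zero χ (by
      rw [hφ χ (BlockContribBounds.mem_members.1 hχ) 1 (by simp [IsPRegular, hp.ne_one]), h0]
      simp)
  have h5 := five_squares (f := d) (by rw [← BlockContribBounds.card_members, hk]) hd1 (hsum ▸ hle)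
  rw [hsum, ← hcard] at h5
  obtain ⟨g, hg⟩ := BrauerPairs81Conj.exists_pairOf_of_not_small hM hB
    (BlockTheoryDefect.isPGroup_of_isDefectGroup hD) (BlockTheoryDefect.not_small_cut_defect hM hB hD)
  obtain ⟨P, c, hmax, -⟩ := BrauerPairs81Max.exists_maximal_above hg
  have hP := BrauerPairs81Max.isDefectGroup_of_maximal hM hmax
  have hPcard : Nat.card P = Nat.card D :=
    (BlockContribBounds.card_defectGroup hM hB hP).trans hcard.symm
  rcases h5 with h | h | h
  · exact Or.inl h
  · refine Or.inr ⟨h, fun hc => ?_⟩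
    obtain rfl : p = 2 := (Nat.prime_dvd_prime_iff_eq hp Nat.prime_two).1
      (hp.dvd_of_dvd_pow (n := 3) (show p ∣ 2 ^ 3 by
        rw [show (2 : ℕ) ^ 3 = p ^ blockDefect p B by rw [← hcard, h]; norm_num]
        refine dvd_pow_self p fun h0 => ?_
        rw [hcard, h0] at h
        norm_num at h))
    obtain ⟨x, hx⟩ := BlockTheoryDefect.defectGroup_conj hM hB hD hP
    refine RankOneFiveOrbits27.not_eight hM hmax ?_ (hPcard.trans h) hl hk
    subst hx
    rintro _ ⟨a, ha, rfl⟩ _ ⟨b, hb, rfl⟩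
    rw [← map_mul, ← map_mul]
    exact congrArg _ (congrArg Subtype.val (hc.is_comm.comm (⟨a, ha⟩ : D) ⟨b, hb⟩))
  · exact (RankOneFiveOrbits27.not_eleven hM hmax (hPcard.trans h) hl hk).elim

end Cfsg.Agent.S4608
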