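import Cfsg.Statements.S4611
import Cfsg.Agent.Lib.PrincipalQuot80

set_option autoImplicit false
open Cfsg

namespace Cfsg.Agent.S4611

/-- Let G be a finite solvable group and π a nonempty set of primes, each dividing the order of G; fix for each p in π a maximal ideal M p of the algebraic integers containing p. Then the only irreducible character lying in the principal p-block for every p in π is the principal character if and only if G is generated by the subgroups O_{p'}(G), p in π (the largest normal subgroups of order prime to p). -/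
theorem result {G : Type*} [Group G] [Finite G] [Group.IsSolvable G] (π : Set ℕ) (hπ : ∀ p ∈ π, p.Prime ∧ p ∣ Nat.card G) (hne : π.Nonempty) (M : ℕ → Ideal Cfsg.AlgInt) (hM : ∀ p ∈ π, Cfsg.IsPModular p (M p)) :
    (∀ χ : Cfsg.IrrCharacter G, (∀ p ∈ π, χ ∈ Cfsg.principalBlock (M p) G) → (χ : G → ℂ) = fun _ => 1) ↔
      ⨆ p ∈ π, Cfsg.pPrimeCore p G = ⊤ := by
  classical
  haveI : Fintype G := Fintype.ofFinite G
  set L : Subgroup G := ⨆ p ∈ π, Cfsg.pPrimeCore p G with hL
  have hcrit : ∀ χ : IrrCharacter G, (∀ p ∈ π, χ ∈ principalBlock (M p) G) ↔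
      ∀ x ∈ L, (χ : G → ℂ) x = (χ : G → ℂ) 1 := by
    intro χ
    have hp' : ∀ p ∈ π, (χ ∈ principalBlock (M p) G ↔
        ∀ x ∈ Cfsg.pPrimeCore p G, (χ : G → ℂ) x = (χ : G → ℂ) 1) := fun p hp => by
      haveI : Fact p.Prime := ⟨(hπ p hp).1⟩
      exact PrincipalQuot80.mem_principal_iff_of_pSolvable (hM p hp)
        (HallSolvable.isPSolvable_of_solvable p) χ
    constructor
    · intro h
      have hle : L ≤ CharKernel.irrKer χ := iSup₂_le fun p hp x hx =>
        CharKernel.mem_irrKer.2 ((hp' p hp).1 (h p hp) x hx)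
      exact fun x hx => CharKernel.mem_irrKer.1 (hle hx)
    · exact fun h p hp => (hp' p hp).2 fun x hx =>
        h x (le_iSup₂ (f := fun p (_ : p ∈ π) => Cfsg.pPrimeCore p G) p hp hx)
  constructor
  · intro h
    haveI : L.Normal := by
      haveI : ∀ p : ℕ, (Cfsg.pPrimeCore p G).Normal := fun p => HallCore.pPrimeCore_normal p G
      infer_instance
    haveI : Fintype (G ⧸ L) := Fintype.ofFinite _
    have hall : ∀ ψ : IrrCharacter (G ⧸ L), ψ = CharBasicDecomp.trivIrr (G ⧸ L) := fun ψ => by
      refine PrincipalQuot80.infl_injective L (Subtype.ext ?_)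
      rw [h (PrincipalQuot80.infl L ψ) ((hcrit _).2 fun x hx => by
        simp [PrincipalQuot80.infl_apply, (QuotientGroup.eq_one_iff x).2 hx])]
      rfl
    have hs := CharBasicOrth.sum_sq_apply_one (G := G ⧸ L)
    rw [Finset.sum_eq_single (CharBasicDecomp.trivIrr (G ⧸ L))
      (fun ψ _ hψ => absurd (hall ψ) hψ) (by simp)] at hs
    have h1 : Nat.card (G ⧸ L) = 1 := by
      simp only [CharBasicDecomp.trivIrr, one_pow] at hs
      exact_mod_cast hs.symm
    exact Subgroup.index_eq_one.1 h1
  · intro h χ hχ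
    have hk := (hcrit χ).1 hχ
    funext g
    have h1 : ∀ g, (χ : G → ℂ) g = (χ : G → ℂ) 1 := fun g => hk g (h ▸ Subgroup.mem_top g)
    have hi := CharBasicOrth.classInner_irr_self χ.2
    simp only [Cfsg.classInner, h1, Finset.sum_const, Finset.card_univ, nsmul_eq_mul,
      Nat.card_eq_fintype_card] at hi
    rw [← mul_assoc, inv_mul_cancel₀ (Nat.cast_ne_zero.mpr Fintype.card_ne_zero), one_mul,
      PrincipalSylow80.irr_charDegree χ, map_natCast, ← Nat.cast_mul, Nat.cast_eq_one,
      mul_eq_one] at hi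
    rw [h1 g, PrincipalSylow80.irr_charDegree χ, hi.1, Nat.cast_one]

end Cfsg.Agent.S4611
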