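import Cfsg.Statements.S4613
import Cfsg.Agent.Lib.Radical42All
import Cfsg.Agent.Lib.Radical42ClassicalTop
import Cfsg.Agent.Lib.Radical42BNTop
import Cfsg.Agent.Lib.Radical42RankOneRigid
import Cfsg.Agent.Lib.SuzukiGroupLie


set_option autoImplicit false
open Cfsg

namespace Cfsg.Agent.S4613

open Cfsg.Agent.Radical42Rigid

/-- transport of simplicity -/
theorem simple_of_equiv {G H : Type*} [Group G] [Group H] [IsSimpleGroup G] (e : G ≃* H) : IsSimpleGroup H :=
  haveI : Nontrivial H := e.symm.toEquiv.nontrivial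
  IsSimpleGroup.isSimpleGroup_of_surjective e.toMonoidHom e.surjective

theorem rigid {G : Type*} [Group G] [Finite G] [IsSimpleGroup G] (p : ℕ) [Fact p.Prime]
    (hG : Cfsg.IsLieTypeChar p G) : Rigid G p := by
  have hR := Radical42All.hasRadicals hG
  rcases hG with h | h | h | h | h | h | h | h | ⟨rfl, h⟩ | ⟨rfl, h⟩ | ⟨rfl, h⟩
  · obtain ⟨F, _, _, _, n, hn, hn4, ⟨e⟩⟩ := h
    haveI : NeZero n := ⟨by omega⟩
    haveI := simple_of_equiv e
    haveI := Finite.of_equiv G e.toEquiv
    have hR' := Radical42.of_equiv e.symm hR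
    rcases Nat.lt_or_ge n 3 with h2 | h3
    · obtain rfl : n = 2 := by omega
      exact Rigid.of_equiv e (Radical42RankOneRigid.psl_two p (hn4 rfl) hR')
    · exact Rigid.of_equiv e (rigid_of_connected hR' (Radical42ClassicalTop.psl h3 p))
  · obtain ⟨F, _, _, _, m, hm, -, ⟨e⟩⟩ := h
    haveI := simple_of_equiv e
    haveI := Finite.of_equiv G e.toEquiv
    exact Rigid.of_equiv e (rigid_of_connected (Radical42.of_equiv e.symm hR) (Radical42ClassicalTop.psp hm p))
  · obtain ⟨F, _, _, _, n, q, hF, hn, hnq, ⟨e⟩⟩ := h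
    haveI := simple_of_equiv e
    haveI := Finite.of_equiv G e.toEquiv
    have hR' := Radical42.of_equiv e.symm hR
    rcases Nat.lt_or_ge n 4 with h3 | h4
    · obtain rfl : n = 3 := by omega
      have hq : q ≠ 2 := fun h => hnq ⟨rfl, h⟩
      have := OrthUnitaryHerm.two_le_q hF
      exact Rigid.of_equiv e (Radical42RankOneRigid.psu_three hF (by omega) p hR')
    · exact Rigid.of_equiv e (rigid_of_connected hR' (Radical42ClassicalTop.psu hF h4 p))
  · obtain ⟨F, _, _, _, m, hm, hodd, ⟨e⟩⟩ := h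
    haveI := simple_of_equiv e
    haveI := Finite.of_equiv G e.toEquiv
    exact Rigid.of_equiv e (rigid_of_connected (Radical42.of_equiv e.symm hR)
      (Radical42ClassicalTop.omega_odd hodd hm p))
  · obtain ⟨F, _, _, _, m, hm, ⟨e⟩⟩ := h
    haveI := simple_of_equiv e
    haveI := Finite.of_equiv G e.toEquiv
    exact Rigid.of_equiv e (rigid_of_connected (Radical42.of_equiv e.symm hR)
      (Radical42ClassicalTop.omega_plus hm p))
  · obtain ⟨F, _, _, _, m, a, b, hm, hab, ⟨e⟩⟩ := h
    haveI := simple_of_equiv e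
    haveI := Finite.of_equiv G e.toEquiv
    exact Rigid.of_equiv e (rigid_of_connected (Radical42.of_equiv e.symm hR)
      (Radical42ClassicalTop.omega_minus hm hab p))
  · obtain ⟨F, _, _, _, h⟩ := h
    have key : ∀ D ∈ ([Lie.chevG2, Lie.chevF4, Lie.chevE6, Lie.chevE7, Lie.chevE8] : List Lie.ChevalleyDatum),
        2 ≤ D.rank → (G ≃* ↥(D.group F)) → Rigid G p := fun D hD h2 e => by
      haveI := simple_of_equiv e
      haveI := Finite.of_equiv G e.toEquiv
      exact Rigid.of_equiv e (rigid_of_connected (Radical42.of_equiv e.symm hR)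
        (Radical42BNTop.chevalley (Cfsg.Agent.ChevalleyAll.cert D (by fin_cases hD <;> simp))
          (Cfsg.Agent.ChevBruhatInstance.sys D (by fin_cases hD <;> simp) F) p h2))
    rcases h with ⟨-, ⟨e⟩⟩ | ⟨⟨e⟩⟩ | ⟨⟨e⟩⟩ | ⟨⟨e⟩⟩ | ⟨⟨e⟩⟩
    · exact key _ (by simp) (by decide) e
    · exact key _ (by simp) (by decide) e
    · exact key _ (by simp) (by decide) e
    · exact key _ (by simp) (by decide) e
    · exact key _ (by simp) (by decide) e
  · obtain ⟨K, _, _, _, q, -, ⟨hK, ⟨e⟩⟩ | ⟨hK, ⟨e⟩⟩⟩ := h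
    · haveI := simple_of_equiv e
      exact Rigid.of_equiv e (rigid_of_connected (Radical42.of_equiv e.symm hR) (Radical42BNTop.twistedE6 p hK))
    · haveI := simple_of_equiv e
      exact Rigid.of_equiv e (rigid_of_connected (Radical42.of_equiv e.symm hR) (Radical42BNTop.twistedD4 p hK))
  · obtain ⟨F, _, _, m, hm, hF, ⟨e⟩⟩ := h
    haveI := SuzukiGroupBasic.Param.mk' hm hF
    have e' := e.trans (SuzukiGroupLie.lieEquiv (F := F) (m := m))
    haveI := simple_of_equiv e'
    exact Rigid.of_equiv e' (Radical42RankOneRigid.suzuki (Radical42.of_equiv e'.symm hR))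
  · obtain ⟨K, _, _, m, -, hK, ⟨e⟩⟩ := h
    haveI : CharP K 2 := charP_of_card_eq_prime_pow hK
    haveI := simple_of_equiv e
    exact Rigid.of_equiv e (rigid_of_connected (Radical42.of_equiv e.symm hR) (Radical42BNTop.twistedF4 hK))
  · obtain ⟨K, _, _, m, hm, hK, ⟨e⟩⟩ := h
    haveI : CharP K 3 := charP_of_card_eq_prime_pow hK
    obtain ⟨X, hX⟩ := ReeInstance17.exists_ctx (K := K) hK
    have e' : G ≃* ↥X.G1 := e.trans (MulEquiv.subgroupCongr
      (show Cfsg.Lie.twistedG2 K (3 ^ m) = Cfsg.Lie.twistedG2 K X.e by rw [hX]))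
    haveI := simple_of_equiv e'
    have hU : IsPGroup 3 (TwistAutRigid.U1 X.G1) := by
      refine IsPGroup.of_card (n := (2 * m + 1) * 3) ?_
      have h := ReeSylow17.card_U0 X
      rw [ReeSylow17.U0, Subgroup.inf_subgroupOf_right, hK, ← pow_mul] at h
      exact h
    have h3 : 3 < Fintype.card K := by
      rw [hK]
      exact lt_of_lt_of_le (by norm_num : 3 < 3 ^ 3) (Nat.pow_le_pow_right (by norm_num) (by omega))
    exact Rigid.of_equiv e' (Radical42RankOneRigid.ree X h3 (Radical42.of_equiv e'.symm hR) hU)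

/-- Let G be a finite simple group of Lie type in characteristic p and α an automorphism of G of order prime to p that fixes some Sylow p-subgroup of G elementwise. Then α is the identity. -/
theorem result {G : Type*} [Group G] [Finite G] [IsSimpleGroup G] (p : ℕ) [Fact p.Prime] (hG : Cfsg.IsLieTypeChar p G) (α : MulAut G) (hα : ¬ p ∣ orderOf α) (U : Sylow p G) (hfix : ∀ x ∈ (U : Subgroup G), α x = x) : α = 1 := by
  exact rigid p hG α hα U hfix

end Cfsg.Agent.S4613
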