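import Cfsg.Statements.S4620
import Mathlib
import Cfsg.Agent.Lib.HallCore
-- import your own Cfsg.Agent.* helpers here

set_option autoImplicit false
open scoped Pointwise
open Cfsg

namespace Cfsg.Agent.S4620

theorem conj_mem_normalizer {H : Type*} [Group H] [Finite H] {p : ℕ} (P : Sylow p H)
    (hTI : ∀ g : H, g ∉ Subgroup.normalizer ((P : Subgroup H) : Set H) →
      (P : Subgroup H) ⊓ (MulAut.conj g • (P : Subgroup H)) = ⊥)
    {g x : H} (hx : x ∈ P) (hx1 : x ≠ 1) (hgx : g * x = x * g) :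
    g ∈ Subgroup.normalizer ((P : Subgroup H) : Set H) := by
  by_contra hg
  have h := hTI g hg
  have h1 : x ∈ (P : Subgroup H) ⊓ (MulAut.conj g • (P : Subgroup H)) := by
    refine ⟨hx, ?_⟩
    show x ∈ MulAut.conj g • (P : Subgroup H)
    rw [Subgroup.mem_pointwise_smul_iff_inv_smul_mem]
    have : g⁻¹ * x * g = x := by rw [mul_assoc, ← hgx]; simp
    simpa [this] using (show x ∈ (P : Subgroup H) from hx)
  rw [h, Subgroup.mem_bot] at h1
  exact hx1 h1

theorem exists_minimal_normal {G : Type*} [Group G] [Finite G] (K : Subgroup G) (hK : K.Normal)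
    (hK1 : K ≠ ⊥) : ∃ S : Subgroup G, S.Normal ∧ S ≠ ⊥ ∧ S ≤ K ∧
      ∀ R : Subgroup G, R.Normal → R ≠ ⊥ → R ≤ S → R = S := by
  obtain ⟨S, hS, hmin⟩ := Set.Finite.exists_minimal
    (Set.toFinite {R : Subgroup G | R.Normal ∧ R ≠ ⊥ ∧ R ≤ K}) ⟨K, hK, hK1, le_rfl⟩
  exact ⟨S, hS.1, hS.2.1, hS.2.2, fun R h1 h2 h3 =>
    le_antisymm h3 (hmin ⟨h1, h2, h3.trans hS.2.2⟩ h3)⟩

theorem exists_conj_mem {H : Type*} [Group H] [Finite H] {p : ℕ} [Fact p.Prime] (P : Sylow p H)
    {x : H} (hx : orderOf x = p) : ∃ g : H, g * x * g⁻¹ ∈ P := by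
  have hp : IsPGroup p (Subgroup.zpowers x) := by
    apply IsPGroup.of_card (n := 1)
    rw [Nat.card_zpowers, hx, pow_one]
  obtain ⟨Q, hQ⟩ := hp.exists_le_sylow
  obtain ⟨g, hg⟩ := MulAction.exists_smul_eq H Q P
  refine ⟨g, ?_⟩
  rw [← hg]
  have := Subgroup.smul_mem_pointwise_smul _ (MulAut.conj g) _ (hQ (Subgroup.mem_zpowers x))
  show g * x * g⁻¹ ∈ ((g • Q : Sylow p H) : Subgroup H)
  rw [Sylow.coe_subgroup_smul]
  simpa using this


/-- Let H be a finite group with no nontrivial normal p-subgroup and no nontrivial normal subgroup of order prime to p, whose Sylow p-subgroup P is nontrivial and a trivial-intersection set (P meets its conjugates by elements outside N_H(P) trivially). Then H has a unique minimal normal subgroup N; N is non-abelian simple with trivial centralizer in H (so H embeds in Aut(N)), and a Sylow p-subgroup of N is again a nontrivial trivial-intersection set in N. -/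
theorem result {H : Type*} [Group H] [Finite H] (p : ℕ) [Fact p.Prime] (hOp : Cfsg.pCore p H = ⊥) (hOp' : Cfsg.pPrimeCore p H = ⊥) (P : Sylow p H) (hP1 : (P : Subgroup H) ≠ ⊥)
    (hTI : ∀ g : H, g ∉ Subgroup.normalizer ((P : Subgroup H) : Set H) → (P : Subgroup H) ⊓ (MulAut.conj g • (P : Subgroup H)) = ⊥) :
    ∃ N : Subgroup H, N.Normal ∧ N ≠ ⊥ ∧ (∀ K : Subgroup H, K.Normal → K ≠ ⊥ → N ≤ K) ∧
      IsSimpleGroup N ∧ ¬ IsMulCommutative N ∧ Subgroup.centralizer (N : Set H) = ⊥ ∧
      ∀ Q : Sylow p N, (Q : Subgroup N) ≠ ⊥ ∧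
        ∀ n : N, n ∉ Subgroup.normalizer ((Q : Subgroup N) : Set N) → (Q : Subgroup N) ⊓ (MulAut.conj n • (Q : Subgroup N)) = ⊥ := by
  classical
  have hp : p.Prime := Fact.out
  have := Cfsg.Agent.HallCore.pCore_normal p H
  have := Cfsg.Agent.HallCore.pPrimeCore_normal p H
  have hHne : (⊤ : Subgroup H) ≠ ⊥ := fun h => hP1 (eq_bot_iff.mpr (h ▸ le_top))
  obtain ⟨N, hNn, hN1, -, hNmin⟩ := exists_minimal_normal (⊤ : Subgroup H) inferInstance hHne
  -- nontrivial normal subgroups meet P and do not normalize it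
  have meet : ∀ K : Subgroup H, K.Normal → K ≠ ⊥ → ∃ x ∈ K, x ∈ P ∧ x ≠ 1 := by
    intro K hK hK1
    have hdvd : p ∣ Nat.card K := by
      by_contra h
      exact hK1 (eq_bot_iff.mpr (hOp' ▸ Cfsg.Agent.HallCore.le_pPrimeCore (N := K)
        ((hp.coprime_iff_not_dvd.mpr h).symm)))
    obtain ⟨x, hx⟩ := exists_prime_orderOf_dvd_card' p hdvd
    obtain ⟨g, hg⟩ := exists_conj_mem P (x := (x : H)) (by rw [Subgroup.orderOf_coe, hx])
    refine ⟨_, hK.conj_mem _ x.2 g, hg, ?_⟩
    rw [ne_eq, conj_eq_one_iff]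
    intro h
    have : orderOf (x : H) = 1 := orderOf_eq_one_iff.mpr h
    rw [Subgroup.orderOf_coe, hx] at this
    exact hp.ne_one this
  have notle : ∀ K : Subgroup H, K.Normal → K ≠ ⊥ →
      ¬ K ≤ Subgroup.normalizer ((P : Subgroup H) : Set H) := by
    intro K hK hK1 hle
    obtain ⟨x, hxK, hxP, hx1⟩ := meet K hK hK1
    haveI : ((P : Subgroup H).subgroupOf K).Normal := ⟨fun r hr k => by
      have := (Subgroup.mem_normalizer_iff.mp (hle k.2) (r : H)).mp hr
      simpa [Subgroup.mem_subgroupOf] using this⟩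
    have hpg : IsPGroup p ((P : Subgroup H).subgroupOf K) :=
      P.isPGroup'.comap_of_injective _ K.subtype_injective
    have h := Cfsg.Agent.HallCore.le_pCore hpg (show (⟨x, hxK⟩ : K) ∈ _ from hxP)
    have h' : x ∈ (Cfsg.pCore p K).map K.subtype := ⟨_, h, rfl⟩
    have := hK
    rw [Cfsg.Agent.HallCore.map_subtype_pCore, hOp] at h'
    exact hx1 (Subgroup.mem_bot.mp (Subgroup.mem_inf.mp h').1)
  have hcomm : ∀ K : Subgroup H, K.Normal → K ≠ ⊥ → K ≤ Subgroup.centralizer (N : Set H) → False := by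
    intro K hK hK1 hle
    obtain ⟨x, hxN, hxP, hx1⟩ := meet N hNn hN1
    exact notle K hK hK1 (fun g hg => conj_mem_normalizer P hTI hxP hx1
      ((Subgroup.mem_centralizer_iff.mp (hle hg) x hxN).symm))
  have huniq : ∀ K : Subgroup H, K.Normal → K ≠ ⊥ → N ≤ K := by
    intro K hK hK1
    by_contra hle
    have h0 : N ⊓ K = ⊥ := by
      by_contra h
      have := hNmin (N ⊓ K) inferInstance h inf_le_left
      exact hle (this ▸ inf_le_right)
    refine hcomm K hK hK1 (fun k hk => Subgroup.mem_centralizer_iff.mpr fun n hn => ?_)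
    exact (Subgroup.commute_of_normal_of_disjoint N K hNn hK (disjoint_iff.mpr h0) n k hn hk).eq
  have hC : Subgroup.centralizer (N : Set H) = ⊥ := by
    by_contra h
    exact hcomm _ inferInstance h le_rfl
  have hncomm : ¬ IsMulCommutative N := by
    intro h
    apply hN1
    rw [eq_bot_iff, ← hC]
    intro n hn
    exact Subgroup.mem_centralizer_iff.mpr fun m hm =>
      congrArg Subtype.val (IsMulCommutative.is_comm.comm (⟨m, hm⟩ : N) ⟨n, hn⟩)
  haveI : Nontrivial N := (Subgroup.nontrivial_iff_ne_bot N).mpr hN1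
  have hOpN : Cfsg.pCore p N = ⊥ := by
    apply Subgroup.map_injective N.subtype_injective
    rw [Cfsg.Agent.HallCore.map_subtype_pCore, hOp]; simp
  have hOpN' : Cfsg.pPrimeCore p N = ⊥ := by
    apply Subgroup.map_injective N.subtype_injective
    rw [Cfsg.Agent.HallCore.map_subtype_pPrimeCore, hOp']; simp
  have hsimple : IsSimpleGroup N := by
    refine { eq_bot_or_eq_top_of_normal := fun M hM => ?_ }
    by_contra hne
    push Not at hne
    obtain ⟨S, hSn, hS1, hSM, hSmin⟩ := exists_minimal_normal M hM hne.1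
    have hStop : S ≠ ⊤ := fun h => hne.2 (eq_top_iff.mpr (h ▸ hSM))
    have hSp : p ∣ Nat.card S := by
      by_contra h
      exact hS1 (eq_bot_iff.mpr (hOpN' ▸ Cfsg.Agent.HallCore.le_pPrimeCore (N := S)
        ((hp.coprime_iff_not_dvd.mpr h).symm)))
    obtain ⟨x, hx⟩ := exists_prime_orderOf_dvd_card' p hSp
    obtain ⟨h₀, hh₀⟩ := exists_conj_mem P (x := ((x : N) : H))
      (by rw [Subgroup.orderOf_coe, Subgroup.orderOf_coe, hx])
    -- replace S by a conjugate meeting P
    let c : H → (N ≃* N) := fun g => MulAut.conjNormal g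
    let S' : Subgroup N := S.map (c h₀).toMonoidHom
    let x' : N := c h₀ (x : N)
    have hx'S : x' ∈ S' := ⟨_, x.2, rfl⟩
    have hx'P : (x' : H) ∈ P := by simpa [x', c] using hh₀
    have hx'1 : (x' : H) ≠ 1 := by
      intro h
      have h1 : x' = 1 := Subtype.ext h
      simp only [x', EmbeddingLike.map_eq_one_iff] at h1
      rw [OneMemClass.coe_eq_one.mp h1, orderOf_one] at hx
      exact hp.ne_one hx.symm
    haveI hS'n : S'.Normal := hSn.map _ (c h₀).surjective
    have hS'1 : S' ≠ ⊥ := fun h => hx'1 (by rw [h, Subgroup.mem_bot] at hx'S; simp [hx'S])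
    have hmin : ∀ R : Subgroup N, R.Normal → R ≠ ⊥ → ∀ g : H, R ≤ S'.map (c g).toMonoidHom →
        R = S'.map (c g).toMonoidHom := by
      intro R hR hR1 g hle
      let e : N ≃* N := (c h₀).trans (c g)
      have he : S'.map (c g).toMonoidHom = S.map e.toMonoidHom := by
        simp only [S', Subgroup.map_map]; rfl
      rw [he] at hle ⊢
      have h1 : R.comap e.toMonoidHom = S := by
        apply hSmin _ (hR.comap _)
        · intro h
          apply hR1
          rw [← Subgroup.map_comap_eq_self_of_surjective (f := e.toMonoidHom) e.surjective R, h,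
            Subgroup.map_bot]
        · intro y hy
          obtain ⟨s, hs, hse⟩ := hle hy
          exact e.injective hse ▸ hs
      rw [← h1, Subgroup.map_comap_eq_self_of_surjective (f := e.toMonoidHom) e.surjective R]
    obtain ⟨g, hg⟩ : ∃ g : H, S'.map (c g).toMonoidHom ≠ S' := by
      by_contra hall
      push Not at hall
      have : (S'.map N.subtype).Normal := ⟨fun y hy g => by
        obtain ⟨s, hs, rfl⟩ := hy
        refine ⟨c g s, ?_, by simp [c]⟩
        exact (hall g).le ⟨s, hs, rfl⟩⟩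
      have h1 := huniq _ this (fun h => hS'1 ((Subgroup.map_eq_bot_iff_of_injective _ N.subtype_injective).mp h))
      apply hStop
      have hS'top : S' = ⊤ := eq_top_iff.mpr fun y _ => by
        obtain ⟨s, hs, hsy⟩ := h1 y.2
        exact (Subtype.ext hsy : s = y) ▸ hs
      exact eq_top_iff.mpr fun y _ => by
        obtain ⟨s, hs, hsy⟩ := hS'top.ge (Subgroup.mem_top (c h₀ y))
        exact (c h₀).injective hsy ▸ hs
    set T : Subgroup N := S'.map (c g).toMonoidHom with hT
    haveI hTn : T.Normal := hS'n.map _ (c g).surjective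
    have hST : S' ⊓ T = ⊥ := by
      by_contra h
      have h1 := hmin _ inferInstance h g inf_le_right
      have h2 : T ≤ S' := by
        show S'.map (c g).toMonoidHom ≤ S'
        exact h1 ▸ inf_le_left
      exact hg (Subgroup.eq_of_le_of_card_ge h2
        (Nat.card_congr (S'.equivMapOfInjective _ (c g).injective).toEquiv).le)
    have hTP : ∀ t ∈ T, (t : H) ∈ Subgroup.normalizer ((P : Subgroup H) : Set H) := fun t ht =>
      conj_mem_normalizer P hTI hx'P hx'1 (congrArg Subtype.val
        (Subgroup.commute_of_normal_of_disjoint S' T hS'n hTn (disjoint_iff.mpr hST) x' t hx'S ht).symm.eq)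
    let t : T := ⟨c g x', x', hx'S, rfl⟩
    have htord : orderOf ((t : N) : H) = p := by
      rw [Subgroup.orderOf_coe]
      show orderOf (c g x') = p
      rw [MulEquiv.orderOf_eq]
      show orderOf (c h₀ (x : N)) = p
      rw [MulEquiv.orderOf_eq, Subgroup.orderOf_coe, hx]
    have htP : ((t : N) : H) ∈ P := by
      have hpg : IsPGroup p (Subgroup.zpowers ((t : N) : H)) :=
        IsPGroup.of_card (n := 1) (by rw [Nat.card_zpowers, htord, pow_one])
      exact ((IsPGroup.inf_normalizer_sylow hpg P).le ⟨Subgroup.mem_zpowers _, hTP _ t.2⟩).2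
    haveI : (((P : Subgroup H).subgroupOf N).subgroupOf T).Normal := ⟨fun r hr k => by
      have := (Subgroup.mem_normalizer_iff.mp (hTP k k.2) ((r : N) : H)).mp hr
      simpa [Subgroup.mem_subgroupOf] using this⟩
    have hR : (Cfsg.pCore p T).map T.subtype ≠ ⊥ := by
      intro h
      have h1 : t ∈ Cfsg.pCore p T := Cfsg.Agent.HallCore.le_pCore (N := ((P : Subgroup H).subgroupOf N).subgroupOf T)
        ((P.isPGroup'.comap_of_injective _ N.subtype_injective).comap_of_injective _ T.subtype_injective)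
        (show t ∈ ((P : Subgroup H).subgroupOf N).subgroupOf T from htP)
      have h2 : (t : N) ∈ (⊥ : Subgroup N) := h ▸ ⟨t, h1, rfl⟩
      rw [Subgroup.mem_bot] at h2
      rw [h2] at htord
      simp only [OneMemClass.coe_one, orderOf_one] at htord
      exact hp.ne_one htord.symm
    have := Cfsg.Agent.HallCore.pCore_characteristic p T
    have hmap := hmin ((Cfsg.pCore p T).map T.subtype) inferInstance hR g (Subgroup.map_subtype_le _)
    apply hR
    rw [eq_bot_iff, ← hOpN, hmap]
    apply Cfsg.Agent.HallCore.le_pCore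
    show IsPGroup p T
    rw [← Cfsg.Agent.HallCore.pCore_eq_top_iff]
    apply Subgroup.map_injective T.subtype_injective
    rw [hmap, ← MonoidHom.range_eq_map, Subgroup.range_subtype]
  refine ⟨N, hNn, hN1, huniq, hsimple, hncomm, hC, fun Q => ?_⟩
  obtain ⟨P', hQP'⟩ := (Q.isPGroup'.map N.subtype).exists_le_sylow
  have hQeq : (Q : Subgroup N) = (P' : Subgroup H).subgroupOf N :=
    (Q.is_maximal' (P'.isPGroup'.comap_of_injective _ N.subtype_injective)
      (fun q hq => hQP' ⟨q, hq, rfl⟩)).symm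
  refine ⟨?_, fun n hn => ?_⟩
  · obtain ⟨x, hxN, hxP, hx1⟩ := meet N hNn hN1
    apply Sylow.ne_bot_of_dvd_card
    have hxord : p ∣ orderOf (⟨x, hxP⟩ : (P : Subgroup H)) := by
      obtain ⟨k, hk⟩ := IsPGroup.iff_orderOf.mp P.isPGroup' ⟨x, hxP⟩
      rw [hk]
      rcases k with _ | k
      · rw [pow_zero, orderOf_eq_one_iff] at hk
        exact absurd (congrArg Subtype.val hk) hx1
      · exact dvd_pow_self p k.succ_ne_zero
    refine hxord.trans ?_
    have e1 : orderOf (⟨x, hxP⟩ : (P : Subgroup H)) = orderOf x := (Subgroup.orderOf_coe _).symm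
    have e2 : orderOf (⟨x, hxN⟩ : N) = orderOf x := (Subgroup.orderOf_coe _).symm
    rw [e1, ← e2]
    exact orderOf_dvd_natCard _
  · obtain ⟨g, hg⟩ := MulAction.exists_smul_eq H P P'
    have hg' : (P' : Subgroup H) = MulAut.conj g • (P : Subgroup H) := by
      rw [← hg, Sylow.coe_subgroup_smul]
    have hn' : g⁻¹ * (n : H) * g ∉ Subgroup.normalizer ((P : Subgroup H) : Set H) := by
      intro h
      apply hn
      rw [hQeq, Subgroup.mem_normalizer_iff]
      intro y
      rw [Subgroup.mem_subgroupOf, Subgroup.mem_subgroupOf, hg',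
        Subgroup.mem_pointwise_smul_iff_inv_smul_mem, Subgroup.mem_pointwise_smul_iff_inv_smul_mem]
      have := Subgroup.mem_normalizer_iff.mp h (g⁻¹ * (y : H) * g)
      simpa [mul_assoc] using this
    rw [eq_bot_iff]
    intro y hy
    obtain ⟨hy1, hy2⟩ := hy
    replace hy1 : y ∈ (Q : Subgroup N) := hy1
    replace hy2 : y ∈ MulAut.conj n • (Q : Subgroup N) := hy2
    rw [hQeq, Subgroup.mem_subgroupOf, hg',
      Subgroup.mem_pointwise_smul_iff_inv_smul_mem] at hy1
    rw [Subgroup.mem_pointwise_smul_iff_inv_smul_mem, hQeq, Subgroup.mem_subgroupOf,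
      hg', Subgroup.mem_pointwise_smul_iff_inv_smul_mem] at hy2
    have : g⁻¹ * (y : H) * g ∈ (P : Subgroup H) ⊓
        (MulAut.conj (g⁻¹ * (n : H) * g) • (P : Subgroup H)) := by
      refine ⟨show g⁻¹ * (y : H) * g ∈ (P : Subgroup H) by simpa [mul_assoc] using hy1, ?_⟩
      show g⁻¹ * (y : H) * g ∈ MulAut.conj _ • (P : Subgroup H)
      rw [Subgroup.mem_pointwise_smul_iff_inv_smul_mem]
      simpa [mul_assoc] using hy2
    rw [hTI _ hn', Subgroup.mem_bot] at this
    have h2 : (y : H) = 1 := by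
      have h3 := congrArg (fun z => g * z * g⁻¹) this
      simpa [mul_assoc] using h3
    exact Subgroup.mem_bot.mpr (Subtype.ext h2)

end Cfsg.Agent.S4620
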