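import Cfsg.Statements.S4625
import Cfsg.Agent.Lib.SqDerivedLinear48
import Cfsg.Agent.Lib.SqDerivedClassical48
import Cfsg.Agent.Lib.SqDerivedExc48
-- import your own Cfsg.Agent.* helpers here

set_option autoImplicit false
open Cfsg

namespace Cfsg.Agent.S4625

open Cfsg.Agent.SqDerivedBasic48 Cfsg.Agent.SqDerivedLinear48 Cfsg.Agent.SqDerivedClassical48
  Cfsg.Agent.SqDerivedExc48 Cfsg.Lie

theorem exists_frob {K : Type} [Field K] [Fintype K] [CharP K 2] {q : ℕ} (hq : q ∣ Fintype.card K) :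
    ∃ f : K →+* K, ∀ t, f t = t ^ q := by
  obtain ⟨e, hp, he⟩ := FiniteField.card K 2
  obtain ⟨k, -, hk⟩ := (Nat.dvd_prime_pow hp).1 (he ▸ hq)
  exact ⟨iterateFrobenius K 2 k, fun t => by rw [iterateFrobenius_def, hk]⟩

theorem char_two_of_card {K : Type} [Field K] [Fintype K] {n : ℕ} (h : Fintype.card K = 2 ^ (2 * n + 1)) :
    CharP K 2 :=
  haveI : Fact (Nat.Prime 2) := ⟨Nat.prime_two⟩
  charP_of_card_eq_prime_pow h

theorem finite_gl {K : Type} [Field K] [Fintype K] {D : ChevalleyDatum} (H : Subgroup (GL D.Idx K)) :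
    Finite ↥H := inferInstance

theorem good_of_lieTypeChar {G : Type*} [Group G] (hG : Cfsg.IsLieTypeChar 2 G) : Good G := by
  rcases hG with ⟨F, _, _, _, n, hn, -, ⟨e⟩⟩ | ⟨F, _, _, _, m, -, -, ⟨e⟩⟩ | ⟨F, _, _, _, n, q, hq, -, -, ⟨e⟩⟩ |
    ⟨F, _, _, _, m, -, hodd, -⟩ | ⟨F, _, _, _, m, hm, ⟨e⟩⟩ | ⟨F, _, _, _, m, a, b, hm, hab, ⟨e⟩⟩ |
    ⟨F, _, _, _, hF⟩ | ⟨K, _, _, _, q, -, hK⟩ | ⟨-, F, _, _, m, hm, hF, ⟨e⟩⟩ | ⟨-, K, _, _, m, hm, hK, ⟨e⟩⟩ | ⟨h3, -⟩
  · exact good_congr e.symm (good_PSL hn)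
  · exact good_congr e.symm (good_PSp m)
  · exact good_congr e.symm (good_PSU hq)
  · obtain ⟨k, -, hk⟩ := FiniteField.card F 2
    rw [hk] at hodd
    exact absurd ((Nat.odd_pow_iff k.pos.ne').1 hodd) (by decide)
  · exact good_congr e.symm (good_POmega_plus (by omega))
  · exact good_congr e.symm (good_POmega_minus (by omega) hab)
  · have go : ∀ (D : ChevalleyDatum) (_ : D ∈ [chevG2, chevB2, chevD4, chevF4, chevE6, chevE7, chevE8]),
        Good ↥(D.group F) := fun D hD =>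
      good_chev (ChevalleyAll.cert D hD) (ChevBruhatInstance.sys D hD F)
    rcases hF with ⟨-, ⟨e⟩⟩ | ⟨⟨e⟩⟩ | ⟨⟨e⟩⟩ | ⟨⟨e⟩⟩ | ⟨⟨e⟩⟩
    · exact good_congr e.symm (go chevG2 (by simp))
    · exact good_congr e.symm (go chevF4 (by simp))
    · exact good_congr e.symm (go chevE6 (by simp))
    · exact good_congr e.symm (go chevE7 (by simp))
    · exact good_congr e.symm (go chevE8 (by simp))
  · rcases hK with ⟨hc, ⟨e⟩⟩ | ⟨hc, ⟨e⟩⟩
    · obtain ⟨f, hf⟩ := exists_frob (show q ∣ Fintype.card K from hc ▸ dvd_pow_self q two_ne_zero)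
      haveI := finite_gl (twistedE6 K q)
      exact good_congr e.symm (good_E6 hc f hf)
    · obtain ⟨f, hf⟩ := exists_frob (show q ∣ Fintype.card K from hc ▸ dvd_pow_self q three_ne_zero)
      haveI := finite_gl (twistedD4 K q)
      exact good_congr e.symm (good_D4 hc f hf)
  · exact good_congr e.symm (good_suzuki hm hF)
  · haveI := char_two_of_card hK
    haveI := finite_gl (twistedF4 K (2 ^ m))
    exact good_congr e.symm (good_F4 hm hK)
  · exact absurd h3 (by norm_num)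

/-- Let G be a finite simple group of Lie type in characteristic 2, not counting the Tits group ²F₄(2)′. Then a Sylow 2-subgroup P of G has P/P' elementary abelian: the square of every element of P lies in the derived subgroup of P. -/
theorem result {G : Type*} [Group G] [Finite G] [IsSimpleGroup G] (hG : Cfsg.IsLieTypeChar 2 G) (P : Sylow 2 G) :
    ∀ x : (P : Subgroup G), x ^ 2 ∈ commutator (P : Subgroup G) := by
  exact good_of_lieTypeChar hG P

end Cfsg.Agent.S4625
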