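import Cfsg.Statements.S4626
import Mathlib
import Cfsg.Agent.Lib.CharBasicOrth
import Cfsg.Agent.Lib.BlockTheoryLocalRing
-- import your own Cfsg.Agent.* helpers here

set_option autoImplicit false
open Cfsg

namespace Cfsg.Agent.S4626

open scoped ComplexConjugate Pointwise

theorem exists_classScalar {Q : Type*} [Group Q] [Fintype Q] {n : ℕ}
    (ρ : Representation ℂ Q (Fin n → ℂ)) [ρ.IsIrreducible] (g : Q) :
    ∃ w : ℂ, IsIntegral ℤ w ∧ ∀ S : Finset Q, (∀ x, x ∈ S ↔ IsConj g x) →
      ∑ x ∈ S, ρ.character x = w * n := by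
  classical
  set S₀ : Finset Q := Finset.univ.filter (fun x => IsConj g x) with hS₀
  let f : Module.End ℂ (Fin n → ℂ) := ∑ x ∈ S₀, ρ x
  have hcomm : ∀ h : Q, Commute f (ρ h) := by
    intro h
    show f * ρ h = ρ h * f
    rw [Finset.sum_mul, Finset.mul_sum]
    refine Finset.sum_equiv (MulAut.conj h⁻¹).toEquiv (fun x => ?_) (fun x _ => ?_)
    · simp only [hS₀, Finset.mem_filter, Finset.mem_univ, true_and]
      have hx : IsConj x ((MulAut.conj h⁻¹).toEquiv x) := isConj_iff.mpr ⟨h⁻¹, rfl⟩
      exact ⟨fun e => e.trans hx, fun e => e.trans hx.symm⟩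
    · show ρ x * ρ h = ρ h * ρ ((MulAut.conj h⁻¹) x)
      rw [← map_mul, ← map_mul]
      congr 1
      simp [mul_assoc]
  obtain ⟨w, hw, hwt⟩ := CharBasic.exists_scalar_of_commute ρ f (fun h v => LinearMap.congr_fun (hcomm h).eq v)
  refine ⟨w, ?_, fun S hS => ?_⟩
  · have : Nontrivial (Fin n → ℂ) := CharBasic.nontrivial_of_irreducible ρ
    let φ : MonoidAlgebra ℤ Q →ₐ[ℤ] Module.End ℂ (Fin n → ℂ) :=
      MonoidAlgebra.lift ℤ _ Q (ρ : Q →* Module.End ℂ (Fin n → ℂ))
    have h1 : IsIntegral ℤ (∑ x ∈ S₀, MonoidAlgebra.single x (1 : ℤ)) :=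
      IsIntegral.of_finite ℤ _
    have h2 : IsIntegral ℤ f := by
      have h3 := h1.map φ
      rw [map_sum] at h3
      convert h3 using 2 with x hx
      simp [φ]
    have h4 : f = algebraMap ℂ (Module.End ℂ (Fin n → ℂ)) w := by
      rw [hw, Algebra.algebraMap_eq_smul_one]; rfl
    rw [h4] at h2
    exact (isIntegral_algebraMap_iff
      (FaithfulSMul.algebraMap_injective ℂ (Module.End ℂ (Fin n → ℂ)))).mp h2
  · have hSS : S = S₀ := Finset.ext fun x => by simp [hS₀, hS]
    rw [hSS]
    simp only [f, map_sum, Module.finrank_pi, Fintype.card_fin] at hwt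
    rw [mul_comm] at hwt
    exact hwt

theorem apply_one_dvd_card {Q : Type*} [Group Q] [Finite Q] {χ : Q → ℂ}
    (hχ : Cfsg.IsIrrCharacter Q χ) : ∃ d : ℕ, χ 1 = d ∧ d ∣ Nat.card Q := by
  classical
  have := Fintype.ofFinite Q
  obtain ⟨n, ρ, hρ, rfl⟩ := hχ
  have hn : 0 < n := by simpa using CharBasic.finrank_pos_of_irreducible ρ
  refine ⟨n, by simp [Representation.character], ?_⟩
  choose w hwi hw using exists_classScalar ρ
  have hself := CharBasicOrth.classInner_irr_self (G := Q) (χ := ρ.character) ⟨n, ρ, hρ, rfl⟩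
  have h1 : ∀ g : Q, ρ.character g * ((Finset.univ.filter (fun x => IsConj g x)).card : ℂ) = w g * n := by
    intro g
    rw [← hw g (Finset.univ.filter (fun x => IsConj g x)) (fun x => by simp), Finset.sum_congr rfl (fun x hx =>
      (CharBasic.apply_eq_of_isConj (CharBasic.isClassFunction_character ρ)
        (Finset.mem_filter.1 hx).2).symm), Finset.sum_const, nsmul_eq_mul, mul_comm]
  have h2 : ∑ g : Q, ρ.character g * conj (ρ.character g) =
      ∑ c : ConjClasses Q, w c.out * n * conj (ρ.character c.out) := by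
    rw [← Finset.sum_fiberwise Finset.univ ConjClasses.mk (fun g => ρ.character g * conj (ρ.character g))]
    refine Finset.sum_congr rfl fun c _ => ?_
    have hmem : ∀ x : Q, ConjClasses.mk x = c ↔ IsConj c.out x := fun x => by
      conv_lhs => rw [← Quotient.out_eq c]
      exact ConjClasses.mk_eq_mk_iff_isConj.trans ⟨IsConj.symm, IsConj.symm⟩
    rw [Finset.filter_congr (fun x _ => hmem x), Finset.sum_congr rfl (fun x hx => by
      rw [← CharBasic.apply_eq_of_isConj (CharBasic.isClassFunction_character ρ)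
        (Finset.mem_filter.1 hx).2]), Finset.sum_const, nsmul_eq_mul, ← h1]
    ring
  have h3 : (algebraMap ℚ ℂ ((Nat.card Q : ℚ) / n)) =
      ∑ c : ConjClasses Q, w c.out * conj (ρ.character c.out) := by
    have hne : (n : ℂ) ≠ 0 := Nat.cast_ne_zero.mpr hn.ne'
    rw [map_div₀, map_natCast, map_natCast, div_eq_iff hne, Finset.sum_mul]
    rw [Cfsg.classInner, h2] at hself
    have hQ : (Nat.card Q : ℂ) ≠ 0 := Nat.cast_ne_zero.mpr Nat.card_pos.ne'
    rw [inv_mul_eq_one₀ hQ] at hself
    rw [hself]
    exact Finset.sum_congr rfl fun c _ => by ring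
  have h4 : IsIntegral ℤ (algebraMap ℚ ℂ ((Nat.card Q : ℚ) / n)) := by
    rw [h3]
    exact IsIntegral.sum _ fun c _ => (hwi _).mul
      (by rw [← CharBasic.character_inv]; exact CharBasic.isIntegral_character ρ _)
  rw [isIntegral_algebraMap_iff (algebraMap ℚ ℂ).injective,
    IsIntegrallyClosed.isIntegral_iff] at h4
  obtain ⟨k, hk⟩ := h4
  have h6 : (k : ℚ) = (Nat.card Q : ℚ) / n := by simpa using hk
  rw [eq_div_iff (Nat.cast_ne_zero.mpr hn.ne')] at h6
  have : (Nat.card Q : ℤ) = n * k := by exact_mod_cast (by linarith : (Nat.card Q : ℚ) = n * k)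
  exact Int.natCast_dvd_natCast.mp ⟨k, this⟩

theorem degree_dvd_index {G : Type*} [Group G] [Finite G] (N : Subgroup G) [N.Normal] {χ : G → ℂ}
    (hχ : Cfsg.IsIrrCharacter G χ) (hker : ∀ n ∈ N, χ n = χ 1) :
    ∃ d : ℕ, χ 1 = d ∧ d ∣ N.index := by
  obtain ⟨n, ρ, hρ, rfl⟩ := hχ
  have h1 : N ≤ (ρ : G →* Module.End ℂ (Fin n → ℂ)).ker := by
    intro g hg
    rw [MonoidHom.mem_ker]
    show ρ g = LinearMap.id
    apply CharBasic.eq_one_of_character_eq_finrank
    rw [hker g hg]
    simp [Representation.character]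
  let σ : Representation ℂ (G ⧸ N) (Fin n → ℂ) := QuotientGroup.lift N ρ h1
  have hσ : ρ = CharBasic.repComap (QuotientGroup.mk' N) σ := MonoidHom.ext fun g => rfl
  have hσi : σ.IsIrreducible := by
    let e : Subrepresentation σ ≃o Subrepresentation ρ :=
      { toFun := fun U => ⟨U.toSubmodule, fun h v hv => U.apply_mem_toSubmodule (QuotientGroup.mk' N h) hv⟩
        invFun := fun U => ⟨U.toSubmodule, fun g v hv => by
          obtain ⟨h, rfl⟩ := QuotientGroup.mk'_surjective N g
          exact U.apply_mem_toSubmodule h hv⟩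
        left_inv := fun U => rfl
        right_inv := fun U => rfl
        map_rel_iff' := Iff.rfl }
    exact e.isSimpleOrder_iff.2 hρ
  obtain ⟨d, hd1, hd2⟩ := apply_one_dvd_card (χ := σ.character) ⟨n, σ, hσi, rfl⟩
  refine ⟨d, ?_, by simpa [Subgroup.index] using hd2⟩
  rw [← hd1]
  simp [Representation.character]


/-- Let G be a finite group, p a prime, M a maximal ideal of the algebraic integers containing p, P a Sylow p-subgroup of G and N a normal subgroup of index prime to p containing the centralizer C_G(P). Then every irreducible character of G whose kernel contains N lies in the principal p-block of G. -/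
theorem result {G : Type*} [Group G] [Finite G] (p : ℕ) [Fact p.Prime] (M : Ideal Cfsg.AlgInt) (hM : Cfsg.IsPModular p M) (P : Sylow p G) (N : Subgroup G) [N.Normal] (hidx : ¬ p ∣ N.index)
    (hC : Subgroup.centralizer ((P : Subgroup G) : Set G) ≤ N) (χ : Cfsg.IrrCharacter G) (hker : ∀ n ∈ N, (χ : G → ℂ) n = (χ : G → ℂ) 1) :
    χ ∈ Cfsg.principalBlock M G := by
  obtain ⟨d, hd, hdvd⟩ := degree_dvd_index N χ.2 hker
  have hpd : ¬ p ∣ d := fun h => hidx (h.trans hdvd)
  have hd0 : (d : ℂ) ≠ 0 := by
    rw [← hd]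
    exact CharBasic.isIrrCharacter_apply_one_ne_zero χ.2
  show Cfsg.SameBlock M (fun _ : G => (1 : ℂ)) (χ : G → ℂ)
  intro g
  simp only [Cfsg.centralChar, mul_one, div_one]
  by_cases hg : g ∈ N
  · rw [hker g hg, mul_div_assoc, div_self (hd ▸ hd0), mul_one, sub_self]
    exact BlockTheoryLocalRing.ideal_zero hM
  · have hdvd' : p ∣ (Subgroup.centralizer ({g} : Set G)).index := by
      by_contra hnd
      apply hg
      obtain ⟨Q, hQ⟩ : ∃ Q : Sylow p G, (Q : Subgroup G) ≤ Subgroup.centralizer ({g} : Set G) := by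
        let R : Sylow p (Subgroup.centralizer ({g} : Set G)) := default
        obtain ⟨Q, hQ⟩ := (R.isPGroup'.map (Subgroup.centralizer ({g} : Set G)).subtype).exists_le_sylow
        refine ⟨Q, ?_⟩
        have hcard : Nat.card Q ≤ Nat.card ((R : Subgroup (Subgroup.centralizer ({g} : Set G))).map
            (Subgroup.centralizer ({g} : Set G)).subtype) := by
          rw [← Nat.card_congr ((R : Subgroup (Subgroup.centralizer ({g} : Set G))).equivMapOfInjective _
            (Subgroup.subtype_injective _)).toEquiv, Q.card_eq_multiplicity, R.card_eq_multiplicity]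
          refine Nat.pow_le_pow_right (Fact.out : p.Prime).pos ?_
          rw [← Subgroup.card_mul_index (Subgroup.centralizer ({g} : Set G)),
            Nat.factorization_mul Nat.card_pos.ne' Subgroup.index_ne_zero_of_finite]
          simp [Nat.factorization_eq_zero_of_not_dvd hnd]
        rw [← Subgroup.eq_of_le_of_card_ge hQ hcard]
        exact Subgroup.map_subtype_le _
      obtain ⟨c, hc⟩ := MulAction.exists_smul_eq G Q P
      have hcg : c * g * c⁻¹ ∈ Subgroup.centralizer ((P : Subgroup G) : Set G) := by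
        rw [Subgroup.mem_centralizer_iff]
        intro u hu
        rw [← hc] at hu
        have hu' : u ∈ MulAut.conj c • (Q : Subgroup G) := by
          rw [← Sylow.coe_subgroup_smul]; exact hu
        rw [Subgroup.mem_pointwise_smul_iff_inv_smul_mem] at hu'
        have h2 := Subgroup.mem_centralizer_singleton_iff.mp (hQ hu')
        simp only [MulAut.smul_def, ← map_inv, MulAut.conj_apply, inv_inv] at h2
        calc u * (c * g * c⁻¹) = c * ((c⁻¹ * u * c) * g) * c⁻¹ := by group
          _ = c * (g * (c⁻¹ * u * c)) * c⁻¹ := by rw [h2]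
          _ = _ := by group
      have := (inferInstance : N.Normal).conj_mem _ (hC hcg) c⁻¹
      simpa [mul_assoc] using this
    refine BlockTheoryLocalRing.ideal_sub hM ?_ ?_
    · exact (BlockTheoryLocalRing.natCast_mem_iff hM).mpr hdvd'
    · rw [hd, mul_div_assoc]
      refine BlockTheoryLocalRing.ideal_mul_right hM
        ((BlockTheoryLocalRing.natCast_mem_iff hM).mpr hdvd') ?_
      rw [div_eq_mul_inv]
      exact (BlockTheoryLocalRing.localRing hM).mul_mem
        (BlockTheoryLocalRing.of_isIntegral hM (CharBasic.isCharacter_integral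
          (CharBasic.isCharacter_of_isIrrCharacter χ.2) g))
        (BlockTheoryLocalRing.inv_natCast_mem hM hpd)

end Cfsg.Agent.S4626
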