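import Cfsg.Statements.S4632
import Cfsg.Agent.Lib.ZornSylowTwo50
-- import your own Cfsg.Agent.* helpers here

set_option autoImplicit false
open Cfsg

namespace Cfsg.Agent.S4632

variable {F : Type*} [Field F]

open Matrix Cfsg.Agent.ZornSylowTwo50

theorem exists_two_part (q : ℕ) (hq : 3 ≤ q) (hodd : Odd q) :
    ∃ n, 3 ≤ n ∧ 2 ^ n ∣ q ^ 2 - 1 ∧ ¬ 2 ^ (n + 1) ∣ q ^ 2 - 1 := by
  obtain ⟨k, rfl⟩ := hodd
  have he : (2 * k + 1) ^ 2 - 1 = 4 * (k * (k + 1)) := by
    rw [show (2 * k + 1) ^ 2 = 4 * (k * (k + 1)) + 1 by ring]; simp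
  obtain ⟨c, hc⟩ := Nat.even_mul_succ_self k
  have h8 : (2 * k + 1) ^ 2 - 1 = 2 ^ 3 * c := by rw [he, hc]; ring
  have hne : (2 * k + 1) ^ 2 - 1 ≠ 0 := by
    rw [he]
    exact Nat.mul_ne_zero (by norm_num) (Nat.mul_ne_zero (by omega) (by omega))
  refine ⟨((2 * k + 1) ^ 2 - 1).factorization 2, ?_, Nat.ordProj_dvd _ _, fun h => ?_⟩
  · exact (Nat.prime_two.pow_dvd_iff_le_factorization hne).1 (h8 ▸ dvd_mul_right _ _)
  · have := (Nat.prime_two.pow_dvd_iff_le_factorization hne).1 h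
    omega

theorem not_square_of_order {u : Fˣ} {a : ℕ} (ha : 1 ≤ a) (hu : orderOf u = 2 ^ a) [Fintype F]
    (hmax : ¬ 2 ^ (a + 1) ∣ Fintype.card F - 1) (c : F) : c * c ≠ (u : F) := by
  classical
  intro h
  have hc : c ≠ 0 := fun e => u.ne_zero (by rw [← h, e, mul_zero])
  set v : Fˣ := Units.mk0 c hc
  have hv : v ^ 2 = u := Units.ext (by simp [v, sq, h])
  apply hmax
  have h1 : orderOf v = 2 ^ (a + 1) := by
    have : Fact (Nat.Prime 2) := ⟨Nat.prime_two⟩
    refine orderOf_eq_prime_pow ?_ ?_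
    · rw [show (2 : ℕ) ^ a = 2 * 2 ^ (a - 1) by rw [← pow_succ']; congr 1; omega, pow_mul, hv]
      intro e
      have := Nat.le_of_dvd (by positivity) (hu ▸ orderOf_dvd_of_pow_eq_one e)
      have : 2 ^ (a - 1) < 2 ^ a := Nat.pow_lt_pow_right (by norm_num) (by omega)
      omega
    · rw [pow_succ', pow_mul, hv, ← hu, pow_orderOf_eq_one]
  have : orderOf v ∣ Fintype.card Fˣ := orderOf_dvd_card
  rwa [h1, Fintype.card_units] at this

theorem half_eq_neg_one {u : Fˣ} {a : ℕ} (ha : 1 ≤ a) (hu : orderOf u = 2 ^ a) :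
    (u : F) ^ 2 ^ (a - 1) = -1 := by
  have h1 : ((u : F) ^ 2 ^ (a - 1)) * ((u : F) ^ 2 ^ (a - 1)) = 1 := by
    rw [← pow_add, ← two_mul, ← pow_succ', show a - 1 + 1 = a by omega, ← Units.val_pow_eq_pow_val,
      ← hu, pow_orderOf_eq_one, Units.val_one]
  rcases mul_self_eq_one_iff.1 h1 with h | h
  · exfalso
    have h2 : u ^ 2 ^ (a - 1) = 1 := Units.ext (by simpa using h)
    have := Nat.le_of_dvd (by positivity) (hu ▸ orderOf_dvd_of_pow_eq_one h2)
    have : 2 ^ (a - 1) < 2 ^ a := Nat.pow_lt_pow_right (by norm_num) (by omega)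
    omega
  · exact h

theorem exists_sum_sq [Fintype F] (hodd : Fintype.card F % 2 = 1) (x : F) :
    ∃ a b : F, a ^ 2 + b ^ 2 = x := by
  obtain ⟨a, b, hab⟩ : ∃ a b : F, (Polynomial.X ^ 2 : Polynomial F).eval a +
      (Polynomial.X ^ 2 - Polynomial.C x).eval b = 0 :=
    FiniteField.exists_root_sum_quadratic (Polynomial.degree_X_pow 2)
      (Polynomial.degree_X_pow_sub_C (by decide) _) hodd
  refine ⟨a, b, ?_⟩
  rw [← sub_eq_zero]
  simpa [← add_sub_assoc] using hab

theorem exists_data_split [Fintype F] (hq : Fintype.card F % 4 = 1) : Nonempty (TwoData F) := by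
  classical
  have h3 : 3 ≤ Fintype.card F := by
    have := Fintype.one_lt_card (α := F)
    omega
  have hodd : Odd (Fintype.card F) := Nat.odd_iff.2 (by omega)
  obtain ⟨n, hn3, hn, hn'⟩ := exists_two_part _ h3 hodd
  obtain ⟨a, rfl⟩ : ∃ a, n = a + 1 := ⟨n - 1, by omega⟩
  set q := Fintype.card F
  have hfac : q ^ 2 - 1 = (q - 1) * (q + 1) := by rw [mul_comm]; exact Nat.sq_sub_sq q 1
  obtain ⟨k, hk⟩ : ∃ k, q + 1 = 2 * (2 * k + 1) := ⟨q / 4, by omega⟩
  have hcop : ∀ i, Nat.Coprime (2 ^ i) (2 * k + 1) := fun i =>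
    (Nat.coprime_two_left.2 ⟨k, rfl⟩).pow_left i
  have hd : 2 ^ a ∣ q - 1 := by
    rw [hfac, hk, pow_succ', ← mul_assoc, mul_comm (q - 1) 2, mul_assoc] at hn
    exact (hcop a).dvd_of_dvd_mul_right (Nat.dvd_of_mul_dvd_mul_left two_pos hn)
  have hd' : ¬ 2 ^ (a + 1) ∣ q - 1 := fun h => hn' (by
    rw [hfac, hk, pow_succ]
    exact Nat.mul_dvd_mul h (dvd_mul_right 2 _))
  obtain ⟨g, hg⟩ := IsCyclic.exists_ofOrder_eq_natCard (α := Fˣ)
  rw [Nat.card_eq_fintype_card, Fintype.card_units] at hg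
  set u := g ^ ((q - 1) / 2 ^ a)
  have hu : orderOf u = 2 ^ a := by
    rw [orderOf_pow_of_dvd (Nat.div_pos (Nat.le_of_dvd (by omega) hd) (by positivity)).ne'
      (by rw [hg]; exact Nat.div_dvd_of_dvd hd), hg, Nat.div_div_self hd (by omega)]
  let R : GL (Fin 2) F :=
    ⟨!![(u : F), 0; 0, 1], !![(u⁻¹ : Fˣ), 0; 0, 1],
      by ext i j; fin_cases i <;> fin_cases j <;> simp,
      by ext i j; fin_cases i <;> fin_cases j <;> simp⟩
  let j : GL (Fin 2) F :=
    ⟨!![0, 1; -1, 0], !![0, -1; 1, 0],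
      by ext i j; fin_cases i <;> fin_cases j <;> simp,
      by ext i j; fin_cases i <;> fin_cases j <;> simp⟩
  have hdet : GeneralLinearGroup.det R = u := by
    ext; rw [GeneralLinearGroup.val_det_apply]; simp [R, Matrix.det_fin_two]
  have hpow : ∀ (x y : F) (i : ℕ), (!![x, 0; 0, y] : Matrix (Fin 2) (Fin 2) F) ^ i = !![x ^ i, 0; 0, y ^ i] := by
    intro x y i
    induction i with
    | zero => ext i j; fin_cases i <;> fin_cases j <;> simp
    | succ i ih => rw [pow_succ, ih]; ext i j; fin_cases i <;> fin_cases j <;> simp [pow_succ]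
  refine ⟨{ R := R, j := j, a := a, m := a, one_lt := by omega, j_sq := ?_, j_det := ?_, conj := ?_, nonsq := ?_, pow_m := ?_, top := ?_, two_part := ?_ }⟩
  · ext i l; fin_cases i <;> fin_cases l <;> simp [j]
  · ext; rw [GeneralLinearGroup.val_det_apply]; simp [j, Matrix.det_fin_two]
  · rw [hdet]
    ext i l
    fin_cases i <;> fin_cases l <;> simp [R, j, sc_coe]
  · rw [hdet]
    exact not_square_of_order (by omega) hu hd'
  · refine Units.ext ?_
    rw [Units.val_pow_eq_pow_val]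
    show (!![(u : F), 0; 0, 1] : Matrix (Fin 2) (Fin 2) F) ^ _ = _
    rw [hpow, ← Units.val_pow_eq_pow_val, ← hu, pow_orderOf_eq_one]
    ext i l; fin_cases i <;> fin_cases l <;> simp
  · have hT : ((sc (GeneralLinearGroup.det R)⁻¹ * (R * R) : GL (Fin 2) F) : Matrix (Fin 2) (Fin 2) F) =
        !![(u : F), 0; 0, ((u⁻¹ : Fˣ) : F)] := by
      rw [hdet, Units.val_mul, sc_coe]
      ext i l
      fin_cases i <;> fin_cases l <;> simp [R]
    refine Units.ext ?_
    rw [Units.val_pow_eq_pow_val, hT, hpow, half_eq_neg_one (by omega) hu,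
      half_eq_neg_one (u := u⁻¹) (by omega) (by rw [orderOf_inv, hu])]
    ext i l; fin_cases i <;> fin_cases l <;> simp
  · intro q' hq'
    rw [Nat.card_eq_fintype_card] at hq'
    subst hq'
    exact ⟨hn', hodd⟩

theorem exists_data_nonsplit [Fintype F] (hq : Fintype.card F % 4 = 3) : Nonempty (TwoData F) := by
  classical
  have h3 : 3 ≤ Fintype.card F := by omega
  have hodd : Odd (Fintype.card F) := Nat.odd_iff.2 (by omega)
  obtain ⟨n, hn3, hn, hn'⟩ := exists_two_part _ h3 hodd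
  obtain ⟨a, rfl⟩ : ∃ a, n = a + 1 := ⟨n - 1, by omega⟩
  set q := Fintype.card F with hqdef
  have hfac : q ^ 2 - 1 = (q + 1) * (q - 1) := Nat.sq_sub_sq q 1
  obtain ⟨k, hk⟩ : ∃ k, q - 1 = 2 * (2 * k + 1) := ⟨q / 4, by omega⟩
  have hd : 2 ^ a ∣ q + 1 := by
    rw [hfac, hk, pow_succ', ← mul_assoc, mul_comm (q + 1) 2, mul_assoc] at hn
    exact ((Nat.coprime_two_left.2 ⟨k, rfl⟩).pow_left a).dvd_of_dvd_mul_right
      (Nat.dvd_of_mul_dvd_mul_left two_pos hn)
  obtain ⟨l, hl⟩ : ∃ l, q + 1 = 2 ^ a * l := hd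
  have hlodd : Odd l := by
    rcases Nat.even_or_odd l with ⟨c, rfl⟩ | h
    · exfalso
      apply hn'
      rw [hfac, hl, hk, pow_succ, pow_succ]
      exact Nat.mul_dvd_mul ⟨c, by ring⟩ (dvd_mul_right 2 _)
    · exact h
  have hsq : ∀ c : F, c * c ≠ -1 := fun c h => by
    have hh : IsSquare (-1 : F) := ⟨c, h.symm⟩
    rw [FiniteField.isSquare_neg_one_iff] at hh
    omega
  have h2 : ringChar F ≠ 2 := fun h => by
    have := FiniteField.even_card_of_char_two h
    omega
  obtain ⟨x, y, hxy⟩ := exists_sum_sq (F := F) (by omega) (-1)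
  let T : F → F → Matrix (Fin 2) (Fin 2) F := fun a b => !![a, b; -b, a]
  have hT : ∀ a b c d, T a b * T c d = T (a * c - b * d) (a * d + b * c) := by
    intro a b c d; ext i j; fin_cases i <;> fin_cases j <;> simp [T] <;> ring
  have hTdet : ∀ a b, (T a b).det = a ^ 2 + b ^ 2 := fun a b => by
    simp [T, Matrix.det_fin_two]; ring
  have hTpow : ∀ i, ∃ c d, T x y ^ i = T c d := by
    intro i
    induction i with
    | zero => exact ⟨1, 0, by rw [pow_zero]; ext i j; fin_cases i <;> fin_cases j <;> simp [T]⟩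
    | succ i ih => obtain ⟨c, d, h⟩ := ih; exact ⟨_, _, by rw [pow_succ, h, hT]⟩
  have hfrob : T x y ^ q = T x (-y) := by
    obtain ⟨p, hp⟩ := CharP.exists F
    obtain ⟨e, hpp, he⟩ := FiniteField.card F p
    have : Fact p.Prime := ⟨hpp⟩
    have : CharP (Matrix (Fin 2) (Fin 2) F) p := inferInstance
    have hJ : ∀ i : ℕ, T 0 1 ^ (2 * i + 1) = T 0 ((-1) ^ i) := by
      intro i
      induction i with
      | zero => simp
      | succ i ih =>
        rw [show 2 * (i + 1) + 1 = 2 * i + 1 + 2 by ring, pow_add, ih, pow_two, hT, hT]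
        congr 1 <;> ring
    have hdec : T x y = x • 1 + y • T 0 1 := by
      ext i j; fin_cases i <;> fin_cases j <;> simp [T]
    have hqp : q = p ^ (e : ℕ) := he
    rw [hdec, hqp, add_pow_char_pow_of_commute p (e : ℕ) ((Commute.one_left _).smul_left _ |>.smul_right _),
      smul_pow, smul_pow, one_pow, ← hqp, FiniteField.pow_card, FiniteField.pow_card]
    obtain ⟨w, hw⟩ : ∃ w, q = 2 * (2 * w + 1) + 1 := ⟨q / 4, by omega⟩
    rw [hw, hJ, Odd.neg_one_pow ⟨w, rfl⟩]
    ext i j; fin_cases i <;> fin_cases j <;> simp [T]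
  have hx1 : T x y ^ (q + 1) = -1 := by
    rw [pow_succ, hfrob, hT]
    ext i j; fin_cases i <;> fin_cases j <;> simp [T]
    · linear_combination hxy
    · ring
    · ring
    · linear_combination hxy
  obtain ⟨c, d, hcd⟩ := hTpow l
  have hdetR : (T c d).det = -1 := by
    rw [← hcd, Matrix.det_pow, hTdet, hxy, hlodd.neg_one_pow]
  have htop : T c d ^ 2 ^ a = -1 := by rw [← hcd, ← pow_mul, mul_comm, ← hl, hx1]
  let R : GL (Fin 2) F := GeneralLinearGroup.mkOfDetNeZero (T c d) (by rw [hdetR]; simp)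
  have hRc : (R : Matrix (Fin 2) (Fin 2) F) = T c d := rfl
  have hdet : GeneralLinearGroup.det R = -1 := by
    ext
    rw [GeneralLinearGroup.val_det_apply, hRc, hdetR]
    rfl
  let j : GL (Fin 2) F := GeneralLinearGroup.mkOfDetNeZero !![x, y; y, -x] (by
    simp only [Matrix.det_fin_two_of]
    rw [show x * -x - y * y = 1 by linear_combination -hxy]
    exact one_ne_zero)
  have hjc : (j : Matrix (Fin 2) (Fin 2) F) = !![x, y; y, -x] := rfl
  have hj2 : j * j = -1 := by
    refine Units.ext ?_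
    rw [Units.val_mul, hjc]
    ext i l
    fin_cases i <;> fin_cases l <;> simp
    · linear_combination hxy
    · ring
    · ring
    · linear_combination hxy
  have hjinv : j⁻¹ = -j := inv_eq_of_mul_eq_one_right (by rw [mul_neg, hj2, neg_neg])
  refine ⟨{ R := R, j := j, a := a, m := a + 1, one_lt := by omega, j_sq := hj2, j_det := ?_, conj := ?_, nonsq := ?_, pow_m := ?_, top := ?_, two_part := ?_ }⟩
  · ext
    rw [GeneralLinearGroup.val_det_apply, hjc]
    simp [Matrix.det_fin_two]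
    linear_combination -hxy
  · rw [hdet, hjinv]
    have hcd2 : c ^ 2 + d ^ 2 = -1 := by rw [← hTdet, hdetR]
    refine Units.ext ?_
    simp only [Units.val_mul, Units.val_neg, hRc, hjc, sc_coe]
    ext i l
    fin_cases i <;> fin_cases l <;> simp [T]
    · linear_combination -(c ^ 2 + d ^ 2) * hxy + hcd2
    · ring
    · ring
    · linear_combination -(c ^ 2 + d ^ 2) * hxy + hcd2
  · intro e
    rw [hdet, Units.val_neg, Units.val_one]
    exact hsq e
  · refine Units.ext ?_
    rw [Units.val_pow_eq_pow_val, hRc, pow_succ, pow_mul, htop]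
    simp
  · refine Units.ext ?_
    rw [hdet, Units.val_pow_eq_pow_val, Units.val_mul, sc_coe, Units.val_mul, hRc, inv_neg, inv_one,
      Units.val_neg, Units.val_one, neg_smul, one_smul, neg_one_mul, neg_pow, ← pow_two (T c d),
      ← pow_mul, ← pow_succ', show a - 1 + 1 = a by omega, htop,
      Even.neg_one_pow (Nat.even_pow.2 ⟨even_two, by omega⟩), one_mul]
    rfl
  · intro q' hq'
    rw [Nat.card_eq_fintype_card] at hq'
    subst hq'
    exact ⟨hn', hodd⟩

/-- Let F be a finite field of odd order and G₂(F) the automorphism group of the split octonion algebra over F (realized on F⁸ with the Zorn vector-matrix multiplication). A Sylow 2-subgroup P of G₂(F) has P/P' elementary abelian: the square of every element of P lies in the derived subgroup of P. -/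
theorem result {F : Type*} [Field F] [Fintype F] (hF : Odd (Fintype.card F)) (P : Sylow 2 (Cfsg.Lie.G2 F)) : ∀ x : (P : Subgroup (Cfsg.Lie.G2 F)), x ^ 2 ∈ commutator (P : Subgroup (Cfsg.Lie.G2 F)) := by
  have h2 : (2 : F) ≠ 0 := by
    refine Ring.two_ne_zero fun h => ?_
    have := FiniteField.even_card_of_char_two h
    rcases hF with ⟨k, hk⟩
    omega
  obtain ⟨D⟩ : Nonempty (TwoData F) := by
    rcases hF with ⟨k, hk⟩
    rcases Nat.even_or_odd k with ⟨l, rfl⟩ | ⟨l, rfl⟩
    · exact exists_data_split (by omega)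
    · exact exists_data_nonsplit (by omega)
  obtain ⟨S, hS⟩ := D.exists_sylow h2
  have : Fact (Nat.Prime 2) := ⟨Nat.prime_two⟩
  intro x
  let e : D.P ≃* (P : Subgroup (Cfsg.Lie.G2 F)) :=
    (MulEquiv.subgroupCongr hS.symm).trans (S.equiv P)
  obtain ⟨y, rfl⟩ := e.surjective x
  rw [← map_pow]
  have h : (commutator D.P).map e.toMonoidHom = commutator _ := by
    rw [commutator_def, Subgroup.map_commutator, Subgroup.map_top_of_surjective _ e.surjective,
      ← commutator_def]
  exact h ▸ Subgroup.mem_map_of_mem _ (D.sq_mem_commutator y)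

end Cfsg.Agent.S4632
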