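import Cfsg.Statements.S4633
import Cfsg.Agent.Lib.BrauerPairs81Cyclic
import Cfsg.Agent.Lib.PGroupsCyclic
-- import your own Cfsg.Agent.* helpers here

set_option autoImplicit false
open Cfsg

namespace Cfsg.Agent.S4633

open BrauerPairs81Base BrauerPairs81Pairs BrauerPairs81Conj BrauerPairs81Local BrauerPairs81Fusion
  BrauerPairs81Induced BrauerPairs81Cyclic

/-- Let B be a block of the finite group G relative to a maximal ideal M of the algebraic integers containing the prime p, with a nontrivial cyclic defect group P. Let c be a block of C_G(P) inducing B and T the stabilizer of c in N_G(P) (the elements of N_G(P) conjugating c to itself); T contains C_G(P). Then T/C_G(P) is cyclic of order dividing p − 1, and it acts freely on the non-identity elements of P: an element of T fixing some non-identity element of P under conjugation lies in C_G(P). -/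
theorem result {G : Type*} [Group G] [Finite G] (p : ℕ) [Fact p.Prime] (M : Ideal Cfsg.AlgInt) (hM : Cfsg.IsPModular p M) (B : Set (Cfsg.IrrCharacter G)) (hB : Cfsg.IsPBlock M B) (P : Subgroup G) (hPD : Cfsg.IsDefectGroup p M B P) (hP1 : P ≠ ⊥) (hcyc : IsCyclic P) (c : Set (Cfsg.IrrCharacter (Subgroup.centralizer (P : Set G)))) (hc : Cfsg.IsInducedBlock M (Subgroup.centralizer (P : Set G)) c B) (T : Subgroup G) (hT : ∀ g : G, g ∈ T ↔ (g ∈ Subgroup.normalizer (P : Set G) ∧ Cfsg.StabilizesBlock (Subgroup.centralizer (P : Set G)) c g)) [hn : ((Subgroup.centralizer (P : Set G)).subgroupOf T).Normal] : IsCyclic (T ⧸ (Subgroup.centralizer (P : Set G)).subgroupOf T) ∧ (Subgroup.centralizer (P : Set G)).relIndex T ∣ p - 1 ∧ ∀ g ∈ T, ∀ x ∈ P, x ≠ 1 → g * x * g⁻¹ = x → g ∈ Subgroup.centralizer (P : Set G) := by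
  haveI := Fintype.ofFinite G
  have hmax := isMaximal_of_induced hM hPD hc
  have hT' : ∀ g, g ∈ T ↔ g ∈ stab (⟨P, c⟩ : BrauerPairIdx G) := fun g => by
    rw [hT, mem_stab, cP_eq_self_iff_stabilizes]
  have hfree : ∀ g ∈ T, ∀ x ∈ P, x ≠ 1 → g * x * g⁻¹ = x →
      g ∈ Subgroup.centralizer (P : Set G) :=
    fun g hg x hx hx1 hgx => mem_cen_of_stab hM hmax hcyc ((hT' g).mp hg) hx hx1 hgx
  obtain ⟨z, hz, hz1, hzo⟩ := exists_order_prime hmax.1.1.1 hP1
  have hcZ : Nat.card (Subgroup.zpowers z) = p := by rw [Nat.card_zpowers, hzo]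
  set Z := Subgroup.zpowers z with hZ
  have hCT : Subgroup.centralizer (P : Set G) ≤ T :=
    fun u hu => (hT' u).mpr (cen_le_stab ⟨P, c⟩ hu)
  have hTN : T ≤ Subgroup.normalizer (Z : Set G) := by
    intro g hg
    have hgP := stab_le_normalizer _ ((hT' g).mp hg)
    haveI := hcyc
    have hZP : Z ≤ P := Subgroup.zpowers_le.mpr hz
    have heq : cjS g Z = Z := by
      have hle : cjS g Z ≤ P := (cjS_mono hZP).trans (le_of_eq (cjS_of_normalizer hgP))
      exact PGroupsCyclic.eq_of_card_eq_of_isCyclic hcyc hle hZP (card_cjS g Z)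
    refine Subgroup.mem_normalizer_iff.mpr fun a => ?_
    conv_rhs => rw [← heq, mem_cjS]
    simp [mul_assoc]
  let ψ : T →* MulAut Z := Z.normalizerMonoidHom.comp (Subgroup.inclusion hTN)
  have hker : ψ.ker = (Subgroup.centralizer (P : Set G)).subgroupOf T := by
    ext g
    rw [MonoidHom.mem_ker, Subgroup.mem_subgroupOf]
    constructor
    · intro h
      refine hfree g g.2 z hz hz1 ?_
      exact congrArg Subtype.val (MulEquiv.congr_fun h ⟨z, Subgroup.mem_zpowers z⟩)
    · intro h
      refine MulEquiv.ext fun a => Subtype.ext ?_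
      show (g : G) * (a : G) * (g : G)⁻¹ = (a : G)
      rw [← Subgroup.mem_centralizer_iff.mp h (a : G) (Subgroup.zpowers_le.mpr hz a.2),
        mul_inv_cancel_right]
  haveI : IsCyclic (MulAut Z) :=
    (IsCyclic.mulAutMulEquiv Z).isCyclic.mpr (hcZ.symm ▸ inferInstance)
  haveI : IsCyclic ψ.range := inferInstance
  have hiso : (T ⧸ (Subgroup.centralizer (P : Set G)).subgroupOf T) ≃* ψ.range :=
    (QuotientGroup.quotientMulEquivOfEq hker.symm).trans (QuotientGroup.quotientKerEquivRange ψ)
  refine ⟨hiso.isCyclic.mpr inferInstance, ?_, hfree⟩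
  have h1 : (Subgroup.centralizer (P : Set G)).relIndex T = Nat.card ψ.range := by
    rw [← Nat.card_congr hiso.toEquiv]; rfl
  rw [h1, ← Nat.totient_prime (Fact.out : p.Prime), ← hcZ, ← IsCyclic.card_mulAut Z]
  exact Subgroup.card_subgroup_dvd_card _

end Cfsg.Agent.S4633
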