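import Cfsg.Statements.S4636
import Mathlib
-- import your own Cfsg.Agent.* helpers here

set_option autoImplicit false
open scoped Pointwise
open Cfsg

namespace Cfsg.Agent.S4636


/-- Let P be a nontrivial cyclic p-subgroup of the finite group G and Z its subgroup of order p. For every x outside N_G(Z), P meets its conjugate xPx⁻¹ trivially; consequently N_G(Q) ≤ N_G(Z) for every nontrivial subgroup Q of P. -/
theorem result {G : Type*} [Group G] [Finite G] (p : ℕ) [Fact p.Prime] (P : Subgroup G) (hP : IsPGroup p P) (hP1 : P ≠ ⊥) (hcyc : IsCyclic P) (Z : Subgroup G) (hZ : Z ≤ P) (hZcard : Nat.card Z = p) : (∀ x : G, x ∉ Subgroup.normalizer (Z : Set G) → P ⊓ MulAut.conj x • P = ⊥) ∧ ∀ Q : Subgroup G, Q ≤ P → Q ≠ ⊥ → Subgroup.normalizer (Q : Set G) ≤ Subgroup.normalizer (Z : Set G) := by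
  classical
  have hA : ∀ y ∈ P, y ^ p = 1 → y ∈ Z := by
    intro y hy hyp
    have := Fintype.ofFinite P
    have hle := IsCyclic.card_pow_eq_one_le (α := P) (Fact.out (p := p.Prime)).pos
    let S : Finset P := Finset.univ.filter (fun a : P => (a : G) ∈ Z)
    have hS : S.card = p := by
      rw [← hZcard, ← Nat.card_congr (Subgroup.subgroupOfEquivOfLe hZ).toEquiv, Nat.card_eq_fintype_card, Fintype.card_subtype]
      rfl
    have hsub : S ⊆ Finset.univ.filter (fun a : P => a ^ p = 1) := by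
      intro a ha
      simp only [S, Finset.mem_filter, Finset.mem_univ, true_and] at ha ⊢
      have h5 := orderOf_dvd_natCard (⟨(a : G), ha⟩ : Z)
      rw [hZcard, orderOf_dvd_iff_pow_eq_one] at h5
      exact Subtype.ext (congrArg Subtype.val h5 :)
    have he := Finset.eq_of_subset_of_card_le hsub (hS ▸ hle)
    have : (⟨y, hy⟩ : P) ∈ S := he ▸ (Finset.mem_filter.mpr ⟨Finset.mem_univ _, Subtype.ext hyp⟩)
    exact (Finset.mem_filter.mp this).2
  have hp : ∀ z ∈ Z, z ^ p = 1 := by
    intro z hz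
    have h5 := orderOf_dvd_natCard (⟨z, hz⟩ : Z)
    rw [hZcard, orderOf_dvd_iff_pow_eq_one] at h5
    exact (congrArg Subtype.val h5 :)
  have hu : ∀ Q : Subgroup G, Q ≤ P → Q ≠ ⊥ → Z ≤ Q := by
    intro Q hQP hQ
    have : Nontrivial Q := (Subgroup.nontrivial_iff_ne_bot Q).mpr hQ
    obtain ⟨n, hn, hc⟩ := (hP.to_le hQP).nontrivial_iff_card.mp this
    have hdvd : p ∣ Nat.card Q := hc ▸ dvd_pow_self p hn.ne'
    obtain ⟨x, hx⟩ := exists_prime_orderOf_dvd_card' p hdvd
    have hxz : (x : G) ∈ Z := hA x (hQP x.2) (by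
      rw [← orderOf_dvd_iff_pow_eq_one, Subgroup.orderOf_coe, hx])
    have he : Subgroup.zpowers (x : G) = Z :=
      Subgroup.eq_of_le_of_card_ge (Subgroup.zpowers_le.mpr hxz) (by
        rw [Nat.card_zpowers, Subgroup.orderOf_coe, hx, hZcard])
    exact he ▸ Subgroup.zpowers_le.mpr x.2
  have hN : ∀ g : G, (∀ z ∈ Z, g * z * g⁻¹ ∈ P) → g ∈ Subgroup.normalizer (Z : Set G) := by
    intro g hg
    have hle : MulAut.conj g • Z ≤ Z := by
      intro y hy
      rw [Subgroup.mem_pointwise_smul_iff_inv_smul_mem] at hy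
      have he : g * ((MulAut.conj g)⁻¹ • y) * g⁻¹ = y := by simp [mul_assoc]
      have h6 := hA _ (hg _ hy) (by
        rw [conj_pow, hp _ hy]; simp)
      rwa [he] at h6
    have he : MulAut.conj g • Z = Z := Subgroup.eq_of_le_of_card_ge hle
      (Nat.card_congr (Subgroup.equivSMul (MulAut.conj g) Z).toEquiv).le
    rw [Subgroup.mem_normalizer_iff]
    intro h
    have : h ∈ Z ↔ MulAut.conj g • h ∈ MulAut.conj g • Z :=
      (Subgroup.smul_mem_pointwise_smul_iff).symm
    rw [he] at this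
    simpa using this
  refine ⟨?_, ?_⟩
  · intro x hx
    by_contra hne
    apply hx
    have h1 := hu _ inf_le_left hne
    have h2 : x⁻¹ ∈ Subgroup.normalizer (Z : Set G) := hN _ (fun z hz => by
      have h3 : z ∈ MulAut.conj x • P := (h1 hz).2
      rw [Subgroup.mem_pointwise_smul_iff_inv_smul_mem] at h3
      simpa [mul_assoc] using h3)
    simpa using inv_mem h2
  · intro Q hQP hQ1 g hg
    exact hN g (fun z hz => hQP ((Subgroup.mem_normalizer_iff.mp hg z).mp (hu Q hQP hQ1 hz)))

end Cfsg.Agent.S4636
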