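import Cfsg.Statements.S4638
import Cfsg.Agent.Lib.BlockKleinIso81
import Cfsg.Agent.Lib.BlockFirstMainOver
import Cfsg.Agent.Lib.BlockPiKernel
-- import your own Cfsg.Agent.* helpers here

set_option autoImplicit false
open Cfsg

namespace Cfsg.Agent.S4638

open Cfsg.Agent.BlockTheoryLocalRing Cfsg.Agent.BlockTheoryCentre Cfsg.Agent.BlockTheoryIdem
open Cfsg.Agent.BlockTheoryBrauer Cfsg.Agent.BlockTheoryDefect
open Cfsg.Agent.BrauerPairs81Base Cfsg.Agent.BrauerPairs81Pairs Cfsg.Agent.BrauerPairs81Conj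
open Cfsg.Agent.BrauerPairs81Induced Cfsg.Agent.BrauerPairs81Max Cfsg.Agent.BrauerPairs81Local Cfsg.Agent.BrauerPairs81Fusion

attribute [local instance] Classical.propDecidable

/-- The correspondent has a maximal pair with the inertial index of one of `B`. -/
theorem exists_transfer {G : Type*} [Group G] [Fintype G] {M : Ideal AlgInt}
    (hM : IsPModular 2 M) {B : Set (IrrCharacter G)} {P : Subgroup G}
    (hPD : IsDefectGroup 2 M B P) (hV : IsKleinFour P)
    {c : Set (IrrCharacter (Subgroup.normalizer (P : Set G)))}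
    (hcD : IsDefectGroup 2 M c (P.subgroupOf (Subgroup.normalizer (P : Set G))))
    (hc : IsInducedBlock M (Subgroup.normalizer (P : Set G)) c B) :
    ∃ (c₀ : Set (IrrCharacter (Cen (P.subgroupOf (Subgroup.normalizer (P : Set G))))))
      (Q : Subgroup G) (f : Set (IrrCharacter (Cen Q))) (e : ℕ),
      IsMaximalBrauerPair 2 M c (P.subgroupOf (Subgroup.normalizer (P : Set G))) c₀ ∧
      IsKleinFour (P.subgroupOf (Subgroup.normalizer (P : Set G))) ∧
      IsMaximalBrauerPair 2 M B Q f ∧ IsKleinFour Q ∧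
      (Cen (P.subgroupOf (Subgroup.normalizer (P : Set G)))).relIndex
        (stab (⟨_, c₀⟩ : BrauerPairIdx (Subgroup.normalizer (P : Set G)))) = e ∧
      (Cen Q).relIndex (stab (⟨Q, f⟩ : BrauerPairIdx G)) = e := by
  haveI : Fact (Nat.Prime 2) := ⟨Nat.prime_two⟩
  set N := Subgroup.normalizer (P : Set G) with hN
  set D' := P.subgroupOf N with hD'
  have e : D' ≃* P := Subgroup.subgroupOfEquivOfLe Subgroup.le_normalizer
  have hV' : IsKleinFour D' :=
    ⟨by rw [Nat.card_congr e.toEquiv, hV.card_four],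
      by rw [Monoid.exponent_eq_of_mulEquiv e, hV.exponent_two]⟩
  obtain ⟨c₀, hc₀⟩ := exists_pairOf_of_not_small hM hc.1 (isPGroup_of_isDefectGroup hcD)
    (not_small_cut_defect hM hc.1 hcD)
  have hmap : D'.map N.subtype = P := Subgroup.map_subgroupOf_eq_of_le Subgroup.le_normalizer
  have hC : Cen (D'.map N.subtype) ≤ N := by
    rw [hmap]; exact Subgroup.centralizer_le_normalizer _
  set hcc := cenCompat_map (R := D') hC le_rfl
  set f := pushSet (cenIso hcc) c₀ with hf
  have hpair := BlockPiKernel.pair_up hM hc hc₀ hC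
  refine ⟨c₀, _, f, _, BlockFirstMainOver.maximal_of_defect hM hcD hc₀, hV',
    BlockFirstMainOver.maximal_of_defect hM (hmap.symm ▸ hPD) hpair, hmap.symm ▸ hV, rfl, ?_⟩
  haveI : D'.Normal := Subgroup.normal_subgroupOf_of_le_normalizer le_rfl
  have h1 : stab (⟨D', c₀⟩ : BrauerPairIdx N) =
      (stab (⟨D'.map N.subtype, f⟩ : BrauerPairIdx G)).subgroupOf N := by
    ext x
    rw [Subgroup.mem_subgroupOf, mem_stab, mem_stab, cP_eq_self_iff, cP_eq_self_iff]
    simp only [eb_cenIso hcc, hf, cjA_incl]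
    constructor
    · rintro ⟨-, h⟩
      exact ⟨hmap.symm ▸ x.2, by rw [h]⟩
    · rintro ⟨-, h⟩
      exact ⟨by rw [Subgroup.normalizer_eq_top]; exact Subgroup.mem_top _, incl_injective N h⟩
  have h2 : Cen D' = (Cen (D'.map N.subtype)).subgroupOf N := by
    ext x
    rw [Subgroup.mem_subgroupOf, hcc]
    exact ⟨fun h => ⟨x.2, h⟩, fun ⟨_, h⟩ => h⟩
  rw [h1, h2]
  refine (Subgroup.relIndex_subgroupOf ?_).symm
  refine (stab_le_normalizer _).trans ?_
  show Subgroup.normalizer ((D'.map N.subtype : Subgroup G) : Set G) ≤ N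
  rw [hmap]

/-- Let B be a block of the finite group G relative to a maximal ideal M of the algebraic integers containing 2, with a Klein four defect group P, and let c be its Brauer correspondent: the block of N_G(P) with defect group P that induces B. Then there is a perfect isometry from c onto B. -/
theorem result {G : Type*} [Group G] [Finite G] (M : Ideal Cfsg.AlgInt) (hM : Cfsg.IsPModular 2 M) (B : Set (Cfsg.IrrCharacter G)) (hB : Cfsg.IsPBlock M B) (P : Subgroup G) (hPD : Cfsg.IsDefectGroup 2 M B P) (hV : IsKleinFour P) (c : Set (Cfsg.IrrCharacter (Subgroup.normalizer (P : Set G)))) (hcD : Cfsg.IsDefectGroup 2 M c (P.subgroupOf (Subgroup.normalizer (P : Set G)))) (hc : Cfsg.IsInducedBlock M (Subgroup.normalizer (P : Set G)) c B) : ∃ (I : Cfsg.IrrCharacter (Subgroup.normalizer (P : Set G)) → Cfsg.IrrCharacter G) (ε : Cfsg.IrrCharacter (Subgroup.normalizer (P : Set G)) → ℤ), Cfsg.IsPerfectIsometry 2 M c B I ε := by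
  haveI := Fintype.ofFinite G
  obtain ⟨c₀, Q, f, e, hmax', hV', hmax, hVQ, he', he⟩ := exists_transfer hM hPD hV hcD hc
  obtain ⟨he13, hk, hl⟩ :=
    KleinFourDefect79.inertial hM hmax hVQ _ (fun _ => Iff.rfl) e he
  obtain ⟨-, hk', hl'⟩ :=
    KleinFourDefect79.inertial hM hmax' hV' _ (fun _ => Iff.rfl) e he'
  rcases he13 with rfl | rfl
  · exact BlockKleinIso81.perfect_of_coded hM _ BlockKleinIso81.had_orth
      (BlockKleinIso81.coded_one hM hmax hVQ hk hl)
      (BlockKleinIso81.coded_one hM hmax' hV' hk' hl')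
  · exact BlockKleinIso81.perfect_of_coded hM _ (by decide)
      (BlockKleinIso81.coded_three hM hmax hVQ hk hl)
      (BlockKleinIso81.coded_three hM hmax' hV' hk' hl')

end Cfsg.Agent.S4638
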