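import Cfsg.Statements.S4640
import Cfsg.Agent.Lib.StableBlockNormal83

set_option autoImplicit false
open Cfsg
open Cfsg.Agent.BlockTheoryCentre Cfsg.Agent.BlockTheoryIdem Cfsg.Agent.BlockTheoryDefect
open Cfsg.Agent.StableBlockNormal83 Cfsg.Agent.StableBlockSection83

namespace Cfsg.Agent.S4640

/-- Let N be a normal subgroup of the finite group G of index a power of the prime p, M a maximal ideal of the algebraic integers containing p, b a block of N stabilized by every element of G, and B a block of G covering b (some member of B has a member of b as a constituent of its restriction to N). Suppose that B has a commutative defect group P. Then G = NP and P ∩ N is a defect group of b; every member of B restricts to a member of b; every member of b is the restriction of exactly [G : N] members of B; B contains exactly [G : N] times as many irreducible characters as b; and B and b have the same p-regular rank. -/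
theorem result {G : Type*} [Group G] [Fintype G] (p : ℕ) [Fact p.Prime] (M : Ideal Cfsg.AlgInt) (hM : Cfsg.IsPModular p M) (N : Subgroup G) [N.Normal] [Fintype N] (hNi : ∃ k : ℕ, N.index = p ^ k) (b : Set (Cfsg.IrrCharacter N)) (hb : Cfsg.IsPBlock M b) (hstab : ∀ g : G, Cfsg.StabilizesBlock N b g) (B : Set (Cfsg.IrrCharacter G)) (hB : Cfsg.IsPBlock M B) (hcov : ∃ χ ∈ B, ∃ θ ∈ b, Cfsg.classInner (fun n : N => (χ : G → ℂ) n) (θ : N → ℂ) ≠ 0) (P : Subgroup G) (hPD : Cfsg.IsDefectGroup p M B P) (hPab : ∀ x ∈ P, ∀ y ∈ P, x * y = y * x) : N ⊔ P = ⊤ ∧ Cfsg.IsDefectGroup p M b ((P ⊓ N).subgroupOf N) ∧ (∀ χ ∈ B, ∃ θ ∈ b, ∀ n : N, (χ : G → ℂ) n = (θ : N → ℂ) n) ∧ (∀ θ ∈ b, Nat.card {χ : Cfsg.IrrCharacter G // χ ∈ B ∧ ∀ n : N, (χ : G → ℂ) n = (θ : N → ℂ) n} = N.index) ∧ Nat.card B = N.index * Nat.card b ∧ Cfsg.blockRank p B = Cfsg.blockRank p b := by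
  classical
  obtain ⟨χ0, h0, θ0, hθ0, hc0⟩ := hcov
  obtain ⟨g, hgB, S, rfl⟩ := hPD
  have hgr : ¬ p ∣ orderOf g := fun h =>
    hgB.2.1 (by rw [blockCoeff_eq_zero_of_dvd hM hB h]; exact BlockTheoryLocalRing.ideal_zero hM)
  obtain ⟨g, rfl⟩ : ∃ n : N, (n : G) = g := ⟨⟨g, regular_mem hM.1 hNi hgr⟩, rfl⟩
  have htop : N ⊔ Subgroup.centralizer ({(g : G)} : Set G) = ⊤ :=
    sup_centralizer_eq_top hM hNi hb hstab hθ0 hc0 g (hgB.2.2 χ0 h0)
  have hNP : N ⊔ sylowIn S = ⊤ := sup_defect_eq_top hNi htop S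
  have hdec : ∀ a : G, ∃ u ∈ sylowIn S, (a : G ⧸ N) = (u : G ⧸ N) := by
    intro a
    obtain ⟨n, hn, u, hu, rfl⟩ := Subgroup.mem_sup_of_normal_left.mp
      (hNP ▸ Subgroup.mem_top a : a ∈ N ⊔ sylowIn S)
    exact ⟨u, hu, by rw [QuotientGroup.mk_mul, (QuotientGroup.eq_one_iff n).mpr hn, one_mul]⟩
  have hcomm : ∀ x y : G ⧸ N, x * y = y * x := by
    intro x y
    obtain ⟨a, rfl⟩ := QuotientGroup.mk_surjective x
    obtain ⟨c, rfl⟩ := QuotientGroup.mk_surjective y
    obtain ⟨u, hu, e1⟩ := hdec a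
    obtain ⟨v, hv, e2⟩ := hdec c
    rw [e1, e2, ← QuotientGroup.mk_mul, ← QuotientGroup.mk_mul, hPab u hu v hv]
  -- every member of the block restricts irreducibly
  have hres : ∀ χ ∈ B, ∃ θ ∈ b, ∀ n : N, (χ : G → ℂ) n = (θ : N → ℂ) n := by
    intro χ hχ
    have h1 := classInner_res_self (N := N) χ hcomm fun q => by
      obtain ⟨a, rfl⟩ := QuotientGroup.mk_surjective q
      obtain ⟨u, hu, e⟩ := hdec a
      refine ⟨u * g, ?_, apply_mul_ne_zero S rfl hPab hM hB hgB hu hχ⟩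
      rw [QuotientGroup.mk_mul, (QuotientGroup.eq_one_iff (g : G)).mpr g.2, mul_one, e]
    have hirr : IsIrrCharacter N (fun n : N => (χ : G → ℂ) n) :=
      CharBasicDecomp.isIrrCharacter_iff.mpr
        ⟨CharInduced.isCharacter_res N (CharBasic.isCharacter_of_isIrrCharacter χ.2), h1⟩
    refine ⟨⟨_, hirr⟩, ?_, fun n => rfl⟩
    exact constituents_mem hM hB hb hstab h0 hθ0 hc0 hχ
      (by rw [CharBasicOrth.classInner_irr_self hirr]; exact one_ne_zero)
  choose f hfb hfv using hres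
  have hover : ∀ θ ∈ b, ∀ χ : IrrCharacter G,
      classInner (fun n : N => (χ : G → ℂ) n) (θ : N → ℂ) ≠ 0 →
      χ ∈ B ∧ ∀ n : N, (χ : G → ℂ) n = (θ : N → ℂ) n := by
    intro θ hθ χ hc
    have hχ := mem_block_of_over hM hNi hB hb h0 hθ0 hc0 hθ hc
    refine ⟨hχ, ?_⟩
    rw [show (fun n : N => (χ : G → ℂ) n) = (f χ hχ : N → ℂ) from funext (hfv χ hχ)] at hc
    by_cases h : f χ hχ = θ
    · intro n; rw [hfv χ hχ n, h]
    · exact absurd (CharBasicOrth.classInner_irr_ne (f χ hχ).2 θ.2 fun e => h (Subtype.ext e)) hc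
  have hconst : ∀ θ ∈ b, ∀ χ : IrrCharacter G, (∀ n : N, (χ : G → ℂ) n = (θ : N → ℂ) n) →
      classInner (fun n : N => (χ : G → ℂ) n) (θ : N → ℂ) = 1 := by
    intro θ _ χ h
    rw [show (fun n : N => (χ : G → ℂ) n) = (θ : N → ℂ) from funext h]
    exact CharBasicOrth.classInner_irr_self θ.2
  -- the fibres of restriction
  have hfib : ∀ θ ∈ b, Nat.card {χ : IrrCharacter G // χ ∈ B ∧
      ∀ n : N, (χ : G → ℂ) n = (θ : N → ℂ) n} = N.index := by
    intro θ hθ
    set F := Finset.univ.filter fun χ : IrrCharacter G =>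
      χ ∈ B ∧ ∀ n : N, (χ : G → ℂ) n = (θ : N → ℂ) n with hF
    have hval : indFun N (θ : N → ℂ) = ∑ χ ∈ F, (χ : G → ℂ) := by
      refine (CharBasicOrth.eq_sum_classInner (CharInduced.isClassFunction_ind N _)).trans ?_
      rw [hF, Finset.sum_filter]
      refine Finset.sum_congr rfl fun χ _ => ?_
      rw [CharInduced.inner_ind_left N _ (irr_classFun χ), ← CharBasicOrth.conj_classInner]
      by_cases hc : classInner (fun n : N => (χ : G → ℂ) n) (θ : N → ℂ) = 0
      · rw [hc, map_zero, zero_smul, if_neg fun h => one_ne_zero ((hconst θ hθ χ h.2).symm.trans hc)]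
      · have h := hover θ hθ χ hc
        rw [hconst θ hθ χ h.2, map_one, one_smul, if_pos h]
    have h1 := congrFun hval 1
    rw [CharInduced.ind_one_apply, Finset.sum_apply,
      Finset.sum_congr rfl (g := fun _ => (θ : N → ℂ) 1) fun χ hχ =>
        ((Finset.mem_filter.mp hχ).2.2 1 : _), Finset.sum_const, nsmul_eq_mul] at h1
    rw [Nat.card_eq_fintype_card, Fintype.card_subtype, ← hF]
    exact (Nat.cast_injective (mul_right_cancel₀ (irr_one_ne_zero θ) h1)).symm
  refine ⟨hNP, isDefectGroup_inter hM hNi hB hb hstab h0 hθ0 hc0 g hgB S htop,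
    fun χ hχ => ⟨f χ hχ, hfb χ hχ, hfv χ hχ⟩, hfib, ?_, ?_⟩
  · let r : B → b := fun χ => ⟨f χ.1 χ.2, hfb χ.1 χ.2⟩
    have : Fintype b := Fintype.ofFinite b
    rw [← Nat.card_congr (Equiv.sigmaFiberEquiv r), Nat.card_sigma,
      Finset.sum_congr rfl (g := fun _ => N.index) fun θ _ => ?_, Finset.sum_const,
      Finset.card_univ, smul_eq_mul, ← Nat.card_eq_fintype_card, mul_comm]
    rw [← hfib θ.1 θ.2]
    refine Nat.card_congr
      { toFun := fun χ => ⟨χ.1.1, χ.1.2, fun n => ?_⟩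
        invFun := fun χ => ⟨⟨χ.1, χ.2.1⟩, ?_⟩
        left_inv := fun χ => rfl
        right_inv := fun χ => rfl }
    · exact (hfv χ.1.1 χ.1.2 n).trans
        (congrFun (congrArg Subtype.val (congrArg Subtype.val χ.2)) n)
    · exact Subtype.ext (Subtype.ext (funext fun n => ((hfv χ.1 χ.2.1 n).symm.trans (χ.2.2 n))))
  · refine rank_eq hM.1 hNi (fun χ => if h : χ ∈ B then f χ h else θ0)
      (fun χ hχ n => by simp only [dif_pos hχ]; exact hfv χ hχ n) ?_
    refine Set.Subset.antisymm (fun θ => ?_) fun θ hθ => ?_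
    · rintro ⟨χ, hχ, rfl⟩
      simp only [dif_pos hχ]
      exact hfb χ hχ
    · obtain ⟨χ, hc⟩ := exists_over' (G := G) θ
      obtain ⟨hχ, hv⟩ := hover θ hθ χ hc
      refine ⟨χ, hχ, ?_⟩
      simp only [dif_pos hχ]
      exact Subtype.ext (funext fun n => (hfv χ hχ n).symm.trans (hv n))

end Cfsg.Agent.S4640
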