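import Cfsg.Statements.S5197
import Cfsg.Agent.Lib.FusionFunctorLocal
import Cfsg.Agent.Lib.FusionFocal
import Cfsg.Agent.Lib.ConjFunctorTransfer

set_option autoImplicit false
universe u
open Cfsg

namespace Cfsg.Agent.S5197

open Cfsg.FusionSystem Cfsg.Agent.FusionSysBasic Cfsg.Agent.FusionSysSaturated
  Cfsg.Agent.FusionSysNormal Cfsg.Agent.FusionFunctorLocal Cfsg.Agent.FusionInduct88

/-- Every map moves elements inside `K`. -/
def Moves {Ω : Type u} [Group Ω] (K P : Subgroup Ω) (f : Ω → Ω) : Prop := ∀ x ∈ P, x⁻¹ * f x ∈ K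

/-- `W` controls transfer. -/
def Tr (W : ∀ (Q : Type u) [Group Q], Subgroup Q) {Ω : Type u} [Group Ω] {S : Subgroup Ω} [Finite S]
    (E : FusionSystem S) : Prop :=
  ∀ K : Subgroup Ω, Ctl W E (Moves K)

theorem closed_moves {Ω : Type u} [Group Ω] {S : Subgroup Ω} {F : FusionSystem S} {K : Subgroup Ω}
    (hconj : ∀ g ∈ S, ∀ x ∈ S, x⁻¹ * cj g x ∈ K) : Closed F (U := S) (Moves K) where
  congr := fun h he x hx => he x hx ▸ h x hx
  conj := fun hP hg x hx => hconj _ hg x (hP hx)
  comp := fun {_ _ f g} _ _ _ _ hfQ h1 h2 x hx => by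
    simpa [mul_assoc] using K.mul_mem (h1 x hx) (h2 _ (hfQ x hx))
  inv := fun hf _ _ hgf h1 y hy => by
    obtain ⟨x, hx, rfl⟩ := hf.mem_im.mp hy
    rw [hgf x hx]
    simpa using K.inv_mem (h1 x hx)

variable {p : ℕ} [Fact p.Prime] {W : ∀ (Q : Type u) [Group Q], Subgroup Q}

theorem Ws_conj (hW : Fn p W) {Ω : Type u} [Group Ω] {S : Subgroup Ω} [Finite S] (hS : IsPGroup p S)
    {F : FusionSystem S} {K : Subgroup Ω} (hB : OnNormalizer F (Ws W S) (Moves K)) :
    ∀ g ∈ S, ∀ x ∈ S, x⁻¹ * cj g x ∈ K := by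
  have hn : ∀ g ∈ S, g ∈ Subgroup.normalizer ((Ws W S : Subgroup Ω) : Set Ω) := fun g hg =>
    mem_normalizer_of_cj_le (Ws_le S) fun y hy => cj_mem_Ws hW hS (Subgroup.le_normalizer hg) hy
  intro g hg x hx
  refine hB S (cj g) (mor_cj le_rfl hg) (le_inf le_rfl hn) (fun y hy => ?_)
    ⟨cj g, mor_cj (sup_le le_rfl (Ws_le S)) hg, fun _ _ => rfl,
      mem_normalizer_iff_im_cj.mp (hn g hg)⟩ x hx
  exact ⟨cj_mem_S hg hy, hn _ (cj_mem_S hg hy)⟩

open scoped commutatorElement IsMulCommutative in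
theorem step (hW : Fn p W) (hT : ∀ (G : Type u) [Group G] [Finite G] (P : Sylow p G), Subgroup.centralizer ((Cfsg.pCore p G : Subgroup G) : Set G) ≤ Cfsg.pCore p G → Cfsg.pCore p G ⊓ commutator G = Cfsg.pCore p G ⊓ (commutator ↥(Subgroup.normalizer (((W ↥(P : Subgroup G)).map (P : Subgroup G).subtype : Subgroup G) : Set G))).map (Subgroup.normalizer (((W ↥(P : Subgroup G)).map (P : Subgroup G).subtype : Subgroup G) : Set G)).subtype)
    {Ω : Type u} [Group Ω] {S : Subgroup Ω} [Finite S] (F : FusionSystem S) (hS : IsPGroup p S)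
    (hF : F.IsSaturated p)
    (IH : ∀ {Ω' : Type u} [Group Ω'] {S' : Subgroup Ω'} [Finite S'] (E : FusionSystem S'),
      IsPGroup p S' → E.IsSaturated p → Less E F → Tr W E) : Tr W F := by
  classical
  intro K₀ hB₀
  set K := K₀ ⊓ F.focalSubgroup with hKdef
  have hB : OnNormalizer F (Ws W S) (Moves K) := fun P f hf hP hv hx x hxP =>
    ⟨hB₀ P f hf hP hv hx x hxP, FusionFocal.gen_mem_focal hf hxP⟩
  suffices ∀ P f, Mor F P f → Moves K P f from fun P f hf x hx => (this P f hf x hx).1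
  have hconj := Ws_conj hW hS hB
  have hΦ : Closed F (U := S) (Moves K) := closed_moves hconj
  have hbelow : CtlBelow W p F (Moves K) := fun E _ _ _ hT hE hlt => IH E hT hE hlt K
  by_cases hcore : F.core = ⊥
  · exact fun P f hf => all_of_core_eq_bot hW hΦ hS hF hB hbelow hcore hf
  have hQn : F.IsNormal F.core := core_isNormal
  set Q := F.core with hQdef
  have hQS : Q ≤ S := normal_le hQn
  have hSQ : S ≤ Subgroup.normalizer (Q : Set Ω) := le_normalizer_of_normal hQn
  have hfn : F.IsFullyNormalized Q := FusionWeakAlperin.fullyNormalized_of_normal hQS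
    fun g hg x hx => cj_mem_of_normalizer (hSQ hg) hx
  set U := Ws W S with hU
  have hnU : ∀ g ∈ S, g ∈ Subgroup.normalizer (U : Set Ω) := fun g hg =>
    mem_normalizer_of_cj_le (Ws_le S) fun y hy => cj_mem_Ws hW hS (Subgroup.le_normalizer hg) hy
  -- the case `Q = S`
  by_cases hQS' : Q = S
  · have hUn : F.IsNormal U :=
      normal_of_characteristic hQn (hQS'.symm ▸ Ws_le S) (by rw [hQS']; exact Ws_characteristic hW hS)
    intro P f hf
    exact hB P f hf (le_inf hf.le fun x hx => hnU x (hf.le hx))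
      (fun x hx => ⟨hf.apply_mem hx, hnU _ (hf.apply_mem hx)⟩) ((isNormal_iff.mp hUn).2 P f hf)
  -- invariance on `Q`
  have hinv : ∀ P f, Mor F P f → ∀ x ∈ P, x ∈ Q → x⁻¹ * f x ∈ K := by
    by_cases hQc : F.IsCentric Q
    · intro P f hf x hxP hxQ
      have h : FusionSysModel.Hyp p F Q := ⟨hS, hF, hQn, hQc⟩
      haveI := FusionSysModel.k0_normal h
      obtain ⟨hfin, hι, ⟨T, hTr⟩, hC⟩ := FusionSysModel.isModel h
      haveI := hfin
      set G := FusionSysModel.Model h
      set ι : S →* G := FusionSysModel.iota h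
      have hxS := hQS hxQ
      have hfxQ := normal_invariant hQn hf hxP hxQ
      have hfxS := hQS hfxQ
      have hQnm : ((Q.subgroupOf S).map ι).Normal := by
        constructor
        rintro _ ⟨q, hq, rfl⟩ y
        rw [FusionSysModel.conj_iota_Q h y hq]
        exact ⟨⟨afun (FusionSysModel.modelFst h y : MulAut Q) q, h.le (afun_mem _ hq)⟩, Subgroup.mem_subgroupOf.mpr (afun_mem _ (Subgroup.mem_subgroupOf.mp hq)), rfl⟩
      have hQp : (Q.subgroupOf S).map ι ≤ Cfsg.pCore p G :=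
        HallCore.le_pCore ((hS.to_subgroup _).map _)
      obtain ⟨-, -, g, hg⟩ := (FusionRealized87.mor_iff hι).mp hf
      have e1 := hg x hxP
      rw [FusionRealized87.up_apply ι hfxS, FusionRealized87.up_apply ι hxS, cj_apply] at e1
      have hmem : ι ((⟨x, hxS⟩ : S)⁻¹ * ⟨f x, hfxS⟩) ∈ Cfsg.pCore p G ⊓ commutator G := by
        refine Subgroup.mem_inf.mpr ⟨hQp (Subgroup.mem_map_of_mem ι
          (Subgroup.mem_subgroupOf.mpr (Q.mul_mem (Q.inv_mem hxQ) hfxQ))), ?_⟩
        rw [map_mul, map_inv, e1, commutator_def]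
        have h2 := Subgroup.commutator_mem_commutator
          (Subgroup.mem_top ((ι ⟨x, hxS⟩)⁻¹)) (Subgroup.mem_top g)
        rw [commutatorElement_def, inv_inv] at h2
        simpa [mul_assoc] using h2
      rw [hT G T hC, Subgroup.map_subtype_commutator] at hmem
      set NU := Subgroup.normalizer
        (((W ↥(T : Subgroup G)).map (T : Subgroup G).subtype : Subgroup G) : Set G)
      set K' : Subgroup G := (K.subgroupOf S).map ι with hK'
      -- the functor value in the model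
      let e : ↥S ≃* ↥(T : Subgroup G) :=
        (MonoidHom.ofInjective hι.1).trans (MulEquiv.subgroupCongr hTr.symm)
      have he : ∀ s : S, ((e s : ↥(T : Subgroup G)) : G) = ι s := fun s => rfl
      have hWe : ∀ y : G, y ∈ (W ↥(T : Subgroup G)).map (T : Subgroup G).subtype ↔
          ∃ w : S, (w : Ω) ∈ U ∧ ι w = y := by
        intro y
        rw [← hW.nat _ _ hS e, Subgroup.map_map]
        constructor
        · rintro ⟨w, hw, rfl⟩
          exact ⟨w, ⟨w, hw, rfl⟩, he w⟩
        · rintro ⟨w, ⟨w', hw', hwe⟩, rfl⟩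
          obtain rfl : w' = w := Subtype.ext hwe
          exact ⟨_, hw', he _⟩
      have hTN : (T : Subgroup G) ≤ NU := by
        intro t ht
        obtain ⟨s, rfl⟩ : t ∈ ι.range := hTr ▸ ht
        refine Subgroup.mem_normalizer_fintype ?_
        intro y hy
        obtain ⟨w, hw, rfl⟩ := (hWe y).mp hy
        refine (hWe _).mpr ⟨s * w * s⁻¹, ?_, by simp⟩
        exact cj_mem_of_normalizer (hnU s s.2) hw
      have hsyl := (ConjFunctorBasic.isSylowIn_top T).mono hTN le_top
      have hK'le : (T : Subgroup G) ⊓ ⁅NU, NU⁆ ≤ K' := by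
        refine ConjFunctorTransfer.inf_commutator_le hsyl fun n hn q hq hnq => ?_
        obtain ⟨a, rfl⟩ : q ∈ ι.range := hTr ▸ hq
        obtain ⟨b, hb⟩ : n * ι a * n⁻¹ ∈ ι.range := hTr ▸ hnq
        rw [← hb]
        -- the map induced by `n`
        set P₀ : Subgroup Ω := Subgroup.zpowers (a : Ω) ⊔ U with hP₀
        have hP₀S : P₀ ≤ S := sup_le (Subgroup.zpowers_le.mpr a.2) (Ws_le S)
        have hrange : ∀ y ∈ P₀, cj n (FusionRealized87.up ι y) ∈ ι.range := by
          have hsub : P₀.subgroupOf S ≤ (ι.range.comap (MulAut.conj n).toMonoidHom).comap ι := by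
            rw [hP₀, Subgroup.subgroupOf_sup (Subgroup.zpowers_le.mpr a.2) (Ws_le S)]
            refine sup_le ?_ fun w hw => ?_
            · intro s hs
              obtain ⟨j, hj⟩ := Subgroup.mem_zpowers_iff.mp (Subgroup.mem_subgroupOf.mp hs)
              obtain rfl : a ^ j = s := Subtype.ext (by simpa using hj)
              refine Subgroup.zpow_mem _ ?_ j
              exact ⟨b, hb⟩
            · obtain ⟨w', -, hw'⟩ := (hWe _).mp
                ((Subgroup.mem_normalizer_iff.mp hn _).mp ((hWe _).mpr ⟨w, hw, rfl⟩))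
              exact ⟨w', hw'⟩
          intro y hy
          rw [FusionRealized87.up_apply ι (hP₀S hy)]
          exact hsub (show (⟨y, hP₀S hy⟩ : S) ∈ P₀.subgroupOf S from hy)
        have hm := FusionRealized87.mor_of_conj hι hP₀S hrange
        have hfa : FusionRealized87.down ι (cj n (FusionRealized87.up ι (a : Ω))) = (b : Ω) := by
          rw [FusionRealized87.up_apply ι a.2]
          show FusionRealized87.down ι (n * ι a * n⁻¹) = _
          rw [← hb, ← FusionRealized87.up_apply ι b.2, FusionRealized87.down_up hι b.2]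
        have hmove := hB P₀ _ hm (le_inf hP₀S fun y hy => hnU y (hP₀S hy))
          (fun y hy => ⟨hm.apply_mem hy, hnU _ (hm.apply_mem hy)⟩)
          ⟨fun y => FusionRealized87.down ι (cj n (FusionRealized87.up ι y)),
            by rwa [sup_eq_left.mpr le_sup_right], fun _ _ => rfl,
            (hm.restrict_to le_sup_right).im_self fun w hw => by
              rw [FusionRealized87.up_apply ι (Ws_le S hw)]
              obtain ⟨w', hw'U, hw'⟩ := (hWe _).mp
                ((Subgroup.mem_normalizer_iff.mp hn _).mp ((hWe _).mpr ⟨⟨w, Ws_le S hw⟩, hw, rfl⟩))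
              rw [cj_apply, ← hw', ← FusionRealized87.up_apply ι w'.2,
                FusionRealized87.down_up hι w'.2]
              exact hw'U⟩
          (a : Ω) (Subgroup.mem_sup_left (Subgroup.mem_zpowers _))
        simp only [hfa] at hmove
        refine ⟨b * a⁻¹, ?_, by rw [map_mul, map_inv]⟩
        have h3 := hconj _ (S.mul_mem (S.inv_mem a.2) a.2) _ a.2
        have h4 := hconj (a : Ω) a.2 ((a : Ω)⁻¹ * b) (S.mul_mem (S.inv_mem a.2) b.2)
        show (b : Ω) * (a : Ω)⁻¹ ∈ K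
        have h5 := K.mul_mem hmove h4
        simpa [cj_apply, mul_assoc] using h5
      have hTK : ι ((⟨x, hxS⟩ : S)⁻¹ * ⟨f x, hfxS⟩) ∈ K' :=
        hK'le ⟨hTr ▸ ⟨_, rfl⟩, (Subgroup.mem_inf.mp hmem).2⟩
      obtain ⟨k, hk, hke⟩ := hTK
      obtain rfl := hι.1 hke
      exact hk
    · -- through `Q C_S(Q)`
      set X := Q ⊔ centralizerIn S Q with hX
      have hXS : X ≤ S := sup_le hQS inf_le_left
      have hQX : Q < X := by
        refine lt_of_le_of_ne le_sup_left fun e => hQc ⟨hQS, fun Q' hQ' => ?_⟩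
        obtain ⟨f, hf, rfl⟩ := FusionSysBasic.isConj_iff.mp hQ'
        rw [hf.im_self fun x hx => normal_invariant hQn hf hx hx]
        exact le_sup_right.trans e.ge
      have hSX : S ≤ Subgroup.normalizer (X : Set Ω) := by
        intro g hg
        refine mem_normalizer_of_cj_le hXS fun x hx => ?_
        refine mor_sup_induction (mor_cj (F := F) hXS hg) (fun a ha => Subgroup.mem_sup_left
          (cj_mem_of_normalizer (hSQ hg) ha)) (fun c hc => Subgroup.mem_sup_right ?_) hx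
        obtain ⟨hcS, hcc⟩ := mem_centralizerIn.mp hc
        refine mem_centralizerIn.mpr ⟨cj_mem_S hg hcS, fun y hy => ?_⟩
        have e := hcc (cj g⁻¹ y) (cj_mem_of_normalizer (hSQ (S.inv_mem hg)) hy)
        have := congrArg (cj g) e
        simp only [cj_apply] at this ⊢
        simpa [mul_assoc] using this
      have hloc := onNormalizer_top hW hS hF hB hbelow hXS hSX fun hN => hQX.not_ge (le_core hN)
      have hSXe : normalizerIn S X = S := inf_eq_left.mpr hSX
      intro P f hf x hxP hxQ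
      obtain ⟨f₁, hf₁, hag, him⟩ := (isNormal_iff.mp hQn).2 P f hf
      obtain ⟨f₂, hf₂, hag₂, hC⟩ := exists_extension_centralizer
        (receptive_of_fullyNormalized hS hF hfn) (hf₁.restrict_to le_sup_right) him
      have hX2 : im X f₂ = X := hf₂.im_self fun y hy => mor_sup_induction hf₂
        (fun a ha => Subgroup.mem_sup_left (by rw [hag₂ a ha]; exact him ▸ apply_mem_im ha))
        (fun b hb => Subgroup.mem_sup_right (hC b hb)) hy
      have := hloc X f₂ hf₂ (hSXe.symm ▸ hXS) (fun y hy => hSXe.symm ▸ hf₂.apply_mem hy)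
        ⟨f₂, by rwa [sup_idem], fun _ _ => rfl, hX2⟩ x (Subgroup.mem_sup_left hxQ)
      rwa [hag₂ x hxQ, hag x hxP] at this
  -- the quotient by `Q`
  have hQlt : Q < S := lt_of_le_of_ne hQS hQS'
  haveI hQnS : (Q.subgroupOf S).Normal :=
    ⟨fun q hq g => show cj (g : Ω) (q : Ω) ∈ Q from cj_mem_of_normalizer (hSQ g.2) hq⟩
  set θ := QuotientGroup.mk' (Q.subgroupOf S)
  set S' : Subgroup (↥S ⧸ Q.subgroupOf S) := ⊤ with hS'def
  obtain ⟨E, hE⟩ := S5132.result p hS F Q (stronglyClosed_of_normal hQn)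
  have hsurj := S5134.result p hS F hF Q (stronglyClosed_of_normal hQn) _ E hE
  have hEsat := FusionMorph88.saturated_of_surjective hS hF hsurj
  have hS'p : IsPGroup p S' := (hS.to_quotient _).of_equiv Subgroup.topEquiv.symm
  have hsmall : Nat.card S' < Nat.card S := by
    rw [hS'def, Subgroup.card_top,
      Subgroup.card_eq_card_quotient_mul_card_subgroup (Q.subgroupOf S)]
    refine lt_mul_of_one_lt_right Nat.card_pos ?_
    rw [Nat.card_congr (Subgroup.subgroupOfEquivOfLe hQS).toEquiv]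
    haveI := finite_of_le hQS
    exact (Subgroup.one_lt_card_iff_ne_bot Q).mpr hcore
  have hker : (θ.ker).map S.subtype = F.core := (FusionMorph88.factor_stronglyClosed hE).symm
  have hS'ne : S' ≠ ⊥ := by
    intro e
    refine hQlt.not_ge fun s hs => ?_
    have h1 : θ ⟨s, hs⟩ ∈ S' := Subgroup.mem_top _
    rw [e, Subgroup.mem_bot] at h1
    exact (QuotientGroup.eq_one_iff (N := Q.subgroupOf S) _).mp h1
  have hlift := exists_lift hW hΦ hS hF hB hbelow hsurj hS'p hS'ne hker
  -- maps move elements inside `K Q`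
  have hmod : ∀ P f, Mor F P f → ∀ x ∈ P, ∃ k ∈ K, k ∈ S ∧ (x⁻¹ * f x) * k⁻¹ ∈ Q := by
    intro P f hf x hx
    have hctl := IH E hS'p hEsat (Or.inl hsmall) (imageAlong θ K) ?_
    · obtain ⟨f', hf', he⟩ := FusionMorph88.morphism_mor hsurj.1 hf
      have h1 := hctl _ f' hf' _ (FusionMorph88.app_mem_imageAlong hx hf.le)
      rw [he x hx, ← FusionMorph88.app_inv (hf.le hx),
        ← FusionMorph88.app_mul (S.inv_mem (hf.le hx)) (hf.apply_mem hx)] at h1
      obtain ⟨k, hk, hkS, hke⟩ := FusionMorph88.mem_imageAlong.mp h1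
      refine ⟨k, hk, hkS, ?_⟩
      have hm := S.mul_mem (S.inv_mem (hf.le hx)) (hf.apply_mem hx)
      have : x⁻¹ * f x * k⁻¹ ∈ (θ.ker).map S.subtype := FusionMorph88.mem_kerAlong.mpr
        ⟨S.mul_mem hm (S.inv_mem hkS), by
          rw [FusionMorph88.app_mul hm (S.inv_mem hkS), FusionMorph88.app_inv hkS, hke,
            mul_inv_cancel]⟩
      rwa [hker] at this
    intro P' h' hh' hP' hv' hx' y hy
    obtain ⟨f₀, hf₀, hΦ₀, he⟩ := hlift P' h' hh' hP' hv' hx'
    obtain ⟨⟨a, ha⟩, rfl⟩ := QuotientGroup.mk'_surjective (Q.subgroupOf S) y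
    have e2 : FusionMorph88.app θ a = θ ⟨a, ha⟩ := FusionMorph88.app_apply θ ha
    have hap : a ∈ preimageAlong θ P' :=
      FusionMorph88.mem_preimageAlong.mpr ⟨ha, e2.symm ▸ hy⟩
    rw [← e2, he a hap, ← FusionMorph88.app_inv ha,
      ← FusionMorph88.app_mul (S.inv_mem ha) (hf₀.apply_mem hap)]
    exact FusionMorph88.mem_imageAlong.mpr
      ⟨_, hΦ₀ a hap, S.mul_mem (S.inv_mem ha) (hf₀.apply_mem hap), rfl⟩
  -- transfer
  set K₁ := K ⊓ S
  have hK₁ : K₁ ≤ S := inf_le_right
  have hcomm : ⁅(S : Subgroup Ω), S⁆ ≤ K₁ := by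
    rw [Subgroup.commutator_le]
    intro a ha b hb
    refine ⟨?_, ?_⟩
    · have := hconj b hb a⁻¹ (S.inv_mem ha)
      simpa [cj_apply, commutatorElement_def, mul_assoc] using this
    · rw [commutatorElement_def]
      exact S.mul_mem (S.mul_mem (S.mul_mem ha hb) (S.inv_mem ha)) (S.inv_mem hb)
  obtain ⟨hKn, hKc, hmk⟩ := FusionFocal.exists_quotient_fun hK₁ hcomm
  haveI := hKn
  haveI := hKc
  let χ : Ω → ↥S ⧸ K₁.subgroupOf S := fun x => if h : x ∈ S then QuotientGroup.mk ⟨x, h⟩ else 1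
  have hχa : ∀ x (h : x ∈ S), χ x = QuotientGroup.mk ⟨x, h⟩ := fun x h => dif_pos h
  have hχK : ∀ x, x ∈ S → ∀ y, y ∈ S → x⁻¹ * y ∈ K → χ y = χ x := by
    intro x hx y hy hxy
    rw [hχa x hx, hχa y hy]
    exact ((hmk ⟨x, hx⟩ ⟨y, hy⟩).mpr ⟨hxy, S.mul_mem (S.inv_mem hx) hy⟩).symm
  have hχ : FusionTransfer.IsInvHom S S χ :=
    ⟨fun x hx y hy => by rw [hχa x hx, hχa y hy, hχa _ (S.mul_mem hx hy)]; rfl,
      fun s hs x hx => hχK x hx _ (cj_mem_S hs hx) (hconj s hs x hx)⟩
  have hSc : F.StronglyClosed S :=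
    stronglyClosed_iff.mpr ⟨le_rfl, fun P f _ hf x hx => hf.apply_mem hx⟩
  obtain ⟨N, V, fV, hN, hVm, hVst, -, -, hVz, -⟩ := FusionTransfer.exists_transfer' hS hF hSc
    (fun P f hf => ⟨1, S.one_mem, fun x hx => by
      rw [cj_one]; exact S.mul_mem (S.inv_mem (hf.apply_mem hx)) (hf.le hx)⟩) hχ
  have hV1 : V 1 = 1 := by
    have h1 := hVm 1 S.one_mem 1 S.one_mem
    rwa [one_mul, left_eq_mul] at h1
  have hVQ : ∀ q ∈ Q, V q = χ q ^ N := fun q hq => hVz q (hQS hq) fun j s hs P g hg hm => by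
    have hy : cj s (q ^ j) ∈ Q := cj_mem_of_normalizer (hSQ hs) (pow_mem hq j)
    have hj : q ^ j ∈ S := pow_mem (hQS hq) j
    rw [hχK _ (cj_mem_S hs hj) _ (hg.apply_mem hm) (hinv P g hg _ hm hy), hχ.inv s hs _ hj]
  intro P f hf x hx
  obtain ⟨k, hk, hkS, hq⟩ := hmod P f hf x hx
  have hxS := hf.le hx
  have hfxS := hf.apply_mem hx
  have hVinv : V x⁻¹ * V x = 1 := by
    rw [← hVm _ (S.inv_mem hxS) _ hxS, inv_mul_cancel, hV1]
  have hVy : V (x⁻¹ * f x) = 1 := by
    rw [hVm _ (S.inv_mem hxS) _ hfxS, hVst P f hf x hx hxS, hVinv]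
  have hyS := S.mul_mem (S.inv_mem hxS) hfxS
  let kerV : Subgroup Ω :=
    { carrier := {a | a ∈ S ∧ V a = 1}
      one_mem' := ⟨S.one_mem, hV1⟩
      mul_mem' := fun {a b} ha hb => ⟨S.mul_mem ha.1 hb.1, by rw [hVm a ha.1 b hb.1, ha.2, hb.2, one_mul]⟩
      inv_mem' := fun {a} ha => ⟨S.inv_mem ha.1, by
        have h1 := hVm a⁻¹ (S.inv_mem ha.1) a ha.1
        rwa [inv_mul_cancel, hV1, ha.2, mul_one, eq_comm] at h1⟩ }
  have hkV : V k = 1 := ((FusionFocal.focal_le_iff (K := kerV)).mpr (fun P₁ f₁ hf₁ a ha =>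
    ⟨S.mul_mem (S.inv_mem (hf₁.le ha)) (hf₁.apply_mem ha), by
      rw [hVm _ (S.inv_mem (hf₁.le ha)) _ (hf₁.apply_mem ha), hVst _ _ hf₁ a ha (hf₁.le ha),
        ← hVm _ (S.inv_mem (hf₁.le ha)) _ (hf₁.le ha), inv_mul_cancel, hV1]⟩) hk.2).2
  have hqV : V (x⁻¹ * f x * k⁻¹) = 1 := by
    have h1 := hVm _ (S.mul_mem hyS (S.inv_mem hkS)) k hkS
    rwa [inv_mul_cancel_right, hVy, hkV, mul_one, eq_comm] at h1
  have hχk : χ k = 1 := by
    rw [hχK 1 S.one_mem k hkS (by simpa using hk), hχ.map_one]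
  have hχq : χ (x⁻¹ * f x * k⁻¹) = χ (x⁻¹ * f x) := by
    have := hχ.mul _ (S.mul_mem hyS (S.inv_mem hkS)) _ hkS
    rw [inv_mul_cancel_right, hχk, mul_one] at this
    exact this.symm
  have hzero : χ (x⁻¹ * f x) ^ N = 1 := by rw [← hχq, ← hVQ _ hq, hqV]
  obtain ⟨m, hm⟩ := (hS.to_quotient (K₁.subgroupOf S)) (χ (x⁻¹ * f x))
  have hord : orderOf (χ (x⁻¹ * f x)) = 1 := by
    refine Nat.Coprime.eq_one_of_dvd ?_ (Int.natCast_dvd.mp (orderOf_dvd_iff_zpow_eq_one.mpr hzero))
    refine Nat.Coprime.coprime_dvd_left (orderOf_dvd_of_pow_eq_one hm) (Nat.Coprime.pow_left _ ?_)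
    exact (Fact.out : p.Prime).coprime_iff_not_dvd.mpr fun hd => hN (Int.natCast_dvd.mpr hd)
  rw [orderOf_eq_one_iff, hχa _ hyS] at hord
  have h1 := ((hmk ⟨_, hyS⟩ 1).mp (by rw [hord]; rfl)).1
  simpa [mul_assoc] using K.inv_mem h1

/-- Let p be a prime and W a positive characteristic p-functor: W assigns to every finite p-group Q (in a fixed universe) a subgroup W(Q), nontrivial when Q is, carried to W(R) by every isomorphism Q ≅ R. Suppose W satisfies the local condition: for every finite group G with Sylow p-subgroup P such that C_G(O_p(G)) ≤ O_p(G), one has O_p(G) ∩ [G, G] = O_p(G) ∩ [N, N] for N = N_G(W(P)). Then W controls transfer in every saturated fusion system F over a finite p-group S: the focal subgroup of F equals the focal subgroup of the normalizer fusion system of W(S) in F. -/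
theorem result {p : ℕ} [Fact p.Prime] (W : ∀ (Q : Type u) [Group Q], Subgroup Q) (hW1 : ∀ (Q : Type u) [Group Q] [Finite Q], IsPGroup p Q → Nontrivial Q → W Q ≠ ⊥) (hW2 : ∀ (Q R : Type u) [Group Q] [Group R] [Finite Q], IsPGroup p Q → ∀ φ : Q ≃* R, (W Q).map φ.toMonoidHom = W R) (hT : ∀ (G : Type u) [Group G] [Finite G] (P : Sylow p G), Subgroup.centralizer ((Cfsg.pCore p G : Subgroup G) : Set G) ≤ Cfsg.pCore p G → Cfsg.pCore p G ⊓ commutator G = Cfsg.pCore p G ⊓ (commutator ↥(Subgroup.normalizer (((W ↥(P : Subgroup G)).map (P : Subgroup G).subtype : Subgroup G) : Set G))).map (Subgroup.normalizer (((W ↥(P : Subgroup G)).map (P : Subgroup G).subtype : Subgroup G) : Set G)).subtype) {Ω : Type u} [Group Ω] {S : Subgroup Ω} [Finite S] (hS : IsPGroup p S) (F : Cfsg.FusionSystem S) (hF : F.IsSaturated p) (N : Cfsg.FusionSystem (Cfsg.FusionSystem.normalizerIn S ((W ↥S).map S.subtype))) (hN : F.IsNormalizerSystem ((W ↥S).map S.subtype) N) : N.focalSubgroup = F.focalSubgroup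 := by
  obtain hW : Fn p W := ⟨hW1, hW2⟩
  refine le_antisymm ?_ ?_
  · exact FusionFocal.focal_le_iff.mpr fun P f hf x hx =>
      FusionFocal.gen_mem_focal ((mor_normalizerSystem_iff hN).mp hf).1 hx
  · refine FusionFocal.focal_le_iff.mpr fun P f hf => ?_
    refine induction_less (M := fun {Ω} _ {S} _ E => Tr W E) (fun F₀ h₀ h₁ IH => step hW hT F₀ h₀ h₁ IH)
      F hS hF N.focalSubgroup ?_ P f hf
    exact fun P f hf hP hv hx x hxP =>
      FusionFocal.gen_mem_focal ((mor_normalizerSystem_iff hN).mpr ⟨hf, hP, hv, hx⟩) hxP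

end Cfsg.Agent.S5197
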