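import Cfsg.Statements.S5252
import Cfsg.Agent.S5197
import Cfsg.Agent.S1991
import Cfsg.Agent.S1993
import Cfsg.Agent.Lib.FusionModelTools
import Cfsg.Agent.Lib.FusionRealized87
import Cfsg.Agent.Lib.FusionWeakAlperin

set_option autoImplicit false
open Cfsg

namespace Cfsg.Agent.S5252

open Cfsg.FusionSystem Cfsg.Agent.FusionSysBasic Cfsg.Agent.FusionSysNormal
open scoped commutatorElement

universe v

theorem conj_div_mem {G : Type v} [Group G] {p : ℕ} [Fact p.Prime] {M : Subgroup G} [M.Normal]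
    (hMi : M.index = p) (x g : G) : x⁻¹ * (g * x * g⁻¹) ∈ M := by
  haveI : IsCyclic (G ⧸ M) := isCyclic_of_prime_card (p := p) (hMi ▸ M.index_eq_card.symm)
  letI := IsCyclic.commGroup (α := G ⧸ M)
  rw [← QuotientGroup.eq_one_iff]
  simp only [QuotientGroup.mk_mul, QuotientGroup.mk_inv]
  rw [mul_comm (QuotientGroup.mk g : G ⧸ M), mul_inv_cancel_right, inv_mul_cancel]

set_option maxHeartbeats 1000000 in
/-- A system realised by a finite group on a Sylow subgroup with `p`-group automiser. -/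
theorem focal_lt_of_realized {Ω : Type v} [Group Ω] {T : Subgroup Ω} [Finite T] {p : ℕ}
    [Fact p.Prime] (hp : 5 ≤ p) {N : Cfsg.FusionSystem T} {G : Type v} [Group G] [Finite G]
    {ι : T →* G} (hreal : N.IsRealizedBy ι) (hsyl : ∃ P : Sylow p G, (P : Subgroup G) = ι.range)
    (hTne : T ≠ ⊥) (hpg : IsPGroup p ↥(N.autGroup T)) : N.focalSubgroup < T := by
  obtain ⟨P, hP⟩ := hsyl
  have hPne : (P : Subgroup G) ≠ ⊥ := by
    intro e
    rw [hP] at e
    refine hTne ((Subgroup.eq_bot_iff_forall _).mpr fun x hx => ?_)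
    have h1 : ι ⟨x, hx⟩ ∈ ι.range := ⟨_, rfl⟩
    rw [e, Subgroup.mem_bot] at h1
    exact congrArg Subtype.val (hreal.1 (h1.trans (map_one ι).symm))
  obtain ⟨M, hMn, hMi⟩ := S1991.result hp P hPne (fun g hg hco => by
    rw [Subgroup.mem_centralizer_iff]
    intro y hy
    have hin : ∀ x ∈ T, cj g (FusionRealized87.up ι x) ∈ ι.range := fun x hx => by
      rw [← hP]
      exact cj_mem_of_normalizer hg (hP ▸ FusionRealized87.up_mem_range ι hx)
    have hm := FusionRealized87.mor_of_conj hreal le_rfl hin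
    obtain ⟨β, hβ, hβe⟩ := hm.exists_aut (hm.im_self fun x hx => hm.apply_mem hx)
    have hup : ∀ x ∈ T,
        FusionRealized87.up ι (afun β x) = cj g (FusionRealized87.up ι x) := fun x hx => by
      rw [hβe x hx]; exact FusionRealized87.up_down ι (hin x hx)
    have hpow : ∀ k : ℕ, ∀ x ∈ T,
        FusionRealized87.up ι (afun (β ^ k) x) = cj (g ^ k) (FusionRealized87.up ι x) := by
      intro k
      induction k with
      | zero => intro x hx; rw [pow_zero, pow_zero, afun_one hx, cj_one]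
      | succ k ih =>
        intro x hx
        rw [pow_succ, afun_mul _ _ hx, ih _ (afun_mem β hx), hup x hx, cj_cj, ← pow_succ]
    obtain ⟨k, hk⟩ := hpg ⟨β, hβ⟩
    have hk' : β ^ p ^ k = 1 := congrArg Subtype.val hk
    have hfix : ∀ x ∈ T,
        cj g (FusionRealized87.up ι x) = FusionRealized87.up ι x := by
      intro x hx
      have h1 : g ^ p ^ k ∈ Subgroup.centralizer ({FusionRealized87.up ι x} : Set G) := by
        have := hpow (p ^ k) x hx
        rw [hk', afun_one hx, cj_apply, eq_mul_inv_iff_mul_eq] at this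
        exact Subgroup.mem_centralizer_singleton_iff.mpr this.symm
      obtain ⟨m, hm⟩ := exists_pow_eq_self_of_coprime (x := g) (n := p ^ k)
        ((Nat.Coprime.pow_right k hco).symm)
      have h2 := pow_mem h1 m
      rw [hm, Subgroup.mem_centralizer_singleton_iff] at h2
      rw [cj_apply, h2, mul_inv_cancel_right]
    rw [hP] at hy
    obtain ⟨⟨x, hx⟩, rfl⟩ := hy
    have h3 := hfix x hx
    rw [FusionRealized87.up_apply ι hx, cj_apply, mul_inv_eq_iff_eq_mul] at h3
    exact h3.symm)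
  haveI := hMn
  have hle : N.focalSubgroup ≤ (M.comap ι).map (T).subtype := by
    refine FusionFocal.focal_le_iff.mpr fun R f hf x hx => ?_
    obtain ⟨hR, hfR, g, hg⟩ := (FusionRealized87.mor_iff hreal).mp hf
    have hfx := hfR x hx
    refine ⟨⟨x, hR hx⟩⁻¹ * ⟨f x, hfx⟩, ?_, rfl⟩
    show ι (⟨x, hR hx⟩⁻¹ * ⟨f x, hfx⟩) ∈ M
    rw [map_mul, map_inv, ← FusionRealized87.up_apply ι hfx, hg x hx,
      FusionRealized87.up_apply ι (hR hx), cj_apply]
    exact conj_div_mem hMi _ g
  refine lt_of_le_of_ne (hle.trans (Subgroup.map_subtype_le _)) fun e => ?_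
  have hall : ι.range ≤ M := by
    rintro _ ⟨⟨x, hx⟩, rfl⟩
    obtain ⟨y, hy, hye⟩ := hle (e.ge hx)
    rwa [← Subtype.ext (a2 := (⟨x, hx⟩ : T)) hye]
  have hd : M.index ∣ (P : Subgroup G).index := hP ▸ Subgroup.index_dvd_of_le hall
  rw [hMi] at hd
  exact P.not_dvd_index hd


set_option maxHeartbeats 1000000 in
theorem core_proof {Ω : Type v} [Group Ω] {S : Subgroup Ω} [Finite S] (p : ℕ) [Fact p.Prime]
    (hS : IsPGroup p S) (F : Cfsg.FusionSystem S) (hF : F.IsSaturated p) (hp : 5 ≤ p) (hS1 : S ≠ ⊥)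
    (haut : IsPGroup p ↥(F.autGroup S)) : F.focalSubgroup < S := by
  have hW := (ConjFunctorKMain.isCharPFunctor_kInfUpper : Cfsg.IsCharPFunctor.{v} p Cfsg.kInfUpper)
  set W := (Cfsg.kInfUpper ↥S).map S.subtype with hWdef
  have hWS : W ≤ S := Subgroup.map_subtype_le _
  have hnS : S ≤ Subgroup.normalizer (W : Set Ω) := fun g hg =>
    mem_normalizer_of_cj_le hWS fun x hx => by
      obtain ⟨w, hw, rfl⟩ := hx
      refine ⟨MulAut.conj (⟨g, hg⟩ : S) w, ?_, rfl⟩
      rw [SetLike.mem_coe, ← hW.2 _ _ hS (MulAut.conj (⟨g, hg⟩ : S))]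
      exact ⟨w, hw, rfl⟩
  have hT : normalizerIn S W = S := le_antisymm inf_le_left (le_inf le_rfl hnS)
  let N := normalizerSystem F W hWS
  have hN := isNormalizerSystem_normalizerSystem (F := F) W hWS
  have hfoc : N.focalSubgroup = F.focalSubgroup :=
    S5197.result Cfsg.kInfUpper hW.1 hW.2 (fun G _ _ P _ => by
      have hOP : Cfsg.pCore p G ≤ (P : Subgroup G) := by
        haveI := HallCore.pCore_normal p G
        exact le_sup_left.trans
          (P.3 ((HallCore.isPGroup_pCore p G).to_sup_of_normal_left P.2) le_sup_right).le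
      have h := (S1993.result P).1 hp
      rw [Subgroup.map_subtype_commutator]
      refine le_antisymm (fun z hz => ⟨hz.1, (h.le ⟨hOP hz.1, hz.2⟩).2⟩)
        (fun z hz => ⟨hz.1, (h.ge ⟨hOP hz.1, hz.2⟩).2⟩)) hS F hF N hN
  have hfn : F.IsFullyNormalized W := FusionWeakAlperin.fullyNormalized_of_normal hWS
    fun g hg x hx => cj_mem_of_normalizer (hnS hg) hx
  haveI : Finite ↥(normalizerIn S W) := by rw [hT]; infer_instance
  have hTp : IsPGroup p ↥(normalizerIn S W) := hS.to_le inf_le_left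
  have hWn := FusionModelTools.normal_normalizerSystem hWS hN
  have hWc : N.IsCentric W := by
    refine ⟨le_normalizerIn hWS, fun R hR => ?_⟩
    obtain ⟨f, hf, rfl⟩ := FusionSysBasic.isConj_iff.mp hR
    rw [(hf.im_self fun x hx => normal_invariant hWn hf hx hx)]
    intro c hc
    obtain ⟨hcT, hcc⟩ := hc
    have hcS : c ∈ S := inf_le_left (a := S) hcT
    exact ⟨⟨c, hcS⟩, (ConjFunctorKInf.centralizer_kInf ↥S hS).2
      (Subgroup.mem_centralizer_iff.mpr fun w hw => Subtype.ext (hcc _ ⟨w, hw, rfl⟩)), rfl⟩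
  have hH : FusionSysModel.Hyp p N W :=
    ⟨hTp, FusionSysNormalizer.normalizerSystem_saturated hS hF hfn hN, hWn, hWc⟩
  haveI := FusionSysModel.k0_normal hH
  haveI := FusionSysModel.finite_model hH
  have hM := FusionSysModel.isModel hH
  haveI := hM.1
  have haut' : ∀ Q : Subgroup Ω, Q = S → IsPGroup p ↥(F.autGroup Q) := by
    intro Q hQ; subst hQ; exact haut
  have hlt := focal_lt_of_realized hp hM.2.1 hM.2.2.1 (hT.symm ▸ hS1)
    ((haut' _ hT).to_le fun γ hγ => mem_autGroup_of_mor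
      ((mor_normalizerSystem_iff hN).mp ((mem_autGroup le_rfl).mp hγ)).1)
  rw [← hfoc]
  exact lt_of_lt_of_le hlt inf_le_left

/-- Let p ≥ 5 be a prime and F a saturated fusion system over a nontrivial finite p-group S such that Aut_F(S) is a p-group. Then the focal subgroup of F is a proper subgroup of S. -/
theorem result {Ω : Type*} [Group Ω] {S : Subgroup Ω} [Finite S] (p : ℕ) [Fact p.Prime] (hS : IsPGroup p S) (F : Cfsg.FusionSystem S) (hF : F.IsSaturated p) (hp : 5 ≤ p) (hS1 : S ≠ ⊥) (haut : IsPGroup p ↥(F.autGroup S)) : F.focalSubgroup < S := by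
  exact core_proof p hS F hF hp hS1 haut

end Cfsg.Agent.S5252
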