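import Cfsg.Statements.S4978
import Mathlib
import Cfsg.Agent.S5252
import Cfsg.Agent.Lib.Star80Twist
import Cfsg.Agent.Lib.BrauerBlocksHeight

set_option autoImplicit false
open Cfsg

namespace Cfsg.Agent.S4978
open scoped ComplexConjugate
open Cfsg.Agent.BrauerBlocksVal Cfsg.Agent.BrauerBlocksCentral Cfsg.Agent.BrauerBlocksBasic
  Cfsg.Agent.BrauerBlocksHeight Cfsg.Agent.CharBasic Cfsg.Agent.CharBasicOrth

/-- The degree with the `p`-part removed. -/
noncomputable def deg' {G : Type*} [Group G] (p : ℕ) (χ : G → ℂ) : ℕ :=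
  charDegree χ / p ^ degExp p χ

/-- The summand attached to `χ` in the orthogonality relation with the regular column. -/
noncomputable def uTerm {G : Type*} [Group G] [Fintype G] (p : ℕ) (φ χ : G → ℂ) : ℂ :=
  χ 1 / φ 1 * om φ (regZ p χ)

section Congr

variable {G : Type*} [Group G] [Fintype G] {p : ℕ} {M : Ideal AlgInt}
variable {B : Set (IrrCharacter G)} {φ : IrrCharacter G}

theorem not_dvd_deg' (hp : p.Prime) (χ : IrrCharacter G) : ¬ p ∣ deg' p (χ : G → ℂ) :=
  Nat.not_dvd_ordCompl hp (apply_one_eq_charDegree χ.2).2.ne'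

theorem apply_one_eq (χ : IrrCharacter G) :
    (χ : G → ℂ) 1 = (p : ℂ) ^ degExp p (χ : G → ℂ) * (deg' p (χ : G → ℂ) : ℂ) := by
  rw [(apply_one_eq_charDegree χ.2).1]
  exact_mod_cast (Nat.ordProj_mul_ordCompl_eq_self (charDegree (χ : G → ℂ)) p).symm

/-- The summands over the block add up to `|G| / φ 1`. -/
theorem sum_uTerm (hM : IsPModular p M) (hB : IsPBlock M B) (hφ : φ ∈ B)
    [DecidablePred (· ∈ B)] :
    ∑ χ ∈ Finset.univ.filter (· ∈ B), uTerm p (φ : G → ℂ) (χ : G → ℂ) =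
      (Nat.card G : ℂ) / (φ : G → ℂ) 1 := by
  classical
  have h1 : (φ : G → ℂ) 1 ≠ 0 := isIrrCharacter_apply_one_ne_zero φ.2
  rw [Finset.sum_filter_of_ne fun χ _ hne => ?_]
  · calc ∑ χ : IrrCharacter G, uTerm p (φ : G → ℂ) (χ : G → ℂ)
        = ∑ χ : IrrCharacter G, ((φ : G → ℂ) 1)⁻¹ * ((φ : G → ℂ) 1)⁻¹ *
            ((χ : G → ℂ) 1 * regPair p (φ : G → ℂ) (χ : G → ℂ)) := by
          refine Finset.sum_congr rfl fun χ _ => ?_
          rw [uTerm, om_regZ]
          field_simp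
      _ = ((φ : G → ℂ) 1)⁻¹ * ((φ : G → ℂ) 1)⁻¹ *
            ∑ x ∈ Finset.univ.filter (fun x : G => ¬ p ∣ orderOf x), (φ : G → ℂ) x *
              ∑ χ : IrrCharacter G, (χ : G → ℂ) 1 * conj ((χ : G → ℂ) x) := by
          rw [← Finset.mul_sum]
          congr 1
          simp only [regPair, Finset.mul_sum]
          rw [Finset.sum_comm]
          refine Finset.sum_congr rfl fun x _ => Finset.sum_congr rfl fun χ _ => ?_
          rw [conj_irr]
          ring
      _ = _ := by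
          rw [Finset.sum_eq_single_of_mem (1 : G) (by simp [hM.1.ne_one]) fun x _ hx => by
            rw [sum_irr_mul_conj, if_neg fun hc => hx (isConj_one_right.1 hc), mul_zero],
            sum_irr_mul_conj, if_pos (IsConj.refl _),
            show Nat.card (Subgroup.centralizer ({1} : Set G)) = Nat.card G by
              rw [Subgroup.centralizer_eq_top_iff_subset.2 (by simp), Subgroup.card_top]]
          field_simp
  · by_contra hc
    refine hne ?_
    rw [uTerm, om_regZ, regPair_eq_zero hM fun hs => hc ?_, zero_div, mul_zero]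
    rw [block_eq_blockOf hM hB hφ]
    exact hs

/-- On height zero the summand is the square of the degree ratio times a fixed unit. -/
theorem uTerm_congr (hM : IsPModular p M) (hB : IsPBlock M B) (hφ : φ ∈ B)
    (h0 : blockHeight p B (φ : G → ℂ) = 0) {χ : IrrCharacter G} (hχ : χ ∈ B) :
    Sm M (uTerm p (φ : G → ℂ) (χ : G → ℂ) -
      ((χ : G → ℂ) 1 / (φ : G → ℂ) 1) ^ 2 * om (φ : G → ℂ) (regZ p (φ : G → ℂ))) := by
  have hr : Int' M ((χ : G → ℂ) 1 / (φ : G → ℂ) 1) :=
    (degRatio hM φ.2 χ.2 ((blockHeight_eq_zero_iff hφ).1 h0 χ hχ)).1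
  have e : om (φ : G → ℂ) (regZ p (χ : G → ℂ)) =
      ((χ : G → ℂ) 1 / (φ : G → ℂ) 1) * om (χ : G → ℂ) (regZ p (φ : G → ℂ)) := by
    have := isIrrCharacter_apply_one_ne_zero χ.2
    rw [om_regZ, om_regZ, regPair_comm]
    field_simp
  rw [uTerm, e, ← mul_assoc, ← sq, ← mul_sub]
  exact (om_block_sub_sm hM hB hχ hφ (zr_regZ hM φ)).mul_left (hr.pow 2)

theorem degExp_lt_of_height_pos (hφ : φ ∈ B) (h0 : blockHeight p B (φ : G → ℂ) = 0)
    {χ : IrrCharacter G} (hχ : χ ∈ B) (hne : blockHeight p B (χ : G → ℂ) ≠ 0) :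
    degExp p (φ : G → ℂ) < degExp p (χ : G → ℂ) := by
  refine lt_of_le_of_ne ((blockHeight_eq_zero_iff hφ).1 h0 χ hχ) fun e =>
    hne ((blockHeight_eq_zero_iff hχ).2 fun ψ hψ => ?_)
  exact e ▸ (blockHeight_eq_zero_iff hφ).1 h0 ψ hψ

theorem degExp_eq_of_height_zero (hφ : φ ∈ B) (h0 : blockHeight p B (φ : G → ℂ) = 0)
    {χ : IrrCharacter G} (hχ : χ ∈ B) (hc : blockHeight p B (χ : G → ℂ) = 0) :
    degExp p (χ : G → ℂ) = degExp p (φ : G → ℂ) :=
  le_antisymm ((blockHeight_eq_zero_iff hχ).1 hc φ hφ) ((blockHeight_eq_zero_iff hφ).1 h0 χ hχ)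

/-- Off height zero the summand is `p` times something small. -/
theorem uTerm_pos (hM : IsPModular p M) (hB : IsPBlock M B) (hφ : φ ∈ B)
    (h0 : blockHeight p B (φ : G → ℂ) = 0) {χ : IrrCharacter G} (hχ : χ ∈ B)
    (hne : blockHeight p B (χ : G → ℂ) ≠ 0) :
    Sm M (uTerm p (φ : G → ℂ) (χ : G → ℂ) / (p : ℂ)) := by
  have hlt := degExp_lt_of_height_pos hφ h0 hχ hne
  have hm : charDegree (φ : G → ℂ) * p ≠ 0 :=
    mul_ne_zero (apply_one_eq_charDegree φ.2).2.ne' hM.1.ne_zero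
  have hle : (charDegree (φ : G → ℂ) * p).factorization p ≤
      (charDegree (χ : G → ℂ)).factorization p := by
    rw [Nat.factorization_mul (apply_one_eq_charDegree φ.2).2.ne' hM.1.ne_zero,
      Finsupp.add_apply, hM.1.factorization_self]
    exact hlt
  have h1 := (natRatio hM hm (apply_one_eq_charDegree χ.2).2.ne' hle).1
  rw [Nat.cast_mul] at h1
  rw [uTerm, (apply_one_eq_charDegree χ.2).1, (apply_one_eq_charDegree φ.2).1, mul_div_right_comm,
    div_div]
  exact (om_regZ_small hM hB hχ hne hφ).mul_left h1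

/-- `|G| / φ 1` is divisible by `p ^ k` for `k` less than the defect. -/
theorem sm_card_div (hM : IsPModular p M) (hφ : φ ∈ B) (h0 : blockHeight p B (φ : G → ℂ) = 0)
    {k : ℕ} (hk : k < blockDefect p B) :
    Sm M ((Nat.card G : ℂ) / (φ : G → ℂ) 1 / (p : ℂ) ^ k) := by
  have hmin : sInf ((fun χ : IrrCharacter G => (charDegree (χ : G → ℂ)).factorization p) '' B) =
      degExp p (φ : G → ℂ) := by
    refine le_antisymm (Nat.sInf_le ⟨φ, hφ, rfl⟩) (le_csInf ⟨_, ⟨φ, hφ, rfl⟩⟩ ?_)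
    rintro x ⟨ψ, hψ, rfl⟩
    exact (blockHeight_eq_zero_iff hφ).1 h0 ψ hψ
  rw [blockDefect, hmin] at hk
  have hm : charDegree (φ : G → ℂ) * p ^ k ≠ 0 :=
    mul_ne_zero (apply_one_eq_charDegree φ.2).2.ne' (pow_ne_zero _ hM.1.ne_zero)
  have hlt : (charDegree (φ : G → ℂ) * p ^ k).factorization p < (Nat.card G).factorization p := by
    rw [Nat.factorization_mul (apply_one_eq_charDegree φ.2).2.ne' (pow_ne_zero _ hM.1.ne_zero),
      Finsupp.add_apply, hM.1.factorization_pow, Finsupp.single_eq_same]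
    have : (charDegree (φ : G → ℂ)).factorization p = degExp p (φ : G → ℂ) := rfl
    omega
  have h1 := (natRatio hM hm Nat.card_pos.ne' hlt.le).2.2 hlt
  rw [Nat.cast_mul, Nat.cast_pow, ← (apply_one_eq_charDegree φ.2).1] at h1
  rwa [div_div]

/-- The height zero part of the orthogonality relation, divided by `p ^ k`, is small. -/
theorem sm_height_zero_sum (hM : IsPModular p M) (hB : IsPBlock M B) (hφ : φ ∈ B)
    (h0 : blockHeight p B (φ : G → ℂ) = 0) [DecidablePred (· ∈ B)]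
    [Fintype {χ : IrrCharacter G // χ ∈ B ∧ blockHeight p B (χ : G → ℂ) = 0}]
    {k : ℕ} (hk : k < blockDefect p B) (hk1 : k ≤ 1) :
    Sm M ((∑ x : {χ : IrrCharacter G // χ ∈ B ∧ blockHeight p B (χ : G → ℂ) = 0},
      uTerm p (φ : G → ℂ) ((x : IrrCharacter G) : G → ℂ)) / (p : ℂ) ^ k) := by
  classical
  have hp : (p : ℂ) ≠ 0 := Nat.cast_ne_zero.2 hM.1.ne_zero
  have e : ∑ x : {χ : IrrCharacter G // χ ∈ B ∧ blockHeight p B (χ : G → ℂ) = 0},
      uTerm p (φ : G → ℂ) ((x : IrrCharacter G) : G → ℂ) =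
      ∑ χ ∈ (Finset.univ.filter (fun χ : IrrCharacter G => χ ∈ B)).filter
          (fun χ : IrrCharacter G => blockHeight p B (χ : G → ℂ) = 0),
        uTerm p (φ : G → ℂ) (χ : G → ℂ) :=
    (Finset.sum_subtype _ (fun χ => by simp) fun χ : IrrCharacter G =>
      uTerm p (φ : G → ℂ) (χ : G → ℂ)).symm
  rw [e]
  have hs := Finset.sum_filter_add_sum_filter_not (Finset.univ.filter (· ∈ B))
    (fun χ => blockHeight p B (χ : G → ℂ) = 0) fun χ => uTerm p (φ : G → ℂ) (χ : G → ℂ)
  rw [sum_uTerm hM hB hφ] at hs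
  rw [eq_sub_of_add_eq hs, sub_div, Finset.sum_div]
  refine (sm_card_div hM hφ h0 hk).sub (sm_sum _ fun χ hχ => ?_)
  simp only [Finset.mem_filter, Finset.mem_univ, true_and] at hχ
  have h1 := uTerm_pos hM hB hφ h0 hχ.1 hχ.2
  interval_cases k
  · have h2 := h1.mul_right (int'_natCast p)
    rw [div_mul_cancel₀ _ hp] at h2
    simpa using h2
  · simpa using h1

/-- Small sums of the height zero summands give a congruence on squares of degrees. -/
theorem dvd_sum_sq (hM : IsPModular p M) (hB : IsPBlock M B) (hφ : φ ∈ B)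
    (h0 : blockHeight p B (φ : G → ℂ) = 0) {ι : Type*} (s : Finset ι) (f : ι → IrrCharacter G)
    (hf : ∀ i ∈ s, f i ∈ B ∧ blockHeight p B (f i : G → ℂ) = 0)
    (h : Sm M (∑ i ∈ s, uTerm p (φ : G → ℂ) (f i : G → ℂ))) :
    p ∣ ∑ i ∈ s, deg' p (f i : G → ℂ) ^ 2 := by
  set c := om (φ : G → ℂ) (regZ p (φ : G → ℂ)) with hc
  have h1 : Sm M ((∑ i ∈ s, ((f i : G → ℂ) 1 / (φ : G → ℂ) 1) ^ 2) * c) := by
    rw [Finset.sum_mul]
    refine (sm_iff_of_sub ?_).1 h
    rw [← Finset.sum_sub_distrib]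
    exact sm_sum _ fun i hi => uTerm_congr hM hB hφ h0 (hf i hi).1
  have hu := om_regZ_unit hM hB hφ h0 hφ
  have hb : (deg' p (φ : G → ℂ) : ℂ) ≠ 0 :=
    ne_zero_of_not_sm (not_sm_natCast_of_coprime hM (not_dvd_deg' hM.1 φ))
  have h2 : Sm M (∑ i ∈ s, ((f i : G → ℂ) 1 / (φ : G → ℂ) 1) ^ 2) := by
    have := h1.mul_right (int'_inv (om_int hM φ (zr_regZ hM φ).isC (zr_regZ hM φ).int) hu)
    rwa [mul_assoc, mul_inv_cancel₀ (ne_zero_of_not_sm hu), mul_one] at this
  refine (sm_natCast_iff hM _).1 ?_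
  have h3 := h2.mul_right ((int'_natCast (deg' p (φ : G → ℂ))).pow 2)
  rw [Finset.sum_mul] at h3
  convert h3 using 1
  push_cast
  refine Finset.sum_congr rfl fun i hi => ?_
  rw [apply_one_eq (p := p) φ, apply_one_eq (p := p) (f i),
    degExp_eq_of_height_zero hφ h0 (hf i hi).1 (hf i hi).2]
  have : (p : ℂ) ^ degExp p (φ : G → ℂ) ≠ 0 := pow_ne_zero _ (Nat.cast_ne_zero.2 hM.1.ne_zero)
  field_simp

end Congr

section Orbits

open Cfsg.Agent.BrauerPairs81Base Cfsg.Agent.BrauerPairs81Pairs Cfsg.Agent.BrauerPairs81Fusion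
open scoped commutatorElement
open Cfsg.Agent.BrauerPairs81Local Cfsg.Agent.Star80Pairs Cfsg.Agent.Star80Char Cfsg.Agent.Star80Inner Cfsg.Agent.Star80Twist

attribute [local instance] Classical.propDecidable

universe u

/-- A sum of an invariant function over a set with a free action. -/
theorem exists_orbit_sum {A : Type*} [Group A] {X : Type u} [Fintype X] [MulAction A X]
    (hfree : ∀ x : X, MulAction.stabilizer A x = ⊥) (f : X → ℂ)
    (hf : ∀ (a : A) (x : X), f (a • x) = f x) :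
    ∃ (Ω : Type u) (_ : Fintype Ω) (rep : Ω → X), Nat.card X = Nat.card A * Fintype.card Ω ∧
      ∑ x, f x = (Nat.card A : ℂ) * ∑ ω, f (rep ω) := by
  haveI : Fintype (MulAction.orbitRel.Quotient A X) := Fintype.ofFinite _
  have hcard : ∀ x : X, Nat.card (MulAction.orbit A x) = Nat.card A := fun x => by
    rw [Nat.card_coe_set_eq, ← MulAction.index_stabilizer, hfree, Subgroup.index_bot]
  refine ⟨MulAction.orbitRel.Quotient A X, inferInstance, Quotient.out, ?_, ?_⟩
  · rw [Nat.card_congr (MulAction.selfEquivSigmaOrbits A X), Nat.card_sigma,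
      Finset.sum_congr rfl fun ω _ => hcard (Quotient.out ω), Finset.sum_const,
      Finset.card_univ, smul_eq_mul, mul_comm]
  · rw [← (MulAction.selfEquivSigmaOrbits A X).symm.sum_comp, Fintype.sum_sigma, Finset.mul_sum]
    refine Finset.sum_congr rfl fun ω _ => ?_
    have h1 : ∀ y : MulAction.orbit A (Quotient.out ω),
        f ((MulAction.selfEquivSigmaOrbits A X).symm ⟨ω, y⟩) = f (Quotient.out ω) := by
      rintro ⟨_, a, rfl⟩
      exact hf a _
    rw [Finset.sum_congr rfl fun y _ => h1 y, Finset.sum_const, nsmul_eq_mul, Finset.card_univ,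
      ← Nat.card_eq_fintype_card, hcard]

variable {G : Type u} [Group G] [Fintype G] {p : ℕ} [Fact p.Prime] {M : Ideal AlgInt}
variable {B : Set (IrrCharacter G)} {P : Subgroup G} {e : Set (IrrCharacter (Cen P))}
  {F : FusionSystem P}

/-- The twists permute the height zero characters freely, keeping the regular values. -/
theorem exists_twist_orbits (hM : IsPModular p M) (hF : IsBlockFusionSystemOn p M B P e F)
    [Fintype {χ : IrrCharacter G // χ ∈ B ∧ blockHeight p B (χ : G → ℂ) = 0}]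
    (φ : G → ℂ) :
    ∃ (Ω : Type u) (_ : Fintype Ω)
      (rep : Ω → {χ : IrrCharacter G // χ ∈ B ∧ blockHeight p B (χ : G → ℂ) = 0}),
      Nat.card {χ : IrrCharacter G // χ ∈ B ∧ blockHeight p B (χ : G → ℂ) = 0} =
        (F.focalSubgroup.subgroupOf P).index * Fintype.card Ω ∧
      ∑ x : {χ : IrrCharacter G // χ ∈ B ∧ blockHeight p B (χ : G → ℂ) = 0},
          uTerm p φ ((x : IrrCharacter G) : G → ℂ) =
        ((F.focalSubgroup.subgroupOf P).index : ℂ) *
          ∑ ω, uTerm p φ ((rep ω : IrrCharacter G) : G → ℂ) := by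
  have hmax := hF.1
  set N := F.focalSubgroup.subgroupOf P with hN
  haveI hNn : N.Normal := Subgroup.Normal.of_commutator_le (h := commutator_le_subgroupOf F)
  letI : CommGroup (P ⧸ N) :=
    { (inferInstance : Group (P ⧸ N)) with
      mul_comm := fun a b => by
        obtain ⟨a, rfl⟩ := QuotientGroup.mk_surjective a
        obtain ⟨b, rfl⟩ := QuotientGroup.mk_surjective b
        rw [← QuotientGroup.mk_mul, ← QuotientGroup.mk_mul, QuotientGroup.eq]
        refine commutator_le_subgroupOf F ?_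
        rw [show (a * b)⁻¹ * (b * a) = ⁅b⁻¹, a⁻¹⁆ by rw [commutatorElement_def]; group]
        exact Subgroup.commutator_mem_commutator (Subgroup.mem_top _) (Subgroup.mem_top _) }
  set pull : ((P ⧸ N) →* ℂˣ) → (P →* ℂˣ) := fun a => a.comp (QuotientGroup.mk' N) with hpull
  have hfoc : ∀ a, ∀ y : P, (y : G) ∈ F.focalSubgroup → pull a y = 1 := fun a y hy => by
    show a (y : P ⧸ N) = 1
    rw [(QuotientGroup.eq_one_iff y).mpr hy, map_one]
  have hex : ∀ (a : (P ⧸ N) →* ℂˣ) (χ : {χ : IrrCharacter G // χ ∈ B ∧ blockHeight p B (χ : G → ℂ) = 0}), ∃ ψ : {χ : IrrCharacter G // χ ∈ B ∧ blockHeight p B (χ : G → ℂ) = 0},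
      ((ψ : IrrCharacter G) : G → ℂ) =
        star p M B ⟨P, e⟩ (lin0 (pull a)) ((χ : IrrCharacter G) : G → ℂ) := fun a χ => by
    obtain ⟨ψ, hψ, he⟩ := exists_twist hM hF (hfoc a) χ.2.1
    exact ⟨⟨ψ, hψ, (twist_height hM hmax _ χ.2.1 he).trans χ.2.2⟩, he⟩
  have hext : ∀ ψ ψ' : {χ : IrrCharacter G // χ ∈ B ∧ blockHeight p B (χ : G → ℂ) = 0},
      ((ψ : IrrCharacter G) : G → ℂ) = ((ψ' : IrrCharacter G) : G → ℂ) → ψ = ψ' :=
    fun _ _ hh => Subtype.ext (Subtype.ext hh)
  letI act : MulAction ((P ⧸ N) →* ℂˣ) {χ : IrrCharacter G // χ ∈ B ∧ blockHeight p B (χ : G → ℂ) = 0} :=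
    { smul := fun a χ => (hex a χ).choose
      one_smul := fun χ => hext _ _ ((hex 1 χ).choose_spec.trans
        (Star80Char.star_one hM hmax χ.2.1 fun x hx => by
          rw [lin0_of_mem _ hx, hpull]; simp))
      mul_smul := fun a b χ => hext _ _ (by
        show (((hex (a * b) χ).choose : IrrCharacter G) : G → ℂ) =
          (((hex a (hex b χ).choose).choose : IrrCharacter G) : G → ℂ)
        rw [(hex (a * b) χ).choose_spec, (hex a (hex b χ).choose).choose_spec,
          Star80Inner.star_star hM (hex b χ).choose_spec, ← lin0_mul]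
        rfl) }
  have hA : Nat.card ((P ⧸ N) →* ℂˣ) = N.index :=
    (CommGroup.card_monoidHom_of_hasEnoughRootsOfUnity (P ⧸ N) ℂ).trans
      N.index_eq_card.symm
  rw [← hA]
  refine exists_orbit_sum (A := (P ⧸ N) →* ℂˣ) (fun χ => (Subgroup.eq_bot_iff_forall _).2
    fun a ha => ?_) (fun x : {χ : IrrCharacter G // χ ∈ B ∧ blockHeight p B (χ : G → ℂ) = 0} => uTerm p φ ((x : IrrCharacter G) : G → ℂ)) fun a χ => ?_
  · rw [MulAction.mem_stabilizer_iff] at ha
    have hfix : star p M B ⟨P, e⟩ (lin0 (pull a)) ((χ : IrrCharacter G) : G → ℂ) =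
        ((χ : IrrCharacter G) : G → ℂ) := by
      rw [← (hex a χ).choose_spec]
      exact congrArg (fun ψ : {χ : IrrCharacter G // χ ∈ B ∧ blockHeight p B (χ : G → ℂ) = 0} => ((ψ : IrrCharacter G) : G → ℂ)) ha
    refine MonoidHom.ext fun q => ?_
    obtain ⟨z, rfl⟩ := QuotientGroup.mk_surjective q
    obtain ⟨⟨T, b⟩, hT, hle⟩ := ple_exists hM (c := ⟨P, e⟩) hmax.1.1
      (Subgroup.zpowers_le.mpr z.2)
    subst hT
    have hu := Star80Claim.exists_pow_of_mem hmax.1.1.1 z.2
    obtain ⟨s, hs, hne⟩ := exists_part_of_height_zero hM χ.2.1 χ.2.2 hu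
      (isBrauerPairOf_down hM hle hmax.1)
    have h1 := eq_one_of_fixed hM (stable_lin0 hF (hfoc a)) hfix hu
      (isBrauerPairOf_down hM hle hmax.1) hle hs hne
    rw [lin0_of_mem _ z.2, Units.val_eq_one] at h1
    exact h1
  · have hs := (hex a χ).choose_spec
    have hreg : ∀ x : G, ¬ p ∣ orderOf x →
        (((hex a χ).choose : IrrCharacter G) : G → ℂ) x = ((χ : IrrCharacter G) : G → ℂ) x := by
      intro x hx
      rw [hs, Star80Char.star_regular hM hmax χ.2.1 hx, lin0_apply_one, one_mul]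
    show uTerm p φ (((hex a χ).choose : IrrCharacter G) : G → ℂ) = _
    rw [uTerm, uTerm, om_regZ, om_regZ, regPair, regPair,
      hreg 1 (by simpa using (Fact.out : p.Prime).ne_one)]
    congr 2
    refine Finset.sum_congr rfl fun x hx => ?_
    rw [hreg x⁻¹ (by rw [orderOf_inv]; exact (Finset.mem_filter.1 hx).2)]

end Orbits

theorem not_isPGroup_mulAut_of_card {p : ℕ} [hp : Fact p.Prime] {P : Type*} [Group P]
    (hc : Nat.card P = p) (h5 : 5 ≤ p) : ¬ IsPGroup p (MulAut P) := by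
  intro h
  haveI : Finite P := Nat.finite_of_card_ne_zero (hc ▸ hp.out.ne_zero)
  haveI : IsCyclic P := isCyclic_of_prime_card hc
  obtain ⟨n, hn⟩ := h.exists_card_eq
  rw [IsCyclic.card_mulAut, hc, Nat.totient_prime hp.out] at hn
  rcases n with _ | n
  · simp at hn; omega
  · have h1 : p ∣ p - 1 := hn ▸ dvd_pow_self p (Nat.succ_ne_zero n)
    have := Nat.le_of_dvd (by omega) h1
    omega

theorem sq_eq_one_of_ne_zero {p : ℕ} (h2 : 2 ≤ p) (h3 : p ≤ 3) :
    ∀ a : ZMod p, a ≠ 0 → a ^ 2 = 1 := by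
  obtain rfl | rfl : p = 2 ∨ p = 3 := by omega
  all_goals decide

/-- Let p be a prime and B a p-block of the finite group G (relative to a maximal ideal M of the algebraic integers containing p) with a nontrivial defect group D whose automorphism group is a p-group (for a p-group D this is the same as its outer automorphism group being a p-group). Then the number of irreducible characters of height zero in B is divisible by p; if p > 3 this number is at least 2p, and if moreover p ≡ 3 (mod 4) it is at least 3p. -/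
theorem result {G : Type*} [Group G] [Finite G] (p : ℕ) [Fact p.Prime] (M : Ideal Cfsg.AlgInt) (hM : Cfsg.IsPModular p M) (B : Set (Cfsg.IrrCharacter G)) (hB : Cfsg.IsPBlock M B) (D : Subgroup G) (hD : Cfsg.IsDefectGroup p M B D) (hD1 : D ≠ ⊥) (hAut : IsPGroup p (MulAut ↥D)) : p ∣ Nat.card {χ : Cfsg.IrrCharacter G // χ ∈ B ∧ Cfsg.blockHeight p B (χ : G → ℂ) = 0} ∧ (3 < p → 2 * p ≤ Nat.card {χ : Cfsg.IrrCharacter G // χ ∈ B ∧ Cfsg.blockHeight p B (χ : G → ℂ) = 0}) ∧ (3 < p → p % 4 = 3 → 3 * p ≤ Nat.card {χ : Cfsg.IrrCharacter G // χ ∈ B ∧ Cfsg.blockHeight p B (χ : G → ℂ) = 0}) := by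
  classical
  haveI := Fintype.ofFinite G
  have hpr : p.Prime := Fact.out
  obtain ⟨φ, hφ, hφ0⟩ := BrauerBlocksHeight.exists_height_zero (p := p)
    (BrauerBlocksBasic.block_nonempty hM hB)
  haveI := Fintype.ofFinite {χ : IrrCharacter G // χ ∈ B ∧ blockHeight p B (χ : G → ℂ) = 0}
  set k0 := Nat.card {χ : IrrCharacter G // χ ∈ B ∧ blockHeight p B (χ : G → ℂ) = 0} with hk0
  have hk0pos : 0 < k0 :=
    Nat.card_pos_iff.2 ⟨⟨⟨φ, hφ, hφ0⟩⟩, inferInstance⟩
  have hDc := BlockContribBounds.card_defectGroup hM hB hD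
  have hd : 0 < blockDefect p B := by
    by_contra h0
    rw [Nat.eq_zero_of_not_pos h0, pow_zero] at hDc
    exact hD1 (Subgroup.card_eq_one.1 hDc)
  by_cases hp3 : 3 < p
  swap
  · refine ⟨?_, fun h => absurd h hp3, fun h => absurd h hp3⟩
    have hs := sm_height_zero_sum hM hB hφ hφ0 hd (Nat.zero_le 1)
    rw [pow_zero, div_one] at hs
    have hdv := dvd_sum_sq hM hB hφ hφ0 Finset.univ
      (fun x : {χ : IrrCharacter G // χ ∈ B ∧ blockHeight p B (χ : G → ℂ) = 0} =>
        (x : IrrCharacter G)) (fun x _ => x.2) hs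
    rw [← ZMod.natCast_eq_zero_iff] at hdv
    rw [← ZMod.natCast_eq_zero_iff, hk0, Nat.card_eq_fintype_card]
    have hsq := sq_eq_one_of_ne_zero hpr.two_le (by omega)
    rw [Nat.cast_sum, Finset.sum_congr rfl fun x _ => by
      rw [Nat.cast_pow, hsq _ fun h => not_dvd_deg' hpr (x : IrrCharacter G)
        ((ZMod.natCast_eq_zero_iff _ _).1 h)], Finset.sum_const, Finset.card_univ,
      nsmul_eq_mul, mul_one] at hdv
    exact hdv
  have hp4 : p ≠ 4 := fun h => by norm_num [h] at hpr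
  have hp5 : 5 ≤ p := by omega
  -- a maximal pair on `D`
  obtain ⟨g, hg⟩ := BrauerPairs81Conj.exists_pairOf_of_not_small hM hB
    (BlockTheoryDefect.isPGroup_of_isDefectGroup hD)
    (BlockTheoryDefect.not_small_cut_defect hM hB hD)
  obtain ⟨R, e, hmax, hle⟩ := BrauerPairs81Max.exists_maximal_above hg
  obtain rfl : D = R := by
    refine Subgroup.eq_of_le_of_card_ge (BrauerPairs81Pairs.subgroup_le_of_subpairLE hle) ?_
    rw [hDc, BlockContribBounds.card_defectGroup hM hB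
      (BrauerPairs81Max.isDefectGroup_of_maximal hM hmax)]
  have hF := BrauerPairs81Fusion.isBlockFusionSystemOn_blockSys hM hmax
  set F := BrauerPairs81Fusion.blockSys (top := ⟨D, e⟩) hM hmax.1.1 with hFdef
  have hlt : F.focalSubgroup < D := S5252.result p hmax.1.1.1 F
    (BrauerPairs81Fusion.saturated hM hF) hp5 hD1 (hAut.to_subgroup _)
  have hd2 : 1 < blockDefect p B := by
    by_contra h1
    rw [show blockDefect p B = 1 by omega, pow_one] at hDc
    exact not_isPGroup_mulAut_of_card hDc hp5 hAut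
  have hne1 : (F.focalSubgroup.subgroupOf D).index ≠ 1 := fun h1 =>
    not_le_of_gt hlt (Subgroup.subgroupOf_eq_top.1 (Subgroup.index_eq_one.1 h1))
  obtain ⟨n, hn⟩ := (IsPGroup.index (hmax.1.1.1) (F.focalSubgroup.subgroupOf D))
  obtain ⟨Ω, _, rep, hcard, hsum⟩ := exists_twist_orbits hM hF (φ : G → ℂ)
  rw [← hk0, hn] at hcard
  have hm : 0 < Fintype.card Ω := by
    rcases Nat.eq_zero_or_pos (Fintype.card Ω) with h | h
    · rw [h, mul_zero] at hcard; omega
    · exact h
  have hn0 : n ≠ 0 := fun h => hne1 (by rw [hn, h, pow_zero])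
  rcases (show n = 1 ∨ 2 ≤ n by omega) with rfl | hn2
  swap
  · have h1 : p ^ 2 ≤ k0 := by
      rw [hcard]
      exact (Nat.pow_le_pow_right hpr.pos hn2).trans (Nat.le_mul_of_pos_right _ hm)
    refine ⟨hcard ▸ (dvd_pow_self p hn0).mul_right _, fun _ => ?_, fun _ _ => ?_⟩
    · exact (Nat.mul_le_mul_right p (by omega)).trans (sq p ▸ h1)
    · exact (Nat.mul_le_mul_right p (by omega)).trans (sq p ▸ h1)
  rw [pow_one] at hn hcard
  have hs := sm_height_zero_sum hM hB hφ hφ0 hd2 le_rfl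
  rw [hsum, hn, pow_one, mul_div_cancel_left₀ _ (Nat.cast_ne_zero.2 hpr.ne_zero)] at hs
  have hdv := dvd_sum_sq hM hB hφ hφ0 Finset.univ (fun ω : Ω => (rep ω : IrrCharacter G))
    (fun ω _ => (rep ω).2) hs
  have hm2 : Fintype.card Ω ≠ 1 := fun h => by
    obtain ⟨a, ha⟩ := Finset.card_eq_one.1 (Finset.card_univ.trans h)
    rw [ha, Finset.sum_singleton] at hdv
    exact not_dvd_deg' hpr _ (hpr.dvd_of_dvd_pow hdv)
  refine ⟨hcard ▸ Dvd.intro _ rfl, fun _ => ?_, fun _ h34 => ?_⟩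
  · rw [hcard, mul_comm p]
    exact Nat.mul_le_mul_right p (by omega)
  · have hm3 : Fintype.card Ω ≠ 2 := fun h => by
      obtain ⟨a, b, hab, hu⟩ := Finset.card_eq_two.1 (Finset.card_univ.trans h)
      rw [hu, Finset.sum_pair hab, ← ZMod.natCast_eq_zero_iff] at hdv
      push_cast at hdv
      have hb0 : (deg' p ((rep b : IrrCharacter G) : G → ℂ) : ZMod p) ≠ 0 := fun h0 =>
        not_dvd_deg' hpr _ ((ZMod.natCast_eq_zero_iff _ _).1 h0)
      refine ZMod.mod_four_ne_three_of_sq_eq_neg_one (p := p)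
        (y := (deg' p ((rep a : IrrCharacter G) : G → ℂ) : ZMod p) /
          (deg' p ((rep b : IrrCharacter G) : G → ℂ) : ZMod p)) ?_ h34
      rw [div_pow, div_eq_iff (pow_ne_zero 2 hb0)]
      linear_combination hdv
    rw [hcard, mul_comm p]
    exact Nat.mul_le_mul_right p (by omega)

end Cfsg.Agent.S4978
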