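import Cfsg.Statements.S4641
import Mathlib
import Cfsg.Agent.Lib.BrauerCharLift30
import Cfsg.Agent.Lib.ClassAlgebraOmega
import Cfsg.Agent.S4978

set_option autoImplicit false
open Cfsg

namespace Cfsg.Agent.S4641
open Cfsg.Agent.BrauerBlocksVal Cfsg.Agent.BrauerBlocksCentral Cfsg.Agent.BrauerBlocksBasic
  Cfsg.Agent.BrauerBlocksHeight Cfsg.Agent.CharBasic Cfsg.Agent.CharBasicOrth
  Cfsg.Agent.CharBasicDecomp

attribute [local instance] Classical.propDecidable

section Data

variable {G : Type*} [Group G] [Fintype G] {p : ℕ} {M : Ideal AlgInt}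

theorem exists_nat_comb {S : Finset (G → ℂ)} {F : G → ℂ}
    (h : F ∈ AddSubmonoid.closure (S : Set (G → ℂ))) :
    ∃ d : (G → ℂ) → ℕ, F = ∑ f ∈ S, (d f : ℂ) • f := by
  induction h using AddSubmonoid.closure_induction with
  | mem f hf =>
    refine ⟨fun f' => if f' = f then 1 else 0, ?_⟩
    rw [Finset.sum_eq_single_of_mem f (Finset.mem_coe.1 hf) fun f' _ hne => by simp [hne]]
    simp
  | zero => exact ⟨fun _ => 0, by simp⟩
  | add x y _ _ hx hy =>
    obtain ⟨d, rfl⟩ := hx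
    obtain ⟨d', rfl⟩ := hy
    refine ⟨fun f => d f + d' f, ?_⟩
    rw [← Finset.sum_add_distrib]
    exact Finset.sum_congr rfl fun f _ => by push_cast; rw [add_smul]

theorem beta_facts (hM : IsPModular p M) {b : Set (IrrCharacter G)} {f : G → ℂ}
    (hf : f ∈ BrauerCharBlock.blockSet p M b) :
    (∃ d : ℕ, 0 < d ∧ f 1 = (d : ℂ)) ∧ ∀ x : G, p ∣ orderOf x → f x = 0 := by
  obtain ⟨d, ρ, hρ, rfl⟩ := BrauerCharBlock.blockSet_subset_ibr b hf
  refine ⟨⟨d, ?_, ?_⟩, fun x hx => by
    rw [BrauerCharReduction.beta, if_neg (fun h => h hx)]⟩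
  · rcases Nat.eq_zero_or_pos d with rfl | h
    · exact absurd hρ.1 (not_nontrivial_iff_subsingleton.2 inferInstance)
    · exact h
  · rw [BrauerCharReduction.beta, if_pos (by simp [IsPRegular, hM.1.ne_one]), map_one,
      LinearMap.charpoly_one, Polynomial.roots_pow, ← Polynomial.C_1, Polynomial.roots_X_sub_C,
      Multiset.map_nsmul, Multiset.map_singleton, Multiset.sum_nsmul, Multiset.sum_singleton]
    have h1 : BrauerCharReduction.redC M (1 : ℂ) = 1 := by
      rw [BrauerCharReduction.redC, dif_pos int'_one]; exact map_one _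
    rw [← h1, BrauerCharReduction.lift_redC hM (BlockContrib.cofactor_not_dvd hM.1) (one_pow _)]
    simp

theorem regPair_pRegularPart (ψ : G → ℂ) (χ : G → ℂ) :
    regPair p ψ (pRegularPart p χ) = regPair p ψ χ := by
  refine Finset.sum_congr rfl fun x hx => ?_
  have h : IsPRegular p x⁻¹ := by
    rw [IsPRegular, orderOf_inv]; exact (Finset.mem_filter.1 hx).2
  rw [pRegularPart, if_pos h]

theorem regPair_sum {ι : Type*} (s : Finset ι) (c : ι → ℂ) (F : ι → G → ℂ) (ψ : G → ℂ) :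
    regPair p ψ (∑ i ∈ s, c i • F i) = ∑ i ∈ s, c i * regPair p ψ (F i) := by
  simp only [regPair, Finset.sum_apply, Pi.smul_apply, smul_eq_mul, Finset.mul_sum]
  rw [Finset.sum_comm]
  exact Finset.sum_congr rfl fun i _ => Finset.sum_congr rfl fun x _ => by ring

theorem sum_restrict (χ : IrrCharacter G) (P : Subgroup G) [Fintype P] :
    ∃ n : ℤ, ∑ x : P, (χ : G → ℂ) x = (Nat.card P : ℂ) * n := by
  obtain ⟨n, hn⟩ := classInner_isGeneralizedCharacter
    (isGeneralizedCharacter_comap P.subtype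
      (isGeneralizedCharacter_of_isCharacter (isCharacter_of_isIrrCharacter χ.2)))
    (isGeneralizedCharacter_of_isCharacter (isCharacter_one (G := P)))
  refine ⟨n, ?_⟩
  rw [← hn, classInner, ← mul_assoc, mul_inv_cancel₀ (Nat.cast_ne_zero.2 Nat.card_pos.ne'), one_mul]
  exact Finset.sum_congr rfl fun x _ => by simp

end Data

/-- Let B be a block of the finite group G relative to a maximal ideal M of the algebraic integers containing the prime p, let p^a be the p-part of the order of G and p^d the order of a defect group D of B, and let g be the greatest common divisor of the degrees of the members of B. Then the p-part of g is exactly p^(a−d), and writing g = p^(a−d)·u there is a positive integer v, prime to p and at least the p-regular rank of B (its number of irreducible Brauer characters), with Σ_{χ ∈ B} χ(1)² = p^(2a−d)·u²·v. -/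
theorem result {G : Type*} [Group G] [Finite G] (p : ℕ) [Fact p.Prime] (M : Ideal Cfsg.AlgInt) (hM : Cfsg.IsPModular p M) (B : Set (Cfsg.IrrCharacter G)) (hB : Cfsg.IsPBlock M B) (D : Subgroup G) (hD : Cfsg.IsDefectGroup p M B D) (a d : ℕ) (ha : (Nat.card G).factorization p = a) (hd : Nat.card D = p ^ d) (g : ℕ) (hg1 : ∀ χ ∈ B, g ∣ Cfsg.charDegree (χ : G → ℂ)) (hg2 : ∀ g' : ℕ, (∀ χ ∈ B, g' ∣ Cfsg.charDegree (χ : G → ℂ)) → g' ∣ g) : g.factorization p = a - d ∧ ∃ v : ℕ, 0 < v ∧ ¬ p ∣ v ∧ Cfsg.blockRank p B ≤ v ∧ ∑ᶠ χ ∈ B, Cfsg.charDegree (χ : G → ℂ) ^ 2 = p ^ (2 * a - d) * (g / p ^ (a - d)) ^ 2 * v := by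
  classical
  haveI := Fintype.ofFinite G
  have hpr : p.Prime := Fact.out
  obtain ⟨φ₀, hφ₀, h0⟩ := BrauerBlocksHeight.exists_height_zero (p := p)
    (BrauerBlocksBasic.block_nonempty hM hB)
  have hmle := fun χ (hχ : χ ∈ B) => (blockHeight_eq_zero_iff hφ₀).1 h0 χ hχ
  set m := degExp p (φ₀ : G → ℂ) with hm
  have hma : m ≤ a := by
    rw [← ha, hm, degExp]
    exact (Nat.factorization_le_iff_dvd (apply_one_eq_charDegree φ₀.2).2.ne'
      Nat.card_pos.ne').2 (ClassAlgebraOmega.charDegree_dvd_card φ₀) p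
  have hmin : sInf ((fun χ : IrrCharacter G => (charDegree (χ : G → ℂ)).factorization p) '' B) =
      m := by
    refine le_antisymm (Nat.sInf_le ⟨φ₀, hφ₀, rfl⟩) (le_csInf ⟨_, ⟨φ₀, hφ₀, rfl⟩⟩ ?_)
    rintro x ⟨ψ, hψ, rfl⟩
    exact hmle ψ hψ
  have hdd : d = a - m := by
    have h1 := BlockContribBounds.card_defectGroup hM hB hD
    rw [hd, blockDefect, hmin, ha] at h1
    exact Nat.pow_right_injective hpr.two_le h1
  have hgdeg := hg1 φ₀ hφ₀
  have hdeg0 : charDegree (φ₀ : G → ℂ) ≠ 0 := (apply_one_eq_charDegree φ₀.2).2.ne'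
  have hg0 : g ≠ 0 := fun h => hdeg0 (Nat.eq_zero_of_zero_dvd (h ▸ hgdeg))
  have hgm : g.factorization p = m := by
    refine le_antisymm ((Nat.factorization_le_iff_dvd hg0 hdeg0).2 hgdeg p) ?_
    refine (hpr.pow_dvd_iff_le_factorization hg0).1 (hg2 _ fun χ hχ => ?_)
    exact (pow_dvd_pow p (hmle χ hχ)).trans (Nat.ordProj_dvd _ _)
  have ham : a - d = m := by omega
  have h2a : 2 * a - d = a + m := by omega
  refine ⟨by omega, ?_⟩
  rw [ham, h2a]
  set u := g / p ^ m with hu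
  have hgu : g = p ^ m * u := by
    rw [hu, ← hgm]; exact (Nat.ordProj_mul_ordCompl_eq_self g p).symm
  have hpu : ¬ p ∣ u := by
    rw [hu, ← hgm]; exact Nat.not_dvd_ordCompl hpr hg0
  -- the Brauer characters of the block
  have hli : LinearIndepOn ℂ id (BrauerCharBlock.blockSet p M B) :=
    (BrauerCharBlock.linearIndepOn_ibr hM).mono (BrauerCharBlock.blockSet_subset_ibr B)
  haveI hfin : Finite (BrauerCharBlock.blockSet p M B) := LinearIndependent.finite hli
  haveI := Fintype.ofFinite (BrauerCharBlock.blockSet p M B)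
  set S := (BrauerCharBlock.blockSet p M B).toFinset with hS
  have hSm : ∀ f, f ∈ S ↔ f ∈ BrauerCharBlock.blockSet p M B := fun f => Set.mem_toFinset
  have hrank : blockRank p B = S.card := by
    rw [hS, ← finrank_span_set_eq_card hli, BrauerCharBlock.span_blockSet hM hB]
    rfl
  -- decomposition numbers
  have hD' : ∀ χ : IrrCharacter G, ∃ dd : (G → ℂ) → ℕ,
      χ ∈ B → pRegularPart p (χ : G → ℂ) = ∑ f ∈ S, (dd f : ℂ) • f := fun χ => by
    by_cases hχ : χ ∈ B
    · obtain ⟨dd, hdd⟩ := exists_nat_comb (S := S) (by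
        rw [hS, Set.coe_toFinset]; exact BrauerCharLift30.pRegularPart_mem_closure hM hχ)
      exact ⟨dd, fun _ => hdd⟩
    · exact ⟨fun _ => 0, fun h => absurd h hχ⟩
  choose dec hdec using hD'
  have hN : ∀ f, ∃ n : IrrCharacter G → ℤ, f ∈ S →
      f = ∑ φ : IrrCharacter G, if φ ∈ B then (n φ : ℂ) • pRegularPart p (φ : G → ℂ) else 0 := by
    intro f
    by_cases hf : f ∈ S
    · obtain ⟨n, hn⟩ := BrauerCharLift30.exists_int_comb hM hB ((hSm f).1 hf)
      exact ⟨n, fun _ => hn⟩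
    · exact ⟨fun _ => 0, fun h => absurd h hf⟩
  choose cn hcn using hN
  set Bf := Finset.univ.filter (fun χ : IrrCharacter G => χ ∈ B) with hBf
  have hBm : ∀ χ, χ ∈ Bf ↔ χ ∈ B := fun χ => by simp [hBf]
  have hcn' : ∀ f ∈ S, f = ∑ φ ∈ Bf, (cn f φ : ℂ) • pRegularPart p (φ : G → ℂ) := fun f hf => by
    rw [hBf, Finset.sum_filter]; exact hcn f hf
  -- the degree of a projective indecomposable
  let Y : (G → ℂ) → ℕ := fun f => ∑ χ ∈ Bf, dec χ f * charDegree (χ : G → ℂ)
  have h1reg : ¬ p ∣ orderOf (1 : G) := by simp [hpr.ne_one]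
  have hone : ∀ χ : IrrCharacter G, pRegularPart p (χ : G → ℂ) 1 = (χ : G → ℂ) 1 := fun χ => by
    rw [pRegularPart, if_pos (show IsPRegular p (1 : G) from h1reg)]
  have hvanish : ∀ y : G, p ∣ orderOf y → ∀ f ∈ S,
      ∑ χ ∈ Bf, (dec χ f : ℂ) * (χ : G → ℂ) y = 0 := by
    intro y hy f hf
    have hsum : ∑ f ∈ S, (starRingEnd ℂ (∑ χ ∈ Bf, (dec χ f : ℂ) * (χ : G → ℂ) y)) • id f = 0 := by
      funext x
      simp only [Finset.sum_apply, Pi.smul_apply, smul_eq_mul, id, Pi.zero_apply, map_sum, map_mul,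
        map_natCast, Finset.sum_mul]
      by_cases hx : p ∣ orderOf x
      · refine Finset.sum_eq_zero fun f hf => Finset.sum_eq_zero fun χ _ => ?_
        rw [(beta_facts hM ((hSm f).1 hf)).2 x hx, mul_zero]
      · rw [Finset.sum_comm, ← BrauerBlocksOrth.orth_regular_singular hM hB hx hy,
          finsum_mem_eq_finite_toFinset_sum _ (Set.toFinite B)]
        refine Finset.sum_congr (by ext χ; simp [hBf]) fun χ hχ => ?_
        have h2 := congrFun (hdec χ (by simpa [hBf] using hχ)) x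
        rw [pRegularPart, if_pos (show IsPRegular p x from hx)] at h2
        simp only [Finset.sum_apply, Pi.smul_apply, smul_eq_mul] at h2
        rw [h2, Finset.sum_mul]
        exact Finset.sum_congr rfl fun f _ => by ring
    have h3 := linearIndepOn_finset_iff.1 (hli.mono (fun f hf => (hSm f).1 hf)) _ hsum f hf
    exact (map_eq_zero _).1 h3
  have hYpa : ∀ f ∈ S, p ^ a ∣ Y f := by
    intro f hf
    obtain ⟨P⟩ : Nonempty (Sylow p G) := inferInstance
    haveI := Fintype.ofFinite (P : Subgroup G)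
    choose n hn using fun χ : IrrCharacter G => sum_restrict χ (P : Subgroup G)
    have h1 : ∑ x : (P : Subgroup G), ∑ χ ∈ Bf, (dec χ f : ℂ) * (χ : G → ℂ) x = (Y f : ℂ) := by
      rw [Finset.sum_eq_single (1 : (P : Subgroup G))]
      · simp only [OneMemClass.coe_one, Y, Nat.cast_sum, Nat.cast_mul]
        exact Finset.sum_congr rfl fun χ _ => by rw [(apply_one_eq_charDegree χ.2).1]
      · intro x _ hx
        refine hvanish _ ?_ f hf
        obtain ⟨k, hk⟩ := IsPGroup.iff_orderOf.mp P.isPGroup' x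
        rcases k with _ | k
        · exact absurd (orderOf_eq_one_iff.1 (by simpa using hk)) hx
        · rw [Subgroup.orderOf_coe, hk]; exact dvd_pow_self p (Nat.succ_ne_zero k)
      · simp
    rw [Finset.sum_comm] at h1
    simp only [← Finset.mul_sum, hn] at h1
    have h2 : ((∑ χ ∈ Bf, (dec χ f : ℤ) * n χ) * (Nat.card (P : Subgroup G) : ℤ) : ℤ) = (Y f : ℤ) := by
      have h3 : ((∑ χ ∈ Bf, (dec χ f : ℤ) * n χ : ℤ) : ℂ) * (Nat.card (P : Subgroup G) : ℂ) =
          (Y f : ℂ) := by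
        rw [← h1, Int.cast_sum, Finset.sum_mul]
        refine Finset.sum_congr rfl fun χ _ => ?_
        push_cast; ring
      exact_mod_cast h3
    rw [← Int.natCast_dvd_natCast, ← h2, Sylow.card_eq_multiplicity, ha]
    exact dvd_mul_left _ _
  have hYdvd : ∀ f ∈ S, p ^ a * u ∣ Y f := fun f hf =>
    Nat.Coprime.mul_dvd_of_dvd_of_dvd ((hpr.coprime_iff_not_dvd.2 hpu).pow_left a) (hYpa f hf)
      (Finset.dvd_sum fun χ hχ => (((hgu ▸ dvd_mul_left u (p ^ m)).trans
        (hg1 χ ((hBm χ).1 hχ)))).mul_left _)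
  have hYpos : ∀ f ∈ S, 0 < Y f := by
    intro f hf
    by_contra h0
    have hz : ∀ χ ∈ Bf, dec χ f = 0 := fun χ hχ => by
      have := Finset.sum_eq_zero_iff.1 (Nat.eq_zero_of_not_pos h0) χ hχ
      exact (mul_eq_zero.1 this).resolve_right (apply_one_eq_charDegree χ.2).2.ne'
    have h1 : ∑ f' ∈ S, ((∑ φ ∈ Bf, (cn f φ : ℂ) * (dec φ f' : ℂ)) - if f' = f then 1 else 0) •
        id f' = 0 := by
      simp only [sub_smul, Finset.sum_sub_distrib, id, Finset.sum_smul, mul_smul]
      rw [Finset.sum_comm, Finset.sum_eq_single_of_mem f hf fun b _ hb => by simp [hb], if_pos rfl,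
        one_smul, sub_eq_zero]
      conv_rhs => rw [hcn' f hf]
      exact Finset.sum_congr rfl fun φ hφ => by rw [hdec φ ((hBm φ).1 hφ), Finset.smul_sum]
    have h2 := linearIndepOn_finset_iff.1 (hli.mono (fun f' hf' => (hSm f').1 hf')) _ h1 f hf
    rw [if_pos rfl, Finset.sum_eq_zero fun φ hφ => by rw [hz φ hφ, Nat.cast_zero, mul_zero],
      zero_sub, neg_eq_zero] at h2
    exact one_ne_zero h2
  have hz : ∀ f ∈ S, ∃ z : ℕ, 0 < z ∧ f 1 = ((g * z : ℕ) : ℂ) := by
    intro f hf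
    obtain ⟨⟨e, he, hfe⟩, -⟩ := beta_facts hM ((hSm f).1 hf)
    have h1 : (e : ℤ) = ∑ φ ∈ Bf, cn f φ * (charDegree (φ : G → ℂ) : ℤ) := by
      have h2 : (e : ℂ) = ((∑ φ ∈ Bf, cn f φ * (charDegree (φ : G → ℂ) : ℤ) : ℤ) : ℂ) := by
        rw [← hfe]
        conv_lhs => rw [hcn' f hf]
        rw [Finset.sum_apply, Int.cast_sum]
        refine Finset.sum_congr rfl fun φ _ => ?_
        rw [Pi.smul_apply, smul_eq_mul, hone, (apply_one_eq_charDegree φ.2).1]
        push_cast; rfl
      exact_mod_cast h2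
    obtain ⟨z, rfl⟩ : g ∣ e := Int.natCast_dvd_natCast.1 (h1 ▸ Finset.dvd_sum fun φ hφ =>
      (Int.natCast_dvd_natCast.2 (hg1 φ ((hBm φ).1 hφ))).mul_left _)
    exact ⟨z, pos_of_mul_pos_right he (Nat.zero_le _), hfe⟩
  choose! z hzpos hz1 using hz
  choose! w hw using hYdvd
  have hwpos : ∀ f ∈ S, 0 < w f := fun f hf =>
    pos_of_mul_pos_right (hw f hf ▸ hYpos f hf) (Nat.zero_le _)
  refine ⟨∑ f ∈ S, w f * z f, ?_, ?_, ?_, ?_⟩
  · refine Finset.sum_pos (fun f hf => Nat.mul_pos (hwpos f hf) (hzpos f hf)) ?_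
    by_contra hne
    rw [Finset.not_nonempty_iff_eq_empty] at hne
    have h1 := congrFun (hdec φ₀ hφ₀) 1
    rw [hne, Finset.sum_empty, hone, Pi.zero_apply] at h1
    exact isIrrCharacter_apply_one_ne_zero φ₀.2 h1
  · -- the cofactor is prime to `p`
    intro hpv
    set c := om (φ₀ : G → ℂ) (regZ p (φ₀ : G → ℂ)) with hc
    let R : (G → ℂ) → ℂ := fun f => ∑ φ ∈ Bf, (cn f φ : ℂ) * om (φ₀ : G → ℂ) (regZ p (φ : G → ℂ))
    have hψ1 : (φ₀ : G → ℂ) 1 ≠ 0 := isIrrCharacter_apply_one_ne_zero φ₀.2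
    have hRf : ∀ f ∈ S, regPair p (φ₀ : G → ℂ) f = (φ₀ : G → ℂ) 1 * R f := by
      intro f hf
      conv_lhs => rw [hcn' f hf]
      rw [regPair_sum, Finset.mul_sum]
      refine Finset.sum_congr rfl fun φ _ => ?_
      rw [regPair_pRegularPart, om_regZ]
      field_simp
    have hK : (Nat.card G : ℂ) = ∑ f ∈ S, (Y f : ℂ) * R f := by
      have h1 := S4978.sum_uTerm hM hB hφ₀
      rw [eq_div_iff hψ1, Finset.sum_mul] at h1
      rw [← h1]
      calc ∑ χ ∈ Bf, S4978.uTerm p (φ₀ : G → ℂ) (χ : G → ℂ) * (φ₀ : G → ℂ) 1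
          = ∑ χ ∈ Bf, ∑ f ∈ S, (dec χ f : ℂ) * (charDegree (χ : G → ℂ) : ℂ) * R f := by
            refine Finset.sum_congr rfl fun χ hχ => ?_
            rw [S4978.uTerm, om_regZ, ← regPair_pRegularPart, hdec χ ((hBm χ).1 hχ), regPair_sum,
              ← (apply_one_eq_charDegree χ.2).1]
            rw [Finset.sum_congr rfl fun f hf => by rw [hRf f hf]]
            field_simp
            simp only [Finset.mul_sum]
            exact Finset.sum_congr rfl fun f _ => by ring
        _ = _ := by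
            rw [Finset.sum_comm]
            refine Finset.sum_congr rfl fun f _ => ?_
            simp only [Y, Nat.cast_sum, Nat.cast_mul, Finset.sum_mul]
    have hR : ∀ f ∈ S, Sm M (R f - c * (f 1 / (φ₀ : G → ℂ) 1)) := by
      intro f hf
      conv => arg 2; arg 2; arg 2; arg 1; rw [hcn' f hf]
      simp only [Finset.sum_apply, Pi.smul_apply, smul_eq_mul, hone, Finset.sum_div, Finset.mul_sum,
        R, ← Finset.sum_sub_distrib]
      refine sm_sum _ fun φ hφ => ?_
      have hφB := (hBm φ).1 hφ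
      have e : om (φ₀ : G → ℂ) (regZ p (φ : G → ℂ)) =
          ((φ : G → ℂ) 1 / (φ₀ : G → ℂ) 1) * om (φ : G → ℂ) (regZ p (φ₀ : G → ℂ)) := by
        have := isIrrCharacter_apply_one_ne_zero φ.2
        rw [om_regZ, om_regZ, regPair_comm]
        field_simp
      have e2 : c * ((cn f φ : ℂ) * (φ : G → ℂ) 1 / (φ₀ : G → ℂ) 1) =
          (cn f φ : ℂ) * ((φ : G → ℂ) 1 / (φ₀ : G → ℂ) 1) * c := by ring
      rw [e, e2, ← mul_assoc, ← mul_sub]
      exact (om_block_sub_sm hM hB hφB hφ₀ (zr_regZ hM φ₀)).mul_left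
        ((int'_intCast _).mul (degRatio hM φ₀.2 φ.2 (hmle φ hφB)).1)
    obtain ⟨k, hk⟩ := hgdeg
    have hpk : ¬ p ∣ k := fun h => by
      have h1 : p ^ (m + 1) ∣ charDegree (φ₀ : G → ℂ) := by
        rw [hk, hgu, pow_succ]
        exact Nat.mul_dvd_mul (dvd_mul_right _ _) h
      have := (hpr.pow_dvd_iff_le_factorization hdeg0).1 h1
      have e : (charDegree (φ₀ : G → ℂ)).factorization p = m := rfl
      omega
    have hsm : Sm M (∑ f ∈ S, (w f : ℂ) * R f) := by
      refine (sm_iff_of_sub (z := ∑ f ∈ S, (w f : ℂ) * R f)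
        (w := c * (((∑ f ∈ S, w f * z f : ℕ) : ℂ) * (k : ℂ)⁻¹)) ?_).2 ?_
      · rw [show c * (((∑ f ∈ S, w f * z f : ℕ) : ℂ) * (k : ℂ)⁻¹) =
            ∑ f ∈ S, (w f : ℂ) * (c * (f 1 / (φ₀ : G → ℂ) 1)) by
          rw [Nat.cast_sum, Finset.sum_mul, Finset.mul_sum]
          refine Finset.sum_congr rfl fun f hf => ?_
          rw [hz1 f hf, (apply_one_eq_charDegree φ₀.2).1, hk]
          have : (g : ℂ) ≠ 0 := Nat.cast_ne_zero.2 hg0
          have : (k : ℂ) ≠ 0 := Nat.cast_ne_zero.2 fun h => hpk (h ▸ dvd_zero p)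
          push_cast
          field_simp, ← Finset.sum_sub_distrib]
        exact sm_sum _ fun f hf => by rw [← mul_sub]; exact (hR f hf).mul_left (int'_natCast _)
      · exact (((sm_natCast_iff hM _).2 hpv).mul_right (int'_inv_natCast hM hpk)).mul_left
          (om_int hM φ₀ (zr_regZ hM φ₀).isC (zr_regZ hM φ₀).int)
    refine not_sm_natCast_of_coprime hM (BlockContrib.cofactor_not_dvd (G := G) hpr) ?_
    have h3 : (p : ℂ) ^ a * (BlockContrib.cofactor p G : ℂ) =
        (p : ℂ) ^ a * ((u : ℂ) * ∑ f ∈ S, (w f : ℂ) * R f) := by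
      have e := BlockContrib.pow_mul_cofactor (G := G) p
      rw [ha] at e
      rw [show (p : ℂ) ^ a * (BlockContrib.cofactor p G : ℂ) = (Nat.card G : ℂ) by exact_mod_cast e,
        hK, Finset.mul_sum, Finset.mul_sum]
      refine Finset.sum_congr rfl fun f hf => ?_
      rw [hw f hf]; push_cast; ring
    rw [mul_left_cancel₀ (pow_ne_zero _ (Nat.cast_ne_zero.2 hpr.ne_zero)) h3]
    exact hsm.mul_left (int'_natCast u)
  · rw [hrank]
    calc S.card = ∑ f ∈ S, 1 := by simp
      _ ≤ _ := Finset.sum_le_sum fun f hf => Nat.mul_pos (hwpos f hf) (hzpos f hf)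
  · rw [finsum_mem_eq_finite_toFinset_sum _ (Set.toFinite B),
      show (Set.toFinite B).toFinset = Bf by ext χ; simp [hBf]]
    have hχ1 : ∀ χ ∈ Bf, charDegree (χ : G → ℂ) = ∑ f ∈ S, dec χ f * (g * z f) := by
      intro χ hχ
      have h1 := congrFun (hdec χ ((hBm χ).1 hχ)) 1
      rw [hone, (apply_one_eq_charDegree χ.2).1, Finset.sum_apply,
        Finset.sum_congr rfl fun f hf => by rw [Pi.smul_apply, smul_eq_mul, hz1 f hf]] at h1
      exact_mod_cast h1
    calc ∑ χ ∈ Bf, charDegree (χ : G → ℂ) ^ 2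
        = ∑ χ ∈ Bf, ∑ f ∈ S, (g * z f) * (dec χ f * charDegree (χ : G → ℂ)) := by
          refine Finset.sum_congr rfl fun χ hχ => ?_
          rw [sq]
          nth_rw 1 [hχ1 χ hχ]
          rw [Finset.sum_mul]
          exact Finset.sum_congr rfl fun f _ => by ring
      _ = ∑ f ∈ S, (g * z f) * Y f := by
          rw [Finset.sum_comm]
          exact Finset.sum_congr rfl fun f _ => by rw [Finset.mul_sum]
      _ = _ := by
          rw [Finset.mul_sum]
          refine Finset.sum_congr rfl fun f hf => ?_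
          rw [hw f hf, hgu, pow_add]
          ring

end Cfsg.Agent.S4641
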