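import Cfsg.Statements.S4642
import Cfsg.Agent.Lib.BlockOverCoreApply82
-- import your own Cfsg.Agent.* helpers here

set_option autoImplicit false
open Cfsg
open Cfsg.Agent.BlockTheoryCentre Cfsg.Agent.BlockTheoryIdem Cfsg.Agent.BlockTheoryLocalRing
open Cfsg.Agent.BrauerPairs81Base Cfsg.Agent.BrauerPairs81Pairs Cfsg.Agent.BrauerPairs81Induced
open Cfsg.Agent.BlockOverCore82

namespace Cfsg.Agent.S4642

/-- Let G be a finite group, p a prime, M a maximal ideal of the algebraic integers containing p, K the largest normal subgroup of G of order prime to p, and L the preimage in G of the largest normal p-subgroup of G/K. Let Q be a Sylow p-subgroup of L and suppose C_G(Q) ≤ L. Let θ be an irreducible character of K invariant under conjugation by every element of G, and let B be the set of irreducible characters of G whose restriction to K contains θ. Then B is a block of G, every Sylow p-subgroup of G is a defect group of B, and B is of principal type: for every p-subgroup R of G exactly one block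 of C_G(R) induces B. -/
theorem result {G : Type*} [Group G] [Fintype G] (p : ℕ) [Fact p.Prime] (M : Ideal Cfsg.AlgInt) (hM : Cfsg.IsPModular p M) (K : Subgroup G) (hK : K = Cfsg.pPrimeCore p G) [Fintype K] (L : Subgroup G) (hL : L = Cfsg.pPrimePCore p G) (Q : Subgroup G) (hQL : Q ≤ L) (hQp : IsPGroup p Q) (hQS : ¬ p ∣ Q.relIndex L) (hCQ : Subgroup.centralizer (Q : Set G) ≤ L) (θ : Cfsg.IrrCharacter K) (hθ : ∀ g : G, Cfsg.IsConjCharOf K g (θ : K → ℂ) (θ : K → ℂ)) (B : Set (Cfsg.IrrCharacter G)) (hBdef : ∀ χ : Cfsg.IrrCharacter G, χ ∈ B ↔ Cfsg.classInner (fun k : K => (χ : G → ℂ) k) (θ : K → ℂ) ≠ 0) : Cfsg.IsPBlock M B ∧ (∀ S : Sylow p G, Cfsg.IsDefectGroup p M B S) ∧ ∀ R : Subgroup G, IsPGroup p R → ∃! f : Set (Cfsg.IrrCharacter (Subgroup.centralizer (R : Set G))), Cfsg.IsInducedBlock M (Subgroup.centralizer (R : Set G)) f B := by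
  classical
  subst hK hL
  haveI := HallCore.pPrimeCore_normal p G
  have hK := HallCore.not_dvd_card_pPrimeCore p G
  have hKL := HallCore.pPrimeCore_le_pPrimePCore p G
  have hBeq : B = lying (pPrimeCore p G) θ := Set.ext fun χ => hBdef χ
  subst hBeq
  have hst : Stable (pPrimeCore p G) θ := hθ
  have hB : IsPBlock M (lying (pPrimeCore p G) θ) :=
    isPBlock_lying hM hK hst hKL mem_pPrimeCore_of_mem hQL hQp hQS fun x hx hr =>
      mem_core_of_centralizes hQL hQp hCQ hr fun v hv => by
        obtain ⟨l, rfl⟩ := QuotientGroup.mk'_surjective (pPrimeCore p G) v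
        obtain ⟨t, ht, htl⟩ := exists_preimage (p := p)
          ((QuotientGroup.mk' (pPrimeCore p G)).comp (pPrimePCore p G).subtype)
          (Q.subgroupOf (pPrimePCore p G)) hQS
          ((HallCore.isPGroup_pCore p (G ⧸ pPrimeCore p G)).to_le
            (by rintro b ⟨a, rfl⟩; exact Subgroup.mem_comap.mp a.2))
          ⟨l, hv⟩
        have h : Commute x ((t : pPrimePCore p G) : G) :=
          (Subgroup.mem_centralizer_iff.mp hx t ht).symm
        exact (show (QuotientGroup.mk' (pPrimeCore p G)) ((t : pPrimePCore p G) : G) =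
          QuotientGroup.mk' (pPrimeCore p G) l from htl) ▸ h.map (QuotientGroup.mk' _)
  refine ⟨hB, fun S => isDefectGroup_lying hM hK hst hB S.2 S.not_dvd_index, fun R hR => ?_⟩
  obtain ⟨β, hβ, hs⟩ := exists_correspondent hM hK hst hR
  have hKR : ¬ p ∣ Nat.card ((pPrimeCore p G).subgroupOf (Cen R)) :=
    fun h => hK (h.trans (HallCore.card_subgroupOf_dvd _ _))
  let T : Sylow p ((pPrimePCore p G).subgroupOf (Cen R)) := Classical.arbitrary _
  have hi : ¬ p ∣ (T : Subgroup ↥((pPrimePCore p G).subgroupOf (Cen R))).index := T.not_dvd_index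
  have hTi : ¬ p ∣ ((T : Subgroup ((pPrimePCore p G).subgroupOf (Cen R))).map
      ((pPrimePCore p G).subgroupOf (Cen R)).subtype).relIndex
      ((pPrimePCore p G).subgroupOf (Cen R)) := by
    rw [relIndex_map_subtype]
    exact hi
  have hF : IsPBlock M (lying ((pPrimeCore p G).subgroupOf (Cen R)) β) :=
    isPBlock_lying hM hKR hβ (L := (pPrimePCore p G).subgroupOf (Cen R))
      (fun x hx => Subgroup.mem_subgroupOf.mpr (hKL (Subgroup.mem_subgroupOf.mp hx)))
      (fun x hx hr => Subgroup.mem_subgroupOf.mpr (mem_pPrimeCore_of_mem (p := p) (x : G)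
        (Subgroup.mem_subgroupOf.mp hx) (by
          show ¬ p ∣ orderOf (x : G)
          rw [Subgroup.orderOf_coe]; exact hr)))
      (Subgroup.map_subtype_le _) (T.2.map _) hTi fun x hx hr =>
        Subgroup.mem_subgroupOf.mpr (mem_core_of_sylow hQL hQp hCQ hR T hr fun t ht =>
          (Subgroup.mem_centralizer_iff.mp hx _ ⟨t, ht, rfl⟩).symm)
  refine ⟨lying ((pPrimeCore p G).subgroupOf (Cen R)) β, ?_, fun f hf => ?_⟩
  · refine induced_of_pair hM (isBrauerPairOf_iff.mpr ⟨⟨hR, hF⟩, hB, fun ξ hξ => ?_⟩)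
    rw [idem_lying hst]
    exact (mem_over_iff hM hst hβ hs ξ).mpr hξ
  · obtain ⟨⟨-, hfb⟩, -, ho⟩ := isBrauerPairOf_iff.mp (isBrauerPairOf_of_induced hM hR hf)
    obtain ⟨ξ, hξ⟩ := block_nonempty hM hfb
    have h := ho ξ hξ
    rw [idem_lying hst] at h
    exact block_eq_of_mem hM hfb hF hξ ((mem_over_iff hM hst hβ hs ξ).mp h)

end Cfsg.Agent.S4642
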