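import Cfsg.Statements.S4644
import Cfsg.Agent.Lib.BlockAbelianTwist31
-- import your own Cfsg.Agent.* helpers here

set_option autoImplicit false
open Cfsg

namespace Cfsg.Agent.S4644

open Agent.BrauerPairs81Base Agent.BrauerPairs81Pairs Agent.BrauerPairs81Local Agent.BrauerPairs81Fusion
  Agent.BlockAbelianWeight31 Agent.BlockAbelianNorm31

theorem main {G : Type*} [Group G] [Fintype G] (p : ℕ) [Fact p.Prime] (M : Ideal AlgInt)
    (hM : IsPModular p M) (B : Set (IrrCharacter G)) (P : Subgroup G)
    (hPD : IsDefectGroup p M B P) (hPab : ∀ x ∈ P, ∀ y ∈ P, x * y = y * x)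
    (c : Set (IrrCharacter (Subgroup.centralizer (P : Set G))))
    (hc : IsInducedBlock M (Subgroup.centralizer (P : Set G)) c B) (T : Subgroup G)
    (hT : ∀ g : G, g ∈ T ↔ (g ∈ Subgroup.normalizer (P : Set G) ∧
      StabilizesBlock (Subgroup.centralizer (P : Set G)) c g))
    (u : G) (hu : u ∈ P) (huT : ∀ g ∈ T, g * u * g⁻¹ = u) (H : Subgroup G)
    (hH : H = Subgroup.centralizer ({u} : Set G)) (f : Set (IrrCharacter H))
    (hf : IsInducedBlockIn M H (Subgroup.centralizer (P : Set G)) c f) :
    blockRank p B = blockRank p f ∧ Nat.card B = Nat.card f := by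
  have hmax := Agent.BrauerPairs81Induced.isMaximal_of_induced hM hPD hc
  have hz : Fixed c (⟨u, hu⟩ : P) := fun y hy => huT y ((hT y).2
    (cP_eq_self_iff_stabilizes.mp (mem_stab.mp hy)))
  have hH' : H = Cen (Subgroup.zpowers u) := by
    ext g
    rw [hH, Agent.BlockCyclicRank81.centralizer_zpowers, Subgroup.mem_centralizer_singleton_iff]
    exact ⟨fun h => h.symm, fun h => h.symm⟩
  subst hH'
  have hle := (Agent.BrauerPairs81Induced.inducedIn_iff hM hmax.1.1 (Subgroup.zpowers_le.2 hu)
    (fun v hv => (Agent.BlockCyclicRank81.centralizer_zpowers u v).2 (hPab u hu v hv))).1 hf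
  rw [subpair_unique hM hmax.1.1 hle (pairAt_le hM hmax (⟨u, hu⟩ : P))]
  exact rank_card_eq hM (Agent.BlockAbelianTwist31.twistsExist hM) hmax hPab hz

/-- Let B be a block of the finite group G relative to a maximal ideal M of the algebraic integers containing the prime p, with a commutative defect group P; let c be a block of C_G(P) inducing B and T the stabilizer of c in N_G(P). Let u be an element of P fixed under conjugation by every element of T, H = C_G(u) (so C_G(P) ≤ H), and f the block of H induced by c inside H. Then B and f have the same p-regular rank and the same number of irreducible characters. -/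
theorem result {G : Type*} [Group G] [Finite G] (p : ℕ) [Fact p.Prime] (M : Ideal Cfsg.AlgInt) (hM : Cfsg.IsPModular p M) (B : Set (Cfsg.IrrCharacter G)) (hB : Cfsg.IsPBlock M B) (P : Subgroup G) (hPD : Cfsg.IsDefectGroup p M B P) (hPab : ∀ x ∈ P, ∀ y ∈ P, x * y = y * x) (c : Set (Cfsg.IrrCharacter (Subgroup.centralizer (P : Set G)))) (hc : Cfsg.IsInducedBlock M (Subgroup.centralizer (P : Set G)) c B) (T : Subgroup G) (hT : ∀ g : G, g ∈ T ↔ (g ∈ Subgroup.normalizer (P : Set G) ∧ Cfsg.StabilizesBlock (Subgroup.centralizer (P : Set G)) c g)) (u : G) (hu : u ∈ P) (huT : ∀ g ∈ T, g * u * g⁻¹ = u) (H : Subgroup G) (hH : H = Subgroup.centralizer ({u} : Set G)) (f : Set (Cfsg.IrrCharacter H)) (hf : Cfsg.IsInducedBlockIn M H (Subgroup.centralizer (P : Set G)) c f) : Cfsg.blockRank p B = Cfsg.blockRank p f ∧ Nat.card B = Nat.card f := by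
  haveI := Fintype.ofFinite G
  exact Agent.S4644.main p M hM B P hPD hPab c hc T hT u hu huT H hH f hf

end Cfsg.Agent.S4644
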