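import Cfsg.Statements.S4645
import Cfsg.Agent.Lib.BlockCyclicRank81
import Cfsg.Agent.Lib.BrauerPairs81Induced
import Cfsg.Agent.Lib.BrauerPairs81Cyclic
import Cfsg.Agent.Lib.BrauerPairs81Nilpotent
import Cfsg.Agent.Lib.PGroupsCyclic
-- import your own Cfsg.Agent.* helpers here

set_option autoImplicit false
open Cfsg

namespace Cfsg.Agent.S4645

open BrauerPairs81Base BrauerPairs81Pairs BrauerPairs81Conj BrauerPairs81Local BrauerPairs81Fusion
attribute [local instance] Classical.propDecidable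

variable {G : Type*} [Group G] [Fintype G] {p : ℕ} [Fact p.Prime] {M : Ideal AlgInt}

theorem fus_trivial (hM : IsPModular p M) {B : Set (IrrCharacter G)} {P : Subgroup G}
    {c : Set (IrrCharacter (Cen P))} (hmax : IsMaximalBrauerPair p M B P c) (hcyc : IsCyclic P)
    (hstab : stab (⟨P, c⟩ : BrauerPairIdx G) ≤ Cen P) (a : BrauerPairIdx G)
    (ha : PLE p M a ⟨P, c⟩) (g : G) (hga : PLE p M (cP g a) ⟨P, c⟩) :
    ∀ x ∈ a.1, g * x * g⁻¹ = x := by
  have hle : a.1 ≤ P := subgroup_le_of_subpairLE ha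
  have heq : (cP g a).1 = a.1 := PGroupsCyclic.eq_of_card_eq_of_isCyclic hcyc
    (subgroup_le_of_subpairLE hga) hle (card_cjS g a.1)
  have hg : g ∈ stab a := mem_stab.mpr (ple_unique hM hmax.1.1 hga ha heq)
  have hab : ∀ x ∈ P, ∀ y ∈ P, x * y = y * x := by
    intro x hx y hy
    have := hcyc
    exact congrArg Subtype.val
      (Std.Commutative.comm (⟨x, hx⟩ : P) ⟨y, hy⟩ : (⟨x, hx⟩ : P) * ⟨y, hy⟩ = ⟨y, hy⟩ * ⟨x, hx⟩)
  obtain ⟨y, hy, k, hk, rfl⟩ := BrauerPairs81Nilpotent.stab_le_of_abelian hM hmax hab ha hg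
  intro x hx
  have h1 : x * (y * k) = y * k * x := by
    rw [← mul_assoc, Subgroup.mem_centralizer_iff.mp (hstab hy) x (hle hx), mul_assoc,
      Subgroup.mem_centralizer_iff.mp hk x hx, mul_assoc]
  rw [← h1, mul_inv_cancel_right]


/-- Let B be a block of the finite group G relative to a maximal ideal M of the algebraic integers containing the prime p, with a nontrivial cyclic defect group P; let c be a block of C_G(P) inducing B and T the stabilizer of c in N_G(P). Let Q be a nontrivial subgroup of P (so C_G(P) ≤ C_G(Q)), f the block of C_G(Q) induced by c inside C_G(Q), and T' the stabilizer of f in N_G(Q). Then T' = T·C_G(Q), the index of C_G(Q) in T' equals the index of C_G(P) in T, f has p-regular rank 1, and f is a nilpotent block of C_G(Q). -/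
theorem result {G : Type*} [Group G] [Finite G] (p : ℕ) [Fact p.Prime] (M : Ideal Cfsg.AlgInt) (hM : Cfsg.IsPModular p M) (B : Set (Cfsg.IrrCharacter G)) (hB : Cfsg.IsPBlock M B) (P : Subgroup G) (hPD : Cfsg.IsDefectGroup p M B P) (hP1 : P ≠ ⊥) (hcyc : IsCyclic P) (c : Set (Cfsg.IrrCharacter (Subgroup.centralizer (P : Set G)))) (hc : Cfsg.IsInducedBlock M (Subgroup.centralizer (P : Set G)) c B) (T : Subgroup G) (hT : ∀ g : G, g ∈ T ↔ (g ∈ Subgroup.normalizer (P : Set G) ∧ Cfsg.StabilizesBlock (Subgroup.centralizer (P : Set G)) c g)) (Q : Subgroup G) (hQP : Q ≤ P) (hQ1 : Q ≠ ⊥) (f : Set (Cfsg.IrrCharacter (Subgroup.centralizer (Q : Set G)))) (hf : Cfsg.IsInducedBlockIn M (Subgroup.centralizer (Q : Set G)) (Subgroup.centralizer (P : Set G)) c f) (T' : Subgroup G) (hT' : ∀ g : G, g ∈ T' ↔ (g ∈ Subgroup.normalizer (Q : Set G) ∧ Cfsg.StabilizesBlock (Subgroup.centralizer (Q : Set G)) f g)) : T' = T ⊔ Subgroup.centralizer (Q : Set G) ∧ (Subgroup.centralizer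 (Q : Set G)).relIndex T' = (Subgroup.centralizer (P : Set G)).relIndex T ∧ Cfsg.blockRank p f = 1 ∧ Cfsg.IsNilpotentBlock p M f := by
  have := Fintype.ofFinite G
  have hmax : IsMaximalBrauerPair p M B P c := BrauerPairs81Induced.isMaximal_of_induced hM hPD hc
  have hTs : T = stab (⟨P, c⟩ : BrauerPairIdx G) := by
    ext g; rw [mem_stab, cP_eq_self_iff_stabilizes, hT]
  have hT's : T' = stab (⟨Q, f⟩ : BrauerPairIdx G) := by
    ext g; rw [mem_stab, cP_eq_self_iff_stabilizes, hT']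
  have hab : ∀ x ∈ P, ∀ y ∈ P, x * y = y * x := by
    intro x hx y hy
    have := hcyc
    exact congrArg Subtype.val
      (Std.Commutative.comm (⟨x, hx⟩ : P) ⟨y, hy⟩ : (⟨x, hx⟩ : P) * ⟨y, hy⟩ = ⟨y, hy⟩ * ⟨x, hx⟩)
  have hPQ : P ≤ Cen Q := fun x hx =>
    Subgroup.mem_centralizer_iff.mpr fun y hy => hab y (hQP hy) x hx
  have hle : SubpairLE p M Q f P c :=
    (BrauerPairs81Induced.inducedIn_iff hM hmax.1.1 hQP hPQ).mp hf
  obtain ⟨q, hq, hq1⟩ := (Subgroup.ne_bot_iff_exists_ne_one.mp hQ1 : ∃ q : Q, q ≠ 1) |>.elim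
    fun q hq => (⟨q, q.2, fun h => hq (Subtype.ext h)⟩ : ∃ q : G, q ∈ Q ∧ q ≠ 1)
  have hinf : ∀ g ∈ T, g ∈ Cen Q → g ∈ Cen P := fun g hg hgc =>
    BrauerPairs81Cyclic.mem_cen_of_stab hM hmax hcyc (hTs ▸ hg) (hQP hq) hq1
      (by rw [← Subgroup.mem_centralizer_iff.mp hgc q hq, mul_inv_cancel_right])
  have hTT' : T ⊔ Cen Q ≤ T' := by
    refine sup_le (fun g hg => ?_) (hT's ▸ cen_le_stab (⟨Q, f⟩ : BrauerPairIdx G))
    rw [hT's, mem_stab]
    rw [hTs] at hg
    refine BrauerPairs81Nilpotent.cP_eq_of_top hM hmax hle hg ?_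
    have hgP := stab_le_normalizer _ hg
    have h1 : cjS g Q = Q := PGroupsCyclic.eq_of_card_eq_of_isCyclic hcyc
      ((cjS_mono hQP).trans (cjS_of_normalizer hgP).le) hQP (card_cjS g Q)
    refine Subgroup.mem_normalizer_iff.mpr fun x => ?_
    show x ∈ Q ↔ g * x * g⁻¹ ∈ Q
    conv_rhs => rw [← h1, mem_cjS]
    simp [mul_assoc]
  have hT'T : T' ≤ T ⊔ Cen Q := by
    intro g hg
    rw [hT's] at hg
    obtain ⟨y, hy, k, hk, rfl⟩ := BrauerPairs81Nilpotent.stab_le_of_abelian hM hmax hab hle hg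
    exact mul_mem (Subgroup.mem_sup_left (hTs ▸ hy)) (Subgroup.mem_sup_right hk)
  have hTeq : T' = T ⊔ Cen Q := le_antisymm hT'T hTT'
  have hnil : IsNilpotentBlock p M f :=
    (BrauerPairs81Induced.nilpotent_cen_iff hM hmax hab hQP hle).mpr
      fun x hx hxc => hinf x (hTs ▸ hx) hxc
  refine ⟨hTeq, ?_, ?_, hnil⟩
  · have hN : (((Cen Q).subgroupOf T')).Normal := ⟨fun u hu g => Subgroup.mem_subgroupOf.mpr
      ((Subgroup.mem_normalizer_iff.mp (normalizer_le_normalizer_cen ((hT' g).mp g.2).1)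
        (u : G)).mp (Subgroup.mem_subgroupOf.mp hu))⟩
    have h1 := Subgroup.relIndex_sup_right (T.subgroupOf T') ((Cen Q).subgroupOf T')
    have hle1 : T ≤ T' := hTeq ▸ le_sup_left
    have hle2 : Cen Q ≤ T' := hTeq ▸ le_sup_right
    rw [← Subgroup.subgroupOf_sup hle1 hle2, Subgroup.relIndex_subgroupOf (sup_le hle1 hle2),
      Subgroup.relIndex_subgroupOf hle1] at h1
    have h2 : Cen Q ⊓ T = Cen P := le_antisymm (fun g hg => hinf g hg.2 hg.1)
      (le_inf (centralizer_le hQP) (hTs ▸ cen_le_stab (⟨P, c⟩ : BrauerPairIdx G)))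
    calc (Cen Q).relIndex T' = (Cen Q).relIndex (T ⊔ Cen Q) := by rw [hTeq]
      _ = (Cen Q).relIndex T := h1
      _ = _ := by rw [← Subgroup.inf_relIndex_right, h2]
  · obtain ⟨c₀, hmax₀, hst⟩ := BrauerPairs81Induced.exists_maximal_cen hM hmax hQP hPQ hle
    have hcyc₀ : IsCyclic (P.subgroupOf (Cen Q)) :=
      isCyclic_of_surjective _ (Subgroup.subgroupOfEquivOfLe hPQ).symm.surjective
    refine BlockCyclicRank81.blockRank_eq_one hM hmax₀ hcyc₀ fun a ha _ g hga =>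
      fus_trivial hM hmax₀ hcyc₀ (fun x hx => ?_) a ha g hga
    have h3 := hinf _ (hTs ▸ (hst x).mp hx) x.2
    exact Subgroup.mem_centralizer_iff.mpr fun y hy => Subtype.ext
      (Subgroup.mem_centralizer_iff.mp h3 _ hy)

end Cfsg.Agent.S4645
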