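import Cfsg.Statements.S4647
import Cfsg.Agent.Lib.BlockMinDim82
import Cfsg.Agent.Lib.BrauerPairs81Nilpotent

set_option autoImplicit false
open Cfsg

namespace Cfsg.Agent.S4647

/-- Let B be a block of the finite group G relative to a maximal ideal M of the algebraic integers containing the prime p, p^a the p-part of the order of G and p^d the order of a defect group D of B. If Σ_{χ ∈ B} χ(1)² = p^(2a−d) (the least possible value), then B is nilpotent. -/
theorem result {G : Type*} [Group G] [Finite G] (p : ℕ) [Fact p.Prime] (M : Ideal Cfsg.AlgInt) (hM : Cfsg.IsPModular p M) (B : Set (Cfsg.IrrCharacter G)) (hB : Cfsg.IsPBlock M B) (D : Subgroup G) (hD : Cfsg.IsDefectGroup p M B D) (a d : ℕ) (ha : (Nat.card G).factorization p = a) (hd : Nat.card D = p ^ d) (hmin : ∑ᶠ χ ∈ B, Cfsg.charDegree (χ : G → ℂ) ^ 2 = p ^ (2 * a - d)) : Cfsg.IsNilpotentBlock p M B := by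
  haveI := Fintype.ofFinite G
  classical
  haveI : M.IsMaximal := hM.2.1
  refine ⟨hB, fun Q e hQe x hx _ hreg => ?_⟩
  obtain ⟨⟨hQp, he⟩, -, hocc⟩ := hQe
  obtain ⟨P, hQP⟩ := hQp.exists_le_sylow
  have hP : Nat.card (P : Subgroup G) = p ^ a := ha ▸ P.card_eq_multiplicity
  obtain ⟨c₀, hc₀, hkey⟩ :=
    Cfsg.Agent.BlockMinDim82.exists_orbit hM hB hD P hP hd hmin
  have hQB : ∃ c ∈ Subgroup.centralizer (Q : Set G),
      ¬ MemLocalIdeal M (blockCoeff B c) := by
    by_contra h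
    push Not at h
    obtain ⟨ξ, hξ⟩ := Cfsg.Agent.BlockTheoryIdem.block_nonempty hM he
    have hz := Cfsg.Agent.BlockTheoryBrauer.omega_ideal_of_small hM ξ
      (Cfsg.Agent.BrauerPairs81Base.isCen_res_of_invBy
        (Cfsg.Agent.BrauerPairs81Base.IsCen.invBy (Cfsg.Agent.BlockTheoryCentre.isCen_idem B) _))
      (z := Cfsg.Agent.BlockTheoryBrauer.res (Subgroup.centralizer (Q : Set G))
        (Cfsg.Agent.BlockTheoryCentre.idem B))
      (fun c => h c c.2)
    have h1 := hocc ξ hξ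
    rw [Cfsg.Agent.BrauerPairs81Base.brauerOmega_eq_phi] at h1
    have h2 := Cfsg.Agent.BlockTheoryLocalRing.ideal_sub hM hz h1
    rw [show Cfsg.Agent.BrauerPairs81Base.phi Q
        (Cfsg.Agent.BlockTheoryCentre.ofFun (blockCoeff B)) ξ =
      Cfsg.Agent.BlockTheoryCentre.omega (ξ : _ → ℂ) (Cfsg.Agent.BlockTheoryBrauer.res
        (Subgroup.centralizer (Q : Set G)) (Cfsg.Agent.BlockTheoryCentre.idem B)) from rfl,
      sub_sub_cancel] at h2
    exact Cfsg.Agent.BlockTheoryLocalRing.one_not_ideal hM h2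
  have hconj : ∀ q ∈ Q, x⁻¹ * q * x ∈ Q := fun q hq => by
    simpa using (Subgroup.mem_normalizer_iff.mp (inv_mem hx) q).mp hq
  obtain ⟨u, hu, v, hv, c, hc, hcx⟩ := hkey Q hQP hQB x fun q hq => hQP (hconj q hq)
  -- on `Q` conjugation by `x` is conjugation by an element of the Sylow subgroup
  have hact : ∀ q ∈ Q, x * q * x⁻¹ = u * v * q * (u * v)⁻¹ := by
    intro q hq
    have hq' : x * q * x⁻¹ ∈ Q := (Subgroup.mem_normalizer_iff.mp hx q).mp hq
    have h1 : (x * q * x⁻¹) * c = c * (x * q * x⁻¹) := Subgroup.mem_centralizer_iff.mp hc _ hq'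
    have h2 : x * q * x⁻¹ = u * (c₀ * (v * q * v⁻¹) * c₀⁻¹) * u⁻¹ := by
      calc x * q * x⁻¹ = (c * (x * q * x⁻¹)) * c⁻¹ := by rw [← h1, mul_inv_cancel_right]
        _ = (c * x) * q * (c * x)⁻¹ := by group
        _ = _ := by rw [hcx]; group
    have h3 : c₀ * (v * q * v⁻¹) * c₀⁻¹ ∈ (P : Subgroup G) := by
      have := mul_mem (mul_mem (inv_mem hu) (hQP hq')) hu
      rw [h2] at this
      convert this using 1
      group
    have h4 := hc₀ _ h3 (by
      convert mul_mem (mul_mem hv (hQP hq)) (inv_mem hv) using 1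
      group)
    have h5 : c₀ * (v * q * v⁻¹) * c₀⁻¹ = v * q * v⁻¹ := by
      calc c₀ * (v * q * v⁻¹) * c₀⁻¹
          = c₀⁻¹ * (c₀ * (c₀ * (v * q * v⁻¹) * c₀⁻¹)) := by group
        _ = c₀⁻¹ * ((c₀ * (v * q * v⁻¹) * c₀⁻¹) * c₀) := by rw [h4]
        _ = v * q * v⁻¹ := by group
    rw [h2, h5]
    group
  have huvN : u * v ∈ Subgroup.normalizer (Q : Set G) := by
    refine Subgroup.mem_normalizer_iff.mpr fun q => ⟨fun hq => ?_, fun hq => ?_⟩
    · rw [← hact q hq]
      exact (Subgroup.mem_normalizer_iff.mp hx q).mp hq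
    · set q' := x⁻¹ * (u * v * q * (u * v)⁻¹) * x with hq'def
      have hq' : q' ∈ Q := hconj _ hq
      have h1 := hact q' hq'
      have h2 : x * q' * x⁻¹ = u * v * q * (u * v)⁻¹ := by rw [hq'def]; group
      rw [h2] at h1
      rw [mul_left_inj, mul_right_inj] at h1
      exact h1 ▸ hq'
  obtain ⟨k, hk⟩ := (IsPGroup.iff_orderOf.mp P.2) ⟨u * v, mul_mem hu hv⟩
  exact Cfsg.Agent.BrauerPairs81Nilpotent.mem_cen_of_action hx huvN hreg
    (k := k) ((Subgroup.orderOf_coe (⟨u * v, mul_mem hu hv⟩ : (P : Subgroup G))).trans hk) hact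

end Cfsg.Agent.S4647
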