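import Cfsg.Statements.S4649
import Cfsg.Agent.Lib.CyclicShape42

set_option autoImplicit false
open Cfsg

namespace Cfsg.Agent.S4649

/-- A block with cyclic defect group, of a finite group relative to a maximal ideal M of the algebraic integers containing the prime p, is nilpotent if and only if its p-regular rank is 1 (it has a unique irreducible Brauer character). -/
theorem result {G : Type*} [Group G] [Finite G] (p : ℕ) [Fact p.Prime] (M : Ideal Cfsg.AlgInt) (hM : Cfsg.IsPModular p M) (B : Set (Cfsg.IrrCharacter G)) (hB : Cfsg.IsPBlock M B) (P : Subgroup G) (hPD : Cfsg.IsDefectGroup p M B P) (hcyc : IsCyclic P) : Cfsg.IsNilpotentBlock p M B ↔ Cfsg.blockRank p B = 1 := by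
  classical
  have := Fintype.ofFinite G
  obtain ⟨g, hg⟩ := BrauerPairs81Conj.exists_pairOf_of_not_small hM hB
    (BlockTheoryDefect.isPGroup_of_isDefectGroup hPD) (BlockTheoryDefect.not_small_cut_defect hM hB hPD)
  have hmax : IsMaximalBrauerPair p M B P g := BlockContribMajor.isMaximal_of_card hM hg
    (BlockContribBounds.card_defectGroup hM hB hPD)
  have hab := CyclicSetup42.comm_of_cyclic hcyc
  rw [BrauerPairs81Nilpotent.nilpotent_iff_of_abelian hM hmax hab]
  refine ⟨fun hst => (BlockAbelian81.rank_one_card hM _ le_rfl hmax hab hst).1, fun hl => ?_⟩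
  by_cases hP1 : P = ⊥
  · subst hP1
    exact fun x _ => Subgroup.mem_centralizer_iff.2 fun y hy => by
      rw [Subgroup.mem_bot.1 hy, one_mul, mul_one]
  obtain ⟨z, hz, -, hzo⟩ := BrauerPairs81Cyclic.exists_order_prime hmax.1.1.1 hP1
  obtain ⟨b, hb⟩ := BrauerPairs81Pairs.exists_subpair hM hmax.1.1 (Subgroup.zpowers_le.2 hz)
  let L : CyclicSetup42.Loc p M B P ((BrauerPairs81Base.Cen P).relIndex
      (BrauerPairs81Fusion.stab (⟨P, g⟩ : BrauerPairIdx G))) :=
    ⟨g, z, b, hcyc, hmax, hz, hzo, hb,
      fun y hy x hx hx1 h => BrauerPairs81Cyclic.mem_cen_of_stab hM hmax hcyc hy hx hx1 h, rfl⟩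
  exact Subgroup.relIndex_eq_one.1 ((CyclicShape42.blockRank_eq L hM).symm.trans hl)

end Cfsg.Agent.S4649
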