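import Cfsg.Statements.S4650
import Cfsg.Agent.Lib.BrauerPairs81Induced
-- import your own Cfsg.Agent.* helpers here

set_option autoImplicit false
open Cfsg

namespace Cfsg.Agent.S4650

open BrauerPairs81Base BrauerPairs81Pairs BrauerPairs81Conj BrauerPairs81Local BrauerPairs81Fusion
  BrauerPairs81Induced

/-- Let B be a block of the finite group G relative to a maximal ideal M of the algebraic integers containing the prime p, with a nontrivial commutative defect group P; let c be a block of C_G(P) inducing B and T the stabilizer of c in N_G(P). Then T/C_G(P) acts freely on the non-identity elements of P (an element of T fixing a non-identity element of P under conjugation lies in C_G(P)) if and only if, for every nontrivial subgroup Q of P, the block of C_G(Q) induced by c inside C_G(Q) is a nilpotent block of C_G(Q). -/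
theorem result {G : Type*} [Group G] [Finite G] (p : ℕ) [Fact p.Prime] (M : Ideal Cfsg.AlgInt) (hM : Cfsg.IsPModular p M) (B : Set (Cfsg.IrrCharacter G)) (hB : Cfsg.IsPBlock M B) (P : Subgroup G) (hPD : Cfsg.IsDefectGroup p M B P) (hPab : ∀ x ∈ P, ∀ y ∈ P, x * y = y * x) (hP1 : P ≠ ⊥) (c : Set (Cfsg.IrrCharacter (Subgroup.centralizer (P : Set G)))) (hc : Cfsg.IsInducedBlock M (Subgroup.centralizer (P : Set G)) c B) (T : Subgroup G) (hT : ∀ g : G, g ∈ T ↔ (g ∈ Subgroup.normalizer (P : Set G) ∧ Cfsg.StabilizesBlock (Subgroup.centralizer (P : Set G)) c g)) : (∀ g ∈ T, ∀ x ∈ P, x ≠ 1 → g * x * g⁻¹ = x → g ∈ Subgroup.centralizer (P : Set G)) ↔ ∀ Q : Subgroup G, Q ≤ P → Q ≠ ⊥ → ∀ f : Set (Cfsg.IrrCharacter (Subgroup.centralizer (Q : Set G))), Cfsg.IsInducedBlockIn M (Subgroup.centralizer (Q : Set G)) (Subgroup.centralizer (P : Set G)) c f → Cfsg.IsNilpotentBlock p M f := by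
  haveI := Fintype.ofFinite G
  have hmax := isMaximal_of_induced hM hPD hc
  have hT' : ∀ g, g ∈ T ↔ g ∈ stab (⟨P, c⟩ : BrauerPairIdx G) := fun g => by
    rw [hT, mem_stab, cP_eq_self_iff_stabilizes]
  have hPC : ∀ Q : Subgroup G, Q ≤ P → P ≤ Cen Q := fun Q hQ u hu =>
    Subgroup.mem_centralizer_iff.mpr fun q hq => hPab q (hQ hq) u hu
  constructor
  · intro hfree Q hQP hQ1 f hf
    have hle := (inducedIn_iff hM hmax.1.1 hQP (hPC Q hQP)).mp hf
    refine (nilpotent_cen_iff hM hmax hPab hQP hle).mpr fun x hx hxQ => ?_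
    obtain ⟨q, hq, hq1⟩ := (Subgroup.bot_or_exists_ne_one Q).resolve_left hQ1
    exact hfree x ((hT' x).mpr hx) q (hQP hq) hq1
      (by rw [← Subgroup.mem_centralizer_iff.mp hxQ q hq, mul_inv_cancel_right])
  · intro h g hg x hx hx1 hgx
    have hQP : Subgroup.zpowers x ≤ P := Subgroup.zpowers_le.mpr hx
    obtain ⟨f, hle⟩ := exists_subpair hM hmax.1.1 hQP
    have hnil := h _ hQP (fun e => hx1 (Subgroup.zpowers_eq_bot.mp e)) f
      ((inducedIn_iff hM hmax.1.1 hQP (hPC _ hQP)).mpr hle)
    refine (nilpotent_cen_iff hM hmax hPab hQP hle).mp hnil g ((hT' g).mp hg) ?_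
    show g ∈ Subgroup.centralizer ((Subgroup.zpowers x : Subgroup G) : Set G)
    rw [Subgroup.zpowers_eq_closure, Subgroup.centralizer_closure,
      Subgroup.mem_centralizer_singleton_iff]
    exact (mul_inv_eq_iff_eq_mul.mp hgx)

end Cfsg.Agent.S4650
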