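import Cfsg.Statements.S4651
import Cfsg.Agent.Lib.BlockTheoryChainPairs

set_option autoImplicit false
open Cfsg

namespace Cfsg.Agent.S4651

open Cfsg.Agent.BlockTheoryLocalRing Cfsg.Agent.BlockTheoryChains
open Cfsg.Agent.BlockTheoryChainPairs Cfsg.Agent.BlockSubsections79

attribute [local instance] Classical.propDecidable

universe u

theorem key {G : Type u} [Group G] [Fintype G] (p : ℕ) [Fact p.Prime] (M : Ideal Cfsg.AlgInt)
    (hM : Cfsg.IsPModular p M) (b : Set (Cfsg.IrrCharacter G)) (hb : Cfsg.IsPBlock M b) :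
    (Nat.card G : ℤ) * ((Nat.card b : ℤ) - (Cfsg.blockRank p b : ℤ)) =
      ∑ s ∈ Finset.univ.filter (IsChainOf p (G := G)), (-1 : ℤ) ^ (s.card - 1) *
        (Nat.card (stab s : Subgroup G) : ℤ) *
        ((Nat.card (unionOf (blks M (stab s) b)) : ℤ) -
          (blockRank p (unionOf (blks M (stab s) b)) : ℤ)) := by
  have hu : ∀ B : Set (IrrCharacter G), unionOf {B} = B := fun B => by
    ext ψ; simp [unionOf]
  have hL := card_mul_sub hM {b} (by simpa using hb)
    (fun v => val p M b (Subgroup.centralizer ({v} : Set G)))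
    (fun c g => (val_conj hM b c _ _ fun x => by
      simp only [Subgroup.mem_centralizer_singleton_iff]
      constructor <;> intro h
      · calc c * x * c⁻¹ * (c * g * c⁻¹) = c * (x * g) * c⁻¹ := by group
          _ = c * (g * x) * c⁻¹ := by rw [h]
          _ = c * g * c⁻¹ * (c * x * c⁻¹) := by group
      · have h' : c⁻¹ * (c * x * c⁻¹ * (c * g * c⁻¹)) * c =
            c⁻¹ * (c * g * c⁻¹ * (c * x * c⁻¹)) * c := by rw [h]
        simpa [mul_assoc] using h').symm)
    (fun v _ => by rw [val, Finset.sum_singleton])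
  rw [hu] at hL
  rw [hL, Finset.sum_congr rfl fun v hv => (sum_term (Finset.mem_filter.1 hv).2 (val p M b)).symm]
  rw [Finset.sum_comm' (t' := Finset.univ.filter (IsChainOf p (G := G)))
    (s' := fun s => Finset.univ.filter fun v : G => IsPEl1 p v ∧ v ∈ stab s) (h := fun v s => by
      simp only [Finset.mem_filter, Finset.mem_univ, true_and]; tauto)]
  refine Finset.sum_congr rfl fun s _ => ?_
  rw [mul_assoc, card_mul_sub_sub hM (stab s), Finset.mul_sum]
  rfl

/-- An alternating-sum identity over chains of p-subgroups (the character-count form behind the chain reformulation of Alperin's weight conjecture, which holds unconditionally for the difference k − l). Let b be a block of the finite group G relative to a maximal ideal M of the algebraic integers containing the prime p. Consider the nonempty chains s = {Q_0 < Q_1 < ⋯ < Q_m} of nontrivial p-subgroups of G in which every member is normal in the largest member; let N_G(s) be the intersection of the normalizers of the members (the stabilizer of the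 chain), and let b_s be the set of irreducible characters of N_G(s) lying in blocks of N_G(s) that induce b. Then #G · (k(b) − l(b)) equals the sum over all such chains s of (−1)^m · #N_G(s) · (k(b_s) − l(b_s)), where k counts irreducible characters and l is the p-regular rank; equivalently, k(b) − l(b) is the alternating sum of k(b_s) − l(b_s) over representatives of the conjugacy classes of such chains. -/
theorem result {G : Type*} [Group G] [Finite G] (p : ℕ) [Fact p.Prime] (M : Ideal Cfsg.AlgInt) (hM : Cfsg.IsPModular p M) (b : Set (Cfsg.IrrCharacter G)) (hb : Cfsg.IsPBlock M b) : (Nat.card G : ℤ) * ((Nat.card b : ℤ) - (Cfsg.blockRank p b : ℤ)) = ∑ᶠ s ∈ {s : Finset (Subgroup G) | s.Nonempty ∧ (∀ Q ∈ s, ∀ R ∈ s, Q ≤ R ∨ R ≤ Q) ∧ (∀ Q ∈ s, Q ≠ ⊥ ∧ IsPGroup p Q) ∧ ∃ T ∈ s, ∀ Q ∈ s, Q ≤ T ∧ T ≤ Subgroup.normalizer ((Q : Subgroup G) : Set G)}, (-1 : ℤ) ^ (s.card - 1) * (Nat.card (((⨅ Q ∈ s, Subgroup.normalizer ((Q : Subgroup G) : Set G) : Subgroup G))) : ℤ) * ((Nat.card {ψ : Cfsg.IrrCharacter (((⨅ Q ∈ s, Subgroup.normalizer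 ((Q : Subgroup G) : Set G) : Subgroup G))) | ∃ β : Set (Cfsg.IrrCharacter (((⨅ Q ∈ s, Subgroup.normalizer ((Q : Subgroup G) : Set G) : Subgroup G)))), ψ ∈ β ∧ Cfsg.IsInducedBlock M (((⨅ Q ∈ s, Subgroup.normalizer ((Q : Subgroup G) : Set G) : Subgroup G))) β b} : ℤ) - (Cfsg.blockRank p {ψ : Cfsg.IrrCharacter (((⨅ Q ∈ s, Subgroup.normalizer ((Q : Subgroup G) : Set G) : Subgroup G))) | ∃ β : Set (Cfsg.IrrCharacter (((⨅ Q ∈ s, Subgroup.normalizer ((Q : Subgroup G) : Set G) : Subgroup G)))), ψ ∈ β ∧ Cfsg.IsInducedBlock M (((⨅ Q ∈ s, Subgroup.normalizer ((Q : Subgroup G) : Set G) : Subgroup G))) β b} : ℤ)) := by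
  have _ : Fintype G := Fintype.ofFinite G
  have hset : ∀ s : Finset (Subgroup G),
      {ψ : IrrCharacter (stab s) | ∃ β : Set (IrrCharacter (stab s)),
        ψ ∈ β ∧ IsInducedBlock M (stab s) β b} = unionOf (blks M (stab s) b) := fun s =>
    Set.ext fun ψ => exists_congr fun β => by rw [mem_blks, and_comm]
  rw [key p M hM b hb, finsum_mem_eq_finite_toFinset_sum _ (Set.toFinite _)]
  refine Finset.sum_congr (Finset.ext fun s => ?_) fun s _ => ?_
  · simp [IsChainOf]
  · rw [← hset s]
    rfl

end Cfsg.Agent.S4651
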