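import Cfsg.Statements.S4652
import Mathlib
import Cfsg.Agent.Lib.BlockPrincipal81
import Cfsg.Agent.S4602
-- import your own Cfsg.Agent.* helpers here

set_option autoImplicit false
open Cfsg

namespace Cfsg.Agent.S4652

open Cfsg.Agent.BlockTheoryLocalRing Cfsg.Agent.BlockTheoryCentre Cfsg.Agent.BlockTheoryIdem
open Cfsg.Agent.BlockPrincipal81
open scoped Pointwise

theorem exists_defectClass {G : Type*} [Group G] [Fintype G] {p : ℕ} {M : Ideal Cfsg.AlgInt}
    (hM : Cfsg.IsPModular p M) :
    ∃ g : G, Cfsg.IsDefectClass M (Cfsg.principalBlock M G) g ∧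
      ¬ p ∣ (Subgroup.centralizer ({g} : Set G)).index := by
  classical
  have hB : Cfsg.IsPBlock M (Cfsg.principalBlock M G) := isPBlock_principal
  set β := Cfsg.blockCoeff (Cfsg.principalBlock M G)
  have h1 : ∑ C : ConjClasses G, β C.out * ((Subgroup.centralizer ({C.out} : Set G)).index : ℂ) = 1 := by
    have h2 := omega_idem (Cfsg.principalBlock M G) (oneChar G)
    rw [if_pos (oneChar_mem hM), (isCen_idem (Cfsg.principalBlock M G)).eq_sum_classSum, map_sum] at h2
    rw [← h2]
    refine Finset.sum_congr rfl fun C _ => ?_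
    rw [map_smul, omega_classSum (irr_classFun _), smul_eq_mul]
    exact congrArg (β C.out * ·) (centralChar_one (G := G) C.out).symm
  by_contra hne
  refine one_not_ideal hM (h1 ▸ ideal_sum hM fun C _ => ?_)
  by_cases hC : p ∣ (Subgroup.centralizer ({C.out} : Set G)).index
  · exact ideal_mul_left hM (blockCoeff_mem hM hB _) ((natCast_mem_iff hM).mpr hC)
  · by_cases hb : Cfsg.MemLocalIdeal M (β C.out)
    · exact ideal_mul_right hM hb (mem_localRing.mp (natCast_mem (localRing hM) _))
    · refine absurd ⟨C.out, ⟨blockCoeff_mem hM hB _, hb, fun χ hχ hmem => hC ?_⟩, hC⟩ hne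
      apply (natCast_mem_iff hM).mp
      have h3 : Cfsg.MemLocalIdeal M (Cfsg.centralChar (fun _ : G => (1 : ℂ)) C.out -
          Cfsg.centralChar (χ : G → ℂ) C.out) := hχ C.out
      rw [centralChar_one] at h3
      simpa using ideal_add hM h3 hmem


/-- Fix a prime p and a maximal ideal M of the algebraic integers containing p. The defect groups of the principal p-block of a finite group G are exactly the Sylow p-subgroups of G: a subgroup D is a defect group of the principal block if and only if D is a Sylow p-subgroup. -/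
theorem result {G : Type*} [Group G] [Fintype G] (p : ℕ) [Fact p.Prime] (M : Ideal Cfsg.AlgInt) (hM : Cfsg.IsPModular p M) (D : Subgroup G) : Cfsg.IsDefectGroup p M (Cfsg.principalBlock M G) D ↔ ∃ S : Sylow p G, (S : Subgroup G) = D := by
  classical
  have hB : Cfsg.IsPBlock M (Cfsg.principalBlock M G) := isPBlock_principal
  constructor
  · rintro ⟨g, ⟨-, -, hχ⟩, P, rfl⟩
    have hg : ¬ p ∣ (Subgroup.centralizer ({g} : Set G)).index := fun hd => by
      refine hχ (oneChar G) (oneChar_mem hM) ?_
      show Cfsg.MemLocalIdeal M (Cfsg.centralChar (fun _ : G => (1 : ℂ)) g)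
      rw [centralChar_one]
      exact (natCast_mem_iff hM).mpr hd
    exact Cfsg.Agent.S4602.sylow_map_isMax _ hg P
  · rintro ⟨S, rfl⟩
    obtain ⟨g, ⟨hb1, hb2, hb3⟩, hg⟩ := exists_defectClass (G := G) hM
    obtain ⟨T, hT⟩ := Cfsg.Agent.S4602.sylow_map_isMax _ hg
      (default : Sylow p (Subgroup.centralizer ({g} : Set G)))
    obtain ⟨c, hc⟩ := MulAction.exists_smul_eq G T S
    have hconj : IsConj g (c * g * c⁻¹) := isConj_iff.mpr ⟨c, rfl⟩
    have hβ : Cfsg.blockCoeff (Cfsg.principalBlock M G) (c * g * c⁻¹) =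
        Cfsg.blockCoeff (Cfsg.principalBlock M G) g := isCen_idem _ g c
    have hle : (S : Subgroup G) ≤ Subgroup.centralizer ({c * g * c⁻¹} : Set G) := by
      intro s hs
      rw [← hc, Sylow.coe_subgroup_smul, Subgroup.mem_pointwise_smul_iff_inv_smul_mem, hT] at hs
      obtain ⟨t, -, ht⟩ := hs
      have h2 := Subgroup.mem_centralizer_singleton_iff.mp t.2
      rw [Subgroup.mem_centralizer_singleton_iff]
      have hs' : s = c * (t : G) * c⁻¹ := by
        have : (t : G) = c⁻¹ * s * c := by simpa [mul_assoc] using ht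
        rw [this]; group
      rw [hs', show c * (t : G) * c⁻¹ * (c * g * c⁻¹) = c * ((t : G) * g) * c⁻¹ by group, h2]
      group
    refine ⟨c * g * c⁻¹, ⟨hβ ▸ hb1, hβ ▸ hb2, fun χ hχ => ?_⟩, S.subtype hle, ?_⟩
    · have : Cfsg.centralChar (χ : G → ℂ) (c * g * c⁻¹) = Cfsg.centralChar (χ : G → ℂ) g := by
        simp only [Cfsg.centralChar, index_centralizer_conj,
          CharBasic.apply_eq_of_isConj (irr_classFun χ) hconj.symm]
      rw [this]
      exact hb3 χ hχ
    · rw [Sylow.coe_subtype, Subgroup.map_subgroupOf_eq_of_le hle]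

end Cfsg.Agent.S4652
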