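import Cfsg.Statements.S4654
import Cfsg.Agent.Lib.BrauerPairs81Stab
-- import your own Cfsg.Agent.* helpers here

set_option autoImplicit false
open Cfsg

namespace Cfsg.Agent.S4654

open BlockTheoryLocalRing BlockTheoryCentre BlockTheoryIdem BlockTheoryBrauer BrauerPairs81Base
  BrauerPairs81Pairs BrauerPairs81Conj BrauerPairs81Max BrauerPairs81Stab

attribute [local instance] Classical.propDecidable

variable {G : Type*} [Group G] [Fintype G]

/-- The averaged idempotent. -/
theorem sum_orbit (z : MonoidAlgebra ℂ G) (T : Subgroup G) (hT : ∀ x, x ∈ T ↔ cjA x z = z) :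
    ∑ x : G, cjA x z = (Nat.card T : ℂ) • ∑ m ∈ Finset.univ.image (fun x => cjA x z), m := by
  rw [Finset.sum_comp (fun m => m) (fun x => cjA x z), Finset.smul_sum]
  refine Finset.sum_congr rfl fun m hm => ?_
  obtain ⟨x₀, -, rfl⟩ := Finset.mem_image.mp hm
  rw [← Nat.cast_smul_eq_nsmul ℂ]
  congr 2
  rw [Nat.card_eq_fintype_card, ← Fintype.card_coe]
  refine Fintype.card_congr
    { toFun := fun y => ⟨x₀⁻¹ * y.1, ?_⟩
      invFun := fun t => ⟨x₀ * t.1, ?_⟩
      left_inv := fun y => Subtype.ext (mul_inv_cancel_left _ _)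
      right_inv := fun t => Subtype.ext (inv_mul_cancel_left _ _) }
  · rw [hT, cjA_mul, (Finset.mem_filter.mp y.2).2, ← cjA_mul, inv_mul_cancel, cjA_one]
  · rw [Finset.mem_filter, cjA_mul, (hT t.1).mp t.2]
    exact ⟨Finset.mem_univ _, rfl⟩

/-- Fix a prime p and a maximal ideal M of the algebraic integers containing p. Let P be a normal p-subgroup of the finite group G, B a p-block of G and e a p-block of C_G(P) such that (P, e) is a Brauer pair of B (as P is normal, this says that e occurs in the idempotent of B, which is supported on C_G(P)). Let T be the stabilizer of e in G under conjugation. Then the idempotent of e is a block idempotent of T: some block E of T has, at every element of T, the same idempotent coefficient as e (zero off C_G(P)); and the idempotent of B is the sum of the distinct G-conjugates of the idempotent of e: its coefficient at g is the sum over all x in G of the coefficient of e at x⁻¹ g x, divided by the order of T. -/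
theorem result {G : Type*} [Group G] [Fintype G] (p : ℕ) [Fact p.Prime] (M : Ideal Cfsg.AlgInt) (hM : Cfsg.IsPModular p M) (P : Subgroup G) [P.Normal] (hP : IsPGroup p P) (B : Set (Cfsg.IrrCharacter G)) (e : Set (Cfsg.IrrCharacter (Subgroup.centralizer (P : Set G)))) (hBe : Cfsg.IsBrauerPairOf p M B P e) (T : Subgroup G) (hT : ∀ x : G, x ∈ T ↔ Cfsg.StabilizesBlock (Subgroup.centralizer (P : Set G)) e x) : (∃ E : Set (Cfsg.IrrCharacter T), Cfsg.IsPBlock M E ∧ ∀ t : T, Cfsg.blockCoeff E t = Cfsg.subgroupBlockCoeff (Subgroup.centralizer (P : Set G)) e (t : G)) ∧ ∀ g : G, Cfsg.blockCoeff B g = (Nat.card T : ℂ)⁻¹ * ∑ x : G, Cfsg.subgroupBlockCoeff (Subgroup.centralizer (P : Set G)) e (x⁻¹ * g * x) := by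
  obtain ⟨⟨-, he⟩, hB, hocc⟩ := isBrauerPairOf_iff.mp hBe
  have hNP : ∀ u : G, u ∈ Subgroup.normalizer (P : Set G) := fun u => by
    rw [Subgroup.normalizer_eq_top]; trivial
  have hT' : ∀ x, x ∈ T ↔ cjA x (eb (Cen P) e) = eb (Cen P) e := fun x => by
    rw [hT, stabilizes_iff]
    exact ⟨fun h => h.2, fun h => ⟨normalizer_le_normalizer_cen (hNP x), h⟩⟩
  have hPT : P ≤ T := fun u hu => (hT' u).mpr (invBy_iff.mp (invBy_eb_cen P e) u hu)
  have hCT : Cen P ≤ T := fun u hu => (hT' u).mpr (invBy_iff.mp (invBy_eb_self _ e) u hu)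
  refine ⟨exists_block hM hP he hCT hPT (fun u _ => hNP u)
    (invBy_iff.mpr fun u hu => (hT' u).mp hu), fun g => ?_⟩
  set O := Finset.univ.image (fun x : G => cjA x (eb (Cen P) e)) with hO
  set W := ∑ m ∈ O, m with hW
  have hblk : ∀ m ∈ O, ∃ e' : Set (IrrCharacter (Cen P)), IsPBlock M e' ∧ eb (Cen P) e' = m := by
    intro m hm
    obtain ⟨x, -, rfl⟩ := Finset.mem_image.mp hm
    exact ⟨_, isPBlock_push _ he,
      (cjA_eb (conj_mem_iff_of_normalizer (normalizer_le_normalizer_cen (hNP x))) e).symm⟩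
  have hsum := sum_orbit (eb (Cen P) e) T hT'
  have hgoal : (Nat.card T : ℂ)⁻¹ * ∑ x : G, subgroupBlockCoeff (Cen P) e (x⁻¹ * g * x) =
      W.coeff g := by
    have h := congrArg (fun w : MonoidAlgebra ℂ G => w.coeff g) hsum
    simp only [MonoidAlgebra.coeff_sum, Finsupp.finsetSum_apply, coeff_cjA,
      MonoidAlgebra.coeff_smul, Finsupp.coe_smul, Pi.smul_apply, smul_eq_mul] at h
    rw [show ∑ x : G, subgroupBlockCoeff (Cen P) e (x⁻¹ * g * x) =
      ∑ x : G, (eb (Cen P) e).coeff (x⁻¹ * g * x) from rfl, h,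
      inv_mul_cancel_left₀ (Nat.cast_ne_zero.mpr Nat.card_pos.ne'), hW, MonoidAlgebra.coeff_sum,
      Finsupp.finsetSum_apply]
  rw [hgoal, ← coeff_idem]
  -- the orbit sum is a central idempotent
  have horb : O = orb P e := by
    rw [hO, orb, Finset.filter_true_of_mem fun u _ => hNP u]
  have hWc : IsCen W := by
    intro x u
    show W.coeff (u * x * u⁻¹) = W.coeff x
    rw [hW, horb]
    exact invBy_orbSum u (hNP u) x
  have hWi : IsInt M W := by
    rw [hW, horb]
    exact isInt_orbSum hM he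
  have hWW : W * W = W := by
    rw [hW, Finset.sum_mul_sum]
    refine Finset.sum_congr rfl fun m hm => ?_
    obtain ⟨e₁, he₁, rfl⟩ := hblk m hm
    rw [Finset.sum_eq_single (eb (Cen P) e₁)]
    · exact eb_sq _ e₁
    · intro m' hm' hne
      obtain ⟨e₂, he₂, rfl⟩ := hblk m' hm'
      exact eb_mul_of_ne hM he₁ he₂ fun h => hne (by rw [h])
    · exact fun h => absurd hm h
  obtain ⟨A, hA⟩ := exists_idem_eq hWc hWW
  have hsuppW : ∀ x ∉ Cen P, W.coeff x = 0 := by
    intro x hx
    rw [hW, MonoidAlgebra.coeff_sum, Finsupp.finsetSum_apply]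
    refine Finset.sum_eq_zero fun m hm => ?_
    obtain ⟨e₁, -, rfl⟩ := hblk m hm
    exact coeff_eb_of_notMem _ e₁ hx
  -- on `C(P)` the idempotent of `B` absorbs every conjugate of `e`
  have hBW : W * idem B = W := by
    rw [hW, Finset.sum_mul]
    refine Finset.sum_congr rfl fun m hm => ?_
    obtain ⟨x, -, rfl⟩ := Finset.mem_image.mp hm
    suffices h : eb (Cen P) e * idem B = eb (Cen P) e by
      have hc : ∀ z w : MonoidAlgebra ℂ G, cjA x (z * w) = cjA x z * cjA x w := fun z w => by
        refine MonoidAlgebra.ext ?_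
        ext y
        rw [coeff_cjA, coeff_mul_eq, coeff_mul_eq, ← Equiv.sum_comp (MulAut.conj x⁻¹).toEquiv]
        refine Finset.sum_congr rfl fun u _ => ?_
        simp [coeff_cjA, mul_assoc]
      conv_lhs => rw [← cjA_of_isCen (isCen_idem B) x]
      rw [← hc, h]
    have hsB : ∀ y ∉ Cen P, (idem B).coeff y = 0 := fun y hy =>
      BlockNormalP81.blockCoeff_eq_zero hM P hP hB hy
    have hcb := isCen_res_of_invBy (IsCen.invBy (isCen_idem B) (Cen P))
    have hrr : res (Cen P) (idem B) * res (Cen P) (idem B) = res (Cen P) (idem B) := by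
      rw [← res_mul_of_supported _ hsB, idem_sq]
    obtain ⟨S, hS⟩ := exists_idem_eq hcb hrr
    have hfS : e ⊆ S := fun ξ hξ => by
      by_contra hne
      have := hocc ξ hξ
      rw [phi, ← hS, omega_idem, if_neg hne, zero_sub] at this
      exact one_not_ideal hM (by simpa using ideal_neg this)
    rw [eb_eq_incl, show idem B = incl (Cen P) (res (Cen P) (idem B)) from ?_, ← map_mul, ← hS,
      idem_mul_idem, Set.inter_eq_left.mpr hfS]
    refine MonoidAlgebra.ext ?_
    ext y
    by_cases hy : y ∈ Cen P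
    · rw [show y = ((⟨y, hy⟩ : Cen P) : G) from rfl, coeff_incl_coe, coeff_res]
    · rw [coeff_incl_of_notMem _ _ hy]
      exact hsB y hy
  have hAB : A ⊆ B := fun χ hχ => by
    by_contra hne
    have := congrArg (omega (χ : G → ℂ)) hBW
    rw [omega_mul χ hWc, omega_idem, if_neg hne, mul_zero, ← hA, omega_idem, if_pos hχ] at this
    exact zero_ne_one this
  obtain ⟨ξ, hξ⟩ := block_nonempty hM he
  have hne : A.Nonempty := by
    rw [Set.nonempty_iff_ne_empty]
    intro h0
    rw [h0, idem_empty] at hA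
    have h1 := phi_orbSum hM he he hξ
    rw [if_pos eb_mem_orb] at h1
    have h2 : orbSum P e = W := by rw [hW, horb]; rfl
    rw [h2, ← hA, phi, map_zero, map_zero] at h1
    exact zero_ne_one h1
  obtain ⟨χ, hχ⟩ := hne
  have hBA : B ⊆ A := by
    rw [eq_blockOf_of_mem hM hB (hAB hχ)]
    exact blockOf_subset_of_isInt hM (hA ▸ hWi) hχ
  rw [← hA, Set.Subset.antisymm hAB hBA]

end Cfsg.Agent.S4654
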