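import Cfsg.Statements.S4662
import Cfsg.Agent.Lib.BrauerPairs81Stab
-- import your own Cfsg.Agent.* helpers here

set_option autoImplicit false
open Cfsg

namespace Cfsg.Agent.S4662

open BlockTheoryLocalRing BlockTheoryCentre BlockTheoryDefect BrauerPairs81Base BrauerPairs81Pairs
  BrauerPairs81Conj BrauerPairs81Max BrauerPairs81Stab

/-- Fix a prime p and a maximal ideal M of the algebraic integers containing p. Let (P, e) be a maximal Brauer pair of the p-block B of the finite group G, Q ≤ P, and f the p-block of C_G(Q) with (Q, f) ≤ (P, e). Let T be the stabilizer of f in N_G(Q). Then the idempotent of f is a block idempotent of T, and N_P(Q) is contained in a defect group of that block of T; moreover for some x in G the conjugate pair (x Q x⁻¹, conjugate of f) again lies below (P, e) and, with T' the stabilizer of the conjugate of f in N_G(x Q x⁻¹), N_P(x Q x⁻¹) is a defect group of the block of T' whose idempotent is that of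 the conjugate of f. -/
theorem result {G : Type*} [Group G] [Fintype G] (p : ℕ) [Fact p.Prime] (M : Ideal Cfsg.AlgInt) (hM : Cfsg.IsPModular p M) (B : Set (Cfsg.IrrCharacter G)) (P Q : Subgroup G) (e : Set (Cfsg.IrrCharacter (Subgroup.centralizer (P : Set G)))) (f : Set (Cfsg.IrrCharacter (Subgroup.centralizer (Q : Set G)))) (hmax : Cfsg.IsMaximalBrauerPair p M B P e) (hQP : Q ≤ P) (hf : Cfsg.IsPBlock M f) (hle : Cfsg.SubpairLE p M Q f P e) (T : Subgroup G) (hT : ∀ y : G, y ∈ T ↔ y ∈ Subgroup.normalizer (Q : Set G) ∧ Cfsg.StabilizesBlock (Subgroup.centralizer (Q : Set G)) f y) : (∃ F : Set (Cfsg.IrrCharacter T), Cfsg.IsPBlock M F ∧ (∀ t : T, Cfsg.blockCoeff F t = Cfsg.subgroupBlockCoeff (Subgroup.centralizer (Q : Set G)) f (t : G)) ∧ ∃ D : Subgroup T, Cfsg.IsDefectGroup p M F D ∧ (P ⊓ Subgroup.normalizer (Q : Set G)).subgroupOf T ≤ D) ∧ ∃ x : G, Cfsg.SubpairLE p M (Q.map (MulAut.conj x).toMonoidHom) (Cfsg.conjBlock Q x f) P e ∧ ∀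 (T' : Subgroup G), (∀ y : G, y ∈ T' ↔ y ∈ Subgroup.normalizer ((Q.map (MulAut.conj x).toMonoidHom) : Set G) ∧ Cfsg.StabilizesBlock (Subgroup.centralizer ((Q.map (MulAut.conj x).toMonoidHom) : Set G)) (Cfsg.conjBlock Q x f) y) → ∃ F' : Set (Cfsg.IrrCharacter T'), Cfsg.IsPBlock M F' ∧ (∀ t : T', Cfsg.blockCoeff F' t = Cfsg.subgroupBlockCoeff (Subgroup.centralizer ((Q.map (MulAut.conj x).toMonoidHom) : Set G)) (Cfsg.conjBlock Q x f) (t : G)) ∧ Cfsg.IsDefectGroup p M F' ((P ⊓ Subgroup.normalizer ((Q.map (MulAut.conj x).toMonoidHom) : Set G)).subgroupOf T') := by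
  have hQf := isBrauerPairOf_down hM hle hmax.1
  have hT' : ∀ y, y ∈ T ↔ y ∈ Subgroup.normalizer (Q : Set G) ∧
      cjA y (eb (Cen Q) f) = eb (Cen Q) f := fun y => by
    rw [hT, stabilizes_iff]
    exact ⟨fun h => ⟨h.1, h.2.2⟩, fun h => ⟨h.1, normalizer_le_normalizer_cen h.1, h.2⟩⟩
  have hinv : InvBy T (eb (Cen Q) f) := invBy_iff.mpr fun u hu => ((hT' u).mp hu).2
  have hTN : T ≤ Subgroup.normalizer (Q : Set G) := fun u hu => ((hT' u).mp hu).1
  have hQT : Q ≤ T := fun u hu =>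
    (hT' u).mpr ⟨Subgroup.le_normalizer hu, invBy_iff.mp (invBy_eb_cen Q f) u hu⟩
  have hCT : Cen Q ≤ T := fun u hu => (hT' u).mpr
    ⟨Subgroup.centralizer_le_normalizer _ hu, invBy_iff.mp (invBy_eb_self _ f) u hu⟩
  obtain ⟨F, hF, hFc⟩ := exists_block hM hQf.1.1 hf hCT hQT hTN hinv
  refine ⟨⟨F, hF, hFc, ?_⟩, ?_⟩
  · obtain ⟨D, hD, hDle⟩ := exists_defect_ge hM hmax.1.1 hQP hle hCT hTN hF hFc
    refine ⟨D, hD, fun t ht => hDle ?_⟩
    exact Subgroup.mem_subgroupOf.mpr ⟨(Subgroup.mem_subgroupOf.mp ht).1, t.2⟩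
  obtain ⟨x, hx, hx'⟩ := exists_conj_defect_eq hM hmax hQf hCT hTN hFc hF
  refine ⟨x, hx, fun T' hT'' => ?_⟩
  have h : ∀ y, y ∈ T ↔ x * y * x⁻¹ ∈ T' := fun y => by
    rw [hT', hT'', stabilizes_iff]
    have e : cjA (x * y * x⁻¹) (eb (Cen (cjS x Q)) (conjBlock Q x f)) =
        cjA x (cjA y (eb (Cen Q) f)) := by
      rw [eb_conjBlock, ← cjA_mul, inv_mul_cancel_right, cjA_mul]
    have eN : y ∈ Subgroup.normalizer (Q : Set G) ↔
        x * y * x⁻¹ ∈ Subgroup.normalizer (cjS x Q : Set G) := by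
      refine ⟨fun hy => cjS_le_normalizer (le_refl (Subgroup.normalizer (Q : Set G)))
        (Subgroup.mem_map_of_mem _ hy), fun hy => Subgroup.mem_normalizer_iff.mpr fun a => ?_⟩
      have := Subgroup.mem_normalizer_iff.mp hy (x * a * x⁻¹)
      rw [mem_cjS, mem_cjS] at this
      simpa [mul_assoc] using this
    refine ⟨fun hy => ⟨eN.mp hy.1, normalizer_le_normalizer_cen (eN.mp hy.1), ?_⟩,
      fun hy => ⟨eN.mpr hy.1, cjA_injective x ?_⟩⟩
    · exact e.trans ((congrArg (cjA x) hy.2).trans (eb_conjBlock Q x f).symm)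
    · exact e.symm.trans (hy.2.2.trans (eb_conjBlock Q x f))
  refine ⟨pushSet (conjEquiv x T T' h) F, isPBlock_push _ hF, conj_block x h hFc, ?_⟩
  have hsub : (P ⊓ Subgroup.normalizer (cjS x Q : Set G)).subgroupOf T' = (P ⊓ T').subgroupOf T' := by
    ext t
    simp only [Subgroup.mem_subgroupOf, Subgroup.mem_inf]
    exact ⟨fun h => ⟨h.1, t.2⟩, fun h => ⟨h.1, ((hT'' t).mp t.2).1⟩⟩
  exact hsub ▸ hx' T' h

end Cfsg.Agent.S4662
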