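import Cfsg.Statements.S4663
import Cfsg.Agent.Lib.BrauerPairs81Max
-- import your own Cfsg.Agent.* helpers here

set_option autoImplicit false
open Cfsg

namespace Cfsg.Agent.S4663

open BlockTheoryLocalRing BlockTheoryCentre BlockTheoryIdem BlockTheoryBrauer BlockPrincipal81
  BrauerPairs81Base BrauerPairs81Pairs BrauerPairs81Conj BrauerPairs81Max

variable {G : Type*} [Group G] [Fintype G] {p : ℕ} [Fact p.Prime] {M : Ideal AlgInt}

attribute [local instance] Classical.propDecidable

/-- A pair normally below a principal pair is principal. -/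
theorem eq_principal_of_step (hM : IsPModular p M) {Q R : Subgroup G}
    {f : Set (IrrCharacter (Cen Q))} (h : IsNormalSubpair p M Q f R (principalBlock M (Cen R))) :
    f = principalBlock M (Cen Q) := by
  obtain ⟨⟨-, hf⟩, ⟨hR, -⟩, hQR, -, hinv, hocc⟩ := isNormalSubpair_iff.mp h
  have h1 := hocc (oneChar (Cen R)) (oneChar_mem hM)
  rw [phi, omega_one_apply] at h1
  have h2 := ideal_sum_sub_centralizer hM hR (W := fun x => (eb (Cen Q) f).coeff x) hinv
    (isInt_eb hM hf)
  simp only [coeff_res] at h1
  have h3 : ∑ x : G, (eb (Cen Q) f).coeff x = omega ((oneChar (Cen Q) : IrrCharacter (Cen Q)) : Cen Q → ℂ) (idem f) := by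
    rw [omega_one_apply, ← res_eb (Cen Q) f]
    simp only [coeff_res]
    rw [← Finset.sum_subtype (F := inferInstance) (Finset.univ.filter fun x => x ∈ Cen Q)
      (fun x => by simp) fun x => (eb (Cen Q) f).coeff x]
    refine (Finset.sum_subset (Finset.subset_univ _) fun x _ hx => ?_).symm
    exact coeff_eb_of_notMem _ f (by simpa using hx)
  rw [h3, omega_idem] at h2
  refine block_eq_of_mem hM hf isPBlock_principal ?_ (oneChar_mem hM)
  by_contra hne
  rw [if_neg hne] at h2
  refine one_not_ideal hM (cast (congrArg (MemLocalIdeal M) ?_) (ideal_neg (ideal_add hM h1 h2)))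
  ring

/-- A pair below a principal pair is principal. -/
theorem eq_principal_of_le (hM : IsPModular p M) {Q S : Subgroup G}
    {f : Set (IrrCharacter (Cen Q))} (h : SubpairLE p M Q f S (principalBlock M (Cen S))) :
    f = principalBlock M (Cen Q) := by
  suffices ∀ a b : BrauerPairIdx G, Relation.ReflTransGen (NormalSubpairRel p M) a b →
      b.2 = principalBlock M (Cen b.1) → a.2 = principalBlock M (Cen a.1) from this _ _ h rfl
  intro a b hab
  induction hab using Relation.ReflTransGen.head_induction_on with
  | refl => exact id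
  | @head a c hac _ ih =>
    intro hb
    have hg := ih hb
    obtain ⟨C, g⟩ := c
    dsimp only at hg
    have hac0 : IsNormalSubpair p M a.1 a.2 C g := hac
    rw [hg] at hac0
    exact eq_principal_of_step hM hac0

/-- Fix a prime p and a maximal ideal M of the algebraic integers containing p. Brauer's Third Main Theorem in the language of Brauer pairs: for the principal p-block B₀ of the finite group G and any p-subgroup Q, a p-block e of C_G(Q) makes (Q, e) a Brauer pair of B₀ if and only if e is the principal p-block of C_G(Q). Equivalently, modulo M the truncation to C_G(Q) of the idempotent of B₀ is the idempotent of the principal block of C_G(Q). -/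
theorem result {G : Type*} [Group G] [Fintype G] (p : ℕ) [Fact p.Prime] (M : Ideal Cfsg.AlgInt) (hM : Cfsg.IsPModular p M) (Q : Subgroup G) (hQ : IsPGroup p Q) (e : Set (Cfsg.IrrCharacter (Subgroup.centralizer (Q : Set G)))) (he : Cfsg.IsPBlock M e) : Cfsg.IsBrauerPairOf p M (Cfsg.principalBlock M G) Q e ↔ e = Cfsg.principalBlock M (Subgroup.centralizer (Q : Set G)) := by
  refine ⟨fun h => ?_, fun h => h ▸ BlockPrincipal81.isBrauerPairOf_principal hM hQ⟩
  obtain ⟨S⟩ : Nonempty (Sylow p G) := inferInstance
  have hmax : IsMaximalBrauerPair p M (principalBlock M G) (S : Subgroup G)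
      (principalBlock M (Cen (S : Subgroup G))) :=
    ⟨BlockPrincipal81.isBrauerPairOf_principal hM S.isPGroup',
      fun R g hR hle => S.3 hR.1.1 (subgroup_le_of_subpairLE hle)⟩
  obtain ⟨x, hx⟩ := exists_conj_subpairLE hM hmax h
  have h1 := eq_principal_of_le hM hx
  refine BlockTheoryIdem.block_eq_of_mem hM he isPBlock_principal ?_ (oneChar_mem hM)
  have h2 : oneChar (Cen (cjS x Q)) ∈ conjBlock Q x e := h1 ▸ oneChar_mem hM
  rw [conjBlock_eq] at h2
  obtain ⟨ξ, hξ, hξ1⟩ := h2
  convert hξ using 1
  refine Subtype.ext (funext fun k => ?_)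
  rw [← pushChar_apply (cenEquiv x Q) ξ k, hξ1]
  rfl

end Cfsg.Agent.S4663
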