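import Cfsg.Statements.S4664
import Mathlib
import Cfsg.Agent.Lib.BlockTheoryIdem
-- import your own Cfsg.Agent.* helpers here

set_option autoImplicit false
open Cfsg

namespace Cfsg.Agent.S4664

open Cfsg.Agent.BlockTheoryCentre Cfsg.Agent.BlockTheoryIdem


/-- Fix a prime p and a maximal ideal M of the algebraic integers containing p, and let B be a p-block of the finite group G. Let m be the p'-part of the order of G and η = exp(2πi/m). Then every coefficient of the idempotent of B lies in the cyclotomic field ℚ(η). -/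
theorem result {G : Type*} [Group G] [Fintype G] (p : ℕ) [Fact p.Prime] (M : Ideal Cfsg.AlgInt) (hM : Cfsg.IsPModular p M) (B : Set (Cfsg.IrrCharacter G)) (hB : Cfsg.IsPBlock M B) (g : G) : Cfsg.blockCoeff B g ∈ IntermediateField.adjoin ℚ ({Complex.exp (2 * Real.pi * Complex.I / ((Nat.card G / p ^ (Nat.card G).factorization p : ℕ) : ℂ))} : Set ℂ) := by
  classical
  set K := IntermediateField.adjoin ℚ ({Complex.exp (2 * Real.pi * Complex.I /
    ((Nat.card G / p ^ (Nat.card G).factorization p : ℕ) : ℂ))} : Set ℂ) with hK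
  by_cases hg : p ∣ orderOf g
  · rw [blockCoeff_eq_zero_of_dvd hM hB hg]; exact zero_mem _
  set n := Nat.card G / p ^ (Nat.card G).factorization p with hn
  have hn0 : n ≠ 0 := (Nat.ordCompl_pos p Nat.card_pos.ne').ne'
  have : NeZero n := ⟨hn0⟩
  have hdvd : orderOf g⁻¹ ∣ n := by
    rw [orderOf_inv]
    exact Nat.dvd_ordCompl_of_dvd_not_dvd (orderOf_dvd_natCard g) hg
  have hval : ∀ χ : Cfsg.IrrCharacter G, (χ : G → ℂ) g⁻¹ ∈ K := by
    intro χ
    obtain ⟨d, ρ, -, hρ⟩ := χ.2
    obtain ⟨b, μ, -, h2, -, h4⟩ := CharBasic.exists_rep_eigenbasis ρ g⁻¹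
    have h5 := h4 1
    simp only [pow_one] at h5
    rw [← hρ, h5]
    refine sum_mem fun i _ => ?_
    obtain ⟨j, -, hj⟩ := (Complex.isPrimitiveRoot_exp n hn0).eq_pow_of_pow_eq_one
      (show μ i ^ n = 1 by obtain ⟨l, hl⟩ := hdvd; rw [hl, pow_mul, h2 i, one_pow])
    rw [← hj]
    exact pow_mem (IntermediateField.mem_adjoin_simple_self _ _) _
  rw [blockCoeff_eq_sum]
  refine mul_mem (inv_mem (natCast_mem K _)) (sum_mem fun χ _ => ?_)
  split_ifs
  · obtain ⟨d, hd⟩ := CharBasic.isIrrCharacter_apply_one χ.2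
    rw [hd.2, ← irr_inv]
    exact mul_mem (natCast_mem K _) (hval χ)
  · exact zero_mem _

end Cfsg.Agent.S4664
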