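import Cfsg.Statements.S4665
import Mathlib
import Cfsg.Agent.Lib.CharBasicOrth
-- import your own Cfsg.Agent.* helpers here

set_option autoImplicit false
open Cfsg

namespace Cfsg.Agent.S4665

theorem sum_sylow {G : Type*} [Group G] [Finite G] (P : Subgroup G) [Fintype P]
    (ψ : Cfsg.IrrCharacter G) : ∃ m : ℕ, ∑ u : P, (ψ : G → ℂ) u = (Nat.card P : ℂ) * m := by
  have h1 : Cfsg.IsCharacter P ((ψ : G → ℂ) ∘ P.subtype) :=
    CharBasic.isCharacter_comap P.subtype (CharBasic.isCharacter_of_isIrrCharacter ψ.2)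
  have h2 : Cfsg.IsCharacter P (fun _ => (1 : ℂ)) := by
    refine ⟨1, Representation.trivial ℂ P (Fin 1 → ℂ), ?_⟩
    funext g
    simp [Representation.character]
  obtain ⟨m, hm⟩ := CharBasicOrth.classInner_isCharacter h1 h2
  refine ⟨m, ?_⟩
  rw [← hm, CharBasicOrth.card_mul_classInner]
  simp


/-- Fix a prime p, a maximal ideal M of the algebraic integers containing p, and a p-block B of the finite group G, and let p^a be the p-part of the order of G. Let χ be an integer combination of the irreducible characters in B. If the function that agrees with χ on p-regular elements and vanishes on p-singular elements is again an integer combination of the irreducible characters in B, then p^a divides χ(1). -/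
theorem result {G : Type*} [Group G] [Fintype G] (p : ℕ) [Fact p.Prime] (M : Ideal Cfsg.AlgInt) (hM : Cfsg.IsPModular p M) (B : Set (Cfsg.IrrCharacter G)) (hB : Cfsg.IsPBlock M B) (χ : G → ℂ) (hχ : (∃ n : Cfsg.IrrCharacter G → ℤ, ∀ g : G, χ g = ∑ᶠ ψ ∈ B, (n ψ : ℂ) * (ψ : G → ℂ) g)) (h0 : (∃ n : Cfsg.IrrCharacter G → ℤ, ∀ g : G, Cfsg.pRegularPart p χ g = ∑ᶠ ψ ∈ B, (n ψ : ℂ) * (ψ : G → ℂ) g)) : ∃ k : ℤ, χ 1 = (p ^ (Nat.card G).factorization p : ℂ) * k := by
  classical
  obtain ⟨n, hn⟩ := h0
  let P : Sylow p G := default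
  choose m hm using fun ψ : Cfsg.IrrCharacter G => sum_sylow (P : Subgroup G) ψ
  refine ⟨∑ ψ ∈ (Set.toFinite B).toFinset, n ψ * m ψ, ?_⟩
  have h1 : ∑ u : (P : Subgroup G), Cfsg.pRegularPart p χ (u : G) = χ 1 := by
    rw [Finset.sum_eq_single (1 : (P : Subgroup G))]
    · simp [Cfsg.pRegularPart, Cfsg.IsPRegular, (Fact.out : p.Prime).ne_one]
    · intro u _ hu
      simp only [Cfsg.pRegularPart]
      rw [if_neg]
      intro hr
      apply hu
      obtain ⟨k, hk⟩ := IsPGroup.iff_orderOf.mp P.isPGroup' u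
      rcases k with _ | k
      · rwa [pow_zero, orderOf_eq_one_iff] at hk
      · exact absurd (by rw [Subgroup.orderOf_coe, hk]; exact dvd_pow_self p k.succ_ne_zero) hr
    · simp
  rw [← h1]
  simp only [hn, finsum_mem_eq_finite_toFinset_sum _ (Set.toFinite B)]
  rw [Finset.sum_comm]
  simp only [← Finset.mul_sum, hm, P.card_eq_multiplicity, Nat.cast_pow]
  push_cast
  rw [Finset.mul_sum]
  exact Finset.sum_congr rfl fun x _ => by ring

end Cfsg.Agent.S4665
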