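import Cfsg.Statements.S4666
import Cfsg.Agent.Lib.BrauerBlocksRegFun
import Cfsg.Agent.Lib.BlockTheoryIdem
-- import your own Cfsg.Agent.* helpers here

set_option autoImplicit false
open Cfsg

namespace Cfsg.Agent.S4666

open BrauerBlocksRegFun BlockContrib
attribute [local instance] Classical.propDecidable


/-- Fix a prime p and a maximal ideal M of the algebraic integers containing p, and a p-block B of the finite group G of defect d. For every integer combination χ of the irreducible characters in B, p^d times the function that agrees with χ on p-regular elements and vanishes elsewhere is again an integer combination of the irreducible characters in B. -/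
theorem result {G : Type*} [Group G] [Fintype G] (p : ℕ) [Fact p.Prime] (M : Ideal Cfsg.AlgInt) (hM : Cfsg.IsPModular p M) (B : Set (Cfsg.IrrCharacter G)) (hB : Cfsg.IsPBlock M B) (χ : G → ℂ) (hχ : (∃ n : Cfsg.IrrCharacter G → ℤ, ∀ g : G, χ g = ∑ᶠ ψ ∈ B, (n ψ : ℂ) * (ψ : G → ℂ) g)) : (∃ n : Cfsg.IrrCharacter G → ℤ, ∀ g : G, (p ^ Cfsg.blockDefect p B : ℂ) * Cfsg.pRegularPart p χ g = ∑ᶠ ψ ∈ B, (n ψ : ℂ) * (ψ : G → ℂ) g) := by
  classical
  obtain ⟨n, hn⟩ := hχ
  have hp : p.Prime := Fact.out
  refine ⟨fun ψ => ∑ ξ : IrrCharacter G, if ξ ∈ B then n ξ * contrib p B ξ ψ else 0, fun g => ?_⟩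
  have key : ∀ ξ ∈ B, regFun p ((p : ℂ) ^ blockDefect p B) (ξ : G → ℂ) =
      fun g => ∑ ψ : IrrCharacter G, if ψ ∈ B then (contrib p B ξ ψ : ℂ) * (ψ : G → ℂ) g else 0 := by
    intro ξ hξ
    refine (CharBasicOrth.eq_sum_classInner (isClassFunction_regFun _ ξ)).trans ?_
    funext g
    simp only [Finset.sum_apply, Pi.smul_apply, smul_eq_mul]
    refine Finset.sum_congr rfl fun ψ _ => ?_
    split_ifs with hψ
    · rw [classInner_regFun_eq hp _ ξ hψ, ← minExp_add_defect hM hB, pow_add]
      have h0 : ∀ k : ℕ, (p : ℂ) ^ k ≠ 0 := fun k => pow_ne_zero _ (Nat.cast_ne_zero.2 hp.ne_zero)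
      field_simp [h0]
    · rw [regFun_eq_zero_of_not_mem hM hB _ hξ hψ, zero_mul]
  rw [BlockTheoryIdem.finsum_mem_eq_sum]
  calc (p : ℂ) ^ blockDefect p B * pRegularPart p χ g
      = ∑ ξ : IrrCharacter G, if ξ ∈ B then
          (n ξ : ℂ) * regFun p ((p : ℂ) ^ blockDefect p B) (ξ : G → ℂ) g else 0 := by
        by_cases hg : p ∣ orderOf g
        · rw [pRegularPart, if_neg (fun h : IsPRegular p g => h hg)]
          simp [regFun, hg]
        · rw [pRegularPart, if_pos (show IsPRegular p g from hg)]
          simp only [regFun, if_neg hg]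
          rw [hn g, BlockTheoryIdem.finsum_mem_eq_sum, Finset.mul_sum]
          refine Finset.sum_congr rfl fun ξ _ => ?_
          split_ifs <;> ring
    _ = ∑ ξ : IrrCharacter G, ∑ ψ : IrrCharacter G, if ψ ∈ B then (if ξ ∈ B then
          ((n ξ * contrib p B ξ ψ : ℤ) : ℂ) else 0) * (ψ : G → ℂ) g else 0 := by
        refine Finset.sum_congr rfl fun ξ _ => ?_
        by_cases hξ : ξ ∈ B
        · rw [if_pos hξ, key ξ hξ, Finset.mul_sum]
          refine Finset.sum_congr rfl fun ψ _ => ?_
          rw [if_pos hξ]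
          split_ifs <;> push_cast <;> ring
        · simp [hξ]
    _ = _ := by
        rw [Finset.sum_comm]
        refine Finset.sum_congr rfl fun ψ _ => ?_
        split_ifs
        · rw [← Finset.sum_mul, Int.cast_sum]
          congr 1
          refine Finset.sum_congr rfl fun ξ _ => ?_
          split_ifs <;> simp
        · simp

end Cfsg.Agent.S4666
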