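import Cfsg.Statements.S4668
import Mathlib
import Cfsg.Agent.Lib.BlockNormalP81
import Cfsg.Agent.Lib.CharPBasic
-- import your own Cfsg.Agent.* helpers here

set_option autoImplicit false
open Cfsg

namespace Cfsg.Agent.S4668


/-- Fix a prime p and a maximal ideal M of the algebraic integers containing p. Let Q₀ < Q₁ < ⋯ < Q_m be a strictly increasing chain of p-subgroups of the finite group G and N the intersection of their normalizers. Then every block idempotent of N is supported on C_G(Q_m): for every p-block E of N, the idempotent coefficient of E vanishes at every element of N outside C_G(Q_m). -/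
theorem result {G : Type*} [Group G] [Fintype G] (p : ℕ) [Fact p.Prime] (M : Ideal Cfsg.AlgInt) (hM : Cfsg.IsPModular p M) (m : ℕ) (Q : Fin (m + 1) → Subgroup G) (hQ : StrictMono Q) (hQp : ∀ i, IsPGroup p (Q i)) (N : Subgroup G) (hN : ∀ g : G, g ∈ N ↔ ∀ i, g ∈ Subgroup.normalizer (Q i : Set G)) (E : Set (Cfsg.IrrCharacter N)) (hE : Cfsg.IsPBlock M E) (n : N) (hn : (n : G) ∉ Subgroup.centralizer (Q (Fin.last m) : Set G)) : Cfsg.blockCoeff E n = 0 := by
  classical
  by_cases hnp : p ∣ orderOf n
  · exact Cfsg.Agent.BlockTheoryIdem.blockCoeff_eq_zero_of_dvd hM hE hnp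
  by_contra hne
  apply hn
  have hcop : (orderOf (n : G)).Coprime p := by
    rw [Subgroup.orderOf_coe]
    exact ((Fact.out : p.Prime).coprime_iff_not_dvd.mpr hnp).symm
  have hle : ∀ i j : Fin (m + 1), i ≤ j → Q i ≤ Q j := fun i j h => hQ.monotone h
  -- the top subgroup meets `N` in a normal `p`-subgroup of `N`
  set P : Subgroup N := (Q (Fin.last m)).subgroupOf N with hPdef
  have hPn : P.Normal := ⟨fun u hu g => by
    have := (Subgroup.mem_normalizer_iff.mp ((hN g).mp g.2 (Fin.last m)) (u : G)).mp hu
    simpa [hPdef, Subgroup.mem_subgroupOf] using this⟩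
  have hPp : IsPGroup p P := (hQp _).comap_of_injective _ N.subtype_injective
  have hnP : n ∈ Subgroup.centralizer (P : Set N) := by
    by_contra h
    exact hne (Cfsg.Agent.BlockNormalP81.blockCoeff_eq_zero hM P hPp hE h)
  -- `n` centralizes every element of a member of the chain that normalizes the chain
  have hR : ∀ (i : Fin (m + 1)) (y : G), y ∈ Q i → y ∈ N → Commute (n : G) y := by
    intro i y hy hyN
    have h1 := Subgroup.mem_centralizer_iff.mp hnP ⟨y, hyN⟩ (hle i _ (Fin.le_last i) hy)
    exact (congrArg Subtype.val h1).symm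
  have hind : ∀ i : Fin (m + 1), ∀ y ∈ Q i, Commute (n : G) y := by
    intro i
    induction i using Fin.induction with
    | zero =>
      intro y hy
      refine hR 0 y hy ((hN y).mpr fun j => ?_)
      exact Subgroup.le_normalizer (hle 0 j (Fin.zero_le j) hy)
    | succ i ih =>
      refine Cfsg.Agent.CharPBasic.commute_of_centralizes_fixed (P := Q i.succ) (Q := Q i.castSucc)
        (hQp _) (hQp _) ((hle _ _ (Fin.castSucc_lt_succ).le).trans Subgroup.le_normalizer) hcop
        ((hN n).mp n.2 i.succ) ih (fun y hy hc => hR i.succ y hy ((hN y).mpr fun j => ?_))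
      rcases le_or_gt j i.castSucc with h | h
      · refine Subgroup.centralizer_le_normalizer _ (Subgroup.mem_centralizer_iff.mpr fun q hq => ?_)
        exact (hc q (hle j _ h hq)).eq
      · exact Subgroup.le_normalizer (hle i.succ j (Fin.castSucc_lt_iff_succ_le.mp h) hy)
  rw [Subgroup.mem_centralizer_iff]
  exact fun y hy => ((hind _ y hy).eq).symm

end Cfsg.Agent.S4668
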