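import Cfsg.Statements.S4670
import Mathlib
import Cfsg.Agent.Lib.BlockFirstMain32
-- import your own Cfsg.Agent.* helpers here

set_option autoImplicit false
open Cfsg

namespace Cfsg.Agent.S4670

attribute [local instance] Classical.propDecidable

open Cfsg.Agent Cfsg.Agent.BlockTheoryLocalRing Cfsg.Agent.BrauerPairs81Base in
/-- Matching blocks of `H ≥ N(P)` and of `N(P)`. -/
theorem transfer {G : Type*} [Group G] [Fintype G] {p : ℕ} [Fact p.Prime] {M : Ideal AlgInt}
    (hM : IsPModular p M) {P H : Subgroup G} (hP : IsPGroup p P)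
    (hH : Subgroup.normalizer (P : Set G) ≤ H) :
    (∀ b : Set (IrrCharacter (Subgroup.normalizer (P : Set G))), IsPBlock M b →
      IsDefectGroup p M b (P.subgroupOf (Subgroup.normalizer (P : Set G))) →
      ∃ c : Set (IrrCharacter H), IsPBlock M c ∧ IsDefectGroup p M c (P.subgroupOf H) ∧
        ∀ x : G, x ∈ Subgroup.centralizer (P : Set G) →
          MemLocalIdeal M (subgroupBlockCoeff H c x -
            subgroupBlockCoeff (Subgroup.normalizer (P : Set G)) b x)) ∧
    (∀ c : Set (IrrCharacter H), IsPBlock M c → IsDefectGroup p M c (P.subgroupOf H) →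
      ∃ b : Set (IrrCharacter (Subgroup.normalizer (P : Set G))), IsPBlock M b ∧
        IsDefectGroup p M b (P.subgroupOf (Subgroup.normalizer (P : Set G))) ∧
        ∀ x : G, x ∈ Subgroup.centralizer (P : Set G) →
          MemLocalIdeal M (subgroupBlockCoeff H c x -
            subgroupBlockCoeff (Subgroup.normalizer (P : Set G)) b x)) ∧
    (∀ c c' : Set (IrrCharacter H), IsPBlock M c → IsDefectGroup p M c (P.subgroupOf H) →
      IsPBlock M c' → IsDefectGroup p M c' (P.subgroupOf H) →
      (∀ x : G, x ∈ Subgroup.centralizer (P : Set G) →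
        MemLocalIdeal M (subgroupBlockCoeff H c x - subgroupBlockCoeff H c' x)) → c = c') := by
  haveI := Fintype.ofFinite H
  have hPN : P ≤ Subgroup.normalizer (P : Set G) := Subgroup.le_normalizer
  have hPH : P ≤ H := hPN.trans hH
  have hCN : Subgroup.centralizer (P : Set G) ≤ Subgroup.normalizer (P : Set G) :=
    Subgroup.centralizer_le_normalizer _
  set P' := P.subgroupOf H with hP'
  have hP'p : IsPGroup p P' := hP.comap_subtype
  haveI := Fintype.ofFinite (Subgroup.normalizer (P' : Set H))
  have hNeq : Subgroup.normalizer (P' : Set H) = (Subgroup.normalizer (P : Set G)).subgroupOf H := by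
    ext n
    simp only [Subgroup.mem_subgroupOf, Subgroup.mem_normalizer_iff, hP']
    refine ⟨fun h a => ⟨fun ha => ?_, fun ha => ?_⟩, fun h a => by simpa using h (a : G)⟩
    · have := (h ⟨a, hPH ha⟩).mp (by simpa using ha)
      simpa using this
    · have haH : a ∈ H := by
        have h1 := hPH ha
        have := H.mul_mem (H.mul_mem (H.inv_mem n.2) h1) n.2
        simpa [mul_assoc] using this
      have := (h ⟨a, haH⟩).mpr (by simpa using ha)
      simpa using this
  let e : Subgroup.normalizer (P' : Set H) ≃* Subgroup.normalizer (P : Set G) :=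
    (MulEquiv.subgroupCongr hNeq).trans (Subgroup.subgroupOfEquivOfLe hH)
  have he : ∀ n : Subgroup.normalizer (P' : Set H), ((e n : G)) = ((n : H) : G) := fun n => rfl
  have hcen : ∀ x : H, x ∈ Subgroup.centralizer (P' : Set H) ↔
      (x : G) ∈ Subgroup.centralizer (P : Set G) := by
    intro x
    refine ⟨fun h => Subgroup.mem_centralizer_iff.mpr fun u hu => ?_,
      fun h => Subgroup.mem_centralizer_iff.mpr fun u hu => Subtype.ext ?_⟩
    · exact congrArg Subtype.val
        (Subgroup.mem_centralizer_iff.mp h ⟨u, hPH hu⟩ (Subgroup.mem_subgroupOf.mpr hu))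
    · exact Subgroup.mem_centralizer_iff.mp h _ (Subgroup.mem_subgroupOf.mp hu)
  have hCN' : Subgroup.centralizer (P' : Set H) ≤ Subgroup.normalizer (P' : Set H) :=
    Subgroup.centralizer_le_normalizer _
  -- reading the coefficients through the isomorphism
  have hread : ∀ (c : Set (IrrCharacter H))
      (bH : Set (IrrCharacter (Subgroup.normalizer (P' : Set H)))),
      BlockFirstMain32.Agree M P' (Subgroup.normalizer (P' : Set H)) c bH →
      ∀ x : G, x ∈ Subgroup.centralizer (P : Set G) →
        MemLocalIdeal M (subgroupBlockCoeff H c x -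
          subgroupBlockCoeff (Subgroup.normalizer (P : Set G)) (pushSet e bH) x) := by
    intro c bH hag x hx
    have hxH : x ∈ H := hH (hCN hx)
    have hxC' : (⟨x, hxH⟩ : H) ∈ Subgroup.centralizer (P' : Set H) := (hcen _).mpr hx
    have h1 := hag ⟨x, hxH⟩ hxC'
    rw [subgroupBlockCoeff, dif_pos hxH, subgroupBlockCoeff, dif_pos (hCN hx)]
    rw [subgroupBlockCoeff, dif_pos (hCN' hxC')] at h1
    rw [show (⟨x, hCN hx⟩ : Subgroup.normalizer (P : Set G)) = e ⟨⟨x, hxH⟩, hCN' hxC'⟩ from
      Subtype.ext (he ⟨⟨x, hxH⟩, hCN' hxC'⟩).symm, blockCoeff_push]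
    exact h1
  have hmapN : (P.subgroupOf (Subgroup.normalizer (P : Set G))).map e.symm.toMonoidHom =
      P'.subgroupOf (Subgroup.normalizer (P' : Set H)) := by
    ext n
    refine ⟨?_, fun hn => ⟨e n, ?_, e.symm_apply_apply n⟩⟩
    · rintro ⟨a, ha, rfl⟩
      show ((e.symm a : H) : G) ∈ P
      rw [← he, e.apply_symm_apply]
      exact ha
    · show ((e n : G)) ∈ P
      rw [he]
      exact hn
  have hmapN' : (P'.subgroupOf (Subgroup.normalizer (P' : Set H))).map e.toMonoidHom =
      P.subgroupOf (Subgroup.normalizer (P : Set G)) := by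
    rw [← hmapN, Subgroup.map_map]
    convert Subgroup.map_id _ using 2
    ext n
    simp
  have hsymm : ∀ b : Set (IrrCharacter (Subgroup.normalizer (P : Set G))),
      pushSet e (pushSet e.symm b) = b := by
    intro b
    rw [pushSet, pushSet, Set.image_image]
    convert Set.image_id b using 2
    rename_i χ _
    refine Subtype.ext (funext fun y => ?_)
    show (χ : Subgroup.normalizer (P : Set G) → ℂ) (e.symm.symm (e.symm y)) = _
    simp
  refine ⟨fun b hb hbD => ?_, fun c hc hcD => ?_, fun c c' hc hcD hc' hcD' h => ?_⟩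
  · obtain ⟨c, hc, hcD, hag⟩ := BlockFirstMain32.induce_agree hM hP'p (isPBlock_push e.symm hb)
      (hmapN ▸ isDefectGroup_push e.symm hbD)
    exact ⟨c, hc, hcD, fun x hx => hsymm b ▸ hread c _ hag x hx⟩
  · obtain ⟨bH, hbH, hbHD, hag⟩ := BlockFirstMain32.exists_agree hM hP'p hc hcD
    exact ⟨pushSet e bH, isPBlock_push e hbH, hmapN' ▸ isDefectGroup_push e hbHD,
      hread c bH hag⟩
  · obtain ⟨bH, hbH, hbHD, hag⟩ := BlockFirstMain32.exists_agree hM hP'p hc hcD
    have hag' : BlockFirstMain32.Agree M P' (Subgroup.normalizer (P' : Set H)) c' bH := by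
      intro x hx
      have h1 := h (x : G) ((hcen x).mp hx)
      rw [subgroupBlockCoeff, dif_pos x.2, subgroupBlockCoeff, dif_pos x.2] at h1
      have := ideal_sub hM (hag x hx) h1
      simpa [sub_sub_sub_cancel_left] using this
    obtain ⟨B, hind⟩ := BlockTheoryInduced.inducedBlockDefined (Subgroup.normalizer (P' : Set H))
      hM hP'p Subgroup.le_normalizer hCN' le_rfl hbH
    rw [BlockFirstMain32.eq_induced_of_agree hM hP'p hind hc hag,
      BlockFirstMain32.eq_induced_of_agree hM hP'p hind hc' hag']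

/-- Fix a prime p and a maximal ideal M of the algebraic integers containing p. Let P be a p-subgroup of the finite group G and H a subgroup containing N_G(P). For every p-block B of G with defect group P there is exactly one p-block c of H with defect group P whose idempotent agrees with that of B, modulo the local ideal at M, at every element of C_G(P) (their Brauer-map images at P coincide); and every p-block c of H with defect group P arises in this way from exactly one such B. This is the Brauer correspondence over H. -/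
theorem result {G : Type*} [Group G] [Fintype G] (p : ℕ) [Fact p.Prime] (M : Ideal Cfsg.AlgInt) (hM : Cfsg.IsPModular p M) (P H : Subgroup G) (hP : IsPGroup p P) (hH : Subgroup.normalizer (P : Set G) ≤ H) : (∀ B : Set (Cfsg.IrrCharacter G), Cfsg.IsPBlock M B → Cfsg.IsDefectGroup p M B P → ∃! c : Set (Cfsg.IrrCharacter H), Cfsg.IsPBlock M c ∧ Cfsg.IsDefectGroup p M c (P.subgroupOf H) ∧ ∀ x : G, x ∈ Subgroup.centralizer (P : Set G) → Cfsg.MemLocalIdeal M (Cfsg.blockCoeff B x - Cfsg.subgroupBlockCoeff H c x)) ∧ (∀ c : Set (Cfsg.IrrCharacter H), Cfsg.IsPBlock M c → Cfsg.IsDefectGroup p M c (P.subgroupOf H) → ∃! B : Set (Cfsg.IrrCharacter G), Cfsg.IsPBlock M B ∧ Cfsg.IsDefectGroup p M B P ∧ ∀ x : G, x ∈ Subgroup.centralizer (P : Set G) → Cfsg.MemLocalIdeal M (Cfsg.blockCoeff B x - Cfsg.subgroupBlockCoeff H c x)) := by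
  haveI := Fintype.ofFinite (Subgroup.normalizer (P : Set G))
  obtain ⟨hto, hfrom, huniq⟩ := transfer hM hP hH
  have hCN : Subgroup.centralizer (P : Set G) ≤ Subgroup.normalizer (P : Set G) :=
    Subgroup.centralizer_le_normalizer _
  refine ⟨fun B hB hBD => ?_, fun c hc hcD => ?_⟩
  · obtain ⟨b, hb, hbD, hag⟩ := Cfsg.Agent.BlockFirstMain32.exists_agree hM hP hB hBD
    obtain ⟨c, hc, hcD, hcag⟩ := hto b hb hbD
    refine ⟨c, ⟨hc, hcD, fun x hx => ?_⟩, fun c' ⟨hc', hcD', hcag'⟩ => ?_⟩
    · have := Cfsg.Agent.BlockTheoryLocalRing.ideal_sub hM (hag x hx) (hcag x hx)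
      simpa using this
    · refine huniq c' c hc' hcD' hc hcD fun x hx => ?_
      have h1 : MemLocalIdeal M (blockCoeff B x - subgroupBlockCoeff H c x) := by
        have := Cfsg.Agent.BlockTheoryLocalRing.ideal_sub hM (hag x hx) (hcag x hx)
        simpa using this
      have := Cfsg.Agent.BlockTheoryLocalRing.ideal_sub hM h1 (hcag' x hx)
      simpa using this
  · obtain ⟨b, hb, hbD, hag⟩ := hfrom c hc hcD
    obtain ⟨B, hB, hBD, hBag⟩ := Cfsg.Agent.BlockFirstMain32.induce_agree hM hP hb hbD
    refine ⟨B, ⟨hB, hBD, fun x hx => ?_⟩, fun B' ⟨hB', hBD', hBag'⟩ => ?_⟩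
    · have := Cfsg.Agent.BlockTheoryLocalRing.ideal_sub hM (hBag x hx) (hag x hx)
      simpa using this
    · obtain ⟨B₀, hind⟩ := Cfsg.Agent.BlockTheoryInduced.inducedBlockDefined
        (Subgroup.normalizer (P : Set G)) hM hP Subgroup.le_normalizer hCN le_rfl hb
      have hag' : Cfsg.Agent.BlockFirstMain32.Agree M P (Subgroup.normalizer (P : Set G)) B' b := by
        intro x hx
        have := Cfsg.Agent.BlockTheoryLocalRing.ideal_add hM (hBag' x hx) (hag x hx)
        simpa using this
      rw [Cfsg.Agent.BlockFirstMain32.eq_induced_of_agree hM hP hind hB' hag',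
        Cfsg.Agent.BlockFirstMain32.eq_induced_of_agree hM hP hind hB hBag]

end Cfsg.Agent.S4670
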