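import Cfsg.Statements.S4672
import Cfsg.Agent.Lib.CoveredDefect78

set_option autoImplicit false
open Cfsg

namespace Cfsg.Agent.S4672

/-- Fix a prime p and a maximal ideal M of the algebraic integers containing p. Let N be a normal subgroup of the finite group G of p-power index and c a p-block of N stable under conjugation by G. Then the idempotent of c is a block idempotent of G: there is a p-block B of G whose idempotent coefficients agree with those of c on N and vanish off N; and for every defect group P of such a block B, G = NP and P ∩ N is a defect group of c. -/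
theorem result {G : Type*} [Group G] [Fintype G] (p : ℕ) [Fact p.Prime] (M : Ideal Cfsg.AlgInt) (hM : Cfsg.IsPModular p M) (N : Subgroup G) [N.Normal] (hN : ∃ k : ℕ, N.index = p ^ k) (c : Set (Cfsg.IrrCharacter N)) (hc : Cfsg.IsPBlock M c) (hst : ∀ x : G, Cfsg.StabilizesBlock N c x) : (∃ B : Set (Cfsg.IrrCharacter G), Cfsg.IsPBlock M B ∧ ∀ g : G, Cfsg.blockCoeff B g = Cfsg.subgroupBlockCoeff N c g) ∧ ∀ B : Set (Cfsg.IrrCharacter G), Cfsg.IsPBlock M B → (∀ g : G, Cfsg.blockCoeff B g = Cfsg.subgroupBlockCoeff N c g) → ∀ P : Subgroup G, Cfsg.IsDefectGroup p M B P → N ⊔ P = ⊤ ∧ Cfsg.IsDefectGroup p M c ((P ⊓ N).subgroupOf N) := by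
  classical
  haveI := Fintype.ofFinite G
  haveI := Fintype.ofFinite N
  have hst' : ∀ g : G, g ∈ CoveredDefect78.stab N c := fun g =>
    (CoveredDefect78.stabilizes_iff_mem_stab N hM hc g).1 (hst g)
  obtain ⟨B₀, hB₀, hidem₀, hcov₀⟩ := CoveredDefect78.exists_idem_eq hM hN hc hst'
  refine ⟨⟨B₀, hB₀, fun g => ?_⟩, fun B hB hcoef P hP => ?_⟩
  · rw [← BlockTheoryCentre.coeff_idem, hidem₀, CoveredDefect78.liftIdem_eq_subgroupBlockCoeff]
  · have hidem : BlockTheoryCentre.idem B = BlockTheoryCentre.idem B₀ := by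
      refine MonoidAlgebra.ext (Finsupp.ext fun g => ?_)
      rw [hidem₀, CoveredDefect78.liftIdem_eq_subgroupBlockCoeff, BlockTheoryCentre.coeff_idem,
        hcoef]
    obtain rfl := BrauerPairs81Base.idem_injective hidem
    exact ⟨CoveredDefect78.sup_defect_eq_top hM hN hc hst' hB hidem₀ hP,
      CoveredDefect78.inf_defect_of_stable hM hc hst' hB hcov₀ hP⟩


end Cfsg.Agent.S4672
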