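import Cfsg.Statements.S4673
import Cfsg.Agent.Lib.CoveredDefect78

set_option autoImplicit false
open Cfsg

namespace Cfsg.Agent.S4673

/-- Fix a prime p and a maximal ideal M of the algebraic integers containing p. Let N ≤ L be normal subgroups of the finite group G with L/N a p-group, let B be a p-block of G covering the p-block c of N (some member of B has a constituent in c on restriction to N), and suppose that N contains a defect group of B. Then the stabilizer T of c in G satisfies T ∩ L = N. -/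
theorem result {G : Type*} [Group G] [Fintype G] (p : ℕ) [Fact p.Prime] (M : Ideal Cfsg.AlgInt) (hM : Cfsg.IsPModular p M) (N L : Subgroup G) [N.Normal] [L.Normal] [Fintype N] (hNL : N ≤ L) (hLN : ∃ k : ℕ, (N.subgroupOf L).index = p ^ k) (B : Set (Cfsg.IrrCharacter G)) (hB : Cfsg.IsPBlock M B) (c : Set (Cfsg.IrrCharacter N)) (hc : Cfsg.IsPBlock M c) (hcov : (∃ χ ∈ B, ∃ θ ∈ c, Cfsg.classInner (fun n : N => (χ : G → ℂ) n) (θ : N → ℂ) ≠ 0)) (hD : ∃ D : Subgroup G, Cfsg.IsDefectGroup p M B D ∧ D ≤ N) (T : Subgroup G) (hT : ∀ x : G, x ∈ T ↔ Cfsg.StabilizesBlock N c x) : T ⊓ L = N := by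
  classical
  haveI : Fintype T := Fintype.ofFinite T
  have hTst : T = CoveredDefect78.stab N c := by
    ext x
    rw [hT, CoveredDefect78.stabilizes_iff_mem_stab N hM hc]
  subst hTst
  set T := CoveredDefect78.stab N c
  have hNT : N ≤ T := CoveredDefect78.le_stab N c
  have hS := CoveredDefect78.isStab_stab N hM hc
  refine le_antisymm ?_ (le_inf hNT hNL)
  -- the block of `T` over `c`
  obtain ⟨χ, hχ, hθ⟩ := hcov
  obtain ⟨ψ, ho, hm⟩ := FongReynolds78.exists_over hNT hθ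
  have hB' := BlockTheoryIdem.isPBlock_blockOf (M := M) ψ
  have hψ := BlockTheoryIdem.self_mem_blockOf hM ψ
  have he := (FongReynolds78.constituent_key hS hNT hM hc χ ho hm).1
  obtain ⟨A, hA, -, -, hiff⟩ := FongReynolds78.correspondence hS hNT hM hc hB' ⟨ψ, hψ, ho⟩
  obtain rfl : A = B := BlockTheoryIdem.block_eq_of_mem hM hA.2.1 hB ((hiff χ).2 ⟨ψ, hψ, he⟩) hχ
  have hT' : ∀ g : G, g ∈ T ↔ ∀ θ ∈ c, ∀ θ' : IrrCharacter N,
      (∀ n : N, (θ' : N → ℂ) n = (θ : N → ℂ)
        ⟨g * n * g⁻¹, (‹N.Normal›).conj_mem n n.2 g⟩) → θ' ∈ c :=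
    fun g => ⟨fun hg θ hθ θ' h =>
      (show θ' = BrauerBlocksCovering.conjIrr N θ g from Subtype.ext (funext h)) ▸ (hg θ).2 hθ,
      fun h => (hS g).2 fun θ hθ => h θ hθ _ fun _ => rfl⟩
  have hdef := (S4436.result p M hM N c hc T hT' hNT _ hB' ⟨ψ, hψ, ho⟩ _ hA).1
  -- the intermediate group
  let K1 : Subgroup T := L.subgroupOf T
  let N1 : Subgroup T := N.subgroupOf T
  haveI : Fintype K1 := Fintype.ofFinite K1
  let N2 : Subgroup K1 := N1.subgroupOf K1
  haveI : Fintype N2 := Fintype.ofFinite N2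
  haveI : N2.Normal := (inferInstance : (N.subgroupOf T).Normal).subgroupOf K1
  let ι : N ≃* N2 :=
    { toFun := fun n => ⟨⟨⟨n, hNT n.2⟩, hNL n.2⟩, n.2⟩
      invFun := fun m => ⟨((m : K1) : T), m.2⟩
      left_inv := fun _ => rfl
      right_inv := fun _ => rfl
      map_mul' := fun _ _ => rfl }
  set c2 := BrauerPairs81Base.pushSet ι c
  have hc2 : IsPBlock M c2 := BrauerPairs81Base.isPBlock_push ι hc
  have hst2 : ∀ k : K1, k ∈ CoveredDefect78.stab N2 c2 := by
    intro k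
    refine CoveredDefect78.mem_stab_of_forall N2 hM hc2 ?_
    rintro _ ⟨ξ, hξ, rfl⟩
    refine ⟨BrauerBlocksCovering.conjIrr N ξ ((k : T) : G), ((k : T).2 ξ).2 hξ,
      Subtype.ext (funext fun m => ?_)⟩
    rfl
  have hidx2 : ∃ j, N2.index = p ^ j := by
    obtain ⟨k, hk⟩ := hLN
    have h1 : N2.index * Nat.card N2 = Nat.card K1 := Subgroup.index_mul_card N2
    have h2 : Nat.card K1 ∣ Nat.card L :=
      Subgroup.card_dvd_of_injective
        ({ toFun := fun x => ⟨((x : T) : G), x.2⟩, map_one' := rfl, map_mul' := fun _ _ => rfl } :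
          K1 →* L)
        fun a b h => Subtype.ext (Subtype.ext (congrArg (fun z : L => (z : G)) h))
    have h3 : (N.subgroupOf L).index * Nat.card N = Nat.card L := by
      rw [← Nat.card_congr (Subgroup.subgroupOfEquivOfLe hNL).toEquiv]
      exact Subgroup.index_mul_card _
    rw [← h1, ← h3, hk, ← Nat.card_congr ι.toEquiv] at h2
    obtain ⟨j, -, hj⟩ :=
      (Nat.dvd_prime_pow hM.1).1 (Nat.dvd_of_mul_dvd_mul_right Nat.card_pos h2)
    exact ⟨j, hj⟩
  obtain ⟨d, hd, hdidem, -⟩ := CoveredDefect78.exists_idem_eq hM hidx2 hc2 hst2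
  have hbT : FongReynolds78.bT hNT c = BlockTheoryBrauer.incl K1 (BlockTheoryCentre.idem d) := by
    refine MonoidAlgebra.ext (Finsupp.ext fun x => ?_)
    by_cases hx : (x : G) ∈ N
    · have hxK : x ∈ K1 := Subgroup.mem_subgroupOf.2 (hNL hx)
      conv_rhs => rw [show x = ((⟨x, hxK⟩ : K1) : T) from rfl]
      rw [BlockTheoryBrauer.coeff_incl_coe, hdidem, FongReynolds78.coeff_bT_of_mem hNT hx,
        CoveredDefect78.liftIdem_eq_subgroupBlockCoeff]
      rw [subgroupBlockCoeff, dif_pos (show (⟨x, hxK⟩ : K1) ∈ N2 from hx),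
        ← BrauerPairs81Base.blockCoeff_push ι c ⟨x, hx⟩]
      rfl
    · rw [FongReynolds78.coeff_bT_of_notMem hNT hx]
      by_cases hxK : x ∈ K1
      · conv_rhs => rw [show x = ((⟨x, hxK⟩ : K1) : T) from rfl]
        rw [BlockTheoryBrauer.coeff_incl_coe, hdidem,
          CoveredDefect78.liftIdem_eq_subgroupBlockCoeff, subgroupBlockCoeff,
          dif_neg (show (⟨x, hxK⟩ : K1) ∉ N2 from hx)]
      · rw [BlockTheoryBrauer.coeff_incl_of_notMem K1 _ hxK]
  -- the block of `T` covers `d`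
  obtain ⟨φ, hφ⟩ := CoveredDefect78.exists_covered K1 ψ
  have hφd : φ ∈ d := by
    have h := BlockTheoryNormal.omega_eq_omega_res (N := K1) ψ φ hφ
      (FongReynolds78.isCen_bT hS hNT) (fun x hx => by
        rw [hbT, BlockTheoryBrauer.coeff_incl_of_notMem K1 _ hx])
    rw [FongReynolds78.omega_bT hS hNT, if_pos ho, hbT,
      show BlockTheoryBrauer.res K1 (BlockTheoryBrauer.incl K1 (BlockTheoryCentre.idem d)) =
        BlockTheoryCentre.idem d from MonoidAlgebra.ext (Finsupp.ext fun n => by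
          rw [BlockTheoryBrauer.coeff_res, BlockTheoryBrauer.coeff_incl_coe]),
      BlockTheoryCentre.omega_idem] at h
    by_contra hn
    rw [if_neg hn] at h
    exact one_ne_zero h
  obtain ⟨R, hR⟩ := BlockTheoryDefect.exists_defectGroup (p := p) hM hd
  have hR' : (R.map K1.subtype).subgroupOf K1 = R :=
    Subgroup.comap_map_eq_self_of_injective K1.subtype_injective R
  obtain ⟨P, hP, hPR⟩ := BlockTheoryMeet.exists_defectGroup_inf_eq K1 hM hd
    (Subgroup.map_subtype_le R) (hR'.symm ▸ hR) hB' ⟨ψ, hψ, φ, hφd, hφ⟩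
  have hPN : P.map T.subtype ≤ N := by
    obtain ⟨D, hD, hDN⟩ := hD
    obtain ⟨x, hx⟩ := BlockTheoryDefect.defectGroup_conj hM hA.2.1 hD (hdef P hP)
    rw [← hx]
    rintro _ ⟨u, hu, rfl⟩
    exact (‹N.Normal›).conj_mem u (hDN hu) x
  have hsup := CoveredDefect78.sup_defect_eq_top hM hidx2 hc2 hst2 hd hdidem hR
  have hR2 : R ≤ N2 := fun u hu => by
    have h1 : (u : T) ∈ P := by
      have : (u : T) ∈ R.map K1.subtype := ⟨u, hu, rfl⟩
      exact (hPR ▸ this : (u : T) ∈ P ⊓ K1).1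
    exact hPN ⟨(u : T), h1, rfl⟩
  rintro x ⟨hxT, hxL⟩
  have : (⟨⟨x, hxT⟩, hxL⟩ : K1) ∈ N2 ⊔ R := hsup ▸ Subgroup.mem_top _
  rw [sup_eq_left.2 hR2] at this
  exact this

end Cfsg.Agent.S4673
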