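import Cfsg.Statements.S4679
import Cfsg.Agent.Lib.BrauerPairs81Fusion
-- import your own Cfsg.Agent.* helpers here

set_option autoImplicit false
open Cfsg

namespace Cfsg.Agent.S4679

open BrauerPairs81Base BrauerPairs81Pairs BrauerPairs81Local BrauerPairs81Fusion

/-- Fix a prime p and a maximal ideal M of the algebraic integers containing p, a p-block B of the finite group G with maximal Brauer pair (P, e), its fusion system F on P, a Brauer pair (Q, f) ≤ (P, e), and let T be the stabilizer of f in N_G(Q). Then Q is fully normalized in F if and only if N_P(Q) is a defect group of the block of T whose idempotent is that of f. -/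
theorem result {G : Type*} [Group G] [Fintype G] (p : ℕ) [Fact p.Prime] (M : Ideal Cfsg.AlgInt) (hM : Cfsg.IsPModular p M) (B : Set (Cfsg.IrrCharacter G)) (P : Subgroup G) (e : Set (Cfsg.IrrCharacter (Subgroup.centralizer (P : Set G)))) (hmax : Cfsg.IsMaximalBrauerPair p M B P e) (F : Cfsg.FusionSystem P) (hF : Cfsg.IsBlockFusionSystemOn p M B P e F) (Q : Subgroup G) (f : Set (Cfsg.IrrCharacter (Subgroup.centralizer (Q : Set G)))) (hQP : Q ≤ P) (hf : Cfsg.IsPBlock M f) (hle : Cfsg.SubpairLE p M Q f P e) (T : Subgroup G) (hT : ∀ y : G, y ∈ T ↔ y ∈ Subgroup.normalizer (Q : Set G) ∧ Cfsg.StabilizesBlock (Subgroup.centralizer (Q : Set G)) f y) : F.IsFullyNormalized Q ↔ ∃ F' : Set (Cfsg.IrrCharacter T), Cfsg.IsPBlock M F' ∧ (∀ t : T, Cfsg.blockCoeff F' t = Cfsg.subgroupBlockCoeff (Subgroup.centralizer (Q : Set G)) f (t : G)) ∧ Cfsg.IsDefectGroup p M F' ((P ⊓ Subgroup.normalizer (Q : Set G)).subgroupOf T) := by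
  have htop := hF.1.1.1
  have hTeq : T = stab ⟨Q, f⟩ := by
    ext y
    rw [hT, mem_stab, cP_eq_self_iff_stabilizes]
  subst hTeq
  have hinf : P ⊓ stab ⟨Q, f⟩ = P ⊓ Subgroup.normalizer (Q : Set G) :=
    inf_stab_eq hM htop (a := ⟨Q, f⟩) hle
  have hiff := fun {F'} (h1 : IsPBlock M F') h2 =>
    fullyNormalized_iff (a := ⟨Q, f⟩) (F' := F') hM hF hle h1 h2
  have hsub : (P ⊓ Subgroup.normalizer (Q : Set G)).subgroupOf (stab ⟨Q, f⟩) =
      (P ⊓ stab ⟨Q, f⟩).subgroupOf (stab ⟨Q, f⟩) := by rw [hinf]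
  rw [hsub]
  constructor
  · intro hn
    obtain ⟨F', hF', hFc⟩ := stab_block (a := ⟨Q, f⟩) hM (isBrauerPair_of_subpairLE hle htop)
    exact ⟨F', hF', hFc, (hiff hF' hFc).mp hn⟩
  · rintro ⟨F', hF', hFc, hD⟩
    exact (hiff hF' hFc).mpr hD

end Cfsg.Agent.S4679
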