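import Cfsg.Statements.S4682
import Cfsg.Agent.Lib.BrauerPairs81Nilpotent
-- import your own Cfsg.Agent.* helpers here

set_option autoImplicit false
open Cfsg

namespace Cfsg.Agent.S4682

open BrauerPairs81Base BrauerPairs81Pairs BrauerPairs81Conj BrauerPairs81Local BrauerPairs81Fusion
  BrauerPairs81Nilpotent

/-- Fix a prime p and a maximal ideal M of the algebraic integers containing p, a p-block B of the finite group G with maximal Brauer pair (P, e), P abelian, and a Brauer pair (Q, f) ≤ (P, e). Let T_Q be the stabilizer of f in N_G(Q) and T_P the stabilizer of e in N_G(P). Then every element of T_Q is a product of an element of T_P and an element of C_G(Q); and the index of C_G(Q) in T_Q equals the index of T_P ∩ C_G(Q) in T_P ∩ N_G(Q). -/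
theorem result {G : Type*} [Group G] [Fintype G] (p : ℕ) [Fact p.Prime] (M : Ideal Cfsg.AlgInt) (hM : Cfsg.IsPModular p M) (B : Set (Cfsg.IrrCharacter G)) (P : Subgroup G) (e : Set (Cfsg.IrrCharacter (Subgroup.centralizer (P : Set G)))) (hmax : Cfsg.IsMaximalBrauerPair p M B P e) (hab : ∀ x ∈ P, ∀ y ∈ P, x * y = y * x) (Q : Subgroup G) (f : Set (Cfsg.IrrCharacter (Subgroup.centralizer (Q : Set G)))) (hQP : Q ≤ P) (hf : Cfsg.IsPBlock M f) (hle : Cfsg.SubpairLE p M Q f P e) (TQ : Subgroup G) (hTQ : ∀ y : G, y ∈ TQ ↔ y ∈ Subgroup.normalizer (Q : Set G) ∧ Cfsg.StabilizesBlock (Subgroup.centralizer (Q : Set G)) f y) (TP : Subgroup G) (hTP : ∀ y : G, y ∈ TP ↔ y ∈ Subgroup.normalizer (P : Set G) ∧ Cfsg.StabilizesBlock (Subgroup.centralizer (P : Set G)) e y) : (∀ x ∈ TQ, ∃ y ∈ TP, ∃ c ∈ Subgroup.centralizer (Q : Set G), x = y * c) ∧ ((Subgroup.centralizer (Q : Set G)).subgroupOf TQ).index = ((TP ⊓ Subgroup.centralizer (Q : Set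 G)).subgroupOf (TP ⊓ Subgroup.normalizer (Q : Set G))).index := by
  have hT1 : TQ = stab ⟨Q, f⟩ := by
    ext y; rw [hTQ, mem_stab, cP_eq_self_iff_stabilizes]
  have hT2 : TP = stab ⟨P, e⟩ := by
    ext y; rw [hTP, mem_stab, cP_eq_self_iff_stabilizes]
  subst hT1 hT2
  have hmain : ∀ x ∈ stab ⟨Q, f⟩, ∃ y ∈ stab ⟨P, e⟩, ∃ c ∈ Cen Q, x = y * c := fun x hx =>
    stab_le_of_abelian hM hmax hab (a := ⟨Q, f⟩) hle hx
  refine ⟨hmain, ?_⟩
  set K := stab (⟨P, e⟩ : BrauerPairIdx G) ⊓ Subgroup.normalizer (Q : Set G) with hK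
  have hKT : K ≤ stab ⟨Q, f⟩ := fun u hu => cP_eq_of_top hM hmax (a := ⟨Q, f⟩) hle hu.1 hu.2
  set C' := (Cen Q).subgroupOf (stab ⟨Q, f⟩) with hC'
  haveI : C'.Normal := Subgroup.normal_subgroupOf_of_le_normalizer
    ((stab_le_normalizer _).trans normalizer_le_normalizer_cen)
  have htop : (Subgroup.inclusion hKT).range ⊔ C' = ⊤ := by
    refine eq_top_iff.mpr fun x _ => ?_
    obtain ⟨y, hy, c, hc, hxyc⟩ := hmain x x.2
    have hc' : c ∈ stab ⟨Q, f⟩ := cen_le_stab ⟨Q, f⟩ hc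
    have hy' : y ∈ stab ⟨Q, f⟩ := by
      rw [show y = (x : G) * c⁻¹ by rw [hxyc, mul_inv_cancel_right]]
      exact mul_mem x.2 (inv_mem hc')
    rw [show x = ⟨y, hy'⟩ * ⟨c, hc'⟩ from Subtype.ext hxyc]
    exact mul_mem (Subgroup.mem_sup_left ⟨⟨y, hy, stab_le_normalizer ⟨Q, f⟩ hy'⟩, rfl⟩)
      (Subgroup.mem_sup_right (Subgroup.mem_subgroupOf.mpr hc))
  have h1 : ((stab (⟨P, e⟩ : BrauerPairIdx G) ⊓ Cen Q).subgroupOf K) =
      C'.comap (Subgroup.inclusion hKT) := by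
    ext u
    simp only [Subgroup.mem_subgroupOf, Subgroup.mem_inf, Subgroup.mem_comap, hC',
      Subgroup.coe_inclusion]
    exact ⟨fun h => h.2, fun h => ⟨u.2.1, h⟩⟩
  rw [h1, Subgroup.index_comap, ← Subgroup.relIndex_sup_right, htop, Subgroup.relIndex_top_right]

end Cfsg.Agent.S4682
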