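import Cfsg.Statements.S4683
import Cfsg.Agent.Lib.BlockContribSection
import Cfsg.Agent.S4667

set_option autoImplicit false
open Cfsg

namespace Cfsg.Agent.S4683

theorem main {G : Type*} [Group G] [Fintype G] {p : ℕ} [Fact p.Prime] {M : Ideal Cfsg.AlgInt}
    (hM : Cfsg.IsPModular p M) {u : G} (hu : ∃ k, orderOf u = p ^ k) {H : Subgroup G} [Fintype H]
    (hH : ∀ g, g ∈ H ↔ Commute u g) {B : Set (Cfsg.IrrCharacter G)} {e : Set (Cfsg.IrrCharacter H)}
    (hind : Cfsg.IsInducedBlock M H e B) :
    ∑ᶠ χ ∈ B, ∑ᶠ s : H, Cfsg.pRegularPart p (Cfsg.blockPart e (fun c : H => (χ : G → ℂ) (u * c))) s *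
      Cfsg.blockPart e (fun c : H => (χ : G → ℂ) (u⁻¹ * c)) s⁻¹ =
      (Nat.card H : ℂ) * (Cfsg.blockRank p e : ℂ) := by
  classical
  have hA' : ∀ (χ : Cfsg.IrrCharacter G) (s : H),
      BlockContribSection.part u⁻¹ e (χ : G → ℂ) s⁻¹ =
        (starRingEnd ℂ) (BlockContribSection.part u e (χ : G → ℂ) s) := by
    intro χ s
    simp only [BlockContribSection.part, map_mul, map_inv₀, map_natCast, map_sum]
    congr 1
    refine Fintype.sum_equiv (Equiv.inv H) _ _ fun c => ?_
    simp only [Equiv.inv_apply]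
    rw [← BlockTheoryCentre.irr_inv, mul_inv_rev, Subgroup.coe_inv, inv_inv, ((hH _).1 c.2).inv_left.eq]
    congr 1
    simp only [BlockContribSection.kern, map_sum]
    refine Finset.sum_congr rfl fun ψ _ => ?_
    split_ifs
    · rw [map_mul, ← BlockTheoryCentre.irr_inv ψ s, Complex.conj_conj, ← BlockTheoryCentre.irr_inv ψ c, mul_comm ((ψ : H → ℂ) s⁻¹)]
    · rw [map_zero]
  have h4667 := Cfsg.Agent.S4667.result p M hM e hind.1
  rw [h4667]
  rw [BlockTheoryIdem.finsum_mem_eq_sum,
    Finset.sum_congr rfl fun x _ => BlockTheoryIdem.finsum_mem_eq_sum e _]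
  simp only [finsum_eq_sum_of_fintype]
  calc _ = ∑ χ : Cfsg.IrrCharacter G, ∑ s : H, (if χ ∈ B then
        Cfsg.pRegularPart p (BlockContribSection.part u e (χ : G → ℂ)) s *
          (starRingEnd ℂ) (BlockContribSection.part u e (χ : G → ℂ) s) else 0) := by
        refine Finset.sum_congr rfl fun χ _ => ?_
        split_ifs
        · refine Finset.sum_congr rfl fun s _ => ?_
          rw [← hA', BlockContribSection.blockPart_eq_part (u := u⁻¹)]
          simp only [Cfsg.pRegularPart, BlockContribSection.blockPart_eq_part (u := u)]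
        · simp
    _ = _ := by
        rw [Finset.sum_comm]
        refine Finset.sum_congr rfl fun s _ => ?_
        by_cases hs : p ∣ orderOf s
        · refine Eq.trans (Finset.sum_eq_zero fun χ _ => ?_) (Finset.sum_eq_zero fun ψ _ => ?_).symm <;>
            simp [Cfsg.pRegularPart, Cfsg.IsPRegular, hs]
        · have h := BlockContribSection.sum_part_mul_induced hH hM hu hind hs hs
          simp only [Cfsg.pRegularPart, Cfsg.IsPRegular, hs, not_false_eq_true, if_true]
          refine h.trans ?_
          simp only [BlockContribSection.kern]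
          refine Finset.sum_congr rfl fun ψ _ => ?_
          rw [BlockTheoryCentre.irr_inv]

/-- Fix a prime p and a maximal ideal M of the algebraic integers containing p, a p-block B of the finite group G, a p-element u and a p-block e of C = C_G(u) such that (⟨u⟩, e) is a Brauer pair of B (a Brauer element of B). For χ ∈ B let χ_u be the e-part of the class function c ↦ χ(u c) on C and χ_u' the e-part of c ↦ χ(u⁻¹ c). Then the sum over χ ∈ B and over the p-regular elements s of C of χ_u(s)·χ_u'(s⁻¹) equals the order of C times the p-regular rank of e (the number of irreducible Brauer characters of e). -/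
theorem result {G : Type*} [Group G] [Fintype G] (p : ℕ) [Fact p.Prime] (M : Ideal Cfsg.AlgInt) (hM : Cfsg.IsPModular p M) (B : Set (Cfsg.IrrCharacter G)) (u : G) (hu : ∃ k : ℕ, orderOf u = p ^ k) (e : Set (Cfsg.IrrCharacter (Subgroup.centralizer (Subgroup.zpowers u : Set G)))) (hBe : Cfsg.IsBrauerPairOf p M B (Subgroup.zpowers u) e) : ∑ᶠ χ ∈ B, ∑ᶠ s : Subgroup.centralizer (Subgroup.zpowers u : Set G), Cfsg.pRegularPart p (Cfsg.blockPart e (fun c : Subgroup.centralizer (Subgroup.zpowers u : Set G) => (χ : G → ℂ) (u * c))) s * Cfsg.blockPart e (fun c : Subgroup.centralizer (Subgroup.zpowers u : Set G) => (χ : G → ℂ) (u⁻¹ * c)) s⁻¹ = (Nat.card (Subgroup.centralizer (Subgroup.zpowers u : Set G)) : ℂ) * (Cfsg.blockRank p e : ℂ) := by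
  classical
  let H := Subgroup.centralizer (Subgroup.zpowers u : Set G)
  have : Fintype H := Fintype.ofFinite H
  have hH : ∀ g, g ∈ H ↔ Commute u g := by
    intro g
    rw [show H = Subgroup.centralizer (Subgroup.zpowers u : Set G) from rfl, Subgroup.zpowers_eq_closure, Subgroup.centralizer_closure, Subgroup.mem_centralizer_singleton_iff]
    exact ⟨fun h => h.symm, fun h => h.eq.symm⟩
  obtain ⟨B', hB'⟩ := BlockContribSection.exists_induced hH hM hu hBe.1.2
  have hBB : B' = B := by
    obtain ⟨ξ, hξ⟩ := BlockTheoryIdem.block_nonempty hM hB'.1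
    obtain ⟨χ, hχ⟩ := BlockTheoryIdem.block_nonempty hM hB'.2.1
    have h1 := BlockTheoryInduced.inducedBlock_congr H hM hB' hξ hχ
      (BlockTheoryCentre.isCen_idem B) (BlockTheoryIdem.isInt_idem hM hBe.2.1)
    have h2 := hBe.2.2 ξ hξ
    rw [BlockPrincipal81.brauerOmega_eq] at h2
    have h3 : BlockTheoryBrauer.res H (BlockTheoryCentre.idem B) =
        BlockTheoryCentre.ofFun fun x : H => Cfsg.blockCoeff B (x : G) := by
      refine MonoidAlgebra.ext ?_
      ext x
      simp [BlockTheoryBrauer.coeff_res, BlockTheoryCentre.coeff_idem]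
    rw [h3, BlockTheoryCentre.omega_idem] at h1
    by_cases hm : χ ∈ B
    · exact BlockTheoryIdem.block_eq_of_mem hM hB'.2.1 hBe.2.1 hχ hm
    · exfalso
      rw [if_neg hm, sub_zero] at h1
      refine BlockTheoryLocalRing.one_not_ideal hM ?_
      have h4 := BlockTheoryLocalRing.ideal_sub hM h1 h2
      have h5 : ∀ a b : ℂ, a = b → Cfsg.MemLocalIdeal M (a - (b - 1)) → Cfsg.MemLocalIdeal M 1 :=
        fun a b h h' => by subst h; simpa using h'
      exact h5 _ _ (by congr!) h4
  subst hBB
  exact main hM hu hH hB'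

end Cfsg.Agent.S4683
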