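import Cfsg.Statements.S4685
import Cfsg.Agent.Lib.Star80Twist

set_option autoImplicit false
open Cfsg
open Cfsg.Agent

namespace Cfsg.Agent.S4685

/-- Fix a prime p and a maximal ideal M of the algebraic integers containing p, a p-block B of the finite group G with maximal Brauer pair (P, e) and fusion system F on P. Then for every h the number of irreducible characters of height h in B is divisible by the index of Z(P) ∩ foc(F) in Z(P), where foc(F) is the focal subgroup of F. -/
theorem result {G : Type*} [Group G] [Fintype G] (p : ℕ) [Fact p.Prime] (M : Ideal Cfsg.AlgInt) (hM : Cfsg.IsPModular p M) (B : Set (Cfsg.IrrCharacter G)) (P : Subgroup G) (e : Set (Cfsg.IrrCharacter (Subgroup.centralizer (P : Set G)))) (hmax : Cfsg.IsMaximalBrauerPair p M B P e) (F : Cfsg.FusionSystem P) (hF : Cfsg.IsBlockFusionSystemOn p M B P e F) (h : ℕ) : ((P ⊓ Subgroup.centralizer (P : Set G) ⊓ F.focalSubgroup).subgroupOf (P ⊓ Subgroup.centralizer (P : Set G))).index ∣ Nat.card {χ : Cfsg.IrrCharacter G // χ ∈ B ∧ Cfsg.blockHeight p B (χ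 : G → ℂ) = h} := by
  refine Star80Twist.count_dvd hM hF h _ inf_le_left fun χ hχ _ u hu b hle => ?_
  have hP : IsPGroup p P := hmax.1.1.1
  obtain ⟨huP, huC⟩ := Subgroup.mem_inf.mp hu
  have hb := BrauerPairs81Pairs.isBrauerPairOf_down hM hle hmax.1
  have hle' : P ≤ Subgroup.centralizer (Subgroup.zpowers u : Set G) := fun x hx =>
    Star80Pairs.mem_cen_zp.mpr (Subgroup.mem_centralizer_iff.mp huC x hx).symm
  have hfc : F.IsFullyCentralized (Subgroup.zpowers u) := by
    refine ⟨Subgroup.zpowers_le.mpr huP, fun Q _ => ?_⟩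
    show Nat.card (P ⊓ Subgroup.centralizer (Q : Set G) : Subgroup G) ≤
      Nat.card (P ⊓ Subgroup.centralizer (Subgroup.zpowers u : Set G) : Subgroup G)
    rw [inf_eq_left.mpr hle']
    exact Subgroup.card_le_of_le inf_le_left
  have hD := (BrauerPairs81Fusion.fullyCentralized_iff hM hF hle).mp hfc
  have hd : blockDefect p b = blockDefect p B := by
    have h1 := BlockContribBounds.card_defectGroup hM hb.1.2 hD
    rw [Nat.card_congr (Subgroup.subgroupOfEquivOfLe inf_le_right).toEquiv, inf_eq_left.mpr hle',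
      BlockContribBounds.card_defectGroup hM hmax.1.2.1
        (BrauerPairs81Max.isDefectGroup_of_maximal hM hmax)] at h1
    exact (Nat.pow_right_injective (Fact.out : p.Prime).two_le h1).symm
  obtain ⟨χ0, hχ0, h0⟩ := BlockContrib.exists_height_zero hM hmax.1.2.1
  exact Star80Inner.exists_part_ne_zero_of_mm
    (Star80Inner.mm_major_ne_zero hM (Star80Claim.exists_pow_of_mem hP huP)
      (fun _ => Star80Pairs.mem_cen_zp) (BlockCyclicRank81.induced_of_pairOf hM hb) hd hχ hχ0 h0)

end Cfsg.Agent.S4685
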