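import Cfsg.Statements.S4688
import Cfsg.Agent.Lib.BrauerPairs81Nilpotent
-- import your own Cfsg.Agent.* helpers here

set_option autoImplicit false
open Cfsg

namespace Cfsg.Agent.S4688

open FusionSystem BrauerPairs81Base BrauerPairs81Pairs BrauerPairs81Conj BrauerPairs81Local
  BrauerPairs81Fusion BrauerPairs81Nilpotent

/-- Fix a prime p and a maximal ideal M of the algebraic integers containing p, and a nilpotent p-block B of the finite group G with maximal Brauer pair (P, e). Then for every Brauer pair (Q, f) of B, f is a nilpotent block of C_G(Q); and if moreover (Q, f) ≤ (P, e), then C_P(Q) is a defect group of f as a block of C_G(Q). -/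
theorem result {G : Type*} [Group G] [Fintype G] (p : ℕ) [Fact p.Prime] (M : Ideal Cfsg.AlgInt) (hM : Cfsg.IsPModular p M) (B : Set (Cfsg.IrrCharacter G)) (P : Subgroup G) (e : Set (Cfsg.IrrCharacter (Subgroup.centralizer (P : Set G)))) (hmax : Cfsg.IsMaximalBrauerPair p M B P e) (hnil : Cfsg.IsNilpotentBlock p M B) (Q : Subgroup G) (f : Set (Cfsg.IrrCharacter (Subgroup.centralizer (Q : Set G)))) (hQf : Cfsg.IsBrauerPairOf p M B Q f) : Cfsg.IsNilpotentBlock p M f ∧ (Cfsg.SubpairLE p M Q f P e → Cfsg.IsDefectGroup p M f ((P ⊓ Subgroup.centralizer (Q : Set G)).subgroupOf (Subgroup.centralizer (Q : Set G)))) := by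
  refine ⟨nilpotent_cen hM hnil hQf, fun hle => ?_⟩
  set F := blockSys (top := ⟨P, e⟩) hM hmax.1.1
  have hF := isBlockFusionSystemOn_blockSys hM hmax
  have hin := (nilpotent_iff_inner hM hF).mp hnil
  refine (fullyCentralized_iff hM hF hle).mp ⟨subgroup_le_of_subpairLE hle, fun R hR => ?_⟩
  obtain ⟨φ, hφ, rfl⟩ := hR
  obtain ⟨-, u, hu, hux⟩ : φ ∈ (innerFusionSystem P).Hom Q := hin Q ▸ hφ
  rw [range_of_conj hux]
  have h1 : cjS u (P ⊓ Cen Q) = P ⊓ Cen (cjS u Q) := by
    rw [cjS, Subgroup.map_inf _ _ _ (MulAut.conj u).injective]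
    congr 1
    · exact cjS_of_normalizer (Subgroup.le_normalizer hu)
    · exact (cen_cjS u Q).symm
  show Nat.card (P ⊓ Cen (cjS u Q) : Subgroup G) ≤ Nat.card (P ⊓ Cen Q : Subgroup G)
  rw [← h1, card_cjS]

end Cfsg.Agent.S4688
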