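import Cfsg.Statements.S4689
import Cfsg.Agent.Lib.Star80Nilpotent

set_option autoImplicit false
open Cfsg
open Cfsg.Agent

namespace Cfsg.Agent.S4689

/-- Fix a prime p and a maximal ideal M of the algebraic integers containing p, and a nilpotent p-block B of the finite group G. Then B has p-regular rank one (a single irreducible Brauer character), and some χ₀ ∈ B restricts to that Brauer character: every χ ∈ B agrees on the p-regular elements with a natural-number multiple of χ₀. -/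
theorem result {G : Type*} [Group G] [Fintype G] (p : ℕ) [Fact p.Prime] (M : Ideal Cfsg.AlgInt) (hM : Cfsg.IsPModular p M) (B : Set (Cfsg.IrrCharacter G)) (hnil : Cfsg.IsNilpotentBlock p M B) : Cfsg.blockRank p B = 1 ∧ ∃ χ₀ ∈ B, ∀ χ ∈ B, ∃ d : ℕ, ∀ x : G, Cfsg.pRegularPart p (χ : G → ℂ) x = (d : ℂ) * Cfsg.pRegularPart p (χ₀ : G → ℂ) x := by
  obtain ⟨P, hP⟩ := BlockTheoryDefect.exists_defectGroup hM hnil.1
  obtain ⟨e, hmax⟩ := Star80Nilpotent.exists_maximal hM hnil.1 hP
  obtain ⟨χ0, hχ0, h0⟩ := BlockContrib.exists_height_zero hM hnil.1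
  obtain ⟨Φ, hΦ⟩ := Star80Nilpotent.exists_equiv hM hmax hnil hχ0 h0
  have key : ∀ χ ∈ B, ∃ d : ℕ, ∀ x : G, pRegularPart p (χ : G → ℂ) x =
      (d : ℂ) * pRegularPart p (χ0 : G → ℂ) x := by
    intro χ hχ
    refine ⟨charDegree ((Φ.symm ⟨χ, hχ⟩ : IrrCharacter P) : P → ℂ), fun x => ?_⟩
    have h := hΦ (Φ.symm ⟨χ, hχ⟩)
    rw [Equiv.apply_symm_apply] at h
    by_cases hx : IsPRegular p x
    · rw [pRegularPart, pRegularPart, if_pos hx, if_pos hx]
      show (χ : G → ℂ) x = _
      rw [show (χ : G → ℂ) = _ from h, Star80Nilpotent.starP_regular hM hmax hχ0 _ hx]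
    · rw [pRegularPart, pRegularPart, if_neg hx, if_neg hx, mul_zero]
  refine ⟨?_, χ0, hχ0, key⟩
  have hne : pRegularPart p (χ0 : G → ℂ) ≠ 0 := fun h => by
    have h1 := congrFun h 1
    rw [pRegularPart, if_pos (show IsPRegular p (1 : G) by
      simpa [IsPRegular] using (Fact.out : p.Prime).ne_one)] at h1
    exact BlockTheoryCentre.irr_one_ne_zero χ0 h1
  have hspan : Submodule.span ℂ ((fun χ : IrrCharacter G => pRegularPart p (χ : G → ℂ)) '' B) =
      Submodule.span ℂ {pRegularPart p (χ0 : G → ℂ)} := by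
    refine le_antisymm (Submodule.span_le.mpr ?_) (Submodule.span_mono ?_)
    · rintro _ ⟨χ, hχ, rfl⟩
      obtain ⟨d, hd⟩ := key χ hχ
      exact Submodule.mem_span_singleton.mpr ⟨(d : ℂ), funext fun x => (hd x).symm⟩
    · exact Set.singleton_subset_iff.mpr ⟨χ0, hχ0, rfl⟩
  rw [blockRank, hspan, finrank_span_singleton hne]

end Cfsg.Agent.S4689
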