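import Cfsg.Statements.S4691
import Cfsg.Agent.Lib.BrauerPairs81Principal
import Cfsg.Agent.Lib.TransferAlperin
-- import your own Cfsg.Agent.* helpers here

set_option autoImplicit false
open Cfsg

namespace Cfsg.Agent.S4691

open BrauerPairs81Base BrauerPairs81Pairs BrauerPairs81Local BrauerPairs81Principal

/-- Fix a prime p and a maximal ideal M of the algebraic integers containing p. A finite group G has a normal p-complement if and only if its principal p-block is nilpotent. -/
theorem result {G : Type*} [Group G] [Fintype G] (p : ℕ) [Fact p.Prime] (M : Ideal Cfsg.AlgInt) (hM : Cfsg.IsPModular p M) : Cfsg.HasNormalPComplement p G ↔ Cfsg.IsNilpotentBlock p M (Cfsg.principalBlock M G) := by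
  have hp : p.Prime := Fact.out
  constructor
  · intro h
    refine ⟨BlockPrincipal81.isPBlock_principal, fun Q f hQf x hx _ hreg => ?_⟩
    obtain ⟨S, hS⟩ := hQf.1.1.exists_le_sylow
    exact (TransferAlperin.hasNormalPComplement_iff_centralizer S).mp h Q hS x hx
      ((hp.coprime_iff_not_dvd.mpr hreg).symm)
  · intro hnil
    refine (TransferAlperin.hasNormalPComplement_iff_centralizer (default : Sylow p G)).mpr
      fun Q hQ g hg hc => ?_
    exact hnil.2 Q _ (BlockPrincipal81.isBrauerPairOf_principal hM ((default : Sylow p G).isPGroup'.to_le hQ))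
      g hg (BlockPrincipal81.stabilizes_principal (normalizer_le_normalizer_cen hg))
      (fun h => hp.ne_one (Nat.eq_one_of_dvd_coprimes hc h dvd_rfl))

end Cfsg.Agent.S4691
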