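import Cfsg.Statements.S4693
import Cfsg.Agent.Lib.BrauerPairs81Fusion
-- import your own Cfsg.Agent.* helpers here

set_option autoImplicit false
open Cfsg

namespace Cfsg.Agent.S4693

open BrauerPairs81Base BrauerPairs81Pairs BrauerPairs81Conj BrauerPairs81Local BrauerPairs81Fusion
  BlockTheoryBrauer BlockTheoryDefect BlockTheoryCentre BlockTheoryIdem BlockTheoryLocalRing
attribute [local instance] Classical.propDecidable

variable {G : Type*} [Group G] [Fintype G] {p : ℕ} [Fact p.Prime] {M : Ideal AlgInt}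

theorem idem_eq (hM : IsPModular p M) {B : Set (IrrCharacter G)} {Q : Subgroup G} [Q.Normal]
    {f : Set (IrrCharacter (Cen Q))} (hQf : IsBrauerPairOf p M B Q f)
    (hinv : InvBy ⊤ (eb (Cen Q) f)) : idem B = eb (Cen Q) f := by
  have hf : IsPBlock M f := hQf.1.2
  have hcen : IsCen (eb (Cen Q) f) := fun g h => hinv h (Subgroup.mem_top h) g
  obtain ⟨A, hA⟩ := BrauerPairs81Stab.exists_idem_eq hcen (eb_sq _ f)
  have hAi : IsInt M (idem A) := hA ▸ isInt_eb hM hf
  have hi : ∀ B' : Set (IrrCharacter G), IsPBlock M B' → ∀ χ ∈ B', χ ∈ A → B' ⊆ A := by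
    intro B' hB' χ hχ hχA
    rw [eq_blockOf_of_mem hM hB' hχ]
    exact blockOf_subset_of_isInt hM hAi hχA
  have hQp := hQf.1.1
  have h0 : ∀ (B' : Set (IrrCharacter G)) (g : Set (IrrCharacter (Cen Q))),
      IsBrauerPairOf p M B' Q g → IsPBlock M g → ∀ η ∈ g,
      MemLocalIdeal M (phi Q (idem (B' ∩ A)) η - if η ∈ f then 1 else 0) := by
    intro B' g hg hgb η hη
    have h1 := phi_mul hM hQp (IsCen.invBy (isCen_idem B') Q) (IsCen.invBy (isCen_idem A) Q)
      (IsCen.invBy (isCen_idem B') _) (IsCen.invBy (isCen_idem A) _) (isInt_idem hM hg.2.1) hAi η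
    rw [idem_mul_idem] at h1
    have h2 : phi Q (idem A) η = if η ∈ f then 1 else 0 := by
      rw [hA, phi, res_eb, omega_idem]
    rw [h2] at h1
    have h3 := (isBrauerPairOf_iff.mp hg).2.2 η hη
    have h4 : MemLocalRing M (if η ∈ f then (1 : ℂ) else 0) := by
      split_ifs
      exacts [(localRing hM).one_mem, (localRing hM).zero_mem]
    have := ideal_add hM h1 (ideal_mul_right hM h3 h4)
    convert this using 1
    ring
  obtain ⟨ξ, hξ⟩ := block_nonempty hM hf
  have hBA : B ⊆ A := by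
    by_contra hne
    have hd : B ∩ A = ∅ := Set.eq_empty_iff_forall_notMem.mpr fun χ hχ =>
      hne (hi B hQf.2.1 χ hχ.1 hχ.2)
    refine one_not_ideal hM ?_
    have h5 : phi Q (0 : MonoidAlgebra ℂ G) ξ = 0 := by simp [phi]
    have := h0 B f hQf hf ξ hξ
    rw [hd, if_pos hξ, idem_empty, h5, zero_sub] at this
    simpa using ideal_neg this
  have hAB : A ⊆ B := by
    intro ψ hψ
    set B' := blockOf M (ψ : G → ℂ)
    have hB' : IsPBlock M B' := isPBlock_blockOf ψ
    have hψB' : ψ ∈ B' := self_mem_blockOf hM ψ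
    obtain ⟨D, hD⟩ := exists_defectGroup hM hB'
    obtain ⟨g, hg⟩ := exists_pairOf_of_not_small hM hB' hQp
      ((not_small_cut_iff hM hB' hD hQp).mpr
        (conjLe_of_le (normal_le_defectGroup hM hB' hD Q hQp)))
    obtain ⟨η, hη⟩ := block_nonempty hM hg.1.2
    have h1 := h0 B' g hg hg.1.2 η hη
    rw [Set.inter_eq_left.mpr (hi B' hB' ψ hψB' hψ)] at h1
    by_cases hηf : η ∈ f
    · obtain rfl : g = f := block_eq_of_mem hM hg.1.2 hf hη hηf
      exact (existsUnique_block hM hQf.1).unique hQf hg ▸ hψB'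
    · rw [if_neg hηf, sub_zero] at h1
      have := ideal_sub hM h1 ((isBrauerPairOf_iff.mp hg).2.2 η hη)
      exact (one_not_ideal hM (by simpa using this)).elim
  rw [← hA, Set.Subset.antisymm hBA hAB]

theorem exists_mul {Q : Subgroup G} (t : ↥(Q ⊔ Cen Q)) :
    ∃ q ∈ Q, ∃ c ∈ Cen Q, (t : G) = q * c := by
  have ht := t.2
  rw [← SetLike.mem_coe] at ht
  simp only [Subgroup.coe_mul_of_left_le_normalizer_right Q (Cen Q)
    ((Subgroup.le_normalizer (H := Q)).trans normalizer_le_normalizer_cen), Set.mem_mul] at ht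
  obtain ⟨q, hq, c, hc, hqc⟩ := ht
  exact ⟨q, hq, c, hc, hqc.symm⟩

theorem nilpotent_sup (hM : IsPModular p M) {Q : Subgroup G} [Q.Normal]
    {f : Set (IrrCharacter (Cen Q))} (hQf : IsBrauerPair p M Q f)
    (hD : IsDefectGroup p M f ((Q ⊓ Cen Q).subgroupOf (Cen Q)))
    {F' : Set (IrrCharacter ↥(Q ⊔ Cen Q))} (hF' : IsPBlock M F')
    (hFc : ∀ t : ↥(Q ⊔ Cen Q), blockCoeff F' t = (eb (Cen Q) f).coeff t) :
    IsNilpotentBlock p M F' := by
  have hp : p.Prime := Fact.out
  have hin : Cen Q ≤ Q ⊔ Cen Q := le_sup_right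
  have hZn : ((Q ⊓ Cen Q).subgroupOf (Cen Q)).Normal := ⟨fun u hu g => by
    have hc : g * u = u * g := Subtype.ext
      (Subgroup.mem_centralizer_iff.mp g.2 _ (Subgroup.mem_subgroupOf.mp hu).1).symm
    rwa [hc, mul_inv_cancel_right]⟩
  obtain ⟨D, hDF⟩ := exists_defectGroup hM hF'
  have hDp : IsPGroup p D := isPGroup_of_isDefectGroup hDF
  have hQD : Q.subgroupOf (Q ⊔ Cen Q) ≤ D := normal_le_defectGroup hM hF' hDF _
    (hQf.1.comap_of_injective (Q ⊔ Cen Q).subtype (Subgroup.subtype_injective _))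
  have hns : ¬ Small M (cut (D.comap (Subgroup.inclusion hin)) (idem f)) := fun hs' =>
    not_small_cut_defect hM hF' hDF fun t => by
      rw [coeff_cut]
      split_ifs with ht
      · rw [coeff_idem, hFc]
        by_cases htC : (t : G) ∈ Cen Q
        · have h1 := hs' ⟨(t : G), htC⟩
          rw [coeff_cut, if_pos (Subgroup.mem_centralizer_iff.mpr fun u hu => by
            exact Subtype.ext (congrArg (Subtype.val : ↥(Q ⊔ Cen Q) → G)
              (Subgroup.mem_centralizer_iff.mp ht (Subgroup.inclusion hin u) hu))),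
            coeff_idem] at h1
          rwa [← coeff_eb_coe (Cen Q) f ⟨(t : G), htC⟩] at h1
        · rw [coeff_eb_of_notMem _ _ htC]; exact ideal_zero hM
      · exact ideal_zero hM
  obtain ⟨y, hy⟩ := (not_small_cut_iff hM hQf.2 hD
    (hDp.comap_of_injective _ (Subgroup.inclusion_injective hin))).mp hns
  -- a defect group lies in `Q`
  have hDQ : ∀ d ∈ D, (d : G) ∈ Q := by
    intro d hd
    obtain ⟨q, hq, c, hc, hqc⟩ := exists_mul d
    have hd' : Subgroup.inclusion hin ⟨c, hc⟩ ∈ D := by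
      have : Subgroup.inclusion hin ⟨c, hc⟩ =
          (⟨q, Subgroup.mem_sup_left hq⟩ : ↥(Q ⊔ Cen Q))⁻¹ * d := Subtype.ext (by simp [hqc])
      rw [this]
      exact mul_mem (inv_mem (hQD (Subgroup.mem_subgroupOf.mpr hq))) hd
    have h2 := hy (Subgroup.mem_map_of_mem (MulAut.conj y).toMonoidHom
      (show (⟨c, hc⟩ : Cen Q) ∈ D.comap (Subgroup.inclusion hin) from hd'))
    have h3 := hZn.conj_mem _ h2 y⁻¹
    simp only [MulEquiv.coe_toMonoidHom, MulAut.conj_apply] at h3
    rw [show y⁻¹ * (y * ⟨c, hc⟩ * y⁻¹) * y⁻¹⁻¹ = ⟨c, hc⟩ by group] at h3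
    rw [hqc]
    exact mul_mem hq (Subgroup.mem_subgroupOf.mp h3).1
  refine ⟨hF', fun R g hRg x _ _ hreg => ?_⟩
  obtain ⟨z, hz⟩ := conjLe_defect_of_pairOf hM hRg hDF
  have hRQ : ∀ r ∈ R, (r : G) ∈ Q := fun r hr => by
    have h5 := (inferInstance : Q.Normal).conj_mem _
      (hDQ _ (hz (Subgroup.mem_map_of_mem (MulAut.conj z).toMonoidHom hr))) (z : G)⁻¹
    simpa [mul_assoc] using h5
  -- regular elements centralise `Q`
  obtain ⟨q, hq, c, hc, hqc⟩ := exists_mul x
  obtain ⟨k, hk⟩ := hQf.1 ⟨q, hq⟩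
  have hk' : q ^ p ^ k = 1 := congrArg Subtype.val hk
  have hxC : (x : G) ∈ Cen Q := by
    rw [← QuotientGroup.eq_one_iff (N := Cen Q) (x : G), ← orderOf_eq_one_iff]
    refine Nat.eq_one_of_dvd_coprimes
      (Nat.Coprime.pow_left k (hp.coprime_iff_not_dvd.mpr hreg)) ?_
      ((orderOf_map_dvd (QuotientGroup.mk' (Cen Q)) (x : G)).trans (Subgroup.orderOf_coe x).dvd)
    rw [hqc, QuotientGroup.mk_mul, (QuotientGroup.eq_one_iff c).mpr hc, mul_one]
    exact orderOf_dvd_of_pow_eq_one (by rw [← QuotientGroup.mk_pow, hk', QuotientGroup.mk_one])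
  refine Subgroup.mem_centralizer_iff.mpr fun r hr => Subtype.ext ?_
  exact Subgroup.mem_centralizer_iff.mp hxC _ (hRQ r hr)


/-- Fix a prime p and a maximal ideal M of the algebraic integers containing p, a p-block B of the finite group G with maximal Brauer pair (P, e) and fusion system F on P, and a Brauer pair (Q, f) ≤ (P, e) with Q centric in F. Suppose every element of G normalizes Q and stabilizes f. Then the idempotent of B agrees with that of f modulo M at every element of G, and f is the idempotent of a nilpotent block of Q·C_G(Q): some p-block of Q·C_G(Q) has the idempotent coefficients of f and is nilpotent. -/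
theorem result {G : Type*} [Group G] [Fintype G] (p : ℕ) [Fact p.Prime] (M : Ideal Cfsg.AlgInt) (hM : Cfsg.IsPModular p M) (B : Set (Cfsg.IrrCharacter G)) (P : Subgroup G) (e : Set (Cfsg.IrrCharacter (Subgroup.centralizer (P : Set G)))) (hmax : Cfsg.IsMaximalBrauerPair p M B P e) (F : Cfsg.FusionSystem P) (hF : Cfsg.IsBlockFusionSystemOn p M B P e F) (Q : Subgroup G) (f : Set (Cfsg.IrrCharacter (Subgroup.centralizer (Q : Set G)))) (hQP : Q ≤ P) (hf : Cfsg.IsPBlock M f) (hle : Cfsg.SubpairLE p M Q f P e) (hcen : F.IsCentric Q) (hG : ∀ x : G, x ∈ Subgroup.normalizer (Q : Set G) ∧ Cfsg.StabilizesBlock (Subgroup.centralizer (Q : Set G)) f x) : (∀ g : G, Cfsg.MemLocalIdeal M (Cfsg.blockCoeff B g - Cfsg.subgroupBlockCoeff (Subgroup.centralizer (Q : Set G)) f g)) ∧ ∃ F' : Set (Cfsg.IrrCharacter ↥(Q ⊔ Subgroup.centralizer (Q : Set G))), Cfsg.IsPBlock M F' ∧ (∀ t : ↥(Q ⊔ Subgroup.centralizer (Q : Set G)), Cfsg.blockCoeff F' t = Cfsg.subgroupBlockCoeff (Subgroup.centralizer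 (Q : Set G)) f (t : G)) ∧ Cfsg.IsNilpotentBlock p M F' := by
  have hp : p.Prime := Fact.out
  have hQf : IsBrauerPairOf p M B Q f := isBrauerPairOf_down hM hle hmax.1
  have : Q.Normal := Subgroup.normalizer_eq_top_iff.mp (eq_top_iff.mpr fun x _ => (hG x).1)
  have hinv : InvBy ⊤ (eb (Cen Q) f) := (stabilizes_forall_iff
    (fun x _ => (hG x).1) f).mp fun x _ => (hG x).2
  refine ⟨fun g => ?_, ?_⟩
  · have h1 := congrArg (fun z : MonoidAlgebra ℂ G => z.coeff g) (idem_eq hM hQf hinv)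
    simp only [coeff_idem] at h1
    rw [h1]
    show MemLocalIdeal M ((eb (Cen Q) f).coeff g - (eb (Cen Q) f).coeff g)
    rw [sub_self]
    exact ideal_zero hM
  obtain ⟨F', hF', hFc⟩ := BrauerPairs81Stab.exists_block hM hQf.1.1 hf
    (H := Q ⊔ Cen Q) le_sup_right le_sup_left (fun x _ => (hG x).1) (invBy_mono le_top hinv)
  exact ⟨F', hF', hFc, nilpotent_sup hM hQf.1 ((centric_iff hM hF hle).mp hcen) hF' hFc⟩

end Cfsg.Agent.S4693
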