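import Cfsg.Statements.S4694
import Cfsg.Agent.Lib.BlockCentral81
import Cfsg.Agent.Lib.BrauerPairs81Fusion
import Cfsg.Agent.Lib.CharProjDegree
import Cfsg.Agent.Lib.DegreeDvd
-- import your own Cfsg.Agent.* helpers here

set_option autoImplicit false
open Cfsg

namespace Cfsg.Agent.S4694

open BrauerPairs81Base BrauerPairs81Pairs BrauerPairs81Local BrauerPairs81Fusion BlockCentral81
  BlockTheoryCentre BlockTheoryLocalRing
attribute [local instance] Classical.propDecidable


/-- Fix a prime p and a maximal ideal M of the algebraic integers containing p, a p-block B of the finite group G and a Brauer pair (Q, e) of B. Let T be the stabilizer of e in N_G(Q) and suppose that (Q, e) carries a weight: the block of T whose idempotent is that of e contains an irreducible character χ that is constant on the cosets of Q and whose degree has p-part equal to the p-part of the index of Q in T. Then Z(Q) is a defect group of e as a block of C_G(Q), and Q is the largest normal p-subgroup of T: every p-subgroup of T normalized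 by T lies in Q. -/
theorem result {G : Type*} [Group G] [Fintype G] (p : ℕ) [Fact p.Prime] (M : Ideal Cfsg.AlgInt) (hM : Cfsg.IsPModular p M) (B : Set (Cfsg.IrrCharacter G)) (Q : Subgroup G) (e : Set (Cfsg.IrrCharacter (Subgroup.centralizer (Q : Set G)))) (hQe : Cfsg.IsBrauerPairOf p M B Q e) (T : Subgroup G) (hT : ∀ y : G, y ∈ T ↔ y ∈ Subgroup.normalizer (Q : Set G) ∧ Cfsg.StabilizesBlock (Subgroup.centralizer (Q : Set G)) e y) (F' : Set (Cfsg.IrrCharacter T)) (hF' : Cfsg.IsPBlock M F') (hF'e : ∀ t : T, Cfsg.blockCoeff F' t = Cfsg.subgroupBlockCoeff (Subgroup.centralizer (Q : Set G)) e (t : G)) (χ : Cfsg.IrrCharacter T) (hχ : χ ∈ F') (hχQ : ∀ q : G, q ∈ Q → ∀ t : T, ∀ t' : T, (t' : G) = q * (t : G) → (χ : T → ℂ) t' = (χ : T → ℂ) t) (hdeg : (Cfsg.charDegree (χ : T → ℂ)).factorization p + (Nat.card Q).factorization p = (Nat.card T).factorization p) : Cfsg.IsDefectGroup p M e ((Q ⊓ Subgroup.centralizer (Q : Set G)).subgroupOf (Subgroup.centralizer (Q : Set G))) ∧ ∀ R : Subgroup G, R ≤ T → IsPGroup p R → (∀ t ∈ T,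 t ∈ Subgroup.normalizer (R : Set G)) → R ≤ Q := by
  classical
  have hp : p.Prime := Fact.out
  have he : IsPBlock M e := hQe.1.2
  have hT' : T = stab (⟨Q, e⟩ : BrauerPairIdx G) := by
    ext y; rw [mem_stab, cP_eq_self_iff_stabilizes, hT]
  have hCT : (Cen Q) ≤ T := hT' ▸ cen_le_stab (⟨Q, e⟩ : BrauerPairIdx G)
  have hQT : Q ≤ T := hT' ▸ le_stab (⟨Q, e⟩ : BrauerPairIdx G)
  set Q' := Q.subgroupOf T with hQ'
  have hQn : Q'.Normal := ⟨fun u hu g => Subgroup.mem_subgroupOf.mpr
    ((Subgroup.mem_normalizer_iff.mp ((hT g).mp g.2).1 (u : G)).mp (Subgroup.mem_subgroupOf.mp hu))⟩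
  have hQcard : Nat.card Q' = Nat.card Q := Nat.card_congr (Subgroup.subgroupOfEquivOfLe hQT).toEquiv
  obtain ⟨χ', hχ'⟩ := CharKernel.exists_quot_irr Q' χ fun n hn =>
    hχQ n (Subgroup.mem_subgroupOf.mp hn) 1 n (by simp)
  have hdT : (charDegree (χ : T → ℂ)).factorization p = (Nat.card (T ⧸ Q')).factorization p := by
    have h1 := hdeg
    rw [Subgroup.card_eq_card_quotient_mul_card_subgroup Q',
      Nat.factorization_mul Nat.card_pos.ne' Nat.card_pos.ne', Finsupp.add_apply, hQcard] at h1
    omega
  have hdeg' : charDegree (χ' : T ⧸ Q' → ℂ) = charDegree (χ : T → ℂ) := by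
    simp [charDegree, hχ' 1]
  have := Fintype.ofFinite (T ⧸ Q')
  refine ⟨?_, fun R hRT hRp hRn => ?_⟩
  · -- the image of `(Cen Q)` in `T ⧸ Q`
    set f : (Cen Q) →* T ⧸ Q' := (QuotientGroup.mk' Q').comp (Subgroup.inclusion hCT) with hf
    have : f.range.Normal := by
      constructor
      rintro _ ⟨c, rfl⟩ g
      obtain ⟨g, rfl⟩ := QuotientGroup.mk'_surjective Q' g
      have hg : (g : G) * (c : G) * (g : G)⁻¹ ∈ (Cen Q) :=
        (Subgroup.mem_normalizer_iff.mp (normalizer_le_normalizer_cen ((hT g).mp g.2).1) _).mp c.2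
      refine ⟨⟨_, hg⟩, ?_⟩
      simp only [hf, MonoidHom.coe_comp, Function.comp_apply, ← map_inv, ← map_mul]
      rfl
    obtain ⟨m, hm, hsum⟩ := CharBasicDecomp.exists_mult (G := f.range)
      (CharInduced.isCharacter_res f.range (CharBasic.isCharacter_of_isIrrCharacter χ'.2))
    let φ : IrrCharacter f.range → IrrCharacter (Cen Q) := fun ψ =>
      ⟨(ψ : f.range → ℂ) ∘ f.rangeRestrict, CharBasic.isIrrCharacter_comap f.rangeRestrict
        f.rangeRestrict_surjective ψ.2⟩
    have hS : ∑ c : (Cen Q), blockCoeff e c * (χ : T → ℂ) (Subgroup.inclusion hCT c) =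
        (χ : T → ℂ) 1 := by
      have h1 := omega_idem F' χ
      rw [if_pos hχ, omega_apply, inv_mul_eq_iff_eq_mul₀ (irr_one_ne_zero χ), mul_one,
        chiSum_apply] at h1
      rw [← h1]
      refine Fintype.sum_of_injective (Subgroup.inclusion hCT) (Subgroup.inclusion_injective hCT)
        _ _ (fun t ht => ?_) (fun c => ?_)
      · rw [coeff_idem, hF'e, subgroupBlockCoeff, dif_neg, zero_mul]
        exact fun h => ht ⟨⟨t, h⟩, rfl⟩
      · rw [coeff_idem, hF'e, subgroupBlockCoeff,
          dif_pos (show ((Subgroup.inclusion hCT c : T) : G) ∈ Cen Q from c.2)]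
        rfl
    obtain ⟨ψ, hψe, hψ0⟩ : ∃ ψ, φ ψ ∈ e ∧ m ψ ≠ 0 := by
      by_contra! hne
      refine irr_one_ne_zero χ ?_
      rw [← hS]
      have h2 : ∀ c : (Cen Q), (χ : T → ℂ) (Subgroup.inclusion hCT c) =
          ∑ ψ : IrrCharacter f.range, (m ψ : ℂ) * (φ ψ : (Cen Q) → ℂ) c := by
        intro c
        rw [hχ']
        have := congrFun hsum (f.rangeRestrict c)
        simp only [Finset.sum_apply, Pi.smul_apply, smul_eq_mul] at this
        exact this
      simp only [h2, Finset.mul_sum]
      rw [Finset.sum_comm]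
      refine Finset.sum_eq_zero fun ψ _ => ?_
      by_cases h : φ ψ ∈ e
      · simp [hne ψ h]
      · have h3 := omega_idem e (φ ψ)
        rw [if_neg h, omega_apply, inv_mul_eq_iff_eq_mul₀ (irr_one_ne_zero (φ ψ)), mul_zero,
          chiSum_apply] at h3
        rw [← mul_zero (m ψ : ℂ), ← h3, Finset.mul_sum]
        exact Finset.sum_congr rfl fun c _ => by rw [coeff_idem]; ring
    obtain ⟨k, d, hd, hk, hkdvd⟩ := CharProjDegree.degree_dvd f.range χ'.2 ψ.2
      (by rw [hm]; exact_mod_cast hψ0)
    set Z := (Q ⊓ (Cen Q)).subgroupOf (Cen Q)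
    have hZc : Z ≤ Subgroup.center (Cen Q) := fun u hu =>
      Subgroup.mem_center_iff.mpr fun g => Subtype.ext
        (Subgroup.mem_centralizer_iff.mp g.2 _ (Subgroup.mem_subgroupOf.mp hu).1).symm
    have hker : f.ker = Z := by
      ext c
      simp only [hf, MonoidHom.mem_ker, MonoidHom.coe_comp, Function.comp_apply,
        QuotientGroup.mk'_apply, QuotientGroup.eq_one_iff, Z, Subgroup.mem_subgroupOf,
        Subgroup.mem_inf, hQ']
      exact ⟨fun h => ⟨h, c.2⟩, fun h => h.1⟩
    have hdψ : d = charDegree (φ ψ : (Cen Q) → ℂ) := by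
      rw [charDegree]
      simp only [φ, Function.comp_apply, map_one, hd]
      simp
    have hdk : charDegree (χ : T → ℂ) = d * k := by
      rw [← hdeg', charDegree, hk, Complex.natCast_re, Nat.floor_natCast]
    have hd0 : d ≠ 0 := hdψ ▸ (ClassAlgebraVal.charDegree_pos (φ ψ)).ne'
    have hk0 : k ≠ 0 := fun h => by
      rw [h, zero_dvd_iff] at hkdvd
      exact Subgroup.index_ne_zero_of_finite hkdvd
    have hle : k.factorization p ≤ f.range.index.factorization p :=
      (Nat.factorization_le_iff_dvd hk0 Subgroup.index_ne_zero_of_finite).2 hkdvd p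
    have hdle : (charDegree (ψ : f.range → ℂ)).factorization p ≤
        (Nat.card f.range).factorization p := ClassAlgebraOmega.factorization_charDegree_le ψ p
    have hdψ' : charDegree (ψ : f.range → ℂ) = d := by rw [charDegree, hd]; simp
    have hTQ : (Nat.card (T ⧸ Q')).factorization p =
        f.range.index.factorization p + (Nat.card f.range).factorization p := by
      rw [← f.range.index_mul_card,
        Nat.factorization_mul Subgroup.index_ne_zero_of_finite Nat.card_pos.ne', Finsupp.add_apply]
    have hCc : (Nat.card (Cen Q)).factorization p =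
        (Nat.card f.range).factorization p + (Nat.card Z).factorization p := by
      rw [← hker, ← Subgroup.index_ker f, ← Finsupp.add_apply,
        ← Nat.factorization_mul Subgroup.index_ne_zero_of_finite Nat.card_pos.ne',
        Subgroup.index_mul_card]
    rw [hdk, Nat.factorization_mul hd0 hk0, Finsupp.add_apply] at hdT
    rw [hdψ'] at hdle
    have hθ : DZero p Z (φ ψ) := by
      refine ⟨fun u hu => ?_, ?_⟩
      · have h1 : f.rangeRestrict u = 1 := Subtype.ext (by
          rw [MonoidHom.coe_rangeRestrict, OneMemClass.coe_one, ← MonoidHom.mem_ker, hker]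
          exact hu)
        simp only [φ, Function.comp_apply, h1, map_one]
      · rw [← hdψ]; omega
    have hZn : Z.Normal := hker ▸ f.normal_ker
    have hZp : IsPGroup p Z := (hQe.1.1.to_le inf_le_left).of_equiv
      (Subgroup.subgroupOfEquivOfLe inf_le_right).symm
    obtain ⟨D, hD⟩ := BlockTheoryDefect.exists_defectGroup hM he
    exact hθ.defectGroup_eq hM hZc hZp he hψe hD ▸ hD
  · -- a normal `p`-subgroup of `T ⧸ Q` is trivial
    set R' := (R.subgroupOf T).map (QuotientGroup.mk' Q') with hR'
    have : (R.subgroupOf T).Normal := ⟨fun u hu g => Subgroup.mem_subgroupOf.mpr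
      ((Subgroup.mem_normalizer_iff.mp (hRn g g.2) (u : G)).mp (Subgroup.mem_subgroupOf.mp hu))⟩
    have hR'n : R'.Normal :=
      Subgroup.Normal.map inferInstance _ (QuotientGroup.mk'_surjective Q')
    have hR'p : IsPGroup p R' := (hRp.comap_of_injective T.subtype T.subtype_injective).map _
    by_contra hle
    have hne : R' ≠ ⊥ := fun h => hle fun r hr => by
      have h1 := Subgroup.mem_map_of_mem (QuotientGroup.mk' Q')
        (show (⟨r, hRT hr⟩ : T) ∈ R.subgroupOf T from hr)
      rw [← hR', h, Subgroup.mem_bot] at h1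
      exact Subgroup.mem_subgroupOf.mp ((QuotientGroup.eq_one_iff _).1 h1)
    have : Nontrivial R' := (Subgroup.nontrivial_iff_ne_bot R').mpr hne
    have := hR'p.center_nontrivial
    set A := (Subgroup.center R').map R'.subtype with hA
    obtain ⟨n, hn0, hn, hdvd⟩ := DegreeDvd.degree_dvd_index_abelian χ'.2 A (by
      rintro ⟨_, a, ha, rfl⟩ ⟨_, b, hb, rfl⟩
      exact Subtype.ext (congrArg R'.subtype (Subgroup.mem_center_iff.mp hb a)))
    have hn' : n = charDegree (χ' : T ⧸ Q' → ℂ) := by rw [charDegree, hn]; simp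
    have h1 := (Nat.factorization_le_iff_dvd hn0.ne' Subgroup.index_ne_zero_of_finite).2 hdvd p
    rw [hn', hdeg', hdT, ← A.index_mul_card, Nat.factorization_mul
      Subgroup.index_ne_zero_of_finite Nat.card_pos.ne', Finsupp.add_apply] at h1
    obtain ⟨j, hj⟩ := (hR'p.to_le (Subgroup.map_subtype_le _ : A ≤ R')).exists_card_eq
    have hj0 : j ≠ 0 := fun h0 => by
      have h2 : Nat.card A = Nat.card (Subgroup.center R') :=
        Subgroup.card_map_of_injective R'.subtype_injective
      have h3 : 1 < Nat.card (Subgroup.center R') := Finite.one_lt_card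
      rw [← h2, hj, h0, pow_zero] at h3
      exact lt_irrefl 1 h3
    rw [hj, Nat.Prime.factorization_pow hp, Finsupp.single_eq_same] at h1
    omega

end Cfsg.Agent.S4694
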