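import Cfsg.Statements.S4697
import Cfsg.Agent.Lib.BlockTwins31
import Cfsg.Agent.Lib.Star80Nilpotent
-- import your own Cfsg.Agent.* helpers here

set_option autoImplicit false
open Cfsg

namespace Cfsg.Agent.S4697

open Agent.BrauerPairs81Base Agent.BrauerPairs81Pairs Agent.BrauerPairs81Local Agent.BrauerPairs81Fusion
  Agent.BlockAbelianWeight31 Agent.BlockAbelianNorm31 Agent.BlockTheoryDefect Agent.BlockCyclicRank81

attribute [local instance] Classical.propDecidable

theorem card_le_mul {A : Type*} [CommGroup A] [Finite A] {u v w : A}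
    (h : Subgroup.zpowers u ⊔ Subgroup.zpowers v ⊔ Subgroup.zpowers w = ⊤) :
    Nat.card A ≤ orderOf u * orderOf v * orderOf w := by
  rw [← Nat.card_zpowers u, ← Nat.card_zpowers v, ← Nat.card_zpowers w, ← Nat.card_prod,
    ← Nat.card_prod]
  refine Nat.card_le_card_of_surjective
    (fun x : (Subgroup.zpowers u × Subgroup.zpowers v) × Subgroup.zpowers w =>
      (x.1.1 : A) * x.1.2 * x.2) fun g => ?_
  obtain ⟨y, hy, z, hz, rfl⟩ := Subgroup.mem_sup.1 (h ▸ Subgroup.mem_top g)
  obtain ⟨y₁, hy₁, y₂, hy₂, rfl⟩ := Subgroup.mem_sup.1 hy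
  exact ⟨((⟨y₁, hy₁⟩, ⟨y₂, hy₂⟩), ⟨z, hz⟩), rfl⟩

variable {G : Type*} [Group G] [Fintype G] {p : ℕ} [Fact p.Prime] {M : Ideal AlgInt}
  {B : Set (IrrCharacter G)} {P : Subgroup G} {c : Set (IrrCharacter (Cen P))}

theorem rank_three (hM : IsPModular p M) (hmax : IsMaximalBrauerPair p M B P c)
    (hab : ∀ x ∈ P, ∀ y ∈ P, x * y = y * x) {u v w : P}
    (hgen : Subgroup.zpowers u ⊔ Subgroup.zpowers v ⊔ Subgroup.zpowers w = ⊤)
    (hv : orderOf v ≤ orderOf u) (hw : orderOf w ≤ orderOf u) :
    Nat.card B ^ 3 ≤ p ^ (5 * blockDefect p B) := by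
  letI := commP hab
  have hPd := Agent.BlockContribBounds.card_defectGroup hM hmax.1.2.1
    (Agent.BrauerPairs81Max.isDefectGroup_of_maximal hM hmax)
  set Q := Subgroup.zpowers (u : G) with hQ
  have hQP : Q ≤ P := Subgroup.zpowers_le.2 u.2
  have hPQ : P ≤ Cen Q := fun x hx =>
    Subgroup.mem_centralizer_iff.mpr fun q hq => hab q (hQP hq) x hx
  obtain ⟨hS, c₀, hmax₀, -, -⟩ := exists_inner hM hmax hQP hPQ
  have hle := pairOn_le hM hmax hQP
  have hab₀ : ∀ x ∈ P.subgroupOf (Cen Q), ∀ y ∈ P.subgroupOf (Cen Q), x * y = y * x :=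
    fun x hx y hy => Subtype.ext (hab _ hx _ hy)
  have hW : Q.subgroupOf (Cen Q) ≤ Subgroup.center (Cen Q) := fun x hx =>
    Subgroup.mem_center_iff.2 fun y =>
      Subtype.ext (Subgroup.mem_centralizer_iff.mp y.2 x hx).symm
  have hWP : Q.subgroupOf (Cen Q) ≤ P.subgroupOf (Cen Q) := fun x hx => hQP hx
  have h1 := Agent.BlockTwins31.card_mul_rank_le hM hmax₀ hab₀ hWP hW
  have h2 := Agent.BlockTwins31.card_le hM hmax₀ hab₀ _ hWP hW
    (a := (⟨v, hPQ v.2⟩ : Cen Q)) (b := (⟨w, hPQ w.2⟩ : Cen Q)) v.2 w.2 (by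
      refine (Subgroup.map_le_map_iff_of_injective (Cen Q).subtype_injective).1 ?_
      rw [Subgroup.map_sup, Subgroup.map_sup, MonoidHom.map_zpowers, MonoidHom.map_zpowers,
        Subgroup.map_subgroupOf_eq_of_le (hQP.trans hPQ), Subgroup.map_subgroupOf_eq_of_le hPQ]
      have h := congrArg (Subgroup.map P.subtype) hgen
      rw [Subgroup.map_sup, Subgroup.map_sup, MonoidHom.map_zpowers, MonoidHom.map_zpowers,
        MonoidHom.map_zpowers, ← MonoidHom.range_eq_map, Subgroup.range_subtype] at h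
      exact le_of_eq h.symm)
  rw [Nat.card_congr (Subgroup.subgroupOfEquivOfLe hPQ).toEquiv, hPd] at h2
  rw [Nat.card_congr (Subgroup.subgroupOfEquivOfLe (hQP.trans hPQ)).toEquiv, hQ,
    Nat.card_zpowers] at h1
  have huo : ∃ k, orderOf (u : G) = p ^ k := by
    obtain ⟨k, hk⟩ := IsPGroup.iff_orderOf.mp hmax.1.1.1 u
    exact ⟨k, by rw [← hk, Subgroup.orderOf_coe]⟩
  have h3 := Agent.BlockSmallCount31.card_mul_le hM huo (centralizer_zpowers (u : G))
    (induced_of_pairOf hM (isBrauerPairOf_down hM hle hmax.1))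
    (Agent.BlockAbelian81.defect_cen hM hmax hab hQP hle)
    (Agent.BlockSmallCount31.minAtLeast_one hM hmax₀.1.2.1)
  rw [mul_one] at h3
  set o := orderOf (u : G)
  set d := blockDefect p B
  have h4 : Nat.card B * o ≤ p ^ d * p ^ d := by
    refine (Nat.mul_le_mul_right _ h3).trans ?_
    rw [mul_assoc, mul_comm _ o]
    exact Nat.mul_le_mul_left _ (h1.trans h2)
  have h5 : p ^ d ≤ o ^ 3 := by
    rw [← hPd]
    refine (card_le_mul hgen).trans ?_
    rw [show o ^ 3 = orderOf u * orderOf u * orderOf u by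
      simp only [o, Subgroup.orderOf_coe]; ring]
    exact Nat.mul_le_mul (Nat.mul_le_mul le_rfl hv) hw
  have h6 : Nat.card B ^ 3 * p ^ d ≤ p ^ (5 * d) * p ^ d :=
    ((Nat.mul_le_mul_left _ h5).trans_eq (mul_pow _ _ _).symm).trans
      ((Nat.pow_le_pow_left h4 3).trans_eq (by ring))
  exact Nat.le_of_mul_le_mul_right h6 (pow_pos hM.1.pos _)

theorem main (hM : IsPModular p M) (hB : IsPBlock M B) {D : Subgroup G}
    (hD : IsDefectGroup p M B D) (hab : ∀ x ∈ D, ∀ y ∈ D, x * y = y * x) :
    (Group.rank D = 2 → Nat.card B ≤ p ^ blockDefect p B) ∧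
      (Group.rank D = 3 → Nat.card B ^ 3 ≤ p ^ (5 * blockDefect p B)) := by
  classical
  obtain ⟨c, hmax⟩ := Agent.Star80Nilpotent.exists_maximal hM hB hD
  obtain ⟨S, hS, hcl⟩ := Group.rank_spec (G := D)
  refine ⟨fun h => ?_, fun h => ?_⟩
  · rw [h, Finset.card_eq_two] at hS
    obtain ⟨a, b, -, rfl⟩ := hS
    rw [← Agent.BlockContribBounds.card_defectGroup hM hB hD]
    refine Agent.BlockTwins31.card_le hM hmax hab ⊥ bot_le bot_le a.2 b.2 ?_
    have hle : (⊤ : Subgroup D) ≤
        (⊥ ⊔ Subgroup.zpowers (a : G) ⊔ Subgroup.zpowers (b : G)).subgroupOf D := by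
      rw [← hcl, Subgroup.closure_le]
      intro x hx
      rcases Finset.mem_insert.1 (Finset.mem_coe.1 hx) with rfl | hx
      · exact Subgroup.mem_sup_left (Subgroup.mem_sup_right (Subgroup.mem_zpowers _))
      · rw [Finset.mem_singleton.1 hx]; exact Subgroup.mem_sup_right (Subgroup.mem_zpowers _)
    exact fun x hx => hle (Subgroup.mem_top (⟨x, hx⟩ : D))
  · rw [h, Finset.card_eq_three] at hS
    obtain ⟨a, b, e, -, -, -, rfl⟩ := hS
    have hg : Subgroup.zpowers a ⊔ Subgroup.zpowers b ⊔ Subgroup.zpowers e = ⊤ := by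
      rw [← hcl]
      simp only [Finset.coe_insert, Finset.coe_singleton, Set.insert_eq, Subgroup.closure_union,
        ← Subgroup.zpowers_eq_closure, sup_assoc]
    rcases le_total (orderOf b) (orderOf a) with h1 | h1 <;>
      rcases le_total (orderOf e) (orderOf a) with h2 | h2 <;>
      rcases le_total (orderOf e) (orderOf b) with h3 | h3
    all_goals first
      | exact rank_three hM hmax hab hg (by omega) (by omega)
      | exact rank_three hM hmax hab (u := b) (v := a) (w := e)
          (by rw [← hg]; ac_rfl) (by omega) (by omega)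
      | exact rank_three hM hmax hab (u := e) (v := a) (w := b)
          (by rw [← hg]; ac_rfl) (by omega) (by omega)

/-- Let p be a prime, M a maximal ideal of the algebraic integers containing p, and B a p-block of the finite group G with an abelian defect group D of order p^d. If D has rank 2 (its least number of generators is 2) then B contains at most p^d irreducible characters; if D has rank 3 then the number k of irreducible characters in B satisfies k^3 ≤ p^(5d). -/
theorem result {G : Type*} [Group G] [Finite G] (p : ℕ) [Fact p.Prime] (M : Ideal Cfsg.AlgInt) (hM : Cfsg.IsPModular p M) (B : Set (Cfsg.IrrCharacter G)) (hB : Cfsg.IsPBlock M B) (D : Subgroup G) (hBD : Cfsg.IsDefectGroup p M B D) (hab : IsMulCommutative D) (d : ℕ) (hDd : Nat.card D = p ^ d) : (Group.rank D = 2 → Nat.card B ≤ p ^ d) ∧ (Group.rank D = 3 → Nat.card B ^ 3 ≤ p ^ (5 * d)) := by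
  haveI := Fintype.ofFinite G
  have hd : blockDefect p B = d := Nat.pow_right_injective (Fact.out : p.Prime).two_le
    ((Agent.BlockContribBounds.card_defectGroup hM hB hBD).symm.trans hDd)
  subst hd
  exact Agent.S4697.main hM hB hBD fun x hx y hy =>
    congrArg Subtype.val (hab.is_comm.comm (⟨x, hx⟩ : D) ⟨y, hy⟩)

end Cfsg.Agent.S4697
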