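import Cfsg.Statements.S4698
import Cfsg.Agent.Lib.BlockCentralSlice38
import Cfsg.Agent.Lib.BlockContribLift
-- import your own Cfsg.Agent.* helpers here

set_option autoImplicit false
open Cfsg

namespace Cfsg.Agent.S4698

universe u

open Cfsg.Agent.BlockContrib Cfsg.Agent.BlockContribBounds

theorem card_le_bound {p : ℕ} [Fact p.Prime] {M : Ideal AlgInt} (hM : IsPModular p M) (d : ℕ) :
    ∀ (G : Type u) [Group G] [Finite G] (B : Set (IrrCharacter G)), IsPBlock M B →
      blockDefect p B = d → Nat.card B ≤ p ^ (if d ≤ 2 then d else 2 * d - 2) := by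
  classical
  induction d using Nat.strong_induction_on with
  | _ d IH =>
  intro G _ _ B hB hd
  have := Fintype.ofFinite G
  have hp := hM.1
  rcases Nat.eq_zero_or_pos d with rfl | hd1
  · rw [eq_singleton_of_defect_zero hM hB hd]; exact Nat.one_le_pow _ _ hp.pos
  by_cases hpos : ∃ χ ∈ B, 0 < blockHeight p B (χ : G → ℂ)
  · have h := two_mul_card_le hM hB hpos
    obtain ⟨χ, hχ, hχh⟩ := hpos
    have h2 := height_add_two_le hM hB hχ hχh
    rw [hd] at h h2
    split_ifs with hle
    · rw [show d = 2 by omega] at h ⊢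
      exact le_trans (by omega) h
    · exact le_trans (by omega) h
  push Not at hpos
  have hh : ∀ χ ∈ B, blockHeight p B (χ : G → ℂ) = 0 := fun χ hχ => Nat.le_zero.1 (hpos χ hχ)
  obtain ⟨D, hD⟩ := BlockTheoryDefect.exists_defectGroup hM hB
  have hDp : IsPGroup p D := BlockTheoryDefect.isPGroup_of_isDefectGroup hD
  have hDc := card_defectGroup hM hB hD
  have : Nontrivial D := by
    rw [← Finite.one_lt_card_iff_nontrivial, hDc, hd]
    exact Nat.one_lt_pow hd1.ne' hp.one_lt
  have hZ : Nontrivial (Subgroup.center D) := hDp.center_nontrivial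
  have hpd : p ∣ Nat.card (Subgroup.center D) :=
    ((hDp.to_subgroup _).nontrivial_iff_card.1 hZ).elim fun n hn => hn.2 ▸ dvd_pow_self p hn.1.ne'
  obtain ⟨z, hz⟩ := exists_prime_orderOf_dvd_card' p hpd
  set y : G := ((z : D) : G) with hy
  have hyo : orderOf y = p := by rw [hy, Subgroup.orderOf_coe, Subgroup.orderOf_coe, hz]
  set H := Subgroup.centralizer ({y} : Set G) with hHdef
  have hH : ∀ g, g ∈ H ↔ Commute y g := fun g => by
    rw [hHdef, Subgroup.mem_centralizer_singleton_iff]
    exact ⟨fun h => h.symm, fun h => h.eq.symm⟩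
  have hDH : D ≤ H := fun v hv =>
    Subgroup.mem_centralizer_singleton_iff.2 (congrArg Subtype.val (Subgroup.mem_center_iff.1 z.2 ⟨v, hv⟩))
  obtain ⟨b, hind, hns⟩ := BlockContribLift.exists_induced_not_small hM hH ⟨1, by rw [hyo, pow_one]⟩ hB
    hDp hDH (z : D).2 (BlockTheoryDefect.not_small_cut_defect hM hB hD)
  have hb := hind.1
  obtain ⟨E, hE⟩ := BlockTheoryDefect.exists_defectGroup hM hb
  have hbd : blockDefect p b = d := by
    refine le_antisymm ?_ ?_
    · have h := BlockTheoryDefect.card_le_of_conjLe (BlockTheoryDefect.inducedBlock_defect_le hM _ hind hE hD)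
      rw [Subgroup.card_map_of_injective Subtype.val_injective, card_defectGroup hM hb hE, hDc, hd] at h
      exact (Nat.pow_le_pow_iff_right hp.one_lt).1 h
    · have hDs : IsPGroup p ↥(D.subgroupOf H) := hDp.comap_subtype
      have h := BlockTheoryDefect.card_le_of_conjLe
        ((BlockTheoryDefect.not_small_cut_iff hM hb hE hDs).1 hns)
      rw [Nat.card_congr (Subgroup.subgroupOfEquivOfLe hDH).toEquiv, hDc, hd,
        card_defectGroup hM hb hE] at h
      exact (Nat.pow_le_pow_iff_right hp.one_lt).1 h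
  have hyp : ∃ k, orderOf y = p ^ k := ⟨1, by rw [hyo, pow_one]⟩
  by_cases hd2 : d = 2
  · subst hd2
    rw [if_pos le_rfl]
    refine BlockCentralSlice38.card_le_sq hM hyo hH hind (hbd.trans hd.symm) hbd fun φ hφ => ?_
    by_contra h
    have := height_add_two_le hM hb hφ (Nat.pos_of_ne_zero h)
    omega
  have hk := S4716.result p M hM B hB d hd hh y hyp b hind hbd
  set zH : H := ⟨y, (hH y).2 (Commute.refl y)⟩
  have hzc : zH ∈ Subgroup.center H :=
    Subgroup.mem_center_iff.2 fun g => Subtype.ext ((hH g).1 g.2).eq.symm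
  have hzo : orderOf zH = p := by rw [← Subgroup.orderOf_coe]; exact hyo
  have : (Subgroup.zpowers zH).Normal := ⟨fun a ha g => by
    rwa [Subgroup.mem_center_iff.1 (Subgroup.zpowers_le.2 hzc ha) g, mul_inv_cancel_right]⟩
  obtain ⟨B', hB', hdef, hcard⟩ := BlockCentralSlice38.exists_quotient_block hM hb hzc hzo
  have hl := (BlockCentralSlice38.rank_le hM hb hzc hzo).trans
    (hcard.trans (IH _ (by omega) _ B' hB' rfl))
  have hl2 : blockRank p b ≤ p ^ (2 * d - 4) := by
    refine hl.trans (Nat.pow_le_pow_right hp.pos ?_)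
    split_ifs <;> omega
  have h1 := hk.trans (Nat.mul_le_mul_left _ hl2)
  rw [← pow_add] at h1
  have hgoal : (if d ≤ 2 then d else 2 * d - 2) * 2 = 2 * d + (2 * d - 4) := by
    split_ifs <;> omega
  rw [← hgoal, pow_mul] at h1
  exact (Nat.pow_le_pow_iff_left two_ne_zero).1 h1

/-- Let p be a prime, M a maximal ideal of the algebraic integers containing p, and B a p-block of defect d of the finite group G, containing k irreducible characters. Then k ≤ p^d when d ≤ 2, and k ≤ p^(2d − 2) when d ≥ 3. -/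
theorem result {G : Type*} [Group G] [Finite G] (p : ℕ) [Fact p.Prime] (M : Ideal Cfsg.AlgInt) (hM : Cfsg.IsPModular p M) (B : Set (Cfsg.IrrCharacter G)) (hB : Cfsg.IsPBlock M B) (d : ℕ) (hd : Cfsg.blockDefect p B = d) : (d ≤ 2 → Nat.card B ≤ p ^ d) ∧ (3 ≤ d → Nat.card B ≤ p ^ (2 * d - 2)) := by
  have h := card_le_bound hM d G B hB hd
  exact ⟨fun hle => by rwa [if_pos hle] at h, fun hge => by rwa [if_neg (by omega)] at h⟩

end Cfsg.Agent.S4698
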