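import Cfsg.Statements.S4701
import Cfsg.Agent.S0999
import Cfsg.Agent.Lib.BrauerReynolds7Recognition
import Cfsg.Agent.Lib.PSLCard
-- import your own Cfsg.Agent.* helpers here

set_option autoImplicit false
set_option linter.style.haveILetI false
open Cfsg

namespace Cfsg.Agent.S4701

open BrauerReynolds7 in
/-- If every normal subgroup of order divisible by `p` is the whole perfect group, some normal
`p'`-subgroup has one of the two simple groups as quotient. -/
theorem exists_quotient {H : Type*} [Group H] [Finite H] {p : ℕ} [Fact p.Prime]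
    (hperf : commutator H = ⊤) (hdvd : p ∣ Nat.card H) (hbig : Nat.card H < p ^ 3)
    (hall : ∀ N : Subgroup H, N.Normal → p ∣ Nat.card N → N = ⊤) :
    ∃ K : Subgroup H, ∃ _ : K.Normal, Concl (H ⧸ K) p := by
  have hp := (Fact.out : p.Prime)
  haveI := Fintype.ofFinite H
  have hne : (⊥ : Subgroup H) ≠ ⊤ := fun h => by
    have h1 : Nat.card H = 1 := by rw [← Subgroup.card_top (G := H), ← h, Subgroup.card_bot]
    rw [h1, Nat.dvd_one] at hdvd
    exact hp.ne_one hdvd
  obtain ⟨K, ⟨hKn, hKt⟩, hKmax⟩ := Set.Finite.exists_maximal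
    (Set.toFinite {N : Subgroup H | N.Normal ∧ N ≠ ⊤}) ⟨⊥, inferInstance, hne⟩
  haveI := hKn
  haveI : Nontrivial (H ⧸ K) := by
    rw [← Finite.one_lt_card_iff_nontrivial]
    exact Subgroup.one_lt_index_of_ne_top hKt
  haveI : IsSimpleGroup (H ⧸ K) := ⟨fun N hN => by
    rcases eq_or_ne (N.comap (QuotientGroup.mk' K)) ⊤ with h | h
    · right
      rw [← Subgroup.map_comap_eq_self_of_surjective (QuotientGroup.mk'_surjective K) N, h,
        Subgroup.map_top_of_surjective _ (QuotientGroup.mk'_surjective K)]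
    · left
      have hle : K ≤ N.comap (QuotientGroup.mk' K) := by
        intro x hx
        rw [Subgroup.mem_comap, QuotientGroup.mk'_apply, (QuotientGroup.eq_one_iff x).2 hx]
        exact one_mem _
      have h2 := le_antisymm (hKmax (y := N.comap (QuotientGroup.mk' K))
        ⟨inferInstance, h⟩ hle) hle
      rw [← Subgroup.map_comap_eq_self_of_surjective (QuotientGroup.mk'_surjective K) N, h2,
        QuotientGroup.map_mk'_self]⟩
  have hcyc : ¬ IsCyclic (H ⧸ K) := by
    intro hc
    letI : CommGroup (H ⧸ K) := IsCyclic.commGroup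
    obtain ⟨x, hx⟩ := exists_ne (1 : H ⧸ K)
    obtain ⟨y, rfl⟩ := QuotientGroup.mk'_surjective K x
    exact hx (perfect_hom_eq_one hperf (QuotientGroup.mk' K) y)
  have hmul : Nat.card H = Nat.card (H ⧸ K) * Nat.card K :=
    Subgroup.card_eq_card_quotient_mul_card_subgroup K
  have hdvdQ : p ∣ Nat.card (H ⧸ K) :=
    (hp.dvd_mul.1 (hmul ▸ hdvd)).resolve_right fun h => hKt (hall K hKn h)
  have hlt : Nat.card (H ⧸ K) < p ^ 3 :=
    lt_of_le_of_lt (by rw [hmul]; exact Nat.le_mul_of_pos_right _ Nat.card_pos) hbig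
  exact ⟨K, hKn, Cfsg.Agent.S0999.result hcyc p hp hdvdQ hlt⟩

open BrauerReynolds7 in
/-- A group with one of the two simple groups as quotient has almost the full order `p ^ 3`. -/
theorem mul_lt_three {Q : Type*} [Group Q] [Finite Q] {p x : ℕ} (hQ : Concl Q p)
    (h : x * Nat.card Q < p ^ 3) : x < 3 := by
  by_contra hx
  push Not at hx
  rcases hQ with ⟨F, hF, hFf, hc, h3, ⟨e⟩⟩ | ⟨m, F, hF, hFf, hc, hpm, h3, ⟨e⟩⟩
  · letI := hF; letI := hFf
    have h1 := PSLCard.card_PSL2_mul (F := F)
    rw [← Nat.card_congr e.toEquiv, Nat.card_eq_fintype_card (α := F), hc] at h1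
    have hg : Nat.gcd 2 (p - 1) ≤ 2 := Nat.le_of_dvd two_pos (Nat.gcd_dvd_left _ _)
    have h2 : p * (p ^ 2 - 1) * 3 ≤ 2 * (x * Nat.card Q) := by
      calc p * (p ^ 2 - 1) * 3 = Nat.gcd 2 (p - 1) * Nat.card Q * 3 := by rw [h1]
        _ ≤ 2 * Nat.card Q * x := by gcongr
        _ = 2 * (x * Nat.card Q) := by ring
    have h4 : (4 : ℕ) ≤ p := h3
    obtain ⟨a, ha⟩ : ∃ a, p ^ 2 = a + 1 := ⟨p ^ 2 - 1, by nlinarith [Nat.sub_add_cancel (show 1 ≤ p ^ 2 by nlinarith)]⟩
    rw [ha, Nat.add_sub_cancel] at h2
    have : p ^ 3 = p * (a + 1) := by rw [← ha]; ring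
    nlinarith
  · letI := hF; letI := hFf
    have h1 := PSLCard.card_PSL2_mul (F := F)
    have hm : m ≠ 0 := by rintro rfl; omega
    have hg : Nat.gcd 2 (2 ^ m - 1) = 1 := by
      refine (Nat.prime_two.coprime_iff_not_dvd).2 fun h2 => ?_
      have h5 : 2 ∣ 2 ^ m := dvd_pow_self 2 hm
      have h6 : 1 ≤ 2 ^ m := Nat.one_le_two_pow
      omega
    rw [← Nat.card_congr e.toEquiv, Nat.card_eq_fintype_card (α := F), hc, hg, one_mul] at h1
    subst hpm
    generalize 2 ^ m = q at *
    obtain ⟨a, ha⟩ : ∃ a, q ^ 2 = a + 1 := ⟨q ^ 2 - 1, by nlinarith [Nat.sub_add_cancel (show 1 ≤ q ^ 2 by nlinarith)]⟩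
    rw [ha, Nat.add_sub_cancel] at h1
    rw [h1] at h
    have h5 : 3 * (q * a) ≤ x * (q * a) := Nat.mul_le_mul_right _ hx
    nlinarith


/-- Let G be a finite perfect group and p a prime dividing the order of G with p^3 larger than the order of G. Suppose a Sylow p-subgroup of G is not normal and G has no normal subgroup of order 2. Then p > 3 and G is isomorphic to PSL(2, p), or to SL(2, 2^m) with p = 2^m + 1. -/
theorem result {G : Type*} [Group G] [Finite G] (hperf : commutator G = ⊤) (p : ℕ) [Fact p.Prime] (hdvd : p ∣ Nat.card G) (hbig : Nat.card G < p ^ 3) (P : Sylow p G) (hP : ¬ (P : Subgroup G).Normal) (h2 : ∀ N : Subgroup G, N.Normal → Nat.card N ≠ 2) : (∃ (F : Type) (_ : Field F) (_ : Fintype F), Fintype.card F = p ∧ 3 < p ∧ Nonempty (G ≃* Matrix.ProjectiveSpecialLinearGroup (Fin 2) F)) ∨ (∃ (m : ℕ) (F : Type) (_ : Field F) (_ : Fintype F), Fintype.card F = 2 ^ m ∧ p = 2 ^ m + 1 ∧ 3 < p ∧ Nonempty (G ≃* Matrix.SpecialLinearGroup (Fin 2) F)) := by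
  classical
  haveI := Fintype.ofFinite G
  have hp := (Fact.out : p.Prime)
  have hmulG := (P : Subgroup G).card_mul_index
  -- the Sylow subgroup has order `p`
  have hnp : p + 1 ≤ Nat.card (Sylow p G) := by
    have h1 : Nat.card (Sylow p G) % p = 1 :=
      Eq.trans (card_sylow_modEq_one p G) (Nat.mod_eq_of_lt hp.one_lt)
    have h2 : Nat.card (Sylow p G) ≠ 1 := fun h => hP (by
      rw [P.card_eq_index_normalizer, Subgroup.index_eq_one] at h
      exact Subgroup.normalizer_eq_top_iff.1 h)
    by_contra hc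
    rcases Nat.lt_or_eq_of_le (show Nat.card (Sylow p G) ≤ p by omega) with h | h
    · exact h2 ((Nat.mod_eq_of_lt h).symm.trans h1)
    · rw [h, Nat.mod_self] at h1
      exact absurd h1 zero_ne_one
  obtain ⟨k, hk⟩ := IsPGroup.iff_card.1 P.2
  have hk1 : k = 1 := by
    rcases Nat.lt_or_ge k 2 with h | h
    · rcases Nat.eq_zero_or_pos k with h0 | h0
      · exfalso
        have := P.dvd_card_of_dvd_card hdvd
        rw [hk, h0, pow_zero] at this
        exact hp.not_dvd_one this
      · omega
    · exfalso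
      have h3 : Nat.card (Sylow p G) ≤ (P : Subgroup G).index :=
        Nat.le_of_dvd (Nat.pos_of_ne_zero Subgroup.index_ne_zero_of_finite) P.card_dvd_index
      have h4 : p ^ 2 ≤ p ^ k := Nat.pow_le_pow_right hp.pos h
      have h5 : p ^ 2 * (p + 1) ≤ Nat.card G := by
        rw [← hmulG]
        exact Nat.mul_le_mul (hk ▸ h4) (hnp.trans h3)
      nlinarith
  have hPc : Nat.card (P : Subgroup G) = p := by rw [hk, hk1, pow_one]
  -- the normal closure of `P`
  set M : Subgroup G := Subgroup.normalClosure (P : Set G) with hM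
  have hPM : (P : Subgroup G) ≤ M := Subgroup.subset_normalClosure
  have hMdvd : p ∣ Nat.card M := hPc ▸ Subgroup.card_dvd_of_le hPM
  have hMall : ∀ N : Subgroup M, N.Normal → p ∣ Nat.card N → N = ⊤ := by
    intro N hN hNp
    obtain ⟨y, hy⟩ := exists_prime_orderOf_dvd_card' p hNp
    -- every element of `P` lies in a conjugate of `N`
    suffices hkey : ∀ x : G, ∀ hx : x ∈ M, x ^ p = 1 → (⟨x, hx⟩ : M) ∈ N by
      have hpow : ∀ x : G, x ∈ (P : Subgroup G) → x ^ p = 1 := fun x hx => by
        have h := Subgroup.orderOf_dvd_natCard _ hx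
        rw [hPc] at h
        exact orderOf_dvd_iff_pow_eq_one.1 h
      have hle : M ≤ N.map M.subtype := by
        refine (Subgroup.closure_le _).2 fun x hx => ?_
        rw [Group.mem_conjugatesOfSet_iff] at hx
        obtain ⟨a, ha, hax⟩ := hx
        obtain ⟨c, rfl⟩ := isConj_iff.1 hax
        have hxM : c * a * c⁻¹ ∈ M := (inferInstance : M.Normal).conj_mem a (hPM ha) c
        exact ⟨⟨_, hxM⟩, hkey _ hxM (by rw [conj_pow, hpow a ha, mul_one, mul_inv_cancel]), rfl⟩
      refine eq_top_iff.2 fun z _ => ?_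
      obtain ⟨w, hw, hwz⟩ := hle z.2
      rwa [← Subtype.ext hwz]
    intro x hx hxp
    obtain ⟨Q, hQ⟩ := (IsPGroup.of_card (n := 1) (G := Subgroup.zpowers (y : M))
      (by rw [Nat.card_zpowers, Subgroup.orderOf_coe, hy, pow_one])).exists_le_sylow
    have hQcard : Nat.card (Q : Subgroup M) ≤ p := by
      obtain ⟨R, hR⟩ := (Q.2.map M.subtype).exists_le_sylow
      calc Nat.card (Q : Subgroup M) = Nat.card ((Q : Subgroup M).map M.subtype) :=
            (Subgroup.card_map_of_injective M.subtype_injective).symm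
        _ ≤ Nat.card R := Subgroup.card_le_of_le hR
        _ = p := (R.card_eq_multiplicity.trans P.card_eq_multiplicity.symm).trans hPc
    have hQN : (Q : Subgroup M) ≤ N := by
      rw [← Subgroup.eq_of_le_of_card_ge hQ (by rw [Nat.card_zpowers, Subgroup.orderOf_coe, hy]; exact hQcard)]
      exact Subgroup.zpowers_le.2 y.2
    rcases (Nat.dvd_prime hp).1 (orderOf_dvd_of_pow_eq_one hxp) with h1 | h1
    · have : (⟨x, hx⟩ : M) = 1 := Subtype.ext (orderOf_eq_one_iff.1 h1)
      rw [this]; exact one_mem N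
    · obtain ⟨R, hR⟩ := (IsPGroup.of_card (n := 1) (G := Subgroup.zpowers (⟨x, hx⟩ : M))
        (by rw [Nat.card_zpowers, ← Subgroup.orderOf_coe, h1, pow_one])).exists_le_sylow
      obtain ⟨g, hg⟩ := MulAction.exists_smul_eq M Q R
      have hxR : (⟨x, hx⟩ : M) ∈ (R : Subgroup M) := hR (Subgroup.mem_zpowers _)
      rw [← hg, Sylow.coe_subgroup_smul] at hxR
      have h6 : g⁻¹ * ⟨x, hx⟩ * g ∈ (Q : Subgroup M) := by
        have h7 := Subgroup.mem_pointwise_smul_iff_inv_smul_mem.1 hxR
        simpa [MulAut.smul_def] using h7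
      have h7 := hN.conj_mem _ (hQN h6) g
      simpa [mul_assoc] using h7
  have hMperf : commutator M = ⊤ := by
    by_contra hne
    -- otherwise the image of `P` is central in a perfect quotient
    have hp' : ¬ p ∣ Nat.card (commutator M) := fun h => hne (hMall _ inferInstance h)
    set L : Subgroup G := ⁅M, M⁆ with hL
    haveI : L.Normal := Subgroup.commutator_normal M M
    have hLc : (commutator M).map M.subtype = L := by
      rw [commutator_def, Subgroup.map_commutator, ← MonoidHom.range_eq_map, Subgroup.range_subtype]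
    have hLp : ¬ p ∣ Nat.card L := by
      rwa [← hLc, Subgroup.card_map_of_injective M.subtype_injective]
    set π := QuotientGroup.mk' L
    haveI := Fintype.ofFinite (G ⧸ L)
    have hπperf : commutator (G ⧸ L) = ⊤ := by
      rw [commutator_def, ← Subgroup.map_top_of_surjective π (QuotientGroup.mk'_surjective L),
        ← Subgroup.map_commutator, ← commutator_def, hperf,
        Subgroup.map_top_of_surjective π (QuotientGroup.mk'_surjective L)]
    set P' : Sylow p (G ⧸ L) := P.mapSurjective (QuotientGroup.mk'_surjective L)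
    have hP'coe : (P' : Subgroup (G ⧸ L)) = (P : Subgroup G).map π := rfl
    have hinj : Function.Injective (π.comp (P : Subgroup G).subtype) := by
      rw [← MonoidHom.ker_eq_bot_iff, eq_bot_iff]
      intro x hx
      have hxL : (x : G) ∈ L := (QuotientGroup.eq_one_iff (x : G)).1 hx
      have h1 := Subgroup.orderOf_dvd_natCard _ hxL
      have h2 := Subgroup.orderOf_dvd_natCard _ x.2
      rw [hPc] at h2
      rcases (Nat.dvd_prime hp).1 h2 with h | h
      · exact Subtype.ext (orderOf_eq_one_iff.1 h)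
      · exact absurd (h ▸ h1) hLp
    have hP'c : Nat.card P' = p := by
      show Nat.card (P' : Subgroup (G ⧸ L)) = p
      have h := Nat.card_congr (MonoidHom.ofInjective hinj).toEquiv
      rw [MonoidHom.range_comp, Subgroup.range_subtype] at h
      rw [hP'coe, ← h]; exact hPc
    -- the image of `M` is abelian
    have hMab : ∀ a ∈ M.map π, ∀ b ∈ M.map π, a * b = b * a := by
      rintro _ ⟨a, ha, rfl⟩ _ ⟨b, hb, rfl⟩
      rw [← commutatorElement_eq_one_iff_mul_comm, ← map_commutatorElement]
      exact (QuotientGroup.eq_one_iff _).2 (Subgroup.commutator_mem_commutator ha hb)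
    haveI hP'n : (P' : Subgroup (G ⧸ L)).Normal := by
      haveI : (M.map π).Normal :=
        Subgroup.Normal.map inferInstance π (QuotientGroup.mk'_surjective L)
      have hP'M : (P' : Subgroup (G ⧸ L)) ≤ M.map π := hP'coe ▸ Subgroup.map_mono hPM
      refine Subgroup.normalizer_eq_top_iff.1 (eq_top_iff.2 fun g _ => ?_)
      suffices h : g • P' = P' from Sylow.smul_eq_iff_mem_normalizer.1 h
      have h2 : ((g • P' : Sylow p (G ⧸ L)) : Subgroup (G ⧸ L)) ≤ M.map π := by
        rw [Sylow.coe_subgroup_smul]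
        intro z hz
        rw [Subgroup.mem_pointwise_smul_iff_inv_smul_mem] at hz
        have := (inferInstance : (M.map π).Normal).conj_mem _ (hP'M hz) g
        simpa [MulAut.smul_def, mul_assoc] using this
      have hle : (P' : Subgroup (G ⧸ L)) ≤
          Subgroup.normalizer (((g • P' : Sylow p (G ⧸ L)) : Subgroup (G ⧸ L)) : Set (G ⧸ L)) := by
        intro a ha
        rw [Subgroup.mem_normalizer_iff]
        intro z
        have hcomm : ∀ z ∈ M.map π, a * z * a⁻¹ = z := fun z hz => by
          rw [hMab a (hP'M ha) z hz, mul_inv_cancel_right]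
        constructor
        · intro hz; rwa [hcomm z (h2 hz)]
        · intro hz
          have h3 : z ∈ M.map π := by
            have := (inferInstance : (M.map π).Normal).conj_mem _ (h2 hz) a⁻¹
            simpa [mul_assoc] using this
          rwa [hcomm z h3] at hz
      have hmax := (g • P').is_maximal' (IsPGroup.to_sup_of_normal_left' (g • P').isPGroup' P'.2 hle)
        le_sup_left
      refine (Sylow.ext (P'.is_maximal' (g • P').isPGroup' ?_)).symm ▸ rfl
      rw [← hmax]; exact le_sup_right
    have he := BrauerReynolds7.two_le_relIndex hπperf P' hP'c rfl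
    suffices hcent : Subgroup.centralizer ((P' : Subgroup (G ⧸ L)) : Set (G ⧸ L)) = ⊤ by
      rw [hcent, Subgroup.relIndex_top_left] at he
      omega
    haveI : IsCyclic (P' : Subgroup (G ⧸ L)) := isCyclic_of_prime_card (p := p) hP'c
    letI : CommGroup (MulAut (P' : Subgroup (G ⧸ L))) :=
      { (inferInstance : Group (MulAut (P' : Subgroup (G ⧸ L)))) with
        mul_comm := fun a b => (IsCyclic.mulAutMulEquiv (P' : Subgroup (G ⧸ L))).injective
          (by rw [map_mul, map_mul, mul_comm]) }
    refine eq_top_iff.2 fun g _ => Subgroup.mem_centralizer_iff.2 fun y hy => ?_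
    have h1 := BrauerReynolds7.perfect_hom_eq_one hπperf
      (MulAut.conjNormal (H := (P' : Subgroup (G ⧸ L))) : G ⧸ L →* _) g
    have h2 := congrArg Subtype.val (DFunLike.congr_fun h1 (⟨y, hy⟩ : (P' : Subgroup (G ⧸ L))))
    rw [MulAut.conjNormal_apply, MulAut.one_apply, mul_inv_eq_iff_eq_mul] at h2
    exact h2.symm
  have hMbig : Nat.card M < p ^ 3 := (Subgroup.card_le_card_group M).trans_lt hbig
  -- `M` is the whole group
  have hMtop : M = ⊤ := by
    obtain ⟨K, hK, hQ⟩ := exists_quotient hMperf hMdvd hMbig hMall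
    have hx : M.index * Nat.card K < 3 := mul_lt_three hQ (by
      calc M.index * Nat.card K * Nat.card (↥M ⧸ K)
          = M.index * (Nat.card (↥M ⧸ K) * Nat.card K) := by ring
        _ = M.index * Nat.card M := by rw [← Subgroup.card_eq_card_quotient_mul_card_subgroup K]
        _ = Nat.card G := M.index_mul_card
        _ < p ^ 3 := hbig)
    have hle : M.index ≤ M.index * Nat.card K := Nat.le_mul_of_pos_right _ Nat.card_pos
    by_contra hne
    have h2i : M.index = 2 := by
      have := Subgroup.one_lt_index_of_ne_top hne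
      omega
    haveI : M.Normal := Subgroup.normalClosure_normal
    have hc : IsCyclic (G ⧸ M) := isCyclic_of_prime_card (p := 2) h2i
    letI : CommGroup (G ⧸ M) := IsCyclic.commGroup
    exact hne (eq_top_iff.2 fun y _ => (QuotientGroup.eq_one_iff y).1
      (BrauerReynolds7.perfect_hom_eq_one hperf (QuotientGroup.mk' M) y))
  have hall : ∀ N : Subgroup G, N.Normal → p ∣ Nat.card N → N = ⊤ := by
    intro N hN hNp
    have h1 : N.subgroupOf M = ⊤ := hMall _ inferInstance (by
      rwa [Nat.card_congr (Subgroup.subgroupOfEquivOfLe (hMtop ▸ le_top : N ≤ M)).toEquiv])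
    rw [Subgroup.subgroupOf_eq_top, hMtop] at h1
    exact top_le_iff.1 h1
  obtain ⟨K, hK, hQ⟩ := exists_quotient hperf hdvd hbig hall
  have hx : Nat.card K < 3 := mul_lt_three hQ (by
    rw [mul_comm, ← Subgroup.card_eq_card_quotient_mul_card_subgroup K]; exact hbig)
  have hKbot : K = ⊥ := by
    refine Subgroup.card_eq_one.1 ?_
    have : 0 < Nat.card K := Nat.card_pos
    have := h2 K hK
    omega
  subst hKbot
  rcases hQ with ⟨F, hF, hFf, hc, h3, ⟨e⟩⟩ | ⟨m, F, hF, hFf, hc, hpm, h3, ⟨e⟩⟩
  · exact Or.inl ⟨F, hF, hFf, hc, h3, ⟨QuotientGroup.quotientBot.symm.trans e⟩⟩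
  · refine Or.inr ⟨m, F, hF, hFf, hc, hpm, h3, ⟨QuotientGroup.quotientBot.symm.trans (e.trans ?_)⟩⟩
    letI := hF; letI := hFf
    have hbot : Subgroup.center (Matrix.SpecialLinearGroup (Fin 2) F) = ⊥ := by
      refine Subgroup.card_eq_one.1 ?_
      have h1 := Subgroup.card_eq_card_quotient_mul_card_subgroup
        (Subgroup.center (Matrix.SpecialLinearGroup (Fin 2) F))
      have h4 := PSLCard.card_PSL2_mul (F := F)
      have hg : Nat.gcd 2 (Nat.card F - 1) = 1 := by
        rw [Nat.card_eq_fintype_card, hc]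
        refine (Nat.prime_two.coprime_iff_not_dvd).2 fun h2 => ?_
        have h5 : 2 ∣ 2 ^ m := dvd_pow_self 2 (by rintro rfl; omega)
        have h6 : 1 ≤ 2 ^ m := Nat.one_le_two_pow
        omega
      rw [hg, one_mul] at h4
      rw [PSLCard.card_SL2] at h1
      exact Nat.eq_of_mul_eq_mul_left (Nat.card_pos (α := Matrix.ProjectiveSpecialLinearGroup (Fin 2) F))
        (by rw [mul_one]; exact (h4.trans h1).symm)
    exact (QuotientGroup.quotientMulEquivOfEq hbot).trans QuotientGroup.quotientBot

end Cfsg.Agent.S4701
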