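import Cfsg.Statements.S4702
import Cfsg.Agent.S1230
import Cfsg.Agent.Lib.PSL2Small

set_option autoImplicit false
set_option linter.style.haveILetI false
set_option linter.unusedSectionVars false
open Cfsg

namespace Cfsg.Agent.S4702

open MulAction

section Sharp3

variable {α : Type*} [Fintype α] [DecidableEq α] {G : Subgroup (Equiv.Perm α)}

/-- Sharp triple transitivity. -/
def Sharp (G : Subgroup (Equiv.Perm α)) : Prop :=
  MulAction.IsMultiplyPretransitive G α 3 ∧
    ∀ g : G, 3 ≤ Nat.card (MulAction.fixedBy α g) → g = 1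

def emb {a b c : α} (hab : a ≠ b) (hac : a ≠ c) (hbc : b ≠ c) : Fin 3 ↪ α where
  toFun := ![a, b, c]
  inj' i j h := by fin_cases i <;> fin_cases j <;> simp_all [eq_comm]

theorem exists_map (h : Sharp G) {a b c a' b' c' : α} (hab : a ≠ b) (hac : a ≠ c) (hbc : b ≠ c)
    (hab' : a' ≠ b') (hac' : a' ≠ c') (hbc' : b' ≠ c') :
    ∃ g : G, g • a = a' ∧ g • b = b' ∧ g • c = c' := by
  obtain ⟨g, hg⟩ := h.1.exists_smul_eq (emb hab hac hbc) (emb hab' hac' hbc')
  exact ⟨g, congrArg (fun e : Fin 3 ↪ α => e 0) hg, congrArg (fun e : Fin 3 ↪ α => e 1) hg,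
    congrArg (fun e : Fin 3 ↪ α => e 2) hg⟩

theorem eq_one_of_fix (h : Sharp G) {g : G} {a b c : α} (hab : a ≠ b) (hac : a ≠ c) (hbc : b ≠ c)
    (ha : g • a = a) (hb : g • b = b) (hc : g • c = c) : g = 1 := by
  refine h.2 g ?_
  calc 3 = Nat.card (Fin 3) := by simp
    _ ≤ Nat.card (MulAction.fixedBy α g) := Nat.card_le_card_of_injective
      (fun i => ⟨emb hab hac hbc i, by fin_cases i <;> simpa [MulAction.mem_fixedBy, emb]⟩)
      (fun i j e => (emb hab hac hbc).injective (congrArg Subtype.val e))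

theorem eq_of_agree (h : Sharp G) {g k : G} {a b c : α} (hab : a ≠ b) (hac : a ≠ c) (hbc : b ≠ c)
    (ha : g • a = k • a) (hb : g • b = k • b) (hc : g • c = k • c) : g = k := by
  have := eq_one_of_fix h (g := k⁻¹ * g) hab hac hbc (by rw [mul_smul, ha, inv_smul_smul])
    (by rw [mul_smul, hb, inv_smul_smul]) (by rw [mul_smul, hc, inv_smul_smul])
  exact (inv_mul_eq_one.1 this).symm

theorem inv_smul_involution {s : G} (hs : s * s = 1) (x : α) : s • s • x = x := by
  rw [← mul_smul, hs, one_smul]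

/-- An involution fixes exactly one point. -/
theorem unique_fixed (h : Sharp G) (hodd : Odd (Fintype.card α)) {s : G} (hs : orderOf s = 2) :
    ∃ a : α, ∀ x : α, s • x = x ↔ x = a := by
  classical
  have : Fact (Nat.Prime 2) := ⟨Nat.prime_two⟩
  have hP : IsPGroup 2 (Subgroup.zpowers s) :=
    IsPGroup.of_card (n := 1) (by rw [Nat.card_zpowers, hs, pow_one])
  have hmod := hP.card_modEq_card_fixedPoints α
  have heq : MulAction.fixedPoints (Subgroup.zpowers s) α = MulAction.fixedBy α s := by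
    ext x
    refine ⟨fun hx => hx ⟨s, Subgroup.mem_zpowers s⟩, ?_⟩
    rintro hx ⟨_, k, rfl⟩
    exact (MulAction.stabilizer G x).zpow_mem (MulAction.mem_stabilizer_iff.2 hx) k
  rw [heq, Nat.card_eq_fintype_card] at hmod
  have hoddF : Nat.card (MulAction.fixedBy α s) % 2 = 1 := by
    have := Nat.odd_iff.1 hodd
    unfold Nat.ModEq at hmod
    omega
  have hlt : Nat.card (MulAction.fixedBy α s) < 3 := by
    by_contra hge
    have := h.2 s (by omega)
    rw [this, orderOf_one] at hs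
    omega
  obtain ⟨hsub, ⟨⟨a, ha⟩⟩⟩ := Nat.card_eq_one_iff_unique.1
    (show Nat.card (MulAction.fixedBy α s) = 1 by omega)
  exact ⟨a, fun x => ⟨fun hx => congrArg Subtype.val (hsub.elim (⟨x, hx⟩ : MulAction.fixedBy α s) ⟨a, ha⟩),
    fun hx => hx ▸ ha⟩⟩

/-- The elements of the kernel at `a`. -/
def InN (G : Subgroup (Equiv.Perm α)) (a : α) (g : G) : Prop := g • a = a ∧ g * g = 1

theorem card_G (h : Sharp G) (hm : 3 ≤ Fintype.card α) :
    Nat.card G = Fintype.card α * (Fintype.card α - 1) * (Fintype.card α - 2) := by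
  obtain ⟨e⟩ : Nonempty (Fin 3 ↪ α) := Function.Embedding.nonempty_of_card_le (by simpa using hm)
  have hbij : Function.Bijective (fun g : G => g • e) := by
    refine ⟨fun g k hgk => ?_, fun e' => h.1.exists_smul_eq e e'⟩
    have hne : ∀ i j : Fin 3, i ≠ j → e i ≠ e j := fun i j hij he => hij (e.injective he)
    exact eq_of_agree h (hne 0 1 (by decide)) (hne 0 2 (by decide)) (hne 1 2 (by decide))
      (congrArg (fun f : Fin 3 ↪ α => f 0) hgk) (congrArg (fun f : Fin 3 ↪ α => f 1) hgk)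
      (congrArg (fun f : Fin 3 ↪ α => f 2) hgk)
  rw [Nat.card_congr (Equiv.ofBijective _ hbij), Nat.card_eq_fintype_card,
    Fintype.card_embedding_eq, Fintype.card_fin]
  simp [Nat.descFactorial]
  ring

theorem card_ne_two (a b : α) (hab : a ≠ b) :
    Nat.card {x : α // x ≠ a ∧ x ≠ b} = Fintype.card α - 2 := by
  rw [Nat.card_eq_fintype_card, Fintype.card_subtype]
  have : (Finset.univ.filter fun x : α => x ≠ a ∧ x ≠ b) = (Finset.univ.erase a).erase b := by
    ext x; simp [and_comm]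
  rw [this, Finset.card_erase_of_mem (by simp [hab.symm]), Finset.card_erase_of_mem (by simp), Finset.card_univ]
  omega

theorem card_pair_stab (h : Sharp G) {a b c : α} (hab : a ≠ b) (hca : c ≠ a) (hcb : c ≠ b) :
    Nat.card {g : G // g • a = a ∧ g • b = b} = Fintype.card α - 2 := by
  rw [← card_ne_two a b hab]
  refine Nat.card_congr (Equiv.ofBijective (fun g => ⟨g.1 • c, ?_, ?_⟩) ⟨?_, ?_⟩)
  · intro e
    exact hca (MulAction.injective g.1 (e.trans g.2.1.symm))
  · intro e
    exact hcb (MulAction.injective g.1 (e.trans g.2.2.symm))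
  · intro g k e
    exact Subtype.ext (eq_of_agree h hab hca.symm hcb.symm (g.2.1.trans k.2.1.symm)
      (g.2.2.trans k.2.2.symm) (congrArg Subtype.val e))
  · rintro ⟨x, hxa, hxb⟩
    obtain ⟨g, g1, g2, g3⟩ := exists_map h hab hca.symm hcb.symm hab hxa.symm hxb.symm
    exact ⟨⟨g, g1, g2⟩, Subtype.ext g3⟩

variable (hodd : Odd (Fintype.card α))
include hodd

theorem order_two {g : G} (hg : g ≠ 1) (h : g * g = 1) : orderOf g = 2 :=
  orderOf_eq_prime (by rwa [pow_two]) hg

theorem fix_of_inN (h : Sharp G) {a x : α} {g : G} (hg : InN G a g) (hg1 : g ≠ 1)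
    (hx : g • x = x) : x = a := by
  obtain ⟨a', ha'⟩ := unique_fixed h hodd (order_two hodd hg1 hg.2)
  rw [(ha' x).1 hx, (ha' a).1 hg.1]

theorem inN_bijective (h : Sharp G) {a b : α} (hab : a ≠ b) :
    Function.Bijective (fun g : {g : G // InN G a g} => (⟨g.1 • b, fun e => hab
      (MulAction.injective g.1 (g.2.1.trans e.symm))⟩ : {x : α // x ≠ a})) := by
  refine ⟨fun g k e => Subtype.ext ?_, ?_⟩
  · have e' : g.1 • b = k.1 • b := congrArg Subtype.val e
    by_cases hgb : g.1 • b = b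
    · have h1 : g.1 = 1 := by
        by_contra hne
        exact hab (fix_of_inN hodd h g.2 hne hgb).symm
      have h2 : k.1 = 1 := by
        by_contra hne
        exact hab (fix_of_inN hodd h k.2 hne (e'.symm.trans hgb)).symm
      rw [h1, h2]
    · refine eq_of_agree h (a := a) (b := b) (c := g.1 • b) hab
        (fun e => hab (MulAction.injective g.1 (g.2.1.trans e))) (Ne.symm hgb)
        (g.2.1.trans k.2.1.symm) e' ?_
      rw [inv_smul_involution g.2.2, e', inv_smul_involution k.2.2]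
  · rintro ⟨x, hx⟩
    by_cases hxb : x = b
    · exact ⟨⟨1, one_smul _ _, one_mul _⟩, Subtype.ext (by simp [hxb])⟩
    obtain ⟨g, g1, g2, g3⟩ := exists_map h hab hx.symm (Ne.symm hxb) hx.symm hab hxb
    refine ⟨⟨g, g1, eq_one_of_fix h hab hx.symm (Ne.symm hxb) ?_ ?_ ?_⟩, Subtype.ext g2⟩
    · rw [mul_smul, g1, g1]
    · rw [mul_smul, g2, g3]
    · rw [mul_smul, g3, g2]

theorem card_inN (h : Sharp G) {a b : α} (hab : a ≠ b) :
    Nat.card {g : G // InN G a g} = Fintype.card α - 1 := by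
  rw [Nat.card_congr (Equiv.ofBijective _ (inN_bijective hodd h hab)), Nat.card_eq_fintype_card,
    Fintype.card_subtype_compl, Fintype.card_subtype_eq]

/-- An element fixing `a` only is an involution. -/
theorem inN_of_fix_only (h : Sharp G) (hm : 3 ≤ Fintype.card α) {a : α} {g : G} (ha : g • a = a)
    (hx : ∀ x : α, g • x = x → x = a) : InN G a g := by
  classical
  set n := Fintype.card α with hn
  let A := {s : G // InN G a s ∧ s ≠ 1}
  let B := Σ b : {b : α // b ≠ a}, {v : G // (v • a = a ∧ v • b.1 = b.1) ∧ v ≠ 1}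
  let C := {k : G // k • a = a ∧ k ≠ 1}
  obtain ⟨b, hb⟩ := Fintype.exists_ne_of_one_lt_card (show 1 < Fintype.card α by omega) a
  have hsub : ∀ (P : G → Prop), P 1 →
      Nat.card {s : G // P s ∧ s ≠ 1} = Nat.card {s : G // P s} - 1 := by
    intro P hP
    rw [Nat.card_eq_fintype_card, Nat.card_eq_fintype_card, Fintype.card_subtype, Fintype.card_subtype,
      ← Finset.card_erase_of_mem (s := Finset.univ.filter P) (by simp [hP] : (1 : G) ∈ _)]
    congr 1
    ext s; simp [and_comm]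
  have hA : Nat.card A = n - 2 := by
    rw [show Nat.card A = _ from hsub _ ⟨one_smul _ _, one_mul _⟩, card_inN hodd h hb.symm]
    omega
  have hB : Nat.card B = (n - 1) * (n - 3) := by
    have hfib : ∀ b : {b : α // b ≠ a},
        Nat.card {v : G // (v • a = a ∧ v • b.1 = b.1) ∧ v ≠ 1} = n - 3 := by
      intro b
      obtain ⟨c, hc⟩ : Nonempty {x : α // x ≠ a ∧ x ≠ b.1} := by
        refine (Nat.card_pos_iff.1 ?_).1
        rw [card_ne_two a b.1 b.2.symm]
        omega
      rw [hsub (fun v => v • a = a ∧ v • b.1 = b.1) ⟨one_smul _ _, one_smul _ _⟩,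
        card_pair_stab h b.2.symm hc.1 hc.2]
      omega
    rw [Nat.card_sigma, Finset.sum_congr rfl (fun b _ => hfib b), Finset.sum_const, Finset.card_univ,
      smul_eq_mul, Fintype.card_subtype_compl, Fintype.card_subtype_eq]
  have hC : Nat.card C = (n - 1) * (n - 2) - 1 := by
    rw [show Nat.card C = _ from hsub _ (one_smul _ _)]
    congr 1
    have htr : MulAction.IsPretransitive G α := by
      have := h.1
      exact MulAction.is_one_pretransitive_iff.1
        (MulAction.isMultiplyPretransitive_of_le' (n := 3) (by norm_num)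
          (by rw [ENat.card_eq_coe_fintype_card]; exact_mod_cast hm))
    have h1 := (MulAction.stabilizer G a).card_mul_index
    rw [MulAction.index_stabilizer_of_transitive, card_G h hm, Nat.card_eq_fintype_card (α := α)] at h1
    have h2 : Nat.card {k : G // k • a = a} = Nat.card (MulAction.stabilizer G a) := rfl
    rw [h2]
    refine Nat.eq_of_mul_eq_mul_right (show 0 < n by omega) (h1.trans ?_)
    ring
  let f : A ⊕ B → C := Sum.elim (fun s => ⟨s.1, s.2.1.1, s.2.2⟩) (fun v => ⟨v.2.1, v.2.2.1.1, v.2.2.2⟩)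
  have hinj : Function.Injective f := by
    rintro (s | ⟨b, v⟩) (t | ⟨c, w⟩) e
    · exact congrArg Sum.inl (Subtype.ext (congrArg (fun k : C => k.1) e))
    · have e' : s.1 = w.1 := congrArg (fun k : C => k.1) e
      exact (c.2 (fix_of_inN hodd h s.2.1 s.2.2 (e' ▸ w.2.1.2))).elim
    · have e' : v.1 = t.1 := congrArg (fun k : C => k.1) e
      exact (b.2 (fix_of_inN hodd h t.2.1 t.2.2 (e' ▸ v.2.1.2))).elim
    · have e' : v.1 = w.1 := congrArg (fun k : C => k.1) e
      have hbc : b = c := by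
        by_contra hne
        exact v.2.2 (eq_one_of_fix h b.2.symm c.2.symm (fun e => hne (Subtype.ext e)) v.2.1.1
          v.2.1.2 (e' ▸ w.2.1.2))
      subst hbc
      obtain rfl : v = w := Subtype.ext e'
      rfl
  have hcard : Nat.card (A ⊕ B) = Nat.card C := by
    rw [Nat.card_sum, hA, hB, hC]
    obtain ⟨k, hk⟩ : ∃ k, n = k + 3 := ⟨n - 3, by omega⟩
    rw [hk, show k + 3 - 1 = k + 2 by omega, show k + 3 - 2 = k + 1 by omega,
      show k + 3 - 3 = k by omega]
    rw [show (k + 2) * (k + 1) = (k + 1 + (k + 2) * k) + 1 by ring]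
    omega
  by_cases hg : g = 1
  · exact ⟨ha, by rw [hg, one_mul]⟩
  obtain ⟨z, hz⟩ := ((Nat.bijective_iff_injective_and_card f).2 ⟨hinj, hcard⟩).2 ⟨g, ha, hg⟩
  rcases z with s | ⟨b, v⟩
  · have e : s.1 = g := congrArg (fun k : C => k.1) hz
    exact e ▸ s.2.1
  · have e : v.1 = g := congrArg (fun k : C => k.1) hz
    exact (b.2 (hx b.1 (e ▸ v.2.1.2))).elim

theorem inN_mul (h : Sharp G) (hm : 3 ≤ Fintype.card α) {a : α} {s t : G} (hs : InN G a s)
    (ht : InN G a t) : InN G a (s * t) := by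
  by_cases hst : s = t
  · subst hst; rw [hs.2]; exact ⟨one_smul _ _, one_mul _⟩
  refine inN_of_fix_only hodd h hm (by rw [mul_smul, ht.1, hs.1]) fun x hx => ?_
  by_contra hxa
  rw [mul_smul] at hx
  have e : t • x = s • x := by
    have := congrArg (fun y => s • y) hx
    simpa only [inv_smul_involution hs.2] using this
  exact hst (congrArg Subtype.val ((inN_bijective hodd h (Ne.symm hxa)).1
    (a₁ := ⟨s, hs⟩) (a₂ := ⟨t, ht⟩) (Subtype.ext e.symm)))

omit hodd in
theorem card_eq_two_pow {H : Type*} [Group H] [Finite H] (h : ∀ x : H, x * x = 1) :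
    ∃ a : ℕ, Nat.card H = 2 ^ a := by
  have : Fact (Nat.Prime 2) := ⟨Nat.prime_two⟩
  exact IsPGroup.iff_card.1 fun x => ⟨1, by rw [pow_one, pow_two, h]⟩


end Sharp3

theorem result {α : Type*} [Fintype α] [DecidableEq α] (hm : 3 ≤ Fintype.card α) (hodd : Odd (Fintype.card α)) (G : Subgroup (Equiv.Perm α)) (h3 : MulAction.IsMultiplyPretransitive G α 3) (hfix : ∀ g : G, 3 ≤ Nat.card (MulAction.fixedBy α g) → g = 1) : ∃ a : ℕ, 1 ≤ a ∧ Fintype.card α = 2 ^ a + 1 ∧ ∃ (F : Type) (_ : Field F) (_ : Fintype F), Fintype.card F = 2 ^ a ∧ Nonempty (G ≃* Matrix.SpecialLinearGroup (Fin 2) F) := by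
  classical
  have h : Sharp G := ⟨h3, hfix⟩
  obtain ⟨a, -, -⟩ := Fintype.two_lt_card_iff.1 (show 2 < Fintype.card α by omega)
  obtain ⟨b, hb⟩ := Fintype.exists_ne_of_one_lt_card (show 1 < Fintype.card α by omega) a
  let N : Subgroup G :=
    { carrier := {g | InN G a g}
      one_mem' := ⟨one_smul _ _, one_mul _⟩
      mul_mem' := fun hs ht => inN_mul hodd h hm hs ht
      inv_mem' := fun {g} hg => by
        have : g⁻¹ = g := inv_eq_of_mul_eq_one_right hg.2
        show InN G a g⁻¹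
        rw [this]; exact hg }
  have hNcard : Nat.card N = Fintype.card α - 1 := card_inN hodd h hb.symm
  obtain ⟨k, hk⟩ := card_eq_two_pow (H := N) fun x => Subtype.ext x.2.2
  have hn : Fintype.card α = 2 ^ k + 1 := by omega
  have hk1 : 1 ≤ k := by
    by_contra h0
    rw [show k = 0 by omega] at hn
    omega
  refine ⟨k, hk1, hn, ?_⟩
  rcases Nat.eq_or_lt_of_le hk1 with hk2 | hk2
  · subst hk2
    norm_num at hn
    haveI : Fact (Nat.Prime 2) := ⟨Nat.prime_two⟩
    refine ⟨ZMod 2, inferInstance, inferInstance, by simp, ?_⟩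
    obtain ⟨e⟩ := PSL2Small.sl2_two (ZMod 2) (by simp)
    have hG : G = ⊤ := Subgroup.eq_top_of_card_eq G (by
      rw [card_G h hm, Nat.card_perm, Nat.card_eq_fintype_card, hn]; rfl)
    exact ⟨(MulEquiv.subgroupCongr hG).trans (Subgroup.topEquiv.trans
      ((Fintype.equivFinOfCardEq hn).permCongrHom.trans e.symm))⟩
  have h2 : Fact (Nat.Prime 2) := ⟨Nat.prime_two⟩
  have hev : Even (2 ^ k) := (Nat.even_pow).2 ⟨even_two, by omega⟩
  have h4 : 4 ≤ 2 ^ k := le_trans (by norm_num) (Nat.pow_le_pow_right two_pos hk2)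
  have hidx : ¬ 2 ∣ N.index := by
    have h1 := N.card_mul_index
    rw [hk, card_G h hm, hn] at h1
    obtain ⟨j, hj⟩ : ∃ j, 2 ^ k = 2 * j + 2 := by
      obtain ⟨j, hj⟩ := hev
      exact ⟨j - 1, by omega⟩
    have : N.index = (2 ^ k + 1) * (2 ^ k + 1 - 2) := by
      refine Nat.eq_of_mul_eq_mul_left (show 0 < 2 ^ k by omega) (h1.trans ?_)
      rw [Nat.add_sub_cancel]; ring
    rw [this, hj, show 2 * j + 2 + 1 - 2 = 2 * j + 1 by omega, ← even_iff_two_dvd, Nat.even_mul]
    rintro (⟨r, hr⟩ | ⟨r, hr⟩) <;> omega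
  let T : Sylow 2 G := (IsPGroup.of_card hk).toSylow hidx
  have hT : (T : Subgroup G) = N := rfl
  have hnc : ¬ IsCyclic (T : Subgroup G) := by
    rw [hT]
    intro hc
    obtain ⟨x, hx⟩ := hc.exists_ofOrder_eq_natCard
    have : orderOf x ∣ 2 := orderOf_dvd_of_pow_eq_one (Subtype.ext (by rw [pow_two]; exact x.2.2))
    rw [hx, hk] at this
    have := Nat.le_of_dvd two_pos this
    omega
  have hnn : ¬ (T : Subgroup G).Normal := by
    rw [hT]
    intro hnorm
    obtain ⟨⟨c, hca, hcb⟩⟩ : Nonempty {x : α // x ≠ a ∧ x ≠ b} := by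
      refine (Nat.card_pos_iff.1 ?_).1
      rw [card_ne_two a b hb.symm]
      omega
    obtain ⟨g, g1, -, -⟩ := exists_map h hb.symm hca.symm hcb.symm hb hcb.symm hca.symm
    obtain ⟨⟨s, hs⟩, hs'⟩ := (inN_bijective hodd h hb.symm).2 ⟨c, hca⟩
    have hs1 : s ≠ 1 := by
      rintro rfl
      exact hcb ((congrArg Subtype.val hs').symm.trans (one_smul G b))
    have hmem := hnorm.conj_mem s hs g
    have hfb : (g * s * g⁻¹) • b = b := by
      rw [← g1, mul_smul, inv_smul_smul, mul_smul, hs.1]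
    exact hb (fix_of_inN hodd h hmem (fun e => hs1 (by simpa using e)) hfb)
  have hC : ∀ t : G, orderOf t = 2 → IsMulCommutative (Subgroup.centralizer ({t} : Set G)) ∧
      ∀ c ∈ Subgroup.centralizer ({t} : Set G), c ^ 2 = 1 := by
    intro t ht
    have hsq : ∀ c ∈ Subgroup.centralizer ({t} : Set G), c * c = 1 := by
      intro c hc
      rw [Subgroup.mem_centralizer_singleton_iff] at hc
      obtain ⟨a', ha'⟩ := unique_fixed h hodd ht
      have hca : c • a' = a' := (ha' _).1 (by rw [← mul_smul, ← hc, mul_smul, (ha' a').2 rfl])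
      by_cases hc1 : c = 1
      · rw [hc1, one_mul]
      refine (inN_of_fix_only hodd h hm hca fun x hx => ?_).2
      by_contra hxa
      exact hc1 (eq_one_of_fix h (Ne.symm hxa)
        (fun e : a' = t • x => hxa (MulAction.injective t (e.symm.trans ((ha' a').2 rfl).symm)))
        (fun e : x = t • x => hxa ((ha' x).1 e.symm)) hca hx (by rw [← mul_smul, hc, mul_smul, hx]))
    refine ⟨⟨⟨fun x y => Subtype.ext ?_⟩⟩, fun c hc => by rw [pow_two, hsq c hc]⟩
    have hi : ∀ c ∈ Subgroup.centralizer ({t} : Set G), c⁻¹ = c := fun c hc =>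
      inv_eq_of_mul_eq_one_right (hsq c hc)
    calc (x : G) * y = ((x : G) * y)⁻¹ := (hi _ (mul_mem x.2 y.2)).symm
      _ = (y : G)⁻¹ * (x : G)⁻¹ := mul_inv_rev _ _
      _ = y * x := by rw [hi _ x.2, hi _ y.2]
  obtain ⟨F, hF, hfin, hcard, ⟨e⟩⟩ := S1230.result T hnc hnn hC
  rw [hT, hk] at hcard
  have hcen : Subgroup.center (Matrix.SpecialLinearGroup (Fin 2) F) = ⊥ := by
    refine Subgroup.card_eq_one.1 ?_
    rw [PSLCard.card_center_SL, Nat.card_eq_fintype_card, hcard]
    exact Nat.coprime_two_left.2 (by obtain ⟨j, hj⟩ := hev; exact ⟨j - 1, by omega⟩)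
  exact ⟨F, hF, hfin, hcard, ⟨e.trans ((QuotientGroup.quotientMulEquivOfEq hcen).trans
    QuotientGroup.quotientBot)⟩⟩

end Cfsg.Agent.S4702
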