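import Cfsg.Statements.S4705
import Cfsg.Agent.S4700
import Cfsg.Agent.Lib.DefectTwoIndex63
import Cfsg.Agent.Lib.SmallDegree63Center
import Cfsg.Agent.Lib.SmallDegree63Structure

set_option autoImplicit false
open Cfsg

namespace Cfsg.Agent.S4705
open BrauerReynolds7 SmallDegree63

universe u

/-- The perfect case with trivial centre is the group `SL₂(2 ^ a)`. -/
theorem sl_of_center_bot {L : Type u} [Group L] [Fintype L] {p : ℕ} [Fact p.Prime] (hp7 : 7 ≤ p)
    (hperf : commutator L = ⊤) (P : Sylow p L) (hP : Nat.card P = p)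
    (hC : Subgroup.centralizer ((P : Subgroup L) : Set L) = (P : Subgroup L))
    (he : (Subgroup.centralizer ((P : Subgroup L) : Set L)).relIndex
      (Subgroup.normalizer ((P : Subgroup L) : Set L)) = 2)
    (hcore : ∀ K : Subgroup L, K.Normal → ¬ p ∣ Nat.card K → K = ⊥)
    (χ : IrrCharacter L) (hdeg : charDegree (χ : L → ℂ) = p - 2) :
    ∃ (a : ℕ) (F : Type) (_ : Field F) (_ : Fintype F), p = 2 ^ a + 1 ∧ Fintype.card F = 2 ^ a ∧
      Nonempty (L ≃* Matrix.SpecialLinearGroup (Fin 2) F) := by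
  classical
  have hp := (Fact.out : p.Prime)
  obtain ⟨X, Y, a, ε, B⟩ := exists_blk hP 2 he
  obtain ⟨n, hn⟩ : ∃ n, Nat.card (Sylow p L) = 1 + n * p := by
    have h1 : Nat.card (Sylow p L) % p = 1 :=
      Eq.trans (card_sylow_modEq_one p L) (Nat.mod_eq_of_lt hp.one_lt)
    refine ⟨Nat.card (Sylow p L) / p, ?_⟩
    have h2 := Nat.mod_add_div (Nat.card (Sylow p L)) p
    rw [h1, mul_comm] at h2
    exact h2.symm
  have hY : χ ∈ Y := by
    by_contra hY
    by_cases hX : χ ∈ X
    · have h1 := (B.congrX χ hX).dvd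
      rw [hdeg] at h1
      rcases B.signX χ hX with ha | ha <;> rw [ha] at h1
      · have h3 : (p : ℤ) ∣ 3 := by
          have := dvd_add h1 (dvd_refl (p : ℤ))
          rwa [show (1 : ℤ) - ((p - 2 : ℕ) : ℤ) + (p : ℤ) = 3 by omega] at this
        have := Int.le_of_dvd (by norm_num) h3
        omega
      · have h3 : (p : ℤ) ∣ 1 := by
          have := dvd_add h1 (dvd_refl (p : ℤ))
          rwa [show (-1 : ℤ) - ((p - 2 : ℕ) : ℤ) + (p : ℤ) = 1 by omega] at this
        have := Int.le_of_dvd (by norm_num) h3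
        omega
    · obtain ⟨c, hc⟩ := BrauerReynolds7.exists_nat_avg (P : Subgroup L)
        (CharBasic.isCharacter_of_isIrrCharacter χ.2)
      rw [sum_els_P, Finset.sum_eq_zero fun y hy => vanish B hP hC he hX hY hy, add_zero,
        ClassAlgebraVal.apply_one_eq_charDegree, hdeg,
        show Nat.card (P : Subgroup L) = p from hP] at hc
      have hd : p ∣ p - 2 := ⟨c, by exact_mod_cast hc⟩
      have := Nat.le_of_dvd (by omega) hd
      omega
  have hε : ε = -1 := by
    refine B.sign.resolve_left fun h => ?_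
    have h1 := (B.congrY χ hY).dvd
    rw [hdeg, h, one_mul] at h1
    have h3 : (p : ℤ) ∣ 4 := by
      have := dvd_add h1 (dvd_refl (p : ℤ))
      rwa [show ((2 : ℕ) : ℤ) - ((p - 2 : ℕ) : ℤ) + (p : ℤ) = 4 by omega] at this
    have := Int.le_of_dvd (by norm_num) h3
    omega
  obtain ⟨θ, hθne, hX⟩ : ∃ θ, BlockPrincipal81.oneChar L ≠ θ ∧
      X = {BlockPrincipal81.oneChar L, θ} := by
    obtain ⟨A, A', hAA, hX⟩ := Finset.card_eq_two.1 B.cardX
    have h1 := B.one_mem
    rw [hX, Finset.mem_insert, Finset.mem_singleton] at h1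
    rcases h1 with h | h
    · exact ⟨A', h ▸ hAA, h ▸ hX⟩
    · exact ⟨A, h ▸ hAA.symm, by rw [h, hX, Finset.pair_comm]⟩
  have hθX : θ ∈ X := by rw [hX]; simp
  have hθdeg : charDegree (θ : L → ℂ) = p - 1 := by
    have h := B.regular χ hY 1 (by rw [orderOf_one, Nat.dvd_one]; exact hp.ne_one)
    rw [hX, Finset.sum_pair hθne, B.a_one, hε, show (BlockPrincipal81.oneChar L : L → ℂ) 1 = 1 from rfl,
      ClassAlgebraVal.apply_one_eq_charDegree, ClassAlgebraVal.apply_one_eq_charDegree, hdeg] at h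
    have h2 : -((p - 2 : ℕ) : ℤ) = 1 + a θ * (charDegree (θ : L → ℂ) : ℤ) := by
      refine Int.cast_injective (α := ℂ) ?_
      push_cast at h ⊢
      linear_combination h
    rcases B.signX θ hθX with ha | ha <;> rw [ha] at h2 <;> omega
  have h2n := DefectTwoIndex63.two_mul_add_three B hP hC he (by omega) hcore hn hθX hθdeg
  rcases BrauerReynolds7.recognize hperf P hP hC hn (by omega) with
    ⟨F, hF, hFf, hc, h3, ⟨e⟩⟩ | ⟨m, F, hF, hFf, hc, hpm, h3, ⟨e⟩⟩
  · exfalso
    letI := hF
    letI := hFf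
    have hcard := PSLCard.card_PSL2_mul (F := F)
    rw [← Nat.card_congr e.toEquiv, Nat.card_eq_fintype_card (α := F), hc,
      card_group hP hC 2 he, hn] at hcard
    obtain ⟨j, hj⟩ := hp.odd_of_ne_two (by omega)
    have hg : Nat.gcd 2 (p - 1) = 2 := Nat.gcd_eq_left ⟨j, by omega⟩
    rw [hg] at hcard
    have hp2 : 1 ≤ p ^ 2 := Nat.one_le_pow _ _ hp.pos
    have hnp : (2 * n + 3 : ℤ) = p := by exact_mod_cast h2n
    zify [hp2] at hcard
    have h4 : (p : ℤ) * (4 * (1 + n * p)) = (p : ℤ) * ((p : ℤ) ^ 2 - 1) := by linarith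
    have h5 := mul_left_cancel₀ (by exact_mod_cast hp.ne_zero) h4
    nlinarith
  · letI := hF
    letI := hFf
    obtain ⟨e'⟩ := S4700.psl_equiv_sl (F := F) (m := m) (by rintro rfl; omega) hc
    exact ⟨m, F, hF, hFf, hpm, hc, ⟨e.trans e'⟩⟩


/-- Let G be a finite group with centre Z and p > 5 a prime such that a Sylow p-subgroup of G has order p and is not normal. If G has a faithful irreducible character of degree p − 2, then p = 2^a + 1 for some a and G is isomorphic to the direct product of SL(2, 2^a) with Z. -/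
theorem result {G : Type*} [Group G] [Finite G] (p : ℕ) [Fact p.Prime] (hp : 5 < p) (P : Sylow p G) (hP : Nat.card P = p) (hnn : ¬ (P : Subgroup G).Normal) (ζ : G → ℂ) (hζ : Cfsg.IsIrrCharacter G ζ) (hfaith : ∀ g : G, ζ g = ζ 1 → g = 1) (hdeg : Cfsg.charDegree ζ = p - 2) : ∃ (a : ℕ) (F : Type) (_ : Field F) (_ : Fintype F), p = 2 ^ a + 1 ∧ Fintype.card F = 2 ^ a ∧ Nonempty (G ≃* Matrix.SpecialLinearGroup (Fin 2) F × Subgroup.center G) := by
  classical
  have hPc : Nat.card (P : Subgroup G) = p := hP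
  have hpp := (Fact.out : p.Prime)
  have hp7 : 7 ≤ p := by
    rcases (show p = 6 ∨ 7 ≤ p by omega) with h | h
    · exact absurd hpp (h ▸ by norm_num)
    · exact h
  set L := Subgroup.normalClosure ((P : Subgroup G) : Set G) with hL
  haveI : L.Normal := Subgroup.normalClosure_normal
  letI := Fintype.ofFinite G
  letI := Fintype.ofFinite L
  have hPL : (P : Subgroup G) ≤ L := Subgroup.subset_normalClosure
  have hperf := perfect_normalClosure hP hp7 hζ hfaith hdeg hnn hL
  set χ : IrrCharacter L := ⟨fun x : L => ζ x,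
    isIrr_restrict hP hp7 hζ hfaith hdeg hnn hL⟩ with hχ
  have hCL := centralizer_le_center hP hp7 hζ hfaith hdeg hnn hL
  have hdegL : charDegree (χ : L → ℂ) = p - 2 := by rw [← hdeg]; simp [hχ, charDegree]
  have hfaithL : ∀ g : L, (χ : L → ℂ) g = (χ : L → ℂ) 1 → g = 1 :=
    fun g hg => Subtype.ext (hfaith g hg)
  set PL := P.subtype hPL with hPLdef
  have hPLc : Nat.card (PL : Subgroup L) = p := by
    rw [hPLdef, Sylow.coe_subtype]
    exact (Nat.card_congr (Subgroup.subgroupOfEquivOfLe hPL).toEquiv).trans hP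
  haveI := DefectOneSign7.isMulCommutative_of_card PL hPLc
  haveI := DefectOneSign7.isMulCommutative_of_card P hP
  letI := Fintype.ofFinite ↥(PL : Subgroup L)
  letI := Fintype.ofFinite ↥(P : Subgroup G)
  have hbot := center_eq_bot hperf hPLc hp7 χ hdegL hfaithL
  obtain ⟨U, -, -, hU⟩ := DefectOneSign7.exists_regular_part PL hPLc
  have he1 : (Subgroup.centralizer ((PL : Subgroup L) : Set L)).relIndex
      (Subgroup.normalizer ((PL : Subgroup L) : Set L)) ≠ 1 := by
    have := BrauerReynolds7.two_le_relIndex hperf PL hPLc rfl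
    omega
  obtain ⟨hUc, heL⟩ := central_and_index hPLc hU hp7 χ hdegL hfaithL he1
  have hCPL : Subgroup.centralizer ((PL : Subgroup L) : Set L) = (PL : Subgroup L) := by
    refine le_antisymm (fun c hc => ?_) (Subgroup.le_centralizer _)
    have h := BlockDefectOneLocal86.proj_mul hPLc hU ⟨c, hc⟩
    have hu1 : ((BlockDefectOneLocal86.projU hPLc hU ⟨c, hc⟩ : U) : L) = 1 := by
      rw [← Subgroup.mem_bot, ← hbot]
      exact hUc _ (SetLike.coe_mem _)
    rw [hu1, mul_one] at h
    rw [show c = _ from h.symm]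
    exact SetLike.coe_mem _
  have hcore : ∀ K : Subgroup L, K.Normal → ¬ p ∣ Nat.card K → K = ⊥ := by
    intro K hK hKp
    haveI := hK
    have h1 := le_centralizer_of_normal (G := L) (P := PL) hPLc hp7 χ.2 hfaithL hdegL hKp
    have h2 := eq_top_of_le hL PL (K := Subgroup.centralizer (K : Set L)) h1 (hPLc.trans hP.symm)
    rw [eq_bot_iff, ← hbot]
    intro k hk
    refine Subgroup.mem_center_iff.2 fun l => ?_
    exact (Subgroup.mem_centralizer_iff.1 (h2 ▸ Subgroup.mem_top l) k hk).symm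
  obtain ⟨a, F, hF, hFf, hpa, hcF, ⟨e⟩⟩ :=
    sl_of_center_bot hp7 hperf PL hPLc hCPL heL hcore χ hdegL
  letI := hF
  letI := hFf
  refine ⟨a, F, hF, hFf, hpa, hcF, ?_⟩
  -- `G = L × Z`
  obtain ⟨V, -, -, hV⟩ := DefectOneSign7.exists_regular_part P hP
  set C := Subgroup.centralizer ((P : Subgroup G) : Set G) with hC
  set N := Subgroup.normalizer ((P : Subgroup G) : Set G) with hN
  obtain ⟨t, htN, htC⟩ : ∃ t : L, t ∈ Subgroup.normalizer ((PL : Subgroup L) : Set L) ∧
      t ∉ Subgroup.centralizer ((PL : Subgroup L) : Set L) := by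
    by_contra h
    push Not at h
    exact he1 (Subgroup.relIndex_eq_one.2 fun x hx => h x hx)
  have htN' : (t : G) ∈ N := by
    rw [hN, Subgroup.mem_normalizer_iff]
    intro y
    by_cases hy : y ∈ L
    · have h := Subgroup.mem_normalizer_iff.1 htN ⟨y, hy⟩
      simpa [hPLdef, Sylow.coe_subtype, Subgroup.mem_subgroupOf] using h
    · refine ⟨fun h => absurd (hPL h) hy, fun h => absurd ?_ hy⟩
      have h2 := mul_mem (mul_mem (inv_mem t.2) (hPL h)) t.2
      rwa [show (t : G)⁻¹ * ((t : G) * y * (t : G)⁻¹) * (t : G) = y by group] at h2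
  have htC' : (t : G) ∉ C := by
    intro h
    apply htC
    rw [Subgroup.mem_centralizer_iff]
    intro y hy
    rw [SetLike.mem_coe, hPLdef, Sylow.coe_subtype, Subgroup.mem_subgroupOf] at hy
    exact Subtype.ext (Subgroup.mem_centralizer_iff.1 h y hy)
  obtain ⟨hVc, heG⟩ := central_and_index hP hV hp7 (⟨ζ, hζ⟩ : IrrCharacter G) hdeg hfaith
    (fun h => htC' (Subgroup.relIndex_eq_one.1 h htN'))
  have hgen : L ⊔ Subgroup.center G = ⊤ := by
    rw [eq_top_iff, ← Sylow.normalizer_sup_eq_top' P hPL, sup_le_iff]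
    refine ⟨fun g hg => ?_, le_sup_left⟩
    have hCmem : ∀ c ∈ C, c ∈ L ⊔ Subgroup.center G := by
      intro c hc
      have h := BlockDefectOneLocal86.proj_mul hP hV ⟨c, hc⟩
      rw [← show _ = c from h]
      exact mul_mem (Subgroup.mem_sup_left (hPL (SetLike.coe_mem _)))
        (Subgroup.mem_sup_right (hVc _ (SetLike.coe_mem _)))
    by_cases hgC : g ∈ C
    · exact hCmem g hgC
    · have h := Subgroup.mul_mem_iff_of_index_two (H := C.subgroupOf N) heG
        (a := ⟨g, hg⟩) (b := ⟨t, htN'⟩)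
      simp only [Subgroup.mem_subgroupOf, Subgroup.coe_mul, hgC, htC', iff_self, iff_true] at h
      have h2 := mul_mem (hCmem _ h) (Subgroup.mem_sup_left (T := Subgroup.center G) (inv_mem t.2))
      rwa [mul_inv_cancel_right] at h2
  let f : L × Subgroup.center G →* G :=
    MonoidHom.noncommCoprod L.subtype (Subgroup.center G).subtype
      fun l z => Subgroup.mem_center_iff.1 z.2 (l : G)
  have hf : Function.Bijective f := by
    refine ⟨(injective_iff_map_eq_one f).2 fun x hx => ?_, fun g => ?_⟩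
    · have hx' : (x.1 : G) * (x.2 : G) = 1 := hx
      have h1 : x.1 ∈ Subgroup.center L := by
        refine Subgroup.mem_center_iff.2 fun l => Subtype.ext ?_
        have h2 : (x.1 : G) ∈ Subgroup.center G := by
          rw [eq_inv_of_mul_eq_one_left hx']; exact inv_mem x.2.2
        exact Subgroup.mem_center_iff.1 h2 l
      rw [hbot, Subgroup.mem_bot] at h1
      rw [h1, OneMemClass.coe_one, one_mul] at hx'
      exact Prod.ext h1 (Subtype.ext hx')
    · obtain ⟨l, hl, z, hz, rfl⟩ := Subgroup.mem_sup_of_normal_left.1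
        (hgen ▸ Subgroup.mem_top g : g ∈ L ⊔ Subgroup.center G)
      exact ⟨(⟨l, hl⟩, ⟨z, hz⟩), rfl⟩
  exact ⟨(MulEquiv.ofBijective f hf).symm.trans (e.prodCongr (MulEquiv.refl _))⟩

end Cfsg.Agent.S4705
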