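import Cfsg.Statements.S4706
import Cfsg.Agent.Lib.PermPrimeDegree
import Cfsg.Agent.S4702

set_option autoImplicit false
open Cfsg

namespace Cfsg.Agent.S4706

open MulAction

variable {α : Type*} [Fintype α] [DecidableEq α] {G : Subgroup (Equiv.Perm α)}

/-- A power of a permutation fixes what the permutation fixes. -/
theorem zpow_fix {g : G} {x : α} (hx : g • x = x) (k : ℤ) : (g ^ k) • x = x :=
  (MulAction.stabilizer G x).zpow_mem (MulAction.mem_stabilizer_iff.2 hx) k

/-- An element of order `p` in degree `p` moves every point and is transitive. -/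
theorem orbit_eq_univ {p : ℕ} [Fact p.Prime] (hα : Fintype.card α = p) {g : G}
    (hg : orderOf g = p) (b : α) : MulAction.orbit (Subgroup.zpowers g) b = Set.univ := by
  classical
  have hp : p.Prime := Fact.out
  have hT : Nat.card (Subgroup.zpowers g) = p := by rw [Nat.card_zpowers, hg]
  have hsize : ∀ c : α, Nat.card (MulAction.orbit (Subgroup.zpowers g) c) = 1 ∨
      MulAction.orbit (Subgroup.zpowers g) c = Set.univ := by
    intro c
    have h1 := PermBasic.card_orbit_dvd (G := Subgroup.zpowers g) c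
    rw [hT, Nat.dvd_prime hp] at h1
    refine h1.imp id fun h1 => ?_
    refine Set.eq_of_subset_of_ncard_le (Set.subset_univ _) ?_
    rw [Set.ncard_univ, Nat.card_eq_fintype_card, hα, ← Nat.card_coe_set_eq]
    exact h1.ge
  have hfix : ∀ c : α, Nat.card (MulAction.orbit (Subgroup.zpowers g) c) = 1 → g • c = c := by
    intro c hc
    obtain ⟨y, hy⟩ := Nat.card_eq_one_iff_exists.1 hc
    have e1 := hy ⟨g • c, ⟨⟨g, Subgroup.mem_zpowers g⟩, rfl⟩⟩
    have e2 := hy ⟨c, MulAction.mem_orbit_self c⟩
    exact congrArg Subtype.val (e1.trans e2.symm)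
  obtain ⟨c, hc⟩ : ∃ c : α, g • c ≠ c := by
    by_contra h
    push Not at h
    have : g = 1 := Subtype.ext (Equiv.ext h)
    rw [this, orderOf_one] at hg
    exact hp.one_lt.ne hg
  have hcu := (hsize c).resolve_left fun h => hc (hfix c h)
  have hb : b ∈ MulAction.orbit (Subgroup.zpowers g) c := hcu.symm ▸ Set.mem_univ b
  rw [MulAction.orbit_eq_iff.2 hb, hcu]

/-- An element of order `p` in degree `p` has no fixed point. -/
theorem no_fix {p : ℕ} [Fact p.Prime] (hα : Fintype.card α = p) {g : G} (hg : orderOf g = p)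
    (b : α) : g • b ≠ b := by
  intro hb
  have h := orbit_eq_univ hα hg b
  have hsub : MulAction.orbit (Subgroup.zpowers g) b ⊆ {b} := by
    rintro _ ⟨⟨_, k, rfl⟩, rfl⟩
    exact zpow_fix hb k
  rw [h] at hsub
  have := Set.ncard_le_ncard hsub
  rw [Set.ncard_univ, Set.ncard_singleton, Nat.card_eq_fintype_card, hα] at this
  have := (Fact.out : p.Prime).two_le
  omega

/-- Number of fixed embeddings. -/
theorem card_fixedBy_emb (k : ℕ) (g : G) :
    Nat.card (MulAction.fixedBy (Fin k ↪ α) g) =
      (Nat.card (MulAction.fixedBy α g)).descFactorial k := by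
  classical
  have e : MulAction.fixedBy (Fin k ↪ α) g ≃ (Fin k ↪ MulAction.fixedBy α g) :=
    { toFun := fun f => ⟨fun i => ⟨f.1 i, congrArg (fun e : Fin k ↪ α => e i) f.2⟩,
        fun i j h => f.1.injective (congrArg Subtype.val h)⟩
      invFun := fun f => ⟨f.trans (Function.Embedding.subtype _),
        Function.Embedding.ext fun i => (f i).2⟩
      left_inv := fun f => rfl
      right_inv := fun f => rfl }
  rw [Nat.card_congr e, Nat.card_eq_fintype_card, Fintype.card_embedding_eq, Fintype.card_fin,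
    Nat.card_eq_fintype_card]

/-- Burnside's count on embeddings. -/
theorem sum_desc (k : ℕ) :
    ∑ᶠ g : G, (Nat.card (MulAction.fixedBy α g)).descFactorial k =
      Nat.card (MulAction.orbitRel.Quotient G (Fin k ↪ α)) * Nat.card G := by
  classical
  rw [finsum_eq_sum_of_fintype, Nat.card_eq_fintype_card, Nat.card_eq_fintype_card,
    ← MulAction.sum_card_fixedBy_eq_card_orbits_mul_card_group G (Fin k ↪ α)]
  exact Finset.sum_congr rfl fun g _ => by rw [← card_fixedBy_emb, Nat.card_eq_fintype_card]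

theorem card_orbits_one {k : ℕ} [h : MulAction.IsMultiplyPretransitive G α k]
    [Nonempty (Fin k ↪ α)] : Nat.card (MulAction.orbitRel.Quotient G (Fin k ↪ α)) = 1 := by
  have hh := h
  refine Nat.card_eq_one_iff_unique.2 ⟨⟨fun x y => ?_⟩, ⟨Quotient.mk'' (Classical.arbitrary _)⟩⟩
  induction x using Quotient.inductionOn'
  induction y using Quotient.inductionOn'
  exact Quotient.sound' (hh.exists_smul_eq _ _)

/-- The elements of order `p` are all derangements, and there are `(p - 1) * n_p` of them. -/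
theorem derangement_count {p : ℕ} [Fact p.Prime] (hα : Fintype.card α = p)
    (hcard : ∀ Q : Sylow p G, Nat.card Q = p) :
    Nat.card (Sylow p G) * (p - 1) ≤ Nat.card {g : G // Nat.card (MulAction.fixedBy α g) = 0} := by
  classical
  have hp : p.Prime := Fact.out
  have : Fintype (Sylow p G) := Fintype.ofFinite _
  let S := Σ Q : Sylow p G, {x : (Q : Subgroup G) // x ≠ 1}
  have hord : ∀ (Q : Sylow p G) (x : (Q : Subgroup G)), x ≠ 1 → orderOf (x : G) = p := by
    intro Q x hx
    rw [Subgroup.orderOf_coe]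
    exact ((Nat.dvd_prime hp).1 ((orderOf_dvd_natCard x).trans (hcard Q).dvd)).resolve_left
      (fun h => hx (orderOf_eq_one_iff.1 h))
  let f : S → {g : G // Nat.card (MulAction.fixedBy α g) = 0} := fun t => ⟨(t.2.1 : G), by
    rw [Nat.card_eq_zero]
    exact Or.inl ⟨fun y => no_fix hα (hord t.1 t.2.1 t.2.2) y.1 y.2⟩⟩
  have hinj : Function.Injective f := by
    rintro ⟨Q, x, hx⟩ ⟨R, y, hy⟩ h
    have h' : (x : G) = (y : G) := congrArg Subtype.val h
    have hz : ∀ (Q : Sylow p G) (x : (Q : Subgroup G)), x ≠ 1 →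
        (Q : Subgroup G) = Subgroup.zpowers (x : G) := fun Q x hx =>
      (Subgroup.eq_of_le_of_card_ge (Subgroup.zpowers_le.2 x.2)
        (by rw [Nat.card_zpowers, hord Q x hx]; exact (hcard Q).le)).symm
    have hQR : Q = R := Sylow.ext (by rw [hz Q x hx, hz R y hy, h'])
    subst hQR
    obtain rfl : x = y := Subtype.ext h'
    rfl
  refine le_trans ?_ (Nat.card_le_card_of_injective f hinj)
  rw [Nat.card_sigma, Finset.sum_congr rfl (g := fun _ => p - 1) fun Q _ => ?_, Finset.sum_const,
    Finset.card_univ, smul_eq_mul, Nat.card_eq_fintype_card]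
  rw [Nat.card_eq_fintype_card, Fintype.card_subtype_compl, Fintype.card_subtype_eq,
    ← Nat.card_eq_fintype_card]
  exact congrArg (· - 1) (hcard Q)

/-- Let p > 2 be a prime and G a permutation group on p letters whose Sylow p-subgroup P has normalizer of order 2p. Then either P is normal in G, or p − 1 = 2^a for some a and G is isomorphic to SL(2, 2^a). -/
theorem result {α : Type*} [Fintype α] [DecidableEq α] {p : ℕ} [Fact p.Prime] (hp : 2 < p) (hα : Fintype.card α = p) (G : Subgroup (Equiv.Perm α)) (P : Sylow p G) (hN : Nat.card (Subgroup.normalizer ((P : Subgroup G) : Set G)) = 2 * p) : (P : Subgroup G).Normal ∨ ∃ (a : ℕ) (F : Type) (_ : Field F) (_ : Fintype F), p = 2 ^ a + 1 ∧ Fintype.card F = 2 ^ a ∧ Nonempty (G ≃* Matrix.SpecialLinearGroup (Fin 2) F) := by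
  classical
  have hp' : p.Prime := Fact.out
  have hdvd : p ∣ Nat.card G := by
    have h1 := Subgroup.card_subgroup_dvd_card (Subgroup.normalizer ((P : Subgroup G) : Set G))
    rw [hN] at h1
    exact (Dvd.intro_left 2 rfl).trans h1
  have hG : Nat.card G ∣ p.factorial := by
    have h1 := Subgroup.card_subgroup_dvd_card G
    rwa [Nat.card_perm, Nat.card_eq_fintype_card (α := α), hα] at h1
  have hcard : ∀ Q : Sylow p G, Nat.card Q = p := by
    intro Q
    obtain ⟨k, hk⟩ := IsPGroup.iff_card.1 Q.2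
    have h1 : p ∣ Nat.card Q := Sylow.dvd_card_of_dvd_card Q hdvd
    have h2 : ¬ p ^ 2 ∣ Nat.card Q := by
      intro h
      have h3 : p ^ 2 ∣ p.factorial := h.trans ((Subgroup.card_subgroup_dvd_card _).trans hG)
      obtain ⟨j, hj⟩ : ∃ j, p = j + 1 := ⟨p - 1, by omega⟩
      rw [hj, Nat.factorial_succ, ← hj, pow_two] at h3
      have h4 : p ∣ j.factorial := (Nat.mul_dvd_mul_iff_left hp'.pos).1 h3
      have := (hp'.dvd_factorial).1 h4
      omega
    rw [hk] at h1 h2 ⊢
    rcases k with _ | _ | k
    · simp at h1; exact absurd h1 hp'.one_lt.ne'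
    · simp
    · exact absurd (pow_dvd_pow p (by omega)) h2
  obtain ⟨g0, hg0⟩ := exists_prime_orderOf_dvd_card' p hdvd
  have : MulAction.IsPretransitive G α := ⟨fun x y => by
    obtain ⟨z, hz⟩ := (orbit_eq_univ hα hg0 x).symm ▸ Set.mem_univ y
    exact ⟨z.1, hz⟩⟩
  by_cases hnorm : (P : Subgroup G).Normal
  · exact Or.inl hnorm
  refine Or.inr ?_
  rcases PermPrimeDegree.affine_or_twoTransitive (Nat.card_eq_fintype_card.trans hα) G with
    h2 | ⟨e, he⟩
  swap
  · refine absurd ?_ hnorm
    have htr : ∀ g : G, orderOf g = p → ∃ b : ZMod p, ∀ x, g • e x = e (x + b) := by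
      intro g hg
      obtain ⟨a, b, -, hab⟩ := he g.1 g.2
      by_cases ha : a = 1
      · exact ⟨b, fun x => (hab x).trans (by rw [ha, one_mul])⟩
      refine absurd ?_ (no_fix hα hg (e (b / (1 - a))))
      have h1a : (1 : ZMod p) - a ≠ 0 := sub_ne_zero.2 (Ne.symm ha)
      refine (hab _).trans (congrArg e ?_)
      field_simp
      ring
    have hall : ∀ (Q : Sylow p G) (x : G), x ∈ (Q : Subgroup G) →
        ∃ b : ZMod p, ∀ z, x • e z = e (z + b) := by
      intro Q x hx
      by_cases hx1 : x = 1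
      · exact ⟨0, fun z => by rw [hx1, one_smul, add_zero]⟩
      refine htr x (((Nat.dvd_prime hp').1 ?_).resolve_left fun h => hx1 (orderOf_eq_one_iff.1 h))
      rw [← hcard Q, ← Subgroup.orderOf_mk x hx]
      exact orderOf_dvd_natCard _
    have huniq : ∀ Q : Sylow p G, (P : Subgroup G) = Q := by
      intro Q
      choose bP hbP using fun x : (P : Subgroup G) => hall P x x.2
      have hinj : Function.Injective bP := by
        intro x y h
        refine Subtype.ext (Subtype.ext (Equiv.ext fun z => ?_))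
        obtain ⟨w, rfl⟩ := e.surjective z
        exact (hbP x w).trans ((by rw [h] : _ = _).trans (hbP y w).symm)
      have hbij : Function.Bijective bP := by
        refine (Nat.bijective_iff_injective_and_card bP).2 ⟨hinj, ?_⟩
        rw [Nat.card_zmod]
        exact hcard P
      refine Subgroup.eq_of_le_of_card_ge ?_ (le_of_eq ((hcard P).trans (hcard Q).symm)) |>.symm
      intro x hx
      obtain ⟨b, hb⟩ := hall Q x hx
      obtain ⟨y, hy⟩ := hbij.2 b
      have : (y : G) = x := Subtype.ext (Equiv.ext fun z => by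
        obtain ⟨w, rfl⟩ := e.surjective z
        exact (hbP y w).trans ((by rw [hy] : _ = _).trans (hb w).symm))
      exact this ▸ y.2
    exact ⟨fun x hx g => by
      have h1 : g * x * g⁻¹ ∈ ((g • P : Sylow p G) : Subgroup G) :=
        ⟨x, hx, rfl⟩
      rwa [← huniq] at h1⟩
  -- counting
  set f : G → ℕ := fun g => Nat.card (MulAction.fixedBy α g) with hf
  have hp3 : 3 ≤ p := hp
  have hnE : ∀ k ≤ 3, Nonempty (Fin k ↪ α) := fun k hk =>
    Function.Embedding.nonempty_of_card_le (by simp [hα]; omega)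
  have h2' : MulAction.IsMultiplyPretransitive G α 1 := MulAction.is_one_pretransitive_iff.2 this
  have s1 : ∑ g : G, (f g).descFactorial 1 = Nat.card G := by
    haveI := hnE 1 (by norm_num)
    rw [← finsum_eq_sum_of_fintype, sum_desc, card_orbits_one, one_mul]
  have s2 : ∑ g : G, (f g).descFactorial 2 = Nat.card G := by
    haveI := hnE 2 (by norm_num)
    rw [← finsum_eq_sum_of_fintype, sum_desc, card_orbits_one, one_mul]
  set r := Nat.card (MulAction.orbitRel.Quotient G (Fin 3 ↪ α)) with hr
  have s3 : ∑ g : G, (f g).descFactorial 3 = r * Nat.card G := by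
    rw [← finsum_eq_sum_of_fintype, sum_desc]
  have hr1 : 1 ≤ r := by
    have := hnE 3 le_rfl
    have : Nonempty (MulAction.orbitRel.Quotient G (Fin 3 ↪ α)) :=
      ⟨Quotient.mk'' (Classical.arbitrary _)⟩
    exact Nat.card_pos
  have hn : Nat.card (Sylow p G) * (2 * p) = Nat.card G := by
    rw [P.card_eq_index_normalizer, ← hN]
    exact Subgroup.index_mul_card _
  let D := (Finset.univ : Finset G).filter fun g => f g = 0
  have hD : Nat.card (Sylow p G) * (p - 1) ≤ D.card := by
    refine (derangement_count hα hcard).trans (le_of_eq ?_)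
    rw [Nat.card_eq_fintype_card, Fintype.card_subtype]
  let w : G → ℤ := fun g => ((p : ℤ) - f g) * (((f g : ℤ) - 1) * ((f g : ℤ) - 2))
  have hfp : ∀ g, f g ≤ p := fun g => by
    rw [← hα, ← Nat.card_eq_fintype_card]
    exact Finite.card_subtype_le _
  have hw0 : ∀ g, 0 ≤ w g := by
    intro g
    refine mul_nonneg (sub_nonneg.2 (by exact_mod_cast hfp g)) ?_
    rcases Nat.lt_or_ge (f g) 2 with h | h
    · interval_cases (f g) <;> norm_num
    · exact mul_nonneg (by omega) (by omega)
  have hdesc : ∀ n : ℕ, ((n.descFactorial 2 : ℕ) : ℤ) = n * ((n : ℤ) - 1) ∧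
      ((n.descFactorial 3 : ℕ) : ℤ) = n * ((n : ℤ) - 1) * ((n : ℤ) - 2) := by
    intro n
    rcases n with _ | _ | n
    · simp
    · simp [Nat.descFactorial]
    · simp only [Nat.descFactorial, Nat.cast_mul, Nat.cast_one, Nat.cast_sub (by omega : 2 ≤ n + 1 + 1),
        Nat.cast_sub (by omega : 1 ≤ n + 1 + 1), Nat.cast_add, Nat.sub_zero]
      constructor <;> (push_cast; ring)
  have hsum : ∑ g, w g = (p : ℤ) * Nat.card G - r * Nat.card G := by
    have e : ∀ g, w g = (p : ℤ) * ((f g).descFactorial 2 : ℕ) - 2 * p * ((f g).descFactorial 1 : ℕ)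
        + 2 * p - ((f g).descFactorial 3 : ℕ) := by
      intro g
      simp only [w, (hdesc (f g)).1, (hdesc (f g)).2, Nat.descFactorial_one]
      ring
    simp only [e, Finset.sum_add_distrib, Finset.sum_sub_distrib, ← Finset.mul_sum, ← Nat.cast_sum,
      s1, s2, s3, Finset.sum_const, Finset.card_univ, ← Nat.card_eq_fintype_card, nsmul_eq_mul]
    push_cast
    ring
  have hsplit := Finset.sum_add_sum_compl D w
  have hDsum : ∑ g ∈ D, w g = 2 * p * (D.card : ℤ) := by
    rw [Finset.sum_congr rfl (g := fun _ => 2 * (p : ℤ)) fun g hg => ?_, Finset.sum_const,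
      nsmul_eq_mul]
    · ring
    · simp only [w, (Finset.mem_filter.1 hg).2]; push_cast; ring
  have hrest : 0 ≤ ∑ g ∈ Dᶜ, w g := Finset.sum_nonneg fun g _ => hw0 g
  have hDz : ((Nat.card (Sylow p G) * (p - 1) : ℕ) : ℤ) ≤ D.card := by exact_mod_cast hD
  have hnz : ((Nat.card (Sylow p G) * (2 * p) : ℕ) : ℤ) = Nat.card G := by exact_mod_cast hn
  rw [Nat.cast_mul, Nat.cast_sub hp'.one_lt.le] at hDz
  push_cast at hDz hnz
  have hGpos : (0 : ℤ) < Nat.card G := by exact_mod_cast Nat.card_pos
  have hr' : (1 : ℤ) ≤ r := by exact_mod_cast hr1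
  have hkey : ((r : ℤ) - 1) * Nat.card G + ∑ g ∈ Dᶜ, w g ≤ 0 := by
    have hpp : (0 : ℤ) ≤ 2 * p := by positivity
    nlinarith [mul_le_mul_of_nonneg_left hDz hpp]
  have hprod : (0 : ℤ) ≤ ((r : ℤ) - 1) * Nat.card G := mul_nonneg (by linarith) hGpos.le
  have hr_eq : r = 1 := by
    have h0 : ((r : ℤ) - 1) * Nat.card G = 0 := by linarith
    rcases mul_eq_zero.1 h0 with h | h <;> omega
  have hz : ∀ g ∈ Dᶜ, w g = 0 :=
    (Finset.sum_eq_zero_iff_of_nonneg fun g _ => hw0 g).1 (le_antisymm (by linarith) hrest)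
  have h3 : MulAction.IsMultiplyPretransitive G α 3 := ⟨fun x y => by
    have hsub : Subsingleton (MulAction.orbitRel.Quotient G (Fin 3 ↪ α)) :=
      (Nat.card_eq_one_iff_unique.1 (hr ▸ hr_eq)).1
    exact Quotient.exact' (hsub.elim (Quotient.mk'' y) (Quotient.mk'' x))⟩
  have hfix : ∀ g : G, 3 ≤ Nat.card (MulAction.fixedBy α g) → g = 1 := by
    intro g hg
    have hgD : g ∈ Dᶜ := by
      simp only [D, Finset.mem_compl, Finset.mem_filter, Finset.mem_univ, true_and]
      intro h
      change Nat.card (MulAction.fixedBy α g) = 0 at h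
      omega
    have hw := hz g hgD
    simp only [w, mul_eq_zero] at hw
    have hg' : 3 ≤ f g := hg
    have hfull : f g = p := by rcases hw with h | h | h <;> omega
    refine Subtype.ext (Equiv.ext fun x => ?_)
    have : MulAction.fixedBy α g = Set.univ := by
      refine Set.eq_of_subset_of_ncard_le (Set.subset_univ _) ?_
      rw [Set.ncard_univ, Nat.card_eq_fintype_card, hα, ← Nat.card_coe_set_eq]
      exact hfull.ge
    exact (this.symm ▸ Set.mem_univ x : x ∈ MulAction.fixedBy α g)
  obtain ⟨a, -, ha, F, hF, hFf, hFc, hiso⟩ :=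
    S4702.result (by omega) (hα ▸ hp'.odd_of_ne_two (by omega)) G h3 hfix
  exact ⟨a, F, hF, hFf, by omega, hFc, hiso⟩

end Cfsg.Agent.S4706
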