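import Cfsg.Statements.S4707
import Cfsg.Agent.Lib.DefectTwoIndex63
import Cfsg.Agent.Lib.BrauerReynolds7Main
import Cfsg.Agent.Lib.CharBasicPerm
import Cfsg.Agent.S0494

set_option autoImplicit false
open Cfsg

namespace Cfsg.Agent.S4707
open MulAction BrauerReynolds7
open scoped ComplexConjugate

section Setting

variable {α : Type*} [Fintype α] {G : Subgroup (Equiv.Perm α)} {p : ℕ}

/-- A non-trivial normal subgroup of a primitive group has order divisible by the degree. -/
theorem degree_dvd_card [DecidableEq α] (hprim : IsPreprimitive G α) {K : Subgroup G} (hK : K.Normal) (hne : K ≠ ⊥)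
    (hα : Fintype.card α = 2 * p) (hp : 0 < p) : 2 * p ∣ Nat.card K := by
  haveI := hK
  haveI := hprim
  have hfix : fixedPoints K α ≠ Set.univ := by
    intro h
    apply hne
    rw [eq_bot_iff]
    intro k hk
    rw [Subgroup.mem_bot]
    refine Subtype.ext (Equiv.ext fun x => ?_)
    have hx : x ∈ fixedPoints K α := h ▸ Set.mem_univ x
    exact hx ⟨k, hk⟩
  haveI := IsQuasiPreprimitive.isPretransitive_of_normal hfix
  obtain ⟨a⟩ : Nonempty α := Fintype.card_pos_iff.1 (by omega)
  have h := index_stabilizer_of_transitive (G := K) a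
  rw [Nat.card_eq_fintype_card, hα] at h
  exact h ▸ Subgroup.index_dvd_card _

/-- At most two orbits on pairs means double transitivity. -/
theorem pretransitive_two_of_orbits (h : Nat.card (orbitRel.Quotient G (α × α)) ≤ 2) :
    IsMultiplyPretransitive G α 2 := by
  classical
  rw [is_two_pretransitive_iff]
  intro a b c d hab hcd
  letI := Fintype.ofFinite (orbitRel.Quotient G (α × α))
  set q : α × α → orbitRel.Quotient G (α × α) := fun x => Quotient.mk'' x with hq
  have hdiag : ∀ (x y z : α), y ≠ z → q (x, x) ≠ q (y, z) := by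
    intro x y z hyz he
    obtain ⟨g, hg⟩ := Quotient.exact' he
    simp only [Prod.smul_mk, Prod.mk.injEq] at hg
    exact hyz ((smul_left_cancel g) (hg.1.trans hg.2.symm))
  have heq : q (c, d) = q (a, b) := by
    by_contra hne
    have h3 : ({q (a, a), q (a, b), q (c, d)} : Finset _).card = 3 :=
      Finset.card_eq_three.2 ⟨_, _, _, hdiag a a b hab, hdiag a c d hcd, fun e => hne e.symm, rfl⟩
    have := h3 ▸ Finset.card_le_univ ({q (a, a), q (a, b), q (c, d)} : Finset _)
    rw [← Nat.card_eq_fintype_card] at this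
    omega
  obtain ⟨g, hg⟩ := Quotient.exact' heq
  simp only [Prod.smul_mk, Prod.mk.injEq] at hg
  exact ⟨g, hg.1, hg.2⟩

variable [Fact p.Prime]

theorem card_sylow_eq [DecidableEq α] (hprim : IsPreprimitive G α) (hα : Fintype.card α = 2 * p) (P : Sylow p G)
    (hN : Nat.card (Subgroup.normalizer ((P : Subgroup G) : Set G)) = 2 * p) (hp2 : 2 < p) :
    Nat.card P = p := by
  have hp := (Fact.out : p.Prime)
  haveI := hprim
  obtain ⟨a⟩ : Nonempty α := Fintype.card_pos_iff.1 (by have := hp.pos; omega)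
  have hidx := index_stabilizer_of_transitive (G := G) a
  rw [Nat.card_eq_fintype_card, hα] at hidx
  have hdvd : p ∣ Nat.card G :=
    ((dvd_mul_left p 2).trans (dvd_of_eq hidx.symm)).trans (Subgroup.index_dvd_card _)
  obtain ⟨k, hk⟩ := IsPGroup.iff_card.1 P.2
  have h1 : Nat.card (P : Subgroup G) ∣ 2 * p :=
    hN ▸ Subgroup.card_dvd_of_le Subgroup.le_normalizer
  have h2 := P.dvd_card_of_dvd_card hdvd
  show Nat.card (P : Subgroup G) = p
  rw [hk] at h1 h2 ⊢
  rcases k with _ | _ | k
  · rw [pow_zero, Nat.dvd_one] at h2; exact absurd h2 hp.ne_one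
  · exact pow_one p
  · exfalso
    have h3 : p ^ 2 ∣ 2 * p := (pow_dvd_pow p (by omega)).trans h1
    rw [sq, mul_comm 2 p] at h3
    have := Nat.le_of_dvd two_pos (Nat.dvd_of_mul_dvd_mul_left hp.pos h3)
    omega

/-- The fixed-point numbers, `C(P) = P`, and simplicity. -/
theorem cent_eq [DecidableEq α] (hprim : IsPreprimitive G α) (hα : Fintype.card α = 2 * p) (P : Sylow p G)
    (hN : Nat.card (Subgroup.normalizer ((P : Subgroup G) : Set G)) = 2 * p) (hp2 : 2 < p) :
    Subgroup.centralizer ((P : Subgroup G) : Set G) = (P : Subgroup G) := by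
  have hp := (Fact.out : p.Prime)
  have hP := card_sylow_eq hprim hα P hN hp2
  letI := Fintype.ofFinite G
  haveI := DefectOneSign7.isMulCommutative_of_card P hP
  set C := Subgroup.centralizer ((P : Subgroup G) : Set G) with hC
  set N := Subgroup.normalizer ((P : Subgroup G) : Set G) with hN'
  have hPC : (P : Subgroup G) ≤ C := Subgroup.le_centralizer _
  have hCN : C ≤ N := Subgroup.centralizer_le_normalizer _
  have h1 : Nat.card C ∣ 2 * p := hN ▸ Subgroup.card_dvd_of_le hCN
  obtain ⟨r, hr⟩ : Nat.card (P : Subgroup G) ∣ Nat.card C := Subgroup.card_dvd_of_le hPC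
  rw [show Nat.card (P : Subgroup G) = p from hP] at hr
  rw [hr, mul_comm 2 p] at h1
  rcases (Nat.dvd_prime Nat.prime_two).1 (Nat.dvd_of_mul_dvd_mul_left hp.pos h1) with h | h
  · refine (Subgroup.eq_of_le_of_card_ge hPC ?_).symm
    rw [hr, h, mul_one]; exact hP.ge
  · exfalso
    have hle : N ≤ C := le_of_eq (Subgroup.eq_of_le_of_card_ge hCN (by rw [hr, h, hN, mul_comm])).symm
    have hK := MonoidHom.ker_transferSylow_isComplement' P hle
    set K := (MonoidHom.transferSylow P hle).ker with hKdef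
    have hcard := hK.card_mul
    rw [show Nat.card (P : Subgroup G) = p from hP] at hcard
    have hpK : ¬ p ∣ Nat.card K := by
      intro hd
      apply P.not_dvd_index
      have h3 := (P : Subgroup G).card_mul_index
      rw [← hcard, show Nat.card (P : Subgroup G) = p from hP, mul_comm _ p] at h3
      rwa [Nat.eq_of_mul_eq_mul_left hp.pos h3]
    have hbot : K = ⊥ := by
      by_contra hne
      exact hpK ((dvd_mul_left p 2).trans (degree_dvd_card hprim inferInstance hne hα hp.pos))
    rw [hbot, Subgroup.card_bot, one_mul] at hcard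
    have h4 := Subgroup.card_subgroup_dvd_card N
    rw [hN, ← hcard] at h4
    have := Nat.le_of_dvd hp.pos h4
    omega

/-- Every non-trivial normal subgroup is the whole group. -/
theorem normal_eq_top [DecidableEq α] (hprim : IsPreprimitive G α) (hα : Fintype.card α = 2 * p) (P : Sylow p G)
    (hN : Nat.card (Subgroup.normalizer ((P : Subgroup G) : Set G)) = 2 * p) (hp2 : 2 < p)
    {K : Subgroup G} (hK : K.Normal) (hne : K ≠ ⊥) : K = ⊤ := by
  have hp := (Fact.out : p.Prime)
  have hP := card_sylow_eq hprim hα P hN hp2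
  letI := Fintype.ofFinite G
  haveI := DefectOneSign7.isMulCommutative_of_card P hP
  haveI := hK
  set N := Subgroup.normalizer ((P : Subgroup G) : Set G) with hN'
  have hdeg := degree_dvd_card hprim hK hne hα hp.pos
  have hPK : (P : Subgroup G) ≤ K := by
    obtain ⟨⟨y, hy⟩, hyo⟩ := exists_prime_orderOf_dvd_card' p ((dvd_mul_left p 2).trans hdeg)
    rw [Subgroup.orderOf_mk] at hyo
    obtain ⟨Q, hQ⟩ := (IsPGroup.of_card (n := 1) (G := Subgroup.zpowers y)
      (by rw [Nat.card_zpowers, hyo, pow_one])).exists_le_sylow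
    obtain ⟨g, hg⟩ := exists_smul_eq G Q P
    have hyP : g * y * g⁻¹ ∈ (P : Subgroup G) := by
      rw [← hg, Sylow.coe_subgroup_smul]
      exact Subgroup.mem_map_of_mem _ (hQ (Subgroup.mem_zpowers y))
    have hne1 : g * y * g⁻¹ ≠ 1 := fun h => by
      rw [conj_eq_one_iff] at h
      rw [h, orderOf_one] at hyo
      exact hp.ne_one hyo.symm
    rw [← DefectOneSign7.zpowers_eq P hP hyP hne1]
    exact Subgroup.zpowers_le.2 (hK.conj_mem y hy g)
  have hfr : N ⊔ K = ⊤ := Sylow.normalizer_sup_eq_top' P hPK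
  by_cases hNK : N ≤ K
  · rw [sup_of_le_right hNK] at hfr
    exact hfr
  exfalso
  have hint : ∀ x, x ∈ N → x ∈ K → x ∈ (P : Subgroup G) := by
    intro x hxN hxK
    have h1 : Nat.card ↥(N ⊓ K) ∣ 2 * p := hN ▸ Subgroup.card_dvd_of_le inf_le_left
    obtain ⟨r, hr⟩ : Nat.card (P : Subgroup G) ∣ Nat.card ↥(N ⊓ K) :=
      Subgroup.card_dvd_of_le (le_inf Subgroup.le_normalizer hPK)
    rw [show Nat.card (P : Subgroup G) = p from hP] at hr
    rw [hr, mul_comm 2 p] at h1
    rcases (Nat.dvd_prime Nat.prime_two).1 (Nat.dvd_of_mul_dvd_mul_left hp.pos h1) with h | h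
    · have h2 : (P : Subgroup G) = N ⊓ K :=
        Subgroup.eq_of_le_of_card_ge (le_inf Subgroup.le_normalizer hPK)
          (by rw [hr, h, mul_one]; exact hP.ge)
      rw [h2]; exact ⟨hxN, hxK⟩
    · exact absurd (inf_eq_left.1 (Subgroup.eq_of_le_of_card_ge inf_le_left
        (by rw [hr, h, hN, mul_comm]))) hNK
  set P' : Sylow p K := P.subtype hPK with hP'def
  have hmemP' : ∀ x : K, x ∈ (P' : Subgroup K) ↔ (x : G) ∈ (P : Subgroup G) := by
    intro x
    rw [hP'def, Sylow.coe_subtype]
    exact Subgroup.mem_subgroupOf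
  have hle : Subgroup.normalizer ((P' : Subgroup K) : Set K) ≤
      Subgroup.centralizer ((P' : Subgroup K) : Set K) := by
    intro x hx
    have hxN : (x : G) ∈ N := by
      rw [hN', Subgroup.mem_normalizer_iff]
      intro z
      constructor
      · intro hz
        have h := (Subgroup.mem_normalizer_iff.1 hx ⟨z, hPK hz⟩).1 ((hmemP' _).2 hz)
        simpa using (hmemP' _).1 h
      · intro hz
        have hzK : z ∈ K := by
          have := hK.conj_mem _ (hPK hz) (x : G)⁻¹
          simpa [mul_assoc] using this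
        have h := (Subgroup.mem_normalizer_iff.1 hx ⟨z, hzK⟩).2 ((hmemP' _).2 (by simpa using hz))
        exact (hmemP' _).1 h
    refine Subgroup.mem_centralizer_iff.2 fun y hy => Subtype.ext ?_
    have h : (y : G) * x = x * y := congrArg Subtype.val
      (mul_comm' (⟨(y : G), (hmemP' y).1 hy⟩ : (P : Subgroup G)) ⟨(x : G), hint _ hxN x.2⟩)
    exact h
  have hL := MonoidHom.ker_transferSylow_isComplement' P' hle
  set L := (MonoidHom.transferSylow P' hle).ker with hLdef
  have hP'c : Nat.card (P' : Subgroup K) = p := by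
    rw [hP'def, Sylow.coe_subtype, Nat.card_congr (Subgroup.subgroupOfEquivOfLe hPK).toEquiv]
    exact hP
  have hcard := hL.card_mul
  rw [hP'c] at hcard
  have hpL : ¬ p ∣ Nat.card L := by
    intro hd
    apply P'.not_dvd_index
    have h3 := (P' : Subgroup K).card_mul_index
    rw [← hcard, hP'c, mul_comm _ p] at h3
    rwa [Nat.eq_of_mul_eq_mul_left hp.pos h3]
  have hmem : ∀ x : K, x ∈ L ↔ ¬ p ∣ orderOf x := by
    refine fun x => ⟨fun hx hd => hpL (hd.trans (Subgroup.orderOf_dvd_natCard L hx)), fun hx => ?_⟩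
    rw [hLdef, MonoidHom.mem_ker]
    have h1 : orderOf (MonoidHom.transferSylow P' hle x) ∣ p := by
      conv_rhs => rw [← hP'c]
      exact orderOf_dvd_natCard _
    have h2 : orderOf (MonoidHom.transferSylow P' hle x) ∣ orderOf x := orderOf_map_dvd _ x
    rcases (Nat.dvd_prime hp).1 h1 with h | h
    · exact orderOf_eq_one_iff.1 h
    · exact absurd (h ▸ h2) hx
  haveI hLn : (L.map K.subtype).Normal := by
    refine ⟨fun z hz g => ?_⟩
    obtain ⟨w, hw, rfl⟩ := hz
    refine ⟨⟨g * (w : G) * g⁻¹, hK.conj_mem _ w.2 g⟩, ?_, rfl⟩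
    show (⟨g * (w : G) * g⁻¹, hK.conj_mem _ w.2 g⟩ : K) ∈ L
    rw [hmem, ← Subgroup.orderOf_coe]
    show ¬ p ∣ orderOf (MulAut.conj g (w : G))
    rw [MulEquiv.orderOf_eq, Subgroup.orderOf_coe]
    exact (hmem w).1 hw
  have hbot : L = ⊥ := by
    by_contra hne'
    apply hpL
    have h := degree_dvd_card hprim hLn (fun h => hne'
      ((Subgroup.map_eq_bot_iff_of_injective L K.subtype_injective).1 h)) hα hp.pos
    rw [Subgroup.card_map_of_injective K.subtype_injective] at h
    exact (dvd_mul_left p 2).trans h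
  rw [hbot, Subgroup.card_bot, one_mul] at hcard
  rw [← hcard] at hdeg
  have := Nat.le_of_dvd hp.pos hdeg
  omega

end Setting

/-- The character of degree `p - 1`. -/
theorem exists_deg_pred {α : Type*} [Fintype α] [DecidableEq α] {G : Subgroup (Equiv.Perm α)} [Fintype G]
    {p : ℕ} [Fact p.Prime] (hprim : IsPreprimitive G α) (hnot2 : ¬ IsMultiplyPretransitive G α 2)
    (hα : Fintype.card α = 2 * p) (hp5 : 5 ≤ p) (hperf : commutator G = ⊤) (P : Sylow p G)
    (hP : Nat.card P = p)
    (hC : Subgroup.centralizer ((P : Subgroup G) : Set G) = (P : Subgroup G))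
    (he : (Subgroup.centralizer ((P : Subgroup G) : Set G)).relIndex
      (Subgroup.normalizer ((P : Subgroup G) : Set G)) = 2)
    {X Y : Finset (IrrCharacter G)} {a : IrrCharacter G → ℤ} {ε : ℤ} (B : Blk P 2 X Y a ε) :
    ∃ χ ∈ X, charDegree (χ : G → ℂ) = p - 1 := by
  classical
  open Cfsg.Agent.BlockPrincipal81 Cfsg.Agent.CharBasic Cfsg.Agent.CharBasicOrth in
  have hp := (Fact.out : p.Prime)
  haveI := hprim
  obtain ⟨χ, hχ, hχ1⟩ : ∃ χ ∈ X, χ ≠ Cfsg.Agent.BlockPrincipal81.oneChar G :=
    Finset.exists_mem_ne (by rw [B.cardX]; norm_num) _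
  refine ⟨χ, hχ, ?_⟩
  have hXeq : X = {Cfsg.Agent.BlockPrincipal81.oneChar G, χ} := by
    refine (Finset.eq_of_subset_of_card_le ?_ ?_).symm
    · intro ψ hψ
      rcases Finset.mem_insert.1 hψ with rfl | h
      · exact B.one_mem
      · rw [Finset.mem_singleton.1 h]; exact hχ
    · rw [B.cardX, Finset.card_pair (Ne.symm hχ1)]
  set f := charDegree (χ : G → ℂ) with hf
  have hone : charDegree (Cfsg.Agent.BlockPrincipal81.oneChar G : G → ℂ) = 1 := by
    have h := ClassAlgebraVal.apply_one_eq_charDegree (Cfsg.Agent.BlockPrincipal81.oneChar G)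
    rw [show (Cfsg.Agent.BlockPrincipal81.oneChar G : G → ℂ) 1 = 1 from rfl] at h
    exact_mod_cast h.symm
  have hf1 : f ≠ 1 := fun h => hχ1 (eq_oneChar_of_degree_one hperf h)
  have hf0 : 0 < f := ClassAlgebraVal.charDegree_pos χ
  have hd : ∀ η ∈ Y, ε * (charDegree (η : G → ℂ) : ℤ) = 1 + a χ * f := by
    intro η hη
    have h := B.regular η hη 1 (by rw [orderOf_one, Nat.dvd_one]; exact hp.ne_one)
    rw [hXeq, Finset.sum_pair (Ne.symm hχ1), B.a_one] at h
    simp only [ClassAlgebraVal.apply_one_eq_charDegree, hone] at h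
    refine Int.cast_injective (α := ℂ) ?_
    rw [hf]
    push_cast at h ⊢
    linear_combination h
  -- the permutation character
  obtain ⟨m, hm, hdec⟩ :=
    CharBasicDecomp.exists_mult (CharBasicPerm.isCharacter_fixedBy (G := G) α)
  obtain ⟨a₀⟩ : Nonempty α := Fintype.card_pos_iff.1 (by omega)
  have hidx : (stabilizer G a₀).index = 2 * p := by
    rw [index_stabilizer_of_transitive (G := G) a₀, Nat.card_eq_fintype_card, hα]
  have hfix : ∀ y ∈ Ps P, Nat.card (fixedBy α y) = 0 := by
    intro y hy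
    rw [Nat.card_eq_zero]
    refine Or.inl ⟨fun ⟨x, hx⟩ => ?_⟩
    have hle : (P : Subgroup G) ≤ stabilizer G x := by
      rw [← DefectOneSign7.zpowers_eq P hP (mem_Ps.1 hy).1 (mem_Ps.1 hy).2]
      exact Subgroup.zpowers_le.2 hx
    apply P.not_dvd_index
    refine dvd_trans ?_ (Subgroup.index_dvd_of_le hle)
    rw [index_stabilizer_of_transitive (G := G) x, Nat.card_eq_fintype_card, hα]
    exact dvd_mul_left p 2
  have hout : ∀ ψ : IrrCharacter G, ψ ∉ X → ψ ∉ Y → p ∣ charDegree (ψ : G → ℂ) := by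
    intro ψ h1 h2
    obtain ⟨c, hc⟩ := exists_nat_avg (P : Subgroup G) (CharBasic.isCharacter_of_isIrrCharacter ψ.2)
    rw [sum_els_P, Finset.sum_eq_zero fun y hy => vanish B hP hC he h1 h2 hy, add_zero,
      ClassAlgebraVal.apply_one_eq_charDegree, show Nat.card (P : Subgroup G) = p from hP] at hc
    exact ⟨c, by exact_mod_cast hc⟩
  have hm1 : m (Cfsg.Agent.BlockPrincipal81.oneChar G) = 1 := by
    have h := hm (Cfsg.Agent.BlockPrincipal81.oneChar G)
    rw [show ((Cfsg.Agent.BlockPrincipal81.oneChar G : IrrCharacter G) : G → ℂ) = fun _ => 1 from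
      rfl, CharBasicPerm.classInner_fixedBy_one] at h
    have h1 : Nat.card (orbitRel.Quotient G α) = 1 := by
      refine Nat.card_eq_one_iff_unique.2 ⟨⟨fun u w => ?_⟩, ⟨Quotient.mk'' a₀⟩⟩
      induction u using Quotient.inductionOn'
      induction w using Quotient.inductionOn'
      exact Quotient.sound' (exists_smul_eq G _ _)
    rw [h1] at h
    exact_mod_cast h.symm
  have hone_nY : Cfsg.Agent.BlockPrincipal81.oneChar G ∉ Y := fun h =>
    Finset.disjoint_left.1 B.disj B.one_mem h
  have hχY : χ ∉ Y := fun h => Finset.disjoint_left.1 B.disj hχ h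
  set O := Finset.univ.filter fun ψ : IrrCharacter G => ψ ∉ X ∧ ψ ∉ Y with hO
  have huniv : (Finset.univ : Finset (IrrCharacter G)) = X ∪ (Y ∪ O) := by
    ext ψ
    simp only [Finset.mem_univ, Finset.mem_union, hO, Finset.mem_filter, true_and, true_iff]
    tauto
  have hsplit : ∀ F : IrrCharacter G → ℕ, ∑ ψ, F ψ =
      F (Cfsg.Agent.BlockPrincipal81.oneChar G) + F χ + (∑ η ∈ Y, F η + ∑ ψ ∈ O, F ψ) := by
    intro F
    rw [huniv, Finset.sum_union (Finset.disjoint_left.2 fun ψ h1 h2 => by
      rcases Finset.mem_union.1 h2 with h3 | h3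
      · exact Finset.disjoint_left.1 B.disj h1 h3
      · exact (Finset.mem_filter.1 h3).2.1 h1), Finset.sum_union (Finset.disjoint_left.2
        fun ψ h1 h2 => (Finset.mem_filter.1 h2).2.2 h1), hXeq, Finset.sum_pair (Ne.symm hχ1)]
  have htot : ∑ ψ : IrrCharacter G, m ψ * charDegree (ψ : G → ℂ) = 2 * p := by
    have h := congrFun hdec 1
    simp only [Finset.sum_apply, Pi.smul_apply, smul_eq_mul,
      ClassAlgebraVal.apply_one_eq_charDegree] at h
    rw [show Nat.card (fixedBy α (1 : G)) = 2 * p by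
      rw [fixedBy_one_eq_univ, Nat.card_coe_set_eq, Set.ncard_univ, Nat.card_eq_fintype_card, hα]] at h
    exact_mod_cast h.symm
  rw [hsplit, hm1, hone] at htot
  obtain ⟨c, hc⟩ : p ∣ ∑ ψ ∈ O, m ψ * charDegree (ψ : G → ℂ) :=
    Finset.dvd_sum fun ψ hψ => (hout ψ (Finset.mem_filter.1 hψ).2.1 (Finset.mem_filter.1 hψ).2.2).mul_left _
  have hcf : (f : ℤ) ≡ a χ [ZMOD p] := B.congrX χ hχ
  obtain ⟨k, hk⟩ := Int.ModEq.dvd hcf.symm
  -- the common degree of the exceptional characters
  obtain ⟨η₀, hη₀⟩ := Y_nonempty B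
  set d := charDegree (η₀ : G → ℂ) with hddef
  have hd0 : 0 < d := ClassAlgebraVal.charDegree_pos η₀
  have hdY : ∀ η ∈ Y, charDegree (η : G → ℂ) = d := by
    intro η hη
    have h := (hd η hη).trans (hd η₀ hη₀).symm
    rcases B.sign with hs | hs <;> rw [hs] at h <;> omega
  rw [Finset.sum_congr rfl fun η hη => by rw [hdY η hη], ← Finset.sum_mul, hc, ← hf] at htot
  set M := ∑ η ∈ Y, m η with hM
  have hdη := hd η₀ hη₀
  rw [← hddef] at hdη
  -- the case analysis
  have hcase : m χ * f + M * d + p * c + 1 = 2 * p := by omega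
  have hmf : m χ * f ≤ 2 * p := by omega
  have hMd : M * d ≤ 2 * p := by omega
  have hc2 : c ≤ 1 := by
    by_contra hc'
    have : p * 2 ≤ p * c := Nat.mul_le_mul_left _ (by omega)
    omega
  rcases B.signX χ hχ with ha | ha
  · exfalso
    rw [ha] at hk hdη
    have hk1 : 1 ≤ k := by
      by_contra hk'
      push Not at hk'
      have : (p : ℤ) * k ≤ p * 0 := Int.mul_le_mul_of_nonneg_left (by omega) (Int.natCast_nonneg p)
      omega
    have hfp : (p : ℤ) * 1 ≤ p * k := Int.mul_le_mul_of_nonneg_left hk1 (Int.natCast_nonneg p)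
    have hdf : d = f + 1 := by rcases B.sign with hs | hs <;> rw [hs] at hdη <;> omega
    have hsum : m χ + M ≤ 1 := by
      by_contra hge
      have h1 : (m χ + M) * f ≤ m χ * f + M * d := by rw [hdf]; ring_nf; omega
      have h2 : 2 * f ≤ (m χ + M) * f := Nat.mul_le_mul_right _ (by omega)
      omega
    have hk2 : k ≤ 1 ∨ 2 ≤ k := by omega
    have hfp2 : 2 ≤ k → (p : ℤ) * 2 ≤ p * k := fun h =>
      Int.mul_le_mul_of_nonneg_left h (Int.natCast_nonneg p)
    obtain ⟨hm0, hM0⟩ | ⟨hm0, hM0⟩ | ⟨hm0, hM0⟩ : m χ = 0 ∧ M = 0 ∨ m χ = 1 ∧ M = 0 ∨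
        m χ = 0 ∧ M = 1 := by omega
    all_goals rw [hm0, hM0] at hcase
    all_goals rcases hk2 with hk2 | hk2
    all_goals first
      | (have := hfp2 hk2; interval_cases c <;> omega)
      | (have hk' : k = 1 := by omega
         subst hk'
         interval_cases c <;> omega)
  · rw [ha] at hk hdη
    by_contra hne
    have hk2 : 2 ≤ k := by
      by_contra hk'
      push Not at hk'
      rcases (show k ≤ 0 ∨ k = 1 by omega) with h | h
      · have : (p : ℤ) * k ≤ p * 0 := Int.mul_le_mul_of_nonneg_left h (Int.natCast_nonneg p)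
        omega
      · subst h; omega
    have hfp : (p : ℤ) * 2 ≤ p * k := Int.mul_le_mul_of_nonneg_left hk2 (Int.natCast_nonneg p)
    have hdf : d + 1 = f := by rcases B.sign with hs | hs <;> rw [hs] at hdη <;> omega
    have hsum : m χ + M ≤ 1 := by
      by_contra hge
      have h1 : (m χ + M) * d ≤ m χ * f + M * d := by rw [← hdf]; ring_nf; omega
      have h2 : 2 * d ≤ (m χ + M) * d := Nat.mul_le_mul_right _ (by omega)
      omega
    rcases (show k = 2 ∨ 3 ≤ k by omega) with hk' | hk'
    · subst hk'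
      obtain ⟨hm0, hM0⟩ | ⟨hm0, hM0⟩ | ⟨hm0, hM0⟩ : m χ = 0 ∧ M = 0 ∨ m χ = 1 ∧ M = 0 ∨
          m χ = 0 ∧ M = 1 := by omega
      all_goals rw [hm0, hM0] at hcase
      · interval_cases c <;> omega
      · have hc0 : c = 0 := by interval_cases c <;> omega
        apply hnot2
        apply pretransitive_two_of_orbits
        have hO0 : ∀ ψ ∈ O, m ψ = 0 := by
          intro ψ hψ
          rw [hc0, mul_zero] at hc
          exact (Nat.mul_eq_zero.1 (Finset.sum_eq_zero_iff.1 hc ψ hψ)).resolve_right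
            (ClassAlgebraVal.charDegree_pos ψ).ne'
        have hY0 : ∀ η ∈ Y, m η = 0 := Finset.sum_eq_zero_iff.1 hM0
        have h := CharBasicPerm.classInner_fixedBy_self (G := G) α
        have h2 : classInner (fun g : G => (Nat.card (fixedBy α g) : ℂ))
            (fun g => (Nat.card (fixedBy α g) : ℂ)) =
            ((∑ ψ : IrrCharacter G, m ψ * m ψ : ℕ) : ℂ) := by
          conv_lhs => arg 2; rw [hdec]
          rw [CharBasicOrth.classInner_sum_right]
          push_cast
          refine Finset.sum_congr rfl fun ψ _ => ?_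
          rw [CharBasicOrth.classInner_smul_right, hm, map_natCast]
        rw [h] at h2
        rw [hsplit, hm1, hm0, Finset.sum_eq_zero fun η hη => by simp [hY0 η hη],
          Finset.sum_eq_zero fun ψ hψ => by simp [hO0 ψ hψ]] at h2
        exact le_of_eq (by exact_mod_cast h2)
      · interval_cases c <;> omega
    · have : (p : ℤ) * 3 ≤ p * k := Int.mul_le_mul_of_nonneg_left hk' (Int.natCast_nonneg p)
      obtain ⟨hm0, hM0⟩ | ⟨hm0, hM0⟩ | ⟨hm0, hM0⟩ : m χ = 0 ∧ M = 0 ∨ m χ = 1 ∧ M = 0 ∨
          m χ = 0 ∧ M = 1 := by omega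
      all_goals rw [hm0, hM0] at hcase
      all_goals interval_cases c <;> omega

/-- With elementary abelian involution centralizers of order `q = p - 1` the degree is `10`. -/
theorem eq_five {H : Type*} [Group H] [Finite H] {p j : ℕ} (hp5 : 5 ≤ p) (hj : p - 1 = 2 ^ j)
    (hcard : Nat.card H = p * ((p - 1) * (p - 2)))
    (hexp : ∀ t : H, orderOf t = 2 → ∀ c ∈ Subgroup.centralizer ({t} : Set H), c ^ 2 = 1)
    (hT : ∀ T : Sylow 2 H, Nat.card T = p - 1)
    (hsimple : ∀ K : Subgroup H, K.Normal → K ≠ ⊥ → K = ⊤)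
    (S : Subgroup H) (hS : IsCoatom S) (hidx : S.index = 2 * p) : p = 5 := by
  classical
  haveI : Fact (Nat.Prime 2) := ⟨Nat.prime_two⟩
  obtain ⟨i, rfl⟩ : ∃ i, j = i + 2 := by
    refine ⟨j - 2, ?_⟩
    rcases j with _ | _ | j <;> simp at hj ⊢ <;> omega
  have hq : p - 1 = 2 * 2 ^ (i + 1) := by rw [hj, pow_succ 2 (i + 1)]; ring
  have hScard : Nat.card S = 2 ^ (i + 1) * (p - 2) := by
    have h := S.card_mul_index
    rw [hidx, hcard, hq] at h
    refine Nat.eq_of_mul_eq_mul_right (show 0 < 2 * p by omega) ?_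
    rw [h]; ring
  have hsq : ∀ t : H, t ≠ 1 → t ^ 2 = 1 → orderOf t = 2 := fun t h1 h2 => orderOf_eq_prime h2 h1
  -- a Sylow `2`-subgroup is the centralizer of each of its involutions
  have hTexp : ∀ T : Sylow 2 H, ∀ x ∈ (T : Subgroup H), x ^ 2 = 1 := by
    intro T x hx
    haveI : Nontrivial (T : Subgroup H) := Finite.one_lt_card_iff_nontrivial.1 (by
      rw [show Nat.card (T : Subgroup H) = p - 1 from hT T]; omega)
    have hnt := T.2.center_nontrivial
    obtain ⟨⟨z, hz⟩, hz1⟩ := exists_ne (1 : Subgroup.center (T : Subgroup H))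
    obtain ⟨k, hk⟩ := (IsPGroup.iff_orderOf.1 T.2) z
    rcases k with _ | k
    · rw [pow_zero, orderOf_eq_one_iff] at hk
      exact absurd (Subtype.ext hk) hz1
    set t := z ^ 2 ^ k with ht
    have hto : orderOf t = 2 := by
      rw [ht, orderOf_pow' _ (by positivity), hk,
        show Nat.gcd (2 ^ (k + 1)) (2 ^ k) = 2 ^ k from
          Nat.gcd_eq_right (pow_dvd_pow 2 (Nat.le_succ k)), pow_succ,
        Nat.mul_div_cancel_left _ (by positivity)]
    refine hexp (t : H) (by rw [Subgroup.orderOf_coe]; exact hto) x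
      (Subgroup.mem_centralizer_singleton_iff.2 ?_)
    have := Subgroup.mem_center_iff.1 (Subgroup.pow_mem _ hz (2 ^ k)) ⟨x, hx⟩
    exact congrArg Subtype.val this
  have hTcomm : ∀ T : Sylow 2 H, ∀ x ∈ (T : Subgroup H), ∀ y ∈ (T : Subgroup H), x * y = y * x := by
    intro T x hx y hy
    have e1 : ∀ {z : H}, z ^ 2 = 1 → z⁻¹ = z := fun {z} h =>
      inv_eq_of_mul_eq_one_left (by rwa [← sq])
    have := e1 (hTexp T _ (mul_mem hx hy))
    rw [mul_inv_rev, e1 (hTexp T x hx), e1 (hTexp T y hy)] at this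
    exact this.symm
  have hcent : ∀ T : Sylow 2 H, ∀ t ∈ (T : Subgroup H), t ≠ 1 →
      Subgroup.centralizer ({t} : Set H) = (T : Subgroup H) := by
    intro T t ht ht1
    refine T.is_maximal' ?_ fun x hx =>
      Subgroup.mem_centralizer_singleton_iff.2 (hTcomm T x hx t ht)
    intro c
    exact ⟨1, Subtype.ext (by simpa using hexp t (hsq t ht1 (hTexp T t ht)) c c.2)⟩
  -- the Sylow `2`-subgroups of `S`
  have hodd : ¬ 2 ∣ p - 2 := by
    intro h
    have : 2 ∣ p - 1 := hq ▸ dvd_mul_right _ _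
    omega
  have hS2 : ∀ R : Sylow 2 S, Nat.card R = 2 ^ (i + 1) := by
    intro R
    obtain ⟨b, hb⟩ := IsPGroup.iff_card.1 R.2
    have h1 := (R : Subgroup S).card_mul_index
    rw [hScard] at h1
    have h2 : Nat.card (R : Subgroup S) ∣ 2 ^ (i + 1) := by
      have hd : Nat.card (R : Subgroup S) ∣ 2 ^ (i + 1) * (p - 2) := ⟨_, h1.symm⟩
      refine Nat.Coprime.dvd_of_dvd_mul_right ?_ hd
      rw [hb]
      exact Nat.Coprime.pow_left _ (Nat.prime_two.coprime_iff_not_dvd.2 hodd)
    have h3 : 2 ^ (i + 1) ∣ Nat.card (R : Subgroup S) * (R : Subgroup S).index := ⟨_, h1⟩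
    exact Nat.dvd_antisymm h2 ((Nat.Coprime.pow_left _
      (Nat.prime_two.coprime_iff_not_dvd.2 R.not_dvd_index)).dvd_of_dvd_mul_right h3)
  obtain ⟨R₀⟩ : Nonempty (Sylow 2 S) := inferInstance
  have hone_lt : 1 < 2 ^ (i + 1) := Nat.one_lt_two_pow (by omega)
  -- `R₀` is semiregular on the other Sylow subgroups of `S`
  have hfree : ∀ R : Sylow 2 S, R ≠ R₀ → ∀ x : (R₀ : Subgroup S), x • R = R → x = 1 := by
    intro R hR x hx
    by_contra hx1
    have hxR : (x : S) ∈ (R : Subgroup S) := by
      have h1 : (x : S) ∈ Subgroup.normalizer ((R : Subgroup S) : Set S) :=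
        Sylow.smul_eq_iff_mem_normalizer.1 hx
      have hpg : IsPGroup 2 (Subgroup.zpowers (x : S)) :=
        R₀.2.to_le (Subgroup.zpowers_le.2 x.2)
      have hle : (R : Subgroup S) ⊔ Subgroup.zpowers (x : S) = R :=
        R.is_maximal' (IsPGroup.to_sup_of_normal_left' R.isPGroup' hpg (Subgroup.zpowers_le.2 h1))
          le_sup_left
      rw [← hle]
      exact Subgroup.mem_sup_right (Subgroup.mem_zpowers _)
    obtain ⟨T₁, hT₁⟩ := (R.2.map S.subtype).exists_le_sylow
    obtain ⟨T₂, hT₂⟩ := (R₀.2.map S.subtype).exists_le_sylow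
    have hx' : ((x : S) : H) ≠ 1 := fun h => hx1 (Subtype.ext (Subtype.ext h))
    have h1 := hcent T₁ _ (hT₁ (Subgroup.mem_map_of_mem _ hxR)) hx'
    have h2 := hcent T₂ _ (hT₂ (Subgroup.mem_map_of_mem _ x.2)) hx'
    have hT12 : (T₁ : Subgroup H) = T₂ := h1.symm.trans h2
    apply hR
    have hpg : IsPGroup 2 ((T₁ : Subgroup H).comap S.subtype) :=
      T₁.2.comap_of_injective S.subtype S.subtype_injective
    have e1 : (T₁ : Subgroup H).comap S.subtype = R :=
      R.is_maximal' hpg (Subgroup.map_le_iff_le_comap.1 hT₁)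
    have e2 : (T₁ : Subgroup H).comap S.subtype = R₀ :=
      R₀.is_maximal' hpg (Subgroup.map_le_iff_le_comap.1 (hT12 ▸ hT₂))
    exact Sylow.ext (e1.symm.trans e2)
  have hcardne : 2 ^ (i + 1) ∣ Nat.card (Sylow 2 S) - 1 := by
    let A : SubMulAction (R₀ : Subgroup S) (Sylow 2 S) :=
      { carrier := {R | R ≠ R₀}
        smul_mem' := fun x R hR h => hR (by
          have h0 : x • R₀ = R₀ := Sylow.smul_eq_iff_mem_normalizer.2 (Subgroup.le_normalizer x.2)
          exact smul_left_cancel x (h.trans h0.symm)) }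
    have hdvd : Nat.card (R₀ : Subgroup S) ∣ Nat.card A := by
      letI := Fintype.ofFinite (orbitRel.Quotient (R₀ : Subgroup S) A)
      rw [Nat.card_congr (selfEquivSigmaOrbits (R₀ : Subgroup S) A), Nat.card_sigma]
      refine Finset.dvd_sum fun o _ => ?_
      set b := Quotient.out o
      have h1 : (stabilizer (R₀ : Subgroup S) b) = ⊥ := by
        rw [eq_bot_iff]
        intro x hx
        exact hfree _ b.2 x (congrArg Subtype.val hx)
      rw [Nat.card_congr (orbitEquivQuotientStabilizer (R₀ : Subgroup S) b),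
        ← Subgroup.index_eq_card, h1, Subgroup.index_bot]
    rw [show Nat.card (R₀ : Subgroup S) = 2 ^ (i + 1) from hS2 R₀] at hdvd
    have h2 : Nat.card A + 1 = Nat.card (Sylow 2 S) := by
      show Nat.card {R : Sylow 2 S // R ≠ R₀} + 1 = _
      rw [← Finite.card_option, Nat.card_congr (Equiv.optionSubtypeNe R₀)]
    rwa [← h2, Nat.add_sub_cancel]
  have hns : Nat.card (Sylow 2 S) ∣ p - 2 := by
    have h1 := (R₀ : Subgroup S).card_mul_index
    rw [hScard, show Nat.card (R₀ : Subgroup S) = 2 ^ (i + 1) from hS2 R₀] at h1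
    rw [← Nat.eq_of_mul_eq_mul_left (by omega) h1]
    exact R₀.card_dvd_index
  obtain ⟨m, hm⟩ := hcardne
  obtain ⟨r, hr⟩ := hns
  have hpos : 0 < Nat.card (Sylow 2 S) := Nat.card_pos
  rcases (show m = 0 ∨ m = 1 ∨ 2 ≤ m by omega) with rfl | rfl | hm2
  · -- the Sylow subgroup of `S` is normal
    exfalso
    rw [mul_zero] at hm
    have hn : Nat.card (Sylow 2 S) = 1 := by omega
    rw [R₀.card_eq_index_normalizer, Subgroup.index_eq_one] at hn
    set T₀ := (R₀ : Subgroup S).map S.subtype with hT₀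
    obtain ⟨T, hTle⟩ := (R₀.2.map S.subtype).exists_le_sylow
    have hSN : S ≤ Subgroup.normalizer (T₀ : Set H) := by
      have h := Subgroup.le_normalizer_map (H := (R₀ : Subgroup S)) S.subtype
      rw [show Subgroup.normalizer ((R₀ : Subgroup S) : Set S) = ⊤ from hn,
        ← MonoidHom.range_eq_map, Subgroup.range_subtype] at h
      exact h
    have hT₀card : Nat.card T₀ = 2 ^ (i + 1) := by
      rw [hT₀, Subgroup.card_map_of_injective S.subtype_injective]; exact hS2 R₀
    have hne : T₀ ≠ ⊥ := fun h => by rw [h, Subgroup.card_bot] at hT₀card; omega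
    have hntop : Subgroup.normalizer (T₀ : Set H) ≠ ⊤ := fun h => by
      haveI : T₀.Normal := Subgroup.normalizer_eq_top_iff.1 h
      have h1 := hsimple T₀ inferInstance hne
      rw [h1, Subgroup.card_top, hcard] at hT₀card
      have h3 : 2 ^ (i + 1) < p * ((p - 1) * (p - 2)) := by
        rw [hq]
        calc 2 ^ (i + 1) < 5 * (2 * 2 ^ (i + 1) * 1) := by omega
          _ ≤ p * (2 * 2 ^ (i + 1) * (p - 2)) :=
            Nat.mul_le_mul hp5 (Nat.mul_le_mul_left _ (by omega))
      omega
    have heq : Subgroup.normalizer (T₀ : Set H) = S :=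
      (hS.le_iff.1 hSN).resolve_left hntop
    have hTN : (T : Subgroup H) ≤ S := by
      rw [← heq]
      intro x hx
      rw [Subgroup.mem_normalizer_iff]
      intro z
      constructor
      · intro hz; rwa [hTcomm T x hx z (hTle hz), mul_inv_cancel_right]
      · intro hz
        have hzT : z ∈ (T : Subgroup H) := by
          have := mul_mem (mul_mem (inv_mem hx) (hTle hz)) hx
          simpa [mul_assoc] using this
        rwa [hTcomm T x hx z hzT, mul_inv_cancel_right] at hz
    have hd := Subgroup.card_dvd_of_le hTN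
    rw [show Nat.card (T : Subgroup H) = p - 1 from hT T, hScard, hq] at hd
    rw [mul_comm 2] at hd
    exact hodd (Nat.dvd_of_mul_dvd_mul_left (by omega) hd)
  · rw [mul_one] at hm
    rcases (show r = 0 ∨ r = 1 ∨ 2 ≤ r by omega) with rfl | rfl | hr2
    · omega
    · rw [mul_one] at hr; omega
    · have : Nat.card (Sylow 2 S) * 2 ≤ Nat.card (Sylow 2 S) * r := Nat.mul_le_mul_left _ hr2
      omega
  · exfalso
    have : 2 ^ (i + 1) * 2 ≤ 2 ^ (i + 1) * m := Nat.mul_le_mul_left _ hm2
    have := Nat.le_of_dvd (by omega) (Dvd.intro r hr.symm)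
    omega


/-- Let p > 3 be a prime and G a primitive permutation group of degree 2p that is not doubly transitive. If a Sylow p-subgroup of G has normalizer of order 2p, then p = 5 and G is isomorphic to the alternating group of degree 5. -/
theorem result {α : Type*} [Fintype α] [DecidableEq α] {p : ℕ} [Fact p.Prime] (hp : 3 < p) (hα : Fintype.card α = 2 * p) (G : Subgroup (Equiv.Perm α)) (hprim : MulAction.IsPreprimitive G α) (hnot2 : ¬ MulAction.IsMultiplyPretransitive G α 2) (P : Sylow p G) (hN : Nat.card (Subgroup.normalizer ((P : Subgroup G) : Set G)) = 2 * p) : p = 5 ∧ Nonempty (G ≃* alternatingGroup (Fin 5)) := by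
  classical
  haveI := Fintype.ofFinite G
  have hp5 : 5 ≤ p := by
    rcases Nat.lt_or_ge p 5 with h | h
    · have h4 : p = 4 := by omega
      exact absurd (h4 ▸ (Fact.out : p.Prime)) (by norm_num)
    · exact h
  have hpp := (Fact.out : p.Prime)
  have hP := card_sylow_eq hprim hα P hN (by omega)
  have hC := cent_eq hprim hα P hN (by omega)
  have he : (Subgroup.centralizer ((P : Subgroup G) : Set G)).relIndex
      (Subgroup.normalizer ((P : Subgroup G) : Set G)) = 2 := by
    have h := card_normalizer_eq hP _ (rfl : (Subgroup.centralizer ((P : Subgroup G) : Set G)).relIndex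
      (Subgroup.normalizer ((P : Subgroup G) : Set G)) = _)
    rw [hN] at h
    rw [hC] at h ⊢
    rw [show Nat.card (P : Subgroup G) = p from hP] at h
    exact (Nat.eq_of_mul_eq_mul_right hpp.pos h).symm
  have hsimp : ∀ K : Subgroup G, K.Normal → K ≠ ⊥ → K = ⊤ := fun K hK hne =>
    normal_eq_top hprim hα P hN (by omega) hK hne
  have h2p : 2 * p ∣ Nat.card G := hN ▸ Subgroup.card_subgroup_dvd_card _
  haveI : Nontrivial G := Finite.one_lt_card_iff_nontrivial.1
    (by have := Nat.le_of_dvd Nat.card_pos h2p; omega)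
  have hperf : commutator G = ⊤ := by
    refine hsimp _ inferInstance fun h => ?_
    have hcomm : ∀ x y : G, x * y = y * x := fun x y => by
      rw [← commutatorElement_eq_one_iff_mul_comm, ← Subgroup.mem_bot, ← h, commutator_def]
      exact Subgroup.commutator_mem_commutator (Subgroup.mem_top x) (Subgroup.mem_top y)
    have htop : Subgroup.centralizer ((P : Subgroup G) : Set G) = ⊤ :=
      eq_top_iff.2 fun g _ => Subgroup.mem_centralizer_iff.2 fun y _ => hcomm y g
    rw [htop] at hC
    have h1 : Nat.card G = p := by rw [← Subgroup.card_top (G := G), hC]; exact hP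
    have := Nat.le_of_dvd (by omega) (h1 ▸ h2p)
    omega
  have hcore : ∀ K : Subgroup G, K.Normal → ¬ p ∣ Nat.card K → K = ⊥ := by
    intro K hK hd
    by_contra hne
    exact hd ((dvd_mul_left p 2).trans (degree_dvd_card hprim hK hne hα hpp.pos))
  obtain ⟨n, hn⟩ : ∃ n, Nat.card (Sylow p G) = 1 + n * p := by
    have h1 : Nat.card (Sylow p G) % p = 1 :=
      Eq.trans (card_sylow_modEq_one p G) (Nat.mod_eq_of_lt hpp.one_lt)
    refine ⟨Nat.card (Sylow p G) / p, ?_⟩
    have h2 := Nat.mod_add_div (Nat.card (Sylow p G)) p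
    rw [h1, mul_comm] at h2
    exact h2.symm
  obtain ⟨X, Y, a, ε, B⟩ := exists_blk hP 2 he
  obtain ⟨χ, hχ, hdeg⟩ := exists_deg_pred hprim hnot2 hα hp5 hperf P hP hC he B
  have hnp := Cfsg.Agent.DefectTwoIndex63.two_mul_add_three B hP hC he hp5 hcore hn hχ hdeg
  have S : Setup P 2 n X Y a ε := ⟨B, hperf, hP, hC, he, hn, by omega, by omega, le_rfl⟩
  have hGc : Nat.card G = p * ((p - 1) * (p - 2)) := by
    rw [card_G S]
    obtain ⟨r, rfl⟩ : ∃ r, p = r + 2 := ⟨p - 2, by omega⟩
    rw [show r + 2 - 1 = r + 1 by omega, show r + 2 - 2 = r by omega]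
    have : 2 * n + 1 = r := by omega
    subst this
    ring
  have hp' : p = 5 := by
    rcases dichotomy S with ⟨-, hpe⟩ | ⟨-, j, hj, hexp, hT⟩
    · omega
    · haveI := hprim
      haveI : Nontrivial α := Fintype.one_lt_card_iff_nontrivial.1 (by omega)
      obtain ⟨a₀⟩ : Nonempty α := inferInstance
      refine eq_five hp5 hj hGc hexp (fun T => (hT T).1) hsimp (MulAction.stabilizer G a₀)
        (MulAction.IsPreprimitive.isCoatom_stabilizer_of_isPreprimitive _ a₀) ?_
      rw [MulAction.index_stabilizer_of_transitive (G := G) a₀, Nat.card_eq_fintype_card, hα]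
  subst hp'
  haveI : IsSimpleGroup G := ⟨fun K hK => or_iff_not_imp_left.2 (hsimp K hK)⟩
  exact ⟨rfl, Cfsg.Agent.S0494.result (by rw [hGc])⟩

end Cfsg.Agent.S4707
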