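import Cfsg.Statements.S4708
import Cfsg.Agent.Lib.PrincipalCover80

set_option autoImplicit false
open Cfsg

namespace Cfsg.Agent.S4708

open Cfsg.Agent.BlockTheoryIdem Cfsg.Agent.BlockTheoryCentre
open Cfsg.Agent.CharBasic Cfsg.Agent.CharBasicOrth Cfsg.Agent.CharBasicDecomp
open Cfsg.Agent.PrincipalSylow80 Cfsg.Agent.PrincipalCover80

attribute [local instance] Classical.propDecidable

universe u

variable {p : ℕ} {M : Ideal AlgInt} {G : Type u} [Group G] [Fintype G]

theorem bounds [Fact p.Prime] (hM : IsPModular p M) (H : Subgroup G) [H.Normal] [Fintype H] :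
    (∑ θ : IrrCharacter H, if θ ∈ principalBlock M H then charDegree (θ : H → ℂ) ^ 2 else 0) ≤
      (∑ χ : IrrCharacter G, if χ ∈ principalBlock M G then charDegree (χ : G → ℂ) ^ 2 else 0) ∧
    (∑ χ : IrrCharacter G, if χ ∈ principalBlock M G then charDegree (χ : G → ℂ) ^ 2 else 0) ≤
      H.index *
        ∑ θ : IrrCharacter H, if θ ∈ principalBlock M H then charDegree (θ : H → ℂ) ^ 2 else 0 := by
  have hm : ∀ (χ : IrrCharacter G) (θ : IrrCharacter H), ∃ k : ℕ,
      classInner (fun x : H => (χ : G → ℂ) x) (θ : H → ℂ) = k := fun χ θ =>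
    classInner_isCharacter (CharInduced.isCharacter_res H (isCharacter_of_isIrrCharacter χ.2))
      (isCharacter_of_isIrrCharacter θ.2)
  choose m hm using hm
  have hdeg : ∀ χ : IrrCharacter G, charDegree (χ : G → ℂ) =
      ∑ θ : IrrCharacter H, m χ θ * charDegree (θ : H → ℂ) := fun χ => by
    have h := congrFun (eq_sum_classInner (CharInduced.isClassFunction_res H (irr_classFun χ))) 1
    simp only [Finset.sum_apply, Pi.smul_apply, smul_eq_mul, hm, OneMemClass.coe_one,
      fun θ : IrrCharacter H => irr_charDegree θ] at h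
    rw [irr_charDegree χ] at h
    exact_mod_cast h
  have hind : ∀ θ : IrrCharacter H, ∑ χ : IrrCharacter G, charDegree (χ : G → ℂ) * m χ θ =
      H.index * charDegree (θ : H → ℂ) := fun θ => by
    have h := sum_degree_inner H (θ : H → ℂ)
    rw [irr_charDegree θ, map_natCast] at h
    simp only [hm, fun χ : IrrCharacter G => irr_charDegree χ] at h
    exact_mod_cast h
  have hzero : ∀ χ ∈ principalBlock M G, ∀ θ : IrrCharacter H, θ ∉ principalBlock M H →
      m χ θ = 0 := fun χ hχ θ hθ => by
    by_contra h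
    exact hθ (constituent_mem_principal H hM hχ (by rw [hm]; exact_mod_cast h))
  constructor
  · have hov : ∀ θ : IrrCharacter H, ∃ χ : IrrCharacter G,
        θ ∈ principalBlock M H → χ ∈ principalBlock M G ∧ 1 ≤ m χ θ := fun θ => by
      by_cases hθ : θ ∈ principalBlock M H
      · obtain ⟨χ, hχ, h⟩ := exists_over hM H hθ
        refine ⟨χ, fun _ => ⟨hχ, Nat.pos_of_ne_zero fun e => h (by rw [hm, e, Nat.cast_zero])⟩⟩
      · exact ⟨trivIrr G, fun h => absurd h hθ⟩
    choose f hf using hov
    rw [← Finset.sum_filter]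
    rw [← Finset.sum_fiberwise_of_maps_to (g := f)
      (t := Finset.univ) (fun x _ => Finset.mem_univ _)]
    refine Finset.sum_le_sum fun χ _ => ?_
    by_cases hne : ((Finset.univ.filter (fun θ : IrrCharacter H => θ ∈ principalBlock M H)).filter
        fun θ => f θ = χ).Nonempty
    · obtain ⟨θ, hθ⟩ := hne
      simp only [Finset.mem_filter, Finset.mem_univ, true_and] at hθ
      rw [if_pos (hθ.2 ▸ (hf θ hθ.1).1), hdeg χ]
      refine (Finset.sum_sq_le_sq_sum_of_nonneg fun θ _ => Nat.zero_le _).trans ?_
      refine Nat.pow_le_pow_left ?_ 2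
      refine (Finset.sum_le_sum fun θ hθ => ?_).trans
        (Finset.sum_le_sum_of_subset (Finset.subset_univ _))
      simp only [Finset.mem_filter, Finset.mem_univ, true_and] at hθ
      exact Nat.le_mul_of_pos_left _ (hθ.2 ▸ (hf θ hθ.1).2)
    · rw [Finset.not_nonempty_iff_eq_empty.1 hne, Finset.sum_empty]
      exact Nat.zero_le _
  · calc (∑ χ : IrrCharacter G, if χ ∈ principalBlock M G then charDegree (χ : G → ℂ) ^ 2 else 0)
        = ∑ θ : IrrCharacter H, ∑ χ : IrrCharacter G, (if χ ∈ principalBlock M G then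
            charDegree (χ : G → ℂ) * m χ θ * charDegree (θ : H → ℂ) else 0) := by
          rw [Finset.sum_comm]
          refine Finset.sum_congr rfl fun χ _ => ?_
          split_ifs with hχ
          · rw [sq]
            conv_lhs => arg 2; rw [hdeg χ]
            rw [Finset.mul_sum]
            exact Finset.sum_congr rfl fun θ _ => by ring
          · simp
      _ ≤ _ := by
          rw [Finset.mul_sum]
          refine Finset.sum_le_sum fun θ _ => ?_
          by_cases hθ : θ ∈ principalBlock M H
          · rw [if_pos hθ, sq, ← mul_assoc, ← hind θ, Finset.sum_mul]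
            refine Finset.sum_le_sum fun χ _ => ?_
            split_ifs
            · exact le_rfl
            · exact Nat.zero_le _
          · rw [if_neg hθ, mul_zero, Nat.le_zero]
            refine Finset.sum_eq_zero fun χ _ => ?_
            split_ifs with hχ
            · rw [hzero χ hχ θ hθ, mul_zero, zero_mul]
            · rfl

end Cfsg.Agent.S4708

namespace Cfsg.Agent.S4708

/-- Let p be a prime, M a maximal ideal of the algebraic integers containing p, G a finite group and H a normal subgroup. Write λ(X) for the sum of the squares of the degrees of the irreducible characters in the principal p-block of a group X. Then λ(H) ≤ λ(G) ≤ [G : H]·λ(H). -/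
theorem result {G : Type*} [Group G] [Finite G] (p : ℕ) [Fact p.Prime] (M : Ideal Cfsg.AlgInt) (hM : Cfsg.IsPModular p M) (H : Subgroup G) [H.Normal] : (∑ᶠ θ ∈ Cfsg.principalBlock M H, Cfsg.charDegree (θ : H → ℂ) ^ 2) ≤ (∑ᶠ χ ∈ Cfsg.principalBlock M G, Cfsg.charDegree (χ : G → ℂ) ^ 2) ∧ (∑ᶠ χ ∈ Cfsg.principalBlock M G, Cfsg.charDegree (χ : G → ℂ) ^ 2) ≤ H.index * ∑ᶠ θ ∈ Cfsg.principalBlock M H, Cfsg.charDegree (θ : H → ℂ) ^ 2 := by
  classical
  haveI : Fintype G := Fintype.ofFinite G
  haveI : Fintype H := Fintype.ofFinite H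
  haveI : Fact p.Prime := ⟨hM.1⟩
  rw [BlockTheoryIdem.finsum_mem_eq_sum, BlockTheoryIdem.finsum_mem_eq_sum]
  exact bounds hM H

end Cfsg.Agent.S4708
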