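import Cfsg.Statements.S4711
import Cfsg.Agent.Lib.PrincipalQuot80
import Cfsg.Agent.Lib.PLengthOne
import Cfsg.Agent.Lib.PLengthSteps
import Cfsg.Agent.Lib.TransferTate
import Cfsg.Agent.Lib.PGroupsBasic

set_option autoImplicit false
open Cfsg

namespace Cfsg.Agent.S4711

open Cfsg.Agent.BlockTheoryCentre Cfsg.Agent.BlockTheoryIdem
open Cfsg.Agent.CharBasic Cfsg.Agent.CharBasicOrth Cfsg.Agent.CharBasicDecomp
open Cfsg.Agent.CharInduced
open scoped ComplexConjugate commutatorElement

attribute [local instance] Classical.propDecidable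

universe u

variable {p : ℕ} {M : Ideal AlgInt} {G : Type u} [Group G] [Fintype G]

theorem forward [hp : Fact p.Prime] (hM : IsPModular p M) (P : Sylow p G)
    (h : PLengthLE p 1 G) (χ : IrrCharacter G) (hχ : χ ∈ principalBlock M G) :
    IsIrrCharacter (Subgroup.normalizer ((P : Subgroup G) : Set G))
      (fun n => (χ : G → ℂ) n) := by
  haveI := HallCore.pPrimeCore_normal p G
  set K := pPrimeCore p G
  have hK : ¬ p ∣ Nat.card K := fun hd =>
    hp.out.ne_one (Nat.eq_one_of_dvd_coprimes (HallCore.coprime_card_pPrimeCore p G) hd dvd_rfl)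
  obtain ⟨ψ, -, rfl⟩ := PrincipalQuot80.exists_infl_eq K hM hK hχ
  refine isIrrCharacter_comap
    ((QuotientGroup.mk' K).comp (Subgroup.normalizer ((P : Subgroup G) : Set G)).subtype) ?_ ψ.2
  intro a
  obtain ⟨g, rfl⟩ := QuotientGroup.mk_surjective a
  obtain ⟨n, hn, o, ho, rfl⟩ := PLengthOne.exists_normalizer_mul h P g
  refine ⟨⟨n, hn⟩, ?_⟩
  show (n : G ⧸ K) = ((n * o : G) : G ⧸ K)
  rw [QuotientGroup.mk_mul, (QuotientGroup.eq_one_iff o).2 ho, mul_one]

/-- Linear characters of the Sylow subgroup detect the part meeting the closure of `P'`. -/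
theorem inter_le_commutator [hp : Fact p.Prime] (hM : IsPModular p M) (P : Sylow p G)
    [Fintype (P : Subgroup G)]
    (hirr : ∀ χ ∈ principalBlock M G, IsIrrCharacter
      (Subgroup.normalizer ((P : Subgroup G) : Set G)) (fun n => (χ : G → ℂ) n)) :
    (P : Subgroup G) ⊓ Subgroup.normalClosure ((commutator (P : Subgroup G)).map
      (P : Subgroup G).subtype : Set G) ≤
      (commutator (P : Subgroup G)).map (P : Subgroup G).subtype := by
  classical
  set PG : Subgroup G := (P : Subgroup G) with hPG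
  set N : Subgroup G := Subgroup.normalizer ((P : Subgroup G) : Set G)
  haveI : Fintype N := Fintype.ofFinite N
  rintro x ⟨hxP, hxD⟩
  by_contra hx
  have hx1 : (Abelianization.of (⟨x, hxP⟩ : PG)) ≠ 1 := fun e =>
    hx ⟨⟨x, hxP⟩, (QuotientGroup.eq_one_iff (⟨x, hxP⟩ : PG)).1 e, rfl⟩
  haveI : Fintype (Abelianization PG) := Fintype.ofFinite _
  obtain ⟨γ, hγ⟩ := CommGroup.exists_apply_ne_one_of_hasEnoughRootsOfUnity
    (Abelianization PG) ℂ hx1
  let lam : PG →* ℂˣ := γ.comp Abelianization.of
  let η : IrrCharacter PG := ⟨_, isIrrCharacter_linear lam⟩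
  have hηB : η ∈ principalBlock M PG := PrincipalQuot80.mem_principal_of_constrained hM ⊤
    (P.isPGroup'.of_equiv Subgroup.topEquiv.symm) le_top η
  obtain ⟨χ, hχ, hcon⟩ := PrincipalCover80.exists_over_of_sylow_le hM P PG le_rfl hηB
  set θ : IrrCharacter N := ⟨_, hirr χ hχ⟩
  have hPN : PG ≤ N := Subgroup.le_normalizer
  haveI : (PG.subgroupOf N).Normal := Subgroup.normal_in_normalizer
  let e : PG.subgroupOf N ≃* PG := Subgroup.subgroupOfEquivOfLe hPN
  have hη' : IsIrrCharacter (PG.subgroupOf N) fun y => (η : PG → ℂ) (e y) :=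
    isIrrCharacter_comap e.toMonoidHom e.surjective η.2
  have hcon' : classInner (fun y : PG.subgroupOf N => (θ : N → ℂ) y)
      (fun y => (η : PG → ℂ) (e y)) ≠ 0 := by
    have h := classInner_congr_equiv e (fun y : PG => (χ : G → ℂ) y) (η : PG → ℂ)
    rw [← h] at hcon
    exact hcon
  have hker : ∀ y : PG, y ∈ commutator PG → (χ : G → ℂ) y = (χ : G → ℂ) 1 := by
    intro y hy
    have hcl := clifford (PG.subgroupOf N) θ.2 hη' hcon'
    have hval : ∀ y' : PG.subgroupOf N, e y' ∈ commutator PG →
        (χ : G → ℂ) ((y' : N) : G) = (χ : G → ℂ) 1 := by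
      intro y' hy'
      have h1 := congrFun hcl y'
      have h2 := congrFun hcl 1
      rw [Pi.smul_apply, Finset.sum_apply] at h1 h2
      refine h1.trans (Eq.trans ?_ h2.symm)
      congr 1
      refine Finset.sum_congr rfl fun φ hφ => ?_
      obtain ⟨g, rfl⟩ := (mem_orbitFin _).1 hφ
      rw [conjFun_eq_comp]
      simp only [Function.comp_apply, MulEquiv.coe_toMonoidHom]
      show (lam (e _) : ℂ) = (lam (e _) : ℂ)
      congr 1
      rw [map_one, map_one, map_one]
      have hconj : ∀ (f : PG.subgroupOf N ≃* PG.subgroupOf N), lam (e (f y')) = 1 := by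
        intro f
        have h3 : commutator PG ≤ (lam.comp ((e.symm.trans f).trans e).toMonoidHom).ker :=
          Abelianization.commutator_subset_ker _
        have h4 := h3 hy'
        simpa using h4
      exact hconj _
    exact hval (e.symm y) (by simpa using hy)
  have hD : Subgroup.normalClosure ((commutator PG).map PG.subtype : Set G) ≤
      CharKernel.irrKer χ := by
    haveI := CharKernel.irrKer_normal χ
    refine Subgroup.normalClosure_le_normal ?_
    rintro _ ⟨y, hy, rfl⟩
    exact CharKernel.mem_irrKer.2 (hker y hy)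
  have hxk := CharKernel.mem_irrKer.1 (hD hxD)
  obtain ⟨n, ρ, -, hρ⟩ := χ.2
  have hρx : ρ x = 1 := by
    rw [← hρ, Representation.char_one, character_eq_finrank_iff] at hxk
    exact hxk
  have hshift : ∀ y : G, (χ : G → ℂ) (x * y) = (χ : G → ℂ) y := fun y => by
    rw [← hρ]
    simp only [Representation.character, map_mul, hρx, one_mul]
  have hnorm : (lam ⟨x, hxP⟩ : ℂ) * conj (lam ⟨x, hxP⟩ : ℂ) = 1 := by
    rw [Complex.mul_conj', norm_linear, Complex.ofReal_one, one_pow]
  have hI : classInner (fun y : PG => (χ : G → ℂ) y) (η : PG → ℂ) =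
      conj (lam ⟨x, hxP⟩ : ℂ) * classInner (fun y : PG => (χ : G → ℂ) y) (η : PG → ℂ) := by
    conv_lhs => rw [classInner, ← Equiv.sum_comp (Equiv.mulLeft (⟨x, hxP⟩ : PG))]
    rw [classInner, ← mul_assoc, mul_comm (conj _), mul_assoc, Finset.mul_sum (a := conj _)]
    congr 1
    refine Finset.sum_congr rfl fun y _ => ?_
    show (χ : G → ℂ) (x * (y : G)) * conj (lam (⟨x, hxP⟩ * y) : ℂ) = _
    rw [hshift, map_mul, Units.val_mul, map_mul]
    show _ = conj (lam ⟨x, hxP⟩ : ℂ) * ((χ : G → ℂ) (y : G) * conj (lam y : ℂ))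
    ring
  apply hγ
  have h1 : conj (lam ⟨x, hxP⟩ : ℂ) = 1 := by
    refine mul_right_cancel₀ hcon ?_
    rw [one_mul, ← hI]
  rw [h1, mul_one] at hnorm
  exact Units.ext hnorm

/-- The normalizer meets the normal closure of `P` in `P · O_{p'}(N)`. -/
theorem inter_le_sup [hp : Fact p.Prime] (hM : IsPModular p M) (P : Sylow p G)
    (hirr : ∀ χ ∈ principalBlock M G, IsIrrCharacter
      (Subgroup.normalizer ((P : Subgroup G) : Set G)) (fun n => (χ : G → ℂ) n))
    {x : Subgroup.normalizer ((P : Subgroup G) : Set G)}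
    (hx : (x : G) ∈ Subgroup.normalClosure ((P : Subgroup G) : Set G)) :
    x ∈ (P : Subgroup G).subgroupOf (Subgroup.normalizer ((P : Subgroup G) : Set G)) ⊔
      pPrimeCore p (Subgroup.normalizer ((P : Subgroup G) : Set G)) := by
  classical
  revert x hx
  set N : Subgroup G := Subgroup.normalizer ((P : Subgroup G) : Set G)
  intro x hx
  haveI : Fintype N := Fintype.ofFinite N
  haveI : ((P : Subgroup G).subgroupOf N).Normal := Subgroup.normal_in_normalizer
  haveI := HallCore.pPrimeCore_normal p N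
  set U := (P : Subgroup G).subgroupOf N ⊔ pPrimeCore p N
  by_contra hxU
  haveI : Fintype (N ⧸ U) := Fintype.ofFinite _
  have hne : (x : N ⧸ U) ≠ 1 := fun e => hxU ((QuotientGroup.eq_one_iff x).1 e)
  obtain ⟨ψ, hψ⟩ : ∃ ψ : IrrCharacter (N ⧸ U), (ψ : N ⧸ U → ℂ) x ≠ (ψ : N ⧸ U → ℂ) 1 := by
    by_contra hall
    push Not at hall
    exact hne (isConj_one_left.1 ((isConj_iff_forall_irr _ _).2 hall))
  have hN : IsPSolvable p N := by
    obtain ⟨j, hj⟩ := IsPGroup.iff_card.mp P.isPGroup'
    refine ⟨2, ![⊥, (P : Subgroup G).subgroupOf N, ⊤], rfl, rfl, ?_, ?_, ?_⟩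
    · refine Fin.monotone_iff_le_succ.2 fun i => ?_
      fin_cases i <;> simp
    · intro i; fin_cases i <;> simp <;> infer_instance
    · intro i
      fin_cases i
      · left
        refine ⟨j, ?_⟩
        simp only [Fin.castSucc, Fin.succ]
        show (⊥ : Subgroup N).relIndex ((P : Subgroup G).subgroupOf N) = p ^ j
        rw [Subgroup.relIndex_bot_left, Nat.card_congr (Subgroup.subgroupOfEquivOfLe
          (show (P : Subgroup G) ≤ N from Subgroup.le_normalizer)).toEquiv, hj]
      · right
        show (((P : Subgroup G).subgroupOf N).relIndex ⊤).Coprime p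
        rw [Subgroup.relIndex_top_right, ← Subgroup.relIndex]
        refine ((hp.out.coprime_iff_not_dvd).2 fun hd => P.not_dvd_index ?_).symm
        rw [← Subgroup.relIndex_mul_index (show (P : Subgroup G) ≤ N from Subgroup.le_normalizer)]
        exact hd.trans (dvd_mul_right _ _)
  let θ : IrrCharacter N := PrincipalQuot80.infl U ψ
  have hθU : ∀ y ∈ U, (θ : N → ℂ) y = (θ : N → ℂ) 1 := fun y hy => by
    simp [θ, PrincipalQuot80.infl_apply, (QuotientGroup.eq_one_iff y).2 hy]
  have hθB : θ ∈ principalBlock M N := (PrincipalQuot80.mem_principal_iff_of_pSolvable hM hN θ).2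
    fun y hy => hθU y (Subgroup.mem_sup_right hy)
  obtain ⟨χ, hχ, hcon⟩ := PrincipalCover80.exists_over_of_sylow_le hM P N Subgroup.le_normalizer hθB
  have heq : (fun y : N => (χ : G → ℂ) y) = (θ : N → ℂ) := by
    by_contra hne
    exact hcon (classInner_irr_ne (hirr χ hχ) θ.2 hne)
  haveI := CharKernel.irrKer_normal χ
  have hL : Subgroup.normalClosure ((P : Subgroup G) : Set G) ≤ CharKernel.irrKer χ := by
    refine Subgroup.normalClosure_le_normal fun y hy => CharKernel.mem_irrKer.2 ?_
    have hyN : y ∈ N := Subgroup.le_normalizer hy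
    have h1 := congrFun heq ⟨y, hyN⟩
    have h2 := congrFun heq 1
    rw [show (θ : N → ℂ) ⟨y, hyN⟩ = (θ : N → ℂ) 1 from
      hθU _ (Subgroup.mem_sup_left (Subgroup.mem_subgroupOf.2 hy)), ← h2] at h1
    simpa using h1
  apply hψ
  have h1 := congrFun heq x
  have h2 := congrFun heq 1
  have h3 : (χ : G → ℂ) (x : G) = (χ : G → ℂ) 1 := CharKernel.mem_irrKer.1 (hL hx)
  show (θ : N → ℂ) x = (θ : N → ℂ) 1
  rw [← h1, ← h2, h3, OneMemClass.coe_one]

theorem backward [hp : Fact p.Prime] (hM : IsPModular p M) (P : Sylow p G)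
    (hirr : ∀ χ ∈ principalBlock M G, IsIrrCharacter
      (Subgroup.normalizer ((P : Subgroup G) : Set G)) (fun n => (χ : G → ℂ) n)) :
    PLengthLE p 1 G := by
  classical
  haveI : Fintype (P : Subgroup G) := Fintype.ofFinite _
  set N : Subgroup G := Subgroup.normalizer ((P : Subgroup G) : Set G) with hN
  set P' : Subgroup G := (commutator (P : Subgroup G)).map (P : Subgroup G).subtype with hP'
  set D : Subgroup G := Subgroup.normalClosure (P' : Set G) with hD
  set L : Subgroup G := Subgroup.normalClosure ((P : Subgroup G) : Set G) with hL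
  have hPL : (P : Subgroup G) ≤ L := Subgroup.subset_normalClosure
  haveI hLn : L.Normal := Subgroup.normalClosure_normal
  haveI hDn : D.Normal := Subgroup.normalClosure_normal
  set DL : Subgroup L := D.subgroupOf L
  let PL : Sylow p L := P.subtype hPL
  have hPLmap : ((PL : Subgroup L).map L.subtype : Subgroup G) = (P : Subgroup G) :=
    TransferTate.map_subtype_sylow P hPL
  let Pb : Sylow p (L ⧸ DL) := PL.mapSurjective (QuotientGroup.mk'_surjective DL)
  -- the image of `P` is abelian
  have hcomm : ∀ a ∈ (PL : Subgroup L), ∀ b ∈ (PL : Subgroup L),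
      QuotientGroup.mk' DL a * QuotientGroup.mk' DL b =
        QuotientGroup.mk' DL b * QuotientGroup.mk' DL a := by
    intro a ha b hb
    rw [← map_mul, ← map_mul]
    refine QuotientGroup.eq.2 ?_
    rw [Subgroup.mem_subgroupOf]
    refine Subgroup.subset_normalClosure ?_
    have haP : (a : G) ∈ (P : Subgroup G) := hPLmap ▸ Subgroup.mem_map_of_mem L.subtype ha
    have hbP : (b : G) ∈ (P : Subgroup G) := hPLmap ▸ Subgroup.mem_map_of_mem L.subtype hb
    refine ⟨⁅(⟨(b : G), hbP⟩ : (P : Subgroup G))⁻¹, (⟨(a : G), haP⟩ : (P : Subgroup G))⁻¹⁆,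
      Subgroup.commutator_mem_commutator (Subgroup.mem_top _) (Subgroup.mem_top _), ?_⟩
    simp [commutatorElement_def, mul_assoc]
  have hPbmap : (Pb : Subgroup (L ⧸ DL)) = (PL : Subgroup L).map (QuotientGroup.mk' DL) := rfl
  -- Burnside's hypothesis in the quotient
  have hburn : Subgroup.normalizer ((Pb : Subgroup (L ⧸ DL)) : Set (L ⧸ DL)) ≤
      Subgroup.centralizer ((Pb : Subgroup (L ⧸ DL)) : Set (L ⧸ DL)) := by
    intro a ha
    obtain ⟨l, rfl⟩ := QuotientGroup.mk'_surjective DL a
    set H : Subgroup L := (Subgroup.normalizer ((Pb : Subgroup (L ⧸ DL)) : Set (L ⧸ DL))).comap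
      (QuotientGroup.mk' DL) with hH
    set T : Subgroup L := (Pb : Subgroup (L ⧸ DL)).comap (QuotientGroup.mk' DL) with hT
    have hTH : T ≤ H := Subgroup.comap_mono Subgroup.le_normalizer
    have hPT : (PL : Subgroup L) ≤ T := fun y hy => by
      rw [hT, Subgroup.mem_comap, hPbmap]
      exact Subgroup.mem_map_of_mem _ hy
    haveI : (T.subgroupOf H).Normal := by
      refine ⟨fun y hy g => ?_⟩
      rw [Subgroup.mem_subgroupOf, hT, Subgroup.mem_comap] at hy ⊢
      have hg : QuotientGroup.mk' DL (g : L) ∈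
        Subgroup.normalizer ((Pb : Subgroup (L ⧸ DL)) : Set (L ⧸ DL)) := g.2
      rw [Subgroup.mem_normalizer_iff] at hg
      simpa using (hg _).1 hy
    let PH : Sylow p H := PL.subtype (hPT.trans hTH)
    have h1 := Sylow.normalizer_sup_eq_top' (N := T.subgroupOf H) PH (fun y hy => hPT hy)
    obtain ⟨n, hn, t, ht, hnt⟩ :=
      Subgroup.mem_sup_of_normal_right.1 (h1 ▸ Subgroup.mem_top (⟨l, ha⟩ : H))
    have hnN : ((n : L) : G) ∈ N := by
      rw [hN, Subgroup.mem_normalizer_iff]
      replace hn : n ∈ Subgroup.normalizer ((PH : Subgroup H) : Set H) := hn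
      rw [Subgroup.mem_normalizer_iff] at hn
      intro y
      constructor
      · intro hy
        have := (hn ⟨⟨y, hPL hy⟩, hTH (hPT (show (⟨y, hPL hy⟩ : L) ∈ (PL : Subgroup L) from hy))⟩).1 hy
        exact this
      · intro hy
        have hyL : y ∈ L := by
          have h2 := L.mul_mem (L.mul_mem (inv_mem (n : L).2) (hPL hy)) (n : L).2
          simpa [mul_assoc] using h2
        have hyH : (⟨y, hyL⟩ : L) ∈ H := by
          have h2 : (⟨((n : L) : G) * y * ((n : L) : G)⁻¹, hPL hy⟩ : L) ∈ H :=
            hTH (hPT (show _ ∈ (PL : Subgroup L) from hy))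
          have h3 := H.mul_mem (H.mul_mem (inv_mem n.2) h2) n.2
          convert h3 using 1
          exact Subtype.ext (by simp [mul_assoc])
        exact (hn ⟨⟨y, hyL⟩, hyH⟩).2 hy
    have hnU := inter_le_sup hM P hirr (x := ⟨((n : L) : G), hnN⟩) (n : L).2
    haveI : ((P : Subgroup G).subgroupOf N).Normal := Subgroup.normal_in_normalizer
    obtain ⟨s, hs, o, ho, hso⟩ := Subgroup.mem_sup_of_normal_left.1 hnU
    intro b hb
    obtain ⟨c, hc, rfl⟩ : ∃ c ∈ (PL : Subgroup L), QuotientGroup.mk' DL c = b := hb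
    have hcP : ((c : L) : G) ∈ (P : Subgroup G) := hc
    -- `o` centralises `P`
    have hoc : (o : G) * (c : G) = (c : G) * (o : G) := by
      haveI := HallCore.pPrimeCore_normal p N
      have hdis : Disjoint (pPrimeCore p N) ((P : Subgroup G).subgroupOf N) := by
        rw [Subgroup.disjoint_def]
        intro y hy hy'
        exact PLengthOne.eq_one_of_mem_of_mem
          (P.isPGroup'.comap_of_injective N.subtype N.subtype_injective) hy' hy
      have := Subgroup.commute_of_normal_of_disjoint _ _ inferInstance inferInstance hdis o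
        ⟨(c : G), Subgroup.le_normalizer hcP⟩ ho hcP
      exact congrArg Subtype.val this
    have hoL : (o : G) ∈ L := by
      have h2 : (o : G) = (s : G)⁻¹ * ((n : L) : G) := by
        have := congrArg Subtype.val hso
        simp only [Subgroup.coe_mul] at this
        rw [← this, inv_mul_cancel_left]
      rw [h2]; exact mul_mem (inv_mem (hPL hs)) (n : L).2
    have htT : (t : L) ∈ T := ht
    obtain ⟨t', ht', htt'⟩ : ∃ t' ∈ (PL : Subgroup L),
        QuotientGroup.mk' DL t' = QuotientGroup.mk' DL (t : L) := htT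
    have hl : l = (⟨(s : G), hPL hs⟩ : L) * ⟨(o : G), hoL⟩ * (t : L) := by
      have h2 := congrArg Subtype.val hnt
      simp only [Subgroup.coe_mul] at h2
      have h3 := congrArg Subtype.val hso
      simp only [Subgroup.coe_mul] at h3
      refine Subtype.ext ?_
      simp [← h2, h3]
    rw [hl, map_mul, map_mul, ← htt']
    have e1 : QuotientGroup.mk' DL (⟨(o : G), hoL⟩ : L) * QuotientGroup.mk' DL c =
        QuotientGroup.mk' DL c * QuotientGroup.mk' DL (⟨(o : G), hoL⟩ : L) := by
      rw [← map_mul, ← map_mul]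
      exact congrArg _ (Subtype.ext hoc)
    have e2 := hcomm t' ht' c hc
    have e3 := hcomm ⟨(s : G), hPL hs⟩ hs c hc
    exact ((Commute.mul_left (Commute.mul_left e3 e1) e2).symm).eq
  set Kb := (MonoidHom.transferSylow Pb hburn).ker
  have hcompl := MonoidHom.ker_transferSylow_isComplement' Pb hburn
  set Kc : Subgroup L := Kb.comap (QuotientGroup.mk' DL) with hKc
  have hfr : Kc ⊓ (PL : Subgroup L) ≤
      (frattini (PL : Subgroup L)).map (PL : Subgroup L).subtype := by
    rintro y ⟨hyK, hyP⟩
    have h1 : QuotientGroup.mk' DL y = 1 := Subgroup.disjoint_def.1 hcompl.disjoint hyK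
      (by rw [hPbmap]; exact Subgroup.mem_map_of_mem _ hyP)
    have hyD : (y : G) ∈ D := (QuotientGroup.eq_one_iff y).1 h1
    obtain ⟨z, hz, hzy⟩ := inter_le_commutator hM P hirr ⟨hyP, hyD⟩
    refine ⟨⟨y, hyP⟩, PGroupsBasic.commutator_le_frattini PL.isPGroup' ?_, rfl⟩
    let e : (P : Subgroup G) ≃* (PL : Subgroup L) :=
      (Subgroup.subgroupOfEquivOfLe hPL).symm
    have h2 : (⟨y, hyP⟩ : (PL : Subgroup L)) = e z := Subtype.ext (Subtype.ext hzy.symm)
    rw [h2]
    have h3 : (commutator (P : Subgroup G)).map e.toMonoidHom ≤ commutator (PL : Subgroup L) := by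
      rw [commutator_def, Subgroup.map_commutator, commutator_def]
      exact Subgroup.commutator_mono le_top le_top
    exact h3 (Subgroup.mem_map_of_mem _ hz)
  obtain ⟨S, C, hC, hSC⟩ := TransferTate.hasNormalPComplement_of_normal_inf_le_frattini PL Kc hfr
  have hCcop : (Nat.card C).Coprime p := by
    rw [← hSC.index_eq_card]
    exact ((hp.out.coprime_iff_not_dvd).2 S.not_dvd_index).symm
  haveI := hC
  have hCsub : ((C.map Kc.subtype).map L.subtype).IsSubnormal :=
    Subgroup.IsSubnormal.trans' (Subgroup.IsSubnormal.trans' hC.isSubnormal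
      (inferInstance : Kc.Normal).isSubnormal) hLn.isSubnormal
  have hCK : (C.map Kc.subtype).map L.subtype ≤ pPrimeCore p G :=
    ComponentsCores.subnormal_coprime_le_pPrimeCore hCsub (by
      rwa [Subgroup.card_map_of_injective L.subtype_injective,
        Subgroup.card_map_of_injective Kc.subtype_injective])
  haveI := HallCore.pPrimeCore_normal p G
  set K := pPrimeCore p G
  -- the image of `L` in `G / K` is a `p`-group
  have hLp : IsPGroup p (L.map (QuotientGroup.mk' K)) := by
    obtain ⟨i, hi⟩ := IsPGroup.iff_card.mp S.isPGroup'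
    obtain ⟨j, hj⟩ := IsPGroup.iff_card.mp Pb.isPGroup'
    have hidx : ((C.map Kc.subtype)).index = p ^ (i + j) := by
      rw [Subgroup.index_map_subtype, hSC.symm.index_eq_card, hi, hKc,
        Subgroup.index_comap_of_surjective _ (QuotientGroup.mk'_surjective DL),
        hcompl.symm.index_eq_card, hj, pow_add]
    have hdvd : Nat.card (L.map (QuotientGroup.mk' K)) ∣ p ^ (i + j) := by
      rw [← HallSolvable.relIndex_eq_card_map, ← hidx]
      refine Subgroup.index_dvd_of_le fun y hy => ?_
      exact hCK (Subgroup.mem_map_of_mem L.subtype hy)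
    obtain ⟨a, -, ha⟩ := (Nat.dvd_prime_pow hp.out).1 hdvd
    exact IsPGroup.of_card ha
  refine PLengthSteps.pLengthLE_one ?_
  refine ((hp.out.coprime_iff_not_dvd).2 fun hd => P.not_dvd_index (hd.trans ?_)).symm
  refine Subgroup.index_dvd_of_le fun y hy => ?_
  haveI : (L.map (QuotientGroup.mk' K)).Normal :=
    Subgroup.Normal.map hLn _ (QuotientGroup.mk'_surjective K)
  show QuotientGroup.mk' K y ∈ pCore p (G ⧸ K)
  exact HallCore.le_pCore hLp (Subgroup.mem_map_of_mem _ (hPL hy))

end Cfsg.Agent.S4711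

namespace Cfsg.Agent.S4711

/-- Let p be a prime, M a maximal ideal of the algebraic integers containing p, G a finite group, P a Sylow p-subgroup and N = N_G(P). Then G has p-length 1 (G = O_{p',p,p'}(G)) if and only if every irreducible character in the principal p-block of G restricts to an irreducible character of N. -/
theorem result {G : Type*} [Group G] [Finite G] (p : ℕ) [Fact p.Prime] (M : Ideal Cfsg.AlgInt) (hM : Cfsg.IsPModular p M) (P : Sylow p G) : Cfsg.PLengthLE p 1 G ↔ ∀ χ ∈ Cfsg.principalBlock M G, Cfsg.IsIrrCharacter ↥(Subgroup.normalizer ((P : Subgroup G) : Set G)) (fun n : ↥(Subgroup.normalizer ((P : Subgroup G) : Set G)) => (χ : G → ℂ) n) := by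
  classical
  haveI : Fintype G := Fintype.ofFinite G
  exact ⟨fun h χ hχ => forward hM P h χ hχ, fun h => backward hM P h⟩

end Cfsg.Agent.S4711
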