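import Cfsg.Statements.S4712
import Cfsg.Agent.Lib.PRationalCount

set_option autoImplicit false
open Cfsg

namespace Cfsg.Agent.S4712

/-- Let p be an odd prime, M a maximal ideal of the algebraic integers containing p, G a finite group of order n with p-part p^a, and B a p-block of G. Call an irreducible character χ p-rational when χ(g^k) = χ(g) for every g and every k coprime to n with k ≡ 1 modulo n/p^a (χ is fixed by the Galois automorphisms fixing the roots of unity of order prime to p). Then the number of p-rational irreducible characters in B is at least the p-regular rank of B (the number of irreducible Brauer characters in B). -/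
theorem result {G : Type*} [Group G] [Finite G] (p : ℕ) [Fact p.Prime] (hodd : p ≠ 2) (M : Ideal Cfsg.AlgInt) (hM : Cfsg.IsPModular p M) (B : Set (Cfsg.IrrCharacter G)) (hB : Cfsg.IsPBlock M B) : Cfsg.blockRank p B ≤ Nat.card {χ : Cfsg.IrrCharacter G // χ ∈ B ∧ ∀ k : ℕ, Nat.Coprime k (Nat.card G) → k ≡ 1 [MOD Nat.card G / p ^ (Nat.card G).factorization p] → ∀ g : G, (χ : G → ℂ) (g ^ k) = (χ : G → ℂ) g} := by
  classical
  have := Fintype.ofFinite G
  have hp : p.Prime := Fact.out
  set a := (Nat.card G).factorization p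
  set m := Nat.card G / p ^ a
  have hn : p ^ a * m = Nat.card G := Nat.ordProj_mul_ordCompl_eq_self _ _
  have hm : ¬ p ∣ m := Nat.not_dvd_ordCompl hp Nat.card_pos.ne'
  have hcop : (p ^ a).Coprime m := Nat.Coprime.pow_left _ (hp.coprime_iff_not_dvd.2 hm)
  have : IsCyclic (ZMod (p ^ a))ˣ := ZMod.isCyclic_units_of_prime_pow p hp hodd a
  obtain ⟨r, hr⟩ := IsCyclic.exists_generator (α := (ZMod (p ^ a))ˣ)
  have : NeZero (p ^ a) := ⟨pow_ne_zero _ hp.ne_zero⟩
  obtain ⟨k₀, hk₁, hk₂⟩ := Nat.chineseRemainder hcop (r : ZMod (p ^ a)).val 1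
  have hk₀ : (k₀ : ZMod (p ^ a)) = (r : ZMod (p ^ a)) := by
    rw [(ZMod.natCast_eq_natCast_iff _ _ _).2 hk₁, ZMod.natCast_zmod_val]
  have hcp : k₀.Coprime (Nat.card G) := by
    rw [← hn]
    refine Nat.Coprime.mul_right ?_ ?_
    · rw [← ZMod.isUnit_iff_coprime, hk₀]
      exact r.isUnit
    · rw [Nat.coprime_iff_gcd_eq_one, hk₂.gcd_eq, Nat.gcd_one_left]
  have hreg : ∀ y : G, ¬ p ∣ orderOf y → y ^ k₀ = y := by
    intro y hy
    have hd : orderOf y ∣ m := (Nat.Coprime.pow_right a (hp.coprime_iff_not_dvd.2 hy).symm).dvd_mul_left.1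
      (hn ▸ orderOf_dvd_natCard y)
    conv_rhs => rw [← pow_one y]
    exact pow_eq_pow_iff_modEq.2 (hk₂.of_dvd hd)
  refine (PRationalCount.blockRank_le_card_fixed hM hB hcp hreg).trans ?_
  refine Nat.card_le_card_of_injective
    (fun χ => ⟨χ.1, χ.2.1, fun k hk hk1 g => ?_⟩) fun χ χ' h => by simpa [Subtype.ext_iff] using h
  have hku : IsUnit (k : ZMod (p ^ a)) := (ZMod.isUnit_iff_coprime _ _).2
    (hk.coprime_dvd_right ⟨m, hn.symm⟩)
  obtain ⟨i, hi⟩ := mem_powers_iff_mem_zpowers.2 (hr hku.unit)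
  have hi' : k ≡ k₀ ^ i [MOD p ^ a] := by
    rw [← ZMod.natCast_eq_natCast_iff, Nat.cast_pow, hk₀, ← Units.val_pow_eq_pow_val]
    exact (congrArg Units.val hi).symm
  have hmod : k ≡ k₀ ^ i [MOD Nat.card G] := by
    rw [← hn, ← Nat.modEq_and_modEq_iff_modEq_mul hcop]
    exact ⟨hi', hk1.trans (by simpa using (hk₂.pow i).symm)⟩
  rw [pow_eq_pow_iff_modEq.2 (hmod.of_dvd (orderOf_dvd_natCard g))]
  clear hmod hi' hi
  induction i generalizing g with
  | zero => simp
  | succ i ih => rw [pow_succ, pow_mul, χ.2.2, ih]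

end Cfsg.Agent.S4712
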