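import Cfsg.Statements.S4714
import Cfsg.Agent.Lib.BlockPCount9

set_option autoImplicit false
open Cfsg

namespace Cfsg.Agent.S4714

/-- Let p be a prime, M a maximal ideal of the algebraic integers containing p, D a p-subgroup of the finite group G with G = D·C_G(D), and B a p-block with defect group D. Let χ be a member of B having D in its kernel (there is exactly one, the canonical character of B). Then the irreducible characters in B are exactly the functions θ on G for which there is an irreducible character ζ of D such that θ(yx) = ζ(y)χ(x) whenever y ∈ D, x has order prime to p and x commutes with y, and θ(z) = 0 whenever the p-part of z does not lie in D. -/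
theorem result {G : Type*} [Group G] [Finite G] (p : ℕ) [Fact p.Prime] (M : Ideal Cfsg.AlgInt) (hM : Cfsg.IsPModular p M) (D : Subgroup G) (hD : IsPGroup p D) (hG : D ⊔ Subgroup.centralizer (D : Set G) = ⊤) (B : Set (Cfsg.IrrCharacter G)) (hB : Cfsg.IsPBlock M B) (hBD : Cfsg.IsDefectGroup p M B D) (χ : Cfsg.IrrCharacter G) (hχ : χ ∈ B) (hχD : ∀ y ∈ D, (χ : G → ℂ) y = (χ : G → ℂ) 1) : (∀ θ : Cfsg.IrrCharacter G, θ ∈ B ↔ ∃ ζ : Cfsg.IrrCharacter D, (∀ (y : D) (x : G), ¬ p ∣ orderOf x → Commute (y : G) x → (θ : G → ℂ) ((y : G) * x) = (ζ : D → ℂ) y * (χ : G → ℂ) x) ∧ (∀ z : G, (∀ y : G, Cfsg.IsPPart p z y → y ∉ D) → (θ : G → ℂ) z = 0)) ∧ ∀ ζ : Cfsg.IrrCharacter D, ∃ θ ∈ B, (∀ (y : D) (x : G), ¬ p ∣ orderOf x → Commute (y : G) x → (θ : G → ℂ) ((y : G) * x) = (ζ : D → ℂ) y * (χ : G → ℂ) x) ∧ (∀ z : G, (∀ y : G, Cfsg.IsPPart p z y → y ∉ D) → (θ : G → ℂ) z = 0) := by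
  classical
  haveI : Fintype G := Fintype.ofFinite G
  have S : BlockPCount9.Setting p M B D χ :=
    ⟨hM, hD, hG, BlockPCount9.normal_of_sup_top hG, hB, hBD, hχ, hχD⟩
  haveI := S.hN
  have hform : ∀ ζ : Cfsg.IrrCharacter D,
      (∀ (y : D) (x : G), ¬ p ∣ orderOf x → Commute (y : G) x →
        (S.member ζ : G → ℂ) ((y : G) * x) = (ζ : D → ℂ) y * (χ : G → ℂ) x) ∧
      (∀ z : G, (∀ y : G, Cfsg.IsPPart p z y → y ∉ D) → (S.member ζ : G → ℂ) z = 0) := by
    refine fun ζ => ⟨fun y x hx _ => ?_, fun z hz => ?_⟩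
    · show BlockPCount9.star p χ D (ζ : D → ℂ) ((y : G) * x) = _
      rw [BlockPCount9.star_mul χ hD hG _ y hx, BlockPCount9.apply_mul_of_trivial χ hχD]
    · show BlockPCount9.star p χ D (ζ : D → ℂ) z = 0
      rw [BlockPCount9.star, dif_neg (hz _ (BlockPCount9.pp_spec z))]
  refine ⟨fun θ => ⟨fun hθ => ?_, fun ⟨ζ, h1, h2⟩ => ?_⟩,
    fun ζ => ⟨S.member ζ, S.member_mem ζ, hform ζ⟩⟩
  · obtain ⟨ζ, rfl⟩ := S.member_surjective hθ
    exact ⟨ζ, hform ζ⟩
  · suffices h : θ = S.member ζ by rw [h]; exact S.member_mem ζ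
    refine Subtype.ext (funext fun g => ?_)
    obtain ⟨h1', h2'⟩ := hform ζ
    by_cases hg : BlockPCount9.pp p g ∈ D
    · obtain ⟨x, hxy, hc, -, hx⟩ := BlockPCount9.pp_spec (p := p) g
      rw [← hxy, h1 ⟨_, hg⟩ x hx hc, h1' ⟨_, hg⟩ x hx hc]
    · have hz : ∀ y : G, Cfsg.IsPPart p g y → y ∉ D :=
        fun y hy => BlockPCount9.pp_eq hy ▸ hg
      rw [h2 g hz, h2' g hz]

end Cfsg.Agent.S4714
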