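import Cfsg.Statements.S4715
import Cfsg.Agent.Lib.BlockMajorCount31
import Cfsg.Agent.Lib.BlockTheoryFirstMain
import Cfsg.Agent.S4437

set_option autoImplicit false
open Cfsg

namespace Cfsg.Agent.S4715


section
open Cfsg BlockTheoryLocalRing BlockTheoryCentre BlockTheoryIdem BlockTheoryBrauer BlockTheoryDefect
open BrauerPairs81Base BrauerPairs81Pairs BrauerPairs81Conj BrauerPairs81Max BrauerPairs81Local
open BrauerPairs81Fusion

attribute [local instance] Classical.propDecidable

theorem main {p : ℕ} [Fact p.Prime] {M : Ideal AlgInt} {G : Type*} [Group G] [Fintype G]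
    (hM : IsPModular p M) {B : Set (IrrCharacter G)} {D : Subgroup G}
    (hBD : IsDefectGroup p M B D) (H : Subgroup G)
    (hH : H = D ⊔ Subgroup.centralizer (D : Set G)) {b : Set (IrrCharacter H)}
    (hind : IsInducedBlock M H b B) (T : Subgroup G)
    (hT : ∀ g : G, g ∈ T ↔ (g ∈ Subgroup.normalizer (D : Set G) ∧ ∀ θ ∈ b, ∀ θ' : IrrCharacter H,
      (∀ h h' : H, (h' : G) = g * h * g⁻¹ → (θ' : H → ℂ) h' = (θ : H → ℂ) h) → θ' ∈ b))
    {χ : IrrCharacter G} (hχ : χ ∈ B) :
    p ^ blockHeight p B (χ : G → ℂ) * Nat.card (Subgroup.center D) ≤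
      Nat.card D * H.relIndex T := by
  have hP : IsPGroup p D := isPGroup_of_isDefectGroup hBD
  have hCH : Cen D ≤ H := hH ▸ le_sup_right
  have hPH : D ≤ H := hH ▸ le_sup_left
  have hHN : H ≤ Subgroup.normalizer (D : Set G) :=
    hH ▸ sup_le Subgroup.le_normalizer (Subgroup.centralizer_le_normalizer _)
  obtain ⟨E, hE⟩ := exists_defectGroup hM hind.1
  have hE' := BlockTheoryFirstMain.defect_eq_of_induced hM hBD H hPH hHN hind hE
  subst hE'
  set P' := D.subgroupOf H
  have hmap : P'.map H.subtype = D := Subgroup.map_subgroupOf_eq_of_le hPH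
  have hC : Cen (P'.map H.subtype) ≤ H := by rw [hmap]; exact hCH
  obtain ⟨e', he'⟩ := exists_pairOf_of_not_small hM hind.1 (isPGroup_of_isDefectGroup hE)
    (not_small_cut_defect hM hind.1 hE)
  set hcc := cenCompat_map hC (le_refl (P'.map H.subtype))
  set a : BrauerPairIdx G := ⟨P'.map H.subtype, pushSet (cenIso hcc) e'⟩ with ha
  have hpair : IsBrauerPairOf p M B a.1 a.2 := BlockPiKernel.pair_up hM hind he' hC
  have ha1 : a.1 = D := hmap
  have hmax : IsMaximalBrauerPair p M B a.1 a.2 :=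
    BlockFirstMainOver.maximal_of_defect hM (ha1.symm ▸ hBD) hpair
  have hocc : Occ M a.1 a.2 (eb H b) := by
    rw [eb_eq_incl]
    exact occ_push hcc (isBrauerPairOf_iff.mp he').2.2
  have hNH : Subgroup.normalizer (D : Set G) ≤ Subgroup.normalizer (H : Set G) := by
    intro g hg
    have h1 : cjS g H = H := by
      rw [hH]
      show (D ⊔ Cen D).map _ = _
      rw [Subgroup.map_sup]
      change cjS g D ⊔ cjS g (Cen D) = _
      rw [cjS_of_normalizer hg, cjS_of_normalizer (normalizer_le_normalizer_cen hg)]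
    refine Subgroup.mem_normalizer_iff.mpr fun x => ?_
    conv_rhs => rw [← h1, mem_cjS]
    simp [mul_assoc]
  have hHS : H ≤ stab a := by
    rw [hH]
    exact sup_le (fun u hu => le_stab a (ha1.symm ▸ hu)) (fun u hu => cen_le_stab a (ha1.symm ▸ hu))
  have haH : a.1 ≤ H := ha1.symm ▸ hPH
  have haC : Cen a.1 ≤ H := ha1.symm ▸ hCH
  have hST : stab a ≤ T := by
    intro g hg
    have hN : g ∈ Subgroup.normalizer (D : Set G) := ha1 ▸ stab_le_normalizer a hg
    refine (hT g).mpr ⟨hN, (S4437.stabilizes_iff_forall (hNH hN)).mp ?_⟩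
    rw [stabilizes_iff]
    refine ⟨hNH hN, ?_⟩
    set cj := conj_mem_iff_of_normalizer (hNH hN)
    have hocc' : Occ M (cP g a).1 (cP g a).2 (cjA g (eb H b)) := occ_conj hocc
    rw [mem_stab.mp hg, cjA_eb cj] at hocc'
    rw [cjA_eb cj]
    by_contra hne
    obtain ⟨ξ, hξ⟩ := block_nonempty hM hpair.1.2
    have hb' := isPBlock_push (conjEquiv g H H cj) hind.1
    exact not_both hM hpair.1.1 (invBy_mono haH (invBy_eb_self _ _))
      (invBy_mono haH (invBy_eb_self _ _)) (invBy_mono haC (invBy_eb_self _ _))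
      (invBy_mono haC (invBy_eb_self _ _)) (isInt_eb hM hb') (isInt_eb hM hind.1)
      (eb_mul_of_ne hM hb' hind.1 fun h => hne (by rw [h])) ξ (hocc' ξ hξ) (hocc ξ hξ)
  have hfix : ∀ k ∈ H, ∀ z ∈ BlockMajorCount31.centreSet a.1, k * z * k⁻¹ = z := by
    intro k hk z hz
    obtain ⟨hz1, hz2⟩ := BlockMajorCount31.mem_centreSet.1 hz
    rw [ha1] at hz1 hz2
    have : H ≤ Subgroup.centralizer ({z} : Set G) := by
      rw [hH]
      refine sup_le (fun y hy => Subgroup.mem_centralizer_singleton_iff.mpr (hz2 y hy))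
        fun y hy => Subgroup.mem_centralizer_singleton_iff.mpr ?_
      exact (Subgroup.mem_centralizer_iff.mp hy z hz1).symm
    rw [(Subgroup.mem_centralizer_singleton_iff.mp (this hk)), mul_inv_cancel_right]
  have h := BlockMajorCount31.pow_height_mul_card_center_le hM hmax H hHS hfix hχ
  rw [show Nat.card (Subgroup.center a.1) = Nat.card (Subgroup.center D) from
    congrArg (fun X : Subgroup G => Nat.card (Subgroup.center X)) ha1] at h
  rw [BlockContribBounds.card_defectGroup hM hind.2.1 hBD]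
  refine h.trans (Nat.mul_le_mul_left _ ?_)
  exact Nat.le_of_dvd (Nat.pos_of_ne_zero Subgroup.index_ne_zero_of_finite)
    (Dvd.intro _ (Subgroup.relIndex_mul_relIndex H (stab a) T hHS hST))

end

/-- Let p be a prime, M a maximal ideal of the algebraic integers containing p, B a p-block of the finite group G with defect group D of order p^d, H = D·C_G(D), b a block of H inducing B, T the stabilizer of b in N_G(D) and e = [T : H] the inertial index of B; let n be the integer with p^n ≤ e < p^(n+1) and p^c the order of the centre of D. Then every irreducible character in B has height h with h + c ≤ n + d. -/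
theorem result {G : Type*} [Group G] [Finite G] (p : ℕ) [Fact p.Prime] (M : Ideal Cfsg.AlgInt) (hM : Cfsg.IsPModular p M) (B : Set (Cfsg.IrrCharacter G)) (hB : Cfsg.IsPBlock M B) (D : Subgroup G) (hBD : Cfsg.IsDefectGroup p M B D) (d : ℕ) (hDd : Nat.card D = p ^ d) (H : Subgroup G) (hH : H = D ⊔ Subgroup.centralizer (D : Set G)) (b : Set (Cfsg.IrrCharacter H)) (hind : Cfsg.IsInducedBlock M H b B) (T : Subgroup G) (hT : ∀ g : G, g ∈ T ↔ (g ∈ Subgroup.normalizer (D : Set G) ∧ ∀ θ ∈ b, ∀ θ' : Cfsg.IrrCharacter H, (∀ h h' : H, (h' : G) = g * h * g⁻¹ → (θ' : H → ℂ) h' = (θ : H → ℂ) h) → θ' ∈ b)) (e : ℕ) (he : H.relIndex T = e) (n : ℕ) (hn : p ^ n ≤ e ∧ e < p ^ (n + 1)) (c : ℕ) (hc : Nat.card (Subgroup.center D) = p ^ c) : ∀ χ ∈ B, Cfsg.blockHeight p B (χ : G → ℂ) + c ≤ n + d := by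
  classical
  haveI : Fintype G := Fintype.ofFinite G
  intro χ hχ
  have h := main hM hBD H hH hind T hT hχ
  rw [he, hc, hDd, ← pow_add] at h
  have h2 : p ^ d * e < p ^ d * p ^ (n + 1) :=
    Nat.mul_lt_mul_of_pos_left hn.2 (pow_pos (Fact.out : p.Prime).pos _)
  rw [← pow_add] at h2
  have h3 := (Nat.pow_lt_pow_iff_right (Fact.out : p.Prime).one_lt).1 (h.trans_lt h2)
  omega

end Cfsg.Agent.S4715
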