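import Cfsg.Statements.S4717
import Cfsg.Agent.Lib.BlockContribLift
import Cfsg.Agent.Lib.BlockContribBounds
import Cfsg.Agent.S0936

set_option autoImplicit false
open Cfsg

namespace Cfsg.Agent.S4717

/-- Let p be a prime, M a maximal ideal of the algebraic integers containing p, and r a natural number; say that a finite group X has deficiency class r when X has no non-principal p-block of defect ≥ r. If G has deficiency class r then so does the centralizer of every p-element of G; conversely, if r > 0 and the centralizer of every element of order p has deficiency class r, then G has deficiency class r. -/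
theorem result {G : Type*} [Group G] [Finite G] (p : ℕ) [Fact p.Prime] (M : Ideal Cfsg.AlgInt) (hM : Cfsg.IsPModular p M) (r : ℕ) : ((∀ B' : Set (Cfsg.IrrCharacter G), Cfsg.IsPBlock M B' → B' ≠ Cfsg.principalBlock M G → Cfsg.blockDefect p B' < r) → ∀ y : G, (∃ k : ℕ, orderOf y = p ^ k) → (∀ B' : Set (Cfsg.IrrCharacter ↥(Subgroup.centralizer ({y} : Set G))), Cfsg.IsPBlock M B' → B' ≠ Cfsg.principalBlock M ↥(Subgroup.centralizer ({y} : Set G)) → Cfsg.blockDefect p B' < r)) ∧ (0 < r → (∀ y : G, orderOf y = p → (∀ B' : Set (Cfsg.IrrCharacter ↥(Subgroup.centralizer ({y} : Set G))), Cfsg.IsPBlock M B' → B' ≠ Cfsg.principalBlock M ↥(Subgroup.centralizer ({y} : Set G)) → Cfsg.blockDefect p B' < r)) → (∀ B' : Set (Cfsg.IrrCharacter G), Cfsg.IsPBlock M B' → B' ≠ Cfsg.principalBlock M G → Cfsg.blockDefect p B' < r)) := by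
  classical
  have := Fintype.ofFinite G
  refine ⟨fun hG y hy b hb hbne => ?_, fun hr hC B hB hBne => ?_⟩
  · have hH : ∀ g, g ∈ Subgroup.centralizer ({y} : Set G) ↔ Commute y g := fun g => by
      rw [Subgroup.mem_centralizer_singleton_iff]
      exact ⟨fun h => h.symm, fun h => h.eq.symm⟩
    obtain ⟨B, hB⟩ := BlockContribSection.exists_induced hH hM hy hb
    have hne : B ≠ Cfsg.principalBlock M G := fun h =>
      hbne ((Cfsg.Agent.S0936.result p M hM _ b ⟨B, hB⟩).1 (h ▸ hB))
    obtain ⟨E, hE⟩ := BlockTheoryDefect.exists_defectGroup hM hb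
    obtain ⟨D, hD⟩ := BlockTheoryDefect.exists_defectGroup hM hB.2.1
    have h := BlockTheoryDefect.card_le_of_conjLe (BlockTheoryDefect.inducedBlock_defect_le hM _ hB hE hD)
    rw [Subgroup.card_map_of_injective Subtype.val_injective, BlockContribBounds.card_defectGroup hM hb hE,
      BlockContribBounds.card_defectGroup hM hB.2.1 hD] at h
    exact ((Nat.pow_le_pow_iff_right hM.1.one_lt).1 h).trans_lt (hG B hB.2.1 hne)
  · by_contra hlt
    obtain ⟨D, hD⟩ := BlockTheoryDefect.exists_defectGroup hM hB
    have hDp : IsPGroup p D := BlockTheoryDefect.isPGroup_of_isDefectGroup hD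
    have hDc := BlockContribBounds.card_defectGroup hM hB hD
    have : Nontrivial D := by
      rw [← Finite.one_lt_card_iff_nontrivial, hDc]
      exact Nat.one_lt_pow (by omega) hM.1.one_lt
    have hZ : Nontrivial (Subgroup.center D) := hDp.center_nontrivial
    have hpd : p ∣ Nat.card (Subgroup.center D) :=
      ((hDp.to_subgroup _).nontrivial_iff_card.1 hZ).elim fun n hn => hn.2 ▸ dvd_pow_self p hn.1.ne'
    obtain ⟨z, hz⟩ := exists_prime_orderOf_dvd_card' p hpd
    set y : G := ((z : D) : G) with hy
    have hyo : orderOf y = p := by rw [hy, Subgroup.orderOf_coe, Subgroup.orderOf_coe, hz]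
    have hH : ∀ g, g ∈ Subgroup.centralizer ({y} : Set G) ↔ Commute y g := fun g => by
      rw [Subgroup.mem_centralizer_singleton_iff]
      exact ⟨fun h => h.symm, fun h => h.eq.symm⟩
    have hDH : D ≤ Subgroup.centralizer ({y} : Set G) := fun v hv =>
      Subgroup.mem_centralizer_singleton_iff.2 (congrArg Subtype.val (Subgroup.mem_center_iff.1 z.2 ⟨v, hv⟩))
    obtain ⟨b, hb, hns⟩ := BlockContribLift.exists_induced_not_small hM hH ⟨1, by rw [hyo, pow_one]⟩ hB
      hDp hDH (z : D).2 (BlockTheoryDefect.not_small_cut_defect hM hB hD)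
    have hbne : b ≠ Cfsg.principalBlock M ↥(Subgroup.centralizer ({y} : Set G)) := by
      intro h
      exact hBne (BlockTheoryInduced.inducedBlock_unique _ hM hb
        ((Cfsg.Agent.S0936.result p M hM _ b ⟨B, hb⟩).2 h))
    obtain ⟨E, hE⟩ := BlockTheoryDefect.exists_defectGroup hM hb.1
    have hDs : IsPGroup p ↥(D.subgroupOf (Subgroup.centralizer ({y} : Set G))) := hDp.comap_subtype
    have h := BlockTheoryDefect.card_le_of_conjLe
      ((BlockTheoryDefect.not_small_cut_iff hM hb.1 hE hDs).1 hns)
    rw [Nat.card_congr (Subgroup.subgroupOfEquivOfLe hDH).toEquiv, hDc,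
      BlockContribBounds.card_defectGroup hM hb.1 hE] at h
    exact hlt (((Nat.pow_le_pow_iff_right hM.1.one_lt).1 h).trans_lt (hC y hyo b hb.1 hbne))

end Cfsg.Agent.S4717
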