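import Cfsg.Statements.S4718
import Cfsg.Agent.Lib.BlockContribBounds

set_option autoImplicit false
universe u
open Cfsg

namespace Cfsg.Agent.S4718

/-- Landau: finitely many ways to write a rational number as a sum of `k` unit fractions. -/
theorem landau : ∀ (k : ℕ) (r : ℚ), ∃ N : ℕ, ∀ l : Multiset ℕ, Multiset.card l = k →
    (∀ n ∈ l, 0 < n) → (l.map fun n : ℕ => (1 : ℚ) / n).sum = r → ∀ n ∈ l, n ≤ N := by
  intro k
  induction k with
  | zero =>
    intro r
    exact ⟨0, fun l hl _ _ n hn => by simp [Multiset.card_eq_zero.1 hl] at hn⟩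
  | succ k ih =>
    intro r
    choose f hf using ih
    refine ⟨(Finset.range (⌊((k : ℚ) + 1) / r⌋₊ + 1)).sup fun m : ℕ => max m (f (r - 1 / (m : ℚ))),
      fun l hl hpos hsum n hn => ?_⟩
    have hne : l.toFinset.Nonempty := ⟨n, Multiset.mem_toFinset.2 hn⟩
    obtain ⟨m, hm, hmin⟩ := Finset.exists_min_image l.toFinset id hne
    have hm' : m ∈ l := Multiset.mem_toFinset.1 hm
    obtain ⟨t, rfl⟩ := Multiset.exists_cons_of_mem hm'
    have hm0 : (0 : ℚ) < m := by exact_mod_cast hpos m (Multiset.mem_cons_self m t)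
    rw [Multiset.map_cons, Multiset.sum_cons] at hsum
    rw [Multiset.card_cons, Nat.succ_inj] at hl
    have hb : ∀ x ∈ t.map (fun n : ℕ => (1 : ℚ) / n), x ≤ 1 / (m : ℚ) := by
      intro x hx
      obtain ⟨y, hy, rfl⟩ := Multiset.mem_map.1 hx
      have : m ≤ y := hmin y (Multiset.mem_toFinset.2 (Multiset.mem_cons_of_mem hy))
      exact one_div_le_one_div_of_le hm0 (by exact_mod_cast this)
    have h1 := Multiset.sum_le_card_nsmul _ _ hb
    rw [Multiset.card_map, hl, nsmul_eq_mul] at h1
    have h0 : 0 ≤ (t.map fun n : ℕ => (1 : ℚ) / n).sum :=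
      Multiset.sum_nonneg fun x hx => by obtain ⟨y, -, rfl⟩ := Multiset.mem_map.1 hx; positivity
    have hr : 0 < r := by
      have : (0 : ℚ) < 1 / m := by positivity
      linarith
    have hrle : r ≤ ((k : ℚ) + 1) * (1 / m) := by linarith
    have hmle : (m : ℚ) ≤ ((k : ℚ) + 1) / r := by
      rw [le_div_iff₀ hr]
      rw [mul_one_div, le_div_iff₀ hm0] at hrle
      linarith
    have hmem : m ∈ Finset.range (⌊((k : ℚ) + 1) / r⌋₊ + 1) :=
      Finset.mem_range.2 (Nat.lt_succ_of_le (Nat.le_floor hmle))
    refine le_trans ?_ (Finset.le_sup (f := fun m : ℕ => max m (f (r - 1 / (m : ℚ)))) hmem)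
    rcases Multiset.mem_cons.1 hn with rfl | hn'
    · exact le_max_left _ _
    · exact le_trans (hf _ t hl (fun y hy => hpos y (Multiset.mem_cons_of_mem hy)) (by linarith) n hn') (le_max_right _ _)

/-- The order of a finite group is bounded in terms of its number of conjugacy classes. -/
theorem exists_card_bound : ∃ L : ℕ → ℕ, ∀ (G : Type u) [Group G] [Finite G],
    Nat.card G ≤ L (Nat.card (ConjClasses G)) := by
  choose L hL using fun k => landau k 1
  refine ⟨L, fun G _ _ => ?_⟩
  classical
  have := Fintype.ofFinite G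
  have := Fintype.ofFinite (ConjClasses G)
  refine hL _ ((Finset.univ : Finset (ConjClasses G)).val.map fun C =>
    Nat.card (Subgroup.centralizer ({C.out} : Set G))) ?_ ?_ ?_ _ ?_
  · rw [Multiset.card_map, Finset.card_val, Finset.card_univ, Nat.card_eq_fintype_card]
  · intro n hn
    obtain ⟨C, -, rfl⟩ := Multiset.mem_map.1 hn
    exact Nat.card_pos
  · rw [Multiset.map_map]
    have hG : (Nat.card G : ℚ) ≠ 0 := Nat.cast_ne_zero.2 Nat.card_pos.ne'
    calc ∑ C : ConjClasses G, (1 : ℚ) / (Nat.card (Subgroup.centralizer ({C.out} : Set G)) : ℕ)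
        = ∑ C : ConjClasses G, ((Finset.univ.filter fun g => ConjClasses.mk g = C).card : ℚ) / (Nat.card G : ℚ) := by
          refine Finset.sum_congr rfl fun C _ => ?_
          have h := CharBasicOrth.card_conj_mul_card_centralizer C.out
          have hcard : Nat.card {g : G // IsConj C.out g} = (Finset.univ.filter fun g => ConjClasses.mk g = C).card := by
            rw [Nat.card_eq_fintype_card, Fintype.card_subtype]
            exact congrArg Finset.card (Finset.filter_congr fun g _ => (BlockTheoryCentre.isConj_out C).symm)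
          rw [hcard] at h
          have hC : (Nat.card (Subgroup.centralizer ({C.out} : Set G)) : ℚ) ≠ 0 := Nat.cast_ne_zero.2 Nat.card_pos.ne'
          rw [div_eq_div_iff hC hG, one_mul, ← h]
          push_cast; ring
      _ = 1 := by
        rw [← Finset.sum_div, ← Nat.cast_sum, ← Finset.card_eq_sum_card_fiberwise (fun g _ => Finset.mem_univ _),
          Finset.card_univ, ← Nat.card_eq_fintype_card, div_self hG]
  · refine Multiset.mem_map.2 ⟨ConjClasses.mk 1, by simp, ?_⟩
    have hout : (ConjClasses.mk (1 : G)).out = 1 :=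
      isConj_one_left.1 (BlockTheoryCentre.isConj_out (ConjClasses.mk (1 : G)) |>.1 rfl)
    rw [hout, Subgroup.centralizer_eq_top_iff_subset.2 (by simp), Subgroup.card_top]

/-- Let p be a prime and a a natural number. There is a bound N such that every finite group whose Sylow p-subgroups have order p^a and whose only p-block (relative to a maximal ideal of the algebraic integers containing p) is the principal block has order at most N. -/
theorem result (p : ℕ) [Fact p.Prime] (a : ℕ) : ∃ N : ℕ, ∀ (G : Type u) [Group G] [Finite G] (M : Ideal Cfsg.AlgInt), Cfsg.IsPModular p M → (Nat.card G).factorization p = a → (∀ B : Set (Cfsg.IrrCharacter G), Cfsg.IsPBlock M B → B = Cfsg.principalBlock M G) → Nat.card G ≤ N := by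
  obtain ⟨L, hL⟩ := exists_card_bound.{u}
  refine ⟨(Finset.range (p ^ (2 * a) / 4 + 2)).sup L, fun G _ _ M hM ha hone => ?_⟩
  refine (hL G).trans (Finset.le_sup (Finset.mem_range.2 (Nat.lt_succ_of_le ?_)))
  set B := Cfsg.principalBlock M G with hBdef
  have hB : Cfsg.IsPBlock M B := ⟨⟨fun _ => 1, CharBasicDecomp.isIrrCharacter_one⟩, rfl⟩
  have huniv : ∀ χ : Cfsg.IrrCharacter G, χ ∈ B := by
    intro χ
    have h := BlockTheoryIdem.self_mem_blockOf hM χ
    rw [hone _ (BlockTheoryIdem.isPBlock_blockOf χ)] at h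
    exact h
  have h := BlockContribBounds.card_le hM hB
  rw [Nat.card_congr ((Equiv.subtypeEquivRight fun χ => ⟨fun _ => trivial, fun _ => huniv χ⟩).trans (Equiv.Set.univ _) : B ≃ Cfsg.IrrCharacter G),
    CharBasicOrth.card_irrCharacter] at h
  refine h.trans (Nat.add_le_add_right (Nat.div_le_div_right (Nat.pow_le_pow_right hM.1.pos ?_)) 1)
  simp only [Cfsg.blockDefect]
  omega

end Cfsg.Agent.S4718
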