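import Cfsg.Statements.S4719
import Cfsg.Agent.Lib.BlockContribQuot
import Cfsg.Agent.Lib.HallCore
import Cfsg.Agent.S4717
import Cfsg.Agent.S4718
import Cfsg.Agent.S0212
import Cfsg.Agent.S1186

set_option autoImplicit false
universe u
open Cfsg

namespace Cfsg.Agent.S4719

section
open Cfsg
open scoped Pointwise

variable {G : Type u} [Group G] [Finite G]

/-- A four-group with small centralisers bounds a normal subgroup of odd order. -/
theorem card_odd_normal_le {m : ℕ} (O : Subgroup G) [O.Normal] (hO : Odd (Nat.card O))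
    {v s : G} (hv : orderOf v = 2) (hs : orderOf s = 2) (hc : Commute v s) (hne : v ≠ s)
    (hm : ∀ x ∈ ({v, s, s * v} : Set G), Nat.card (Subgroup.centralizer ({x} : Set G)) ≤ m) :
    Nat.card O ≤ m ^ 3 := by
  classical
  have hvi : v⁻¹ = v := inv_eq_of_mul_eq_one_right (by rw [← pow_two, ← hv, pow_orderOf_eq_one])
  have hss : s * s = 1 := by rw [← pow_two, ← hs, pow_orderOf_eq_one]
  set V := Subgroup.closure ({v, s} : Set G) with hV
  set W := O ⊔ V with hW
  have hvW : v ∈ W := le_sup_right (a := O) (Subgroup.subset_closure (Set.mem_insert _ _))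
  have hsW : s ∈ W := le_sup_right (a := O) (Subgroup.subset_closure (Set.mem_insert_of_mem _ rfl))
  have hVv : ∀ a ∈ V, Commute v a := by
    intro a ha
    induction ha using Subgroup.closure_induction with
    | mem x hx =>
      rcases hx with rfl | hx
      · exact Commute.refl _
      · rw [Set.mem_singleton_iff.1 hx]; exact hc
    | one => exact Commute.one_right v
    | mul a b _ _ iha ihb => exact iha.mul_right ihb
    | inv a _ ih => exact ih.inv_right
  set v' : W := ⟨v, hvW⟩
  have hiso : IsIsolatedInvolution v' := by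
    refine ⟨by rw [← Subgroup.orderOf_coe]; exact hv, fun g hg => Subtype.ext ?_⟩
    have hg' : Commute v ((g : G) * v * (g : G)⁻¹) := hg.map W.subtype
    have hgm : (g : G) ∈ (O : Set G) * (V : Set G) := by
      rw [← Subgroup.normal_mul O V]; exact g.2
    obtain ⟨o, ho, a, ha, hga⟩ := Set.mem_mul.1 hgm
    show (g : G) * v * (g : G)⁻¹ = v
    have he : (g : G) * v * (g : G)⁻¹ = o * v * o⁻¹ := by
      rw [← hga]
      calc o * a * v * (o * a)⁻¹ = o * (a * v * a⁻¹) * o⁻¹ := by group
        _ = o * v * o⁻¹ := by rw [← (hVv a ha).eq, mul_inv_cancel_right]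
    rw [he] at hg' ⊢
    set d := v * (o * v * o⁻¹) with hd
    have hdO : d ∈ O := by
      have : d = (v * o * v⁻¹) * o⁻¹ := by rw [hd, hvi]; group
      rw [this]
      exact O.mul_mem ((inferInstance : O.Normal).conj_mem o ho v) (O.inv_mem ho)
    have hdd : d * d = 1 := by
      have hvv : v * v = 1 := by rw [← pow_two, ← hv, pow_orderOf_eq_one]
      calc d * d = v * ((o * v * o⁻¹) * v) * (o * v * o⁻¹) := by rw [hd]; group
        _ = (v * v) * (o * (v * v) * o⁻¹) := by rw [← hg'.eq]; group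
        _ = 1 := by rw [hvv]; group
    have hd1 : d = 1 := by
      have h2 : orderOf d ∣ 2 := orderOf_dvd_of_pow_eq_one (by rw [pow_two, hdd])
      have h3 : orderOf d ∣ Nat.card O := Subgroup.orderOf_dvd_natCard O hdO
      rcases (Nat.dvd_prime Nat.prime_two).1 h2 with h | h
      · exact orderOf_eq_one_iff.1 h
      · rw [h] at h3; exact absurd h3 hO.not_two_dvd_nat
    rw [hd] at hd1
    exact (eq_inv_of_mul_eq_one_right hd1).trans hvi
  set s' : W := ⟨s, hsW⟩
  have h := Cfsg.Agent.S1186.result v' hiso s' (by rw [← Subgroup.orderOf_coe]; exact hs)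
    (Subtype.ext hc.symm.eq)
  have hsub : ∀ (T : W → Prop) (x : G), (∀ k, T k → Commute (k : G) x) →
      Nat.card {k : W // T k} ≤ Nat.card (Subgroup.centralizer ({x} : Set G)) := by
    intro T x hT
    refine Nat.card_le_card_of_injective
      (fun k => (⟨((k : W) : G), Subgroup.mem_centralizer_singleton_iff.2 (hT k k.2).eq⟩ : Subgroup.centralizer ({x} : Set G)))
      fun a b hab => Subtype.ext (Subtype.ext (congrArg (fun c : Subgroup.centralizer ({x} : Set G) => (c : G)) hab))
  calc Nat.card O ≤ Nat.card W := Subgroup.card_le_of_le le_sup_left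
    _ ≤ m * m * m := by
      rw [h]
      gcongr
      · refine (hsub (fun k => k ∈ Subgroup.centralizer ({v'} : Set W)) v fun k hk =>
          (congrArg Subtype.val (Subgroup.mem_centralizer_singleton_iff.1 hk))).trans (hm v (by simp))
      · exact (hsub _ (s * v) fun k hk => hk.2.2.map W.subtype).trans (hm _ (by simp))
      · exact (hsub _ s fun k hk => hk.2.2.map W.subtype).trans (hm _ (by simp))
    _ = m ^ 3 := by ring

theorem card_sup_le (A B : Subgroup G) [A.Normal] :
    Nat.card ↥(A ⊔ B) ≤ Nat.card A * Nat.card B := by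
  rw [show Nat.card ↥(A ⊔ B) = Nat.card ((A : Set G) * (B : Set G) : Set G) by rw [← Subgroup.normal_mul]; rfl]
  exact Set.natCard_mul_le

omit [Finite G] in
theorem inf_center_ne_bot {P : Type u} [Group P] [Finite P] (hP : IsPGroup 2 P) (K : Subgroup P)
    [K.Normal] [Nontrivial K] : K ⊓ Subgroup.center P ≠ ⊥ := by
  classical
  have : Fact (Nat.Prime 2) := ⟨Nat.prime_two⟩
  obtain ⟨n, hn⟩ := IsPGroup.iff_card.1 (hP.to_subgroup K)
  have hn0 : n ≠ 0 := fun h => by
    rw [h, pow_zero] at hn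
    exact absurd hn (Finite.one_lt_card (α := K)).ne'
  have h1 : (1 : K) ∈ MulAction.fixedPoints (ConjAct P) K := fun g => Subtype.ext (by simp)
  obtain ⟨b, hb, hb1⟩ := IsPGroup.exists_fixed_point_of_prime_dvd_card_of_fixed_point
    (hP.of_equiv ConjAct.toConjAct) K (hn ▸ dvd_pow_self 2 hn0) h1
  intro hbot
  refine hb1 (Subtype.ext (Subgroup.mem_bot.1 (hbot ▸ ⟨b.2, ?_⟩ : (b : P) ∈ (⊥ : Subgroup P))).symm)
  refine Subgroup.mem_center_iff.2 fun g => ?_
  have h2 := congrArg Subtype.val (hb (ConjAct.toConjAct g))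
  simp only [ConjAct.Subgroup.val_conj_smul, ConjAct.toConjAct_smul] at h2
  exact mul_inv_eq_iff_eq_mul.1 h2

/-- A group without odd core is bounded by a central involution of a Sylow `2`-subgroup. -/
theorem card_core_free_le {m a : ℕ} (hcore : pPrimeCore 2 G = ⊥) (P : Sylow 2 G)
    (hPne : (P : Subgroup G) ≠ ⊥) (hP : Nat.card P ≤ 2 ^ a)
    (hm : ∀ z ∈ (P : Subgroup G), (∀ x ∈ (P : Subgroup G), Commute z x) → orderOf z = 2 →
      Nat.card (Subgroup.centralizer ({z} : Set G)) ≤ m) :
    Nat.card G ≤ m * ((m + (2 * m ^ 2).factorial + 1) ^ (2 ^ a)).factorial := by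
  classical
  have : Fact (Nat.Prime 2) := ⟨Nat.prime_two⟩
  have : Fintype G := Fintype.ofFinite G
  have hnt : Nontrivial G := by
    obtain ⟨x, hx1⟩ := Subgroup.ne_bot_iff_exists_ne_one.1 hPne
    exact ⟨⟨(x : G), 1, fun h => hx1 (Subtype.ext h)⟩⟩
  have hS : (Finset.univ.filter fun N : Subgroup G => N.Normal ∧ N ≠ ⊥).Nonempty :=
    ⟨⊤, Finset.mem_filter.2 ⟨Finset.mem_univ _, inferInstance, top_ne_bot⟩⟩
  obtain ⟨N, hN⟩ := Finset.exists_minimal hS
  simp only [Finset.mem_filter, Finset.mem_univ, true_and] at hN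
  obtain ⟨⟨hNn, hNne⟩, hNmin⟩ := hN
  have hmin : ∀ K : Subgroup G, K.Normal → K ≤ N → K ≠ ⊥ → K = N := fun K hK hle hne =>
    le_antisymm hle (hNmin ⟨hK, hne⟩ hle)
  have hodd : ∀ (K : Subgroup G) [K.Normal], ¬ 2 ∣ Nat.card K → K = ⊥ := fun K _ h =>
    le_bot_iff.1 (hcore ▸ HallCore.le_pPrimeCore ((Nat.prime_two.coprime_iff_not_dvd.2 h).symm))
  -- a central involution of `P` inside `N`
  have hNP : N ⊓ (P : Subgroup G) ≠ ⊥ := by
    intro h
    refine hNne (hodd N fun h2 => ?_)
    obtain ⟨t, ht⟩ := exists_prime_orderOf_dvd_card' 2 h2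
    obtain ⟨Q, hQ⟩ := (IsPGroup.of_card (p := 2) (n := 1) (by rw [Nat.card_zpowers, Subgroup.orderOf_coe, ht, pow_one] :
      Nat.card (Subgroup.zpowers (t : G)) = 2 ^ 1)).exists_le_sylow
    obtain ⟨g, hg⟩ := MulAction.exists_smul_eq G Q P
    have hmem : g * (t : G) * g⁻¹ ∈ N ⊓ (P : Subgroup G) := by
      refine ⟨hNn.conj_mem _ t.2 g, ?_⟩
      rw [← hg, Sylow.coe_subgroup_smul]
      exact Subgroup.mem_map_of_mem (MulAut.conj g).toMonoidHom (hQ (Subgroup.mem_zpowers _))
    rw [h, Subgroup.mem_bot] at hmem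
    have : (t : G) = 1 := by simpa [mul_inv_eq_one, mul_eq_left] using hmem
    rw [← Subgroup.orderOf_coe, this, orderOf_one] at ht
    omega
  obtain ⟨z, hzN, hzP, hzc, hz2⟩ : ∃ z, z ∈ N ∧ z ∈ (P : Subgroup G) ∧
      (∀ x ∈ (P : Subgroup G), Commute z x) ∧ orderOf z = 2 := by
    set K := (N ⊓ (P : Subgroup G)).subgroupOf (P : Subgroup G) with hK
    have hKn : K.Normal := ⟨fun x hx g => ⟨hNn.conj_mem _ hx.1 _, (g * x * g⁻¹).2⟩⟩
    have hKne : K ≠ ⊥ := by
      rw [hK, Ne, Subgroup.subgroupOf_eq_bot, disjoint_iff]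
      rwa [inf_assoc, inf_idem]
    have : Nontrivial K := (Subgroup.nontrivial_iff_ne_bot K).2 hKne
    have hbot := Cfsg.Agent.S4719.inf_center_ne_bot P.isPGroup' K
    have hp2 : (2 : ℕ) ∣ Nat.card ↥(K ⊓ Subgroup.center (P : Subgroup G)) := by
      obtain ⟨n, hn⟩ := IsPGroup.iff_card.1 (P.isPGroup'.to_subgroup (K ⊓ Subgroup.center (P : Subgroup G)))
      rcases n with _ | n
      · exact absurd (Subgroup.card_eq_one.1 (by rw [hn, pow_zero])) hbot
      · exact hn ▸ dvd_pow_self 2 n.succ_ne_zero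
    obtain ⟨z, hz⟩ := exists_prime_orderOf_dvd_card' 2 hp2
    exact ⟨((z : (P : Subgroup G)) : G), z.2.1.1, (z : (P : Subgroup G)).2,
      fun x hx => (congrArg Subtype.val (Subgroup.mem_center_iff.1 z.2.2 ⟨x, hx⟩)).symm,
      by rw [Subgroup.orderOf_coe, Subgroup.orderOf_coe, hz]⟩
  have hmz := hm z hzP hzc hz2
  -- a minimal normal subgroup of `N`
  have hS2 : (Finset.univ.filter fun T : Subgroup G => T ≤ N ∧ T ≠ ⊥ ∧ N ≤ Subgroup.normalizer (T : Set G)).Nonempty :=
    ⟨N, by simp [hNne, Subgroup.le_normalizer]⟩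
  obtain ⟨T, hT⟩ := Finset.exists_minimal hS2
  simp only [Finset.mem_filter, Finset.mem_univ, true_and] at hT
  obtain ⟨⟨hTN, hTne, hTnorm⟩, hTmin⟩ := hT
  have hTeq : ∀ K : Subgroup G, K ≤ T → K ≠ ⊥ → N ≤ Subgroup.normalizer (K : Set G) → K = T :=
    fun K hle hne hnm => le_antisymm hle
      (hTmin ⟨hle.trans hTN, hne, hnm⟩ hle)
  set C := N ⊓ Subgroup.centralizer (T : Set G) with hC
  let Tg : G → Subgroup G := fun g => T.map (MulAut.conj g).toMonoidHom
  have hTgN : ∀ g, Tg g ≤ N := by
    rintro g _ ⟨x, hx, rfl⟩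
    exact hNn.conj_mem x (hTN hx) g
  have hTgn : ∀ g, N ≤ Subgroup.normalizer (Tg g : Set G) := by
    intro g x hx
    have key : ∀ y ∈ N, ∀ w ∈ Tg g, y * w * y⁻¹ ∈ Tg g := by
      rintro y hy _ ⟨w, hw, rfl⟩
      refine ⟨(g⁻¹ * y * g) * w * (g⁻¹ * y * g)⁻¹,
        (Subgroup.mem_normalizer_iff.1 (hTnorm (by simpa using hNn.conj_mem y hy g⁻¹)) w).1 hw, ?_⟩
      simp [mul_assoc]
    refine Subgroup.mem_normalizer_iff.2 fun w => ⟨key x hx w, fun h => ?_⟩
    simpa [mul_assoc] using key x⁻¹ (N.inv_mem hx) _ h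
  have hdec : ∀ g, Tg g = T ∨ Tg g ≤ C := by
    intro g
    by_cases hi : T ⊓ Tg g = ⊥
    · right
      intro w hw
      refine ⟨hTgN g hw, Subgroup.mem_centralizer_iff.2 fun x hx => ?_⟩
      have h1 : x * w * x⁻¹ * w⁻¹ ∈ T ⊓ Tg g := by
        refine ⟨?_, (Tg g).mul_mem ((Subgroup.mem_normalizer_iff.1 (hTgn g (hTN hx)) w).1 hw) ((Tg g).inv_mem hw)⟩
        rw [show x * w * x⁻¹ * w⁻¹ = x * (w * x⁻¹ * w⁻¹) by group]
        exact T.mul_mem hx ((Subgroup.mem_normalizer_iff.1 (hTnorm (hTgN g hw)) _).1 (T.inv_mem hx))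
      rw [hi, Subgroup.mem_bot] at h1
      exact mul_inv_eq_iff_eq_mul.1 (mul_inv_eq_one.1 h1)
    · left
      have hnm : N ≤ Subgroup.normalizer ((T ⊓ Tg g : Subgroup G) : Set G) := fun x hx =>
        Subgroup.mem_normalizer_iff.2 fun w => by
          simp only [Subgroup.mem_inf]
          rw [← Subgroup.mem_normalizer_iff.1 (hTnorm hx) w, ← Subgroup.mem_normalizer_iff.1 (hTgn g hx) w]
      have h1 := hTeq _ inf_le_left hi hnm
      exact (Subgroup.eq_of_le_of_card_ge (h1.ge.trans inf_le_right)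
        (Subgroup.card_map_of_injective (MulAut.conj g).injective).le).symm
  have hCn : N ≤ Subgroup.normalizer (C : Set G) := by
    have key : ∀ x ∈ N, ∀ w ∈ C, x * w * x⁻¹ ∈ C := by
      rintro x hx w ⟨hw1, hw2⟩
      refine ⟨N.mul_mem (N.mul_mem hx hw1) (N.inv_mem hx), Subgroup.mem_centralizer_iff.2 fun y hy => ?_⟩
      have := Subgroup.mem_centralizer_iff.1 hw2 (x⁻¹ * y * x)
        (by simpa using (Subgroup.mem_normalizer_iff.1 (hTnorm (N.inv_mem hx)) y).1 hy)
      calc y * (x * w * x⁻¹) = x * (x⁻¹ * y * x * w) * x⁻¹ := by group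
        _ = x * w * x⁻¹ * y := by rw [this]; group
    intro x hx
    refine Subgroup.mem_normalizer_iff.2 fun w => ⟨key x hx w, fun h => ?_⟩
    simpa [mul_assoc] using key x⁻¹ (N.inv_mem hx) _ h
  have hclo : Subgroup.normalClosure (T : Set G) = N :=
    hmin _ Subgroup.normalClosure_normal (Subgroup.normalClosure_le_normal hTN)
      fun h => hTne (le_bot_iff.1 (h ▸ Subgroup.le_normalClosure))
  have hNTC : N ≤ T ⊔ C := by
    rw [← hclo, Subgroup.normalClosure, Subgroup.closure_le]
    intro x hx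
    obtain ⟨y, hy, hyx⟩ := Group.mem_conjugatesOfSet_iff.1 hx
    obtain ⟨g, rfl⟩ := isConj_iff.1 hyx
    rcases hdec g with h | h
    · exact le_sup_left (b := C) (h ▸ Subgroup.mem_map_of_mem (MulAut.conj g).toMonoidHom hy)
    · exact le_sup_right (a := T) (h (Subgroup.mem_map_of_mem (MulAut.conj g).toMonoidHom hy))
  have hzT : z ∈ (T : Set G) * (C : Set G) := by
    rw [← Subgroup.coe_mul_of_left_le_normalizer_right T C (hTN.trans hCn)]
    exact hNTC hzN
  obtain ⟨τ, hτ, c, hc, hτc⟩ := Set.mem_mul.1 hzT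
  have hcT : ∀ x ∈ T, Commute x c := fun x hx => Subgroup.mem_centralizer_iff.1 hc.2 x hx
  -- the order of `T`
  have hTb : Nat.card T ≤ m + (2 * m ^ 2).factorial + 1 ∧ 2 ∣ Nat.card T := by
    constructor
    swap
    · by_contra h2
      have hTnN : (T.subgroupOf N).Normal := Subgroup.normal_subgroupOf_of_le_normalizer hTnorm
      have hle : T.subgroupOf N ≤ pPrimeCore 2 N := by
        refine HallCore.le_pPrimeCore ((Nat.prime_two.coprime_iff_not_dvd.2 ?_).symm)
        rwa [Nat.card_congr (Subgroup.subgroupOfEquivOfLe hTN).toEquiv]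
      have hch : (pPrimeCore 2 N).Characteristic := HallCore.pPrimeCore_characteristic 2 N
      have hmn : ((pPrimeCore 2 N).map N.subtype).Normal := by
        haveI := hNn
        infer_instance
      have h0 := hodd ((pPrimeCore 2 N).map N.subtype) (by
        rw [Subgroup.card_map_of_injective Subtype.val_injective]
        exact HallCore.not_dvd_card_pPrimeCore 2 N)
      refine hTne (le_bot_iff.1 fun x hx => ?_)
      rw [← h0]
      exact ⟨⟨x, hTN hx⟩, hle hx, rfl⟩
    by_cases hzc' : ∀ x ∈ T, Commute x z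
    · have : Nat.card T ≤ Nat.card (Subgroup.centralizer ({z} : Set G)) :=
        Subgroup.card_le_of_le fun x hx => Subgroup.mem_centralizer_singleton_iff.2 (hzc' x hx).eq
      omega
    · have hTab : ¬ ∀ x ∈ T, ∀ y ∈ T, Commute x y := by
        intro hab
        apply hzc'
        intro x hx
        rw [← hτc]
        exact (hab x hx τ hτ).mul_right (hcT x hx)
      have hTC : T ⊓ C = ⊥ := by
        by_contra hne
        have hnm : N ≤ Subgroup.normalizer ((T ⊓ C : Subgroup G) : Set G) := fun x hx =>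
          Subgroup.mem_normalizer_iff.2 fun w => by
            simp only [Subgroup.mem_inf]
            rw [← Subgroup.mem_normalizer_iff.1 (hTnorm hx) w, ← Subgroup.mem_normalizer_iff.1 (hCn hx) w]
        have h1 := hTeq _ inf_le_left hne hnm
        refine hTab fun x hx y hy => ?_
        have hyC : y ∈ C := (h1.ge hy).2
        exact Subgroup.mem_centralizer_iff.1 hyC.2 x hx
      have hzz : z * z = 1 := by rw [← pow_two, ← hz2, pow_orderOf_eq_one]
      have hττ : τ * τ = 1 := by
        have h1 : τ * τ = (c * c)⁻¹ := eq_inv_of_mul_eq_one_left (by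
          calc τ * τ * (c * c) = τ * c * (τ * c) := by
                rw [mul_assoc τ c, ← mul_assoc c τ c, ← (hcT τ hτ).eq]; group
            _ = 1 := by rw [hτc, hzz])
        rw [← Subgroup.mem_bot, ← hTC]
        exact ⟨T.mul_mem hτ hτ, h1 ▸ C.inv_mem (C.mul_mem hc hc)⟩
      have hτ2 : orderOf (⟨τ, hτ⟩ : T) = 2 := by
        refine orderOf_eq_prime (Subtype.ext (by rw [Subgroup.coe_pow, pow_two]; exact hττ)) fun h => hzc' fun x hx => ?_
        have : τ = 1 := congrArg Subtype.val h
        rw [← hτc, this, one_mul]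
        exact hcT x hx
      have hsimple : IsSimpleGroup T := by
        have : Nontrivial T := (Subgroup.nontrivial_iff_ne_bot T).2 hTne
        refine ⟨fun K hK => or_iff_not_imp_left.2 fun hKne => ?_⟩
        set K' := K.map T.subtype with hK'
        have hKT : K' ≤ T := Subgroup.map_subtype_le K
        have hnm : N ≤ Subgroup.normalizer (K' : Set G) := by
          refine hNTC.trans (sup_le ?_ ?_)
          · intro x hx
            refine Subgroup.mem_normalizer_iff.2 fun w => ⟨?_, ?_⟩
            · rintro ⟨w', hw', rfl⟩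
              exact ⟨⟨x, hx⟩ * w' * ⟨x, hx⟩⁻¹, hK.conj_mem _ hw' _, rfl⟩
            · rintro ⟨w', hw', hw''⟩
              refine ⟨⟨x, hx⟩⁻¹ * w' * ⟨x, hx⟩, by simpa using hK.conj_mem _ hw' (⟨x, hx⟩ : T)⁻¹, ?_⟩
              show x⁻¹ * (w' : G) * x = w
              rw [show (w' : G) = x * w * x⁻¹ from hw'']
              group
          · intro x hx
            refine Subgroup.mem_normalizer_iff.2 fun w => ⟨fun hw => ?_, fun hw => ?_⟩
            · rwa [← Subgroup.mem_centralizer_iff.1 hx.2 w (hKT hw), mul_inv_cancel_right]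
            · have hh := Subgroup.mem_centralizer_iff.1 hx.2 _ (hKT hw)
              have : w = x * w * x⁻¹ := by
                calc w = x⁻¹ * (x * w * x⁻¹ * x) := by group
                  _ = x * w * x⁻¹ := by rw [hh]; group
              rwa [this]
        have h1 := hTeq K' hKT (fun h => hKne ((Subgroup.map_eq_bot_iff_of_injective _ Subtype.val_injective).1 h)) hnm
        refine eq_top_iff.2 fun x _ => ?_
        obtain ⟨w, hw, hwx⟩ := h1.ge x.2
        exact Subtype.ext hwx ▸ hw
      have hCle : Nat.card (Subgroup.centralizer ({(⟨τ, hτ⟩ : T)} : Set T)) ≤ m := by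
        refine le_trans ?_ hmz
        refine Nat.card_le_card_of_injective
          (fun x => (⟨((x : T) : G), Subgroup.mem_centralizer_singleton_iff.2 ?_⟩ : Subgroup.centralizer ({z} : Set G)))
          fun x y h => Subtype.ext (Subtype.ext (congrArg Subtype.val h :))
        have h2 : Commute ((x : T) : G) τ := congrArg Subtype.val (Subgroup.mem_centralizer_singleton_iff.1 x.2)
        rw [← hτc]
        exact (h2.mul_right (hcT _ (x : T).2)).eq
      have h1 := Cfsg.Agent.S0212.result (⟨τ, hτ⟩ : T) hτ2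
      have h2 : (2 * Nat.card (Subgroup.centralizer ({(⟨τ, hτ⟩ : T)} : Set T)) ^ 2).factorial ≤ (2 * m ^ 2).factorial :=
        Nat.factorial_le (by gcongr)
      omega
  -- the conjugates of `T`
  set Cj : Finset (Subgroup G) := Finset.univ.image Tg with hCj
  have hinv : ∀ K ∈ Cj, ∃ t : G, t ∈ K ∧ orderOf t = 2 := by
    intro K hK
    obtain ⟨g, -, rfl⟩ := Finset.mem_image.1 hK
    have h2 : 2 ∣ Nat.card (Tg g) := by
      rw [show Nat.card (Tg g) = Nat.card T from Subgroup.card_map_of_injective (MulAut.conj g).injective]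
      exact hTb.2
    obtain ⟨t, ht⟩ := exists_prime_orderOf_dvd_card' 2 h2
    exact ⟨t, t.2, by rw [Subgroup.orderOf_coe, ht]⟩
  choose! t ht ht2 using hinv
  have hcommT : ∀ K ∈ Cj, ∀ L ∈ Cj, K ≠ L → K ⊓ L = ⊥ ∧ ∀ x ∈ K, ∀ y ∈ L, Commute x y := by
    intro K hK L hL hne
    obtain ⟨g, -, rfl⟩ := Finset.mem_image.1 hK
    obtain ⟨h, -, rfl⟩ := Finset.mem_image.1 hL
    have hinf : Tg g ⊓ Tg h = ⊥ := by
      by_contra hi
      have key : ∀ g h : G, Tg g ⊓ Tg h ≠ ⊥ → Tg g ≤ Tg h := by
        intro g h hi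
        have hnm : ∀ x ∈ N, ∀ w ∈ Tg g ⊓ Tg h, x * w * x⁻¹ ∈ Tg g ⊓ Tg h := fun x hx w hw =>
          ⟨(Subgroup.mem_normalizer_iff.1 (hTgn g hx) w).1 hw.1, (Subgroup.mem_normalizer_iff.1 (hTgn h hx) w).1 hw.2⟩
        set K := (Tg g ⊓ Tg h).map (MulAut.conj g⁻¹).toMonoidHom with hK
        have hKT : K ≤ T := by
          rintro _ ⟨w, ⟨⟨y, hy, rfl⟩, -⟩, rfl⟩
          simpa [mul_assoc] using hy
        have hKne : K ≠ ⊥ := fun h' => hi ((Subgroup.map_eq_bot_iff_of_injective _ (MulAut.conj g⁻¹).injective).1 h')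
        have hKn : N ≤ Subgroup.normalizer (K : Set G) := by
          have key2 : ∀ x ∈ N, ∀ w ∈ K, x * w * x⁻¹ ∈ K := by
            rintro x hx _ ⟨w, hw, rfl⟩
            refine ⟨(g * x * g⁻¹) * w * (g * x * g⁻¹)⁻¹, hnm _ (hNn.conj_mem x hx g) w hw, ?_⟩
            simp [mul_assoc]
          intro x hx
          refine Subgroup.mem_normalizer_iff.2 fun w => ⟨key2 x hx w, fun h => ?_⟩
          simpa [mul_assoc] using key2 x⁻¹ (N.inv_mem hx) _ h
        have hKT' := hTeq K hKT hKne hKn
        rintro _ ⟨y, hy, rfl⟩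
        obtain ⟨w, hw, hwy⟩ := hKT'.ge hy
        have : (MulAut.conj g).toMonoidHom y = w := by rw [← hwy]; simp [mul_assoc]
        rw [this]
        exact hw.2
      exact hne (le_antisymm (key g h hi) (key h g (by rwa [inf_comm])))
    refine ⟨hinf, fun x hx y hy => ?_⟩
    have h1 : x * y * x⁻¹ * y⁻¹ ∈ Tg g ⊓ Tg h := by
      refine ⟨?_, (Tg h).mul_mem ((Subgroup.mem_normalizer_iff.1 (hTgn h (hTgN g hx)) y).1 hy) ((Tg h).inv_mem hy)⟩
      rw [show x * y * x⁻¹ * y⁻¹ = x * (y * x⁻¹ * y⁻¹) by group]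
      exact (Tg g).mul_mem hx ((Subgroup.mem_normalizer_iff.1 (hTgn g (hTgN h hy)) _).1 ((Tg g).inv_mem hx))
    rw [hinf, Subgroup.mem_bot] at h1
    exact mul_inv_eq_iff_eq_mul.1 (mul_inv_eq_one.1 h1)
  have hk : Cj.card ≤ 2 ^ a := by
    set E := Subgroup.closure (t '' (Cj : Set (Subgroup G))) with hE
    have hcc : ∀ x ∈ t '' (Cj : Set (Subgroup G)), ∀ y ∈ t '' (Cj : Set (Subgroup G)), x * y = y * x := by
      rintro _ ⟨K, hK, rfl⟩ _ ⟨L, hL, rfl⟩
      rcases eq_or_ne K L with rfl | hne
      · rfl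
      · exact ((hcommT K hK L hL hne).2 _ (ht K hK) _ (ht L hL)).eq
    have hEc : ∀ x ∈ E, ∀ y ∈ E, Commute x y := by
      have h1 : E ≤ Subgroup.centralizer (t '' (Cj : Set (Subgroup G))) :=
        (Subgroup.closure_le _).2 fun x hx => Subgroup.mem_centralizer_iff.2 fun y hy => (hcc x hx y hy).symm
      have h2 : E ≤ Subgroup.centralizer (E : Set G) :=
        (Subgroup.closure_le _).2 fun x hx => Subgroup.mem_centralizer_iff.2 fun y hy =>
          (Subgroup.mem_centralizer_iff.1 (h1 hy) x hx).symm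
      exact fun x hx y hy => Subgroup.mem_centralizer_iff.1 (h2 hy) x hx
    have hE2 : IsPGroup 2 E := by
      rintro ⟨x, hx⟩
      refine ⟨1, Subtype.ext ?_⟩
      show x ^ 2 ^ 1 = 1
      rw [pow_one]
      induction hx using Subgroup.closure_induction with
      | mem y hy => obtain ⟨K, hK, rfl⟩ := hy; rw [← ht2 K hK, pow_orderOf_eq_one]
      | one => simp
      | mul y w hy hw ihy ihw => rw [(hEc y hy w hw).mul_pow, ihy, ihw, one_mul]
      | inv y _ ih => rw [inv_pow, ih, inv_one]
    obtain ⟨Q, hQ⟩ := hE2.exists_le_sylow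
    have hQP : Nat.card Q = Nat.card P := by rw [Sylow.card_eq_multiplicity, Sylow.card_eq_multiplicity]
    calc Cj.card = Nat.card Cj := (Nat.card_eq_finsetCard Cj).symm
      _ ≤ Nat.card Q := by
        refine Nat.card_le_card_of_injective
          (fun K => (⟨t K, hQ (Subgroup.subset_closure ⟨K, K.2, rfl⟩)⟩ : Q)) fun K L hKL => ?_
        by_contra hne
        have hKL' : t K = t L := congrArg Subtype.val hKL
        have h1 := (hcommT K K.2 L L.2 fun h => hne (Subtype.ext h)).1
        have h2 : t K ∈ (K : Subgroup G) ⊓ L := ⟨ht K K.2, hKL' ▸ ht L L.2⟩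
        rw [h1, Subgroup.mem_bot] at h2
        have h3 := ht2 K K.2
        rw [h2, orderOf_one] at h3
        omega
      _ ≤ 2 ^ a := hQP ▸ hP
  set D := m + (2 * m ^ 2).factorial + 1 with hD
  have hprod : ∀ S : Finset (Subgroup G), S ⊆ Cj →
      N ≤ Subgroup.normalizer ((S.sup id : Subgroup G) : Set G) ∧ (S.sup id : Subgroup G) ≤ N ∧
        Nat.card ↥(S.sup id : Subgroup G) ≤ D ^ S.card := by
    intro S hS
    induction S using Finset.induction with
    | empty => exact ⟨fun x _ => Subgroup.mem_normalizer_iff.2 fun w => by simp, by simp, by simp⟩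
    | insert K S hKS ih =>
      obtain ⟨i1, i2, i3⟩ := ih fun x hx => hS (Finset.mem_insert_of_mem hx)
      obtain ⟨g, -, rfl⟩ := Finset.mem_image.1 (hS (Finset.mem_insert_self K S))
      rw [Finset.sup_insert, id]
      set A := (S.sup id : Subgroup G)
      have hAn : N ≤ Subgroup.normalizer ((Tg g ⊔ A : Subgroup G) : Set G) := by
        intro x hx
        have h1 : (Tg g).map (MulAut.conj x).toMonoidHom = Tg g := by
          refine Subgroup.eq_of_le_of_card_ge ?_ (Subgroup.card_map_of_injective (MulAut.conj x).injective).ge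
          rintro _ ⟨w, hw, rfl⟩
          exact (Subgroup.mem_normalizer_iff.1 (hTgn g hx) w).1 hw
        have h2 : A.map (MulAut.conj x).toMonoidHom = A := by
          refine Subgroup.eq_of_le_of_card_ge ?_ (Subgroup.card_map_of_injective (MulAut.conj x).injective).ge
          rintro _ ⟨w, hw, rfl⟩
          exact (Subgroup.mem_normalizer_iff.1 (i1 hx) w).1 hw
        refine Subgroup.mem_normalizer_iff.2 fun w => ?_
        conv_rhs => rw [← h1, ← h2, ← Subgroup.map_sup]
        exact ⟨fun hw => ⟨w, hw, rfl⟩, fun ⟨w', hw', he⟩ => (MulAut.conj x).injective he ▸ hw'⟩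
      refine ⟨hAn, sup_le (hTgN g) i2, ?_⟩
      rw [Finset.card_insert_of_notMem hKS, pow_succ']
      have hn1 : ((Tg g).subgroupOf N).Normal := Subgroup.normal_subgroupOf_of_le_normalizer (hTgn g)
      have h3 := card_sup_le ((Tg g).subgroupOf N) (A.subgroupOf N)
      rw [← Subgroup.subgroupOf_sup (hTgN g) i2, Nat.card_congr (Subgroup.subgroupOfEquivOfLe (sup_le (hTgN g) i2)).toEquiv,
        Nat.card_congr (Subgroup.subgroupOfEquivOfLe (hTgN g)).toEquiv, Nat.card_congr (Subgroup.subgroupOfEquivOfLe i2).toEquiv] at h3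
      refine h3.trans (Nat.mul_le_mul ?_ i3)
      rw [show Nat.card (Tg g) = Nat.card T from Subgroup.card_map_of_injective (MulAut.conj g).injective]
      exact hTb.1
  have hNle : N ≤ (Cj.sup id : Subgroup G) := by
    rw [← hclo, Subgroup.normalClosure, Subgroup.closure_le]
    intro x hx
    obtain ⟨y, hy, hyx⟩ := Group.mem_conjugatesOfSet_iff.1 hx
    obtain ⟨g, rfl⟩ := isConj_iff.1 hyx
    exact Finset.le_sup (f := id) (Finset.mem_image_of_mem Tg (Finset.mem_univ g))
      (Subgroup.mem_map_of_mem (MulAut.conj g).toMonoidHom hy)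
  have hNb : Nat.card N ≤ D ^ 2 ^ a :=
    ((Subgroup.card_le_of_le hNle).trans (hprod Cj (Finset.Subset.refl _)).2.2).trans
      (Nat.pow_le_pow_right (by omega) hk)
  let φ : G →* Equiv.Perm N := (MulAut.toPerm N).comp (MulAut.conjNormal (H := N))
  have hker : Nat.card φ.ker ≤ m := by
    refine le_trans (Subgroup.card_le_of_le fun g hg => Subgroup.mem_centralizer_singleton_iff.2 ?_) hmz
    have h1 := congrArg (fun e : Equiv.Perm N => ((e ⟨z, hzN⟩ : N) : G)) (MonoidHom.mem_ker.1 hg)
    exact mul_inv_eq_iff_eq_mul.1 ((MulAut.conjNormal_apply g ⟨z, hzN⟩).symm.trans h1)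
  calc Nat.card G = φ.ker.index * Nat.card φ.ker := (Subgroup.index_mul_card _).symm
    _ ≤ (D ^ 2 ^ a).factorial * m := by
      refine Nat.mul_le_mul ?_ hker
      rw [Subgroup.index_ker]
      refine (Nat.card_le_card_of_injective Subtype.val Subtype.val_injective).trans ?_
      rw [Nat.card_perm]
      exact Nat.factorial_le hNb
    _ = _ := mul_comm _ _

theorem exists_bound (r : ℕ) : ∀ a : ℕ, ∃ N : ℕ, ∀ (G : Type u) [Group G] [Finite G]
    (M : Ideal AlgInt), IsPModular 2 M → (Nat.card G).factorization 2 ≤ a →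
    (∀ B : Set (IrrCharacter G), IsPBlock M B → B ≠ principalBlock M G → blockDefect 2 B < r) →
    ∀ E : Subgroup G, (∀ x ∈ E, ∀ y ∈ E, Commute x y) → (∀ x ∈ E, x * x = 1) →
      Nat.card E = 2 ^ (r + 1) → Nat.card G ≤ N := by
  have : Fact (Nat.Prime 2) := ⟨Nat.prime_two⟩
  induction r with
  | zero =>
    intro a
    choose f hf using fun a' => Cfsg.Agent.S4718.result.{u} 2 a'
    refine ⟨(Finset.range (a + 1)).sup f, fun G _ _ M hM ha hdef E _ _ _ => ?_⟩
    refine (hf _ G M hM rfl fun B hB => ?_).trans (Finset.le_sup (Finset.mem_range.2 (Nat.lt_succ_of_le ha)))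
    by_contra hne
    exact Nat.not_lt_zero _ (hdef B hB hne)
  | succ r ih =>
    intro a
    obtain ⟨N, hN⟩ := ih a
    refine ⟨(2 * N) ^ 3 * (2 * N * ((2 * N + (2 * (2 * N) ^ 2).factorial + 1) ^ (2 ^ a)).factorial),
      fun G _ _ M hM ha hdef E hEc hE2 hEcard => ?_⟩
    classical
    -- centralisers of involutions commuting with `E`
    have hclaim : ∀ v : G, orderOf v = 2 → (∀ e ∈ E, Commute v e) →
        Nat.card (Subgroup.centralizer ({v} : Set G)) ≤ 2 * N := by
      intro v hv hvE
      set H := Subgroup.centralizer ({v} : Set G) with hH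
      have hvH : v ∈ H := Subgroup.mem_centralizer_singleton_iff.2 rfl
      have hEH : E ≤ H := fun e he => Subgroup.mem_centralizer_singleton_iff.2 (hvE e he).eq.symm
      set W := Subgroup.zpowers (⟨v, hvH⟩ : H) with hW
      have hWc : W ≤ Subgroup.center H := Subgroup.zpowers_le.2
        (Subgroup.mem_center_iff.2 fun g => Subtype.ext (Subgroup.mem_centralizer_singleton_iff.1 g.2))
      have hWn : W.Normal := ⟨fun n hn g => by
        rw [Subgroup.mem_center_iff.1 (hWc hn) g, mul_inv_cancel_right]; exact hn⟩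
      have hWcard : Nat.card W = 2 := by rw [Nat.card_zpowers, ← Subgroup.orderOf_coe, hv]
      have hWp : IsPGroup 2 W := IsPGroup.of_card (n := 1) (by rw [hWcard, pow_one])
      have hH2 := (Cfsg.Agent.S4717.result 2 M hM (r + 1)).1 hdef v ⟨1, by rw [hv, pow_one]⟩
      have hfac : (Nat.card (H ⧸ W)).factorization 2 ≤ a :=
        le_trans ((Nat.factorization_le_iff_dvd Nat.card_pos.ne' Nat.card_pos.ne').2
          ((Subgroup.card_quotient_dvd_card W).trans (Subgroup.card_subgroup_dvd_card H)) 2) ha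
      have hdefQ : ∀ B : Set (IrrCharacter (H ⧸ W)), IsPBlock M B → B ≠ principalBlock M (H ⧸ W) →
          blockDefect 2 B < r := by
        intro B hB hne
        obtain ⟨B', hB', hne', hd⟩ := BlockContribQuot.exists_block_above W hWc hWp hM hWcard hB hne
        have := hH2 B' hB' hne'
        omega
      set π := QuotientGroup.mk' W
      set Eb := (E.subgroupOf H).map π with hEb
      have hEbc : 2 ^ (r + 1) ≤ Nat.card Eb := by
        have h1 := Subgroup.card_le_of_le (Subgroup.map_subtype_le (E.subgroupOf H))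
        have h2 : Nat.card (E.subgroupOf H) = Nat.card Eb * Nat.card (π.ker.subgroupOf (E.subgroupOf H)) := by
          rw [Subgroup.card_eq_card_quotient_mul_card_subgroup (π.ker.subgroupOf (E.subgroupOf H))]
          congr 1
          refine Nat.card_congr ?_
          refine ((QuotientGroup.quotientMulEquivOfEq ?_).trans
            (QuotientGroup.quotientKerEquivRange (π.comp (E.subgroupOf H).subtype))).toEquiv.trans
            (Equiv.setCongr ?_)
          · rfl
          · simp [hEb, MonoidHom.range_comp]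
        have h3 : Nat.card (π.ker.subgroupOf (E.subgroupOf H)) ≤ 2 := by
          rw [← hWcard, QuotientGroup.ker_mk']
          exact Nat.card_le_card_of_injective (fun x => (⟨_, x.2⟩ : W))
            fun x y hxy => Subtype.ext (Subtype.ext (congrArg Subtype.val hxy :))
        rw [Nat.card_congr (Subgroup.subgroupOfEquivOfLe hEH).toEquiv, hEcard] at h2
        have h4 : 2 ^ (r + 1) * 2 ≤ Nat.card Eb * 2 := by
          rw [← pow_succ, h2]; exact Nat.mul_le_mul_left _ h3
        exact Nat.le_of_mul_le_mul_right h4 two_pos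
      have hEbp : IsPGroup 2 Eb := by
        refine IsPGroup.map ?_ π
        intro x
        exact ⟨1, Subtype.ext (Subtype.ext (by simpa [pow_two] using hE2 _ x.2))⟩
      obtain ⟨n, hn⟩ := IsPGroup.iff_card.1 hEbp
      have hrn : r + 1 ≤ n := (Nat.pow_le_pow_iff_right (le_refl 2)).1 (hn ▸ hEbc)
      obtain ⟨K, hK⟩ := Sylow.exists_subgroup_card_pow_prime 2 (G := Eb) (n := r + 1) (hn ▸ pow_dvd_pow 2 hrn)
      have hb := hN (H ⧸ W) M hM hfac hdefQ (K.map Eb.subtype) ?_ ?_
        (by rw [Subgroup.card_map_of_injective Subtype.val_injective, hK])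
      · rw [Subgroup.card_eq_card_quotient_mul_card_subgroup W, hWcard]
        omega
      · rintro _ ⟨⟨_, x, hx, rfl⟩, -, rfl⟩ _ ⟨⟨_, y, hy, rfl⟩, -, rfl⟩
        exact (Commute.map (show Commute x y from Subtype.ext (hEc _ hx _ hy).eq) π)
      · rintro _ ⟨⟨_, x, hx, rfl⟩, -, rfl⟩
        show π x * π x = 1
        rw [← map_mul, show x * x = 1 from Subtype.ext (hE2 _ hx), map_one]
    -- the odd core
    have hE4 : 4 ≤ Nat.card E := by
      rw [hEcard]
      calc 4 = 2 ^ 2 := rfl
        _ ≤ 2 ^ (r + 1 + 1) := Nat.pow_le_pow_right two_pos (by omega)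
    have : Fintype E := Fintype.ofFinite E
    obtain ⟨v, hv⟩ := Finset.exists_mem_ne (s := (Finset.univ : Finset E)) (by
      rw [Finset.card_univ, ← Nat.card_eq_fintype_card]; omega) 1
    obtain ⟨s, hs⟩ : ((Finset.univ.erase (1 : E)).erase v).Nonempty := by
      rw [← Finset.card_pos, Finset.card_erase_of_mem (Finset.mem_erase.2 ⟨hv.2, Finset.mem_univ v⟩),
        Finset.card_erase_of_mem (Finset.mem_univ _), Finset.card_univ, ← Nat.card_eq_fintype_card]
      omega
    simp only [Finset.mem_erase, Finset.mem_univ, and_true] at hs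
    have ho : ∀ e : E, e ≠ 1 → orderOf (e : G) = 2 := fun e he => by
      rw [Subgroup.orderOf_coe]
      exact orderOf_eq_prime (Subtype.ext (by rw [pow_two]; exact hE2 _ e.2)) he
    have hsv : s * v ≠ 1 := fun h => hs.1 (eq_inv_of_mul_eq_one_left h |>.trans
      (inv_eq_of_mul_eq_one_right (Subtype.ext (hE2 _ v.2))))
    have hOn : (pPrimeCore 2 G).Normal := HallCore.pPrimeCore_normal 2 G
    have hOodd : Odd (Nat.card (pPrimeCore 2 G)) := by
      rw [← Nat.not_even_iff_odd, even_iff_two_dvd]; exact HallCore.not_dvd_card_pPrimeCore 2 G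
    have hO : Nat.card (pPrimeCore 2 G) ≤ (2 * N) ^ 3 := by
      refine card_odd_normal_le _ hOodd (ho v hv.2) (ho s hs.2) (hEc _ v.2 _ s.2) (fun h => hs.1 (Subtype.ext h.symm)) ?_
      rintro x (rfl | rfl | rfl)
      · exact hclaim _ (ho v hv.2) fun e he => hEc _ v.2 _ he
      · exact hclaim _ (ho s hs.2) fun e he => hEc _ s.2 _ he
      · exact hclaim _ (ho (s * v) hsv) fun e he => hEc _ (s * v).2 _ he
    -- the quotient
    set O := pPrimeCore 2 G
    set π := QuotientGroup.mk' O with hπ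
    have hEp : IsPGroup 2 E := fun x => ⟨1, Subtype.ext (by simpa [pow_two] using hE2 _ x.2)⟩
    obtain ⟨P, hP⟩ := hEp.exists_le_sylow
    have hker : ∀ x ∈ (P : Subgroup G), π x = 1 → x = 1 := by
      intro x hx h1
      rw [hπ, ← MonoidHom.mem_ker, QuotientGroup.ker_mk'] at h1
      obtain ⟨k, hk⟩ := IsPGroup.iff_orderOf.1 P.isPGroup' ⟨x, hx⟩
      rw [← Subgroup.orderOf_coe] at hk
      have h2 : orderOf x ∣ Nat.card O := Subgroup.orderOf_dvd_natCard O h1
      rcases k with _ | k
      · exact orderOf_eq_one_iff.1 (by rw [hk, pow_zero])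
      · exact absurd ((dvd_pow_self 2 k.succ_ne_zero).trans (hk ▸ h2)) hOodd.not_two_dvd_nat
    let P' : Sylow 2 (G ⧸ O) := P.mapSurjective (QuotientGroup.mk'_surjective O)
    have hP'ne : (P' : Subgroup (G ⧸ O)) ≠ ⊥ := fun h => hv.2 (Subtype.ext (hker _ (hP v.2)
      (Subgroup.mem_bot.1 (h ▸ (Subgroup.mem_map_of_mem π (hP v.2) : π (v : G) ∈ (P' : Subgroup (G ⧸ O)))))))
    have hP'card : Nat.card P' ≤ 2 ^ a := by
      refine le_trans (Nat.le_of_dvd Nat.card_pos (Subgroup.card_map_dvd _ π)) ?_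
      rw [Sylow.card_eq_multiplicity]
      exact Nat.pow_le_pow_right two_pos ha
    have hmz : ∀ z ∈ (P' : Subgroup (G ⧸ O)), (∀ x ∈ (P' : Subgroup (G ⧸ O)), Commute z x) → orderOf z = 2 →
        Nat.card (Subgroup.centralizer ({z} : Set (G ⧸ O))) ≤ 2 * N := by
      rintro _ ⟨z, hz, rfl⟩ hzc hz2
      have hinj : ∀ x ∈ (P : Subgroup G), ∀ y ∈ (P : Subgroup G), π x = π y → x = y := fun x hx y hy h =>
        mul_inv_eq_one.1 (hker _ (mul_mem hx (inv_mem hy)) (by rw [map_mul, map_inv, h, mul_inv_cancel]))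
      have hzc' : ∀ x ∈ (P : Subgroup G), Commute z x := fun x hx =>
        hinj _ (mul_mem hz hx) _ (mul_mem hx hz) (by
          rw [map_mul, map_mul]; exact (hzc _ (Subgroup.mem_map_of_mem π hx)).eq)
      have hzo : orderOf z = 2 := by
        refine orderOf_eq_prime (hker _ (pow_mem hz 2) (by rw [map_pow, ← hz2, pow_orderOf_eq_one])) fun h => ?_
        rw [h, map_one, orderOf_one] at hz2
        omega
      have hcz := hclaim z hzo fun e he => hzc' e (hP he)
      set L := (Subgroup.centralizer ({π z} : Set (G ⧸ O))).comap π with hL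
      have hLc : Nat.card L = Nat.card (Subgroup.centralizer ({π z} : Set (G ⧸ O))) * Nat.card O := by
        have h1 := Subgroup.index_comap_of_surjective (Subgroup.centralizer ({π z} : Set (G ⧸ O)))
          (QuotientGroup.mk'_surjective O)
        have h2 := L.index_mul_card
        rw [hL, h1, Subgroup.card_eq_card_quotient_mul_card_subgroup O,
          ← (Subgroup.centralizer ({π z} : Set (G ⧸ O))).index_mul_card, mul_assoc] at h2
        exact Nat.eq_of_mul_eq_mul_left (Nat.pos_of_ne_zero Subgroup.index_ne_zero_of_finite) h2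
      have hLle : Nat.card L ≤ Nat.card (Subgroup.centralizer ({z} : Set G)) * Nat.card O := by
        let f : L → O := fun l => ⟨(l : G) * z * (l : G)⁻¹ * z⁻¹, by
          rw [← QuotientGroup.ker_mk' O, MonoidHom.mem_ker]
          have h2 := Subgroup.mem_centralizer_singleton_iff.1 l.2
          simp only [hπ, map_mul, map_inv] at h2 ⊢
          rw [h2]; group⟩
        have : Fintype L := Fintype.ofFinite L
        have : Fintype O := Fintype.ofFinite O
        rw [Nat.card_eq_fintype_card (α := L), Nat.card_eq_fintype_card (α := O), mul_comm]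
        refine le_of_eq_of_le (Finset.card_eq_sum_card_fiberwise (f := f) (t := Finset.univ) fun x _ => Finset.mem_univ _) ?_
        refine (Finset.sum_le_sum fun w _ => ?_).trans (le_of_eq (by rw [Finset.sum_const, Finset.card_univ, smul_eq_mul]))
        rcases (Finset.univ.filter fun l => f l = w).eq_empty_or_nonempty with h | ⟨l0, hl0⟩
        · rw [h, Finset.card_empty]; exact Nat.zero_le _
        rw [← Fintype.card_subtype, ← Nat.card_eq_fintype_card]
        refine Nat.card_le_card_of_injective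
          (fun l => (⟨(l0 : G)⁻¹ * ((l : L) : G), ?_⟩ : Subgroup.centralizer ({z} : Set G)))
          fun x y h => Subtype.ext (Subtype.ext (mul_left_cancel (congrArg Subtype.val h :)))
        have h1 : ((l : L) : G) * z * ((l : L) : G)⁻¹ = (l0 : G) * z * (l0 : G)⁻¹ :=
          mul_right_cancel (congrArg Subtype.val (l.2.trans (Finset.mem_filter.1 hl0).2.symm) :)
        refine Subgroup.mem_centralizer_singleton_iff.2 ?_
        calc (l0 : G)⁻¹ * ((l : L) : G) * z = (l0 : G)⁻¹ * (((l : L) : G) * z * ((l : L) : G)⁻¹) * ((l : L) : G) := by group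
          _ = z * ((l0 : G)⁻¹ * ((l : L) : G)) := by rw [h1]; group
      rw [hLc] at hLle
      exact (Nat.le_of_mul_le_mul_right hLle Nat.card_pos).trans hcz
    have hQ := card_core_free_le (m := 2 * N) (a := a) (HallCore.pPrimeCore_quotient_self 2 G) P' hP'ne hP'card hmz
    rw [Subgroup.card_eq_card_quotient_mul_card_subgroup O, mul_comm]
    exact Nat.mul_le_mul hO hQ

end

/-- For every natural number a there is a bound N with the following property. Let G be a finite group with Sylow 2-subgroups of order 2^a and r ≥ 0 such that G has no non-principal 2-block (relative to a maximal ideal of the algebraic integers containing 2) of defect ≥ r, and suppose a Sylow 2-subgroup of G contains an elementary abelian subgroup of order 2^(r+1). Then the order of G is at most N. -/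
theorem result (a : ℕ) : ∃ N : ℕ, ∀ (G : Type u) [Group G] [Finite G] (M : Ideal Cfsg.AlgInt) (r : ℕ) (P : Sylow 2 G), Cfsg.IsPModular 2 M → Nat.card P = 2 ^ a → (∀ B : Set (Cfsg.IrrCharacter G), Cfsg.IsPBlock M B → B ≠ Cfsg.principalBlock M G → Cfsg.blockDefect 2 B < r) → (∃ E : Subgroup G, E ≤ (P : Subgroup G) ∧ IsMulCommutative E ∧ (∀ x ∈ E, x * x = 1) ∧ Nat.card E = 2 ^ (r + 1)) → Nat.card G ≤ N := by
  obtain ⟨N, hN⟩ := Classical.skolem.1 (fun r => exists_bound.{u} r a)
  refine ⟨(Finset.range (a + 1)).sup N, fun G _ _ M r P hM hP hdef hE => ?_⟩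
  obtain ⟨E, hEP, hEc, hE2, hEcard⟩ := hE
  have : Fact (Nat.Prime 2) := ⟨Nat.prime_two⟩
  have hfac : (Nat.card G).factorization 2 = a := by
    rw [Sylow.card_eq_multiplicity] at hP
    exact Nat.pow_right_injective (le_refl 2) hP
  have hra : r ≤ a := by
    have h := Nat.le_of_dvd Nat.card_pos (Subgroup.card_dvd_of_le hEP)
    rw [hEcard, hP] at h
    have := (Nat.pow_le_pow_iff_right (le_refl 2)).1 h
    omega
  exact (hN r G M hM hfac.le hdef E (fun x hx y hy => congrArg Subtype.val (hEc.is_comm.comm ⟨x, hx⟩ ⟨y, hy⟩))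
    hE2 hEcard).trans (Finset.le_sup (Finset.mem_range.2 (Nat.lt_succ_of_le hra)))

end Cfsg.Agent.S4719
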