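import Cfsg.Statements.S4720
import Cfsg.Agent.Lib.BlockContribBounds
import Cfsg.Agent.Lib.BlockContribSection
import Cfsg.Agent.S0936

set_option autoImplicit false
open Cfsg

namespace Cfsg.Agent.S4720

section
open scoped ComplexConjugate
open Cfsg BlockTheoryLocalRing BlockTheoryCentre BlockTheoryIdem BlockContribBounds

/-- The column norm of the principal block at a `p`-element. -/
theorem column_norm {G : Type*} [Group G] [Fintype G] {p : ℕ} [Fact p.Prime] {M : Ideal AlgInt}
    (hM : IsPModular p M) {y : G} (hy : ∃ k, orderOf y = p ^ k) :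
    ∑ χ ∈ members (principalBlock M G), (χ : G → ℂ) y * conj ((χ : G → ℂ) y) =
      ((∑ᶠ ψ ∈ principalBlock M ↥(Subgroup.centralizer ({y} : Set G)),
        charDegree (ψ : ↥(Subgroup.centralizer ({y} : Set G)) → ℂ) ^ 2 : ℕ) : ℂ) := by
  classical
  set H := Subgroup.centralizer ({y} : Set G) with hHdef
  have hH : ∀ g, g ∈ H ↔ Commute y g := fun g => by
    rw [hHdef, Subgroup.mem_centralizer_singleton_iff]
    exact ⟨fun h => h.symm, fun h => h.eq.symm⟩
  have h1 : ¬ p ∣ orderOf (1 : H) := by simpa using hM.1.ne_one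
  have h := BlockContribSection.sum_block_section hH hM hy BlockPrincipal81.isPBlock_principal h1 h1
  simp only [Subgroup.coe_one, mul_one] at h
  rw [← filter_eq_members, Finset.sum_filter]
  refine h.trans ?_
  rw [finsum_eq_members, Nat.cast_sum, ← filter_eq_members, Finset.sum_filter]
  refine Finset.sum_congr rfl fun ψ _ => ?_
  refine if_congr ?_ ?_ rfl
  · obtain ⟨B', hB'⟩ := BlockContribSection.exists_induced hH hM hy (isPBlock_blockOf (M := M) ψ)
    rw [Cfsg.Agent.S0936.result p M hM H _ ⟨B', hB'⟩]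
    exact ⟨fun h => h ▸ self_mem_blockOf hM ψ,
      fun h => block_eq_of_mem hM (isPBlock_blockOf ψ) BlockPrincipal81.isPBlock_principal
        (self_mem_blockOf hM ψ) h⟩
  · rw [ClassAlgebraVal.apply_one_eq_charDegree, map_natCast, Nat.cast_pow, pow_two]

/-- Different classes of `p`-elements are orthogonal inside a block. -/
theorem column_orth {G : Type*} [Group G] [Fintype G] {p : ℕ} {M : Ideal AlgInt}
    (hM : IsPModular p M) {B : Set (IrrCharacter G)} (hB : IsPBlock M B) {y z : G}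
    (hy : ∃ k, orderOf y = p ^ k) (hz : ∃ k, orderOf z = p ^ k) (h : ¬ IsConj y z) :
    ∑ χ ∈ members B, (χ : G → ℂ) z * conj ((χ : G → ℂ) y) = 0 := by
  classical
  have hp1 : ¬ p ∣ orderOf (1 : G) := by simpa using hM.1.ne_one
  have h0 := sum_block_mul_conj_eq_zero hM hB z 1 y hz (Commute.one_right z) hp1 fun g hg hpp => ?_
  · simp only [mul_one] at h0
    rwa [← filter_eq_members, Finset.sum_filter]
  obtain ⟨c, rfl⟩ := isConj_iff.1 hg
  obtain ⟨k, hk⟩ := hy
  have h2 : IsPPart p (c * y * c⁻¹) (c * y * c⁻¹) :=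
    ⟨1, mul_one _, Commute.one_right _, ⟨k, by rw [← hk]; exact MulEquiv.orderOf_eq (MulAut.conj c) y⟩, hp1⟩
  exact h (isConj_iff.2 ⟨c, pPart_unique hM.1 h2 hpp⟩)

end

/-- Let p be a prime, M a maximal ideal of the algebraic integers containing p, P a p-subgroup of the finite group G, N a subgroup with P ≤ N ≤ N_G(P), and U a nonempty subset of P normalized by N such that an element of U and an element of P that are conjugate in G are already conjugate in N, and such that λ(C_G(y)) = w·#C_N(y) for every y ∈ U with one rational number w, where λ(X) denotes the sum of the squares of the degrees of the irreducible characters in the principal p-block of X. For a complex function θ on P and χ in the principal block of G put a_χ(θ) = #P⁻¹ Σ_{y ∈ P} χ(y) θ(y⁻¹). Then for generalized characters θ, η of P with θ vanishing outside U, Σ_χ a_χ(θ)·conj(a_χ(η)) = (w/#P²)·Σ_{y ∈ P} θ(y)·conj(Σ_{x ∈ N} η(x y x⁻¹)) (η extended by zero off P; the conjugates lie in P), the first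 sum over the principal p-block of G. -/
theorem result {G : Type*} [Group G] [Finite G] (p : ℕ) [Fact p.Prime] (M : Ideal Cfsg.AlgInt) (hM : Cfsg.IsPModular p M) (P : Subgroup G) (hP : IsPGroup p P) (N : Subgroup G) (hPN : P ≤ N) (hNN : N ≤ Subgroup.normalizer (P : Set G)) (U : Set G) (hUne : U.Nonempty) (hUP : U ⊆ (P : Set G)) (hUN : ∀ n ∈ N, ∀ u ∈ U, n * u * n⁻¹ ∈ U) (hfus : ∀ u ∈ U, ∀ g : G, g * u * g⁻¹ ∈ (P : Set G) → ∃ n ∈ N, n * u * n⁻¹ = g * u * g⁻¹) (w : ℚ) (hw : ∀ y ∈ U, ((∑ᶠ ψ ∈ Cfsg.principalBlock M ↥(Subgroup.centralizer ({y} : Set G)), Cfsg.charDegree (ψ : ↥(Subgroup.centralizer ({y} : Set G)) → ℂ) ^ 2) : ℚ) = w * Nat.card ↥(N ⊓ Subgroup.centralizer ({y} : Set G))) (θ η : ↥P → ℂ) (hθ : Cfsg.IsGeneralizedCharacter ↥P θ) (hη : Cfsg.IsGeneralizedCharacter ↥P η) (hθU : ∀ y : ↥P, (y : G) ∉ U → θ y = 0) : ∑ᶠ χ ∈ Cfsg.principalBlock M G, ((Nat.card ↥P : ℂ)⁻¹ * ∑ᶠ y : ↥P, (χ : G → ℂ) (y : G) * θ y⁻¹) * (starRingEnd ℂ) ((Nat.card ↥P : ℂ)⁻¹ * ∑ᶠ y : ↥P, (χ :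 G → ℂ) (y : G) * η y⁻¹) = ((w : ℂ) / ((Nat.card ↥P : ℂ) ^ 2)) * ∑ᶠ y : ↥P, θ y * (starRingEnd ℂ) (∑ᶠ x : ↥N, Cfsg.extendByZero P η ((x : G) * (y : G) * (x : G)⁻¹)) := by
  classical
  have := Fintype.ofFinite G
  have := Fintype.ofFinite ↥P
  have := Fintype.ofFinite ↥N
  set m := BlockContribBounds.members (Cfsg.principalBlock M G) with hm
  let f : G → G → ℂ := fun y z => ∑ χ ∈ m, (χ : G → ℂ) z * (starRingEnd ℂ) ((χ : G → ℂ) y)
  rw [BlockContribBounds.finsum_eq_members, ← hm]
  simp only [finsum_eq_sum_of_fintype]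
  have hinv : ∀ (χ : Cfsg.IrrCharacter G) (η : ↥P → ℂ),
      ∑ y : ↥P, (χ : G → ℂ) (y : G) * η y⁻¹ =
        ∑ y : ↥P, (starRingEnd ℂ) ((χ : G → ℂ) (y : G)) * η y := by
    intro χ η
    refine Fintype.sum_equiv (Equiv.inv ↥P) _ _ fun y => ?_
    simp only [Equiv.inv_apply, Subgroup.coe_inv]
    rw [← BlockTheoryCentre.irr_inv, inv_inv]
  have hmain : ∀ y : ↥P, θ y * ∑ z : ↥P, (starRingEnd ℂ) (η z) * f (y : G) (z : G) =
      θ y * ((w : ℂ) * (starRingEnd ℂ) (∑ x : ↥N, Cfsg.extendByZero P η ((x : G) * (y : G) * (x : G)⁻¹))) := by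
    intro y
    by_cases hyU : (y : G) ∈ U
    swap
    · rw [hθU y hyU, zero_mul, zero_mul]
    congr 1
    have hy : ∃ k, orderOf (y : G) = p ^ k := by
      rw [Subgroup.orderOf_coe]; exact (IsPGroup.iff_orderOf.1 hP) y
    let φ : ↥N → ↥P := fun x => ⟨(x : G) * y * (x : G)⁻¹, (Subgroup.mem_normalizer_iff.1 (hNN x.2) _).1 y.2⟩
    have hφ : ∀ x : ↥N, Cfsg.extendByZero P η ((x : G) * (y : G) * (x : G)⁻¹) = η (φ x) := fun x =>
      Subtype.val_injective.extend_apply η 0 (φ x)
    simp only [hφ, map_sum, Finset.mul_sum]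
    rw [← Finset.sum_fiberwise (Finset.univ : Finset ↥N) φ fun x => (w : ℂ) * (starRingEnd ℂ) (η (φ x))]
    refine Finset.sum_congr rfl fun z _ => ?_
    rw [Finset.sum_congr rfl (g := fun _ => (w : ℂ) * (starRingEnd ℂ) (η z))
      fun x hx => by rw [(Finset.mem_filter.1 hx).2], Finset.sum_const, nsmul_eq_mul]
    by_cases hne : ∃ x0 : ↥N, φ x0 = z
    · obtain ⟨x0, rfl⟩ := hne
      have hcard : (Finset.univ.filter fun x : ↥N => φ x = φ x0).card =
          Nat.card ↥(N ⊓ Subgroup.centralizer ({(y : G)} : Set G)) := by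
        rw [← Fintype.card_subtype, ← Nat.card_eq_fintype_card]
        refine Nat.card_congr
          { toFun := fun x => ⟨(x0 : G)⁻¹ * ((x : ↥N) : G), N.mul_mem (N.inv_mem x0.2) (x : ↥N).2, ?_⟩
            invFun := fun c => ⟨x0 * ⟨(c : G), c.2.1⟩, ?_⟩
            left_inv := fun x => Subtype.ext (Subtype.ext (mul_inv_cancel_left _ _))
            right_inv := fun c => Subtype.ext (inv_mul_cancel_left _ _) }
        · have h : ((x : ↥N) : G) * y * ((x : ↥N) : G)⁻¹ = (x0 : G) * y * (x0 : G)⁻¹ :=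
            congrArg Subtype.val x.2
          refine Subgroup.mem_centralizer_singleton_iff.2 ?_
          calc (x0 : G)⁻¹ * ((x : ↥N) : G) * y = (x0 : G)⁻¹ * (((x : ↥N) : G) * y * ((x : ↥N) : G)⁻¹) * ((x : ↥N) : G) := by group
            _ = y * ((x0 : G)⁻¹ * ((x : ↥N) : G)) := by rw [h]; group
        · have hc := Subgroup.mem_centralizer_singleton_iff.1 c.2.2
          refine Subtype.ext ?_
          show (x0 : G) * (c : G) * y * ((x0 : G) * (c : G))⁻¹ = (x0 : G) * y * (x0 : G)⁻¹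
          calc (x0 : G) * (c : G) * y * ((x0 : G) * (c : G))⁻¹ = (x0 : G) * ((c : G) * y) * (c : G)⁻¹ * (x0 : G)⁻¹ := by group
            _ = _ := by rw [hc]; group
      rw [hcard]
      have hfz : f (y : G) (φ x0 : G) =
          (w : ℂ) * (Nat.card ↥(N ⊓ Subgroup.centralizer ({(y : G)} : Set G)) : ℂ) := by
        have h1 : f (y : G) (φ x0 : G) = f (y : G) (y : G) := by
          refine Finset.sum_congr rfl fun χ _ => ?_
          congr 1
          exact BlockTheoryCentre.irr_classFun χ (y : G) (x0 : G)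
        rw [h1]
        refine (column_norm hM hy).trans ?_
        have h3 := hw _ hyU
        rw [BlockContribBounds.finsum_eq_members] at h3 ⊢
        have h4 := congrArg (fun q : ℚ => (q : ℂ)) h3
        push_cast at h4 ⊢
        exact h4
      rw [hfz]; ring
    · rw [Finset.card_eq_zero.2 (Finset.filter_eq_empty_iff.2 fun x _ h => hne ⟨x, h⟩)]
      have hz0 : f (y : G) (z : G) = 0 := by
        refine column_orth hM BlockPrincipal81.isPBlock_principal hy
          (by rw [Subgroup.orderOf_coe]; exact (IsPGroup.iff_orderOf.1 hP) z) fun hc => hne ?_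
        obtain ⟨g, hg⟩ := isConj_iff.1 hc
        obtain ⟨x, hx, hxz⟩ := hfus _ hyU g (hg ▸ z.2)
        exact ⟨⟨x, hx⟩, Subtype.ext (hxz.trans hg)⟩
      rw [hz0]; simp
  calc _ = ((Nat.card ↥P : ℂ)⁻¹) ^ 2 * ∑ y : ↥P, θ y *
        ∑ z : ↥P, (starRingEnd ℂ) (η z) * f (y : G) (z : G) := by
        simp only [hinv, map_mul, map_inv₀, map_natCast, map_sum, Complex.conj_conj, f, Finset.mul_sum,
          Finset.sum_mul]
        rw [Finset.sum_comm]
        refine (Finset.sum_congr rfl fun z _ => Finset.sum_comm).trans ?_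
        rw [Finset.sum_comm]
        exact Finset.sum_congr rfl fun y _ => Finset.sum_congr rfl fun z _ =>
          Finset.sum_congr rfl fun χ _ => by ring
    _ = _ := by
        rw [Finset.sum_congr rfl fun y _ => hmain y, Finset.mul_sum, Finset.mul_sum]
        exact Finset.sum_congr rfl fun y _ => by ring

end Cfsg.Agent.S4720
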