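import Cfsg.Statements.S4721
import Cfsg.Agent.Lib.BlockIndexThreeMain86
-- import your own Cfsg.Agent.* helpers here

set_option autoImplicit false
open Cfsg

namespace Cfsg.Agent.S4721

/-- Let p be a prime, M a maximal ideal of the algebraic integers containing p, and G a finite group with a nontrivial abelian Sylow p-subgroup P, N = N_G(P), C = C_G(P), such that N/C is cyclic of order 3, #P > 4, and C_G(y) ∩ N = C for every non-identity y ∈ P. Then the principal p-block is the disjoint union of a set X of exactly 3 characters containing the principal character and a set Y of (#P − 1)/3 characters, with signs a_χ = ±1 (χ ∈ X, a = 1 at the principal character) and δ = ±1 such that every χ ∈ X takes the value a_χ at every element whose p-part is a non-identity element of P, and there is a map ζ from the non-principal linear characters of P onto Y, constant on N-conjugacy classes, with ζ_ψ(z) = δ·Σ ψ'(y) over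 the N-orbit of ψ, for z with p-part y ≠ 1 in P. If moreover G has an involution lying in no proper normal subgroup of G, then exactly two of the three numbers −δ and a_χ (χ ∈ X non-principal) equal −1, and the product of the degrees of the two non-principal members of X and of any member of Y is a perfect square. -/
theorem result {G : Type*} [Group G] [Finite G] (p : ℕ) [Fact p.Prime] (M : Ideal Cfsg.AlgInt) (hM : Cfsg.IsPModular p M) (P : Sylow p G) (hab : IsMulCommutative P) (hP1 : Nat.card P ≠ 1) (hCN : (Subgroup.centralizer ((P : Subgroup G) : Set G)).relIndex (Subgroup.normalizer ((P : Subgroup G) : Set G)) = 3) (hcyc : ∃ g : G, g ∈ Subgroup.normalizer ((P : Subgroup G) : Set G) ∧ Subgroup.centralizer ((P : Subgroup G) : Set G) ⊔ Subgroup.zpowers g = Subgroup.normalizer ((P : Subgroup G) : Set G)) (hm2 : 3 + 1 < Nat.card P) (hfrob : ∀ y : G, y ∈ (P : Subgroup G) → y ≠ 1 → Subgroup.centralizer ({y} : Set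 G) ⊓ Subgroup.normalizer ((P : Subgroup G) : Set G) = Subgroup.centralizer ((P : Subgroup G) : Set G)) : ∃ (X Y : Set (Cfsg.IrrCharacter G)), Cfsg.principalBlock M G = X ∪ Y ∧ Disjoint X Y ∧ Nat.card X = 3 ∧ Nat.card Y = (Nat.card P - 1) / 3 ∧ (∃ χ₁ ∈ X, (χ₁ : G → ℂ) = fun _ => 1) ∧ ∃ (a : Cfsg.IrrCharacter G → ℤ) (δ : ℤ) (ζ : (↥(P : Subgroup G) →* ℂˣ) → Cfsg.IrrCharacter G), (δ = 1 ∨ δ = -1) ∧ (∀ χ ∈ X, (a χ = 1 ∨ a χ = -1) ∧ ∀ z y : G, Cfsg.IsPPart p z y → y ∈ (P : Subgroup G) → y ≠ 1 → (χ : G → ℂ) z = (a χ : ℂ)) ∧ (∀ ψ : ↥(P : Subgroup G) →* ℂˣ, ψ ≠ 1 → ζ ψ ∈ Y) ∧ (∀ η ∈ Y, ∃ ψ : ↥(P : Subgroup G) →* ℂˣ, ψ ≠ 1 ∧ ζ ψ = η) ∧ (∀ ψ ψ' : ↥(P : Subgroup G) →* ℂˣ, ψ ≠ 1 → (∃ n : G, n ∈ Subgroup.normalizer ((P : Subgroup G) : Set G) ∧ ∀ w w' : ↥(P : Subgroup G), (w' : G) = n * w * n⁻¹ → ψ' w' = ψ w) → ζ ψ' = ζ ψ) ∧ (∀ ψ : ↥(P : Subgroup G) →* ℂˣ, ψ ≠ 1 → ∀ (z : G) (y : ↥(P : Subgroup G)), Cfsg.IsPPart p z (y : G)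 → (y : G) ≠ 1 → (ζ ψ : G → ℂ) z = (δ : ℂ) * ∑ᶠ ψ' ∈ {ψ' : ↥(P : Subgroup G) →* ℂˣ | ∃ n : G, n ∈ Subgroup.normalizer ((P : Subgroup G) : Set G) ∧ ∀ w w' : ↥(P : Subgroup G), (w' : G) = n * w * n⁻¹ → ψ' w' = ψ w}, ((ψ' y : ℂˣ) : ℂ)) ∧ ((∃ t : G, orderOf t = 2 ∧ ∀ K : Subgroup G, K.Normal → t ∈ K → K = ⊤) → Nat.card {χ : Cfsg.IrrCharacter G // χ ∈ X ∧ (χ : G → ℂ) ≠ (fun _ => 1) ∧ a χ = -1} + (if δ = 1 then 1 else 0) = 2 ∧ ∀ η ∈ Y, IsSquare (Cfsg.charDegree (η : G → ℂ) * ∏ᶠ χ ∈ {χ : Cfsg.IrrCharacter G | χ ∈ X ∧ (χ : G → ℂ) ≠ fun _ => 1}, Cfsg.charDegree (χ : G → ℂ))) := by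
  classical
  haveI : Fintype G := Fintype.ofFinite G
  haveI : Fintype ↥(P : Subgroup G) := Fintype.ofFinite _
  haveI : Fintype (↥(P : Subgroup G) →* ℂˣ) := Fintype.ofFinite _
  have _ := hP1
  have _ := hcyc
  obtain ⟨X, Y, a, δ, ζ, hN⟩ := BlockIndexThree86.exists_normal_form hab hfrob hCN hM hm2
  have hone : ∀ χ : IrrCharacter G, (χ : G → ℂ) = (fun _ => 1) ↔ χ = Cfsg.Agent.BlockPrincipal81.oneChar G :=
    fun χ => ⟨fun h => Subtype.ext h, fun h => h ▸ rfl⟩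
  have hr : (Nat.card (P : Subgroup G) - 1) / 3 = Y.card := by
    rw [← hN.cardY]; omega
  refine ⟨(X : Set (IrrCharacter G)), (Y : Set (IrrCharacter G)), ?_, by exact_mod_cast hN.disj,
    by simp [hN.cardX], by rw [hr]; simp, ⟨_, hN.one_mem, rfl⟩, a, δ, ζ, hN.sign, ?_, hN.maps, hN.surj, ?_, ?_, ?_⟩
  · ext χ; simp [hN.block]
  · intro χ hχ
    refine ⟨(hN.valX χ hχ).1, fun z y hzy hy hy1 => ?_⟩
    rw [BlockAbelianSylow86.apply_eq hab hfrob hM hzy hy hy1 ((hN.block χ).2 (Or.inl hχ))]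
    exact (hN.valX χ hχ).2 ⟨y, hy⟩ fun h => hy1 (congrArg Subtype.val h)
  · intro ψ ψ' hψ h
    have hso := (BlockAbelianSylow86.conj_set_iff ψ ψ').1 h
    exact (hN.inj ψ' (BlockAbelianSylow86.sameOrbit_one (BlockAbelianSylow86.sameOrbit_symm hso) hψ) ψ hψ).2 hso
  · intro ψ hψ z y hzy hy1
    rw [BlockAbelianSylow86.apply_eq hab hfrob hM hzy y.2 hy1 ((hN.block _).2 (Or.inr (hN.maps ψ hψ))),
      hN.valY ψ hψ y (fun h => hy1 (by rw [h]; rfl)), BlockAbelianSylow86.finsum_orbit]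
  · rintro ⟨t, ht, hgen⟩
    obtain ⟨h1, h2⟩ := BlockIndexThree86.involution_case hab hfrob hCN hM hN hm2 ht hgen
    constructor
    · rw [← h1]
      congr 1
      rw [Nat.subtype_card]
      intro χ
      simp [Finset.mem_filter, Finset.mem_erase, hone, and_comm, and_left_comm, and_assoc]
    · intro η hη
      have hset : {χ : Cfsg.IrrCharacter G | χ ∈ (X : Set (IrrCharacter G)) ∧ (χ : G → ℂ) ≠ fun _ => 1} =
          ((X.erase (Cfsg.Agent.BlockPrincipal81.oneChar G) : Finset (IrrCharacter G)) : Set (IrrCharacter G)) := by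
        ext χ; simp [hone, and_comm]
      rw [hset, finprod_mem_coe_finset]
      exact h2 η hη

end Cfsg.Agent.S4721
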