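import Cfsg.Statements.S4722
import Cfsg.Agent.Lib.BlockContribBounds
import Cfsg.Agent.Lib.BlockPrincipal81
import Cfsg.Agent.Lib.ZStarPrincipal

set_option autoImplicit false
open Cfsg

namespace Cfsg.Agent.S4722

section
open scoped ComplexConjugate
open Cfsg BlockTheoryLocalRing BlockTheoryCentre BlockTheoryIdem BlockContribBounds BlockPrincipal81 CharBasic

theorem sign_argument {ι : Type*} (m : Finset ι) (w d x : ι → ℝ) (hd : ∀ i ∈ m, 0 < d i)
    (h0 : ∑ i ∈ m, w i * x i ^ 2 / d i = 0) (h1 : ∑ i ∈ m, w i * d i = 0)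
    (h2 : ∑ i ∈ m, w i * x i = 0) {i0 : ι} (hi0 : i0 ∈ m) (hw0 : w i0 ≠ 0) (hx0 : x i0 = d i0)
    (huniq : ∀ i ∈ m, ∀ j ∈ m, 0 < w i → 0 < w j → i = j) :
    ∃ i ∈ m, i ≠ i0 ∧ x i = d i := by
  classical
  obtain ⟨j, hj, hwj⟩ : ∃ j ∈ m, 0 < w j := by
    by_contra h
    push Not at h
    have := (Finset.sum_eq_zero_iff_of_nonpos fun i hi =>
      mul_nonpos_of_nonpos_of_nonneg (h i hi) (hd i hi).le).1 h1 i0 hi0
    exact mul_ne_zero hw0 (hd i0 hi0).ne' this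
  set r := x j / d j with hr
  have hsum : ∑ i ∈ m, w i * d i * (x i / d i - r) ^ 2 = 0 := by
    rw [Finset.sum_congr rfl fun i hi => show w i * d i * (x i / d i - r) ^ 2 =
      w i * x i ^ 2 / d i - 2 * r * (w i * x i) + r ^ 2 * (w i * d i) by
        have := (hd i hi).ne'
        field_simp
        ring]
    rw [Finset.sum_add_distrib, Finset.sum_sub_distrib, ← Finset.mul_sum, ← Finset.mul_sum, h0, h1, h2]
    ring
  have hle : ∀ i ∈ m, w i * d i * (x i / d i - r) ^ 2 ≤ 0 := by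
    intro i hi
    by_cases hpos : 0 < w i
    · rw [huniq i hi j hj hpos hwj, hr, sub_self]; simp
    · exact mul_nonpos_of_nonpos_of_nonneg
        (mul_nonpos_of_nonpos_of_nonneg (not_lt.1 hpos) (hd i hi).le) (sq_nonneg _)
  have hall : ∀ i ∈ m, w i ≠ 0 → x i / d i = r := by
    intro i hi hwi
    rcases mul_eq_zero.1 ((Finset.sum_eq_zero_iff_of_nonpos hle).1 hsum i hi) with h | h
    · exact absurd h (mul_ne_zero hwi (hd i hi).ne')
    · exact sub_eq_zero.1 (pow_eq_zero_iff (two_ne_zero (α := ℕ)) |>.1 h)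
  have hr1 : r = 1 := by rw [← hall i0 hi0 hw0, hx0, div_self (hd i0 hi0).ne']
  obtain ⟨i, hi, hne, hwi⟩ : ∃ i ∈ m, i ≠ i0 ∧ w i ≠ 0 := by
    by_contra h
    push Not at h
    rw [Finset.sum_eq_single i0 (fun i hi hne => by rw [h i hi hne, zero_mul]) (fun h' => absurd hi0 h')] at h1
    exact mul_ne_zero hw0 (hd i0 hi0).ne' h1
  refine ⟨i, hi, hne, ?_⟩
  have := hall i hi hwi
  rwa [hr1, div_eq_one_iff_eq (hd i hi).ne'] at this

theorem exists_inverting {G : Type*} [Group G] [Fintype G] {t g : G} (ht : t * t = 1)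
    (h : (classSum t * classSum t).coeff g ≠ 0) : ∃ a, IsConj t a ∧ a * g * a⁻¹ = g⁻¹ := by
  rw [coeff_mul_eq] at h
  obtain ⟨y, -, hy⟩ := Finset.exists_ne_zero_of_sum_ne_zero h
  simp only [classSum, coeff_ofFun, ne_eq, mul_eq_zero, not_or, ite_eq_right_iff, one_ne_zero,
    imp_false, not_not] at hy
  refine ⟨y, hy.1, ?_⟩
  have hsq : ∀ a, IsConj t a → a * a = 1 := by
    intro a ha
    obtain ⟨c, rfl⟩ := isConj_iff.1 ha
    calc c * t * c⁻¹ * (c * t * c⁻¹) = c * (t * t) * c⁻¹ := by group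
      _ = 1 := by rw [ht]; group
  have h1 := hsq y hy.1
  have h2 := hsq _ hy.2
  have hyinv : y⁻¹ = y := inv_eq_of_mul_eq_one_right h1
  have h3 : g * y⁻¹ * g = y := by
    calc g * y⁻¹ * g = y * (y⁻¹ * g * (y⁻¹ * g)) := by group
      _ = y := by rw [h2, mul_one]
  refine eq_inv_of_mul_eq_one_left ?_
  calc y * g * y⁻¹ * g = y * (g * y⁻¹ * g) := by group
    _ = 1 := by rw [h3, h1]

theorem block_sum_eq_zero {G : Type*} [Group G] [Fintype G] {p : ℕ} {M : Ideal AlgInt}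
    (hM : IsPModular p M) {B : Set (IrrCharacter G)} (hB : IsPBlock M B) {t u g : G}
    (hu : ∃ k, orderOf u = p ^ k) (hinv : ∀ a, IsConj t a → a * u * a⁻¹ ≠ u⁻¹)
    (hg : ∃ a, IsConj t a ∧ a * g * a⁻¹ = g⁻¹) :
    ∑ χ ∈ members B, (χ : G → ℂ) g * conj ((χ : G → ℂ) u) = 0 := by
  classical
  obtain ⟨a, hta, hag⟩ := hg
  have hp1 : ¬ p ∣ orderOf (1 : G) := by simpa using hM.1.ne_one
  have h := sum_block_mul_conj_eq_zero hM hB u 1 g hu (Commute.one_right u) hp1 ?_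
  · have h' := congrArg conj h
    rw [map_sum, map_zero] at h'
    refine Eq.trans ?_ h'
    rw [← filter_eq_members B, Finset.sum_filter]
    refine Finset.sum_congr rfl fun χ _ => ?_
    split_ifs
    · rw [map_mul, Complex.conj_conj, mul_one, mul_comm]
    · rw [map_zero]
  intro g' hgg' hpp
  obtain ⟨c, rfl⟩ := isConj_iff.1 hgg'
  refine hinv (c * a * c⁻¹) (hta.trans (isConj_iff.2 ⟨c, rfl⟩)) ?_
  obtain ⟨y, hy, hcom, ⟨k, hk⟩, hreg⟩ := hpp
  set b := c * a * c⁻¹ with hb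
  have h1 : IsPPart p (c * g * c⁻¹)⁻¹ u⁻¹ :=
    ⟨y⁻¹, by rw [← hy, mul_inv_rev]; exact (hcom.inv_inv).eq, hcom.inv_inv,
      ⟨k, by rw [orderOf_inv, hk]⟩, by rwa [orderOf_inv]⟩
  have ho : ∀ z : G, orderOf (b * z * b⁻¹) = orderOf z := fun z =>
    orderOf_injective (MulAut.conj b).toMonoidHom (MulAut.conj b).injective z
  have h2 : IsPPart p (c * g * c⁻¹)⁻¹ (b * u * b⁻¹) := by
    refine ⟨b * y * b⁻¹, ?_, ?_, ⟨k, by rw [ho, hk]⟩, by rwa [ho]⟩
    · calc b * u * b⁻¹ * (b * y * b⁻¹) = b * (u * y) * b⁻¹ := by group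
        _ = c * (a * g * a⁻¹) * c⁻¹ := by rw [hy, hb]; group
        _ = (c * g * c⁻¹)⁻¹ := by rw [hag]; group
    · exact hcom.map (MulAut.conj b).toMonoidHom
  exact pPart_unique hM.1 h2 h1

end

/-- Let M be a maximal ideal of the algebraic integers containing 2, P a 2-subgroup of the finite group G, U a subset of P, and t an involution of G such that no element of U is inverted by any conjugate of t. Let θ be a generalized character of P vanishing outside U, and for χ in the principal 2-block B₀ put a_χ = #P⁻¹ Σ_{y ∈ P} χ(y) θ(y⁻¹). Then Σ_{χ ∈ B₀} a_χ χ(t)^2/χ(1) = 0, Σ_{χ ∈ B₀} a_χ χ(1) = 0 and Σ_{χ ∈ B₀} a_χ χ(t) = 0. If moreover #P⁻¹ Σ_{y ∈ P} θ(y) ≠ 0, then either at least two of the a_χ have positive real part and at least two have negative real part, or G has a proper normal subgroup containing O_2'(G) and t. -/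
theorem result {G : Type*} [Group G] [Finite G] (M : Ideal Cfsg.AlgInt) (hM : Cfsg.IsPModular 2 M) (P : Subgroup G) (hP : IsPGroup 2 P) (U : Set G) (hUP : U ⊆ (P : Set G)) (t : G) (ht : orderOf t = 2) (hinv : ∀ u ∈ U, ∀ g : G, (g * t * g⁻¹) * u * (g * t * g⁻¹)⁻¹ ≠ u⁻¹) (θ : ↥P → ℂ) (hθ : Cfsg.IsGeneralizedCharacter ↥P θ) (hθU : ∀ y : ↥P, (y : G) ∉ U → θ y = 0) : (∑ᶠ χ ∈ Cfsg.principalBlock M G, ((Nat.card ↥P : ℂ)⁻¹ * ∑ᶠ y : ↥P, (χ : G → ℂ) (y : G) * θ y⁻¹) * (χ : G → ℂ) t ^ 2 / (χ : G → ℂ) 1 = 0) ∧ (∑ᶠ χ ∈ Cfsg.principalBlock M G, ((Nat.card ↥P : ℂ)⁻¹ * ∑ᶠ y : ↥P, (χ : G → ℂ) (y : G) * θ y⁻¹) * (χ : G → ℂ) 1 = 0) ∧ (∑ᶠ χ ∈ Cfsg.principalBlock M G, ((Nat.card ↥P : ℂ)⁻¹ * ∑ᶠ y : ↥P, (χ : G → ℂ) (y : G) * θ y⁻¹) * (χ : G → ℂ) t = 0) ∧ ((Nat.card ↥P : ℂ)⁻¹ * ∑ᶠ y : ↥P, θ y ≠ 0 → (2 ≤ Nat.card {χ : Cfsg.IrrCharacter G // χ ∈ Cfsg.principalBlock M G ∧ 0 < (((Nat.card ↥P : ℂ)⁻¹ * ∑ᶠ y : ↥P, (χ : G → ℂ) (y : G) * θ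 y⁻¹)).re} ∧ 2 ≤ Nat.card {χ : Cfsg.IrrCharacter G // χ ∈ Cfsg.principalBlock M G ∧ (((Nat.card ↥P : ℂ)⁻¹ * ∑ᶠ y : ↥P, (χ : G → ℂ) (y : G) * θ y⁻¹)).re < 0}) ∨ ∃ K : Subgroup G, K.Normal ∧ K ≠ ⊤ ∧ Cfsg.pPrimeCore 2 G ≤ K ∧ t ∈ K) := by
  classical
  have := Fintype.ofFinite G
  have := Fintype.ofFinite ↥P
  have htt : t * t = 1 := by rw [← pow_two, ← ht, pow_orderOf_eq_one]
  have hB : Cfsg.IsPBlock M (Cfsg.principalBlock M G) := BlockPrincipal81.isPBlock_principal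
  set m := BlockContribBounds.members (Cfsg.principalBlock M G) with hm
  set A : Cfsg.IrrCharacter G → ℂ := fun χ =>
    (Nat.card ↥P : ℂ)⁻¹ * ∑ y : ↥P, (χ : G → ℂ) (y : G) * θ y⁻¹ with hA
  have hAf : ∀ χ : Cfsg.IrrCharacter G,
      (Nat.card ↥P : ℂ)⁻¹ * ∑ᶠ y : ↥P, (χ : G → ℂ) (y : G) * θ y⁻¹ = A χ := fun χ => by
    rw [finsum_eq_sum_of_fintype]
  simp only [hAf, BlockContribBounds.finsum_eq_members, ← hm]
  have key : ∀ g : G, (∃ a, IsConj t a ∧ a * g * a⁻¹ = g⁻¹) → ∑ χ ∈ m, A χ * (χ : G → ℂ) g = 0 := by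
    intro g hg
    simp only [hA, mul_assoc, ← Finset.mul_sum, Finset.sum_mul]
    rw [Finset.sum_comm]
    refine mul_eq_zero_of_right _ (Finset.sum_eq_zero fun y _ => ?_)
    by_cases hy : ((y⁻¹ : ↥P) : G) ∈ U
    · obtain ⟨k, hk⟩ := (IsPGroup.iff_orderOf.1 hP) y⁻¹
      have hz := block_sum_eq_zero hM hB (t := t) ⟨k, by rw [Subgroup.orderOf_coe]; exact hk⟩
        (fun a ha => by obtain ⟨c, rfl⟩ := isConj_iff.1 ha; exact hinv _ hy c) hg
      calc _ = θ y⁻¹ * ∑ χ ∈ m, (χ : G → ℂ) g * (starRingEnd ℂ) ((χ : G → ℂ) ((y⁻¹ : ↥P) : G)) := by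
            rw [Finset.mul_sum]
            refine Finset.sum_congr rfl fun χ _ => ?_
            rw [← BlockTheoryCentre.irr_inv, Subgroup.coe_inv, inv_inv]; ring
        _ = 0 := by rw [hz, mul_zero]
    · simp [hθU _ hy]
  have e1 := key 1 ⟨t, IsConj.refl t, by group⟩
  have e2 := key t ⟨t, IsConj.refl t, by
    rw [mul_inv_cancel_right]; exact (inv_eq_of_mul_eq_one_right htt).symm⟩
  have e0 : ∑ χ ∈ m, A χ * (χ : G → ℂ) t ^ 2 / (χ : G → ℂ) 1 = 0 := by
    set z := BlockTheoryCentre.classSum t with hz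
    have hi : (((Subgroup.centralizer ({t} : Set G)).index : ℂ)) ^ 2 ≠ 0 :=
      pow_ne_zero 2 (Nat.cast_ne_zero.2 Subgroup.index_ne_zero_of_finite)
    refine mul_left_cancel₀ hi ?_
    rw [mul_zero, Finset.mul_sum]
    calc _ = ∑ χ ∈ m, A χ * ∑ g : G, (z * z).coeff g * (χ : G → ℂ) g := by
          refine Finset.sum_congr rfl fun χ _ => ?_
          rw [← BlockTheoryCentre.chiSum_apply, BlockTheoryCentre.chiSum_mul χ (BlockTheoryCentre.isCen_classSum t),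
            BlockTheoryCentre.omega_apply, BlockTheoryCentre.chiSum_classSum (BlockTheoryCentre.irr_classFun χ)]
          ring
      _ = ∑ g : G, (z * z).coeff g * ∑ χ ∈ m, A χ * (χ : G → ℂ) g := by
          simp only [Finset.mul_sum]
          rw [Finset.sum_comm]
          exact Finset.sum_congr rfl fun g _ => Finset.sum_congr rfl fun χ _ => by ring
      _ = 0 := Finset.sum_eq_zero fun g _ => by
          by_cases hg : (z * z).coeff g = 0
          · rw [hg, zero_mul]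
          · rw [key g (exists_inverting htt hg), mul_zero]
  refine ⟨e0, e1, e2, fun hne => ?_⟩
  have hint : ∀ χ : Cfsg.IrrCharacter G, ∃ n : ℤ, A χ = n := by
    intro χ
    obtain ⟨n, hn⟩ := CharBasicDecomp.classInner_isGeneralizedCharacter
      (CharBasicDecomp.isGeneralizedCharacter_comap P.subtype
        (CharBasicDecomp.isGeneralizedCharacter_of_isCharacter
          (CharBasic.isCharacter_of_isIrrCharacter χ.2))) hθ
    refine ⟨n, Eq.trans ?_ hn⟩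
    simp only [hA, Cfsg.classInner]
    congr 1
    refine Finset.sum_congr rfl fun y _ => ?_
    obtain ⟨a, b, ha, hb, rfl⟩ := hθ
    simp [CharBasic.isCharacter_inv ha y, CharBasic.isCharacter_inv hb y]
  choose n hn using hint
  have h1B : BlockPrincipal81.oneChar G ∈ m :=
    BlockContribBounds.mem_members.2 (BlockPrincipal81.oneChar_mem hM)
  have hn0 : n (BlockPrincipal81.oneChar G) ≠ 0 := by
    intro h
    apply hne
    have := hn (BlockPrincipal81.oneChar G)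
    rw [h, Int.cast_zero] at this
    rw [finsum_eq_sum_of_fintype, ← this]
    simp only [hA, BlockPrincipal81.oneChar, one_mul]
    congr 1
    exact (Equiv.sum_comp (Equiv.inv ↥P) θ).symm
  choose D hDpos hD1 using fun χ : Cfsg.IrrCharacter G =>
    (⟨Cfsg.charDegree (χ : G → ℂ), ClassAlgebraVal.charDegree_pos χ, ClassAlgebraVal.apply_one_eq_charDegree χ⟩ :
      ∃ d : ℕ, 0 < d ∧ (χ : G → ℂ) 1 = d)
  have hxre : ∀ χ : Cfsg.IrrCharacter G, (χ : G → ℂ) t = ((((χ : G → ℂ) t).re : ℝ) : ℂ) := fun χ =>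
    (Complex.conj_eq_iff_re.1 (by rw [← BlockTheoryCentre.irr_inv, inv_eq_of_mul_eq_one_right htt])).symm
  set x : Cfsg.IrrCharacter G → ℝ := fun χ => ((χ : G → ℂ) t).re with hx
  simp only [hn, hD1] at e1
  simp only [hn] at e2
  simp only [hn, hD1] at e0
  rw [Finset.sum_congr rfl fun χ _ => by rw [hxre χ]] at e2
  rw [Finset.sum_congr rfl fun χ _ => by rw [hxre χ]] at e0
  have r0 : ∑ χ ∈ m, (n χ : ℝ) * x χ ^ 2 / (D χ : ℝ) = 0 := by exact_mod_cast e0
  have r1 : ∑ χ ∈ m, (n χ : ℝ) * (D χ : ℝ) = 0 := by exact_mod_cast e1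
  have r2 : ∑ χ ∈ m, (n χ : ℝ) * x χ = 0 := by exact_mod_cast e2
  have hone : x (BlockPrincipal81.oneChar G) = (D (BlockPrincipal81.oneChar G) : ℝ) := by
    have := congrArg Complex.re (hD1 (BlockPrincipal81.oneChar G))
    simpa [hx, BlockPrincipal81.oneChar] using this
  by_contra hcon
  rw [not_or, not_and_or] at hcon
  obtain ⟨hsign, hK⟩ := hcon
  obtain ⟨χ, hχm, hχ1, hχt⟩ : ∃ χ ∈ m, χ ≠ BlockPrincipal81.oneChar G ∧ x χ = (D χ : ℝ) := by
    rcases hsign with hs | hs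
    · refine sign_argument m (fun χ => (n χ : ℝ)) (fun χ => (D χ : ℝ)) x (fun χ _ => Nat.cast_pos.2 (hDpos χ))
        r0 r1 r2 h1B (Int.cast_ne_zero.2 hn0) hone fun i hi j hj wi wj => ?_
      have hsub := Finite.card_le_one_iff_subsingleton.1 (Nat.le_of_lt_succ (not_le.1 hs))
      exact congrArg Subtype.val (hsub.elim
        ⟨i, BlockContribBounds.mem_members.1 hi, by simpa [hn] using wi⟩
        ⟨j, BlockContribBounds.mem_members.1 hj, by simpa [hn] using wj⟩)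
    · refine sign_argument m (fun χ => -(n χ : ℝ)) (fun χ => (D χ : ℝ)) x (fun χ _ => Nat.cast_pos.2 (hDpos χ))
        ?_ ?_ ?_ h1B (neg_ne_zero.2 (Int.cast_ne_zero.2 hn0)) hone fun i hi j hj wi wj => ?_
      · simp only [neg_mul, neg_div, Finset.sum_neg_distrib, r0, neg_zero]
      · simp only [neg_mul, Finset.sum_neg_distrib, r1, neg_zero]
      · simp only [neg_mul, Finset.sum_neg_distrib, r2, neg_zero]
      have hsub := Finite.card_le_one_iff_subsingleton.1 (Nat.le_of_lt_succ (not_le.1 hs))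
      exact congrArg Subtype.val (hsub.elim
        ⟨i, BlockContribBounds.mem_members.1 hi, by simpa [hn] using wi⟩
        ⟨j, BlockContribBounds.mem_members.1 hj, by simpa [hn] using wj⟩)
  obtain ⟨N, ρ, hirr, hρ⟩ := χ.2
  have hker : ∀ g : G, g ∈ ρ.ker ↔ (χ : G → ℂ) g = (χ : G → ℂ) 1 := fun g => by
    rw [MonoidHom.mem_ker, ← BlockPrincipal81.apply_eq_one_iff_ker ρ g, hρ]
  refine hK ⟨ρ.ker, inferInstance, fun htop => ?_, fun v hv => ?_, ?_⟩
  · have hconst : ∀ g : G, (χ : G → ℂ) g = (χ : G → ℂ) 1 := fun g => (hker g).1 (htop ▸ Subgroup.mem_top g)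
    have horth := CharBasicOrth.classInner_irr_ne χ.2 (BlockPrincipal81.oneChar G).2
      (fun h => hχ1 (Subtype.ext h))
    simp only [Cfsg.classInner, BlockPrincipal81.oneChar, map_one, mul_one, hconst, Finset.sum_const,
      Finset.card_univ, nsmul_eq_mul, ← Nat.card_eq_fintype_card] at horth
    rw [← mul_assoc, inv_mul_cancel₀ (Nat.cast_ne_zero.2 Nat.card_pos.ne'), one_mul] at horth
    exact BlockTheoryCentre.irr_one_ne_zero χ horth
  · rw [hker]
    have : Fact (Nat.Prime 2) := ⟨Nat.prime_two⟩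
    have := ZStarPrincipal.apply_eq_of_mem hM (u := (1 : G)) ⟨0, by simp⟩
      (K := Cfsg.pPrimeCore 2 G) (fun k _ => Commute.one_left k) (HallCore.not_dvd_card_pPrimeCore 2 G)
      (fun g _ k hk => (HallCore.pPrimeCore_normal 2 G).conj_mem k hk g)
      (BlockContribBounds.mem_members.1 hχm) hv
    rwa [one_mul] at this
  · rw [hker, hxre χ, hD1 χ]
    exact_mod_cast hχt

end Cfsg.Agent.S4722
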