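import Cfsg.Statements.S4723
import Cfsg.Agent.Lib.BlockFong9
import Cfsg.Agent.Lib.BlockContrib
import Cfsg.Agent.Lib.CharCliffordCorr

set_option autoImplicit false
open Cfsg

namespace Cfsg.Agent.S4723

/-- Let p be a prime, M a maximal ideal of the algebraic integers containing p, H a normal subgroup of the finite group G and b a p-block of H. Let T be the stabilizer of b in G. Then b contains a character θ of height zero whose own stabilizer in G (the elements g with θ(g h g⁻¹) = θ(h) for all h ∈ H) has index prime to p in T, i.e. contains a Sylow p-subgroup of T. -/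
theorem result {G : Type*} [Group G] [Finite G] (p : ℕ) [Fact p.Prime] (M : Ideal Cfsg.AlgInt) (hM : Cfsg.IsPModular p M) (H : Subgroup G) [H.Normal] (b : Set (Cfsg.IrrCharacter ↥H)) (hb : Cfsg.IsPBlock M b) (T : Subgroup G) (hT : (∀ g : G, g ∈ T ↔ ∀ θ ∈ b, ∀ θ' : Cfsg.IrrCharacter ↥H, (∀ h h' : ↥H, (h' : G) = g * h * g⁻¹ → (θ' : ↥H → ℂ) h' = (θ : ↥H → ℂ) h) → θ' ∈ b)) : ∃ θ ∈ b, Cfsg.blockHeight p b (θ : ↥H → ℂ) = 0 ∧ ∃ S : Subgroup G, S ≤ T ∧ (∀ g : G, g ∈ S ↔ (g ∈ T ∧ ∀ h h' : ↥H, (h' : G) = g * h * g⁻¹ → (θ : ↥H → ℂ) h' = (θ : ↥H → ℂ) h)) ∧ ¬ p ∣ S.relIndex T := by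
  classical
  haveI : Fintype G := Fintype.ofFinite G
  have hHT : H ≤ T := fun x hx => (hT x).mpr fun θ hθ θ' h => by
    have e : θ' = θ := Subtype.ext (funext fun k => by
      have hk : x * (k : G) * x⁻¹ ∈ H := H.mul_mem (H.mul_mem hx k.2) (H.inv_mem hx)
      have h1 := h k ⟨_, hk⟩ rfl
      have h2 := BlockTheoryCentre.irr_classFun θ' k ⟨x, hx⟩
      exact (h2.symm.trans h1))
    exact e ▸ hθ
  set N : Subgroup T := H.subgroupOf T with hN
  let e : N ≃* H := Subgroup.subgroupOfEquivOfLe hHT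
  set b' : Set (Cfsg.IrrCharacter N) := BrauerPairs81Base.pushSet e.symm b with hb'def
  have hb' : Cfsg.IsPBlock M b' := BrauerPairs81Base.isPBlock_push _ hb
  have hdeg : ∀ θ : Cfsg.IrrCharacter H,
      Cfsg.charDegree ((BrauerPairs81Base.pushChar e.symm θ : N → ℂ)) =
        Cfsg.charDegree (θ : H → ℂ) := by
    intro θ
    have h1 : (BrauerPairs81Base.pushChar e.symm θ : N → ℂ) 1 = (θ : H → ℂ) 1 := by
      rw [← map_one e.symm, BrauerPairs81Base.pushChar_apply]
    rw [ClassAlgebraVal.apply_one_eq_charDegree, ClassAlgebraVal.apply_one_eq_charDegree] at h1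
    exact Nat.cast_injective h1
  have hmin : BlockContrib.minExp p b' = BlockContrib.minExp p b := by
    unfold BlockContrib.minExp
    rw [hb'def, BrauerPairs81Base.pushSet, Set.image_image]
    exact congrArg sInf (Set.image_congr fun θ _ => by rw [hdeg θ])
  have hinv : ∀ g : T, ∀ ξ ∈ b', BrauerBlocksCovering.conjIrr N ξ g ∈ b' := by
    rintro g _ ⟨θ, hθ, rfl⟩
    let θ' : Cfsg.IrrCharacter H :=
      ⟨CharInduced.conjFun H (θ : H → ℂ) (g : G),
        CharInduced.isIrrCharacter_conjFun H θ.2 (g : G)⟩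
    have hθ' : θ' ∈ b := (hT _).mp (T.inv_mem g.2) θ hθ θ' fun h h' hh => by
      show (θ : H → ℂ) _ = (θ : H → ℂ) h
      refine congrArg _ (Subtype.ext ?_)
      show (g : G) * (h' : G) * (g : G)⁻¹ = h
      rw [hh]; group
    refine ⟨θ', hθ', Subtype.ext (funext fun n => ?_)⟩
    rfl
  obtain ⟨B', hB', hcov, hlow⟩ := BlockFong9.exists_cover_large N hM hb' hinv
  obtain ⟨ψ, hψ, hψ0⟩ := BlockContrib.exists_height_zero hM hB'
  obtain ⟨ξ, hξ⟩ := BrauerBlocksCovering.exists_constituent (G := N)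
    (f := fun n : N => (ψ : T → ℂ) n)
    (CharInduced.isCharacter_res N (CharBasic.isCharacter_of_isIrrCharacter ψ.2))
    (BlockTheoryCentre.irr_one_ne_zero ψ)
  have hξb : ξ ∈ b' := by
    obtain ⟨χ₀, hχ₀, η, hη, hcon⟩ := hcov
    have hmem := BrauerBlocksCovering.mem_orb_of_sameBlock N hM hb'
      (BlockTheoryIdem.sameBlock_of_mem hM hB' hχ₀ hψ) hη hcon hξ
    rwa [BlockFong9.orb_eq N hinv] at hmem
  obtain ⟨a, ha⟩ := CharBasicOrth.classInner_isCharacter
    (CharInduced.isCharacter_res N (CharBasic.isCharacter_of_isIrrCharacter ψ.2))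
    (CharBasic.isCharacter_of_isIrrCharacter ξ.2)
  have hd1 := CharCliffordCorr.apply_one_eq N ψ.2 ξ.2 hξ
  rw [ha, ClassAlgebraVal.apply_one_eq_charDegree, ClassAlgebraVal.apply_one_eq_charDegree,
    ← Nat.cast_mul, ← Nat.cast_mul] at hd1
  have hd := Nat.cast_injective hd1
  obtain ⟨θ, hθ, rfl⟩ := hξb
  rw [hdeg θ] at hd
  set I := CharInduced.inertia N ((BrauerPairs81Base.pushChar e.symm θ : N → ℂ)) with hI
  have hpos := ClassAlgebraVal.charDegree_pos ψ
  rw [hd] at hpos
  obtain ⟨ha0, hI0, hθ0⟩ : a ≠ 0 ∧ I.index ≠ 0 ∧ Cfsg.charDegree (θ : H → ℂ) ≠ 0 :=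
    ⟨fun h => by simp [h] at hpos, Subgroup.index_ne_zero_of_finite,
      (ClassAlgebraVal.charDegree_pos θ).ne'⟩
  have hν := congrArg (fun m : ℕ => m.factorization p) hd
  simp only [Nat.factorization_mul (mul_ne_zero ha0 hI0) hθ0, Nat.factorization_mul ha0 hI0,
    Finsupp.add_apply] at hν
  have h1 := BlockContrib.minExp_add_defect hM hB'
  have h2 := BlockContrib.minExp_add_defect hM hb'
  have h3 := BlockContrib.exp_eq_add (p := p) hψ
  have h4 := BlockContrib.minExp_le (p := p) hθ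
  have h5 : (Nat.card T).factorization p =
      N.index.factorization p + (Nat.card N).factorization p := by
    rw [← N.index_mul_card, Nat.factorization_mul Subgroup.index_ne_zero_of_finite
      Nat.card_pos.ne', Finsupp.add_apply]
  refine ⟨θ, hθ, ?_, I.map T.subtype, Subgroup.map_subtype_le _, fun g => ?_, ?_⟩
  · rw [BlockContrib.blockHeight_eq]
    omega
  · constructor
    · rintro ⟨t, ht, rfl⟩
      refine ⟨t.2, fun h h' hh => ?_⟩
      have h6 := (CharInduced.mem_inertia_iff N).mp ht (e.symm h)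
      refine Eq.trans ?_ h6
      exact congrArg (θ : H → ℂ) (Subtype.ext hh)
    · rintro ⟨hg, h⟩
      refine ⟨⟨g, hg⟩, (CharInduced.mem_inertia_iff N).mpr fun n => ?_, rfl⟩
      exact h (e n) (e ⟨_, _⟩) rfl
  · have hidx : (I.map T.subtype).relIndex T = I.index := by
      rw [Subgroup.relIndex, Subgroup.subgroupOf, Subgroup.comap_map_eq_self_of_injective
        T.subtype_injective]
    rw [hidx]
    intro hdvd
    have h7 := (Fact.out : p.Prime).factorization_pos_of_dvd hI0 hdvd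
    omega

end Cfsg.Agent.S4723
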