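import Cfsg.Statements.S4724
import Cfsg.Agent.Lib.UniqueDegree26Odd
import Cfsg.Agent.Lib.UniqueDegree26EvenBig
import Cfsg.Agent.Lib.UniqueDegree26Five
import Cfsg.Agent.S0806

set_option autoImplicit false
open Cfsg

namespace Cfsg.Agent.S4724

open Cfsg.Agent.UniqueDegree26 in
theorem main {G : Type*} [Group G] [Fintype G] {p e : ℕ} [Fact p.Prime] {y g : G} {H : Subgroup G}
    (h : Hyp p e y g H) :
    5 ≤ p ∧ Nonempty (G ≃* Matrix.ProjectiveSpecialLinearGroup (Fin 2) (ZMod p)) := by
  have he2 := h.e_two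
  haveI : NeZero e := ⟨by omega⟩
  rcases Nat.even_or_odd e with hev | hodd
  · obtain ⟨k, hk⟩ := hev
    rcases Nat.lt_or_ge e 4 with hlt | hge
    · obtain rfl : e = 2 := by omega
      obtain rfl := p_eq_five h
      exact ⟨le_rfl, iso_five h⟩
    · exact (even_big_false h ⟨k, hk⟩ hge).elim
  · obtain ⟨h7, hiso⟩ := main_odd h hodd
    exact ⟨by omega, hiso⟩


/-- Let G be a transitive permutation group of prime degree p having exactly one irreducible character of degree p. Let P be a Sylow p-subgroup and suppose N_G(P) = P·E for a subgroup E with P ∩ E = 1, such that the normalizer of E has order 2·#E and E meets each of its conjugates by elements outside its normalizer trivially. Then p is 5, 7 or 11 and G is isomorphic to PSL(2, p). -/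
theorem result {α : Type*} [Fintype α] [DecidableEq α] {p : ℕ} [Fact p.Prime] (hα : Fintype.card α = p) (G : Subgroup (Equiv.Perm α)) [MulAction.IsPretransitive G α] (huniq : ∃! χ : Cfsg.IrrCharacter G, Cfsg.charDegree (χ : G → ℂ) = p) (P : Sylow p G) (E : Subgroup G) (hPE : (P : Subgroup G) ⊔ E = Subgroup.normalizer ((P : Subgroup G) : Set G)) (hPE' : (P : Subgroup G) ⊓ E = ⊥) (hNE : Nat.card (Subgroup.normalizer (E : Set G)) = 2 * Nat.card E) (hTI : ∀ g : G, g ∉ Subgroup.normalizer (E : Set G) → E ⊓ E.map (MulAut.conj g).toMonoidHom = ⊥) : (p = 5 ∨ p = 7 ∨ p = 11) ∧ ∃ (F : Type) (_ : Field F) (_ : Fintype F), Fintype.card F = p ∧ Nonempty (G ≃* Matrix.ProjectiveSpecialLinearGroup (Fin 2) F) := by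
  haveI : Fintype G := Fintype.ofFinite _
  obtain ⟨e, y, g, H, h⟩ := UniqueDegree26.exists_hyp hα G huniq P E hPE hPE' hNE hTI
  obtain ⟨hp5, ⟨f⟩⟩ := main h
  refine ⟨?_, ZMod p, inferInstance, inferInstance, ZMod.card p, ⟨f⟩⟩
  by_contra hp
  push Not at hp
  have hpr : p.Prime := Fact.out
  have hq : p ∉ ({2, 3, 5, 7, 9, 11} : Finset ℕ) := by
    simp only [Finset.mem_insert, Finset.mem_singleton, not_or]
    refine ⟨by omega, by omega, hp.1, hp.2.1, ?_, hp.2.2⟩
    rintro rfl
    norm_num at hpr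
  have hidx : (H.map f.toMonoidHom).index = p := by
    rw [Subgroup.index_map_of_bijective f.bijective, h.index]
  have hne : H.map f.toMonoidHom ≠ ⊤ := fun hc => by
    rw [hc, Subgroup.index_top] at hidx
    exact hpr.ne_one hidx.symm
  have := (S0806.result (F := ZMod p) (ZMod.card p) hq).1 _ hne
  omega

end Cfsg.Agent.S4724
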