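import Cfsg.Statements.S4725
import Cfsg.Agent.Lib.BlockTheoryHeight
import Cfsg.Agent.Lib.BlockTheoryInduced
import Cfsg.Agent.Lib.CharInducedRep

set_option autoImplicit false
open Cfsg

namespace Cfsg.Agent.S4725

section
open Cfsg BlockTheoryLocalRing BlockTheoryCentre BlockTheoryIdem BlockTheoryBrauer
open BlockContrib (minExp minExp_add_defect exp_eq_add)
open ClassAlgebraVal

attribute [local instance] Classical.propDecidable

theorem chiSum_indFun {G : Type*} [Group G] [Fintype G] (H : Subgroup G) [Fintype H]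
    (ζ : H → ℂ) {z : MonoidAlgebra ℂ G} (hz : IsCen z) :
    chiSum (indFun H ζ) z = (H.index : ℂ) * chiSum ζ (res H z) := by
  have hext : ∀ y : G, extendByZero H ζ y = if h : y ∈ H then ζ ⟨y, h⟩ else 0 := by
    intro y
    by_cases h : y ∈ H
    · rw [dif_pos h]
      exact Subtype.val_injective.extend_apply ζ 0 ⟨y, h⟩
    · rw [dif_neg h, extendByZero, Function.extend_apply' _ _ _ fun ⟨a, ha⟩ => h (by rw [← ha]; exact a.2)]
      rfl
  have hone : ∀ x : G, ∑ g : G, z.coeff g * extendByZero H ζ (x⁻¹ * g * x) = chiSum ζ (res H z) := by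
    intro x
    rw [← Equiv.sum_comp (MulAut.conj x).toEquiv, chiSum_apply]
    refine (Fintype.sum_of_injective (fun h : H => (h : G)) Subtype.val_injective _ _ ?_ ?_).symm
    · intro y hy
      simp only [MulEquiv.toEquiv_eq_coe, MulEquiv.coe_toEquiv, MulAut.conj_apply]
      rw [show x⁻¹ * (x * y * x⁻¹) * x = y by group, hext, dif_neg (by simpa using hy), mul_zero]
    · intro h
      simp only [MulEquiv.toEquiv_eq_coe, MulEquiv.coe_toEquiv, MulAut.conj_apply]
      rw [show x⁻¹ * (x * (h : G) * x⁻¹) * x = h by group, hext, dif_pos h.2, coeff_res]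
      exact congrArg (· * _) (hz (h : G) x).symm
  rw [chiSum_apply]
  simp only [indFun, Finset.mul_sum]
  rw [Finset.sum_comm, Finset.sum_congr rfl (g := fun _ => (Nat.card H : ℂ)⁻¹ * chiSum ζ (res H z))
    fun x _ => by rw [← hone x, Finset.mul_sum]; exact Finset.sum_congr rfl fun g _ => by ring]
  rw [Finset.sum_const, Finset.card_univ, nsmul_eq_mul, ← Nat.card_eq_fintype_card, ← mul_assoc,
    ← H.index_mul_card, Nat.cast_mul, mul_assoc (H.index : ℂ), mul_inv_cancel₀
      (Nat.cast_ne_zero.mpr Nat.card_pos.ne'), mul_one]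

theorem main {G : Type*} [Group G] [Fintype G] {p : ℕ} [Fact p.Prime] {M : Ideal AlgInt}
    (hM : IsPModular p M) (H : Subgroup G) {b : Set (IrrCharacter H)} {B : Set (IrrCharacter G)}
    (hind : IsInducedBlock M H b B) (hdef : blockDefect p b = blockDefect p B)
    {ζ : IrrCharacter H} (hζ : ζ ∈ b) (hζ0 : blockHeight p b (ζ : H → ℂ) = 0) :
    ∃ χ ∈ B, blockHeight p B (χ : G → ℂ) = 0 ∧ ∃ a : ℕ,
      classInner (indFun H (ζ : H → ℂ)) (χ : G → ℂ) = (a : ℂ) ∧ ¬ p ∣ a := by
  obtain ⟨a, ha⟩ : ∃ a : IrrCharacter G → ℕ,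
      ∀ χ : IrrCharacter G, classInner (indFun H (ζ : H → ℂ)) (χ : G → ℂ) = (a χ : ℂ) :=
    ⟨_, fun χ => Classical.choose_spec (CharBasicOrth.classInner_isCharacter
      (CharInduced.isCharacter_ind H (irr_isCharacter ζ)) (irr_isCharacter χ))⟩
  have hBi := isInt_idem hM hind.2.1
  have hsum : ((∑ χ ∈ Finset.univ.filter (· ∈ B), a χ * charDegree (χ : G → ℂ) : ℕ) : ℂ) =
      (H.index : ℂ) * chiSum (ζ : H → ℂ) (res H (idem B)) := by
    rw [← chiSum_indFun H _ (isCen_idem B)]
    conv_rhs => rw [CharBasicOrth.eq_sum_classInner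
      (CharBasic.isClassFunction_of_isCharacter (CharInduced.isCharacter_ind H (irr_isCharacter ζ)))]
    rw [chiSum_apply]
    simp only [Finset.sum_apply, Pi.smul_apply, smul_eq_mul, Finset.mul_sum, ha]
    rw [Finset.sum_comm, Nat.cast_sum, Finset.sum_filter]
    refine Finset.sum_congr rfl fun χ _ => ?_
    have h1 := chiSum_idem_mul B χ 1
    rw [mul_one, chiSum_apply, chiSum_apply] at h1
    have h2 : ∑ g : G, (1 : MonoidAlgebra ℂ G).coeff g * (χ : G → ℂ) g = (χ : G → ℂ) 1 := by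
      simp [MonoidAlgebra.one_def, Finsupp.single_apply]
    rw [h2] at h1
    rw [Finset.sum_congr rfl (g := fun g => (a χ : ℂ) * ((idem B).coeff g * (χ : G → ℂ) g))
      fun g _ => by ring, ← Finset.mul_sum, h1]
    split_ifs <;> simp [apply_one_eq_charDegree]
  obtain ⟨ω, hωR, hω1, hω⟩ : ∃ ω : ℂ, MemLocalRing M ω ∧ MemLocalIdeal M (ω - 1) ∧
      chiSum (ζ : H → ℂ) (res H (idem B)) = (charDegree (ζ : H → ℂ) : ℂ) * ω := by
    refine ⟨omega (ζ : H → ℂ) (res H (idem B)),
      omega_mem_localRing hM ζ (isCen_res H (isCen_idem B)) (isInt_res H hBi), ?_, ?_⟩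
    · obtain ⟨χ, hχ⟩ := block_nonempty hM hind.2.1
      have := BlockTheoryInduced.inducedBlock_congr H hM hind hζ hχ (isCen_idem B) hBi
      rwa [omega_idem, if_pos hχ] at this
    · rw [omega_apply, ← apply_one_eq_charDegree, mul_inv_cancel_left₀ (irr_one_ne_zero ζ)]
  rw [hω] at hsum
  set S := Finset.univ.filter (· ∈ B) with hS
  have hi0 : H.index ≠ 0 := Subgroup.index_ne_zero_of_finite
  have hn0 : charDegree (ζ : H → ℂ) ≠ 0 := (charDegree_pos ζ).ne'
  have hexp : (H.index * charDegree (ζ : H → ℂ)).factorization p = minExp p B := by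
    rw [Nat.factorization_mul hi0 hn0, Finsupp.add_apply, exp_eq_add (p := p) hζ, hζ0, add_zero]
    have h1 := minExp_add_defect hM hind.1
    have h2 := minExp_add_defect hM hind.2.1
    have h3 := BlockTheoryHeight.index_exp (p := p) H
    omega
  set m := minExp p B with hm
  obtain ⟨χ, hχS, hχ⟩ : ∃ χ ∈ S, ¬ p ^ (m + 1) ∣ a χ * charDegree (χ : G → ℂ) := by
    by_contra! h
    obtain ⟨q, hq⟩ := Finset.dvd_sum h
    set c := H.index * charDegree (ζ : H → ℂ) with hc
    have hc0 : c ≠ 0 := mul_ne_zero hi0 hn0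
    set c' := c / p ^ c.factorization p with hc'
    have ec : (c : ℂ) = (p : ℂ) ^ m * (c' : ℂ) := by
      rw [← hexp]; exact_mod_cast (Nat.ordProj_mul_ordCompl_eq_self c p).symm
    have hc'p : ¬ p ∣ c' := Nat.not_dvd_ordCompl hM.1 hc0
    rw [hq, Nat.cast_mul, Nat.cast_pow, ← mul_assoc, ← Nat.cast_mul, ← hc, ec, pow_succ,
      mul_assoc, mul_assoc] at hsum
    have h1 := mul_left_cancel₀ (pow_ne_zero m (Nat.cast_ne_zero.mpr hM.1.ne_zero : (p : ℂ) ≠ 0)) hsum
    refine not_ideal_mul hM (natCast_mem (localRing hM) c') hωR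
      (fun h' => hc'p ((natCast_mem_iff hM).mp h')) (fun h' => one_not_ideal hM ?_)
      (h1 ▸ ideal_mul_right hM (natCast_p_mem hM) (natCast_mem (localRing hM) q))
    simpa using ideal_sub hM h' hω1
  have hχB : χ ∈ B := (Finset.mem_filter.mp hχS).2
  have ha0 : a χ ≠ 0 := fun h => hχ (by rw [h, zero_mul]; exact dvd_zero _)
  have hd0 : charDegree (χ : G → ℂ) ≠ 0 := (charDegree_pos χ).ne'
  have hlt : (a χ).factorization p + (charDegree (χ : G → ℂ)).factorization p < m + 1 := by
    by_contra hle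
    refine hχ ((hM.1.pow_dvd_iff_le_factorization (mul_ne_zero ha0 hd0)).mpr ?_)
    rw [Nat.factorization_mul ha0 hd0, Finsupp.add_apply]
    omega
  have he := exp_eq_add (p := p) hχB
  refine ⟨χ, hχB, by omega, a χ, ha χ, fun hd => ?_⟩
  have := hM.1.factorization_pos_of_dvd ha0 hd
  omega

end

/-- Let p be a prime, M a maximal ideal of the algebraic integers containing p, H a subgroup of the finite group G, and b a p-block of H inducing the p-block B of G, with b and B of the same defect. Then for every height-zero ζ ∈ b there is a height-zero χ ∈ B whose multiplicity in the character induced from ζ is not divisible by p. -/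
theorem result {G : Type*} [Group G] [Fintype G] (p : ℕ) [Fact p.Prime] (M : Ideal Cfsg.AlgInt) (hM : Cfsg.IsPModular p M) (H : Subgroup G) (b : Set (Cfsg.IrrCharacter ↥H)) (B : Set (Cfsg.IrrCharacter G)) (hind : Cfsg.IsInducedBlock M H b B) (hdef : Cfsg.blockDefect p b = Cfsg.blockDefect p B) (ζ : Cfsg.IrrCharacter ↥H) (hζ : ζ ∈ b) (hζ0 : Cfsg.blockHeight p b (ζ : ↥H → ℂ) = 0) : ∃ χ ∈ B, Cfsg.blockHeight p B (χ : G → ℂ) = 0 ∧ ∃ a : ℕ, Cfsg.classInner (Cfsg.indFun H (ζ : ↥H → ℂ)) (χ : G → ℂ) = (a : ℂ) ∧ ¬ p ∣ a := by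
  classical
  exact main hM H hind hdef hζ hζ0

end Cfsg.Agent.S4725
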