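import Cfsg.Statements.S4726
import Cfsg.Agent.Lib.BlockInducedCen

set_option autoImplicit false
open Cfsg

namespace Cfsg.Agent.S4726

/-- Let p be a prime, M a maximal ideal of the algebraic integers containing p, H a subgroup of the finite group G and b a p-block of H with defect group D₀ such that C_G(D₀) ≤ H. Then b induces a block of G, and for every block B of G induced by b there is a defect group D of B with Z(D) ≤ Z(D₀) ≤ D₀ ≤ D (as subgroups of G). In particular, if the defect groups of B are abelian then D₀ is a defect group of B. -/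
theorem result {G : Type*} [Group G] [Finite G] (p : ℕ) [Fact p.Prime] (M : Ideal Cfsg.AlgInt) (hM : Cfsg.IsPModular p M) (H : Subgroup G) (b : Set (Cfsg.IrrCharacter ↥H)) (hb : Cfsg.IsPBlock M b) (D₀ : Subgroup ↥H) (hD₀ : Cfsg.IsDefectGroup p M b D₀) (hC : Subgroup.centralizer ((D₀.map H.subtype : Subgroup G) : Set G) ≤ H) : Cfsg.InducedBlockDefined M H b ∧ ∀ B : Set (Cfsg.IrrCharacter G), Cfsg.IsInducedBlock M H b B → (∃ D : Subgroup G, Cfsg.IsDefectGroup p M B D ∧ (Subgroup.center ↥D).map D.subtype ≤ ((Subgroup.center ↥D₀).map D₀.subtype).map H.subtype ∧ ((Subgroup.center ↥D₀).map D₀.subtype).map H.subtype ≤ D₀.map H.subtype ∧ D₀.map H.subtype ≤ D) ∧ (∀ D : Subgroup G, Cfsg.IsDefectGroup p M B D → IsMulCommutative ↥D → Cfsg.IsDefectGroup p M B (D₀.map H.subtype)) := by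
  classical
  have := Fintype.ofFinite G
  obtain ⟨g, hg⟩ := BrauerPairs81Conj.exists_pairOf_of_not_small hM hb
    (BlockTheoryDefect.isPGroup_of_isDefectGroup hD₀)
    (BlockTheoryDefect.not_small_cut_defect hM hb hD₀)
  refine ⟨BlockInducedCen.exists_induced hM hg hC, fun B hind => ?_⟩
  obtain ⟨D, hD, hle, hz⟩ := BlockInducedCen.exists_defect_center hM hb hD₀ hC hind
  refine ⟨⟨D, hD, ?_, Subgroup.map_mono (Subgroup.map_subtype_le _), hle⟩, fun D' hD' hab => ?_⟩
  · rintro _ ⟨z, hzc, rfl⟩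
    have hcomm : ∀ w ∈ D, w * (z : G) = (z : G) * w := fun w hw =>
      congrArg Subtype.val (Subgroup.mem_center_iff.mp hzc ⟨w, hw⟩)
    obtain ⟨a, ha, haz⟩ := hz z z.2 hcomm
    refine ⟨a, ⟨⟨a, ha⟩, Subgroup.mem_center_iff.mpr fun w => Subtype.ext (Subtype.ext ?_), rfl⟩, haz⟩
    have haz' : ((a : H) : G) = (z : G) := haz
    show ((w : H) : G) * (a : G) = (a : G) * ((w : H) : G)
    rw [haz']
    exact hcomm _ (hle ⟨w, w.2, rfl⟩)
  · obtain ⟨x, hx⟩ := BlockTheoryDefect.defectGroup_conj hM hind.2.1 hD' hD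
    have hsub : D ≤ D₀.map H.subtype := fun z hzD => hz z hzD fun w hw => by
      obtain ⟨a, ha, rfl⟩ := hx.symm ▸ hzD
      obtain ⟨c, hc, rfl⟩ := hx.symm ▸ hw
      rw [← map_mul, ← map_mul]
      exact congrArg _ (congrArg Subtype.val (hab.is_comm.comm ⟨c, hc⟩ ⟨a, ha⟩))
    rwa [le_antisymm hle hsub]

end Cfsg.Agent.S4726
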