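import Cfsg.Statements.S4727
import Cfsg.Agent.Lib.BlockPiKernel
import Cfsg.Agent.Lib.BlockContribSection
import Cfsg.Agent.Lib.BrauerPairs81Induced

set_option autoImplicit false
open Cfsg

namespace Cfsg.Agent.S4727

section
open Cfsg BlockTheoryLocalRing BlockTheoryCentre BlockTheoryIdem BlockTheoryBrauer BlockTheoryDefect
open BrauerPairs81Base BrauerPairs81Pairs BrauerPairs81Conj BrauerPairs81Local BlockPiKernel
attribute [local instance] Classical.propDecidable

theorem main {G : Type*} [Group G] [Fintype G] {p : ℕ} [Fact p.Prime] {M : Ideal AlgInt}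
    (hM : IsPModular p M) {π : Set ℕ} (hπ : p ∈ π) {B : Set (IrrCharacter G)} (hB : IsPBlock M B)
    {D : Subgroup G} (hBD : IsDefectGroup p M B D)
    {B₁ : Set (IrrCharacter (Subgroup.normalizer (D : Set G)))}
    (hB₁ : IsInducedBlock M (Subgroup.normalizer (D : Set G)) B₁ B)
    (hB₁D : IsDefectGroup p M B₁ (D.subgroupOf (Subgroup.normalizer (D : Set G))))
    (hker : CoreKer π B₁) {y : G} (hy : ∃ k : ℕ, orderOf y = p ^ k) {H : Subgroup G}
    (hH : ∀ g, g ∈ H ↔ Commute y g) (hC : CoreCompl π H) {χ : IrrCharacter G} (hχ : χ ∈ B)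
    (x : H) (hx : ∀ q : ℕ, q.Prime → q ∣ orderOf x → q ∉ π) :
    (χ : G → ℂ) (y * x) = (χ : G → ℂ) y := by
  obtain ⟨e, hmax, he⟩ := exists_max_coreKer hM hπ hBD hB₁ hB₁D hker
  have hP : IsPGroup p (Subgroup.zpowers y) := by
    obtain ⟨k, hk⟩ := hy
    exact IsPGroup.of_card (n := k) (by rw [Nat.card_zpowers, hk])
  have hcen : Cen (Subgroup.zpowers y) = H := by
    show Subgroup.centralizer _ = H
    rw [Subgroup.zpowers_eq_closure, Subgroup.centralizer_closure, BlockContribSection.centralizer_eq hH]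
  have hxp : ¬ p ∣ orderOf x := fun h => hx p Fact.out h hπ
  have h1p : ¬ p ∣ orderOf (1 : H) := by rw [orderOf_one]; exact hM.1.not_dvd_one
  have hblk : ∀ b : Set (IrrCharacter H), IsInducedBlock M H b B → CoreKer π b := by
    subst hcen
    intro b hb
    exact coreKer_of_pair hM hπ hmax he (BrauerPairs81Induced.isBrauerPairOf_of_induced hM hP hb)
  have ex := BlockContribSection.apply_eq_sum_part hH hM hy hB χ hxp
  have e1 := BlockContribSection.apply_eq_sum_part hH hM hy hB χ h1p
  rw [if_pos hχ] at ex e1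
  rw [OneMemClass.coe_one, mul_one] at e1
  rw [ex, e1]
  refine Finset.sum_congr rfl fun b hb => ?_
  rw [BlockContribSection.part_eq_sum, BlockContribSection.part_eq_sum]
  refine Finset.sum_congr rfl fun θ _ => ?_
  split_ifs with hθ
  · rw [hblk b (Finset.mem_filter.mp hb).2 x (hC x hx) θ hθ]
  · rfl

end

/-- Let p be a prime, π a set of primes containing p, M a maximal ideal of the algebraic integers containing p, and B a p-block of the finite group G with defect group D; let B₁ be the block of N_G(D) with defect group D that induces B (the Brauer correspondent of B). Suppose every element of O_π'(N_G(D)), the largest normal subgroup of N_G(D) whose order has no prime divisor in π, lies in the kernel of every member of B₁. If y is a p-element whose centralizer C has a normal Hall π'-subgroup (every element of C whose order has no prime divisor in π lies in O_π'(C)), then χ(y x) = χ(y) for every χ ∈ B and every x ∈ C whose order has no prime divisor in π. -/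
theorem result {G : Type*} [Group G] [Finite G] (p : ℕ) [Fact p.Prime] (M : Ideal Cfsg.AlgInt) (hM : Cfsg.IsPModular p M) (π : Set ℕ) (hpπ : p ∈ π) (B : Set (Cfsg.IrrCharacter G)) (hB : Cfsg.IsPBlock M B) (D : Subgroup G) (hBD : Cfsg.IsDefectGroup p M B D) (B₁ : Set (Cfsg.IrrCharacter ↥(Subgroup.normalizer (D : Set G)))) (hB₁ : Cfsg.IsInducedBlock M (Subgroup.normalizer (D : Set G)) B₁ B) (hB₁D : Cfsg.IsDefectGroup p M B₁ (D.subgroupOf (Subgroup.normalizer (D : Set G)))) (hker : ∀ n : ↥(Subgroup.normalizer (D : Set G)), n ∈ Cfsg.piCore {q | q ∉ π} ↥(Subgroup.normalizer (D : Set G)) → n ∈ Cfsg.blockKer B₁) (y : G) (hy : ∃ k : ℕ, orderOf y = p ^ k) (hC : ∀ x : ↥(Subgroup.centralizer ({y} : Set G)), (∀ q : ℕ, q.Prime → q ∣ orderOf x → q ∉ π) → x ∈ Cfsg.piCore {q | q ∉ π} ↥(Subgroup.centralizer ({y} : Set G))) : ∀ χ ∈ B, ∀ x : G, x ∈ Subgroup.centralizer ({y} : Set G) → (∀ q : ℕ, q.Prime → q ∣ orderOf x → q ∉ π) → (χ : G → ℂ) (y * x) = (χ : G → ℂ) y := by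
  classical
  have := Fintype.ofFinite G
  intro χ hχ x hx hxπ
  refine main hM hpπ hB hBD hB₁ hB₁D hker hy (fun g => ?_) hC hχ ⟨x, hx⟩
    (fun q hq hd => hxπ q hq ?_)
  · rw [Subgroup.mem_centralizer_singleton_iff]
    exact ⟨fun h => h.symm, fun h => h.eq.symm⟩
  · rwa [← Subgroup.orderOf_coe] at hd

end Cfsg.Agent.S4727
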