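import Cfsg.Statements.S4728
import Cfsg.Agent.Lib.BlockPiKernel
import Cfsg.Agent.Lib.BlockContribSection

set_option autoImplicit false
open Cfsg

namespace Cfsg.Agent.S4728

section
open Cfsg BlockTheoryLocalRing BlockTheoryCentre BlockTheoryIdem BlockTheoryBrauer BlockTheoryDefect
open BrauerPairs81Base BrauerPairs81Pairs BrauerPairs81Conj BrauerPairs81Local BlockPiKernel
attribute [local instance] Classical.propDecidable

theorem main {G : Type*} [Group G] [Fintype G] {p : ℕ} [Fact p.Prime] {M : Ideal AlgInt}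
    (hM : IsPModular p M) {π : Set ℕ} (hπ : p ∈ π) {B : Set (IrrCharacter G)} {D : Subgroup G}
    (hBD : IsDefectGroup p M B D)
    {B₁ : Set (IrrCharacter (Subgroup.normalizer (D : Set G)))}
    (hB₁ : IsInducedBlock M (Subgroup.normalizer (D : Set G)) B₁ B)
    (hB₁D : IsDefectGroup p M B₁ (D.subgroupOf (Subgroup.normalizer (D : Set G))))
    (D₀ : Subgroup G) (hD₀ : IsPGroup p D₀) (H₀ : Subgroup G)
    (hH₀ : H₀ = D₀ ⊔ Subgroup.centralizer (D₀ : Set G)) {b : Set (IrrCharacter H₀)}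
    (hb : IsInducedBlock M H₀ b B) (hcompl : CoreCompl π (Cen D₀))
    (hkerb : ∀ x : Cen D₀, x ∈ Cfsg.piCore {q | q ∉ π} (Cen D₀) → ∀ θ ∈ b, ∀ h : H₀,
      (h : G) = (x : G) → (θ : H₀ → ℂ) h = (θ : H₀ → ℂ) 1) :
    CoreKer π B₁ := by
  have hCH : Cen D₀ ≤ H₀ := hH₀ ▸ le_sup_right
  have hDH : D₀ ≤ H₀ := hH₀ ▸ le_sup_left
  have hHN : H₀ ≤ Subgroup.normalizer (D₀ : Set G) :=
    hH₀ ▸ sup_le Subgroup.le_normalizer (Subgroup.centralizer_le_normalizer _)
  set D' := D₀.subgroupOf H₀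
  haveI : D'.Normal := Subgroup.normal_subgroupOf_of_le_normalizer hHN
  have hD' : IsPGroup p D' := hD₀.comap_subtype
  obtain ⟨E, hE⟩ := exists_defectGroup hM hb.1
  have hns := (not_small_cut_iff hM hb.1 hE hD').mpr
    (conjLe_of_le (normal_le_defectGroup hM hb.1 hE D' hD'))
  obtain ⟨e₀, he₀⟩ := exists_pairOf_of_not_small hM hb.1 hD' hns
  have hmap : D'.map H₀.subtype = D₀ := Subgroup.map_subgroupOf_eq_of_le hDH
  have hC : Cen (D'.map H₀.subtype) ≤ H₀ := by rw [hmap]; exact hCH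
  have hup := pair_up hM hb he₀ hC
  set L := piCoreOf {q | q ∉ π} (Cen D₀) with hL
  set K := L.subgroupOf H₀
  haveI : K.Normal := Subgroup.normal_subgroupOf_of_le_normalizer
    (BGTransitivity.le_normalizer_piCoreOf _ (hHN.trans normalizer_le_normalizer_cen))
  have hKp : ¬ p ∣ Nat.card K := fun h =>
    not_dvd_card_core hπ (Cen D₀) (h.trans (HallCore.card_subgroupOf_dvd L H₀))
  have hK : KerOn K e₀ := (ker_iff_of_pairOf hM he₀ K hKp).mp fun x hx => by
    obtain ⟨y, hy, hyx⟩ := Subgroup.mem_subgroupOf.mp hx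
    exact fun θ hθ => hkerb y hy θ hθ x hyx.symm
  have key : ∀ Q : Subgroup G, Q = D₀ → ∀ g : Set (IrrCharacter (Cen Q)),
      IsBrauerPairOf p M B Q g → CoreKer π g → CoreKer π B₁ := by
    rintro Q rfl g hg hgk
    exact coreKer_correspondent hM hπ hBD hB₁ hB₁D hg hcompl hgk
  refine key _ hmap _ hup ?_
  rw [coreKer_push]
  intro c hc
  refine hK c (Subgroup.mem_subgroupOf.mpr ?_)
  have hcc := cenCompat_map hC (le_refl (D'.map H₀.subtype))
  have h1 : cenIso hcc c ∈ Cfsg.piCore {q | q ∉ π} (Cen (D'.map H₀.subtype)) := by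
    rw [← HallCore.map_equiv_piCore (π := {q | q ∉ π}) (cenIso hcc)]
    exact Subgroup.mem_map_of_mem _ hc
  rw [hL, ← hmap]
  exact ⟨_, h1, rfl⟩

end

/-- Let p be a prime, π a set of primes containing p, M a maximal ideal of the algebraic integers containing p, B a p-block of the finite group G with defect group D, and B₁ the block of N_G(D) with defect group D inducing B. Let D₀ be a p-subgroup, H₀ = D₀·C_G(D₀), and b a block of H₀ inducing B. Write O_π'(X) for the largest normal subgroup of X whose order has no prime divisor in π. Suppose that O_π'(C_G(D₀)) is a normal Hall π'-subgroup of C_G(D₀) (it contains every element of C_G(D₀) whose order has no prime divisor in π) and that every element of it lies in the kernel of every member of b. Then every element of O_π'(N_G(D)) lies in the kernel of every member of B₁. -/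
theorem result {G : Type*} [Group G] [Finite G] (p : ℕ) [Fact p.Prime] (M : Ideal Cfsg.AlgInt) (hM : Cfsg.IsPModular p M) (π : Set ℕ) (hpπ : p ∈ π) (B : Set (Cfsg.IrrCharacter G)) (hB : Cfsg.IsPBlock M B) (D : Subgroup G) (hBD : Cfsg.IsDefectGroup p M B D) (B₁ : Set (Cfsg.IrrCharacter ↥(Subgroup.normalizer (D : Set G)))) (hB₁ : Cfsg.IsInducedBlock M (Subgroup.normalizer (D : Set G)) B₁ B) (hB₁D : Cfsg.IsDefectGroup p M B₁ (D.subgroupOf (Subgroup.normalizer (D : Set G)))) (D₀ : Subgroup G) (hD₀ : IsPGroup p D₀) (H₀ : Subgroup G) (hH₀ : H₀ = D₀ ⊔ Subgroup.centralizer (D₀ : Set G)) (b : Set (Cfsg.IrrCharacter ↥H₀)) (hb : Cfsg.IsInducedBlock M H₀ b B) (hcompl : ∀ x : ↥(Subgroup.centralizer (D₀ : Set G)), (∀ q : ℕ, q.Prime → q ∣ orderOf x → q ∉ π) → x ∈ Cfsg.piCore {q | q ∉ π} ↥(Subgroup.centralizer (D₀ : Set G))) (hkerb : ∀ x : ↥(Subgroup.centralizer (D₀ : Set G)), x ∈ Cfsg.piCore {q | q ∉ π} ↥(Subgroup.centralizer (D₀ : Set G)) → ∀ θ ∈ b, ∀ h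 : ↥H₀, (h : G) = (x : G) → (θ : ↥H₀ → ℂ) h = (θ : ↥H₀ → ℂ) 1) : ∀ n : ↥(Subgroup.normalizer (D : Set G)), n ∈ Cfsg.piCore {q | q ∉ π} ↥(Subgroup.normalizer (D : Set G)) → n ∈ Cfsg.blockKer B₁ := by
  classical
  have := Fintype.ofFinite G
  exact main hM hpπ hBD hB₁ hB₁D D₀ hD₀ H₀ hH₀ hb hcompl hkerb

end Cfsg.Agent.S4728
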