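import Cfsg.Statements.S4729
import Cfsg.Agent.Lib.ClassAlgebraMod

set_option autoImplicit false
open Cfsg

namespace Cfsg.Agent.S4729

/-- Let p be a prime, M a maximal ideal of the algebraic integers containing p, G a finite perfect group and P a Sylow p-subgroup. If the principal p-block of G contains a faithful irreducible character of degree less than 2p, then the centralizer of P is a p-group. -/
theorem result {G : Type*} [Group G] [Finite G] (p : ℕ) [Fact p.Prime] (M : Ideal Cfsg.AlgInt) (hM : Cfsg.IsPModular p M) (hperf : commutator G = ⊤) (P : Sylow p G) (χ : Cfsg.IrrCharacter G) (hχ : χ ∈ Cfsg.principalBlock M G) (hfaith : ∀ g : G, (χ : G → ℂ) g = (χ : G → ℂ) 1 → g = 1) (hdeg : Cfsg.charDegree (χ : G → ℂ) < 2 * p) : IsPGroup p ↥(Subgroup.centralizer ((P : Subgroup G) : Set G)) := by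
  classical
  have hp : p.Prime := Fact.out
  rw [IsPGroup.iff_card]
  by_contra hne
  obtain ⟨q, hq, hqd, hqp⟩ : ∃ q : ℕ, q.Prime ∧ q ∣ Nat.card ↥(Subgroup.centralizer ((P : Subgroup G) : Set G)) ∧ q ≠ p := by
    by_contra hc
    push Not at hc
    exact hne ⟨_, Nat.eq_prime_pow_of_unique_prime_dvd Nat.card_pos.ne' fun {d} hd hdd => hc d hd hdd⟩
  have : Fact q.Prime := ⟨hq⟩
  obtain ⟨w, hw⟩ := exists_prime_orderOf_dvd_card' q hqd
  rw [← Subgroup.orderOf_coe] at hw
  have hpq : ¬ p ∣ q := fun h => hqp ((Nat.prime_dvd_prime_iff_eq hp hq).1 h).symm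
  have hcongr : ∀ k : ℕ, Cfsg.MemLocalIdeal M ((χ : G → ℂ) ((w : G) ^ k) - (χ : G → ℂ) 1) := by
    intro k
    refine ClassAlgebraMod.principal_congr hM hχ fun h => ?_
    have hle : (P : Subgroup G) ≤ Subgroup.centralizer ({(w : G) ^ k} : Set G) := by
      intro y hy
      have hc : Commute y (w : G) := Subgroup.mem_centralizer_iff.1 w.2 y hy
      exact Subgroup.mem_centralizer_singleton_iff.2 (hc.pow_right k).eq
    exact P.not_dvd_index (h.trans (Subgroup.index_dvd_of_le hle))
  obtain ⟨n, ρ, -, hρ⟩ := χ.2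
  obtain ⟨b, μ, heig, hμ, -, h4⟩ := CharBasic.exists_rep_eigenbasis ρ (w : G)
  rw [hw] at hμ
  have hχ1 : (χ : G → ℂ) 1 = (n : ℂ) := by rw [← hρ, Representation.char_one]; simp
  have hn : Cfsg.charDegree (χ : G → ℂ) = n := by simp [Cfsg.charDegree, hχ1]
  have hcard : Fintype.card (Fin (Module.finrank ℂ (Fin n → ℂ))) = n := by simp
  have hd : ∀ l : ℂ, l ≠ 1 → l ^ q = 1 → p ∣ (Finset.univ.filter fun i => μ i = l).card :=
    fun l hl hlq => ClassAlgebraMod.dvd_multiplicity hM μ hpq hμ ((χ : G → ℂ) 1)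
      (fun k => by rw [← h4, hρ]; exact hcongr k) hl hlq
  have hall : ∀ i, μ i = 1 := by
    by_contra hex
    push Not at hex
    obtain ⟨i, hi⟩ := hex
    have huniq : ∀ j, μ j = 1 ∨ μ j = μ i := by
      intro j
      by_contra hj
      push Not at hj
      have h1 := Nat.le_of_dvd (Finset.card_pos.2 ⟨i, by simp⟩) (hd (μ i) hi (hμ i))
      have h2 := Nat.le_of_dvd (Finset.card_pos.2 ⟨j, by simp⟩) (hd (μ j) hj.1 (hμ j))
      have hdis : Disjoint (Finset.univ.filter fun k => μ k = μ i) (Finset.univ.filter fun k => μ k = μ j) :=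
        Finset.disjoint_filter.2 fun k _ ha hb => hj.2 (hb.symm.trans ha)
      have h3 := Finset.card_le_univ ((Finset.univ.filter fun k => μ k = μ i) ∪ (Finset.univ.filter fun k => μ k = μ j))
      rw [Finset.card_union_of_disjoint hdis, hcard] at h3
      omega
    obtain ⟨m, hm⟩ := hd (μ i) hi (hμ i)
    have hm1 : m = 1 := by
      have h3 := Finset.card_le_univ (Finset.univ.filter fun k => μ k = μ i)
      rw [hcard, hm] at h3
      have h0 : 0 < p * m := by rw [← hm]; exact Finset.card_pos.2 ⟨i, by simp⟩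
      have hm0 : 0 < m := Nat.pos_of_mul_pos_left h0
      have : p * m < 2 * p := by omega
      have : m < 2 := Nat.lt_of_mul_lt_mul_left (this.trans_eq (mul_comm 2 p))
      omega
    have hdet : ∏ j, μ j = 1 := by
      rw [← ClassAlgebraMod.det_eq_one_of_perfect hperf ρ (w : G), ← LinearMap.det_toMatrix b]
      have : LinearMap.toMatrix b b (ρ (w : G)) = Matrix.diagonal μ := by
        ext a c
        rw [LinearMap.toMatrix_apply, heig]
        rcases eq_or_ne a c with rfl | h
        · simp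
        · simp [h]
      rw [this, Matrix.det_diagonal]
    have hsplit : ∏ j, μ j = μ i ^ p := by
      rw [← Finset.prod_filter_mul_prod_filter_not Finset.univ (fun j => μ j = μ i),
        Finset.prod_congr rfl (g := fun _ => μ i) (fun j hj => (Finset.mem_filter.1 hj).2),
        Finset.prod_const, hm, hm1, mul_one, Finset.prod_eq_one (fun j hj => ?_), mul_one]
      exact (huniq j).resolve_right (Finset.mem_filter.1 hj).2
    have h5 : orderOf (μ i) ∣ q := orderOf_dvd_of_pow_eq_one (hμ i)
    have h6 : orderOf (μ i) ∣ p := orderOf_dvd_of_pow_eq_one (hsplit.symm.trans hdet)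
    have h7 := Nat.dvd_gcd h5 h6
    rw [(hq.coprime_iff_not_dvd.2 fun h => hqp ((Nat.prime_dvd_prime_iff_eq hq hp).1 h)).gcd_eq_one] at h7
    exact hi (orderOf_eq_one_iff.1 (Nat.dvd_one.1 h7))
  have hw1 : (w : G) = 1 := by
    refine hfaith _ ?_
    rw [← pow_one (w : G), ← hρ, h4, hρ, hχ1]
    simp [hall]
  rw [hw1, orderOf_one] at hw
  exact hq.ne_one hw.symm

end Cfsg.Agent.S4729
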