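import Cfsg.Statements.S4730
import Cfsg.Agent.Lib.ClassAlgebraMod
import Cfsg.Agent.Lib.CharInducedBurnside

set_option autoImplicit false
open Cfsg

namespace Cfsg.Agent.S4730

/-- Let p be a prime, M a maximal ideal of the algebraic integers containing p, and G a finite group with trivial centre, Sylow p-subgroup P of order p^a and centre Z(P) of order p^b. If χ is a faithful irreducible character of G whose degree is a power of p, then the p-block of χ has defect at most a − b; in particular, if P is abelian then χ lies in a block of defect zero. -/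
theorem result {G : Type*} [Group G] [Finite G] (p : ℕ) [Fact p.Prime] (M : Ideal Cfsg.AlgInt) (hM : Cfsg.IsPModular p M) (hZ : Subgroup.center G = ⊥) (P : Sylow p G) (a b : ℕ) (ha : Nat.card P = p ^ a) (hb : Nat.card (Subgroup.center ↥(P : Subgroup G)) = p ^ b) (χ : Cfsg.IrrCharacter G) (hfaith : ∀ g : G, (χ : G → ℂ) g = (χ : G → ℂ) 1 → g = 1) (n : ℕ) (hdeg : Cfsg.charDegree (χ : G → ℂ) = p ^ n) : Cfsg.blockDefect p (Cfsg.blockOf M (χ : G → ℂ)) ≤ a - b ∧ (IsMulCommutative ↥(P : Subgroup G) → Cfsg.blockDefect p (Cfsg.blockOf M (χ : G → ℂ)) = 0) := by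
  classical
  have := Fintype.ofFinite G
  have hp : p.Prime := Fact.out
  set Z : Subgroup G := (Subgroup.center ↥(P : Subgroup G)).map (P : Subgroup G).subtype with hZdef
  have hZc : Nat.card Z = p ^ b := by rw [Subgroup.card_map_of_injective Subtype.val_injective, hb]
  have hidx : ∀ y ∈ Z, ¬ p ∣ (Subgroup.centralizer ({y} : Set G)).index := by
    rintro y ⟨y', hy', rfl⟩ hd
    refine P.not_dvd_index (hd.trans (Subgroup.index_dvd_of_le fun g hg => ?_))
    exact Subgroup.mem_centralizer_singleton_iff.2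
      (congrArg Subtype.val (Subgroup.mem_center_iff.1 hy' ⟨g, hg⟩))
  have hfact : (Nat.card G).factorization p = a :=
    Nat.pow_right_injective hp.two_le (P.card_eq_multiplicity.symm.trans ha)
  obtain ⟨N, ρ, hi, hρ⟩ := χ.2
  have hN : (χ : G → ℂ) 1 = (N : ℂ) := by rw [← hρ, Representation.char_one]; simp
  have hNd : N = p ^ n := by rw [← hdeg]; simp [Cfsg.charDegree, hN]
  have hχ0 : ∀ y ∈ Z, y ≠ 1 → (χ : G → ℂ) y = 0 := by
    intro y hy hy1
    have hcop : Nat.Coprime (Subgroup.centralizer ({y} : Set G)).index (Module.finrank ℂ (Fin N → ℂ)) := by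
      rw [Module.finrank_fin_fun, hNd]
      exact (((hp.coprime_iff_not_dvd).2 (hidx y hy)).symm).pow_right n
    rw [← hρ]
    refine (CharInduced.character_eq_zero_or_norm_eq ρ y (by rw [Nat.coprime_comm]; exact hcop)).resolve_right fun h => ?_
    obtain ⟨ω, hω⟩ := (CharBasic.norm_eq_finrank_iff ρ y).1 h
    have hy' : y ∈ Subgroup.center G := by
      refine Subgroup.mem_center_iff.2 fun g => ?_
      refine eq_of_mul_inv_eq_one (hfaith _ ?_)
      have : ρ (g * y * (y * g)⁻¹) = LinearMap.id := by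
        have h1 : ρ (g * y) = ρ (y * g) := by
          rw [map_mul, map_mul, hω, ← Module.End.one_eq_id, smul_mul_assoc, mul_smul_comm, one_mul, mul_one]
        rw [map_mul, h1, ← map_mul, mul_inv_cancel, map_one, Module.End.one_eq_id]
      rw [← hρ, (CharBasic.character_eq_finrank_iff ρ _).2 this, Representation.char_one]
    rw [hZ, Subgroup.mem_bot] at hy'
    exact hy1 hy'
  have hdef : ∀ ψ ∈ Cfsg.blockOf M (χ : G → ℂ), b ≤ (Cfsg.charDegree (ψ : G → ℂ)).factorization p := by
    intro ψ hψ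
    by_contra hlt
    push Not at hlt
    set d := Cfsg.charDegree (ψ : G → ℂ) with hd
    set j := d.factorization p with hj
    set m := d / p ^ j with hm
    have hd0 : d ≠ 0 := (ClassAlgebraVal.charDegree_pos ψ).ne'
    have hdm : (d : ℂ) = (p : ℂ) ^ j * (m : ℂ) := by
      exact_mod_cast (Nat.ordProj_mul_ordCompl_eq_self d p).symm
    have hm0 : ¬ p ∣ m := Nat.not_dvd_ordCompl hp hd0
    have hp0 : (p : ℂ) ^ j ≠ 0 := pow_ne_zero _ (Nat.cast_ne_zero.2 hp.ne_zero)
    have hψ1 : (ψ : G → ℂ) 1 = (d : ℂ) := ClassAlgebraVal.apply_one_eq_charDegree ψ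
    have hterm : ∀ y ∈ Z, y ≠ 1 → Cfsg.MemLocalIdeal M ((ψ : G → ℂ) y / (p : ℂ) ^ j) := by
      intro y hy hy1
      have h1 := BlockTheoryLocalRing.ideal_neg (hψ y)
      rw [Cfsg.centralChar, hχ0 y hy hy1, mul_zero, zero_div, zero_sub, neg_neg, Cfsg.centralChar, hψ1, hdm] at h1
      have h2 := BlockTheoryLocalRing.ideal_mul_left hM (BlockTheoryLocalRing.inv_natCast_mem hM (hidx y hy))
        (BlockTheoryLocalRing.ideal_mul_right hM h1 (natCast_mem (BlockTheoryLocalRing.localRing hM) m))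
      have hi0 : ((Subgroup.centralizer ({y} : Set G)).index : ℂ) ≠ 0 :=
        Nat.cast_ne_zero.2 Subgroup.index_ne_zero_of_finite
      have hm1 : (m : ℂ) ≠ 0 := Nat.cast_ne_zero.2 (fun e => hm0 (e ▸ dvd_zero p))
      convert h2 using 1
      field_simp
    obtain ⟨t, ht⟩ := ClassAlgebraVal.exists_sum_subgroup (ClassAlgebraVal.irr_isCharacter ψ) Z
    have ht' : ∑ u : Z, (ψ : G → ℂ) u = (p : ℂ) ^ b * (t : ℂ) := by
      have := congrArg (starRingEnd ℂ) ht
      rw [hZc, map_sum] at this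
      simpa using this
    have hsplit : ∑ u : Z, (ψ : G → ℂ) u / (p : ℂ) ^ j =
        (m : ℂ) + ∑ u ∈ Finset.univ.erase (1 : Z), (ψ : G → ℂ) u / (p : ℂ) ^ j := by
      rw [← Finset.add_sum_erase _ _ (Finset.mem_univ (1 : Z)), OneMemClass.coe_one, hψ1, hdm,
        mul_div_cancel_left₀ _ hp0]
    have h1 : Cfsg.MemLocalIdeal M (m : ℂ) := by
      have h2 : Cfsg.MemLocalIdeal M (∑ u : Z, (ψ : G → ℂ) u / (p : ℂ) ^ j) := by
        rw [← Finset.sum_div, ht', show (p : ℂ) ^ b * (t : ℂ) / (p : ℂ) ^ j = ((p ^ (b - j) * t : ℕ) : ℂ) by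
          push_cast
          rw [show (p : ℂ) ^ b = (p : ℂ) ^ (b - j) * (p : ℂ) ^ j by
            rw [← pow_add, Nat.sub_add_cancel hlt.le]]
          field_simp]
        exact (BlockTheoryLocalRing.natCast_mem_iff hM).2 ((dvd_pow_self p (by omega : b - j ≠ 0)).mul_right t)
      have h3 : Cfsg.MemLocalIdeal M (∑ u ∈ Finset.univ.erase (1 : Z), (ψ : G → ℂ) u / (p : ℂ) ^ j) :=
        BlockTheoryLocalRing.ideal_sum hM fun u hu =>
          hterm u u.2 (fun e => (Finset.mem_erase.1 hu).1 (Subtype.ext e))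
      have h4 := BlockTheoryLocalRing.ideal_sub hM h2 h3
      rwa [hsplit, add_sub_cancel_right] at h4
    exact hm0 ((BlockTheoryLocalRing.natCast_mem_iff hM).1 h1)
  have hmin : b ≤ sInf ((fun ψ : Cfsg.IrrCharacter G => (Cfsg.charDegree (ψ : G → ℂ)).factorization p) '' Cfsg.blockOf M (χ : G → ℂ)) := by
    refine le_csInf (Set.Nonempty.image _ ⟨χ, ?_⟩) ?_
    · intro g
      rw [sub_self]
      exact BlockTheoryLocalRing.ideal_zero hM
    · rintro _ ⟨ψ, hψ, rfl⟩
      exact hdef ψ hψ
  refine ⟨?_, fun hab => ?_⟩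
  · simp only [Cfsg.blockDefect, hfact]
    omega
  · have hba : b = a := by
      refine Nat.pow_right_injective hp.two_le (hb.symm.trans ((Nat.card_congr ?_).trans ha))
      have htop : Subgroup.center ↥(P : Subgroup G) = ⊤ :=
        eq_top_iff.2 fun g _ => Subgroup.mem_center_iff.2 fun h => hab.is_comm.comm h g
      exact (MulEquiv.subgroupCongr htop).toEquiv.trans Subgroup.topEquiv.toEquiv
    simp only [Cfsg.blockDefect, hfact]
    omega

end Cfsg.Agent.S4730
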