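import Cfsg.Statements.S4732
import Mathlib
import Cfsg.Agent.Lib.JordanCharP80Bound

set_option autoImplicit false
universe u v
open Cfsg

namespace Cfsg.Agent.S4732

open Cfsg.Agent.JordanCharP80Diag Cfsg.Agent.JordanCharP80Red Cfsg.Agent.JordanCharP80Bound
open Cfsg.Agent.JordanCharP80Classes (Hyp)

theorem good_all (p m : ℕ) [Fact p.Prime] :
    ∀ n, ∃ h, ∀ (K : Type v) [Field K] [IsAlgClosed K] [CharP K p], Good.{u, v, v} K p m n h := by
  intro n
  induction n with
  | zero =>
    refine ⟨1, fun K _ _ _ G _ _ V _ _ _ ρ hρ hV _ => ?_⟩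
    haveI : Subsingleton V := Module.finrank_zero_iff.1 (Nat.le_zero.1 hV)
    haveI : Subsingleton G := ⟨fun a b => hρ (Subsingleton.elim _ _)⟩
    refine ⟨⊤, fun x _ y _ => Subsingleton.elim _ _, ?_, ?_⟩
    · rw [Subgroup.card_top, Nat.card_of_subsingleton (1 : G)]
      exact (Fact.out : p.Prime).not_dvd_one
    · rw [Subgroup.index_top]
  | succ n ih =>
    obtain ⟨h, hh⟩ := ih
    obtain ⟨B, hB⟩ := main_bound.{u, v, v} p m (n + 1)
      (h * h * (p ^ m).factorial * p ^ m)
      ((h * h * (p ^ m).factorial * p ^ m).factorial * p ^ m)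
    refine ⟨B, fun K _ _ _ G _ _ V _ _ _ ρ hρ hV hm => hB (ρ := ρ)
      ⟨hρ, hV, hm, Nat.mul_pos (Nat.factorial_pos _) (pow_pos (Fact.out : p.Prime).pos m),
        dvd_mul_left _ _, fun g hg => centralizer_bound p m n h (hh K) ρ hρ hV hm g hg⟩⟩

theorem normal_core {G : Type u} [Group G] [Finite G] (A : Subgroup G) :
    A.normalCore.index ≤ A.index.factorial := by
  rw [Subgroup.normalCore_eq_ker, Subgroup.index_ker, Subgroup.index_eq_card, ← Nat.card_perm]
  exact Nat.card_le_card_of_injective _ Subtype.val_injective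

/-- Let p be a prime. There is a function f of two natural-number arguments such that every finite group G admitting a faithful representation of degree n over a field of characteristic p, with Sylow p-subgroups of order p^m, has a normal abelian subgroup A with [G : A] < f(m, n). -/
theorem result (p : ℕ) [Fact p.Prime] : ∃ f : ℕ → ℕ → ℕ, ∀ (G : Type u) [Group G] [Finite G] (F : Type v) [Field F] [CharP F p] (n : ℕ) (ρ : Representation F G (Fin n → F)), Function.Injective ρ → ∀ m : ℕ, (Nat.card G).factorization p = m → ∃ A : Subgroup G, A.Normal ∧ IsMulCommutative A ∧ A.index < f m n := by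
  choose h hh using fun m n : ℕ => good_all.{u, v} p m n
  refine ⟨fun m n => (h m n).factorial + 1, fun G _ _ F _ _ n ρ hρ m hm => ?_⟩
  haveI : CharP (AlgebraicClosure F) p :=
    charP_of_injective_algebraMap (FaithfulSMul.algebraMap_injective F (AlgebraicClosure F)) p
  let φ : Module.End F (Fin n → F) →* Module.End (AlgebraicClosure F) (Fin n → AlgebraicClosure F) :=
    ((Matrix.toLinAlgEquiv' (R := AlgebraicClosure F) (n := Fin n)).toMonoidHom.comp
      ((algebraMap F (AlgebraicClosure F)).mapMatrix.toMonoidHom)).comp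
      (LinearMap.toMatrixAlgEquiv' (R := F) (n := Fin n)).toMonoidHom
  have hφ : Function.Injective φ :=
    (Matrix.toLinAlgEquiv'.injective.comp
      (Matrix.map_injective (algebraMap F (AlgebraicClosure F)).injective)).comp
      LinearMap.toMatrixAlgEquiv'.injective
  have hsyl : ¬ p ^ (m + 1) ∣ Nat.card G := fun hd => by
    have := ((Fact.out : p.Prime).pow_dvd_iff_le_factorization Nat.card_pos.ne').1 hd
    omega
  obtain ⟨A, hAc, -, hAi⟩ := hh m n (AlgebraicClosure F) G (Fin n → AlgebraicClosure F) (φ.comp ρ)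
    (hφ.comp hρ) (le_of_eq (Module.finrank_fin_fun _)) hsyl
  refine ⟨A.normalCore, inferInstance,
    ⟨⟨fun x y => Subtype.ext (hAc x (A.normalCore_le x.2) y (A.normalCore_le y.2))⟩⟩, ?_⟩
  exact Nat.lt_succ_of_le ((normal_core A).trans (Nat.factorial_le hAi))

end Cfsg.Agent.S4732
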