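import Cfsg.Statements.S4733
import Cfsg.Agent.Lib.BlockContribBounds

set_option autoImplicit false
open Cfsg

namespace Cfsg.Agent.S4733

section
open scoped ComplexConjugate
open Cfsg BlockTheoryLocalRing BlockTheoryCentre BlockTheoryIdem BlockContrib BlockContribBounds

theorem defect_zero_of_rank_eq {G : Type*} [Group G] [Fintype G] {p : ℕ} {M : Ideal AlgInt}
    (hM : IsPModular p M) {B : Set (IrrCharacter G)} (hB : IsPBlock M B)
    (hli : LinearIndependent ℂ (fun χ : B => pRegularPart p ((χ : IrrCharacter G) : G → ℂ))) :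
    blockDefect p B = 0 := by
  classical
  obtain ⟨φ, hφ, hφ0⟩ := exists_height_zero hM hB
  set c := (cofactor p G : ℂ) * (p : ℂ) ^ minExp p B with hc
  have hrel : (∑ χ : B, (pair p ((χ : IrrCharacter G) : G → ℂ) φ -
      if (χ : IrrCharacter G) = φ then (Nat.card G : ℂ) else 0) • pRegularPart p ((χ : IrrCharacter G) : G → ℂ)) = 0 := by
    funext g
    simp only [Finset.sum_apply, Pi.smul_apply, smul_eq_mul, Pi.zero_apply, pRegularPart]
    by_cases hg : p ∣ orderOf g
    · simp [IsPRegular, hg]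
    · have h := sum_pair_mul hM hB hφ hg
      rw [← Finset.sum_filter, Finset.sum_subtype _ (p := (· ∈ B)) (by simp)
        (fun ψ : IrrCharacter G => pair p (ψ : G → ℂ) φ * (ψ : G → ℂ) g)] at h
      simp only [show IsPRegular p g from hg, if_true, sub_mul, Finset.sum_sub_distrib]
      rw [h, Finset.sum_eq_single (⟨φ, hφ⟩ : B)]
      · simp
      · intro χ _ hne
        rw [if_neg (fun e => hne (Subtype.ext e)), zero_mul]
      · simp
  have hcoef : pair p (φ : G → ℂ) φ = (Nat.card G : ℂ) := by
    have := Fintype.linearIndependent_iff.1 hli _ hrel ⟨φ, hφ⟩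
    simpa [sub_eq_zero] using this
  have hG : (Nat.card G : ℂ) = c * (p : ℂ) ^ blockDefect p B := by
    have h := pow_mul_cofactor (G := G) p
    rw [← minExp_add_defect hM hB, pow_add] at h
    rw [hc, ← h]; push_cast; ring
  rw [pair_eq_contrib hM.1 φ hφ, ← hc, hG] at hcoef
  have h2 : contrib p B φ φ = (p : ℤ) ^ blockDefect p B := by
    exact_mod_cast mul_left_cancel₀ (scale_ne_zero hM.1 B) hcoef
  have h3 := contrib_not_dvd hM hB hφ hφ0 hφ
  rw [hφ0, zero_add, pow_one, h2] at h3
  by_contra hd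
  exact h3 (dvd_pow_self _ hd)

end

/-- Let p be a prime, M a maximal ideal of the algebraic integers containing p, and B a p-block of the finite group G with k irreducible characters and p-regular rank l (the number of irreducible Brauer characters). Then l ≤ k, and the following are equivalent: B has defect 0; k = l = 1; k = l. -/
theorem result {G : Type*} [Group G] [Finite G] (p : ℕ) [Fact p.Prime] (M : Ideal Cfsg.AlgInt) (hM : Cfsg.IsPModular p M) (B : Set (Cfsg.IrrCharacter G)) (hB : Cfsg.IsPBlock M B) : Cfsg.blockRank p B ≤ Nat.card B ∧ (Cfsg.blockDefect p B = 0 ↔ (Nat.card B = 1 ∧ Cfsg.blockRank p B = 1)) ∧ (Cfsg.blockDefect p B = 0 ↔ Nat.card B = Cfsg.blockRank p B) := by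
  classical
  have := Fintype.ofFinite G
  set f : B → (G → ℂ) := fun χ => Cfsg.pRegularPart p ((χ : Cfsg.IrrCharacter G) : G → ℂ) with hf
  have hrank : Cfsg.blockRank p B = (Set.range f).finrank ℂ := by
    rw [Cfsg.blockRank, Set.finrank, hf, Set.range_comp' (fun χ : Cfsg.IrrCharacter G => Cfsg.pRegularPart p (χ : G → ℂ)) (Subtype.val : B → Cfsg.IrrCharacter G), Subtype.range_coe]
  have hle : Cfsg.blockRank p B ≤ Nat.card B := by
    rw [hrank, Nat.card_eq_fintype_card]
    exact finrank_range_le_card f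
  have hkl : Nat.card B = Cfsg.blockRank p B → Cfsg.blockDefect p B = 0 := by
    intro h
    refine defect_zero_of_rank_eq hM hB (linearIndependent_iff_card_eq_finrank_span.2 ?_)
    rw [← Nat.card_eq_fintype_card, h, hrank]
  have h0 : Cfsg.blockDefect p B = 0 → Nat.card B = 1 ∧ Cfsg.blockRank p B = 1 := by
    intro h
    have h1 := BlockContribBounds.eq_singleton_of_defect_zero hM hB h
    refine ⟨h1, le_antisymm (h1 ▸ hle) ?_⟩
    obtain ⟨φ, hφ, -⟩ := BlockContrib.exists_height_zero hM hB
    refine Nat.one_le_iff_ne_zero.2 fun hz => ?_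
    rw [Cfsg.blockRank, Submodule.finrank_eq_zero, Submodule.span_eq_bot] at hz
    have h2 := congrFun (hz _ ⟨φ, hφ, rfl⟩) 1
    simp only [Cfsg.pRegularPart, Cfsg.IsPRegular, orderOf_one, Pi.zero_apply] at h2
    rw [if_pos (by simpa using hM.1.ne_one)] at h2
    exact CharBasic.isIrrCharacter_apply_one_ne_zero φ.2 h2
  exact ⟨hle, ⟨h0, fun h => hkl (h.1.trans h.2.symm)⟩, ⟨fun h => (h0 h).1.trans (h0 h).2.symm, hkl⟩⟩

end Cfsg.Agent.S4733
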