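import Cfsg.Statements.S4734
import Cfsg.Agent.Lib.BlockPiKernel
import Cfsg.Agent.Lib.BlockContribSection

set_option autoImplicit false
open Cfsg

namespace Cfsg.Agent.S4734

section
open Cfsg BlockTheoryLocalRing BlockTheoryCentre BlockTheoryIdem BlockTheoryBrauer BlockTheoryDefect
open BrauerPairs81Base BrauerPairs81Pairs BrauerPairs81Conj BrauerPairs81Local BlockPiKernel
attribute [local instance] Classical.propDecidable

theorem main {G : Type*} [Group G] [Fintype G] {p : ℕ} [Fact p.Prime] {M : Ideal AlgInt}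
    (hM : IsPModular p M) {π : Set ℕ} (hπ : p ∈ π) {B : Set (IrrCharacter G)} {D : Subgroup G}
    (hBD : IsDefectGroup p M B D)
    {B₁ : Set (IrrCharacter (Subgroup.normalizer (D : Set G)))}
    (hB₁ : IsInducedBlock M (Subgroup.normalizer (D : Set G)) B₁ B)
    (hB₁D : IsDefectGroup p M B₁ (D.subgroupOf (Subgroup.normalizer (D : Set G))))
    (hker : CoreKer π B₁) (G₀ : Subgroup G) {B₀ : Set (IrrCharacter G₀)}
    (hB₀ : IsInducedBlock M G₀ B₀ B) {D₀ : Subgroup G₀} (hD₀ : IsDefectGroup p M B₀ D₀)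
    (hC : Subgroup.centralizer ((D₀.map G₀.subtype : Subgroup G) : Set G) ≤ G₀) :
    CoreKer π B₀ := by
  obtain ⟨e, hmax, he⟩ := exists_max_coreKer hM hπ hBD hB₁ hB₁D hker
  obtain ⟨e₀, he₀⟩ := exists_pairOf_of_not_small hM hB₀.1 (isPGroup_of_isDefectGroup hD₀)
    (not_small_cut_defect hM hB₀.1 hD₀)
  have h := coreKer_of_pair hM hπ hmax he (pair_up hM hB₀ he₀ hC)
  rw [coreKer_push] at h
  exact coreKer_block_of_pair hM hπ he₀ h

end

/-- Let p be a prime, π a set of primes containing p, M a maximal ideal of the algebraic integers containing p, B a p-block of the finite group G with defect group D, and B₁ the block of N_G(D) with defect group D inducing B. Write O_π'(X) for the largest normal subgroup of X whose order has no prime divisor in π, and suppose every element of O_π'(N_G(D)) lies in the kernel of every member of B₁. Let G₀ be a subgroup and B₀ a block of G₀ with defect group D₀ such that C_G(D₀) ≤ G₀ and B₀ induces B. Then every element of O_π'(G₀) lies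 in the kernel of every member of B₀. -/
theorem result {G : Type*} [Group G] [Finite G] (p : ℕ) [Fact p.Prime] (M : Ideal Cfsg.AlgInt) (hM : Cfsg.IsPModular p M) (π : Set ℕ) (hpπ : p ∈ π) (B : Set (Cfsg.IrrCharacter G)) (hB : Cfsg.IsPBlock M B) (D : Subgroup G) (hBD : Cfsg.IsDefectGroup p M B D) (B₁ : Set (Cfsg.IrrCharacter ↥(Subgroup.normalizer (D : Set G)))) (hB₁ : Cfsg.IsInducedBlock M (Subgroup.normalizer (D : Set G)) B₁ B) (hB₁D : Cfsg.IsDefectGroup p M B₁ (D.subgroupOf (Subgroup.normalizer (D : Set G)))) (hker : ∀ n : ↥(Subgroup.normalizer (D : Set G)), n ∈ Cfsg.piCore {q | q ∉ π} ↥(Subgroup.normalizer (D : Set G)) → n ∈ Cfsg.blockKer B₁) (G₀ : Subgroup G) (B₀ : Set (Cfsg.IrrCharacter ↥G₀)) (hB₀ : Cfsg.IsInducedBlock M G₀ B₀ B) (D₀ : Subgroup ↥G₀) (hD₀ : Cfsg.IsDefectGroup p M B₀ D₀) (hC : Subgroup.centralizer ((D₀.map G₀.subtype : Subgroup G) : Set G) ≤ G₀) : ∀ x : ↥G₀, x ∈ Cfsg.piCore {q | q ∉ π} ↥G₀ → x ∈ Cfsg.blockKer B₀ := by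
  classical
  have := Fintype.ofFinite G
  exact main hM hpπ hBD hB₁ hB₁D hker G₀ hB₀ hD₀ hC

end Cfsg.Agent.S4734
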