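import Cfsg.Statements.S4735
import Cfsg.Agent.Lib.PrincipalQuot80
import Cfsg.Agent.Lib.GaloisChar80

set_option autoImplicit false
open Cfsg

namespace Cfsg.Agent.S4735

open Cfsg.Agent.BlockTheoryIdem Cfsg.Agent.BlockTheoryCentre
open Cfsg.Agent.CharBasic Cfsg.Agent.CharBasicOrth Cfsg.Agent.CharBasicDecomp
open Cfsg.Agent.GaloisChar80
open scoped ComplexConjugate Cardinal

attribute [local instance] Classical.propDecidable

universe u

/-- An integral number fixed by every automorphism of the complex numbers is an integer. -/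
theorem exists_int_of_fixed {z : ℂ} (hi : IsIntegral ℤ z) (hfix : ∀ σ : ℂ ≃+* ℂ, σ z = z) :
    ∃ a : ℤ, z = a := by
  let L := algebraicClosure ℚ ℂ
  haveI : IsAlgClosure ℚ L := algebraicClosure.isAlgClosure ℚ ℂ
  haveI : IsAlgClosed L := IsAlgClosure.isAlgClosed ℚ
  haveI : Normal ℚ L := IsAlgClosure.normal ℚ L
  have hzQ : IsIntegral ℚ z := hi.tower_top
  have hzL : z ∈ L := mem_algebraicClosure_iff.2 hzQ.isAlgebraic
  let z0 : L := ⟨z, hzL⟩
  have hint : IsIntegral ℚ z0 :=
    (isIntegral_algHom_iff L.val Subtype.val_injective (x := z0)).1 hzQ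
  have hdeg : (minpoly ℚ z0).natDegree = 1 := by
    by_contra hne
    have hsep : (minpoly ℚ z0).Separable := (minpoly.irreducible hint).separable
    have hcard := Polynomial.card_rootSet_eq_natDegree (K := L) hsep (IsAlgClosed.splits _)
    have hpos := minpoly.natDegree_pos hint
    obtain ⟨w, hw, hwz⟩ : ∃ w ∈ (minpoly ℚ z0).rootSet L, w ≠ z0 := by
      by_contra hall
      push Not at hall
      have hle : Fintype.card ((minpoly ℚ z0).rootSet L) ≤ 1 :=
        Fintype.card_le_one_iff.2 fun a b => Subtype.ext ((hall a a.2).trans (hall b b.2).symm)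
      omega
    obtain ⟨σ0, hσ0⟩ := minpoly.exists_algEquiv_of_root'
      (Algebra.IsAlgebraic.isAlgebraic z0) (Polynomial.mem_rootSet.1 hw).2
    have hR : #L ≤ ℵ₀ :=
      (Algebra.IsAlgebraic.cardinalMk_le_max ℚ L).trans (max_le (Cardinal.mk_le_aleph0) le_rfl)
    have hC : ℵ₀ < #ℂ := by rw [Cardinal.mk_complex]; exact Cardinal.aleph0_lt_continuum
    let j : L →+* ℂ := algebraMap L ℂ
    have key : ∃ f : ℂ ≃+* ℂ, ∀ r : L, f (j r) = j (σ0 r) :=
      @exists_extend L _ _ hR ℂ ℂ _ _ _ _ _ (j.comp σ0.toRingEquiv.toRingHom).toAlgebra hC rfl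
    obtain ⟨f, hf⟩ := key
    refine hwz (Subtype.ext ?_)
    have h1 := hf z0
    rw [hσ0] at h1
    exact h1.symm.trans (hfix f)
  obtain ⟨q, hq⟩ := minpoly.natDegree_eq_one_iff.1 hdeg
  have hzq : z = algebraMap ℚ ℂ q := by
    have := congrArg Subtype.val hq
    simpa [z0] using this.symm
  rw [hzq, isIntegral_algebraMap_iff (algebraMap ℚ ℂ).injective] at hi
  obtain ⟨a, ha⟩ := IsIntegrallyClosed.isIntegral_iff.1 hi
  exact ⟨a, by rw [hzq, ← ha]; simp⟩

/-- Every automorphism of `ℂ` acts on characters by a power map. -/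
theorem exists_pow_of_aut {G : Type u} [Group G] [Finite G] (σ : ℂ ≃+* ℂ) :
    ∃ k : ℕ, k.Coprime (Nat.card G) ∧
      ∀ χ : G → ℂ, IsCharacter G χ → ∀ g, σ (χ g) = χ (g ^ k) := by
  have hn : Nat.card G ≠ 0 := Nat.card_pos.ne'
  haveI : NeZero (Nat.card G) := ⟨hn⟩
  obtain ⟨ζ, hζ⟩ : ∃ ζ : ℂ, IsPrimitiveRoot ζ (Nat.card G) :=
    ⟨_, Complex.isPrimitiveRoot_exp _ hn⟩
  have hσζ : IsPrimitiveRoot (σ ζ) (Nat.card G) := hζ.map_of_injective σ.injective
  obtain ⟨k, -, hk⟩ := hζ.eq_pow_of_pow_eq_one hσζ.pow_eq_one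
  refine ⟨k, (hζ.pow_iff_coprime (Nat.pos_of_ne_zero hn) k).1 (hk ▸ hσζ), ?_⟩
  rintro χ ⟨n, ρ, rfl⟩ g
  obtain ⟨b, μ, -, hμ, -, hpow⟩ := exists_rep_eigenbasis ρ g
  have h1 : ρ.character g = ∑ i, μ i := by simpa using hpow 1
  rw [h1, hpow k, map_sum]
  refine Finset.sum_congr rfl fun i _ => ?_
  obtain ⟨m, hm⟩ := orderOf_dvd_natCard g
  obtain ⟨j, -, hj⟩ := hζ.eq_pow_of_pow_eq_one
    (show μ i ^ Nat.card G = 1 by rw [hm, pow_mul, hμ, one_pow])
  rw [← hj, map_pow, ← hk, ← pow_mul, ← pow_mul, mul_comm]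

variable {p : ℕ} {M : Ideal AlgInt} {G : Type u} [Group G] [Fintype G]

theorem exists_nat_lambda (hM : IsPModular p M) (x : G) :
    ∃ n : ℕ, 0 < n ∧ ∑ χ : IrrCharacter G,
      (if χ ∈ principalBlock M G then Complex.normSq ((χ : G → ℂ) x) else 0) = n := by
  set z : ℂ := ∑ χ : IrrCharacter G,
    if χ ∈ principalBlock M G then (χ : G → ℂ) x * (χ : G → ℂ) x⁻¹ else 0 with hz
  have hzre : z = ((∑ χ : IrrCharacter G,
      (if χ ∈ principalBlock M G then Complex.normSq ((χ : G → ℂ) x) else 0) : ℝ) : ℂ) := by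
    rw [hz, Complex.ofReal_sum]
    refine Finset.sum_congr rfl fun χ _ => ?_
    split_ifs
    · rw [irr_inv, Complex.mul_conj]
    · simp
  have hint : IsIntegral ℤ z := IsIntegral.sum _ fun χ _ => by
    split_ifs
    · exact (isCharacter_integral (isCharacter_of_isIrrCharacter χ.2) _).mul
        (isCharacter_integral (isCharacter_of_isIrrCharacter χ.2) _)
    · exact isIntegral_zero
  obtain ⟨a, ha⟩ := exists_int_of_fixed hint fun σ => by
    obtain ⟨k, hk, hσ⟩ := exists_pow_of_aut (G := G) σ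
    have hb : Function.Bijective (twist (G := G) hk) :=
      Finite.injective_iff_bijective.1 (twist_injective hk)
    have hmem : ∀ χ : IrrCharacter G,
        (twist hk χ ∈ principalBlock M G ↔ χ ∈ principalBlock M G) := by
      intro χ
      refine ⟨fun h => ?_, twist_mem_principalBlock hk⟩
      by_contra hχ
      let f : {χ : IrrCharacter G // χ ∈ principalBlock M G} →
          {χ : IrrCharacter G // χ ∈ principalBlock M G} :=
        fun χ => ⟨twist hk χ.1, twist_mem_principalBlock hk χ.2⟩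
      have hf : Function.Surjective f := Finite.injective_iff_surjective.1 fun a b h =>
        Subtype.ext (twist_injective hk (congrArg Subtype.val h))
      obtain ⟨c, hc⟩ := hf ⟨_, h⟩
      exact hχ (twist_injective hk (congrArg Subtype.val hc) ▸ c.2)
    rw [hz, map_sum, ← hb.sum_comp (g := fun χ : IrrCharacter G =>
      if χ ∈ principalBlock M G then (χ : G → ℂ) x * (χ : G → ℂ) x⁻¹ else 0)]
    refine Finset.sum_congr rfl fun χ _ => ?_
    by_cases hχ : χ ∈ principalBlock M G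
    · simp only [if_pos hχ, if_pos ((hmem χ).2 hχ), map_mul,
        hσ _ (isCharacter_of_isIrrCharacter χ.2), twist_apply]
    · simp [hχ, hmem χ]
  rw [hzre] at ha
  set r := ∑ χ : IrrCharacter G,
    (if χ ∈ principalBlock M G then Complex.normSq ((χ : G → ℂ) x) else 0) with hr
  have hra : r = (a : ℝ) := by exact_mod_cast ha
  have h1 : 1 ≤ r := by
    have h := Finset.single_le_sum (f := fun χ : IrrCharacter G =>
      if χ ∈ principalBlock M G then Complex.normSq ((χ : G → ℂ) x) else 0)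
      (fun χ _ => by split_ifs; exacts [Complex.normSq_nonneg _, le_rfl])
      (Finset.mem_univ (trivIrr G))
    rw [if_pos (show trivIrr G ∈ principalBlock M G from sameBlock_refl hM _)] at h
    simpa [trivIrr] using h
  have ha1 : 1 ≤ a := by exact_mod_cast hra ▸ h1
  refine ⟨a.toNat, by omega, ?_⟩
  rw [hra]
  exact_mod_cast (Int.toNat_of_nonneg (by omega : 0 ≤ a)).symm

theorem sum_infl [Fact p.Prime] (hM : IsPModular p M) (K : Subgroup G) [K.Normal]
    [Fintype (G ⧸ K)] (hK : ¬ p ∣ Nat.card K) {A : Type*} [AddCommMonoid A]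
    (F : IrrCharacter G → A) :
    (∑ χ : IrrCharacter G, if χ ∈ principalBlock M G then F χ else 0) =
      ∑ ψ : IrrCharacter (G ⧸ K),
        if ψ ∈ principalBlock M (G ⧸ K) then F (PrincipalQuot80.infl K ψ) else 0 := by
  rw [← Finset.sum_filter, ← Finset.sum_filter]
  symm
  refine Finset.sum_nbij (PrincipalQuot80.infl K) (fun ψ hψ => ?_)
    (fun a _ b _ h => PrincipalQuot80.infl_injective K h) (fun χ hχ => ?_) fun _ _ => rfl
  · simp only [Finset.mem_filter, Finset.mem_univ, true_and] at hψ ⊢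
    exact PrincipalQuot80.infl_mem K hM hψ
  · simp only [Finset.coe_filter, Finset.mem_univ, true_and, Set.mem_setOf_eq] at hχ
    obtain ⟨ψ, hψ, rfl⟩ := PrincipalQuot80.exists_infl_eq K hM hK hχ
    exact ⟨ψ, by simpa using hψ, rfl⟩

theorem deg_sum_eq_card_iff (hM : IsPModular p M) :
    (∑ χ : IrrCharacter G, if χ ∈ principalBlock M G then charDegree (χ : G → ℂ) ^ 2 else 0) =
      Nat.card G ↔ ∀ B : Set (IrrCharacter G), IsPBlock M B → B = principalBlock M G := by
  have htot : ∑ χ : IrrCharacter G, charDegree (χ : G → ℂ) ^ 2 = Nat.card G := by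
    have h := sum_sq_apply_one (G := G)
    simp only [fun χ : IrrCharacter G => PrincipalSylow80.irr_charDegree χ] at h
    exact_mod_cast h
  have hP : IsPBlock M (principalBlock M G) := ⟨trivIrr G, rfl⟩
  constructor
  · intro h B hB
    obtain ⟨χ, hχ⟩ := block_nonempty hM hB
    refine block_eq_of_mem hM hB hP hχ ?_
    by_contra hn
    have hlt : (∑ χ : IrrCharacter G, if χ ∈ principalBlock M G then
        charDegree (χ : G → ℂ) ^ 2 else 0) < ∑ χ : IrrCharacter G, charDegree (χ : G → ℂ) ^ 2 := by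
      refine Finset.sum_lt_sum (fun ψ _ => ?_) ⟨χ, Finset.mem_univ _, ?_⟩
      · split_ifs
        exacts [le_rfl, Nat.zero_le _]
      · rw [if_neg hn]
        refine Nat.pos_of_ne_zero fun e => irr_one_ne_zero χ ?_
        rw [pow_eq_zero_iff two_ne_zero] at e
        rw [PrincipalSylow80.irr_charDegree χ, e, Nat.cast_zero]
    omega
  · intro h
    rw [← htot]
    refine Finset.sum_congr rfl fun χ _ => if_pos ?_
    rw [← h _ (isPBlock_blockOf (M := M) χ)]
    exact self_mem_blockOf hM χ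

end Cfsg.Agent.S4735

namespace Cfsg.Agent.S4735

/-- Let p be a prime, M a maximal ideal of the algebraic integers containing p, G a finite group, H = O_p'(G) and Ḡ = G/H. For x ∈ G write λ(G, x) for the sum of |χ(x)|^2 over the irreducible characters χ in the principal p-block of G. Then λ(G, x) is a positive integer, λ(G, x) = λ(Ḡ, x̄) where x̄ is the image of x, and λ(G, x) ≤ #C_Ḡ(x̄). Moreover λ(G, 1) = [G : H] if and only if the principal block is the only p-block of Ḡ. -/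
theorem result {G : Type*} [Group G] [Finite G] (p : ℕ) [Fact p.Prime] (M : Ideal Cfsg.AlgInt) (hM : Cfsg.IsPModular p M) (x : G) : (∃ n : ℕ, 0 < n ∧ ∑ᶠ χ ∈ Cfsg.principalBlock M G, Complex.normSq ((χ : G → ℂ) x) = n) ∧ ∑ᶠ χ ∈ Cfsg.principalBlock M G, Complex.normSq ((χ : G → ℂ) x) = ∑ᶠ ψ ∈ Cfsg.principalBlock M (G ⧸ Cfsg.pPrimeCore p G), Complex.normSq ((ψ : G ⧸ Cfsg.pPrimeCore p G → ℂ) (QuotientGroup.mk x)) ∧ ∑ᶠ χ ∈ Cfsg.principalBlock M G, Complex.normSq ((χ : G → ℂ) x) ≤ (Nat.card ↥(Subgroup.centralizer ({(QuotientGroup.mk x : G ⧸ Cfsg.pPrimeCore p G)} : Set (G ⧸ Cfsg.pPrimeCore p G))) : ℝ) ∧ ((∑ᶠ χ ∈ Cfsg.principalBlock M G, Cfsg.charDegree (χ : G → ℂ) ^ 2) = (Cfsg.pPrimeCore p G).index ↔ ∀ B : Set (Cfsg.IrrCharacter (G ⧸ Cfsg.pPrimeCore p G)), Cfsg.IsPBlock M B → B = Cfsg.principalBlock M (G ⧸ Cfsg.pPrimeCore p G)) := by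
  classical
  haveI : Fintype G := Fintype.ofFinite G
  haveI := HallCore.pPrimeCore_normal p G
  haveI : Fintype (G ⧸ Cfsg.pPrimeCore p G) := Fintype.ofFinite _
  have hK : ¬ p ∣ Nat.card (Cfsg.pPrimeCore p G) := fun h => (Fact.out : p.Prime).ne_one
    (Nat.eq_one_of_dvd_coprimes (HallCore.coprime_card_pPrimeCore p G) h dvd_rfl)
  simp only [BlockTheoryIdem.finsum_mem_eq_sum]
  obtain ⟨n, hn, hsum⟩ := exists_nat_lambda hM x
  have heq := sum_infl hM (Cfsg.pPrimeCore p G) hK (fun χ => Complex.normSq ((χ : G → ℂ) x))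
  refine ⟨⟨n, hn, hsum⟩, heq, ?_, ?_⟩
  · rw [heq]
    have h := CharBasicOrth.sum_irr_mul_conj (G := G ⧸ Cfsg.pPrimeCore p G) (QuotientGroup.mk x)
      (QuotientGroup.mk x)
    rw [if_pos (IsConj.refl _)] at h
    simp only [Complex.mul_conj] at h
    rw [← Complex.ofReal_sum, ← Complex.ofReal_natCast, Complex.ofReal_inj] at h
    rw [← h]
    refine Finset.sum_le_sum fun ψ _ => ?_
    split_ifs
    exacts [le_rfl, Complex.normSq_nonneg _]
  · rw [sum_infl hM (Cfsg.pPrimeCore p G) hK (fun χ => Cfsg.charDegree (χ : G → ℂ) ^ 2)]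
    exact deg_sum_eq_card_iff hM

end Cfsg.Agent.S4735
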