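import Cfsg.Statements.S4736
import Cfsg.Agent.Lib.PrincipalQuot80
import Cfsg.Agent.Lib.CharItoMichlerPSolvable
import Cfsg.Agent.Lib.PLengthOne

set_option autoImplicit false
open Cfsg

namespace Cfsg.Agent.S4736

/-- Let p be a prime, M a maximal ideal of the algebraic integers containing p, and G a finite p-solvable group with Sylow p-subgroup P. Then P is abelian if and only if every irreducible character in the principal p-block of G has height zero. -/
theorem result {G : Type*} [Group G] [Finite G] (p : ℕ) [Fact p.Prime] (M : Ideal Cfsg.AlgInt) (hM : Cfsg.IsPModular p M) (hsolv : Cfsg.IsPSolvable p G) (P : Sylow p G) : IsMulCommutative P ↔ ∀ χ ∈ Cfsg.principalBlock M G, Cfsg.blockHeight p (Cfsg.principalBlock M G) (χ : G → ℂ) = 0 := by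
  classical
  haveI : Fintype G := Fintype.ofFinite G
  haveI := HallCore.pPrimeCore_normal p G
  set K := Cfsg.pPrimeCore p G with hKdef
  haveI : Fintype (G ⧸ K) := Fintype.ofFinite _
  let P' : Sylow p (G ⧸ K) := P.mapSurjective (QuotientGroup.mk'_surjective K)
  have hP' : (P' : Subgroup (G ⧸ K)) = (P : Subgroup G).map (QuotientGroup.mk' K) := rfl
  have hsolv' : Cfsg.IsPSolvable p (G ⧸ K) := HallSolvable.isPSolvable_quotient hsolv K
  have hmin : sInf ((fun ψ : IrrCharacter G => (charDegree (ψ : G → ℂ)).factorization p) ''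
      principalBlock M G) = 0 :=
    Nat.sInf_eq_zero.2 (Or.inl ⟨CharBasicDecomp.trivIrr G, BlockTheoryIdem.sameBlock_refl hM _,
      by simp [CharBasicDecomp.trivIrr, charDegree]⟩)
  have hdeg : ∀ {H : Type u_1} [Group H] [Finite H] (χ : IrrCharacter H),
      (charDegree (χ : H → ℂ)).factorization p = 0 ↔ ¬ p ∣ charDegree (χ : H → ℂ) := by
    intro H _ _ χ
    have hd0 : charDegree (χ : H → ℂ) ≠ 0 := fun e =>
      CharBasic.isIrrCharacter_apply_one_ne_zero χ.2
        (by rw [PrincipalSylow80.irr_charDegree χ, e, Nat.cast_zero])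
    rw [Nat.factorization_eq_zero_iff]
    simp [(Fact.out : p.Prime), hd0]
  have hiff : (∀ χ ∈ principalBlock M G, blockHeight p (principalBlock M G) (χ : G → ℂ) = 0) ↔
      ∀ ψ : IrrCharacter (G ⧸ K), ¬ p ∣ charDegree (ψ : G ⧸ K → ℂ) := by
    constructor
    · intro h ψ
      have hd : charDegree (ψ : G ⧸ K → ℂ) = charDegree (PrincipalQuot80.infl K ψ : G → ℂ) := rfl
      rw [hd, ← hdeg]
      have h0 := h (PrincipalQuot80.infl K ψ)
        ((PrincipalQuot80.mem_principal_iff_of_pSolvable hM hsolv _).2 fun x hx => by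
          simp [PrincipalQuot80.infl_apply, (QuotientGroup.eq_one_iff x).2 (show x ∈ K from hx)])
      rwa [blockHeight, hmin, Nat.sub_zero] at h0
    · intro h χ hχ
      obtain ⟨ψ, hψ⟩ := CharKernel.exists_quot_irr K χ
        ((PrincipalQuot80.mem_principal_iff_of_pSolvable hM hsolv χ).1 hχ)
      rw [blockHeight, hmin, Nat.sub_zero, hdeg,
        show charDegree (χ : G → ℂ) = charDegree (ψ : G ⧸ K → ℂ) by
          rw [charDegree, charDegree, hψ, QuotientGroup.mk_one]]
      exact h ψ
  rw [hiff, ← CharItoMichler.iff_degrees hsolv' P']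
  constructor
  · intro hc
    have hcP' : IsMulCommutative (P' : Subgroup (G ⧸ K)) := ⟨⟨by
      rintro ⟨a, ha⟩ ⟨b, hb⟩
      rw [hP'] at ha hb
      obtain ⟨x, hx, rfl⟩ := ha
      obtain ⟨y, hy, rfl⟩ := hb
      refine Subtype.ext ?_
      have hxy := congrArg Subtype.val (hc.is_comm.comm ⟨x, hx⟩ ⟨y, hy⟩)
      show QuotientGroup.mk' K x * QuotientGroup.mk' K y = QuotientGroup.mk' K y * QuotientGroup.mk' K x
      rw [← map_mul, ← map_mul]
      exact congrArg _ hxy⟩⟩
    refine ⟨?_, hcP'⟩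
    haveI := HallCore.pCore_normal p (G ⧸ K)
    have hle : Cfsg.pCore p (G ⧸ K) ≤ (P' : Subgroup (G ⧸ K)) := HallCore.pCore_le_sylow P'
    have heq : (P' : Subgroup (G ⧸ K)) = Cfsg.pCore p (G ⧸ K) := by
      refine le_antisymm ?_ hle
      refine le_trans (fun a ha => ?_) (HallSolvable.centralizer_pCore_le hsolv'
        (HallCore.pPrimeCore_quotient_self p G))
      intro b hb
      exact congrArg Subtype.val (hcP'.is_comm.comm ⟨b, hle hb⟩ ⟨a, ha⟩)
    rw [heq]
    exact HallCore.pCore_normal p (G ⧸ K)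
  · rintro ⟨-, hc⟩
    refine ⟨⟨fun x y => Subtype.ext ?_⟩⟩
    have h1 := congrArg Subtype.val (hc.is_comm.comm
      ⟨QuotientGroup.mk' K x, hP' ▸ Subgroup.mem_map_of_mem _ x.2⟩
      ⟨QuotientGroup.mk' K y, hP' ▸ Subgroup.mem_map_of_mem _ y.2⟩)
    change QuotientGroup.mk' K x * QuotientGroup.mk' K y =
      QuotientGroup.mk' K y * QuotientGroup.mk' K x at h1
    rw [← map_mul, ← map_mul] at h1
    have h2 : ((x * y : (P : Subgroup G)) : G)⁻¹ * ((y * x : (P : Subgroup G)) : G) ∈ K :=
      QuotientGroup.eq.1 h1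
    have h3 := PLengthOne.eq_one_of_mem_of_mem P.isPGroup'
      (mul_mem (inv_mem (x * y).2) (y * x).2) h2
    exact inv_mul_eq_one.1 h3

end Cfsg.Agent.S4736
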