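import Cfsg.Statements.S4737
import Cfsg.Agent.Lib.ClassAlgebraMod

set_option autoImplicit false
open Cfsg

namespace Cfsg.Agent.S4737

section
open scoped ComplexConjugate
open Cfsg BlockTheoryLocalRing

variable {G : Type*} [Group G]

/-- Two elements of order three with quotient an involution normalize a four-group. -/
theorem normalizes_four_group {A B : G} (hA : A ^ 3 = 1) (hB : B ^ 3 = 1)
    (hs : (A * B⁻¹) * (A * B⁻¹) = 1) :
    ∃ Q : Subgroup G, IsPGroup 2 ↥Q ∧ A ∈ Subgroup.normalizer (Q : Set G) ∧ A * B⁻¹ ∈ Q := by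
  set s := A * B⁻¹ with hsdef
  set s1 := A * s * A⁻¹ with hs1
  set s2 := A⁻¹ * s * A with hs2
  have hinv : ∀ x : G, x * x = 1 → x⁻¹ = x := fun x h => inv_eq_of_mul_eq_one_right h
  have hBs : B = s * A := by
    have : s⁻¹ = s := hinv s hs
    rw [← this, hsdef]; group
  have hs11 : s1 * s1 = 1 := by
    calc s1 * s1 = A * (s * s) * A⁻¹ := by rw [hs1]; group
      _ = 1 := by rw [hs]; group
  have hs22 : s2 * s2 = 1 := by
    calc s2 * s2 = A⁻¹ * (s * s) * A := by rw [hs2]; group
      _ = 1 := by rw [hs]; group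
  have hAA : A * A = A⁻¹ := by
    rw [eq_comm, inv_eq_of_mul_eq_one_right]
    rw [← mul_assoc, ← pow_three' A, hA]
  have hprod : s * s1 * s2 = 1 := by
    calc s * s1 * s2 = s * A * s * (A⁻¹ * A⁻¹) * s * A := by rw [hs1, hs2]; group
      _ = (s * A) * (s * A) * (s * A) := by
        rw [show A⁻¹ * A⁻¹ = A by rw [← mul_inv_rev, hAA, inv_inv]]; group
      _ = B ^ 3 := by rw [← hBs, pow_three']
      _ = 1 := hB
  have hss1 : s * s1 = s2 := by rw [eq_inv_of_mul_eq_one_left hprod, hinv s2 hs22]
  have hcomm : s * s1 = s1 * s :=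
    calc s * s1 = (s * s1)⁻¹ := by rw [hss1, hinv s2 hs22]
      _ = s1 * s := by rw [mul_inv_rev, hinv s hs, hinv s1 hs11]
  set Q := Subgroup.closure ({s, s1} : Set G) with hQ
  have h1 : Q ≤ Subgroup.centralizer ({s, s1} : Set G) := by
    rw [hQ, Subgroup.closure_le]
    rintro x (rfl | rfl) y (rfl | rfl)
    exacts [rfl, hcomm.symm, hcomm, rfl]
  have h2 : Q ≤ Subgroup.centralizer (Q : Set G) := by
    rw [hQ, Subgroup.closure_le, ← hQ]
    intro x hx y hy
    exact (Subgroup.mem_centralizer_iff.1 (h1 hy) x hx).symm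
  have hsq : ∀ x ∈ Q, x * x = 1 := by
    intro x hx
    induction hx using Subgroup.closure_induction with
    | mem y hy => rcases hy with rfl | rfl; exacts [hs, hs11]
    | one => simp
    | mul a b ha hb iha ihb =>
      have hc : a * b = b * a := Subgroup.mem_centralizer_iff.1 (h2 hb) a ha
      calc a * b * (a * b) = a * b * (b * a) := by rw [← hc]
        _ = a * (b * b) * a := by group
        _ = 1 := by rw [ihb, mul_one, iha]
    | inv a ha iha => rw [← mul_inv_rev, iha, inv_one]
  have hsQ : s ∈ Q := Subgroup.subset_closure (Set.mem_insert _ _)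
  have hs1Q : s1 ∈ Q := Subgroup.subset_closure (Set.mem_insert_of_mem _ rfl)
  have hconj : ∀ x ∈ Q, A * x * A⁻¹ ∈ Q := by
    intro x hx
    induction hx using Subgroup.closure_induction with
    | mem y hy =>
      rcases hy with rfl | rfl
      · exact hs1Q
      · have : A * s1 * A⁻¹ = s2 := by
          calc A * s1 * A⁻¹ = (A * A) * s * (A * A)⁻¹ := by rw [hs1]; group
            _ = s2 := by rw [hAA, hs2, inv_inv]
        rw [this, ← hss1]
        exact Q.mul_mem hsQ hs1Q
    | one => simp
    | mul a b ha hb iha ihb =>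
      have : A * (a * b) * A⁻¹ = (A * a * A⁻¹) * (A * b * A⁻¹) := by group
      rw [this]; exact Q.mul_mem iha ihb
    | inv a ha iha =>
      have : A * a⁻¹ * A⁻¹ = (A * a * A⁻¹)⁻¹ := by group
      rw [this]; exact Q.inv_mem iha
  refine ⟨Q, fun x => ⟨1, by ext; simpa [pow_two] using hsq x x.2⟩, ?_, hsQ⟩
  rw [Subgroup.mem_normalizer_iff]
  intro x
  refine ⟨fun hx => hconj x hx, fun hx => ?_⟩
  have h3 := hconj _ (hconj _ hx)
  have : A * (A * (A * x * A⁻¹) * A⁻¹) * A⁻¹ = (A ^ 3) * x * (A ^ 3)⁻¹ := by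
    rw [pow_three]; group
  rw [this, hA] at h3
  simpa using h3

/-- The number of involutory pairs with given product is even when the centralizer has even order. -/
theorem even_pairs [Fintype G] [DecidableEq G] (h : G)
    (h2 : 2 ∣ Nat.card ↥(Subgroup.centralizer ({h} : Set G))) :
    2 ∣ (Finset.univ.filter fun s : G => s * s = 1 ∧ (s * h) * (s * h) = 1).card := by
  have : Fact (Nat.Prime 2) := ⟨Nat.prime_two⟩
  obtain ⟨⟨t, ht⟩, ht2⟩ := exists_prime_orderOf_dvd_card' 2 h2
  rw [← Subgroup.orderOf_coe] at ht2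
  have htt : t * t = 1 := by rw [← pow_two, ← ht2]; exact pow_orderOf_eq_one t
  have ht1 : t ≠ 1 := fun e => by simp [e] at ht2
  have hth : t * h = h * t := Subgroup.mem_centralizer_singleton_iff.1 ht
  refine (ZMod.natCast_eq_zero_iff _ _).1 ?_
  rw [Finset.card_eq_sum_ones, Nat.cast_sum]
  refine Finset.sum_involution (fun s _ => if s * t = t * s then s * t else t * s * t) ?_ ?_ ?_ ?_
  · intro s hs; simp only [Nat.cast_one]; exact CharTwo.add_self_eq_zero (1 : ZMod 2)
  · intro s _ _
    split_ifs with hst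
    · exact fun e => ht1 (by simpa using e)
    · intro e
      refine hst ?_
      calc s * t = (t * s * t) * t := by rw [e]
        _ = t * s * (t * t) := by group
        _ = t * s := by rw [htt, mul_one]
  · intro s hs
    obtain ⟨hs1, hs2⟩ := (Finset.mem_filter.1 hs).2
    refine Finset.mem_filter.2 ⟨Finset.mem_univ _, ?_⟩
    split_ifs with hst
    · constructor
      · calc s * t * (s * t) = s * t * (t * s) := by rw [hst]
          _ = s * (t * t) * s := by group
          _ = 1 := by rw [htt, mul_one, hs1]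
      · have h1 : t * (s * h) = (s * h) * t := by
          rw [← mul_assoc, ← hst, mul_assoc, hth, ← mul_assoc]
        calc s * t * h * (s * t * h) = (s * h) * (t * (s * h)) * t := by
              rw [mul_assoc s t h, hth]; group
          _ = ((s * h) * (s * h)) * (t * t) := by rw [h1]; group
          _ = 1 := by rw [hs2, htt, mul_one]
    · constructor
      · calc t * s * t * (t * s * t) = t * s * (t * t) * s * t := by group
          _ = t * (s * s) * t := by rw [htt]; group
          _ = 1 := by rw [hs1, mul_one, htt]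
      · calc t * s * t * h * (t * s * t * h) = t * (s * h) * (t * t) * (s * h) * t := by
              rw [mul_assoc (t * s) t h, hth]; group
          _ = t * ((s * h) * (s * h)) * t := by rw [htt]; group
          _ = 1 := by rw [hs2, mul_one, htt]
  · intro s _
    by_cases hst : s * t = t * s
    · have : s * t * t = t * (s * t) := by rw [hst, ← mul_assoc, htt, one_mul, mul_assoc, hst, ← mul_assoc, htt, one_mul]
      simp only [if_pos hst, if_pos this]
      rw [mul_assoc, htt, mul_one]
    · have : ¬ t * s * t * t = t * (t * s * t) := by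
        intro e
        refine hst ?_
        rw [mul_assoc (t * s), htt, mul_one, ← mul_assoc, ← mul_assoc, htt, one_mul] at e
        exact e.symm
      simp only [if_neg hst]
      rw [if_neg this]
      rw [← mul_assoc, ← mul_assoc, htt, one_mul, mul_assoc, htt, mul_one]

/-- The scalar of the sum of the elements with trivial square lies in the ideal unless the character has
2-defect zero. -/
theorem omega_involutions [Fintype G] [DecidableEq G] {M : Ideal AlgInt} (hM : IsPModular 2 M)
    (χ : IrrCharacter G) (hd : (charDegree (χ : G → ℂ)).factorization 2 ≠ (Nat.card G).factorization 2) :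
    MemLocalIdeal M ((∑ g ∈ Finset.univ.filter (fun g : G => g * g = 1), (χ : G → ℂ) g) / (χ : G → ℂ) 1) := by
  classical
  set Ω := Finset.univ.filter (fun g : G => g * g = 1) with hΩ
  have hΩc : ∀ g ∈ Ω, ∀ x : G, x * g * x⁻¹ ∈ Ω := by
    intro g hg x
    simp only [hΩ, Finset.mem_filter, Finset.mem_univ, true_and] at hg ⊢
    calc x * g * x⁻¹ * (x * g * x⁻¹) = x * (g * g) * x⁻¹ := by group
      _ = 1 := by rw [hg]; group
  have hdlt : (charDegree (χ : G → ℂ)).factorization 2 < (Nat.card G).factorization 2 :=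
    lt_of_le_of_ne (ClassAlgebraOmega.factorization_charDegree_le χ 2) hd
  set c := (∑ g ∈ Ω, (χ : G → ℂ) g) / (χ : G → ℂ) 1 with hc
  have hint : IsIntegral ℤ c := ClassAlgebraOmega.isIntegral_sum_div χ.2 Ω hΩc
  suffices hcc : MemLocalIdeal M (c * c) by
    have h3 : ((⟨c, hint⟩ : AlgInt) * ⟨c, hint⟩) ∈ M := (algInt_mem_ideal_iff hM).1 (by simpa using hcc)
    have h4 := ((isPrime hM).mem_or_mem h3).elim id id
    simpa using (algInt_mem_ideal_iff hM).2 h4
  set f : G → ℕ := fun h => (Finset.univ.filter fun s : G => s * s = 1 ∧ (s * h) * (s * h) = 1).card with hf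
  have hmul : c * c = ∑ h : G, (f h : ℂ) * ((χ : G → ℂ) h / (χ : G → ℂ) 1) := by
    have h1 : c * c = (∑ s ∈ Ω, ∑ t ∈ Ω, (χ : G → ℂ) (s * t)) / (χ : G → ℂ) 1 := by
      obtain ⟨n, ρ, hi, hρ⟩ := χ.2
      have hcomm : ∀ g v, (∑ y ∈ Ω, ρ y) (ρ g v) = ρ g ((∑ y ∈ Ω, ρ y) v) := by
        intro g v
        simp only [LinearMap.sum_apply, map_sum, ← Module.End.mul_apply, ← map_mul]
        refine Finset.sum_nbij' (fun y => g⁻¹ * y * g) (fun y => g * y * g⁻¹) ?_ ?_ ?_ ?_ ?_
        · intro y hy; simpa using hΩc y hy g⁻¹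
        · intro y hy; exact hΩc y hy g
        · intro y _; group
        · intro y _; group
        · intro y _; congr 2; group
      obtain ⟨e, he, htr⟩ := CharBasic.exists_scalar_of_commute ρ _ hcomm
      rw [map_sum] at htr
      rw [← Module.End.one_eq_id] at he
      have hn : ((n : ℕ) : ℂ) ≠ 0 := by
        have := CharBasic.isIrrCharacter_apply_one_ne_zero χ.2
        rw [← hρ, Representation.char_one] at this
        simpa using this
      have hn1 : (χ : G → ℂ) 1 = (n : ℂ) := by rw [← hρ, Representation.char_one]; simp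
      have hce : c = e := by
        have h0 : ∑ g ∈ Ω, (χ : G → ℂ) g = (n : ℂ) * e := by
          rw [← hρ]
          simpa [Representation.character] using htr
        rw [hc, h0, hn1, mul_div_cancel_left₀ _ hn]
      have h2 : ∑ s ∈ Ω, ∑ t ∈ Ω, (χ : G → ℂ) (s * t) = (n : ℂ) * (e * e) := by
        simp only [← hρ, Representation.character, map_mul, ← map_sum, ← Finset.mul_sum, ← Finset.sum_mul]
        rw [he, smul_mul_smul_comm, mul_one, map_smul, LinearMap.trace_one]
        simp; ring
      rw [h2, hn1, mul_div_cancel_left₀ _ hn, hce]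
    have h2 : ∑ s ∈ Ω, ∑ t ∈ Ω, (χ : G → ℂ) (s * t) = ∑ h : G, (f h : ℂ) * (χ : G → ℂ) h := by
      have h3 : ∀ s ∈ Ω, ∑ t ∈ Ω, (χ : G → ℂ) (s * t) = ∑ h : G, if (s * h) * (s * h) = 1 then (χ : G → ℂ) h else 0 := by
        intro s hs
        have hss : s * s = 1 := (Finset.mem_filter.1 hs).2
        rw [← Finset.sum_filter]
        refine Finset.sum_nbij' (fun t => s * t) (fun h => s * h) ?_ ?_ ?_ ?_ ?_
        · intro t ht
          have : t * t = 1 := (Finset.mem_filter.1 ht).2
          have hh : s * (s * t) = t := by rw [← mul_assoc, hss, one_mul]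
          simp [hh, this]
        · intro h hh
          simpa [hΩ] using hh
        · intro t _; simp [← mul_assoc, hss]
        · intro t _; simp [← mul_assoc, hss]
        · intro t _; rfl
      rw [Finset.sum_congr rfl h3, Finset.sum_comm]
      refine Finset.sum_congr rfl fun h _ => ?_
      rw [← Finset.sum_filter, Finset.sum_const, nsmul_eq_mul, hΩ, Finset.filter_filter]
    rw [h1, h2, Finset.sum_div]
    exact Finset.sum_congr rfl fun h _ => by ring
  rw [hmul, ← Finset.sum_fiberwise (Finset.univ : Finset G) ConjClasses.mk]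
  refine ideal_sum hM fun C _ => ?_
  obtain ⟨h0, rfl⟩ := ConjClasses.exists_rep C
  have hfc : ∀ g h : G, IsConj g h → f g = f h := by
    intro g h hgh
    obtain ⟨x, rfl⟩ := isConj_iff.1 hgh
    refine Finset.card_bij (fun s _ => x * s * x⁻¹) ?_ ?_ ?_
    · intro s hs
      obtain ⟨hs1, hs2⟩ := (Finset.mem_filter.1 hs).2
      refine Finset.mem_filter.2 ⟨Finset.mem_univ _, ?_, ?_⟩
      · calc x * s * x⁻¹ * (x * s * x⁻¹) = x * (s * s) * x⁻¹ := by group
          _ = 1 := by rw [hs1]; group
      · calc x * s * x⁻¹ * (x * g * x⁻¹) * (x * s * x⁻¹ * (x * g * x⁻¹))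
            = x * ((s * g) * (s * g)) * x⁻¹ := by group
          _ = 1 := by rw [hs2]; group
    · intro a _ b _ hab; simpa using hab
    · intro b hb
      obtain ⟨hb1, hb2⟩ := (Finset.mem_filter.1 hb).2
      refine ⟨x⁻¹ * b * x, Finset.mem_filter.2 ⟨Finset.mem_univ _, ?_, ?_⟩, by group⟩
      · calc x⁻¹ * b * x * (x⁻¹ * b * x) = x⁻¹ * (b * b) * x := by group
          _ = 1 := by rw [hb1]; group
      · calc x⁻¹ * b * x * g * (x⁻¹ * b * x * g)
            = x⁻¹ * ((b * (x * g * x⁻¹)) * (b * (x * g * x⁻¹))) * x := by group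
          _ = 1 := by rw [hb2]; group
  have hsum : ∑ g ∈ Finset.univ.filter (fun g => ConjClasses.mk g = ConjClasses.mk h0),
      (f g : ℂ) * ((χ : G → ℂ) g / (χ : G → ℂ) 1) = (f h0 : ℂ) * centralChar (χ : G → ℂ) h0 := by
    have hcls : ∀ g ∈ Finset.univ.filter (fun g => ConjClasses.mk g = ConjClasses.mk h0),
        (f g : ℂ) * ((χ : G → ℂ) g / (χ : G → ℂ) 1) = (f h0 : ℂ) * ((χ : G → ℂ) h0 / (χ : G → ℂ) 1) := by
      intro g hg
      have := ConjClasses.mk_eq_mk_iff_isConj.1 (Finset.mem_filter.1 hg).2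
      rw [hfc g h0 this, ClassAlgebraVal.irr_conj χ this]
    rw [Finset.sum_congr rfl hcls, Finset.sum_const, nsmul_eq_mul]
    have hcount : (Finset.univ.filter (fun g => ConjClasses.mk g = ConjClasses.mk h0)).card =
        (Subgroup.centralizer ({h0} : Set G)).index := by
      have h3 := CharBasicOrth.card_conj_mul_card_centralizer h0
      rw [← (Subgroup.centralizer ({h0} : Set G)).index_mul_card] at h3
      rw [← Nat.eq_of_mul_eq_mul_right Nat.card_pos h3, Nat.card_eq_fintype_card, Fintype.card_subtype]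
      refine congrArg Finset.card (Finset.filter_congr fun g _ => ?_)
      rw [ConjClasses.mk_eq_mk_iff_isConj, isConj_comm]
    rw [hcount, centralChar]; ring
  rw [hsum]
  by_cases hev : 2 ∣ Nat.card ↥(Subgroup.centralizer ({h0} : Set G))
  · exact ideal_mul_right hM ((natCast_mem_iff hM).2 (even_pairs h0 hev))
      (of_isIntegral hM (ClassAlgebraOmega.isIntegral_centralChar χ.2 h0))
  · refine ideal_mul_left hM (natCast_mem (localRing hM) _) (ClassAlgebraMod.centralChar_mem_ideal hM χ h0 ?_)
    rw [← (Subgroup.centralizer ({h0} : Set G)).index_mul_card] at hdlt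
    rw [Nat.factorization_mul Subgroup.index_ne_zero_of_finite Nat.card_pos.ne', Finsupp.coe_add,
      Pi.add_apply, Nat.factorization_eq_zero_of_not_dvd hev, add_zero] at hdlt
    exact hdlt

theorem exists_modular (p : ℕ) (hp : p.Prime) : ∃ M : Ideal AlgInt, IsPModular p M := by
  have hne : Ideal.span ({(p : AlgInt)} : Set AlgInt) ≠ ⊤ := by
    rw [Ne, Ideal.eq_top_iff_one, Ideal.mem_span_singleton]
    rintro ⟨z, hz⟩
    refine hp.not_dvd_one (ClassAlgebraVal.dvd_of_integral hp.ne_zero z.2 ?_)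
    have := congrArg (fun w : AlgInt => (w : ℂ)) hz
    simpa using this
  obtain ⟨M, hM, hle⟩ := Ideal.exists_le_maximal _ hne
  exact ⟨M, hp, hM, hle (Ideal.subset_span rfl)⟩

end

/-- Let G be a finite group of order divisible by 6. Then the number of irreducible characters of G whose degree has the same 2-part as the order of G (the characters of 2-defect zero, each forming a 2-block of defect zero on its own) is at least the number of conjugacy classes of elements of order 3 that normalize no nontrivial 2-subgroup of G. In particular G has a 2-block of defect zero as soon as some element of order 3 normalizes no nontrivial 2-subgroup. -/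
theorem result {G : Type*} [Group G] [Finite G] (h6 : 6 ∣ Nat.card G) : Nat.card {C : ConjClasses G // ∃ g ∈ C.carrier, orderOf g = 3 ∧ ∀ Q : Subgroup G, IsPGroup 2 ↥Q → g ∈ Subgroup.normalizer (Q : Set G) → Q = ⊥} ≤ Nat.card {χ : Cfsg.IrrCharacter G // (Cfsg.charDegree (χ : G → ℂ)).factorization 2 = (Nat.card G).factorization 2} := by
  classical
  have := Fintype.ofFinite G
  have h2p : (2 : ℕ).Prime := Nat.prime_two
  have : Fact (2 : ℕ).Prime := ⟨h2p⟩
  obtain ⟨M, hM⟩ := exists_modular 2 h2p
  set I := {C : ConjClasses G // ∃ g ∈ C.carrier, orderOf g = 3 ∧ ∀ Q : Subgroup G, IsPGroup 2 ↥Q → g ∈ Subgroup.normalizer (Q : Set G) → Q = ⊥} with hI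
  set D := {χ : Cfsg.IrrCharacter G // (Cfsg.charDegree (χ : G → ℂ)).factorization 2 = (Nat.card G).factorization 2} with hD
  have hz : ∀ i : I, ∃ g : G, ConjClasses.mk g = i.1 ∧ orderOf g = 3 ∧ ∀ Q : Subgroup G, IsPGroup 2 ↥Q → g ∈ Subgroup.normalizer (Q : Set G) → Q = ⊥ := by
    intro i
    obtain ⟨g, hg, h3, hn⟩ := i.2
    exact ⟨g, ConjClasses.mem_carrier_iff_mk_eq.1 hg, h3, hn⟩
  choose z hzmk hz3 hzn using hz
  have hodd : ∀ i : I, ¬ 2 ∣ Nat.card ↥(Subgroup.centralizer ({z i} : Set G)) := by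
    intro i h
    obtain ⟨⟨s, hs⟩, hs2⟩ := exists_prime_orderOf_dvd_card' 2 h
    rw [← Subgroup.orderOf_coe] at hs2
    have := hzn i (Subgroup.zpowers s) (IsPGroup.of_card (n := 1) (by rw [Nat.card_zpowers, hs2, pow_one])) (by
      refine Subgroup.centralizer_le_normalizer _ (Subgroup.mem_centralizer_iff.2 fun y hy => ?_)
      obtain ⟨k, rfl⟩ := Subgroup.mem_zpowers_iff.1 hy
      exact ((Subgroup.mem_centralizer_singleton_iff.1 hs : s * z i = z i * s) |> fun e => (Commute.zpow_left e k).eq))
    rw [Subgroup.zpowers_eq_bot] at this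
    simp [this] at hs2
  set Ω := Finset.univ.filter (fun g : G => g * g = 1) with hΩ
  set W : Cfsg.IrrCharacter G → ℂ := fun χ => (∑ g ∈ Ω, (χ : G → ℂ) g) / (χ : G → ℂ) 1 with hW
  have hgreal : ∀ (χ : Cfsg.IrrCharacter G), ∀ g ∈ Ω, (starRingEnd ℂ) ((χ : G → ℂ) g) = (χ : G → ℂ) g := by
    intro χ g hg
    rw [← CharBasic.isCharacter_inv (ClassAlgebraVal.irr_isCharacter χ), inv_eq_of_mul_eq_one_right (Finset.mem_filter.1 hg).2]
  have hT : ∀ i j : I, ∑ χ : Cfsg.IrrCharacter G, (χ : G → ℂ) (z i) * (χ : G → ℂ) (z j)⁻¹ * W χ =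
      if i = j then (Nat.card ↥(Subgroup.centralizer ({z i} : Set G)) : ℂ) else 0 := by
    intro i j
    have h1 : ∑ χ : Cfsg.IrrCharacter G, (χ : G → ℂ) (z i) * (χ : G → ℂ) (z j)⁻¹ * W χ =
        ∑ g ∈ Ω, (Nat.card (Subgroup.centralizer ({g} : Set G)) : ℂ) *
          (Nat.card {x : G // IsConj g (z i * (x * (z j)⁻¹ * x⁻¹))} : ℂ) / (Nat.card G : ℂ) := by
      rw [Finset.sum_congr rfl fun g _ => (ClassAlgebraVal.sum_irr_triple (z i) (z j)⁻¹ g).symm, Finset.sum_comm]
      refine Finset.sum_congr rfl fun χ _ => ?_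
      rw [hW, ← Finset.sum_div, ← Finset.mul_sum, Finset.sum_congr rfl (hgreal χ)]
      ring
    rw [h1, Finset.sum_eq_single (1 : G)]
    · have hG : (Nat.card G : ℂ) ≠ 0 := Nat.cast_ne_zero.2 Nat.card_pos.ne'
      rw [show Nat.card (Subgroup.centralizer ({(1 : G)} : Set G)) = Nat.card G by
        rw [Subgroup.centralizer_eq_top_iff_subset.2 (by simp), Subgroup.card_top],
        mul_div_cancel_left₀ _ hG]
      split_ifs with hij
      · subst hij
        congr 1
        refine Nat.card_congr (Equiv.subtypeEquivRight fun x => ?_)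
        rw [isConj_one_right, mul_eq_one_iff_eq_inv, Subgroup.mem_centralizer_singleton_iff]
        constructor
        · intro hx
          have : z i = x * z i * x⁻¹ := hx.trans (by group)
          calc x * z i = x * z i * x⁻¹ * x := by group
            _ = z i * x := by rw [← this]
        · intro hx
          calc z i = z i * x * x⁻¹ := by group
            _ = (x * (z i)⁻¹ * x⁻¹)⁻¹ := by rw [← hx]; group
      · have : IsEmpty {x : G // IsConj (1 : G) (z i * (x * (z j)⁻¹ * x⁻¹))} := by
          refine ⟨fun x => hij (Subtype.ext ?_)⟩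
          have hx := isConj_one_right.1 x.2
          rw [← hzmk i, ← hzmk j, ConjClasses.mk_eq_mk_iff_isConj, isConj_comm, isConj_iff]
          exact ⟨x.1, (mul_eq_one_iff_eq_inv.1 hx).trans (by group) |>.symm⟩
        rw [@Nat.card_of_isEmpty _ this, Nat.cast_zero]
    · intro g hg hg1
      have : IsEmpty {x : G // IsConj g (z i * (x * (z j)⁻¹ * x⁻¹))} := by
        refine ⟨fun x => ?_⟩
        obtain ⟨d, hd⟩ := isConj_iff.1 x.2
        have hgg : g * g = 1 := (Finset.mem_filter.1 hg).2
        have hA : z i ^ 3 = 1 := by rw [← hz3 i]; exact pow_orderOf_eq_one _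
        have hB : (x.1 * z j * x.1⁻¹) ^ 3 = 1 := by
          rw [conj_pow, show z j ^ 3 = 1 by rw [← hz3 j]; exact pow_orderOf_eq_one _, mul_one, mul_inv_cancel]
        have hinv : z i * (x.1 * z j * x.1⁻¹)⁻¹ = d * g * d⁻¹ := by rw [hd]; group
        have hss : (d * g * d⁻¹) * (d * g * d⁻¹) = 1 := by
          calc (d * g * d⁻¹) * (d * g * d⁻¹) = d * (g * g) * d⁻¹ := by group
            _ = 1 := by rw [hgg]; group
        obtain ⟨Q, hQ, hAQ, hsQ⟩ := normalizes_four_group hA hB (by rw [hinv]; exact hss)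
        rw [hzn i Q hQ hAQ, Subgroup.mem_bot, hinv, conj_eq_one_iff] at hsQ
        exact hg1 hsQ
      rw [@Nat.card_of_isEmpty _ this, Nat.cast_zero, mul_zero, zero_div]
    · simp [hΩ]
  have hWint : ∀ χ, IsIntegral ℤ (W χ) := fun χ => ClassAlgebraOmega.isIntegral_sum_div χ.2 Ω (by
    intro g hg x
    simp only [hΩ, Finset.mem_filter, Finset.mem_univ, true_and] at hg ⊢
    calc x * g * x⁻¹ * (x * g * x⁻¹) = x * (g * g) * x⁻¹ := by group
      _ = 1 := by rw [hg]; group)
  let val : Cfsg.IrrCharacter G → G → Cfsg.AlgInt := fun χ g =>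
    ⟨(χ : G → ℂ) g, CharBasic.isCharacter_integral (ClassAlgebraVal.irr_isCharacter χ) g⟩
  let Wi : Cfsg.IrrCharacter G → Cfsg.AlgInt := fun χ => ⟨W χ, hWint χ⟩
  have : M.IsMaximal := hM.2.1
  letI : Field (Cfsg.AlgInt ⧸ M) := Ideal.Quotient.field M
  let π := Ideal.Quotient.mk M
  have hker : ∀ χ : Cfsg.IrrCharacter G, (Cfsg.charDegree (χ : G → ℂ)).factorization 2 ≠ (Nat.card G).factorization 2 → π (Wi χ) = 0 :=
    fun χ hχ => Ideal.Quotient.eq_zero_iff_mem.2
      ((BlockTheoryLocalRing.algInt_mem_ideal_iff hM).1 (omega_involutions hM χ hχ))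
  let A : Matrix I D (Cfsg.AlgInt ⧸ M) := Matrix.of fun i d => π (val d.1 (z i))
  let B : Matrix D I (Cfsg.AlgInt ⧸ M) := Matrix.of fun d j => π (val d.1 (z j)⁻¹ * Wi d.1)
  have hAB : A * B = 1 := by
    ext i j
    simp only [A, B, Matrix.mul_apply, Matrix.of_apply, ← map_mul]
    have h1 : ∑ d : D, π (val d.1 (z i) * (val d.1 (z j)⁻¹ * Wi d.1)) =
        ∑ χ : Cfsg.IrrCharacter G, π (val χ (z i) * (val χ (z j)⁻¹ * Wi χ)) := by
      rw [← Finset.sum_subtype (Finset.univ.filter fun χ : Cfsg.IrrCharacter G =>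
        (Cfsg.charDegree (χ : G → ℂ)).factorization 2 = (Nat.card G).factorization 2) (by simp)
        (fun χ => π (val χ (z i) * (val χ (z j)⁻¹ * Wi χ)))]
      refine Finset.sum_filter_of_ne fun χ _ hne => ?_
      by_contra hχ
      exact hne (by rw [map_mul, map_mul, hker χ hχ, mul_zero, mul_zero])
    have h2 : (∑ χ : Cfsg.IrrCharacter G, val χ (z i) * (val χ (z j)⁻¹ * Wi χ)) =
        if i = j then (Nat.card ↥(Subgroup.centralizer ({z i} : Set G)) : Cfsg.AlgInt) else 0 := by
      apply Subtype.ext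
      push_cast
      have := hT i j
      simp only [val, Wi, ← mul_assoc]
      rw [this]
      split_ifs <;> simp
    rw [h1, ← map_sum, h2, Matrix.one_apply]
    split_ifs
    · obtain ⟨k, hk⟩ := Nat.not_even_iff_odd.1 (fun h => hodd i (even_iff_two_dvd.1 h))
      rw [hk, map_natCast, Nat.cast_add, Nat.cast_mul, Nat.cast_one]
      have : ((2 : ℕ) : Cfsg.AlgInt ⧸ M) = 0 := by
        rw [← map_natCast π]; exact Ideal.Quotient.eq_zero_iff_mem.2 hM.2.2
      rw [this, zero_mul, zero_add]
    · exact map_zero _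
  have h1 := Matrix.rank_mul_le_left A B
  rw [hAB, Matrix.rank_one] at h1
  calc Nat.card I = Fintype.card I := Nat.card_eq_fintype_card
    _ ≤ A.rank := h1
    _ ≤ Fintype.card D := A.rank_le_card_width
    _ = Nat.card D := Nat.card_eq_fintype_card.symm

end Cfsg.Agent.S4737
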