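import Cfsg.Statements.S4740
import Cfsg.Agent.Lib.ClassAlgebraVal

set_option autoImplicit false
open Cfsg

namespace Cfsg.Agent.S4740

/-- Let p be an odd prime, G a finite group of even order, x an involution of G and P a subgroup of G of order p ^ c such that no conjugate of x inverts a non-identity element of P. If p ^ a is the p-part of the order of C_G(x), then some irreducible character of G has degree divisible by p ^ (c - a). -/
theorem result {G : Type*} [Group G] [Finite G] (p : ℕ) [Fact p.Prime] (hp2 : p ≠ 2) (hG : Even (Nat.card G)) (x : G) (hx : orderOf x = 2) (P : Subgroup G) (c : ℕ) (hP : Nat.card ↥P = p ^ c) (hinv : ∀ g : G, IsConj x g → ∀ z ∈ P, z ≠ 1 → g * z * g⁻¹ ≠ z⁻¹) (a : ℕ) (ha : (Nat.card ↥(Subgroup.centralizer ({x} : Set G))).factorization p = a) : ∃ χ : Cfsg.IrrCharacter G, p ^ (c - a) ∣ Cfsg.charDegree (χ : G → ℂ) := by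
  classical
  have := Fintype.ofFinite G
  have hxx : x * x = 1 := by rw [← pow_two, ← hx]; exact pow_orderOf_eq_one x
  have hxi : x⁻¹ = x := inv_eq_of_mul_eq_one_right hxx
  obtain ⟨χ, hχ⟩ := ClassAlgebraVal.exists_degree_ge (Fact.out : p.Prime) x P c a hP ha (by
    intro z hz hz1 y hy
    obtain ⟨d, hd⟩ := isConj_iff.1 hy
    rw [hxi] at hd
    have hz' : z = d⁻¹ * (x * (y * x * y⁻¹)) * d := by rw [← hd]; group
    have hyy : (y * x * y⁻¹) * (y * x * y⁻¹) = 1 := by
      calc (y * x * y⁻¹) * (y * x * y⁻¹) = y * (x * x) * y⁻¹ := by group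
        _ = 1 := by rw [hxx]; group
    refine hinv (d⁻¹ * x * d) (isConj_iff.2 ⟨d⁻¹, by group⟩) z hz hz1 ?_
    calc (d⁻¹ * x * d) * z * (d⁻¹ * x * d)⁻¹
        = d⁻¹ * ((x * x) * (y * x * y⁻¹) * x⁻¹) * d := by rw [hz']; group
      _ = d⁻¹ * ((y * x * y⁻¹)⁻¹ * x⁻¹) * d := by
          rw [hxx, one_mul, inv_eq_of_mul_eq_one_right hyy]
      _ = z⁻¹ := by rw [hz']; group)
  refine ⟨χ, ((Fact.out : p.Prime).pow_dvd_iff_le_factorization
    (ClassAlgebraVal.charDegree_pos χ).ne').2 ?_⟩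
  omega

end Cfsg.Agent.S4740
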