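import Cfsg.Statements.S4741
import Cfsg.Agent.Lib.BlockContribBounds
import Cfsg.Agent.Lib.BlockTheoryDefect
import Cfsg.Agent.Lib.ClassAlgebraMod

set_option autoImplicit false
open Cfsg

namespace Cfsg.Agent.S4741

section
open scoped ComplexConjugate
open Cfsg BlockTheoryLocalRing BlockTheoryCentre BlockTheoryIdem BlockContrib BlockContribBounds ClassAlgebraVal BlockTheoryDefect

variable {p : ℕ} {M : Ideal AlgInt}

theorem ideal_prod_sub (hM : IsPModular p M) {ι : Type*} (s : Finset ι) {a b : ι → ℂ}
    (ha : ∀ i ∈ s, MemLocalRing M (a i)) (hb : ∀ i ∈ s, MemLocalRing M (b i))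
    (h : ∀ i ∈ s, MemLocalIdeal M (a i - b i)) :
    MemLocalIdeal M (∏ i ∈ s, a i - ∏ i ∈ s, b i) := by
  classical
  induction s using Finset.induction_on with
  | empty => simpa using ideal_zero hM
  | insert i s hi ih =>
    rw [Finset.prod_insert hi, Finset.prod_insert hi]
    have h1 := ih (fun j hj => ha j (Finset.mem_insert_of_mem hj))
      (fun j hj => hb j (Finset.mem_insert_of_mem hj)) (fun j hj => h j (Finset.mem_insert_of_mem hj))
    have hB : MemLocalRing M (∏ j ∈ s, b j) :=
      (localRing hM).prod_mem fun j hj => hb j (Finset.mem_insert_of_mem hj)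
    have := ideal_add hM (ideal_mul_left hM (ha i (Finset.mem_insert_self i s)) h1)
      (ideal_mul_right hM (h i (Finset.mem_insert_self i s)) hB)
    convert this using 1
    ring

theorem ideal_det_sub (hM : IsPModular p M) {n : Type*} [Fintype n] [DecidableEq n] (A B : Matrix n n ℂ)
    (ha : ∀ i j, MemLocalRing M (A i j)) (hb : ∀ i j, MemLocalRing M (B i j))
    (h : ∀ i j, MemLocalIdeal M (A i j - B i j)) : MemLocalIdeal M (A.det - B.det) := by
  rw [Matrix.det_apply', Matrix.det_apply', ← Finset.sum_sub_distrib]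
  refine ideal_sum hM fun σ _ => ?_
  rw [← mul_sub]
  refine ideal_mul_left hM (intCast_mem (localRing hM) _) ?_
  exact ideal_prod_sub hM _ (fun i _ => ha _ _) (fun i _ => hb _ _) fun i _ => h _ _

theorem not_ideal_prod (hM : IsPModular p M) {ι : Type*} (s : Finset ι) {a : ι → ℂ}
    (ha : ∀ i ∈ s, MemLocalRing M (a i)) (h : ∀ i ∈ s, ¬ MemLocalIdeal M (a i)) :
    ¬ MemLocalIdeal M (∏ i ∈ s, a i) := by
  classical
  induction s using Finset.induction_on with
  | empty => simpa using one_not_ideal hM
  | insert i s hi ih =>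
    rw [Finset.prod_insert hi]
    exact not_ideal_mul hM (ha i (Finset.mem_insert_self i s))
      ((localRing hM).prod_mem fun j hj => ha j (Finset.mem_insert_of_mem hj))
      (h i (Finset.mem_insert_self i s))
      (ih (fun j hj => ha j (Finset.mem_insert_of_mem hj)) fun j hj => h j (Finset.mem_insert_of_mem hj))

variable {G : Type*} [Group G]

theorem unit_quot (hM : IsPModular p M) {m n : ℕ} (hm : m ≠ 0) (hn : n ≠ 0)
    (h : m.factorization p = n.factorization p) :
    MemLocalRing M ((m : ℂ) / (n : ℂ)) ∧ ¬ MemLocalIdeal M ((m : ℂ) / (n : ℂ)) := by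
  set a := m / p ^ m.factorization p with ha
  set b := n / p ^ n.factorization p with hb
  have ea : (m : ℂ) = (p : ℂ) ^ m.factorization p * (a : ℂ) := by
    exact_mod_cast (Nat.ordProj_mul_ordCompl_eq_self m p).symm
  have eb : (n : ℂ) = (p : ℂ) ^ n.factorization p * (b : ℂ) := by
    exact_mod_cast (Nat.ordProj_mul_ordCompl_eq_self n p).symm
  have ha0 : ¬ p ∣ a := Nat.not_dvd_ordCompl hM.1 hm
  have hb0 : ¬ p ∣ b := Nat.not_dvd_ordCompl hM.1 hn
  have hp0 : ((p : ℂ) ^ n.factorization p) ≠ 0 := pow_ne_zero _ (Nat.cast_ne_zero.2 hM.1.ne_zero)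
  have e : (m : ℂ) / (n : ℂ) = (a : ℂ) * (b : ℂ)⁻¹ := by
    rw [ea, eb, h, mul_div_mul_left _ _ hp0, div_eq_mul_inv]
  rw [e]
  refine ⟨(localRing hM).mul_mem (natCast_mem (localRing hM) a) (inv_natCast_mem hM hb0), fun hI => ?_⟩
  have := ideal_mul_right hM hI (natCast_mem (localRing hM) b)
  rw [mul_assoc, inv_mul_cancel₀ (Nat.cast_ne_zero.2 fun h : b = 0 => hb0 (by rw [h]; exact dvd_zero p)), mul_one,
    natCast_mem_iff hM] at this
  exact ha0 this

open Classical in
theorem frobenius_sum [Fintype G] (hp : p.Prime) (χ : IrrCharacter G) :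
    IsIntegral ℤ (((p : ℂ) ^ (Nat.card G).factorization p)⁻¹ *
      ∑ u : G, if ∃ k, orderOf u = p ^ k then (χ : G → ℂ) u else 0) := by
  classical
  rw [← Finset.sum_filter]
  refine BlockContribPrime.isIntegral_sum_qElements hp _ (irr_classFun χ)
    (fun c => CharBasic.isCharacter_integral (irr_isCharacter χ) c) fun R _ => ?_
  simpa using BlockContribPrime.isIntegral_avg_coset (irr_isCharacter χ) (1 : G) R fun r _ => Commute.one_left r

end

/-- Let p be a prime, M a maximal ideal of the algebraic integers containing p, and D a subgroup of the finite group G. Let x₁, …, x_r be pairwise non-conjugate elements of G such that D is a Sylow p-subgroup of the centralizer of each xᵢ, and such that for any conjugates g of some xᵢ and h of some xⱼ the element g h⁻¹ is never a non-identity p-element. Then there are r distinct p-blocks B₁, …, B_r of G, each having D as a defect group, such that for every choice of characters χᵢ ∈ Bᵢ of height zero the determinant of the r × r matrix (χᵢ(xⱼ)) does not lie in the local ideal at M. -/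
theorem result {G : Type*} [Group G] [Finite G] (p : ℕ) [Fact p.Prime] (M : Ideal Cfsg.AlgInt) (hM : Cfsg.IsPModular p M) (D : Subgroup G) {r : ℕ} (x : Fin r → G) (hx : ∀ i j : Fin r, IsConj (x i) (x j) → i = j) (hD : ∀ i : Fin r, ∃ S : Sylow p ↥(Subgroup.centralizer ({x i} : Set G)), (S : Subgroup ↥(Subgroup.centralizer ({x i} : Set G))).map (Subgroup.centralizer ({x i} : Set G)).subtype = D) (hsep : ∀ i j : Fin r, ∀ g h : G, IsConj (x i) g → IsConj (x j) h → ∀ k : ℕ, 0 < k → orderOf (g * h⁻¹) ≠ p ^ k) : ∃ B : Fin r → Set (Cfsg.IrrCharacter G), Function.Injective B ∧ (∀ i : Fin r, Cfsg.IsPBlock M (B i) ∧ Cfsg.IsDefectGroup p M (B i) D) ∧ ∀ χ : Fin r → Cfsg.IrrCharacter G, (∀ i : Fin r, χ i ∈ B i ∧ Cfsg.blockHeight p (B i) (χ i : G → ℂ) = 0) → ¬ Cfsg.MemLocalIdeal M (Matrix.det (Matrix.of fun i j : Fin r => (χ i : G → ℂ) (x j))) := by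
  classical
  have := Fintype.ofFinite G
  open scoped ComplexConjugate in
  open Cfsg BlockTheoryLocalRing BlockTheoryCentre BlockTheoryIdem BlockContrib BlockContribBounds ClassAlgebraVal BlockTheoryDefect in
  have main : ∃ B : Fin r → Set (IrrCharacter G), Function.Injective B ∧ (∀ i : Fin r, IsPBlock M (B i) ∧ IsDefectGroup p M (B i) D) ∧ ∀ χ : Fin r → IrrCharacter G, (∀ i : Fin r, χ i ∈ B i ∧ blockHeight p (B i) (χ i : G → ℂ) = 0) → ¬ MemLocalIdeal M (Matrix.det (Matrix.of fun i j : Fin r => (χ i : G → ℂ) (x j))) := by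
    set a := (Nat.card G).factorization p with ha
    have hp0 : (p : ℂ) ≠ 0 := Nat.cast_ne_zero.2 hM.1.ne_zero
    have hcen : ∀ y : G, Subgroup.centralizer ({y⁻¹} : Set G) = Subgroup.centralizer ({y} : Set G) := by
      intro y
      ext g
      simp only [Subgroup.mem_centralizer_singleton_iff]
      exact ⟨fun h => by have h' : Commute g y⁻¹ := h; simpa using h'.inv_right.eq,
        fun h => (Commute.inv_right (h : Commute g y)).eq⟩
    set ind : Fin r → ℕ := fun i => (Subgroup.centralizer ({x i} : Set G)).index with hind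
    have hind0 : ∀ i, ind i ≠ 0 := fun i => Subgroup.index_ne_zero_of_finite
    set d := (Nat.card D).factorization p with hd
    have hDcard : ∀ i, Nat.card D = p ^ (Nat.card (Subgroup.centralizer ({x i} : Set G))).factorization p := by
      intro i
      obtain ⟨S, hS⟩ := hD i
      rw [← hS, Subgroup.card_map_of_injective Subtype.val_injective, Sylow.card_eq_multiplicity]
    have hCd : ∀ i, (Nat.card (Subgroup.centralizer ({x i} : Set G))).factorization p = d := by
      intro i
      rw [hd, hDcard i, Nat.Prime.factorization_pow hM.1, Finsupp.single_eq_same]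
    have hfac : ∀ i, (ind i).factorization p + d = a := by
      intro i
      rw [ha, ← (Subgroup.centralizer ({x i} : Set G)).index_mul_card,
        Nat.factorization_mul (hind0 i) Nat.card_pos.ne', Finsupp.add_apply, hCd]
    let s : IrrCharacter G → ℂ := fun χ =>
      ((p : ℂ) ^ a)⁻¹ * ∑ u : G, if ∃ k, orderOf u = p ^ k then (χ : G → ℂ) u else 0
    have hs : ∀ χ, MemLocalRing M (conj (s χ)) := fun χ =>
      of_isIntegral hM ((frobenius_sum hM.1 χ).map (starRingEnd ℂ).toIntAlgHom)
    let A : Fin r → IrrCharacter G → ℂ := fun i χ =>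
      (centralChar (χ : G → ℂ) (x i)⁻¹ * ((p : ℂ) ^ (a - d) / (ind i : ℂ))) * conj (s χ)
    have hcc : ∀ (χ : IrrCharacter G) (g : G), MemLocalRing M (centralChar (χ : G → ℂ) g) := fun χ g =>
      of_isIntegral hM (BlockTheoryCentre.isIntegral_centralChar χ g)
    have hunit : ∀ i, MemLocalRing M ((p : ℂ) ^ (a - d) / (ind i : ℂ)) := by
      intro i
      have h := unit_quot hM (m := p ^ (a - d)) (n := ind i) (pow_ne_zero _ hM.1.ne_zero) (hind0 i)
        (by rw [Nat.Prime.factorization_pow hM.1, Finsupp.single_eq_same]; have := hfac i; omega)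
      push_cast at h
      exact h.1
    have hA : ∀ i χ, MemLocalRing M (A i χ) := fun i χ =>
      (localRing hM).mul_mem ((localRing hM).mul_mem (hcc χ _) (hunit i)) (hs χ)
    set cc : Fin r → ℕ := fun i => Nat.card (Subgroup.centralizer ({x i} : Set G)) / p ^ d with hccdef
    have hkey : ∀ i j : Fin r, ∑ χ : IrrCharacter G, A i χ * (χ : G → ℂ) (x j) =
        if i = j then (cc i : ℂ) else 0 := by
      intro i j
      have hpow : (p : ℂ) ^ d * (p : ℂ) ^ (a - d) = (p : ℂ) ^ a := by
        rw [← pow_add]; congr 1; have := hfac i; omega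
      refine mul_left_cancel₀ (pow_ne_zero d hp0) ?_
      rw [Finset.mul_sum]
      calc ∑ χ : IrrCharacter G, (p : ℂ) ^ d * (A i χ * (χ : G → ℂ) (x j))
          = ∑ χ : IrrCharacter G, ∑ u : G, if ∃ k, orderOf u = p ^ k then
              (χ : G → ℂ) (x j) * (χ : G → ℂ) (x i)⁻¹ * conj ((χ : G → ℂ) u) / (χ : G → ℂ) 1 else 0 := by
            refine Finset.sum_congr rfl fun χ _ => ?_
            have hsplit : ∀ u : G, (if ∃ k, orderOf u = p ^ k then
                (χ : G → ℂ) (x j) * (χ : G → ℂ) (x i)⁻¹ * conj ((χ : G → ℂ) u) / (χ : G → ℂ) 1 else 0) =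
                (χ : G → ℂ) (x j) * (χ : G → ℂ) (x i)⁻¹ / (χ : G → ℂ) 1 *
                  conj (if ∃ k, orderOf u = p ^ k then (χ : G → ℂ) u else 0) := by
              intro u; split_ifs
              · ring
              · simp
            rw [Finset.sum_congr rfl fun u _ => hsplit u, ← Finset.mul_sum, ← map_sum]
            have hcj : conj (∑ u : G, if ∃ k, orderOf u = p ^ k then (χ : G → ℂ) u else 0) =
                (p : ℂ) ^ a * conj (s χ) := by
              simp only [s, map_mul, map_inv₀, map_pow, map_natCast]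
              rw [mul_inv_cancel_left₀ (pow_ne_zero a hp0)]
            rw [hcj]
            simp only [A, centralChar, hcen]
            have h0 : (ind i : ℂ) ≠ 0 := Nat.cast_ne_zero.2 (hind0 i)
            rw [← hpow]
            simp only [hind] at h0 ⊢
            field_simp
        _ = ∑ u : G, if ∃ k, orderOf u = p ^ k then
              (Nat.card (Subgroup.centralizer ({u} : Set G)) : ℂ) *
                (Nat.card {z : G // IsConj u (x j * (z * (x i)⁻¹ * z⁻¹))} : ℂ) / (Nat.card G : ℂ) else 0 := by
            rw [Finset.sum_comm]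
            refine Finset.sum_congr rfl fun u _ => ?_
            split_ifs
            · exact sum_irr_triple _ _ _
            · simp
        _ = (Nat.card {z : G // IsConj 1 (x j * (z * (x i)⁻¹ * z⁻¹))} : ℂ) := by
            rw [Finset.sum_eq_single 1]
            · rw [if_pos ⟨0, by simp⟩, Subgroup.centralizer_eq_top_iff_subset.2 (by simp), Subgroup.card_top,
                mul_comm, mul_div_assoc, div_self (Nat.cast_ne_zero.2 Nat.card_pos.ne'), mul_one]
            · intro u _ hu
              split_ifs with hk
              · obtain ⟨k, hk⟩ := hk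
                have : IsEmpty {z : G // IsConj u (x j * (z * (x i)⁻¹ * z⁻¹))} := by
                  refine ⟨fun z => ?_⟩
                  obtain ⟨z, hz⟩ := z
                  obtain ⟨c, hc⟩ := isConj_iff.1 hz
                  refine hsep j i (x j) (z * x i * z⁻¹) (IsConj.refl _) (isConj_iff.2 ⟨z, rfl⟩) k ?_ ?_
                  · refine Nat.pos_of_ne_zero fun h0 => hu (orderOf_eq_one_iff.1 (by rw [hk, h0, pow_zero]))
                  · rw [show x j * (z * x i * z⁻¹)⁻¹ = x j * (z * (x i)⁻¹ * z⁻¹) by group, ← hc, ← hk]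
                    exact orderOf_injective (MulAut.conj c).toMonoidHom (MulAut.conj c).injective u
                rw [Nat.card_of_isEmpty (α := {z : G // IsConj u (x j * (z * (x i)⁻¹ * z⁻¹))}), Nat.cast_zero, mul_zero, zero_div]
              · rfl
            · simp
        _ = (p : ℂ) ^ d * if i = j then (cc i : ℂ) else 0 := by
            by_cases hij : i = j
            · subst hij
              rw [if_pos rfl, ← Nat.cast_pow, ← Nat.cast_mul, hccdef]
              congr 1
              rw [← hCd i, Nat.ordProj_mul_ordCompl_eq_self]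
              refine Nat.card_congr (Equiv.subtypeEquivRight fun z => ?_)
              rw [isConj_one_right, Subgroup.mem_centralizer_singleton_iff]
              constructor
              · intro h
                have h2 : x i = z * x i * z⁻¹ := by
                  calc x i = (x i * (z * (x i)⁻¹ * z⁻¹)) * (z * x i * z⁻¹) := by group
                    _ = z * x i * z⁻¹ := by rw [h, one_mul]
                calc z * x i = (z * x i * z⁻¹) * z := by group
                  _ = x i * z := by rw [← h2]
              · intro h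
                calc x i * (z * (x i)⁻¹ * z⁻¹) = (x i * z) * (x i)⁻¹ * z⁻¹ := by group
                  _ = 1 := by rw [← h]; group
            · rw [if_neg hij, mul_zero, Nat.cast_eq_zero, Nat.card_eq_zero]
              left
              refine ⟨fun z => hij ?_⟩
              obtain ⟨z, hz⟩ := z
              rw [isConj_one_right] at hz
              refine hx i j (isConj_iff.2 ⟨z, ?_⟩)
              calc z * x i * z⁻¹ = (x j * (z * (x i)⁻¹ * z⁻¹))⁻¹ * x j := by group
                _ = x j := by rw [hz, inv_one, one_mul]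
    obtain ⟨f, hfA, hfdet⟩ : ∃ f : Fin r → IrrCharacter G, (∀ i, ¬ MemLocalIdeal M (A i (f i))) ∧
        ¬ MemLocalIdeal M (Matrix.det (Matrix.of fun i j : Fin r => (f i : G → ℂ) (x j))) := by
      by_contra hcon
      push Not at hcon
      have hccu : ∀ i, ¬ MemLocalIdeal M (cc i : ℂ) := by
        intro i
        rw [natCast_mem_iff hM, hccdef]
        simp only
        rw [← hCd i]
        exact Nat.not_dvd_ordCompl hM.1 Nat.card_pos.ne'
      refine not_ideal_prod hM Finset.univ (fun i _ => natCast_mem (localRing hM) (cc i)) (fun i _ => hccu i) ?_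
      have e1 : (Matrix.of fun i j : Fin r => ∑ χ : IrrCharacter G, A i χ * (χ : G → ℂ) (x j)) =
          Matrix.diagonal fun i => (cc i : ℂ) := by
        ext i j
        rw [Matrix.of_apply, hkey, Matrix.diagonal_apply]
      rw [← Matrix.det_diagonal, ← e1]
      have e2 : (Matrix.of fun i j : Fin r => ∑ χ : IrrCharacter G, A i χ * (χ : G → ℂ) (x j)).det =
          ∑ f : Fin r → IrrCharacter G, (∏ i, A i (f i)) *
            Matrix.det (Matrix.of fun i j : Fin r => (f i : G → ℂ) (x j)) := by
        have h := (Matrix.detRowAlternating : (Fin r → ℂ) [⋀^Fin r]→ₗ[ℂ] ℂ).toMultilinearMap.map_sum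
          (fun i (χ : IrrCharacter G) => A i χ • fun j : Fin r => (χ : G → ℂ) (x j))
        refine Eq.trans ?_ (h.trans (Finset.sum_congr rfl fun f _ => ?_))
        · show Matrix.det _ = Matrix.det _
          congr 1
          ext i j
          simp
        · rw [MultilinearMap.map_smul_univ, smul_eq_mul]
          rfl
      rw [e2]
      refine ideal_sum hM fun f _ => ?_
      by_cases hall : ∀ i, ¬ MemLocalIdeal M (A i (f i))
      · exact ideal_mul_left hM ((localRing hM).prod_mem fun i _ => hA i (f i)) (hcon f hall)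
      · push Not at hall
        obtain ⟨i, hi⟩ := hall
        refine ideal_mul_right hM ?_ (of_isIntegral hM ?_)
        · rw [← Finset.mul_prod_erase _ _ (Finset.mem_univ i)]
          exact ideal_mul_right hM hi ((localRing hM).prod_mem fun k _ => hA k (f k))
        · exact IsIntegral.det fun k l => CharBasic.isCharacter_integral (irr_isCharacter (f k)) _
    have hval : ∀ (χ : IrrCharacter G) (g : G), MemLocalRing M ((χ : G → ℂ) g) := fun χ g =>
      of_isIntegral hM (CharBasic.isCharacter_integral (irr_isCharacter χ) g)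
    have hω : ∀ i, ¬ MemLocalIdeal M (centralChar (f i : G → ℂ) (x i)⁻¹) := fun i h =>
      hfA i (ideal_mul_right hM (ideal_mul_right hM h (hunit i)) (hs (f i)))
    have hrow : ∀ i, ∃ j, ¬ MemLocalIdeal M ((f i : G → ℂ) (x j)) := by
      intro i
      by_contra hcon
      push Not at hcon
      refine hfdet ?_
      rw [Matrix.det_apply']
      refine ideal_sum hM fun σ _ => ideal_mul_left hM (intCast_mem (localRing hM) _) ?_
      rw [← Finset.mul_prod_erase _ _ (Finset.mem_univ (σ⁻¹ i))]
      refine ideal_mul_right hM ?_ ((localRing hM).prod_mem fun k _ => hval _ _)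
      simpa using hcon (σ⁻¹ i)
    set e := a - d with hedef
    have hie : ∀ i, (ind i).factorization p = e := fun i => by have := hfac i; omega
    have hdeg : ∀ i, (charDegree (f i : G → ℂ)).factorization p = e := by
      intro i
      refine le_antisymm ?_ ?_
      · obtain ⟨j, hj⟩ := hrow i
        by_contra hlt
        refine hj ?_
        set n := charDegree (f i : G → ℂ) with hn
        obtain ⟨k, hk⟩ : p * p ^ e ∣ n := by
          rw [← pow_succ']; exact (Nat.pow_dvd_pow p (not_le.1 hlt)).trans (Nat.ordProj_dvd n p)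
        obtain ⟨hu, -⟩ := unit_quot hM (m := p ^ e) (n := ind j) (pow_ne_zero _ hM.1.ne_zero) (hind0 j)
          (by rw [Nat.Prime.factorization_pow hM.1, Finsupp.single_eq_same, hie])
        have hn0 : (n : ℂ) ≠ 0 := Nat.cast_ne_zero.2 (charDegree_pos (f i)).ne'
        have heq : (f i : G → ℂ) (x j) =
            (p : ℂ) * ((((p ^ e : ℕ) : ℂ) / (ind j : ℂ)) * ((k : ℂ) * centralChar (f i : G → ℂ) (x j))) := by
          have hjc : (ind j : ℂ) ≠ 0 := Nat.cast_ne_zero.2 (hind0 j)
          rw [centralChar, apply_one_eq_charDegree, ← hn]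
          simp only [hind] at hjc ⊢
          field_simp
          rw [hk]; push_cast; ring
        rw [heq]
        exact ideal_mul_right hM (natCast_p_mem hM)
          ((localRing hM).mul_mem hu ((localRing hM).mul_mem (natCast_mem (localRing hM) k) (hcc _ _)))
      · by_contra hlt
        refine hω i (ClassAlgebraMod.centralChar_mem_ideal hM (f i) _ ?_)
        rw [hcen]
        have := hie i
        simp only [hind] at this
        omega
    let B : Fin r → Set (IrrCharacter G) := fun i => blockOf M (f i : G → ℂ)
    have hB : ∀ i, IsPBlock M (B i) := fun i => isPBlock_blockOf (f i)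
    have hfB : ∀ i, f i ∈ B i := fun i => self_mem_blockOf hM (f i)
    have hdef : ∀ i, IsDefectGroup p M (B i) D ∧ minExp p (B i) = e := by
      intro i
      obtain ⟨D', hD'⟩ := exists_defectGroup hM (hB i)
      obtain ⟨g, hg, hgD⟩ := exists_conj_centralizes hM (hB i) hD' ⟨f i, hfB i, hω i⟩
      obtain ⟨S, hS⟩ := hD i
      obtain ⟨c, rfl⟩ := isConj_iff.1 hg
      have hconj : c * x i * c⁻¹ ∈ Subgroup.centralizer (D' : Set G) := by
        have := (Subgroup.centralizer (D' : Set G)).inv_mem hgD
        simpa [mul_assoc] using this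
      have hle : ConjLe D' D := hS ▸ conjLe_sylowIn_of_isConj (isPGroup_of_isDefectGroup hD')
        (isConj_iff.2 ⟨c, rfl⟩) hconj S
      have hcard := card_le_of_conjLe hle
      rw [card_defectGroup hM (hB i) hD', hDcard i, hCd i, blockDefect_eq] at hcard
      have h1 := Nat.pow_le_pow_iff_right hM.1.one_lt |>.1 hcard
      have h2 := minExp_le (p := p) (hfB i)
      rw [hdeg i] at h2
      have h3 := hfac i
      have hmin : minExp p (B i) = e := by rw [← ha] at h1; omega
      refine ⟨?_, hmin⟩
      obtain ⟨y, hy⟩ := eq_map_of_conjLe hle (by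
        rw [card_defectGroup hM (hB i) hD', hDcard i, hCd i, blockDefect_eq, hmin, ← ha]
        exact Nat.pow_le_pow_right hM.1.pos (by omega))
      exact hy ▸ isDefectGroup_map hD' y
    have hratio : ∀ i (χ : IrrCharacter G), χ ∈ B i → (charDegree (χ : G → ℂ)).factorization p = e →
        ∃ c : ℂ, MemLocalRing M c ∧ ¬ MemLocalIdeal M c ∧
          ∀ j, MemLocalIdeal M ((χ : G → ℂ) (x j) - c * (f i : G → ℂ) (x j)) := by
      intro i χ hχ hχe
      obtain ⟨hc1, hc2⟩ := unit_quot hM (m := charDegree (χ : G → ℂ)) (n := charDegree (f i : G → ℂ))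
        (charDegree_pos χ).ne' (charDegree_pos (f i)).ne' (by rw [hχe, hdeg])
      refine ⟨_, hc1, hc2, fun j => ?_⟩
      obtain ⟨hc3, -⟩ := unit_quot hM (m := charDegree (χ : G → ℂ)) (n := ind j)
        (charDegree_pos χ).ne' (hind0 j) (by rw [hχe, hie])
      have hω' := sameBlock_of_mem hM (hB i) hχ (hfB i) (x j)
      convert ideal_mul_left hM hc3 hω' using 1
      have h1 : (charDegree (χ : G → ℂ) : ℂ) ≠ 0 := Nat.cast_ne_zero.2 (charDegree_pos χ).ne'
      have h2 : (charDegree (f i : G → ℂ) : ℂ) ≠ 0 := Nat.cast_ne_zero.2 (charDegree_pos (f i)).ne'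
      have h3 : (ind j : ℂ) ≠ 0 := Nat.cast_ne_zero.2 (hind0 j)
      rw [centralChar, centralChar, apply_one_eq_charDegree, apply_one_eq_charDegree (f i)]
      simp only [hind] at h3 ⊢
      field_simp
    have hF : ∀ k l, MemLocalRing M ((Matrix.of fun i j : Fin r => (f i : G → ℂ) (x j)) k l) := fun k l => hval _ _
    refine ⟨B, fun i k hik => ?_, fun i => ⟨hB i, (hdef i).1⟩, fun χ hχ hI => ?_⟩
    · by_contra hne
      obtain ⟨c, hc, -, hcj⟩ := hratio i (f k) (by rw [hik]; exact hfB k) (hdeg k)
      refine hfdet ?_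
      set F := (Matrix.of fun i j : Fin r => (f i : G → ℂ) (x j)) with hFdef
      have hrowF : ∀ u v, MemLocalRing M (F.updateRow k (c • F i) u v) := by
        intro u v
        rw [Matrix.updateRow_apply]
        split_ifs
        · exact (localRing hM).mul_mem hc (hval _ _)
        · exact hval _ _
      have hz : (F.updateRow k (c • F i)).det = 0 := by
        rw [Matrix.det_updateRow_smul, Matrix.det_zero_of_row_eq hne ?_, mul_zero]
        rw [Matrix.updateRow_self, Matrix.updateRow_ne hne]
      have := ideal_det_sub hM F (F.updateRow k (c • F i)) hF hrowF fun u v => by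
        rw [Matrix.updateRow_apply]
        split_ifs with huk
        · subst huk; simpa [hFdef] using hcj v
        · rw [sub_self]; exact ideal_zero hM
      rwa [hz, sub_zero] at this
    · have hc : ∀ i, ∃ c : ℂ, MemLocalRing M c ∧ ¬ MemLocalIdeal M c ∧
          ∀ j, MemLocalIdeal M ((χ i : G → ℂ) (x j) - c * (f i : G → ℂ) (x j)) := fun i => by
        refine hratio i (χ i) (hχ i).1 ?_
        rw [exp_eq_add (p := p) (hχ i).1, (hχ i).2, (hdef i).2, add_zero]
      choose c hc1 hc2 hc3 using hc
      have := ideal_sub hM hI (ideal_det_sub hM (Matrix.of fun i j : Fin r => (χ i : G → ℂ) (x j))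
        (Matrix.of fun i j : Fin r => c i * (f i : G → ℂ) (x j)) (fun k l => hval _ _)
        (fun k l => (localRing hM).mul_mem (hc1 k) (hval _ _)) hc3)
      rw [sub_sub_cancel] at this
      refine not_ideal_mul hM (x := ∏ i, c i) ((localRing hM).prod_mem fun i _ => hc1 i)
        (of_isIntegral hM (IsIntegral.det fun k l => CharBasic.isCharacter_integral (irr_isCharacter (f k)) _))
        (not_ideal_prod hM _ (fun i _ => hc1 i) fun i _ => hc2 i) hfdet ?_
      have hmc := Matrix.det_mul_column c (Matrix.of fun i j : Fin r => (f i : G → ℂ) (x j))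
      exact hmc ▸ this
  exact main

end Cfsg.Agent.S4741
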