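import Cfsg.Statements.S4742
import Cfsg.Agent.Lib.ClassAlgebraOmega

set_option autoImplicit false
open Cfsg

namespace Cfsg.Agent.S4742

/-- Let p ≠ q be primes dividing the order of the finite group G, and suppose the centralizer of every non-identity p-element of G has order prime to q. Then either G has an irreducible character of p-defect zero, or for every non-identity q-element z of G there are conjugates g, h of z such that g h⁻¹ is a non-identity p-element. -/
theorem result {G : Type*} [Group G] [Finite G] (p q : ℕ) [Fact p.Prime] [Fact q.Prime] (hppq : p ≠ q) (hpG : p ∣ Nat.card G) (hqG : q ∣ Nat.card G) (hC : ∀ g : G, g ≠ 1 → (∃ k : ℕ, orderOf g = p ^ k) → ¬ q ∣ Nat.card ↥(Subgroup.centralizer ({g} : Set G))) : (∃ χ : Cfsg.IrrCharacter G, (Cfsg.charDegree (χ : G → ℂ)).factorization p = (Nat.card G).factorization p) ∨ ∀ z : G, z ≠ 1 → (∃ k : ℕ, orderOf z = q ^ k) → ∃ g h : G, IsConj z g ∧ IsConj z h ∧ g * h⁻¹ ≠ 1 ∧ ∃ k : ℕ, orderOf (g * h⁻¹) = p ^ k := by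
  classical
  have := Fintype.ofFinite G
  by_contra hcon
  push Not at hcon
  obtain ⟨hdef, z, hz1, ⟨k, hk⟩, hz⟩ := hcon
  have hp : p.Prime := Fact.out
  have hq : q.Prime := Fact.out
  have hvz : (Nat.card (Subgroup.centralizer ({z} : Set G))).factorization p = 0 := by
    refine Nat.factorization_eq_zero_of_not_dvd fun h => ?_
    obtain ⟨w, hw⟩ := exists_prime_orderOf_dvd_card' p h
    have hw1 : (w : G) ≠ 1 := by
      intro h1
      rw [← Subgroup.orderOf_coe, h1, orderOf_one] at hw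
      exact hp.ne_one hw.symm
    refine hC w hw1 ⟨1, by rw [Subgroup.orderOf_coe, hw, pow_one]⟩ ?_
    have hzw : z ∈ Subgroup.centralizer ({(w : G)} : Set G) :=
      Subgroup.mem_centralizer_singleton_iff.2 (Subgroup.mem_centralizer_singleton_iff.1 w.2).symm
    have hk0 : k ≠ 0 := by
      rintro rfl
      exact hz1 (orderOf_eq_one_iff.1 (by simpa using hk))
    exact (dvd_pow_self q hk0).trans (hk ▸ Subgroup.orderOf_dvd_natCard _ hzw)
  obtain ⟨S⟩ : Nonempty (Sylow p G) := inferInstance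
  obtain ⟨χ, hχ⟩ := ClassAlgebraVal.exists_degree_ge hp z (S : Subgroup G) _ 0
    S.card_eq_multiplicity hvz (by
      intro u hu hu1 x hx
      obtain ⟨d, hd⟩ := isConj_iff.1 hx
      have huv : u = (d⁻¹ * z * d) * (d⁻¹ * (x * z * x⁻¹) * d)⁻¹ := by
        calc u = d⁻¹ * (d * u * d⁻¹) * d := by group
          _ = _ := by rw [hd]; group
      have hu' : ∃ j : ℕ, orderOf u = p ^ j := by
        obtain ⟨j, hj⟩ := (IsPGroup.iff_orderOf.1 S.isPGroup') ⟨u, hu⟩
        exact ⟨j, by rw [← hj, ← Subgroup.orderOf_coe]⟩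
      obtain ⟨j, hj⟩ := hu'
      exact hz (d⁻¹ * z * d) (d⁻¹ * (x * z * x⁻¹) * d) (isConj_iff.2 ⟨d⁻¹, by group⟩)
        (isConj_iff.2 ⟨d⁻¹ * x, by group⟩) (by rw [← huv]; exact hu1) j (by rw [← huv]; exact hj))
  have h2 := ClassAlgebraOmega.factorization_charDegree_le χ p
  exact hdef χ (by omega)

end Cfsg.Agent.S4742
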