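import Cfsg.Statements.S4743
import Cfsg.Agent.S4742

set_option autoImplicit false
open Cfsg

namespace Cfsg.Agent.S4743

section
variable {G : Type*} [Group G] [Finite G]

theorem centralizer_symm (p q : ℕ) [Fact p.Prime] [Fact q.Prime]
    (hC : ∀ g : G, g ≠ 1 → (∃ k : ℕ, orderOf g = p ^ k) → ¬ q ∣ Nat.card ↥(Subgroup.centralizer ({g} : Set G))) :
    ∀ g : G, g ≠ 1 → (∃ k : ℕ, orderOf g = q ^ k) → ¬ p ∣ Nat.card ↥(Subgroup.centralizer ({g} : Set G)) := by
  intro z hz1 ⟨k, hk⟩ h
  obtain ⟨w, hw⟩ := exists_prime_orderOf_dvd_card' p h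
  have hw1 : (w : G) ≠ 1 := by
    intro h1
    rw [← Subgroup.orderOf_coe, h1, orderOf_one] at hw
    exact (Fact.out : p.Prime).ne_one hw.symm
  refine hC w hw1 ⟨1, by rw [Subgroup.orderOf_coe, hw, pow_one]⟩ ?_
  have hzw : z ∈ Subgroup.centralizer ({(w : G)} : Set G) :=
    Subgroup.mem_centralizer_singleton_iff.2 (Subgroup.mem_centralizer_singleton_iff.1 w.2).symm
  have hk0 : k ≠ 0 := by
    rintro rfl
    exact hz1 (orderOf_eq_one_iff.1 (by simpa using hk))
  exact (dvd_pow_self q hk0).trans (hk ▸ Subgroup.orderOf_dvd_natCard _ hzw)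

theorem defect_zero_of_normal (p q : ℕ) [Fact p.Prime] [Fact q.Prime] (hppq : p ≠ q)
    (hpG : p ∣ Nat.card G) (hqG : q ∣ Nat.card G)
    (hC : ∀ g : G, g ≠ 1 → (∃ k : ℕ, orderOf g = p ^ k) → ¬ q ∣ Nat.card ↥(Subgroup.centralizer ({g} : Set G)))
    (N : Subgroup G) [N.Normal] (hp : ¬ p ∣ Nat.card N) (hq : q ∣ Nat.card N) :
    ∃ χ : Cfsg.IrrCharacter G, (Cfsg.charDegree (χ : G → ℂ)).factorization p = (Nat.card G).factorization p := by
  refine (Cfsg.Agent.S4742.result p q hppq hpG hqG hC).resolve_right fun h => ?_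
  obtain ⟨z, hz⟩ := exists_prime_orderOf_dvd_card' q hq
  have hz1 : (z : G) ≠ 1 := by
    intro h1
    rw [← Subgroup.orderOf_coe, h1, orderOf_one] at hz
    exact (Fact.out : q.Prime).ne_one hz.symm
  obtain ⟨g, h', hg, hh, hne, k, hk⟩ := h z hz1 ⟨1, by rw [Subgroup.orderOf_coe, hz, pow_one]⟩
  have hmem : ∀ y : G, IsConj (z : G) y → y ∈ N := by
    intro y hy
    obtain ⟨c, rfl⟩ := isConj_iff.1 hy
    exact Subgroup.Normal.conj_mem inferInstance _ z.2 c
  have hk0 : k ≠ 0 := by
    rintro rfl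
    exact hne (orderOf_eq_one_iff.1 (by simpa using hk))
  exact hp ((dvd_pow_self p hk0).trans
    (hk ▸ Subgroup.orderOf_dvd_natCard _ (N.mul_mem (hmem g hg) (N.inv_mem (hmem h' hh)))))

theorem exists_normal_split (p q : ℕ) [Fact p.Prime] [Fact q.Prime] (hppq : p ≠ q)
    (hpG : p ∣ Nat.card G) (hsolv : Cfsg.IsPSolvable p G) :
    ∃ N : Subgroup G, N.Normal ∧ ((¬ p ∣ Nat.card N ∧ q ∣ Nat.card N) ∨ (¬ q ∣ Nat.card N ∧ p ∣ Nat.card N)) := by
  classical
  have hp : p.Prime := Fact.out
  have hq : q.Prime := Fact.out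
  obtain ⟨n, H, h0, hn, hmono, hN, hstep⟩ := hsolv
  by_contra hcon
  push Not at hcon
  have hzero : ∀ i : Fin (n + 1), ¬ p ∣ Nat.card (H i) ∧ ¬ q ∣ Nat.card (H i) := by
    intro i
    induction i using Fin.induction with
    | zero => rw [h0]; simp [hp.ne_one, hq.ne_one]
    | succ i ih =>
      have hcard : Nat.card (H i.castSucc) * (H i.castSucc).relIndex (H i.succ) = Nat.card (H i.succ) := by
        rw [← Subgroup.relIndex_bot_left (H i.castSucc), ← Subgroup.relIndex_bot_left (H i.succ),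
          Subgroup.relIndex_mul_relIndex _ _ _ bot_le (hmono (Fin.castSucc_lt_succ (i := i)).le)]
      obtain ⟨h1, h2⟩ := hcon (H i.succ) (hN _)
      rcases hstep i with ⟨m, hm⟩ | hm
      · have hq' : ¬ q ∣ Nat.card (H i.succ) := by
          rw [← hcard, hm]
          intro h
          rcases hq.dvd_mul.1 h with h | h
          · exact ih.2 h
          · exact hppq ((Nat.prime_dvd_prime_iff_eq hq hp).1 (hq.dvd_of_dvd_pow h)).symm
        exact ⟨h2 hq', hq'⟩
      · have hp' : ¬ p ∣ Nat.card (H i.succ) := by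
          rw [← hcard]
          intro h
          rcases hp.dvd_mul.1 h with h | h
          · exact ih.1 h
          · exact hp.coprime_iff_not_dvd.1 hm.symm h
        exact ⟨hp', h1 hp'⟩
  have := (hzero (Fin.last n)).1
  rw [hn, Subgroup.card_top] at this
  exact this hpG

end

/-- Let p ≠ q be primes dividing the order of the finite group G, suppose the centralizer of every non-identity p-element has order prime to q, and suppose G is p-solvable or q-solvable. Then G has an irreducible character of p-defect zero or an irreducible character of q-defect zero. -/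
theorem result {G : Type*} [Group G] [Finite G] (p q : ℕ) [Fact p.Prime] [Fact q.Prime] (hppq : p ≠ q) (hpG : p ∣ Nat.card G) (hqG : q ∣ Nat.card G) (hC : ∀ g : G, g ≠ 1 → (∃ k : ℕ, orderOf g = p ^ k) → ¬ q ∣ Nat.card ↥(Subgroup.centralizer ({g} : Set G))) (hsolv : Cfsg.IsPSolvable p G ∨ Cfsg.IsPSolvable q G) : (∃ χ : Cfsg.IrrCharacter G, (Cfsg.charDegree (χ : G → ℂ)).factorization p = (Nat.card G).factorization p) ∨ (∃ χ : Cfsg.IrrCharacter G, (Cfsg.charDegree (χ : G → ℂ)).factorization q = (Nat.card G).factorization q) := by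
  have hC' := centralizer_symm p q hC
  rcases hsolv with hs | hs
  · obtain ⟨N, hN, h | h⟩ := exists_normal_split p q hppq hpG hs
    · exact Or.inl (defect_zero_of_normal p q hppq hpG hqG hC N h.1 h.2)
    · exact Or.inr (defect_zero_of_normal q p hppq.symm hqG hpG hC' N h.1 h.2)
  · obtain ⟨N, hN, h | h⟩ := exists_normal_split q p hppq.symm hqG hs
    · exact Or.inr (defect_zero_of_normal q p hppq.symm hqG hpG hC' N h.1 h.2)
    · exact Or.inl (defect_zero_of_normal p q hppq hpG hqG hC N h.1 h.2)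

end Cfsg.Agent.S4743
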