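import Cfsg.Statements.S4744
import Cfsg.Agent.Lib.HallCore
import Cfsg.Agent.Lib.CharAverage
import Cfsg.Agent.Lib.CharBasicDecomp

set_option autoImplicit false
open Cfsg

namespace Cfsg.Agent.S4744

section
open Pointwise

variable {G : Type*} [Group G] [Finite G]


/-- An involution permuting an odd number of objects fixes one. -/
theorem exists_fixed_of_odd {α : Type*} [Finite α] (f : α → α) (hf : ∀ a, f (f a) = a)
    (hodd : Odd (Nat.card α)) : ∃ a, f a = a := by
  classical
  have : Fintype α := Fintype.ofFinite α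
  let e : Equiv.Perm α := ⟨f, f, hf, hf⟩
  have he : e ^ 2 ^ 1 = 1 := by ext a; simp [pow_succ, e, hf]
  have := Equiv.Perm.exists_fixed_point_of_prime (p := 2) (n := 1) (σ := e)
    (by rw [Nat.card_eq_fintype_card] at hodd; exact hodd.not_two_dvd_nat) he
  obtain ⟨a, ha⟩ := this
  exact ⟨a, ha⟩

/-- An involution acting on a group of odd order normalises one of its Sylow subgroups. -/
theorem exists_invariant_sylow_of_odd {p : ℕ} [Fact p.Prime] (M : Subgroup G) (t : G)
    (ht : t * t = 1) (hodd : Odd (Nat.card M)) (hn : ∀ x ∈ M, t * x * t ∈ M) :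
    ∃ P : Subgroup G, IsPGroup p P ∧ P ≤ M ∧ (∀ x ∈ P, t * x * t ∈ P) ∧
      ∀ Q : Subgroup G, IsPGroup p Q → Q ≤ M → Nat.card Q ≤ Nat.card P := by
  have tinv : t⁻¹ = t := inv_eq_of_mul_eq_one_right ht
  let φ : M ≃* M :=
    { toFun := fun x => ⟨t * (x : G) * t, hn x x.2⟩
      invFun := fun x => ⟨t * (x : G) * t, hn x x.2⟩
      left_inv := fun x => by
        apply Subtype.ext
        show t * (t * (x : G) * t) * t = x
        calc t * (t * (x : G) * t) * t = (t * t) * (x : G) * (t * t) := by group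
          _ = x := by rw [ht, one_mul, mul_one]
      right_inv := fun x => by
        apply Subtype.ext
        show t * (t * (x : G) * t) * t = x
        calc t * (t * (x : G) * t) * t = (t * t) * (x : G) * (t * t) := by group
          _ = x := by rw [ht, one_mul, mul_one]
      map_mul' := fun x y => by
        apply Subtype.ext
        show t * ((x : G) * y) * t = (t * x * t) * (t * y * t)
        calc t * ((x : G) * y) * t = t * x * 1 * y * t := by group
          _ = t * x * (t * t) * y * t := by rw [ht]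
          _ = _ := by group }
  have hSyl : Odd (Nat.card (Sylow p M)) := by
    obtain ⟨P⟩ : Nonempty (Sylow p M) := inferInstance
    exact hodd.of_dvd_nat ((Sylow.card_dvd_index P).trans (Subgroup.index_dvd_card _))
  have hmul : ∀ x : M, φ (φ x) = x := fun x => φ.left_inv x
  obtain ⟨P, hP⟩ := exists_fixed_of_odd
    (fun P : Sylow p M => P.mapSurjective (f := φ.toMonoidHom) φ.surjective)
    (fun P => by
      apply Sylow.ext
      ext x
      show x ∈ Subgroup.map φ.toMonoidHom (Subgroup.map φ.toMonoidHom (P : Subgroup M)) ↔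
        x ∈ (P : Subgroup M)
      simp only [Subgroup.mem_map, MulEquiv.coe_toMonoidHom]
      constructor
      · rintro ⟨a, ⟨b, hb, rfl⟩, rfl⟩
        rwa [hmul]
      · exact fun hx => ⟨φ x, ⟨x, hx, rfl⟩, hmul x⟩) hSyl
  refine ⟨(P : Subgroup M).map M.subtype, P.2.map _, Subgroup.map_subtype_le _, ?_, ?_⟩
  · intro x hx
    obtain ⟨y, hy, rfl⟩ := Subgroup.mem_map.1 hx
    refine Subgroup.mem_map.2 ⟨φ y, ?_, rfl⟩
    have : φ y ∈ ((P.mapSurjective (f := φ.toMonoidHom) φ.surjective : Sylow p M) : Subgroup M) :=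
      Subgroup.mem_map.2 ⟨y, hy, rfl⟩
    rwa [hP] at this
  · intro Q hQ hQM
    obtain ⟨R, hR⟩ := (hQ.comap_of_injective M.subtype M.subtype_injective).exists_le_sylow
    rw [Subgroup.card_map_of_injective M.subtype_injective]
    have h1 : Nat.card Q = Nat.card (Q.comap M.subtype) :=
      Nat.card_congr (Subgroup.subgroupOfEquivOfLe hQM).symm.toEquiv
    rw [h1]
    calc Nat.card (Q.comap M.subtype) ≤ Nat.card (R : Subgroup M) :=
          Nat.le_of_dvd Nat.card_pos (Subgroup.card_dvd_of_le hR)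
      _ = Nat.card (P : Subgroup M) := by
          rw [R.card_eq_multiplicity, P.card_eq_multiplicity]

/-- If an involution inverts a nontrivial `p`-element, and centralisers of such elements have odd
order, then it normalises a Sylow `p`-subgroup. -/
theorem exists_normalized_sylow (p : ℕ) [Fact p.Prime] (hp2 : p ≠ 2)
    (hC : ∀ g : G, g ≠ 1 → (∃ k : ℕ, orderOf g = p ^ k) →
      Odd (Nat.card ↥(Subgroup.centralizer ({g} : Set G))))
    (t : G) (ht : t * t = 1) (ht1 : t ≠ 1) (x : G) (hx1 : x ≠ 1)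
    (hxk : ∃ k : ℕ, orderOf x = p ^ k) (hxt : t * x * t = x⁻¹) :
    ∃ P : Sylow p G, ∀ y ∈ (P : Subgroup G), t * y * t = y⁻¹ := by
  classical
  have hpP : p.Prime := Fact.out
  have tinv : t⁻¹ = t := inv_eq_of_mul_eq_one_right ht
  have tt : ∀ z : G, t * (t * z * t) * t = z := fun z => by
    calc t * (t * z * t) * t = (t * t) * z * (t * t) := by group
      _ = z := by rw [ht, one_mul, mul_one]
  let S : Set (Subgroup G) := {D | IsPGroup p D ∧ ∀ z ∈ D, t * z * t ∈ D}
  have hS : Subgroup.zpowers x ∈ S := by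
    refine ⟨?_, ?_⟩
    · obtain ⟨k, hk⟩ := hxk
      exact IsPGroup.of_card (n := k) (by rw [Nat.card_zpowers, hk])
    · rintro z ⟨n, rfl⟩
      refine ⟨-n, ?_⟩
      show x ^ (-n) = t * x ^ n * t
      calc x ^ (-n) = (t * x * t⁻¹) ^ n := by rw [zpow_neg, ← inv_zpow, tinv, hxt]
        _ = t * x ^ n * t⁻¹ := conj_zpow
        _ = t * x ^ n * t := by rw [tinv]
  obtain ⟨D, hxD, hD⟩ := Finite.exists_le_maximal (p := fun D => D ∈ S) hS
  have hxD' : x ∈ D := hxD (Subgroup.mem_zpowers x)
  -- `t` acts fixed-point-freely, hence by inversion, on `D`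
  have hfix : ∀ z ∈ D, t * z * t = z → z = 1 := by
    intro z hz hzt
    by_contra hne
    have hodd := hC z hne (by
      obtain ⟨k, hk⟩ := (IsPGroup.iff_orderOf.1 hD.1.1) ⟨z, hz⟩
      exact ⟨k, by rwa [Subgroup.orderOf_mk] at hk⟩)
    have htC : t ∈ Subgroup.centralizer ({z} : Set G) := by
      rw [Subgroup.mem_centralizer_singleton_iff]
      calc t * z = t * z * (t * t) := by rw [ht, mul_one]
        _ = (t * z * t) * t := by group
        _ = z * t := by rw [hzt]
    have : 2 ∣ Nat.card ↥(Subgroup.centralizer ({z} : Set G)) := by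
      have h2 : orderOf (⟨t, htC⟩ : Subgroup.centralizer ({z} : Set G)) = 2 := by
        rw [Subgroup.orderOf_mk]
        exact orderOf_eq_prime (by rw [pow_two, ht]) ht1
      exact h2 ▸ orderOf_dvd_natCard _
    exact hodd.not_two_dvd_nat this
  let φ : D →* D :=
    { toFun := fun z => ⟨t * (z : G) * t, hD.1.2 z z.2⟩
      map_one' := Subtype.ext (by simp [ht])
      map_mul' := fun a b => Subtype.ext (by
        show t * ((a : G) * b) * t = (t * a * t) * (t * b * t)
        calc t * ((a : G) * b) * t = t * a * 1 * b * t := by group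
          _ = t * a * (t * t) * b * t := by rw [ht]
          _ = _ := by group) }
  have hff : MonoidHom.FixedPointFree φ := fun z hz =>
    Subtype.ext (hfix z z.2 (congrArg Subtype.val hz))
  have h2 : Function.Involutive φ := fun z => Subtype.ext (tt z)
  have hinv : ∀ z ∈ D, t * z * t = z⁻¹ := fun z hz =>
    congrArg Subtype.val (congrFun (hff.coe_eq_inv_of_involutive h2) ⟨z, hz⟩)
  -- `M = C(D) Q` for a Sylow subgroup `Q` of `N(D)` is `t`-invariant of odd order
  let C := Subgroup.centralizer (D : Set G)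
  have hCodd : Odd (Nat.card C) := by
    refine (hC x hx1 hxk).of_dvd_nat (Subgroup.card_dvd_of_le ?_)
    exact Subgroup.centralizer_le (by simpa using hxD')
  have hCn : ∀ h ∈ Subgroup.normalizer (D : Set G), ∀ c ∈ C, h * c * h⁻¹ ∈ C := by
    intro h hh c hc
    rw [Subgroup.mem_centralizer_iff] at hc ⊢
    intro d hd
    have : h⁻¹ * d * h ∈ D := by
      have := (Subgroup.mem_normalizer_iff.1 ((Subgroup.normalizer _).inv_mem hh) d).1 hd
      simpa using this
    calc d * (h * c * h⁻¹) = h * ((h⁻¹ * d * h) * c) * h⁻¹ := by group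
      _ = h * (c * (h⁻¹ * d * h)) * h⁻¹ := by rw [hc _ this]
      _ = h * c * h⁻¹ * d := by group
  have htN : t ∈ Subgroup.normalizer (D : Set G) := by
    rw [Subgroup.mem_normalizer_iff]
    intro z
    rw [tinv]
    refine ⟨hD.1.2 z, fun hz => ?_⟩
    simpa [tt] using hD.1.2 _ hz
  have hcomm : ∀ h ∈ Subgroup.normalizer (D : Set G), h⁻¹ * (t * h * t) ∈ C := by
    intro h hh
    rw [Subgroup.mem_centralizer_iff]
    intro d hd
    have key : (t * h * t) * d * (t * h * t)⁻¹ = h * d * h⁻¹ := by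
      calc (t * h * t) * d * (t * h * t)⁻¹ = t * (h * (t * d * t⁻¹) * h⁻¹) * t⁻¹ := by group
        _ = t * (h * d⁻¹ * h⁻¹) * t := by rw [tinv, hinv d hd]
        _ = (h * d⁻¹ * h⁻¹)⁻¹ :=
            hinv _ ((Subgroup.mem_normalizer_iff.1 hh d⁻¹).1 (D.inv_mem hd))
        _ = h * d * h⁻¹ := by group
    calc d * (h⁻¹ * (t * h * t))
        = h⁻¹ * (h * d * h⁻¹) * (t * h * t) := by group
      _ = h⁻¹ * ((t * h * t) * d * (t * h * t)⁻¹) * (t * h * t) := by rw [key]
      _ = h⁻¹ * (t * h * t) * d := by group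
  obtain ⟨Q, hQD⟩ := (hD.1.1.comap_of_injective (Subgroup.normalizer (D : Set G)).subtype
    (Subgroup.subtype_injective _)).exists_le_sylow
  let Q' : Subgroup G := (Q : Subgroup (Subgroup.normalizer (D : Set G))).map
    (Subgroup.normalizer (D : Set G)).subtype
  have hQ'p : IsPGroup p Q' := Q.2.map _
  have hQ'N : Q' ≤ Subgroup.normalizer (D : Set G) := Subgroup.map_subtype_le _
  have hDQ' : D ≤ Q' := fun d hd =>
    Subgroup.mem_map.2 ⟨⟨d, Subgroup.le_normalizer hd⟩, hQD hd, rfl⟩
  have hQnorm : Q' ≤ Subgroup.normalizer (C : Set G) := by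
    intro q hq
    rw [Subgroup.mem_normalizer_iff]
    intro c
    refine ⟨hCn q (hQ'N hq) c, fun hc => ?_⟩
    have := hCn q⁻¹ ((Subgroup.normalizer _).inv_mem (hQ'N hq)) _ hc
    simpa [mul_assoc] using this
  let M : Subgroup G := C ⊔ Q'
  have hMset : (M : Set G) = (C : Set G) * (Q' : Set G) :=
    Subgroup.coe_mul_of_right_le_normalizer_left C Q' hQnorm
  have hModd : Odd (Nat.card M) := by
    obtain ⟨k, hk⟩ := IsPGroup.iff_card.1 hQ'p
    have hQodd : Odd (Nat.card Q') := hk ▸ (hpP.odd_of_ne_two hp2).pow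
    refine (hCodd.mul hQodd).of_dvd_nat ?_
    have hCN : C ≤ Subgroup.normalizer (D : Set G) := Subgroup.centralizer_le_normalizer _
    have : (C.subgroupOf (Subgroup.normalizer (D : Set G))).Normal :=
      ⟨fun c hc h => hCn h h.2 c hc⟩
    have h1 := Cfsg.Agent.HallCore.card_sup_dvd (Q : Subgroup (Subgroup.normalizer (D : Set G)))
      (C.subgroupOf (Subgroup.normalizer (D : Set G)))
    have h2 : M = ((Q : Subgroup (Subgroup.normalizer (D : Set G))) ⊔
        C.subgroupOf (Subgroup.normalizer (D : Set G))).map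
          (Subgroup.normalizer (D : Set G)).subtype := by
      rw [Subgroup.map_sup, Subgroup.map_subgroupOf_eq_of_le hCN, sup_comm]
    rw [h2, Subgroup.card_map_of_injective (Subgroup.subtype_injective _), mul_comm,
      show Nat.card Q' = Nat.card (Q : Subgroup (Subgroup.normalizer (D : Set G))) from
        Subgroup.card_map_of_injective (Subgroup.subtype_injective _)]
    exact (Nat.card_congr (Subgroup.subgroupOfEquivOfLe hCN).toEquiv) ▸ h1
  have hMn : ∀ z ∈ M, t * z * t ∈ M := by
    intro z hz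
    rw [← SetLike.mem_coe, hMset, Set.mem_mul] at hz
    obtain ⟨c, hc, q, hq, rfl⟩ := hz
    have e : t * (c * q) * t = (t * c * t⁻¹) * (q * (q⁻¹ * (t * q * t))) := by
      rw [tinv]
      calc t * (c * q) * t = t * c * 1 * q * t := by group
        _ = t * c * (t * t) * q * t := by rw [ht]
        _ = _ := by group
    rw [e]
    exact M.mul_mem (Subgroup.mem_sup_left (hCn t htN c hc))
      (M.mul_mem (Subgroup.mem_sup_right hq) (Subgroup.mem_sup_left (hcomm q (hQ'N hq))))
  obtain ⟨R, hRp, hRM, hRt, hRmax⟩ := exists_invariant_sylow_of_odd (p := p) M t ht hModd hMn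
  -- `D` lies in `R` as `R` and a conjugate of `Q'` are both Sylow subgroups of `M`
  have hDC : D ≤ C := by
    intro a ha
    rw [Subgroup.mem_centralizer_iff]
    intro b hb
    exact congrArg Subtype.val (hff.commute_all_of_involutive h2 ⟨b, hb⟩ ⟨a, ha⟩).eq
  have hMD : M ≤ Subgroup.normalizer (D : Set G) :=
    sup_le (Subgroup.centralizer_le_normalizer _) hQ'N
  have hDR : D ≤ R := by
    have hRN : R ≤ Subgroup.normalizer (D : Set G) := hRM.trans hMD
    have hp1 : IsPGroup p (D ⊔ R : Subgroup G) := hD.1.1.to_sup_of_normal_left' hRp hRN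
    have hle : D ⊔ R ≤ M := sup_le (hDC.trans le_sup_left) hRM
    exact le_sup_left.trans
      (Subgroup.eq_of_le_of_card_ge le_sup_right (hRmax _ hp1 hle)).symm.le
  have hRD : R = D := le_antisymm (hD.2 ⟨hRp, hRt⟩ hDR) hDR
  have hQD' : Q' = D := (Subgroup.eq_of_le_of_card_ge hDQ'
    (hRD ▸ hRmax Q' hQ'p le_sup_right)).symm
  -- hence `D` is a Sylow subgroup
  obtain ⟨P, hP⟩ := hD.1.1.exists_le_sylow
  refine ⟨P, ?_⟩
  suffices (P : Subgroup G) = D by rw [this]; exact hinv
  by_contra hne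
  have hlt : D < P := lt_of_le_of_ne hP (Ne.symm hne)
  obtain ⟨z, hzP, hzD, hzN⟩ : ∃ z ∈ (P : Subgroup G), z ∉ D ∧
      z ∈ Subgroup.normalizer (D : Set G) := by
    have hnc : Group.IsNilpotent (P : Subgroup G) := IsPGroup.isNilpotent (p := p) P.2
    have hprop : D.subgroupOf P < ⊤ := lt_top_iff_ne_top.2 fun h =>
      hne (le_antisymm (Subgroup.subgroupOf_eq_top.1 h) hP)
    obtain ⟨z, hz1, hz2⟩ := SetLike.exists_of_lt (Group.normalizerCondition_of_isNilpotent _ hprop)
    refine ⟨(z : G), z.2, fun h => hz2 h, ?_⟩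
    rw [Subgroup.mem_normalizer_iff]
    intro w
    constructor
    · intro hw
      exact (Subgroup.mem_normalizer_iff.1 hz1 ⟨w, hP hw⟩).1 hw
    · intro hw
      have hwP : w ∈ (P : Subgroup G) := by
        have := (P : Subgroup G).mul_mem ((P : Subgroup G).mul_mem
          ((P : Subgroup G).inv_mem z.2) (hP hw)) z.2
        simpa [mul_assoc] using this
      exact (Subgroup.mem_normalizer_iff.1 hz1 ⟨w, hwP⟩).2 hw
  have hzp : IsPGroup p (D ⊔ Subgroup.zpowers z : Subgroup G) :=
    P.2.to_le (sup_le hP (by simpa using hzP))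
  obtain ⟨Q2, hQ2⟩ := (hzp.comap_of_injective (Subgroup.normalizer (D : Set G)).subtype
    (Subgroup.subtype_injective _)).exists_le_sylow
  have hc2 : Nat.card (Q2 : Subgroup (Subgroup.normalizer (D : Set G))) = Nat.card D := by
    rw [Q2.card_eq_multiplicity, ← Q.card_eq_multiplicity]
    exact (Subgroup.card_map_of_injective (Subgroup.subtype_injective _)).symm.trans
      (congrArg (fun K : Subgroup G => Nat.card K) hQD')
  have hle : D.subgroupOf (Subgroup.normalizer (D : Set G)) ≤ (Q2 : Subgroup _) :=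
    le_trans (Subgroup.comap_mono le_sup_left) hQ2
  have heq := Subgroup.eq_of_le_of_card_ge hle (by
    rw [hc2]
    exact (Nat.card_congr (Subgroup.subgroupOfEquivOfLe Subgroup.le_normalizer).toEquiv).ge)
  have : (⟨z, hzN⟩ : Subgroup.normalizer (D : Set G)) ∈ (Q2 : Subgroup _) :=
    hQ2 (Subgroup.mem_sup_right (Subgroup.mem_zpowers z))
  rw [← heq] at this
  exact hzD this


open Cfsg.Agent.CharBasic Cfsg.Agent.CharBasicOrth Cfsg.Agent.CharAverage in
/-- Without a character of `p`-defect zero, some involution inverts a nontrivial `p`-element. -/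
theorem exists_inverting (p : ℕ) [Fact p.Prime] (h2G : 2 ∣ Nat.card G)
    (hC : ∀ g : G, g ≠ 1 → (∃ k : ℕ, orderOf g = p ^ k) →
      Odd (Nat.card ↥(Subgroup.centralizer ({g} : Set G))))
    (hno : ∀ χ : Cfsg.IrrCharacter G,
      (Cfsg.charDegree (χ : G → ℂ)).factorization p < (Nat.card G).factorization p) :
    ∃ t x : G, t * t = 1 ∧ t ≠ 1 ∧ x ≠ 1 ∧ (∃ k : ℕ, orderOf x = p ^ k) ∧ t * x * t = x⁻¹ := by
  classical
  have := Fintype.ofFinite G
  have hpP : p.Prime := Fact.out
  obtain ⟨t, ht⟩ := exists_prime_orderOf_dvd_card' 2 h2G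
  have ht2 : t * t = 1 := by rw [← pow_two, ← ht, pow_orderOf_eq_one]
  have ht1 : t ≠ 1 := fun e => by simp [e] at ht
  by_contra hcon
  push Not at hcon
  have hpC : ¬ p ∣ Nat.card (Subgroup.centralizer ({t} : Set G)) := by
    intro h
    obtain ⟨x, hx⟩ := exists_prime_orderOf_dvd_card' p h
    have hx' : orderOf (x : G) = p := by rw [Subgroup.orderOf_coe, hx]
    have hx1 : (x : G) ≠ 1 := fun e => hpP.ne_one (by rw [← hx', e, orderOf_one])
    have hodd := hC x hx1 ⟨1, by rw [pow_one, hx']⟩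
    have hmem : t ∈ Subgroup.centralizer ({(x : G)} : Set G) := by
      rw [Subgroup.mem_centralizer_singleton_iff]
      exact (Subgroup.mem_centralizer_singleton_iff.1 x.2).symm
    refine hodd.not_two_dvd_nat ?_
    have : orderOf (⟨t, hmem⟩ : Subgroup.centralizer ({(x : G)} : Set G)) = 2 := by
      rw [Subgroup.orderOf_mk, ht]
    exact this ▸ orderOf_dvd_natCard _
  obtain ⟨P⟩ : Nonempty (Sylow p G) := inferInstance
  obtain ⟨a, ha⟩ := IsPGroup.iff_card.1 P.2
  have ha' : (Nat.card G).factorization p = a := by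
    have := P.card_eq_multiplicity
    rw [ha] at this
    exact (Nat.pow_right_injective hpP.two_le this).symm
  have hG : (Nat.card G : ℂ) ≠ 0 := Nat.cast_ne_zero.2 Nat.card_pos.ne'
  -- each column identity
  have hcount : ∀ a b : G, ((if a * t * a⁻¹ * (b * t * b⁻¹) ∈ (P : Subgroup G) then 1 else 0 : ℂ)) =
      if a⁻¹ * b ∈ Subgroup.centralizer ({t} : Set G) then 1 else 0 := by
    intro a b
    refine if_congr ⟨fun h => ?_, fun h => ?_⟩ rfl rfl
    · have hu : a * t * a⁻¹ * (a * t * a⁻¹) = 1 := by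
        calc _ = a * (t * t) * a⁻¹ := by group
          _ = 1 := by rw [ht2]; group
      have hu1 : a * t * a⁻¹ ≠ 1 := fun e => ht1 (by
        calc t = a⁻¹ * (a * t * a⁻¹) * a := by group
          _ = 1 := by rw [e]; group)
      have hx1 : a * t * a⁻¹ * (b * t * b⁻¹) = 1 := by
        by_contra hne
        obtain ⟨k, hk⟩ := (IsPGroup.iff_orderOf.1 P.2) ⟨_, h⟩
        rw [Subgroup.orderOf_mk] at hk
        refine hcon _ _ hu hu1 hne ⟨k, hk⟩ ?_
        have hv : (b * t * b⁻¹)⁻¹ = b * t * b⁻¹ := inv_eq_of_mul_eq_one_right (by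
          calc _ = b * (t * t) * b⁻¹ := by group
            _ = 1 := by rw [ht2]; group)
        calc a * t * a⁻¹ * (a * t * a⁻¹ * (b * t * b⁻¹)) * (a * t * a⁻¹)
            = (a * t * a⁻¹ * (a * t * a⁻¹)) * (b * t * b⁻¹) * (a * t * a⁻¹) := by group
          _ = b * t * b⁻¹ * (a * t * a⁻¹) := by rw [hu, one_mul]
          _ = _ := by rw [mul_inv_rev, hv, inv_eq_of_mul_eq_one_right hu]
      rw [Subgroup.mem_centralizer_singleton_iff]
      have hv2 : b * t * b⁻¹ = a * t * a⁻¹ := by
        rw [← inv_eq_of_mul_eq_one_right hu]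
        exact (inv_eq_of_mul_eq_one_right hx1).symm
      calc a⁻¹ * b * t = a⁻¹ * (b * t * b⁻¹) * b := by group
        _ = t * (a⁻¹ * b) := by rw [hv2]; group
    · rw [Subgroup.mem_centralizer_singleton_iff] at h
      have : b * t * b⁻¹ = a * t * a⁻¹ := by
        calc b * t * b⁻¹ = a * (a⁻¹ * b * t) * b⁻¹ := by group
          _ = a * t * a⁻¹ := by rw [h]; group
      rw [this, show a * t * a⁻¹ * (a * t * a⁻¹) = a * (t * t) * a⁻¹ by group, ht2, mul_one,
        mul_inv_cancel]
      exact one_mem _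
  have htot : ∑ a : G, ∑ b : G,
      ((if a * t * a⁻¹ * (b * t * b⁻¹) ∈ (P : Subgroup G) then 1 else 0 : ℂ)) =
      (Nat.card G : ℂ) * Nat.card (Subgroup.centralizer ({t} : Set G)) := by
    simp only [hcount]
    have : ∀ a : G, ∑ b : G, (if a⁻¹ * b ∈ Subgroup.centralizer ({t} : Set G) then 1 else 0 : ℂ)
        = Nat.card (Subgroup.centralizer ({t} : Set G)) := by
      intro a
      rw [← Equiv.sum_comp (Equiv.mulLeft a)]
      simp [Finset.sum_boole, Nat.card_eq_fintype_card, Fintype.card_subtype]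
    simp only [this, Finset.sum_const, Finset.card_univ, nsmul_eq_mul, Nat.card_eq_fintype_card]
  have hm : ∀ χ : Cfsg.IrrCharacter G, ∃ m : ℕ, ∑ x : G,
      (if x ∈ (P : Subgroup G) then (χ : G → ℂ) x⁻¹ else 0) =
      (Nat.card (P : Subgroup G) : ℂ) * m := by
    intro χ
    obtain ⟨m, hm⟩ := classInner_isCharacter
      (isCharacter_comap (P : Subgroup G).subtype (irr_isCharacter χ))
      (Cfsg.Agent.CharBasicDecomp.isCharacter_one (G := (P : Subgroup G)))
    refine ⟨m, ?_⟩
    rw [← hm, card_mul_classInner, ← Equiv.sum_comp (Equiv.inv G)]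
    simp only [Equiv.inv_apply, inv_inv, inv_mem_iff, map_one, mul_one]
    rw [← Finset.sum_filter]
    exact Finset.sum_subtype _ (by simp) _
  choose m hm using hm
  have hkey : (Nat.card (Subgroup.centralizer ({t} : Set G)) : ℂ) =
      (Nat.card (P : Subgroup G) : ℂ) *
        ∑ χ : Cfsg.IrrCharacter G, (χ : G → ℂ) t ^ 2 * m χ / (χ : G → ℂ) 1 := by
    refine mul_left_cancel₀ (pow_ne_zero 2 hG) ?_
    have hcol : ∀ z : G, (∑ χ : Cfsg.IrrCharacter G, (χ : G → ℂ) 1 * (χ : G → ℂ) z) =
        if z = 1 then (Nat.card G : ℂ) else 0 := by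
      intro z
      have h := sum_irr_mul_conj z 1
      have hcc : IsConj z 1 ↔ z = 1 := isConj_one_left
      simp only [hcc] at h
      rw [show (∑ χ : Cfsg.IrrCharacter G, (χ : G → ℂ) 1 * (χ : G → ℂ) z) =
        ∑ χ : Cfsg.IrrCharacter G, (χ : G → ℂ) z * (starRingEnd ℂ) ((χ : G → ℂ) 1) from
          Finset.sum_congr rfl fun χ _ => by rw [irr_apply_one χ, Complex.conj_natCast, mul_comm],
        h]
      split_ifs with hz
      · subst hz
        rw [Subgroup.centralizer_eq_top_iff_subset.2 (by simp), Subgroup.card_top]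
      · rfl
    calc (Nat.card G : ℂ) ^ 2 * Nat.card (Subgroup.centralizer ({t} : Set G))
        = ∑ x : G, if x ∈ (P : Subgroup G) then ∑ a : G, ∑ b : G,
            ∑ χ : Cfsg.IrrCharacter G, (χ : G → ℂ) 1 *
              (χ : G → ℂ) (a * t * a⁻¹ * (b * t * b⁻¹ * x⁻¹)) else 0 := by
          simp only [hcol]
          rw [pow_two, mul_assoc, ← htot, Finset.mul_sum]
          simp only [Finset.mul_sum]
          rw [← Finset.sum_filter]
          conv_rhs => rw [Finset.sum_comm]
          refine Finset.sum_congr rfl fun a _ => ?_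
          conv_rhs => rw [Finset.sum_comm]
          refine Finset.sum_congr rfl fun b _ => ?_
          simp only [← mul_assoc (a * t * a⁻¹), mul_inv_eq_one]
          rw [Finset.sum_ite_eq]
          simp
      _ = ∑ χ : Cfsg.IrrCharacter G, (Nat.card G : ℂ) ^ 2 * (χ : G → ℂ) t ^ 2 /
            (χ : G → ℂ) 1 * ∑ x : G, (if x ∈ (P : Subgroup G) then (χ : G → ℂ) x⁻¹ else 0) := by
          simp only [Finset.mul_sum]
          rw [Finset.sum_comm (γ := Cfsg.IrrCharacter G)]
          refine Finset.sum_congr rfl fun x _ => ?_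
          by_cases hx : x ∈ (P : Subgroup G)
          · simp only [if_pos hx]
            rw [Finset.sum_comm_cycle]
            refine Finset.sum_congr rfl fun χ _ => ?_
            rw [Finset.sum_comm]
            simp only [← Finset.mul_sum, sum_conj_mul, ← Finset.sum_div]
            have h1 := irr_one_ne_zero χ
            field_simp
          · simp [hx]
      _ = _ := by
          simp only [hm, Finset.mul_sum]
          exact Finset.sum_congr rfl fun χ _ => by ring
  -- clear the prime-to-`p` parts of the degrees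
  choose z hz using fun χ : Cfsg.IrrCharacter G => apply_involution_eq_int (irr_isCharacter χ) ht2
  let d : Cfsg.IrrCharacter G → ℕ := fun χ => Cfsg.charDegree (χ : G → ℂ)
  let e : Cfsg.IrrCharacter G → ℕ := fun χ => d χ / p ^ (d χ).factorization p
  have he : ∀ χ, ¬ p ∣ e χ := fun χ => Nat.not_dvd_ordCompl hpP (irr_degree_pos χ).ne'
  have hd : ∀ χ, d χ = p ^ (d χ).factorization p * e χ := fun χ =>
    (Nat.ordProj_mul_ordCompl_eq_self (d χ) p).symm
  let D := ∏ χ, e χ
  let T : Cfsg.IrrCharacter G → ℤ := fun χ => z χ ^ 2 * m χ *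
    (p : ℤ) ^ (a - (d χ).factorization p - 1) * ((D / e χ : ℕ) : ℤ)
  have hterm : ∀ χ : Cfsg.IrrCharacter G, (Nat.card (P : Subgroup G) : ℂ) *
      ((χ : G → ℂ) t ^ 2 * m χ / (χ : G → ℂ) 1) * D = ((p * T χ : ℤ) : ℂ) := by
    intro χ
    obtain ⟨w, hw⟩ : e χ ∣ D := Finset.dvd_prod_of_mem e (Finset.mem_univ χ)
    have hepos : 0 < e χ := Nat.pos_of_ne_zero fun h => he χ (h ▸ dvd_zero p)
    have hw' : D / e χ = w := by rw [hw, Nat.mul_div_cancel_left _ hepos]
    have hv : (d χ).factorization p < a := ha' ▸ hno χ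
    obtain ⟨r, hr⟩ : ∃ r, a = (d χ).factorization p + 1 + r := ⟨_, (Nat.add_sub_of_le hv).symm⟩
    have hr' : a - (d χ).factorization p - 1 = r := by omega
    simp only [T, hw', hr']
    rw [hz χ, irr_apply_one χ, ha, hw, show Cfsg.charDegree (χ : G → ℂ) = d χ from rfl]
    conv_lhs => rw [hd χ, hr]
    push_cast
    have h1 : (p : ℂ) ≠ 0 := Nat.cast_ne_zero.2 hpP.ne_zero
    have h2 : (e χ : ℂ) ≠ 0 := Nat.cast_ne_zero.2 hepos.ne'
    field_simp
    ring
  have hfin : (p : ℤ) ∣ ((Nat.card (Subgroup.centralizer ({t} : Set G)) * D : ℕ) : ℤ) := by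
    refine ⟨∑ χ, T χ, Int.cast_injective (α := ℂ) ?_⟩
    push_cast
    rw [hkey, Finset.mul_sum, Finset.sum_mul, Finset.mul_sum]
    exact Finset.sum_congr rfl fun χ _ => by rw [hterm]; push_cast; ring
  rcases hpP.dvd_mul.1 (Int.natCast_dvd_natCast.1 hfin) with h | h
  · exact hpC h
  · obtain ⟨χ, -, hχ⟩ := (Prime.dvd_finsetProd_iff hpP.prime _).1 h
    exact he χ hχ

omit [Finite G] in
/-- The degree of an irreducible character has `p`-part at most that of the group order, as soon
as it is not of defect zero. -/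
theorem factorization_lt (p : ℕ) [Fact p.Prime]
    (hle : ∀ χ : Cfsg.IrrCharacter G,
      (Cfsg.charDegree (χ : G → ℂ)).factorization p ≤ (Nat.card G).factorization p)
    (h : ¬ ∃ χ : Cfsg.IrrCharacter G,
      (Cfsg.charDegree (χ : G → ℂ)).factorization p = (Nat.card G).factorization p)
    (χ : Cfsg.IrrCharacter G) :
    (Cfsg.charDegree (χ : G → ℂ)).factorization p < (Nat.card G).factorization p :=
  lt_of_le_of_ne (hle χ) fun e => h ⟨χ, e⟩

end


/-- Let p be an odd prime and G a finite group of even order divisible by p in which the centralizer of every non-identity p-element has odd order. Then either G has an irreducible character of p-defect zero, or the normalizer of every Sylow p-subgroup P of G has even order and P is abelian. -/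
theorem result {G : Type*} [Group G] [Finite G] (p : ℕ) [Fact p.Prime] (hp2 : p ≠ 2) (hpG : p ∣ Nat.card G) (h2G : 2 ∣ Nat.card G) (hC : ∀ g : G, g ≠ 1 → (∃ k : ℕ, orderOf g = p ^ k) → Odd (Nat.card ↥(Subgroup.centralizer ({g} : Set G)))) : (∃ χ : Cfsg.IrrCharacter G, (Cfsg.charDegree (χ : G → ℂ)).factorization p = (Nat.card G).factorization p) ∨ ∀ P : Sylow p G, Even (Nat.card ↥(Subgroup.normalizer ((P : Subgroup G) : Set G))) ∧ IsMulCommutative ↥(P : Subgroup G) := by
  have : Fintype G := Fintype.ofFinite G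
  refine or_iff_not_imp_left.2 fun hno => ?_
  have hle : ∀ χ : Cfsg.IrrCharacter G,
      (Cfsg.charDegree (χ : G → ℂ)).factorization p ≤ (Nat.card G).factorization p := fun χ =>
    (Nat.factorization_le_iff_dvd (Cfsg.Agent.CharAverage.irr_degree_pos χ).ne'
      Nat.card_pos.ne').2 (Cfsg.Agent.CharAverage.charDegree_dvd_card χ) p
  obtain ⟨t, x, ht, ht1, hx1, hxk, hxt⟩ := exists_inverting p h2G hC (factorization_lt p hle hno)
  obtain ⟨P₀, hP₀⟩ := exists_normalized_sylow p hp2 hC t ht ht1 x hx1 hxk hxt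
  intro P
  obtain ⟨g, hg⟩ := MulAction.exists_smul_eq G P₀ P
  have hinv : ∀ y ∈ (P : Subgroup G), g * t * g⁻¹ * y * (g * t * g⁻¹)⁻¹ = y⁻¹ := by
    intro y hy
    rw [← hg] at hy
    obtain ⟨w, hw, rfl⟩ := Subgroup.mem_map.1 hy
    show g * t * g⁻¹ * (g * w * g⁻¹) * (g * t * g⁻¹)⁻¹ = (g * w * g⁻¹)⁻¹
    calc g * t * g⁻¹ * (g * w * g⁻¹) * (g * t * g⁻¹)⁻¹ = g * (t * w * t⁻¹) * g⁻¹ := by group
      _ = g * w⁻¹ * g⁻¹ := by rw [inv_eq_of_mul_eq_one_right ht, hP₀ w hw]
      _ = _ := by group
  refine ⟨even_iff_two_dvd.2 ?_, ⟨⟨fun y z => Subtype.ext ?_⟩⟩⟩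
  · have hmem : g * t * g⁻¹ ∈ Subgroup.normalizer ((P : Subgroup G) : Set G) := by
      rw [Subgroup.mem_normalizer_iff]
      intro y
      refine ⟨fun hy => by rw [hinv y hy]; exact inv_mem hy, fun hy => ?_⟩
      have h1 := hinv _ hy
      have h2 : g * t * g⁻¹ * (g * t * g⁻¹) = 1 := by
        calc _ = g * (t * t) * g⁻¹ := by group
          _ = 1 := by rw [ht]; group
      rw [inv_eq_of_mul_eq_one_right h2] at h1 hy
      have h3 : y = (g * t * g⁻¹ * y * (g * t * g⁻¹))⁻¹ := by
        rw [← h1]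
        calc y = (g * t * g⁻¹ * (g * t * g⁻¹)) * y * (g * t * g⁻¹ * (g * t * g⁻¹)) := by
              rw [h2]; group
          _ = _ := by group
      rw [h3]
      exact inv_mem hy
    have : orderOf (⟨_, hmem⟩ : Subgroup.normalizer ((P : Subgroup G) : Set G)) = 2 := by
      rw [Subgroup.orderOf_mk]
      refine orderOf_eq_prime ?_ (fun e => ht1 ?_)
      · calc (g * t * g⁻¹) ^ 2 = g * (t * t) * g⁻¹ := by rw [pow_two]; group
          _ = 1 := by rw [ht]; group
      · calc t = g⁻¹ * (g * t * g⁻¹) * g := by group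
          _ = 1 := by rw [e]; group
    exact this ▸ orderOf_dvd_natCard _
  · show (y : G) * z = z * y
    have h1 := hinv _ ((P : Subgroup G).mul_mem y.2 z.2)
    rw [← conj_mul, hinv y y.2, hinv z z.2, mul_inv_rev] at h1
    calc (y : G) * z = ((z : G)⁻¹ * (y : G)⁻¹)⁻¹ := by group
      _ = ((y : G)⁻¹ * (z : G)⁻¹)⁻¹ := by rw [h1]
      _ = _ := by group

end Cfsg.Agent.S4744
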