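import Cfsg.Agent.Lib.OddCentTransitive65

set_option autoImplicit false
open Cfsg

namespace Cfsg.Agent.S4745

/-- Let p be an odd prime and G a finite group of even order divisible by p in which the centralizer of every non-identity p-element has odd order, and suppose G acts faithfully and transitively on a set with p ^ r elements, r ≥ 1. Then either G has an irreducible character of p-defect zero, or G is p-solvable and has an irreducible character of 2-defect zero. -/
theorem result {G Ω : Type*} [Group G] [Finite G] [MulAction G Ω] [FaithfulSMul G Ω] [Fintype Ω] (htr : MulAction.IsPretransitive G Ω) (p : ℕ) [Fact p.Prime] (hp2 : p ≠ 2) (hpG : p ∣ Nat.card G) (h2G : 2 ∣ Nat.card G) (hC : ∀ g : G, g ≠ 1 → (∃ k : ℕ, orderOf g = p ^ k) → Odd (Nat.card ↥(Subgroup.centralizer ({g} : Set G)))) (r : ℕ) (hr : 1 ≤ r) (hΩ : Fintype.card Ω = p ^ r) : (∃ χ : Cfsg.IrrCharacter G, (Cfsg.charDegree (χ : G → ℂ)).factorization p = (Nat.card G).factorization p) ∨ (Cfsg.IsPSolvable p G ∧ ∃ χ : Cfsg.IrrCharacter G, (Cfsg.charDegree (χ : G → ℂ)).factorization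 2 = (Nat.card G).factorization 2) := by
  refine or_iff_not_imp_left.2 fun hno => ?_
  haveI := htr
  have : Fintype G := Fintype.ofFinite G
  have hle : ∀ χ : Cfsg.IrrCharacter G,
      (Cfsg.charDegree (χ : G → ℂ)).factorization p ≤ (Nat.card G).factorization p := fun χ =>
    (Nat.factorization_le_iff_dvd (Cfsg.Agent.CharAverage.irr_degree_pos χ).ne'
      Nat.card_pos.ne').2 (Cfsg.Agent.CharAverage.charDegree_dvd_card χ) p
  have c : OddCentTransitive65.Ctx p r G Ω :=
    ⟨hp2, hpG, h2G, hC, by rw [Nat.card_eq_fintype_card, hΩ], hr,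
      Cfsg.Agent.S4744.factorization_lt p hle hno⟩
  exact c.main

end Cfsg.Agent.S4745
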