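import Cfsg.Statements.S4746
import Cfsg.Agent.S4744
import Cfsg.Agent.Lib.CharAverage

set_option autoImplicit false
open Cfsg

namespace Cfsg.Agent.S4746

open scoped ComplexConjugate
open Cfsg.Agent.CharBasic Cfsg.Agent.CharBasicOrth Cfsg.Agent.CharAverage


/-- Let p be an odd prime and G a finite group of even order divisible by p in which the centralizer of every non-identity p-element has odd order. Then G has an irreducible character of p-defect zero or an irreducible character of even degree. -/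
theorem result {G : Type*} [Group G] [Finite G] (p : ℕ) [Fact p.Prime] (hp2 : p ≠ 2) (hpG : p ∣ Nat.card G) (h2G : 2 ∣ Nat.card G) (hC : ∀ g : G, g ≠ 1 → (∃ k : ℕ, orderOf g = p ^ k) → Odd (Nat.card ↥(Subgroup.centralizer ({g} : Set G)))) : (∃ χ : Cfsg.IrrCharacter G, (Cfsg.charDegree (χ : G → ℂ)).factorization p = (Nat.card G).factorization p) ∨ ∃ χ : Cfsg.IrrCharacter G, Even (Cfsg.charDegree (χ : G → ℂ)) := by
  classical
  have := Fintype.ofFinite G
  refine or_iff_not_imp_left.2 fun hno => ?_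
  have hle : ∀ χ : Cfsg.IrrCharacter G,
      (Cfsg.charDegree (χ : G → ℂ)).factorization p ≤ (Nat.card G).factorization p := fun χ =>
    (Nat.factorization_le_iff_dvd (irr_degree_pos χ).ne' Nat.card_pos.ne').2 (charDegree_dvd_card χ) p
  obtain ⟨t, x, ht, ht1, hx1, hxk, hxt⟩ :=
    Cfsg.Agent.S4744.exists_inverting p h2G hC (Cfsg.Agent.S4744.factorization_lt p hle hno)
  by_contra hev
  push Not at hev
  have hconj : IsConj x x⁻¹ := isConj_iff.2 ⟨t, by rw [inv_eq_of_mul_eq_one_right ht]; exact hxt⟩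
  have hreal : ∀ χ : Cfsg.IrrCharacter G, conj ((χ : G → ℂ) x) = (χ : G → ℂ) x := fun χ => by
    rw [← isCharacter_inv (irr_isCharacter χ)]
    exact ((isConj_iff_forall_irr _ _).1 hconj χ).symm
  have h1 := sum_irr_mul_conj x x
  rw [if_pos (IsConj.refl x)] at h1
  simp only [hreal, ← pow_two] at h1
  have h0 := sum_irr_mul_conj x 1
  rw [if_neg (fun e => hx1 (isConj_one_left.1 e))] at h0
  choose e he using fun χ : Cfsg.IrrCharacter G => Nat.not_even_iff_odd.1 (hev χ)
  obtain ⟨w, hw, hsq⟩ := exists_sq_sum_eq Finset.univ (fun χ : Cfsg.IrrCharacter G => (χ : G → ℂ) x)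
    fun χ _ => isCharacter_integral (irr_isCharacter χ) x
  have hval : ∀ χ : Cfsg.IrrCharacter G, (χ : G → ℂ) x * conj ((χ : G → ℂ) 1) =
      (χ : G → ℂ) x + 2 * ((e χ : ℂ) * (χ : G → ℂ) x) := fun χ => by
    rw [irr_apply_one χ, Complex.conj_natCast, he χ]; push_cast; ring
  simp only [hval, Finset.sum_add_distrib, ← Finset.mul_sum] at h0
  have hE : IsIntegral ℤ (∑ χ : Cfsg.IrrCharacter G, (e χ : ℂ) * (χ : G → ℂ) x) :=
    IsIntegral.sum _ fun χ _ =>
      (isIntegral_algebraMap (R := ℤ) (A := ℂ) (x := (e χ : ℤ))).mul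
        (isCharacter_integral (irr_isCharacter χ) x) |> fun h => by simpa using h
  rw [eq_neg_of_add_eq_zero_left h0, h1] at hsq
  refine (hC x hx1 hxk).not_two_dvd_nat (even_iff_two_dvd.1 (even_of_eq_two_mul
    (w := 2 * (∑ χ : Cfsg.IrrCharacter G, (e χ : ℂ) * (χ : G → ℂ) x) ^ 2 - w) ?_ ?_))
  · exact (((isIntegral_algebraMap (R := ℤ) (A := ℂ) (x := 2))).mul (hE.pow 2)).sub hw
      |> fun h => by simpa using h
  · linear_combination -hsq

end Cfsg.Agent.S4746
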