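import Mathlib
import Cfsg.Statements.S4748
import Cfsg.Agent.Lib.HallCore
import Cfsg.Agent.Lib.HallSolvable
import Cfsg.Agent.Lib.CoprimeAction
import Cfsg.Agent.Lib.CharBasicLinear

set_option autoImplicit false
open Cfsg

namespace Cfsg.Agent.S4748

open Subgroup Cfsg.Agent.CharBasic Cfsg.Agent.CharBasicOrth Cfsg.Agent.CharBasicDecomp
  Cfsg.Agent.CharBasicLinear
open scoped ComplexConjugate commutatorElement Pointwise

universe u

/-- An irreducible character moving enough central commutators lives on a small subgroup. -/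
theorem card_le_of_central_shift {Q : Type u} [Group Q] [Fintype Q] (C : Subgroup Q)
    {ψ : Q → ℂ} (hψ : Cfsg.IsIrrCharacter Q ψ) {n : ℕ} (hn : ψ 1 = n)
    (hC : ∀ x ∉ C, ∃ w ∈ center Q, ψ w ≠ ψ 1 ∧ IsConj x (w * x)) :
    Nat.card Q ≤ Nat.card C * n ^ 2 := by
  classical
  have hch := isCharacter_of_isIrrCharacter hψ
  have hzero : ∀ x ∉ C, ψ x = 0 := by
    intro x hx
    obtain ⟨w, hw, hne, hconj⟩ := hC x hx
    have h1 : ψ x = ψ (w * x) := apply_eq_of_isConj (isClassFunction_of_isCharacter hch) hconj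
    obtain ⟨k, ρ, hρ, rfl⟩ := hψ
    obtain ⟨c, hc⟩ := exists_scalar_of_mem_center ρ hw
    have h2 : ρ.character (w * x) = c * ρ.character x := by
      show LinearMap.trace ℂ _ (ρ (w * x)) = c * LinearMap.trace ℂ _ (ρ x)
      rw [map_mul, hc]
      simp [Module.End.mul_eq_comp, LinearMap.smul_comp]
    by_contra hx0
    apply hne
    have hc1 : c = 1 := by
      rw [h2] at h1
      exact mul_right_cancel₀ hx0 (by rw [one_mul]; exact h1.symm)
    show LinearMap.trace ℂ _ (ρ w) = LinearMap.trace ℂ _ (ρ 1)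
    rw [map_one, hc, hc1, one_smul]; rfl
  have hle : ∀ x, ‖ψ x‖ ^ 2 ≤ if x ∈ C then (n : ℝ) ^ 2 else 0 := by
    intro x
    split_ifs with h
    · refine pow_le_pow_left₀ (norm_nonneg _) ?_ 2
      have := isCharacter_norm_le hch x
      simpa [hn] using this
    · simp [hzero x h]
  have h3 := classInner_self_re ψ
  rw [classInner_irr_self hψ, Complex.one_re] at h3
  have h4 : (Nat.card Q : ℝ) = ∑ x, ‖ψ x‖ ^ 2 := by
    have hQ : (Nat.card Q : ℝ) ≠ 0 := by simp [Nat.card_pos.ne']
    field_simp at h3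
    linarith
  have h5 : (Nat.card Q : ℝ) ≤ (Nat.card C : ℝ) * (n : ℝ) ^ 2 := by
    rw [h4]
    refine (Finset.sum_le_sum fun x _ => hle x).trans (le_of_eq ?_)
    rw [Finset.sum_ite, Finset.sum_const_zero, add_zero, Finset.sum_const, nsmul_eq_mul]
    congr 1
    rw [Nat.card_eq_fintype_card, Fintype.card_subtype]
  exact_mod_cast h5

theorem result {G : Type*} [Group G] [Finite G] (p : ℕ) [Fact p.Prime] (hsolv : Cfsg.IsPSolvable p G) (P : Sylow p G) (hTI : ∀ g : G, g ∉ Subgroup.normalizer ((P : Subgroup G) : Set G) → (P : Subgroup G) ⊓ (MulAut.conj g • (P : Subgroup G)) = ⊥) (χ : G → ℂ) (hχ : Cfsg.IsCharacter G χ) (hfaith : ∀ g : G, χ g = χ 1 → g = 1) (hdeg : Cfsg.charDegree χ ^ 2 ≤ Nat.card ↥(P : Subgroup G)) : (P : Subgroup G).Normal := by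
  classical
  have := Fintype.ofFinite G
  set S : Subgroup G := (P : Subgroup G) with hS
  have hSp : IsPGroup p S := P.isPGroup'
  rw [← normalizer_eq_top_iff]
  by_contra hnn
  have hS1 : S ≠ ⊥ := by
    intro h
    apply hnn
    rw [normalizer_eq_top_iff, h]
    infer_instance
  -- O_p(G) = 1
  have hOp : pCore p G = ⊥ := by
    by_contra hO
    apply hnn
    rw [eq_top_iff]
    intro g _
    by_contra hg
    apply hO
    rw [eq_bot_iff, ← hTI g hg]
    exact le_inf (HallCore.pCore_le_sylow P) (HallCore.pCore_le_sylow (g • P))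
  set H := pPrimeCore p G with hH
  haveI : H.Normal := HallCore.pPrimeCore_normal p G
  have hcH : centralizer (H : Set G) ≤ H := by
    rw [hH, HallCore.pPrimeCore_eq_piCore p G]
    refine HallSolvable.centralizer_piCore_le (((HallSolvable.isPSolvable_iff p).mp hsolv).compl) ?_
    rw [compl_compl, ← HallCore.pCore_eq_piCore p G, hOp]
  have hcopH : (Nat.card H).Coprime p := HallCore.coprime_card_pPrimeCore p G
  have hcop : (Nat.card S).Coprime (Nat.card H) := by
    obtain ⟨k, hk⟩ := hSp.exists_card_eq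
    rw [hk]; exact hcopH.symm.pow_left _
  have hSH : S ⊓ H = ⊥ := inf_eq_bot_of_coprime hcop
  haveI : Group.IsNilpotent S := hSp.isNilpotent
  have hSsolv : Group.IsSolvable S := inferInstance
  -- centralisers of nontrivial elements of the Sylow subgroup in H
  have hCu : ∀ u ∈ S, u ≠ 1 → ∀ x ∈ H, u * x = x * u → x ∈ centralizer (S : Set G) := by
    intro u hu hu1 x hxH hux
    have hxN : x ∈ normalizer (S : Set G) := by
      by_contra hxN
      refine hu1 (mem_bot.mp ((hTI x hxN).le ⟨hu, mem_pointwise_smul_iff_inv_smul_mem.mpr ?_⟩))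
      have : (MulAut.conj x)⁻¹ • u = u := by
        rw [← map_inv, MulAut.smul_def, MulAut.conj_apply, inv_inv, mul_assoc, hux]; group
      rw [this]; exact hu
    refine mem_centralizer_iff.mpr fun v hv => ?_
    have h1 : x * v * x⁻¹ * v⁻¹ ∈ S ⊓ H := mem_inf.mpr ⟨S.mul_mem ((mem_normalizer_iff.mp hxN v).mp hv) (S.inv_mem hv), by
      have := H.mul_mem hxH ((inferInstance : H.Normal).conj_mem _ (H.inv_mem hxH) v)
      simpa [mul_assoc] using this⟩
    rw [hSH, mem_bot, mul_inv_eq_one, mul_inv_eq_iff_eq_mul] at h1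
    exact h1.symm
  have hSnH : S ≤ normalizer (H : Set G) := by rw [normalizer_eq_top]; exact le_top
  -- an invariant Sylow subgroup of H which is not centralised
  obtain ⟨q, hq, Q0, hQ0q, hQ0H, hSQ0, hQ0c⟩ : ∃ q : ℕ, q.Prime ∧ ∃ Q0 : Subgroup G,
      IsPGroup q Q0 ∧ Q0 ≤ H ∧ S ≤ normalizer (Q0 : Set G) ∧ ¬ S ≤ centralizer (Q0 : Set G) := by
    by_contra hcon
    push Not at hcon
    set D := H ⊓ centralizer (S : Set G) with hD
    have hdvd : Nat.card H ∣ Nat.card D := by
      rw [Nat.dvd_iff_prime_pow_dvd_dvd]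
      intro q k hq hk
      haveI := Fact.mk hq
      obtain ⟨Q, hQ⟩ := CoprimeAction.exists_invariant_sylow hSnH hcop (Or.inl hSsolv) q
      have hQc := hcon q hq ((Q : Subgroup H).map H.subtype) (Q.isPGroup'.map _)
        (map_subtype_le _) hQ
      have hle : (Q : Subgroup H).map H.subtype ≤ D :=
        le_inf (map_subtype_le _) (le_centralizer_iff.mp hQc)
      refine dvd_trans ?_ (card_dvd_of_le hle)
      rw [card_subtype]
      exact Q.pow_dvd_card_of_pow_dvd_card hk
    have hDH : D = H := eq_of_le_of_card_ge inf_le_left (Nat.le_of_dvd Nat.card_pos hdvd)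
    have h1 : S ≤ centralizer (H : Set G) := le_centralizer_iff.mp (hDH ▸ inf_le_right)
    exact hS1 (by rw [eq_bot_iff, ← hSH]; exact le_inf le_rfl (h1.trans hcH))
  haveI := Fact.mk hq
  -- a minimal invariant subgroup which is not centralised
  obtain ⟨Q, ⟨hQQ0, hSQ, hQc⟩, hQmin⟩ := wellFounded_lt.has_min
    {R : Subgroup G | R ≤ Q0 ∧ S ≤ normalizer (R : Set G) ∧ ¬ S ≤ centralizer (R : Set G)}
    ⟨Q0, le_rfl, hSQ0, hQ0c⟩
  have hmin : ∀ R, R ≤ Q → R ≠ Q → S ≤ normalizer (R : Set G) → S ≤ centralizer (R : Set G) := by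
    intro R hR hne hSR
    by_contra hc
    exact hQmin R ⟨hR.trans hQQ0, hSR, hc⟩ (lt_of_le_of_ne hR hne)
  have hQH : Q ≤ H := hQQ0.trans hQ0H
  have hQq : IsPGroup q Q := hQ0q.to_le hQQ0
  have hcopQ : (Nat.card S).Coprime (Nat.card Q) := hcop.coprime_dvd_right (card_dvd_of_le hQH)
  have hQS : ⁅Q, S⁆ = Q := by
    by_contra hne
    have hle : ⁅Q, S⁆ ≤ Q := CoprimeAction.commutator_le_self_of_le_normalizer hSQ
    have h1 := hmin _ hle hne (normalizer_commutator_ge_right Q S)
    refine hQc (CoprimeAction.le_centralizer_of_commutator_commutator_eq_bot hSQ hcopQ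
      (Or.inl hSsolv) ?_)
    rw [commutator_comm]; exact commutator_eq_bot_iff_le_centralizer.mpr h1
  have hQ1 : Q ≠ ⊥ := fun h => hQc (fun s _ => mem_centralizer_iff.mpr (by simp [h]))
  set C := Q ⊓ centralizer (S : Set G) with hC
  have hSC : S ≤ normalizer (C : Set G) :=
    CoprimeAction.le_normalizer_inf hSQ (CoprimeAction.le_normalizer_centralizer_self S)
  -- the derived subgroup is centralised
  have hQ'le : ⁅Q, Q⁆ ≤ Q := commutator_le_self Q
  have hQ'n : S ≤ normalizer ((⁅Q, Q⁆ : Subgroup G) : Set G) := fun s hs => by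
    refine CoprimeAction.mem_normalizer_of_conj_smul_eq ?_
    have h1 : MulAut.conj s • Q = Q := by
      ext x
      rw [mem_pointwise_smul_iff_inv_smul_mem, ← map_inv, MulAut.smul_def, MulAut.conj_apply, inv_inv]
      have := mem_normalizer_iff.mp (inv_mem (hSQ hs)) x
      simpa using this.symm
    rw [CoprimeSZ.conj_smul_eq_map, map_commutator, ← CoprimeSZ.conj_smul_eq_map, h1]
  have hQ'ne : ⁅Q, Q⁆ ≠ Q := by
    haveI : Group.IsNilpotent Q := hQq.isNilpotent
    haveI := (Q.nontrivial_iff_ne_bot).mpr hQ1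
    intro h
    have h1 := Group.IsSolvable.commutator_lt_top_of_nontrivial (G := Q)
    rw [← map_subtype_lt_map_subtype, map_subtype_commutator, ← MonoidHom.range_eq_map,
      range_subtype] at h1
    exact h1.ne h
  have hQ'S : S ≤ centralizer ((⁅Q, Q⁆ : Subgroup G) : Set G) := hmin _ hQ'le hQ'ne hQ'n
  have hQ'C : ⁅Q, Q⁆ ≤ C := le_inf hQ'le (le_centralizer_iff.mp hQ'S)
  -- C is central in Q
  have hCQ : ⁅Q, C⁆ = ⊥ := by
    have h1 : ⁅⁅C, Q⁆, S⁆ = ⊥ := by
      rw [eq_bot_iff]
      refine (commutator_mono ((commutator_mono inf_le_left le_rfl).trans hQ'C) le_rfl).trans ?_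
      exact (commutator_eq_bot_iff_le_centralizer.mpr inf_le_right).le
    have h2 : ⁅⁅S, C⁆, Q⁆ = ⊥ := by
      have : ⁅S, C⁆ = ⊥ := by
        rw [commutator_comm]; exact commutator_eq_bot_iff_le_centralizer.mpr inf_le_right
      rw [this, commutator_bot_left]
    have h3 : ⁅⁅Q, S⁆, C⁆ = ⊥ := commutator_commutator_eq_bot_of_rotate h2 h1
    rwa [hQS] at h3
  have hcomm : ∀ x ∈ Q, ∀ c ∈ C, x * c = c * x := fun x hx c hc =>
    commutatorElement_eq_one_iff_mul_comm.mp
      (mem_bot.mp (hCQ.le (commutator_mem_commutator hx hc)))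
  have hCne : C ≠ Q := fun h => hQc (le_centralizer_iff.mp (h ▸ inf_le_right))
  -- regular action on Q / C
  have hfree : ∀ u ∈ S, u ≠ 1 → ∀ x ∈ Q, x⁻¹ * u * x * u⁻¹ ∈ C → x ∈ C := by
    intro u hu hu1 x hx hfix
    obtain ⟨c, hc, hxc⟩ := CoprimeAction.exists_fixed_mem_coset_zpowers (hSC hu)
      ((hcopQ.coprime_dvd_left (orderOf_dvd_natCard S hu)).coprime_dvd_right
        (card_dvd_of_le inf_le_left)) x hfix
    have hcQ : c ∈ Q := by simpa using mul_mem hx hxc.1
    have hcC : c ∈ C := ⟨hcQ, hCu u hu hu1 c (hQH hcQ) hc⟩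
    have := mul_mem hcC (inv_mem hxc)
    simpa [mul_assoc] using this
  -- the restriction of the character
  set χQ : Q → ℂ := χ ∘ Q.subtype with hχQ
  have hχQc : Cfsg.IsCharacter Q χQ := isCharacter_comap Q.subtype hχ
  obtain ⟨m, hm, hsum⟩ := exists_mult hχQc
  obtain ⟨d, hd⟩ := isCharacter_apply_one hχ
  have hdd : Cfsg.charDegree χ = d := by simp [Cfsg.charDegree, hd]
  choose deg hdegpos hdeg1 using fun ψ : Cfsg.IrrCharacter Q => isIrrCharacter_apply_one ψ.2
  have hdsum : d = ∑ ψ : Cfsg.IrrCharacter Q, m ψ * deg ψ := by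
    have h1 := congrFun hsum 1
    simp only [hχQ, Function.comp_apply, map_one, hd, Finset.sum_apply, Pi.smul_apply, hdeg1,
      smul_eq_mul] at h1
    exact_mod_cast h1
  have hexists : ∀ z : Q, z ≠ 1 → ∃ ψ : Cfsg.IrrCharacter Q, 0 < m ψ ∧ (ψ : Q → ℂ) z ≠ (ψ : Q → ℂ) 1 := by
    intro z hz
    by_contra hcon
    push Not at hcon
    apply hz
    refine Subtype.ext (hfaith _ ?_)
    have h1 := congrFun hsum z
    have h2 := congrFun hsum 1
    simp only [hχQ, Function.comp_apply, map_one, Finset.sum_apply, Pi.smul_apply] at h1 h2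
    show χ (z : G) = χ 1
    rw [show χ (z : G) = _ from h1, h2]
    refine Finset.sum_congr rfl fun ψ _ => ?_
    rcases Nat.eq_zero_or_pos (m ψ) with h | h
    · simp [h]
    · rw [hcon ψ h]
  have hbound : ∀ ψ : Cfsg.IrrCharacter Q, 0 < m ψ → deg ψ ≤ d := fun ψ hψ => by
    rw [hdsum]
    exact (Nat.le_mul_of_pos_left _ hψ).trans
      (Finset.single_le_sum (fun φ _ => Nat.zero_le (m φ * deg φ)) (Finset.mem_univ ψ))
  have hS2 : 2 ≤ Nat.card S := by
    haveI := (S.nontrivial_iff_ne_bot).mpr hS1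
    exact Finite.one_lt_card
  rw [hdd] at hdeg
  by_cases hab : ⁅Q, Q⁆ = ⊥
  · -- abelian case
    haveI : IsMulCommutative Q := commutator_self_eq_bot_iff.mp hab
    have hC1 : C = ⊥ := by
      have := CoprimeAction.inf_centralizer_inf_commutator_eq_bot hSQ hcopQ
      rwa [hQS, inf_eq_left.mpr inf_le_left] at this
    obtain ⟨z, hzQ, hz⟩ := (Q.ne_bot_iff_exists_ne_one).mp hQ1 |> fun ⟨z, hz⟩ => (⟨z.1, z.2, fun h => hz (Subtype.ext h)⟩ : ∃ z : G, z ∈ Q ∧ z ≠ 1)
    obtain ⟨ψ, hψm, hψz⟩ := hexists ⟨z, hzQ⟩ (fun h => hz (congrArg Subtype.val h))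
    obtain ⟨lam, hlam⟩ := exists_hom_of_comm (fun a b : Q => mul_comm' a b) ψ.2
    let e : S → (Q ≃* Q) := fun u =>
      { toFun := fun x => ⟨(u : G) * x * (u : G)⁻¹, CoprimeAction.conj_mem (hSQ u.2) x.2⟩
        invFun := fun x => ⟨(u : G)⁻¹ * x * u, by
          simpa using CoprimeAction.conj_mem (inv_mem (hSQ u.2)) x.2⟩
        left_inv := fun x => Subtype.ext (by simp [mul_assoc])
        right_inv := fun x => Subtype.ext (by simp [mul_assoc])
        map_mul' := fun x y => Subtype.ext (by simp [mul_assoc]) }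
    let φ : S → Cfsg.IrrCharacter Q := fun u =>
      ⟨(ψ : Q → ℂ) ∘ (e u).toMonoidHom, isIrrCharacter_comap _ (e u).surjective ψ.2⟩
    have hφm : ∀ u, m (φ u) = m ψ := by
      intro u
      have h1 : χQ ∘ (e u) = χQ := by
        funext x
        exact isClassFunction_of_isCharacter hχ (x : G) (u : G)
      have h2 := classInner_congr_equiv (e u) χQ (ψ : Q → ℂ)
      rw [h1, hm ψ] at h2
      have h3 := hm (φ u)
      rw [show ((φ u : Cfsg.IrrCharacter Q) : Q → ℂ) = (ψ : Q → ℂ) ∘ (e u) from rfl, h2] at h3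
      exact_mod_cast h3.symm
    have hinj : Function.Injective φ := by
      intro u v huv
      by_contra hne
      set w : G := (u : G) * (v : G)⁻¹ with hw
      have hwS : w ∈ S := mul_mem u.2 (inv_mem v.2)
      have hw1 : w ≠ 1 := fun h => hne (Subtype.ext (mul_inv_eq_one.mp h))
      let δ : Q → Q := fun x =>
        ⟨w * x * w⁻¹ * (x : G)⁻¹, mul_mem (CoprimeAction.conj_mem (hSQ hwS) x.2) (inv_mem x.2)⟩
      have hδinj : Function.Injective δ := by
        intro x y hxy
        have h1 : w * x * w⁻¹ * (x : G)⁻¹ = w * y * w⁻¹ * (y : G)⁻¹ := congrArg Subtype.val hxy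
        have hxy' : (x : G) * (y : G)⁻¹ = (y : G)⁻¹ * x := congrArg Subtype.val (mul_comm' x y⁻¹)
        have h2 : w * ((y : G)⁻¹ * x) * w⁻¹ = (y : G)⁻¹ * x := by
          calc w * ((y : G)⁻¹ * x) * w⁻¹
              = (w * y * w⁻¹)⁻¹ * (w * x * w⁻¹ * (x : G)⁻¹) * x := by group
            _ = (y : G)⁻¹ * x := by rw [h1]; group
        have h4 : (y : G)⁻¹ * x ∈ C := by
          refine mem_inf.mpr ⟨Q.mul_mem (Q.inv_mem y.2) x.2,
            hCu w hwS hw1 _ (hQH (Q.mul_mem (Q.inv_mem y.2) x.2)) ?_⟩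
          conv_rhs => rw [← h2]
          group
        rw [hC1, mem_bot, inv_mul_eq_one] at h4
        exact Subtype.ext h4.symm
      have hδ := (Finite.injective_iff_surjective).mp hδinj
      apply hψz
      obtain ⟨x, hx⟩ := hδ ⟨z, hzQ⟩
      rw [hlam]
      simp only [map_one]
      rw [← hx]
      have key : ∀ y : Q, lam (e u y) = lam (e v y) := fun y => by
        have := congrFun (congrArg Subtype.val huv) y
        simp only [φ, hlam, Function.comp_apply] at this
        exact Units.ext this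
      have h1 := key ((e v).symm x)
      rw [MulEquiv.apply_symm_apply] at h1
      have h2 : e u ((e v).symm x) = δ x * x := Subtype.ext (by
        simp [e, δ, w, mul_assoc])
      rw [h2, map_mul, mul_eq_right] at h1
      rw [h1]
    have hge : Nat.card S ≤ d := by
      rw [hdsum]
      calc Nat.card S = ∑ ρ ∈ Finset.univ.image φ, 1 := by
            rw [← Finset.card_eq_sum_ones, Finset.card_image_of_injective _ hinj,
              Finset.card_univ, Nat.card_eq_fintype_card]
        _ ≤ ∑ ρ ∈ Finset.univ.image φ, m ρ * deg ρ := by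
            refine Finset.sum_le_sum fun ρ hρ => ?_
            obtain ⟨u, -, rfl⟩ := Finset.mem_image.mp hρ
            rw [hφm u]
            exact Nat.one_le_iff_ne_zero.mpr (Nat.mul_ne_zero hψm.ne' (hdegpos _).ne')
        _ ≤ _ := Finset.sum_le_sum_of_subset (Finset.subset_univ _)
    have : Nat.card S ^ 2 ≤ Nat.card S := (Nat.pow_le_pow_left hge 2).trans hdeg
    nlinarith
  · -- nonabelian case
    obtain ⟨⟨z, hz⟩, hz1⟩ := (ne_bot_iff_exists_ne_one).mp hab
    obtain ⟨ψ, hψm, hψz⟩ := hexists ⟨z, hQ'le hz⟩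
      (fun h => hz1 (Subtype.ext (show z = 1 from congrArg Subtype.val h)))
    set N := charKer (ψ : Q → ℂ) (isCharacter_of_isIrrCharacter ψ.2) with hN
    haveI : N.Normal := charKer_normal _ _
    set K := ((center (Q ⧸ N)).comap (QuotientGroup.mk' N)) with hK
    have hKmem : ∀ x : Q, x ∈ K ↔ ∀ y : Q, ⁅x, y⁆ ∈ N := by
      intro x
      rw [hK, mem_comap, mem_center_iff]
      constructor
      · intro h y
        rw [← QuotientGroup.ker_mk' N, MonoidHom.mem_ker, map_commutatorElement,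
          commutatorElement_eq_one_iff_mul_comm]
        exact (h _).symm
      · intro h g
        obtain ⟨y, rfl⟩ := QuotientGroup.mk'_surjective N g
        have := h y
        rw [← QuotientGroup.ker_mk' N, MonoidHom.mem_ker, map_commutatorElement,
          commutatorElement_eq_one_iff_mul_comm] at this
        exact this.symm
    have hcommQ' : ∀ a b : Q, ((⁅a, b⁆ : Q) : G) ∈ ⁅Q, Q⁆ := fun a b => by
      simp only [commutatorElement_def, coe_mul, coe_inv]
      simpa [commutatorElement_def] using commutator_mem_commutator a.2 b.2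
    set K' := K.map Q.subtype with hK'
    have hK'le : K' ≤ Q := map_subtype_le _
    have hconjK : ∀ s ∈ S, ∀ x ∈ K', s * x * s⁻¹ ∈ K' := by
      rintro s hs _ ⟨x, hx, rfl⟩
      refine ⟨⟨s * x * s⁻¹, CoprimeAction.conj_mem (hSQ hs) x.2⟩, (hKmem _).mpr fun y => ?_, rfl⟩
      have h1 := (hKmem x).mp hx ⟨s⁻¹ * y * s, by
        simpa using CoprimeAction.conj_mem (inv_mem (hSQ hs)) y.2⟩
      convert h1 using 1
      apply Subtype.ext
      have h2 := mem_centralizer_iff.mp (hQ'S hs) _ (hcommQ' x ⟨s⁻¹ * y * s, by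
        simpa using CoprimeAction.conj_mem (inv_mem (hSQ hs)) y.2⟩)
      simp only [commutatorElement_def, coe_mul, coe_inv, coe_mk] at h2 ⊢
      calc _ = s * (↑x * (s⁻¹ * ↑y * s) * (↑x)⁻¹ * (s⁻¹ * ↑y * s)⁻¹) * s⁻¹ := by group
        _ = _ := by rw [← h2]; group
    have hSK : S ≤ normalizer (K' : Set G) := by
      intro s hs
      rw [mem_normalizer_iff]
      refine fun x => ⟨hconjK s hs x, fun h => ?_⟩
      have := hconjK s⁻¹ (inv_mem hs) _ h
      simpa [mul_assoc] using this
    have hKne : K' ≠ Q := by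
      intro h
      apply hψz
      suffices ⁅Q, Q⁆ ≤ N.map Q.subtype by
        obtain ⟨z', hz', rfl⟩ := this hz
        exact hz'
      rw [commutator_le]
      intro a ha b hb
      obtain ⟨a', ha', rfl⟩ := h.ge ha
      exact ⟨⁅a', ⟨b, hb⟩⁆, (hKmem a').mp ha' _, rfl⟩
    have hK'C : K' ≤ C := le_inf hK'le (le_centralizer_iff.mp (hmin _ hK'le hKne hSK))
    have hcount : Nat.card Q ≤ Nat.card (C.subgroupOf Q) * deg ψ ^ 2 := by
      refine card_le_of_central_shift _ ψ.2 (hdeg1 ψ) fun x hx => ?_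
      have hxK : x ∉ K := fun h => hx (hK'C ⟨x, h, rfl⟩)
      rw [hKmem] at hxK
      push Not at hxK
      obtain ⟨y, hy⟩ := hxK
      refine ⟨⁅y, x⁆, mem_center_iff.mpr fun g => Subtype.ext (hcomm g g.2 _ (hQ'C (hcommQ' y x))), ?_, ?_⟩
      · intro h
        apply hy
        rw [← commutatorElement_inv]
        exact N.inv_mem h
      · exact isConj_iff.mpr ⟨y, by simp [commutatorElement_def, mul_assoc]⟩
    have hidx : (C.subgroupOf Q).index ≤ deg ψ ^ 2 := by
      rw [← card_mul_index (C.subgroupOf Q)] at hcount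
      exact Nat.le_of_mul_le_mul_left hcount Nat.card_pos
    -- the orbit of a point outside C
    obtain ⟨x, hxQ, hxC⟩ := SetLike.exists_of_lt (lt_of_le_of_ne inf_le_left hCne)
    let f : S → Q ⧸ C.subgroupOf Q := fun u =>
      QuotientGroup.mk ⟨(u : G) * x * (u : G)⁻¹, CoprimeAction.conj_mem (hSQ u.2) hxQ⟩
    have hinj : Function.Injective f := by
      intro u v huv
      by_contra hne
      simp only [f, QuotientGroup.eq, mem_subgroupOf, coe_mul, coe_inv] at huv
      have h1 := CoprimeAction.conj_mem (inv_mem (hSC u.2)) huv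
      have hwS : (u : G)⁻¹ * v ∈ S := mul_mem (inv_mem u.2) v.2
      refine hxC (hfree _ hwS (fun h => hne (Subtype.ext (inv_mul_eq_one.mp h))) x hxQ ?_)
      convert h1 using 1
      group
    have hnot : ¬ Function.Surjective f := by
      intro hsur
      obtain ⟨u, hu⟩ := hsur (QuotientGroup.mk 1)
      simp only [f, QuotientGroup.eq, mem_subgroupOf, mul_one, coe_inv, inv_mem_iff] at hu
      apply hxC
      have := CoprimeAction.conj_mem (inv_mem (hSC u.2)) hu
      simpa [mul_assoc, hC, mem_inf] using this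
    have hlt : Nat.card S < (C.subgroupOf Q).index :=
      lt_of_le_of_ne (Nat.card_le_card_of_injective f hinj) fun h =>
        hnot (((Nat.bijective_iff_injective_and_card f).mpr ⟨hinj, h⟩).surjective)
    have : deg ψ ^ 2 ≤ d ^ 2 := Nat.pow_le_pow_left (hbound ψ hψm) 2
    omega

end Cfsg.Agent.S4748
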