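import Cfsg.Statements.S4751
import Cfsg.Agent.Lib.RootUnityPCoreS4

set_option autoImplicit false
open Cfsg

namespace Cfsg.Agent.S4751

open Cfsg.Agent.RootUnityPCore90
open scoped Pointwise

section
universe u
variable {G : Type u} [Group G] [Finite G] {p : ℕ} [hp : Fact p.Prime] {χ : G → ℂ} {d : ℕ}

omit hp in
lemma exists_split (c : G) (h : 0 < orderOf c) (p : ℕ) (hp : p.Prime) :
    ∃ a b : G, a ∈ Subgroup.zpowers c ∧ b ∈ Subgroup.zpowers c ∧ c = a * b ∧
      (∃ k : ℕ, a ^ p ^ k = 1) ∧ ¬ p ∣ orderOf b := by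
  set k := (orderOf c).factorization p
  set m := orderOf c / p ^ k
  have hkm : p ^ k * m = orderOf c := Nat.ordProj_mul_ordCompl_eq_self _ p
  have hm : ¬ p ∣ m := Nat.not_dvd_ordCompl hp h.ne'
  have hco : IsCoprime ((p ^ k : ℕ) : ℤ) (m : ℤ) := Nat.isCoprime_iff_coprime.mpr
    (((Nat.Prime.coprime_iff_not_dvd hp).mpr hm).pow_left k)
  obtain ⟨u, v, huv⟩ := hco
  refine ⟨c ^ (v * (m : ℤ)), c ^ (u * ((p ^ k : ℕ) : ℤ)), Subgroup.zpow_mem_zpowers c _,
    Subgroup.zpow_mem_zpowers c _, ?_, ⟨k, ?_⟩, ?_⟩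
  · rw [← zpow_add, add_comm, huv, zpow_one]
  · rw [← zpow_natCast, ← zpow_mul, mul_assoc, ← Nat.cast_mul, mul_comm m, hkm, mul_comm, zpow_mul,
      zpow_natCast, pow_orderOf_eq_one, one_zpow]
  · have h1 : (c ^ (u * ((p ^ k : ℕ) : ℤ))) ^ m = 1 := by
      rw [← zpow_natCast, ← zpow_mul, mul_assoc, ← Nat.cast_mul, hkm, mul_comm, zpow_mul,
        zpow_natCast, pow_orderOf_eq_one, one_zpow]
    exact fun hd => hm (hd.trans (orderOf_dvd_of_pow_eq_one h1))

lemma mem_pCore_of_centralizer (h : Hyp p χ d) {a : G}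
    (ha : a ∈ Subgroup.centralizer ((Cfsg.pCore p G : Subgroup G) : Set G))
    (hap : ∃ k : ℕ, a ^ p ^ k = 1) : a ∈ Cfsg.pCore p G := by
  haveI hPn : (Cfsg.pCore p G).Normal := HallCore.pCore_normal p G
  set C := Subgroup.centralizer ((Cfsg.pCore p G : Subgroup G) : Set G)
  set Z := (Subgroup.center G).subgroupOf C
  have hZc : Z ≤ Subgroup.center C := fun z hz => Subgroup.mem_center_iff.mpr fun g =>
    Subtype.ext (Subgroup.mem_center_iff.mp hz g.1)
  haveI : Z.Normal := ⟨fun n hn g => by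
    rw [Subgroup.mem_center_iff.mp (hZc hn) g, mul_inv_cancel_right]; exact hn⟩
  have hQ : IsPGroup p (C ⧸ Z) := by
    intro q
    induction q using QuotientGroup.induction_on with
    | H c =>
      obtain ⟨x, y, hx, hy, hc, ⟨k, hk⟩, hyp⟩ := exists_split (c : G) (orderOf_pos _) p hp.out
      have hxC : x ∈ C := (Subgroup.zpowers_le.mpr c.2) hx
      have hyC : y ∈ C := (Subgroup.zpowers_le.mpr c.2) hy
      refine ⟨k, ?_⟩
      have hy1 : ((⟨y, hyC⟩ : C) : C ⧸ Z) = 1 :=
        (QuotientGroup.eq_one_iff _).mpr (h.central_of_coprime hyC hyp)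
      rw [show c = ⟨x, hxC⟩ * ⟨y, hyC⟩ from Subtype.ext hc, QuotientGroup.mk_mul, hy1, mul_one,
        ← QuotientGroup.mk_pow]
      rw [show (⟨x, hxC⟩ : C) ^ p ^ k = 1 from Subtype.ext hk, QuotientGroup.mk_one]
  haveI : Group.IsNilpotent (C ⧸ Z) := hQ.isNilpotent
  haveI : Group.IsNilpotent C :=
    Subgroup.isNilpotent_of_ker_le_center (QuotientGroup.mk' Z)
      (by rw [QuotientGroup.ker_mk']; exact hZc)
  obtain ⟨Q⟩ := Sylow.nonempty (p := p) (G := C)
  haveI hQn : (Q : Subgroup C).Normal :=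
    Sylow.normal_of_normalizerCondition Group.normalizerCondition_of_isNilpotent Q
  haveI := Sylow.characteristic_of_normal Q hQn
  haveI : C.Normal := Subgroup.normal_centralizer
  haveI : ((Q : Subgroup C).map C.subtype).Normal := ConjAct.normal_of_characteristic_of_normal
  have hle : (Q : Subgroup C).map C.subtype ≤ Cfsg.pCore p G :=
    HallCore.le_pCore (Q.isPGroup'.map C.subtype)
  apply hle
  refine ⟨⟨a, ha⟩, ?_, rfl⟩
  have hz : IsPGroup p (Subgroup.zpowers (⟨a, ha⟩ : C)) := by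
    obtain ⟨k, hk⟩ := hap
    obtain ⟨j, -, hj⟩ := (Nat.dvd_prime_pow hp.out).mp
      (orderOf_dvd_of_pow_eq_one (show (⟨a, ha⟩ : C) ^ p ^ k = 1 from Subtype.ext hk))
    exact IsPGroup.of_card (n := j) (by rw [Nat.card_zpowers, hj])
  obtain ⟨Q', hQ'⟩ := hz.exists_le_sylow
  haveI := Sylow.unique_of_normal Q hQn
  rw [Subsingleton.elim Q Q']
  exact hQ' (Subgroup.mem_zpowers _)

lemma centralizer_eq (h : Hyp p χ d) :
    Subgroup.centralizer ((Cfsg.pCore p G : Subgroup G) : Set G) =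
      Cfsg.pCore p G ⊔ Subgroup.center G := by
  refine le_antisymm (fun c hc => ?_) (sup_le (fun a ha => ?_) (Subgroup.center_le_centralizer _))
  · obtain ⟨x, y, hx, hy, rfl, hxk, hyp⟩ := exists_split c (orderOf_pos _) p hp.out
    have hxC := (Subgroup.zpowers_le.mpr hc) hx
    have hyC := (Subgroup.zpowers_le.mpr hc) hy
    exact Subgroup.mul_mem_sup (mem_pCore_of_centralizer h hxC hxk)
      (h.central_of_coprime hyC hyp)
  · rw [Subgroup.mem_centralizer_iff]
    exact fun b hb => congrArg Subtype.val (h.comm ⟨b, hb⟩ ⟨a, ha⟩)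

lemma inf_center_eq_bot (h : Hyp p χ d) : Cfsg.pCore p G ⊓ Subgroup.center G = ⊥ := by
  refine Subgroup.inf_eq_bot_of_coprime ?_
  obtain ⟨k, hk⟩ := IsPGroup.iff_card.mp h.pCore_isPGroup
  rw [hk]
  exact ((Nat.Prime.coprime_iff_not_dvd hp.out).mpr h.not_dvd_card_center).pow_left k

lemma sylow_cases (h : Hyp p χ d) (R : Sylow p G) :
    Nat.card (R : Subgroup G) = Nat.card (Cfsg.pCore p G) ∨
      (p = 2 ∧ Nat.card (R : Subgroup G) = 2 * Nat.card (Cfsg.pCore p G)) := by
  classical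
  haveI := Fintype.ofFinite (R : Subgroup G)
  have hle : Cfsg.pCore p G ≤ R := by
    haveI := HallCore.pCore_normal p G
    obtain ⟨R', hR'⟩ := h.pCore_isPGroup.exists_le_sylow
    obtain ⟨g, rfl⟩ := MulAction.exists_smul_eq G R' R
    intro x hx
    refine Subgroup.mem_pointwise_smul_iff_inv_smul_mem.mpr (hR' ?_)
    simpa using (HallCore.pCore_normal p G).conj_mem x hx g⁻¹
  obtain ⟨c, -, -, hn⟩ := h.res_pSubgroup (R := (R : Subgroup G)) R.isPGroup'
  obtain ⟨k, hk⟩ := IsPGroup.iff_card.mp h.pCore_isPGroup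
  obtain ⟨a, ha⟩ := IsPGroup.iff_card.mp R.isPGroup'
  have hka : k ≤ a := by
    have := Subgroup.card_le_of_le hle
    rw [hk, ha] at this
    exact (Nat.pow_le_pow_iff_right hp.out.one_lt).mp this
  have hd := h.card_eq
  have h2 := h.two_le
  obtain ⟨w, rfl⟩ : ∃ w, d = w + 1 := ⟨d - 1, by omega⟩
  generalize ∑ θ, (c θ) ^ 2 = S at hn
  rw [ha] at hn
  rw [hk] at hd
  have hdvd : p ^ a ∣ p ^ k * w := by
    have e : p ^ k * w + p ^ a = p ^ a * S := by nlinarith
    exact (Nat.dvd_add_left (dvd_refl _)).mp (Dvd.intro S e.symm)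
  rcases eq_or_lt_of_le hka with rfl | hlt
  · left; rw [ha, hk]
  obtain ⟨i, rfl⟩ := Nat.exists_eq_add_of_lt hlt
  rw [show k + i + 1 = k + (i + 1) from rfl, pow_add,
    Nat.mul_dvd_mul_iff_left (pow_pos hp.out.pos k)] at hdvd
  have hk1 : k ≠ 0 := by rintro rfl; simp at hd
  have hpw : p ∣ w + 2 := (show w + 2 = p ^ k by omega) ▸ dvd_pow_self p hk1
  have hp2 : p = 2 := by
    have : p ∣ w := (dvd_pow_self p (Nat.succ_ne_zero i)).trans hdvd
    exact (Nat.prime_dvd_prime_iff_eq hp.out Nat.prime_two).mp ((Nat.dvd_add_right this).mp hpw)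
  subst hp2
  right
  refine ⟨rfl, ?_⟩
  rcases Nat.eq_zero_or_pos i with rfl | hi
  · rw [ha, hk]; ring
  exfalso
  have hk2 : 2 ≤ k := by
    by_contra hk2
    have : 2 ^ k ≤ 2 ^ 1 := Nat.pow_le_pow_right (by norm_num) (by omega)
    omega
  have h4 : 2 ^ 2 ∣ 2 ^ k := Nat.pow_dvd_pow 2 hk2
  have h4' : 2 ^ 2 ∣ w := (Nat.pow_dvd_pow 2 (by omega)).trans hdvd
  rw [show (2 : ℕ) ^ k = w + 2 by omega] at h4
  norm_num at h4 h4'
  omega

lemma exceptional (h : Hyp p χ d) (hp2 : p = 2) (R : Sylow p G)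
    (hR : Nat.card (R : Subgroup G) = 2 * Nat.card (Cfsg.pCore p G)) :
    ∃ H : Subgroup G, Nonempty (↥H ≃* Equiv.Perm (Fin 4)) ∧ H ⊓ Subgroup.center G = ⊥ ∧
      H ⊔ Subgroup.center G = ⊤ := by
  classical
  haveI hPn : (Cfsg.pCore p G).Normal := HallCore.pCore_normal p G
  set P := Cfsg.pCore p G with hP
  haveI := Fintype.ofFinite G
  have hPR : P ≤ R := by
    obtain ⟨R', hR'⟩ := h.pCore_isPGroup.exists_le_sylow
    obtain ⟨g, rfl⟩ := MulAction.exists_smul_eq G R' R
    intro x hx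
    refine Subgroup.mem_pointwise_smul_iff_inv_smul_mem.mpr (hR' ?_)
    simpa using hPn.conj_mem x hx g⁻¹
  have hidx : (P.subgroupOf R).index = 2 := by
    have h1 := Subgroup.card_mul_index (P.subgroupOf (R : Subgroup G))
    rw [hR, Nat.card_congr (Subgroup.subgroupOfEquivOfLe hPR).toEquiv] at h1
    exact Nat.eq_of_mul_eq_mul_left Nat.card_pos (by rw [h1]; ring)
  obtain ⟨sR, hsR⟩ : ∃ s : (R : Subgroup G), s ∉ P.subgroupOf R := by
    by_contra hall
    push_neg at hall
    have : P.subgroupOf (R : Subgroup G) = ⊤ := eq_top_iff.mpr fun x _ => hall x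
    rw [this, Subgroup.index_top] at hidx
    norm_num at hidx
  have hs2 : (sR : G) * sR ∈ P := Subgroup.mul_self_mem_of_index_two hidx sR
  have hP4 : Nat.card P = 4 := by
    have h1 := two_le_four_group h hp2 (s := (sR : G)) hsR hs2 R sR.2 hPR hR
    obtain ⟨k, hk⟩ := IsPGroup.iff_card.mp h.pCore_isPGroup
    have h2 := h.card_eq
    have h3 := h.two_le
    rw [hk, hp2] at h1 h2
    have : k ≤ 2 := (Nat.pow_le_pow_iff_right (a := 2) (by norm_num)).mp (h1.trans (le_of_eq rfl))
    rw [hk, hp2]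
    interval_cases k <;> simp_all
  have hd3 : d = 3 := by have := h.card_eq; rw [← hP] at this; omega
  let X := {z : P // z ≠ 1}
  have hX : Nat.card X = 3 := by
    haveI := Fintype.ofFinite P
    rw [Nat.card_eq_fintype_card, Fintype.card_subtype_compl, Fintype.card_subtype_eq,
      ← Nat.card_eq_fintype_card, hP4]
  let eX : X ≃ Fin 3 := (Nat.equivFinOfCardPos (by omega)).trans (finCongr hX)
  let ψ : G →* Equiv.Perm (Fin 3) := eX.permCongrHom.toMonoidHom.comp (permNonId P)
  have hker : ψ.ker = P ⊔ Subgroup.center G := by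
    rw [← centralizer_eq h]
    ext g
    rw [← mem_ker_permNonId, MonoidHom.mem_ker, MonoidHom.mem_ker]
    exact ⟨fun e => eX.permCongrHom.injective (e.trans (map_one eX.permCongrHom).symm),
      fun e => by show eX.permCongrHom (permNonId P g) = 1; rw [e, map_one]⟩
  have hdisj := inf_center_eq_bot h
  -- a point is moved by an element of order three
  have hcardC : Nat.card ψ.ker = 4 * Nat.card (Subgroup.center G) := by
    rw [hker, ← hP4]
    let f : P × Subgroup.center G →* G := MonoidHom.noncommCoprod P.subtype (Subgroup.center G).subtype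
      (fun a b => (Subgroup.mem_center_iff.mp b.2 a.1))
    have hf : Function.Injective f := by
      rw [← MonoidHom.ker_eq_bot_iff, eq_bot_iff]
      rintro ⟨a, b⟩ hab
      have hab' : (a : G) * b = 1 := hab
      have hb : (b : G) = 1 := by
        rw [← Subgroup.mem_bot, ← hdisj]
        refine Subgroup.mem_inf.mpr ⟨?_, b.2⟩
        rw [eq_inv_of_mul_eq_one_right hab']
        exact inv_mem a.2
      rw [hb, mul_one] at hab'
      exact Prod.ext (Subtype.ext hab') (Subtype.ext hb)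
    have hr : f.range = P ⊔ Subgroup.center G := by
      refine (MonoidHom.noncommCoprod_range (P.subtype) (Subgroup.center G).subtype _).trans ?_
      rw [Subgroup.range_subtype, Subgroup.range_subtype]
    rw [← hr, ← Nat.card_congr (MonoidHom.ofInjective hf).toEquiv, Nat.card_prod]
  have hodd : ¬ 2 ∣ Nat.card (Subgroup.center G) := hp2 ▸ h.not_dvd_card_center
  have hG : Nat.card G = Nat.card ψ.ker * Nat.card ψ.range := by
    rw [← Subgroup.index_ker, Subgroup.card_mul_index]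
  have h2 : 2 ∣ Nat.card ψ.range := by
    have h8 : 8 ∣ Nat.card G := by
      have := Subgroup.card_subgroup_dvd_card (R : Subgroup G)
      rwa [hR, hP4] at this
    rw [hG, hcardC, mul_assoc, show (8 : ℕ) = 4 * 2 from rfl,
      Nat.mul_dvd_mul_iff_left (by norm_num : 0 < 4)] at h8
    exact (Nat.prime_two.dvd_mul.mp h8).resolve_left hodd
  have h3 : 3 ∣ Nat.card ψ.range := by
    -- transitivity on the three non-trivial linear characters
    haveI := Fintype.ofFinite P
    let M := {l : P →* ℂˣ // l ≠ 1}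
    have hc : commutator P = ⊥ := by
      rw [commutator_def, Subgroup.commutator_eq_bot_iff_le_centralizer]
      intro a _
      rw [Subgroup.mem_centralizer_iff]
      exact fun b _ => h.comm b a
    have hM4 : Nat.card (P →* ℂˣ) = 4 := by
      rw [CharBasicLinear.card_hom_units, hc, Subgroup.index_bot, hP4]
    haveI : Finite (P →* ℂˣ) := Nat.finite_of_card_ne_zero (by omega)
    haveI := Fintype.ofFinite (P →* ℂˣ)
    have hM : Nat.card M = 3 := by
      rw [Nat.card_eq_fintype_card, Fintype.card_subtype_compl, Fintype.card_subtype_eq,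
        ← Nat.card_eq_fintype_card, hM4]
    letI : MulAction G M :=
      { smul := fun g l => ⟨l.1.comp (MulAut.conjNormal g⁻¹ : MulAut P).toMonoidHom, fun e => l.2 (by
          refine MonoidHom.ext fun z => ?_
          have := DFunLike.congr_fun e ((MulAut.conjNormal g : MulAut P) z)
          rw [MonoidHom.one_apply] at this ⊢
          rw [MonoidHom.comp_apply, MulEquiv.coe_toMonoidHom, ← MulAut.mul_apply, ← map_mul,
            inv_mul_cancel, map_one, MulAut.one_apply] at this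
          exact this)⟩
        one_smul := fun l => Subtype.ext (MonoidHom.ext fun z => by
          show l.1 ((MulAut.conjNormal (1 : G)⁻¹ : MulAut P) z) = l.1 z
          simp)
        mul_smul := fun a b l => Subtype.ext (MonoidHom.ext fun z => by
          show l.1 ((MulAut.conjNormal (a * b)⁻¹ : MulAut P) z) =
            l.1 ((MulAut.conjNormal b⁻¹ : MulAut P) ((MulAut.conjNormal a⁻¹ : MulAut P) z))
          rw [mul_inv_rev, map_mul, MulAut.mul_apply]) }
    haveI : MulAction.IsPretransitive G M := ⟨fun l m => by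
      obtain ⟨g, hg⟩ := h.transitive l.1 m.1 l.2 m.2
      refine ⟨g⁻¹, Subtype.ext (MonoidHom.ext fun z => Units.ext ?_)⟩
      show (l.1 ((MulAut.conjNormal g⁻¹⁻¹ : MulAut P) z) : ℂ) = m.1 z
      have := hg z.1 z.2 (hPn.conj_mem _ z.2 g)
      rw [show (⟨z.1, z.2⟩ : P) = z from rfl] at this
      rw [this, inv_inv]
      congr 2⟩
    obtain ⟨l0⟩ : Nonempty M := (Nat.card_pos_iff.mp (by omega)).1
    have hst := MulAction.index_stabilizer_of_transitive G l0
    rw [hM] at hst
    have hle : ψ.ker ≤ MulAction.stabilizer G l0 := by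
      rw [hker, ← centralizer_eq h]
      intro c hc
      refine MulAction.mem_stabilizer_iff.mpr (Subtype.ext (MonoidHom.ext fun z => ?_))
      show l0.1 ((MulAut.conjNormal c⁻¹ : MulAut P) z) = l0.1 z
      congr 1
      refine Subtype.ext ?_
      rw [MulAut.conjNormal_apply, inv_inv]
      have := Subgroup.mem_centralizer_iff.mp (inv_mem hc) z.1 z.2
      rw [← this, mul_assoc, inv_mul_cancel, mul_one]
    have := Subgroup.index_dvd_of_le hle
    rw [hst, Subgroup.index_ker] at this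
    exact this
  have hsurj : ψ.range = ⊤ := by
    apply Subgroup.eq_top_of_card_eq
    have h6 : 6 ∣ Nat.card ψ.range := Nat.Coprime.mul_dvd_of_dvd_of_dvd (by norm_num) h2 h3
    have hle := Subgroup.card_le_card_group ψ.range
    have hpos : 0 < Nat.card ψ.range := Nat.card_pos
    have e : Nat.card (Equiv.Perm (Fin 3)) = 6 := by
      rw [Nat.card_eq_fintype_card, Fintype.card_perm, Fintype.card_fin]; rfl
    rw [e] at hle ⊢
    exact le_antisymm hle (Nat.le_of_dvd hpos h6)
  set s : G := (sR : G)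
  have hψs : ψ s ≠ 1 := by
    intro e
    have hsC : s ∈ Subgroup.centralizer (P : Set G) := by
      rw [centralizer_eq h]; exact hker ▸ e
    obtain ⟨k, hk⟩ := R.isPGroup' sR
    exact hsR (mem_pCore_of_centralizer h hsC ⟨k, by simpa using congrArg Subtype.val hk⟩)
  have hψs2 : ψ s * ψ s = 1 := by
    rw [← map_mul]
    exact MonoidHom.mem_ker.mp (hker ▸ Subgroup.mem_sup_left hs2)
  have key : ∀ σ : Equiv.Perm (Fin 3), σ ≠ 1 → σ * σ = 1 →
      ∃ τ : Equiv.Perm (Fin 3), (σ * τ * σ * τ⁻¹) ^ 3 = 1 ∧ σ * τ * σ * τ⁻¹ ≠ 1 := by decide +kernel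
  obtain ⟨τ, hτ3, hτ1⟩ := key (ψ s) hψs hψs2
  obtain ⟨y, rfl⟩ := MonoidHom.range_eq_top.mp hsurj τ
  let q := QuotientGroup.mk' P
  set a := q s
  set w := q s * q y * q s * (q y)⁻¹ with hw
  have ha2 : a * a = 1 := by
    rw [← map_mul]; exact (QuotientGroup.eq_one_iff _).mpr hs2
  have hai : a⁻¹ = a := inv_eq_of_mul_eq_one_right ha2
  have hinv : a * w * a⁻¹ = w⁻¹ := by
    rw [hw, mul_inv_rev, mul_inv_rev, mul_inv_rev, inv_inv, hai]
    calc a * (a * q y * a * (q y)⁻¹) * a
        = (a * a) * (q y * (a * ((q y)⁻¹ * a))) := by group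
      _ = _ := by rw [ha2, one_mul]
  have hw3 : w ^ 3 = 1 := by
    set w0 : G := s * y * s * y⁻¹
    have e : w = q w0 := by simp [hw, w0]
    have hmem : w0 ^ 3 ∈ ψ.ker := by
      rw [MonoidHom.mem_ker, map_pow]
      simpa [w0] using hτ3
    rw [hker, Subgroup.mem_sup_of_normal_left] at hmem
    obtain ⟨u, hu, z, hz, huz⟩ := hmem
    have e3 : w ^ 3 = q z := by
      rw [e, ← map_pow, ← huz, map_mul, show q u = 1 from (QuotientGroup.eq_one_iff _).mpr hu,
        one_mul]
    have hc : a * w ^ 3 * a⁻¹ = w ^ 3 := by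
      rw [e3, ← map_inv, ← map_mul, ← map_mul,
        show s * z * s⁻¹ = z by rw [Subgroup.mem_center_iff.mp hz s, mul_inv_cancel_right]]
    rw [← conj_pow, hinv, inv_pow] at hc
    have hsq : (w ^ 3) ^ 2 = 1 := by
      rw [pow_two]; nth_rw 1 [← hc]; rw [inv_mul_cancel]
    have hn : (w ^ 3) ^ Nat.card (Subgroup.center G) = 1 := by
      rw [e3, ← map_pow, show z ^ Nat.card (Subgroup.center G) = 1 from
        congrArg Subtype.val (pow_card_eq_one' (x := (⟨z, hz⟩ : Subgroup.center G))), map_one]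
    have h1 := Nat.dvd_gcd (orderOf_dvd_of_pow_eq_one hsq) (orderOf_dvd_of_pow_eq_one hn)
    rw [(Nat.Prime.coprime_iff_not_dvd Nat.prime_two).mpr hodd] at h1
    exact orderOf_eq_one_iff.mp (Nat.dvd_one.mp h1)
  let K : Subgroup (G ⧸ P) := Subgroup.zpowers w ⊔ Subgroup.zpowers a
  have hKcard : Nat.card K ≤ 6 := by
    have hnorm : Subgroup.zpowers a ≤ Subgroup.normalizer ((Subgroup.zpowers w : Subgroup _) : Set _) := by
      rw [Subgroup.zpowers_le]
      have hmap : (Subgroup.zpowers w).map (MulAut.conj a).toMonoidHom = Subgroup.zpowers w := by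
        rw [MonoidHom.map_zpowers]
        show Subgroup.zpowers (a * w * a⁻¹) = _
        rw [hinv, Subgroup.zpowers_inv]
      rw [Subgroup.mem_normalizer_iff]
      intro g
      constructor
      · intro hg
        rw [← hmap]
        exact ⟨g, hg, rfl⟩
      · intro hg
        rw [← hmap] at hg
        obtain ⟨g', hg', e⟩ := hg
        have : g' = g := by simpa using e
        exact this ▸ hg'
    have hset := Subgroup.coe_mul_of_right_le_normalizer_left (Subgroup.zpowers w) (Subgroup.zpowers a) hnorm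
    show Nat.card ((K : Set (G ⧸ P))) ≤ 6
    rw [show (K : Set (G ⧸ P)) = (Subgroup.zpowers w : Set (G ⧸ P)) * (Subgroup.zpowers a : Set (G ⧸ P)) from
      hset]
    refine Set.natCard_mul_le.trans ((Nat.mul_le_mul ?_ ?_).trans (le_of_eq (show 3 * 2 = 6 from rfl)))
    · show Nat.card (Subgroup.zpowers w) ≤ 3
      rw [Nat.card_zpowers]; exact Nat.le_of_dvd (by norm_num) (orderOf_dvd_of_pow_eq_one hw3)
    · show Nat.card (Subgroup.zpowers a) ≤ 2
      rw [Nat.card_zpowers]
      exact Nat.le_of_dvd (by norm_num) (orderOf_dvd_of_pow_eq_one (by rw [pow_two, ha2]))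
  let H : Subgroup G := K.comap q
  have hsH : s ∈ H := Subgroup.mem_sup_right (Subgroup.mem_zpowers a)
  have hwH : s * y * s * y⁻¹ ∈ H := by
    show q _ ∈ K
    simp only [map_mul, map_inv]
    exact Subgroup.mem_sup_left (Subgroup.mem_zpowers w)
  have hPH : P ≤ H := fun x hx => by
    show q x ∈ K
    rw [show q x = 1 from (QuotientGroup.eq_one_iff _).mpr hx]; exact one_mem _
  have hHcard : Nat.card H ≤ 24 := by
    have := Subgroup.card_mul_index (P.subgroupOf H)
    rw [Nat.card_congr (Subgroup.subgroupOfEquivOfLe hPH).toEquiv, hP4] at this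
    have h5 : (P.subgroupOf H).index = Nat.card K := by
      have e := Subgroup.relIndex_comap ⊥ q H
      rw [MonoidHom.comap_bot, QuotientGroup.ker_mk', Subgroup.relIndex_bot_left,
        Subgroup.map_comap_eq_self_of_surjective (QuotientGroup.mk'_surjective P)] at e
      exact e
    omega
  let ρ : H →* Equiv.Perm (Fin 3) := ψ.comp H.subtype
  have h6 : 6 ∣ Nat.card ρ.range := by
    refine Nat.Coprime.mul_dvd_of_dvd_of_dvd (m := 2) (n := 3) (by norm_num) ?_ ?_
    · rw [← orderOf_eq_prime (p := 2) (by rw [pow_two]; exact hψs2) hψs]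
      exact Subgroup.orderOf_dvd_natCard (s := ρ.range) ⟨⟨s, hsH⟩, rfl⟩
    · haveI : Fact (Nat.Prime 3) := ⟨Nat.prime_three⟩
      exact (dvd_of_eq (orderOf_eq_prime hτ3 hτ1).symm).trans
        (Subgroup.orderOf_dvd_natCard (s := ρ.range) ⟨⟨_, hwH⟩, by simp [ρ]⟩)
  have hρsurj : ρ.range = ⊤ := by
    apply Subgroup.eq_top_of_card_eq
    have e : Nat.card (Equiv.Perm (Fin 3)) = 6 := by
      rw [Nat.card_eq_fintype_card, Fintype.card_perm, Fintype.card_fin]; rfl
    rw [e]
    exact le_antisymm (e ▸ Subgroup.card_le_card_group _) (Nat.le_of_dvd Nat.card_pos h6)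
  have hPk : P.subgroupOf H ≤ ρ.ker := fun x hx =>
    MonoidHom.mem_ker.mp (show x.1 ∈ ψ.ker from hker ▸ Subgroup.mem_sup_left hx)
  have hkcard : Nat.card ρ.ker * 6 = Nat.card H := by
    rw [← Subgroup.card_mul_index ρ.ker, Subgroup.index_ker, hρsurj, Subgroup.card_top,
      Nat.card_eq_fintype_card (α := Equiv.Perm (Fin 3)), Fintype.card_perm, Fintype.card_fin]
    rfl
  have hk4 : 4 ≤ Nat.card ρ.ker := by
    have := Subgroup.card_le_of_le hPk
    rwa [Nat.card_congr (Subgroup.subgroupOfEquivOfLe hPH).toEquiv, hP4] at this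
  have hH24 : Nat.card H = 24 := by omega
  have hkeq : ρ.ker = P.subgroupOf H := by
    refine (Subgroup.eq_of_le_of_card_ge hPk ?_).symm
    rw [Nat.card_congr (Subgroup.subgroupOfEquivOfLe hPH).toEquiv, hP4]
    omega
  have hC : Subgroup.centralizer ((P.subgroupOf H : Subgroup H) : Set H) ≤ P.subgroupOf H := by
    intro x hx
    rw [← hkeq, MonoidHom.mem_ker]
    show ψ x.1 = 1
    have : x.1 ∈ ψ.ker := by
      rw [hker, ← centralizer_eq h, Subgroup.mem_centralizer_iff]
      intro z hz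
      exact congrArg Subtype.val
        (Subgroup.mem_centralizer_iff.mp hx ⟨z, hPH hz⟩ (show (⟨z, hPH hz⟩ : H) ∈ P.subgroupOf H from hz))
    exact this
  refine ⟨H, iso_perm_four (P.subgroupOf H) hH24
    (by rw [Nat.card_congr (Subgroup.subgroupOfEquivOfLe hPH).toEquiv, hP4]) hC, ?_, ?_⟩
  · rw [eq_bot_iff]
    rintro x ⟨hxH, hxZ⟩
    have hxk : (⟨x, hxH⟩ : H) ∈ ρ.ker :=
      MonoidHom.mem_ker.mp (show x ∈ ψ.ker from hker ▸ Subgroup.mem_sup_right hxZ)
    rw [hkeq] at hxk
    exact hdisj ▸ (⟨hxk, hxZ⟩ : x ∈ P ⊓ Subgroup.center G)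
  · rw [eq_top_iff]
    intro g _
    obtain ⟨x, hx⟩ := MonoidHom.range_eq_top.mp hρsurj (ψ g)
    have hk' : x.1⁻¹ * g ∈ P ⊔ Subgroup.center G := by
      rw [← hker, MonoidHom.mem_ker, map_mul, map_inv, ← hx]
      exact inv_mul_cancel _
    have := mul_mem (Subgroup.mem_sup_left (T := Subgroup.center G) x.2)
      (sup_le_sup_right hPH _ hk')
    rwa [mul_inv_cancel_left] at this

end

/-- Let χ be a faithful, non-linear irreducible character of the finite group G (χ g = χ 1 only for g = 1, χ 1 ≠ 1) whose value at every element of order divisible by p is a root of unity, and suppose P = O_p(G) ≠ 1. Then either P is an elementary abelian Sylow p-subgroup of G, C_G(P) is the internal direct product of P and Z(G), G acts transitively by conjugation on the non-principal linear characters of P, and χ 1 = |P| − 1; or p = 2 and G is the internal direct product of a subgroup isomorphic to the symmetric group S₄ and the centre Z(G), which has odd order. -/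
theorem result {G : Type*} [Group G] [Finite G] (p : ℕ) [Fact p.Prime] (χ : Cfsg.IrrCharacter G) (hfaith : ∀ g : G, (χ : G → ℂ) g = (χ : G → ℂ) 1 → g = 1) (hnl : (χ : G → ℂ) 1 ≠ 1) (hroot : ∀ g : G, p ∣ orderOf g → ∃ n : ℕ, 0 < n ∧ ((χ : G → ℂ) g) ^ n = 1) (hP : Cfsg.pCore p G ≠ ⊥) : ((Nat.card ↥(Cfsg.pCore p G)).factorization p = (Nat.card G).factorization p ∧ Cfsg.IsElementaryAbelian p (Cfsg.pCore p G) ∧ Subgroup.centralizer ((Cfsg.pCore p G : Subgroup G) : Set G) = Cfsg.pCore p G ⊔ Subgroup.center G ∧ Cfsg.pCore p G ⊓ Subgroup.center G = ⊥ ∧ (∀ lam mu : ↥(Cfsg.pCore p G) → ℂ, Cfsg.IsCharacter ↥(Cfsg.pCore p G) lam → lam 1 = 1 → lam ≠ (fun _ => (1 : ℂ)) → Cfsg.IsCharacter ↥(Cfsg.pCore p G) mu → mu 1 = 1 → mu ≠ (fun _ => (1 : ℂ)) → ∃ g : G, ∀ (x : G) (hx : x ∈ Cfsg.pCore p G) (hgx : g * x * g⁻¹ ∈ Cfsg.pCore p G), mu ⟨x, hx⟩ = lam ⟨g * x * g⁻¹, hgx⟩) ∧ (χ : G → ℂ) 1 = (Nat.card ↥(Cfsg.pCore p G) : ℂ) - 1) ∨ (p = 2 ∧ Odd (Nat.card ↥(Subgroup.center G)) ∧ ∃ H : Subgroup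 G, Nonempty (↥H ≃* Equiv.Perm (Fin 4)) ∧ H ⊓ Subgroup.center G = ⊥ ∧ H ⊔ Subgroup.center G = ⊤) := by
  obtain ⟨d, -, hd⟩ := CharBasic.isIrrCharacter_apply_one χ.2
  have hd2 : 2 ≤ d := by
    obtain ⟨m, hm0, hm⟩ := CharBasic.isIrrCharacter_apply_one χ.2
    have : d = m := by exact_mod_cast hd.symm.trans hm
    rcases Nat.lt_or_ge d 2 with h | h
    · interval_cases d
      · omega
      · exact absurd (by rw [hd]; norm_num) hnl
    · exact h
  have h : Hyp p (χ : G → ℂ) d :=
    ⟨χ.2, hd, hd2, hfaith, fun g hg => norm_one_of_root (hroot g hg), hP⟩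
  obtain ⟨R⟩ := Sylow.nonempty (p := p) (G := G)
  have hdisj := inf_center_eq_bot h
  rcases sylow_cases h R with hR | ⟨hp2, hR⟩
  · left
    refine ⟨?_, ⟨⟨⟨h.comm⟩⟩, fun a ha => h.exponent ha⟩, centralizer_eq h, hdisj, ?_, ?_⟩
    · rw [← hR, R.card_eq_multiplicity,
        Nat.Prime.factorization_pow Fact.out, Finsupp.single_eq_same]
    · intro lam mu hl hl1 hlne hm hm1 hmne
      obtain ⟨l, rfl⟩ := CharBasicLinear.exists_hom_of_apply_one_eq_one hl hl1
      obtain ⟨m, rfl⟩ := CharBasicLinear.exists_hom_of_apply_one_eq_one hm hm1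
      exact h.transitive l m (fun e => hlne (by simp [e])) (fun e => hmne (by simp [e]))
    · rw [hd, ← h.card_eq]; push_cast; ring
  · right
    refine ⟨hp2, ?_, exceptional h hp2 R hR⟩
    rw [← Nat.not_even_iff_odd, even_iff_two_dvd]
    exact hp2 ▸ h.not_dvd_card_center

end Cfsg.Agent.S4751
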