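import Cfsg.Statements.S4754
import Cfsg.Agent.Lib.CharAverage

set_option autoImplicit false
open Cfsg

namespace Cfsg.Agent.S4754

open Cfsg.Agent.CharBasic Cfsg.Agent.CharBasicOrth Cfsg.Agent.CharAverage


/-- For elements x, y of a finite group G, the conjugacy class of x y equals the set of all products of a conjugate of x with a conjugate of y if and only if χ(1) χ(a x a⁻¹ b y b⁻¹) = χ(x) χ(y) for all a, b ∈ G and every irreducible character χ. -/
theorem result {G : Type*} [Group G] [Finite G] (x y : G) : (∀ z : G, IsConj (x * y) z ↔ ∃ a b : G, z = a * x * a⁻¹ * (b * y * b⁻¹)) ↔ ∀ (a b : G) (χ : Cfsg.IrrCharacter G), (χ : G → ℂ) 1 * (χ : G → ℂ) (a * x * a⁻¹ * (b * y * b⁻¹)) = (χ : G → ℂ) x * (χ : G → ℂ) y := by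
  classical
  have := Fintype.ofFinite G
  constructor
  · intro h a b χ
    have heq : ∀ a b : G, (χ : G → ℂ) (a * x * a⁻¹ * (b * y * b⁻¹)) = (χ : G → ℂ) (x * y) :=
      fun a b => ((isConj_iff_forall_irr _ _).1 ((h _).2 ⟨a, b, rfl⟩) χ).symm
    have h1 := sum_conj_mul χ x y
    have h2 : ∀ a : G, (χ : G → ℂ) (a * x * a⁻¹ * y) = (χ : G → ℂ) (x * y) := fun a => by
      simpa using heq a 1
    simp only [h2, Finset.sum_const, Finset.card_univ, nsmul_eq_mul,
      ← Nat.card_eq_fintype_card] at h1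
    rw [eq_div_iff (irr_one_ne_zero χ), mul_assoc, mul_assoc] at h1
    rw [heq a b, mul_comm]
    exact mul_left_cancel₀ (Nat.cast_ne_zero.2 Nat.card_pos.ne') h1
  · intro h z
    refine ⟨fun hz => ?_, ?_⟩
    · obtain ⟨c, rfl⟩ := isConj_iff.1 hz
      exact ⟨c, c, by group⟩
    · rintro ⟨a, b, rfl⟩
      refine (isConj_iff_forall_irr _ _).2 fun χ => ?_
      refine mul_left_cancel₀ (irr_one_ne_zero χ) ?_
      rw [h a b χ, show x * y = 1 * x * 1⁻¹ * (1 * y * 1⁻¹) by group, h 1 1 χ]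

end Cfsg.Agent.S4754
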