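import Cfsg.Statements.S4755
import Cfsg.Agent.Lib.CharKernel

set_option autoImplicit false
open Cfsg

namespace Cfsg.Agent.S4755

open scoped ComplexConjugate commutatorElement
open Cfsg.Agent.CharBasic Cfsg.Agent.CharBasicOrth Cfsg.Agent.CharBasicLinear Cfsg.Agent.CharAverage


/-- Let x, y be non-identity elements of the finite group G such that χ(x' y') = χ(x') χ(y') for all conjugates x' of x, y' of y and every irreducible character χ. Then the conjugacy class of x y is the set of all products of a conjugate of x with a conjugate of y; every irreducible character of degree greater than 1 vanishes at x y; and the conjugacy class of x y is the coset of the commutator subgroup containing x y. -/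
theorem result {G : Type*} [Group G] [Finite G] (x y : G) (hx : x ≠ 1) (hy : y ≠ 1) (h : ∀ (a b : G) (χ : Cfsg.IrrCharacter G), (χ : G → ℂ) (a * x * a⁻¹ * (b * y * b⁻¹)) = (χ : G → ℂ) (a * x * a⁻¹) * (χ : G → ℂ) (b * y * b⁻¹)) : (∀ z : G, IsConj (x * y) z ↔ ∃ a b : G, z = a * x * a⁻¹ * (b * y * b⁻¹)) ∧ (∀ χ : Cfsg.IrrCharacter G, (χ : G → ℂ) 1 ≠ 1 → (χ : G → ℂ) (x * y) = 0) ∧ (∀ z : G, IsConj (x * y) z ↔ (x * y)⁻¹ * z ∈ commutator G) := by
  classical
  have := Fintype.ofFinite G
  have hval : ∀ (a b : G) (χ : Cfsg.IrrCharacter G),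
      (χ : G → ℂ) (a * x * a⁻¹ * (b * y * b⁻¹)) = (χ : G → ℂ) x * (χ : G → ℂ) y := fun a b χ => by
    rw [h a b χ, irr_conj_apply, irr_conj_apply]
  have hxy : ∀ χ : Cfsg.IrrCharacter G, (χ : G → ℂ) (x * y) = (χ : G → ℂ) x * (χ : G → ℂ) y :=
    fun χ => by simpa using hval 1 1 χ
  have hvan : ∀ χ : Cfsg.IrrCharacter G, (χ : G → ℂ) 1 ≠ 1 → (χ : G → ℂ) (x * y) = 0 := by
    intro χ hne
    have h1 := sum_conj_mul χ x y
    have h2 : ∀ a : G, (χ : G → ℂ) (a * x * a⁻¹ * y) = (χ : G → ℂ) (x * y) := fun a => by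
      rw [hxy]; simpa using hval a 1 χ
    simp only [h2, Finset.sum_const, Finset.card_univ, nsmul_eq_mul,
      ← Nat.card_eq_fintype_card] at h1
    rw [mul_assoc (Nat.card G : ℂ), ← hxy χ, eq_div_iff (irr_one_ne_zero χ), mul_assoc] at h1
    have h3 := mul_left_cancel₀ (Nat.cast_ne_zero.2 Nat.card_pos.ne') h1
    by_contra hg
    exact hne (mul_left_cancel₀ hg (by rw [h3, mul_one]))
  refine ⟨fun z => ⟨fun hz => ?_, ?_⟩, hvan, fun z => ⟨fun hz => ?_, fun hz => ?_⟩⟩
  · obtain ⟨c, rfl⟩ := isConj_iff.1 hz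
    exact ⟨c, c, by group⟩
  · rintro ⟨a, b, rfl⟩
    exact (isConj_iff_forall_irr _ _).2 fun χ => by rw [hxy, hval]
  · obtain ⟨c, rfl⟩ := isConj_iff.1 hz
    have h1 : (x * y)⁻¹ * (c * (x * y) * c⁻¹) = ⁅(x * y)⁻¹, c⁆ := by
      rw [commutatorElement_def]; group
    rw [h1]
    exact Subgroup.commutator_mem_commutator (Subgroup.mem_top _) (Subgroup.mem_top _)
  · by_contra hc
    have h0 := sum_irr_mul_conj (x * y) z
    rw [if_neg hc] at h0
    have hg := sum_irr_mul_conj (x * y) (x * y)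
    rw [if_pos (IsConj.refl _)] at hg
    have : ∀ χ : Cfsg.IrrCharacter G, (χ : G → ℂ) (x * y) * conj ((χ : G → ℂ) z) =
        (χ : G → ℂ) (x * y) * conj ((χ : G → ℂ) (x * y)) := by
      intro χ
      by_cases hl : (χ : G → ℂ) 1 = 1
      · obtain ⟨lam, hlam⟩ := exists_hom_of_apply_one_eq_one (irr_isCharacter χ) hl
        have h1 : commutator G ≤ lam.ker := Abelianization.commutator_subset_ker lam
        have h2 := h1 hz
        rw [MonoidHom.mem_ker, map_mul, map_inv, inv_mul_eq_one] at h2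
        rw [hlam]; simp only [h2]
      · simp [hvan χ hl]
    simp only [this] at h0
    exact Nat.card_pos.ne' (Nat.cast_eq_zero.1 (hg.symm.trans h0))

end Cfsg.Agent.S4755
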