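import Cfsg.Statements.S4758
import Cfsg.Agent.Lib.SAD4Quot
import Cfsg.Agent.Lib.PSL2Small
import Cfsg.Agent.Lib.SL25Presentation
import Cfsg.Agent.Lib.HallCore

set_option autoImplicit false
open Cfsg

namespace Cfsg.Agent.S4758


open scoped ComplexConjugate
open Cfsg.Agent.SAD4Base

/-- A homomorphism constant on the conjugates of a normal generator of a perfect group is trivial. -/
theorem hom_trivial {G : Type*} [Group G] (hperf : commutator G = ⊤) {M : Type*} [Group M]
    (f : G →* M) (u : G) (hnc : Subgroup.normalClosure ({u} : Set G) = ⊤)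
    (hconst : ∀ g, f (g * u * g⁻¹) = f u) (x : G) : f x = 1 := by
  have hle : Subgroup.normalClosure ({u} : Set G) ≤ (Subgroup.zpowers (f u)).comap f := by
    refine (Subgroup.closure_le _).2 fun y hy => ?_
    obtain ⟨a, ha, hc⟩ := Group.mem_conjugatesOfSet_iff.1 hy
    rw [Set.mem_singleton_iff] at ha
    subst ha
    obtain ⟨g, rfl⟩ := isConj_iff.1 hc
    show f (g * a * g⁻¹) ∈ Subgroup.zpowers (f a)
    rw [hconst]
    exact Subgroup.mem_zpowers _
  rw [hnc] at hle
  have hcomm : ∀ a b : G, f a * f b = f b * f a := by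
    intro a b
    obtain ⟨i, hi⟩ := Subgroup.mem_zpowers_iff.1 (hle (Subgroup.mem_top a))
    obtain ⟨j, hj⟩ := Subgroup.mem_zpowers_iff.1 (hle (Subgroup.mem_top b))
    rw [← hi, ← hj, zpow_mul_comm]
  have hk : commutator G ≤ f.ker := by
    rw [commutator_def, Subgroup.commutator_le]
    intro a _ b _
    rw [MonoidHom.mem_ker, map_commutatorElement, commutatorElement_eq_one_iff_mul_comm]
    exact hcomm a b
  rw [hperf] at hk
  exact hk (Subgroup.mem_top x)

/-- Recognition of `SL(2,5)` as a double cover of `A₅` with a unique involution. -/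
theorem sl25_of {H : Type*} [Group H] [Finite H] (hcard : Nat.card H = 120)
    (p : H →* alternatingGroup (Fin 5)) (hp : Function.Surjective p) (z : H) (hz1 : z ≠ 1)
    (hz2 : z ^ 2 = 1) (hzc : ∀ h, h * z = z * h) (hker : ∀ h, p h = 1 → h = 1 ∨ h = z)
    (hinv : ∀ h : H, h ^ 2 = 1 → p h = 1) :
    Nonempty (H ≃* Matrix.SpecialLinearGroup (Fin 2) (ZMod 5)) := by
  have hpz : p z = 1 := hinv z hz2
  have lift : ∀ (a : alternatingGroup (Fin 5)) (m : ℕ), Odd m → a ^ m = 1 →
      ∃ x, p x = a ∧ x ^ m = 1 := by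
    intro a m hm ha
    obtain ⟨x0, hx0⟩ := hp a
    rcases hker (x0 ^ m) (by rw [map_pow, hx0, ha]) with e | e
    · exact ⟨x0, hx0, e⟩
    · refine ⟨x0 * z, by rw [map_mul, hx0, hpz, mul_one], ?_⟩
      rw [(show Commute x0 z from hzc x0).mul_pow, e]
      obtain ⟨k, hk⟩ := hm
      rw [hk, pow_succ, pow_mul, hz2, one_pow, one_mul, ← pow_two, hz2]
  obtain ⟨x, hx, hx3⟩ := lift (S3377.a5 0) 3 (by decide) (by decide +kernel)
  obtain ⟨y, hy, hy5⟩ := lift (S3377.a5 1) 5 (by decide) (by decide +kernel)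
  have hxy : (x * y) ^ 2 = z := by
    rcases hker ((x * y) ^ 2) (by rw [map_pow, map_mul, hx, hy]; decide +kernel) with e | e
    · exfalso
      have := hinv _ e
      rw [map_mul, hx, hy] at this
      exact absurd this (by decide +kernel)
    · exact e
  have hrels : ∀ r ∈ SL25Presentation.rels, FreeGroup.lift ![x, y, z] r = 1 := by
    intro r hr
    rcases hr with rfl | rfl | rfl | rfl | rfl | rfl <;>
      simp only [map_pow, map_mul, map_inv, FreeGroup.lift_apply_of, Matrix.cons_val_zero,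
        Matrix.cons_val_one, Matrix.cons_val]
    · exact hx3
    · exact hy5
    · exact hz2
    · rw [mul_assoc z⁻¹ x z, hzc x]; group
    · rw [mul_assoc z⁻¹ y z, hzc y]; group
    · rw [hxy, mul_inv_cancel]
  let φ : SL25Presentation.P →* H := PresentedGroup.toGroup hrels
  have hinj : Function.Injective φ := by
    refine SL25Presentation.injective_of φ ?_ ?_
    · exact fun e => hz1 ((PresentedGroup.toGroup.of hrels (x := (2 : Fin 3))).symm.trans e)
    · intro e
      have e1 : x = 1 := (PresentedGroup.toGroup.of hrels (x := (0 : Fin 3))).symm.trans e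
      rw [e1, map_one] at hx
      exact absurd hx.symm (by decide +kernel)
  obtain ⟨eP⟩ := SL25Presentation.nonempty_mulEquiv
  exact ⟨(MulEquiv.ofBijective φ ((Nat.bijective_iff_injective_and_card φ).2
    ⟨hinj, by rw [SL25Presentation.card_P, hcard]⟩)).symm.trans eP⟩

/-- Let u ≠ 1 be an element of the finite group G such that every non-principal irreducible character χ satisfies χ(1) − χ(u) = 4 or χ(u) = 0. Then O(G), the largest normal subgroup of odd order, is abelian, and either G ⧸ O(G) ≅ PSL₂(5) and u is an involution, or G ⧸ O(G) ≅ SL₂(5) and u has order 4. -/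
theorem result {G : Type*} [Group G] [Finite G] (u : G) (hu : u ≠ 1) (hyp : ∀ χ : Cfsg.IrrCharacter G, (χ : G → ℂ) ≠ (fun _ => (1 : ℂ)) → ((χ : G → ℂ) 1 - (χ : G → ℂ) u = 4 ∨ (χ : G → ℂ) u = 0)) : IsMulCommutative ↥(Cfsg.oddCore G) ∧ ((Nonempty (G ⧸ Cfsg.oddCore G ≃* Matrix.ProjectiveSpecialLinearGroup (Fin 2) (ZMod 5)) ∧ orderOf u = 2) ∨ (Nonempty (G ⧸ Cfsg.oddCore G ≃* Matrix.SpecialLinearGroup (Fin 2) (ZMod 5)) ∧ orderOf u = 4)) := by
  classical
  have := Fintype.ofFinite G
  have : Fact (Nat.Prime 2) := ⟨Nat.prime_two⟩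
  have : Fact (Nat.Prime 5) := ⟨by norm_num⟩
  have h : Hyp u := ⟨hu, fun χ hχ => hyp χ fun e => hχ (Subtype.ext e)⟩
  have hperf := SAD4Base.perfect h
  obtain ⟨K, hK, huK, hCu, h60, hsimp, hu2K, hCt, hinv, hexp⟩ := SAD4Quot.main h
  set π : G →* G ⧸ K := QuotientGroup.mk' K with hπdef
  have hπs : Function.Surjective π := QuotientGroup.mk'_surjective K
  have hπk : ∀ k, π k = 1 ↔ k ∈ K := fun k => QuotientGroup.eq_one_iff k
  set t : G ⧸ K := π u with ht
  have htne : t ≠ 1 := fun e => huK ((hπk u).1 e)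
  have hCt : Nat.card (Subgroup.centralizer ({t} : Set (G ⧸ K))) = 4 := hCt
  have hinv : ∀ x : G ⧸ K, x ≠ 1 → x ^ 2 = 1 → IsConj t x := hinv
  have hexp : ∀ y ∈ Subgroup.centralizer ({t} : Set (G ⧸ K)), y ^ 2 = 1 := hexp
  have ht2 : t ^ 2 = 1 := by rw [ht, ← map_pow]; exact (hπk _).2 hu2K
  have hGK : Nat.card G = Nat.card K * 60 := by
    rw [← h60, ← K.card_mul_index, Subgroup.index_eq_card]
  -- the preimage of the class of `t` is the class of `u`
  have hcoset : ∀ k ∈ K, IsConj u (u * k) := by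
    intro k hk
    set D := (Subgroup.centralizer ({t} : Set (G ⧸ K))).comap π with hD
    have hDc : Nat.card D = 4 * Nat.card K := by
      rw [hD, ← HallCore.card_comap_mk', hCt]
    let f : G → G := fun a => a * u * a⁻¹
    let Df : Finset G := Finset.univ.filter fun a => a ∈ D
    let Kf : Finset G := (Finset.univ.filter fun a => a ∈ K).image fun a => u * a
    have hmaps : Df.image f ⊆ Kf := by
      intro w hw
      obtain ⟨a, ha, rfl⟩ := Finset.mem_image.1 hw
      have ha' := Subgroup.mem_centralizer_singleton_iff.1 (Finset.mem_filter.1 ha).2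
      refine Finset.mem_image.2 ⟨u⁻¹ * (a * u * a⁻¹), Finset.mem_filter.2 ⟨Finset.mem_univ _, ?_⟩,
        mul_inv_cancel_left _ _⟩
      rw [← hπk, map_mul, map_mul, map_mul, map_inv, map_inv, ← ht, ha', mul_inv_cancel_right,
        inv_mul_cancel]
    have hfib : ∀ w ∈ Df.image f, (Df.filter fun a => f a = w).card ≤ 4 := by
      intro w hw
      obtain ⟨a0, -, ha0⟩ := Finset.mem_image.1 hw
      rw [← hCu, Nat.card_eq_fintype_card, ← Finset.card_univ]
      refine Finset.card_le_card_of_injOn (fun a =>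
        if ha : a0⁻¹ * a ∈ Subgroup.centralizer ({u} : Set G) then (⟨_, ha⟩ : Subgroup.centralizer _)
        else 1) (fun a _ => Finset.mem_coe.2 (Finset.mem_univ _)) ?_
      have hmem : ∀ a ∈ Df.filter (fun a => f a = w),
          a0⁻¹ * a ∈ Subgroup.centralizer ({u} : Set G) := by
        intro a ha
        have e2 : a * u * a⁻¹ = a0 * u * a0⁻¹ := (Finset.mem_filter.1 ha).2.trans ha0.symm
        refine Subgroup.mem_centralizer_singleton_iff.2 ?_
        calc a0⁻¹ * a * u = a0⁻¹ * (a * u * a⁻¹) * a := by group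
          _ = u * (a0⁻¹ * a) := by rw [e2]; group
      intro a ha b hb e
      simp only [dif_pos (hmem a ha), dif_pos (hmem b hb), Subtype.mk.injEq] at e
      exact mul_left_cancel e
    have h1 := Finset.card_le_mul_card_image Df 4 hfib
    have hDf : Df.card = 4 * Nat.card K := by
      rw [← hDc, Nat.card_eq_fintype_card]; exact (Fintype.card_subtype _).symm
    have hKf : Kf.card = Nat.card K := by
      rw [Finset.card_image_of_injective _ (mul_right_injective u), Nat.card_eq_fintype_card]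
      exact (Fintype.card_subtype _).symm
    have heq : Df.image f = Kf := Finset.eq_of_subset_of_card_le hmaps (by omega)
    obtain ⟨a, -, ha⟩ := Finset.mem_image.1 (heq.symm ▸ Finset.mem_image.2
      ⟨k, Finset.mem_filter.2 ⟨Finset.mem_univ _, hk⟩, rfl⟩ : u * k ∈ Df.image f)
    exact isConj_iff.2 ⟨a, ha⟩
  have hpre : ∀ g : G, IsConj t (π g) → IsConj u g := by
    intro g hg
    obtain ⟨c, hc⟩ := isConj_iff.1 hg
    obtain ⟨c, rfl⟩ := hπs c
    have hk : u⁻¹ * (c⁻¹ * g * c) ∈ K := by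
      rw [← hπk]
      simp only [map_mul, map_inv, ← hc, ← ht]
      group
    exact (hcoset _ hk).trans (isConj_iff.2 ⟨c, by group⟩)
  have hinv' : ∀ g : G, π g ≠ 1 → (π g) ^ 2 = 1 → IsConj u g :=
    fun g h1 h2 => hpre g (hinv _ h1 h2)
  -- the normal closure of `u`
  have hnc : Subgroup.normalClosure ({u} : Set G) = ⊤ := by
    set N := Subgroup.normalClosure ({u} : Set G) with hN
    have huN : u ∈ N := Subgroup.subset_normalClosure rfl
    have hKN : K ≤ N := by
      intro k hk
      obtain ⟨a, ha⟩ := isConj_iff.1 (hcoset k hk)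
      have h1 : u * k ∈ N := ha ▸ (Subgroup.normalClosure_normal).conj_mem u huN a
      simpa using N.mul_mem (N.inv_mem huN) h1
    have hNn : (N.map π).Normal := Subgroup.Normal.map Subgroup.normalClosure_normal _ hπs
    rcases hsimp.eq_bot_or_eq_top_of_normal _ hNn with e | e
    · exact absurd ((Subgroup.eq_bot_iff_forall _).1 e t (Subgroup.mem_map_of_mem π huN)) htne
    · rw [eq_top_iff]
      intro g _
      obtain ⟨n, hn, hng⟩ := (e ▸ Subgroup.mem_top (π g) : π g ∈ N.map π)
      have h2 : n⁻¹ * g ∈ K := by rw [← hπk, map_mul, map_inv, hng, inv_mul_cancel]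
      simpa using N.mul_mem hn (hKN h2)
  have hcentK : u ^ 2 = 1 → ∀ k ∈ K, k ^ 2 = 1 ∧ k * u = u * k := by
    intro hu2
    have hw : ∀ g k, k ∈ K → g * u * g⁻¹ * k * (g * u * g⁻¹)⁻¹ = k⁻¹ := by
      intro g k hk
      have hw2 : (g * u * g⁻¹) ^ 2 = 1 := by rw [conj_pow, hu2, mul_one, mul_inv_cancel]
      have h1 : IsConj u (g * u * g⁻¹ * k) := hpre _ (by
        rw [map_mul, (hπk k).2 hk, mul_one, map_mul, map_mul, map_inv]
        exact isConj_iff.2 ⟨π g, rfl⟩)
      obtain ⟨a, ha⟩ := isConj_iff.1 h1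
      have h2 : (g * u * g⁻¹ * k) ^ 2 = 1 := by rw [← ha, conj_pow, hu2, mul_one, mul_inv_cancel]
      generalize g * u * g⁻¹ = w at hw2 h2
      rw [pow_two] at hw2 h2
      rw [inv_eq_of_mul_eq_one_right hw2]
      refine eq_inv_of_mul_eq_one_left ?_
      calc w * k * w * k = w * k * (w * k) := by group
        _ = 1 := h2
    intro k hk
    have hf := hom_trivial hperf (MulAut.conjNormal : G →* MulAut K) u hnc (fun g => by
      refine MulEquiv.ext fun l => Subtype.ext ?_
      rw [MulAut.conjNormal_apply, MulAut.conjNormal_apply, hw g l l.2]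
      simpa using (hw 1 l l.2).symm) u
    have h1 : u * k * u⁻¹ = k := by
      have := congrArg Subtype.val (DFunLike.congr_fun hf ⟨k, hk⟩)
      simpa using this
    have h2 := hw 1 k hk
    simp only [one_mul, inv_one, mul_one] at h2
    rw [h1] at h2
    exact ⟨by rw [pow_two]; exact mul_eq_one_iff_eq_inv.2 h2,
      (mul_inv_eq_iff_eq_mul.1 h1).symm⟩
  have hOK : Cfsg.oddCore G ≤ K := by
    have hO2 : (Nat.card (Cfsg.oddCore G)).Coprime 2 := HallCore.coprime_card_pPrimeCore 2 G
    have hn : ((Cfsg.oddCore G).map π).Normal :=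
      Subgroup.Normal.map (HallCore.pPrimeCore_normal 2 G) _ hπs
    rcases hsimp.eq_bot_or_eq_top_of_normal _ hn with e | e
    · exact fun x hx => (hπk x).1 ((Subgroup.eq_bot_iff_forall _).1 e _ (Subgroup.mem_map_of_mem π hx))
    · exfalso
      have h1 := Subgroup.card_map_dvd (Cfsg.oddCore G) π
      rw [e, Subgroup.card_top, h60] at h1
      have := hO2.coprime_dvd_left h1
      norm_num at this
  obtain ⟨e5⟩ := PSL2Small.iso_A5_of_simple_card h60
  by_cases hC0 : ∀ k ∈ K, k * u = u * k → k = 1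
  · -- `K` is trivial
    have hu2 : u ^ 2 = 1 := hC0 _ hu2K (by rw [← pow_succ, ← pow_succ'])
    have hKbot : K = ⊥ := (Subgroup.eq_bot_iff_forall _).2 fun k hk =>
      hC0 k hk (hcentK hu2 k hk).2
    have hO : Cfsg.oddCore G = ⊥ := le_bot_iff.1 (hKbot ▸ hOK)
    refine ⟨?_, Or.inl ⟨?_, orderOf_eq_prime hu2 hu⟩⟩
    · rw [hO]; infer_instance
    · obtain ⟨eP⟩ := PSL2Small.psl2_five (ZMod 5) (Nat.card_zmod 5)
      exact ⟨((QuotientGroup.quotientMulEquivOfEq (hO.trans hKbot.symm)).trans e5).trans eP.symm⟩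
  push Not at hC0
  obtain ⟨z, hzK, hzu, hz1⟩ := hC0
  -- `C_K(u) = {1, z}`
  have hCK : ∀ k ∈ K, k * u = u * k → k = 1 ∨ k = z := by
    let C := Subgroup.centralizer ({u} : Set G)
    let g : C →* G ⧸ K := π.comp C.subtype
    have hr : 2 ∣ Nat.card g.range := by
      have htr : t ∈ g.range := ⟨⟨u, Subgroup.mem_centralizer_singleton_iff.2 rfl⟩, rfl⟩
      have := Subgroup.card_dvd_of_le (Subgroup.zpowers_le.2 htr)
      rwa [Nat.card_zpowers, orderOf_eq_prime ht2 htne] at this
    have hm : Nat.card g.ker * Nat.card g.range = 4 := by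
      rw [← Subgroup.index_ker, Subgroup.card_mul_index]
      exact hCu
    have hk2 : Nat.card g.ker ≤ 2 := by
      obtain ⟨c, hc⟩ := hr
      rw [hc] at hm
      have : 0 < c := by rcases Nat.eq_zero_or_pos c with e | e; (· subst e; simp at hm); exact e
      nlinarith
    intro k hk hku
    by_contra hcon
    push Not at hcon
    have h3 : ({1, ⟨k, Subgroup.mem_centralizer_singleton_iff.2 hku⟩,
        ⟨z, Subgroup.mem_centralizer_singleton_iff.2 hzu⟩} : Finset C) ⊆
        Finset.univ.filter fun x => x ∈ g.ker := by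
      intro x hx
      simp only [Finset.mem_insert, Finset.mem_singleton] at hx
      refine Finset.mem_filter.2 ⟨Finset.mem_univ _, ?_⟩
      rcases hx with rfl | rfl | rfl
      · exact g.ker.one_mem
      · exact (hπk k).2 hk
      · exact (hπk z).2 hzK
    have h4 := Finset.card_le_card h3
    rw [Finset.card_insert_of_notMem, Finset.card_pair (fun e => hcon.2 (congrArg Subtype.val e))]
      at h4
    · rw [Nat.card_eq_fintype_card, Fintype.card_subtype] at hk2
      omega
    · simp only [Finset.mem_insert, Finset.mem_singleton, not_or]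
      exact ⟨fun e => hcon.1 (congrArg Subtype.val e).symm, fun e => hz1 (congrArg Subtype.val e).symm⟩
  -- a Sylow subgroup containing `u`
  have hu4 : u ^ 4 = 1 := by
    rcases hCK (u ^ 2) hu2K (by rw [← pow_succ, ← pow_succ']) with e | e
    · rw [show 4 = 2 * 2 from rfl, pow_mul, e, one_pow]
    · rcases hCK (z * z) (K.mul_mem hzK hzK) (by
        rw [mul_assoc, hzu, ← mul_assoc, hzu, mul_assoc]) with e' | e'
      · rw [show 4 = 2 * 2 from rfl, pow_mul, e, pow_two, e']
      · exact absurd (mul_eq_left.1 e') hz1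
  obtain ⟨S, hS⟩ := (IsPGroup.of_card (n := Nat.log 2 (orderOf u)) (by
      rw [Nat.card_zpowers]
      obtain ⟨i, -, hi⟩ := (Nat.dvd_prime_pow Nat.prime_two).1
        (show orderOf u ∣ 2 ^ 2 from orderOf_dvd_of_pow_eq_one hu4)
      rw [hi, Nat.log_pow one_lt_two]) : IsPGroup 2 (Subgroup.zpowers u)).exists_le_sylow
  have huS : u ∈ (S : Subgroup G) := hS (Subgroup.mem_zpowers u)
  have hsout : ∀ s ∈ (S : Subgroup G), s ∉ K → IsConj u s := by
    intro s hs hsK
    have hne : π s ≠ 1 := fun e => hsK ((hπk s).1 e)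
    obtain ⟨j, hj⟩ := S.isPGroup' ⟨s, hs⟩
    have hj' : π s ^ (2 ^ j) = 1 := by
      rw [← map_pow, show s ^ (2 ^ j) = 1 from congrArg Subtype.val hj, map_one]
    obtain ⟨i, -, hi⟩ := (Nat.dvd_prime_pow Nat.prime_two).1 (orderOf_dvd_of_pow_eq_one hj')
    have h60' : orderOf (π s) ∣ 60 := h60 ▸ orderOf_dvd_natCard _
    have hi2 : i ≤ 2 := by
      by_contra hc
      rw [hi] at h60'
      have := (pow_dvd_pow 2 (show 3 ≤ i by omega)).trans h60'
      norm_num at this
    have h4 : π s ^ 4 = 1 := orderOf_dvd_iff_pow_eq_one.1 (hi ▸ (pow_dvd_pow 2 hi2).trans dvd_rfl)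
    by_cases h2 : π s ^ 2 = 1
    · exact hinv' s hne h2
    exfalso
    obtain ⟨c, hc⟩ := isConj_iff.1 (hinv (π s ^ 2) h2 (by rw [← pow_mul]; exact h4))
    set y := c⁻¹ * π s * c with hy
    have hy2 : y ^ 2 = t := by
      calc y ^ 2 = c⁻¹ * (π s ^ 2) * c := by rw [hy, pow_two, pow_two]; group
        _ = t := by rw [← hc]; group
    have hyC : y ∈ Subgroup.centralizer ({t} : Set (G ⧸ K)) := by
      rw [Subgroup.mem_centralizer_singleton_iff, ← hy2, ← pow_succ, ← pow_succ']
    exact htne (hy2 ▸ hexp y hyC)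
  -- `u` has order four and `z = u ^ 2`
  have hzS : u ^ 2 ∈ (S : Subgroup G) := Subgroup.pow_mem _ huS 2
  have hu2 : u ^ 2 ≠ 1 := by
    intro hu2
    have hKle : ∀ k ∈ K, k = 1 ∨ k = z := fun k hk => hCK k hk (hcentK hu2 k hk).2
    have hK2 : Nat.card K = 2 := by
      refine le_antisymm ?_ ?_
      · rw [Nat.card_eq_fintype_card, Fintype.card_subtype]
        refine (Finset.card_le_card (t := ({1, z} : Finset G)) fun k hk => ?_).trans Finset.card_le_two
        rcases hKle k (Finset.mem_filter.1 hk).2 with e | e <;> simp [e]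
      · exact Finite.one_lt_card_iff_nontrivial.2
          ⟨⟨⟨z, hzK⟩, 1, fun e => hz1 (congrArg Subtype.val e)⟩⟩
    have hS8 : Nat.card (S : Subgroup G) = 8 := by
      rw [S.card_eq_multiplicity, hGK, hK2]; decide +kernel
    have hsq : ∀ s ∈ (S : Subgroup G), s * s = 1 := by
      intro s hs
      by_cases hsK : s ∈ K
      · rw [← pow_two]; exact (hcentK hu2 s hsK).1
      · obtain ⟨a, ha⟩ := isConj_iff.1 (hsout s hs hsK)
        rw [← pow_two, ← ha, conj_pow, hu2, mul_one, mul_inv_cancel]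
    have hle : (S : Subgroup G) ≤ Subgroup.centralizer ({u} : Set G) := fun s hs => by
      refine Subgroup.mem_centralizer_singleton_iff.2 ?_
      have h1 := inv_eq_of_mul_eq_one_right (hsq (s * u) (Subgroup.mul_mem _ hs huS))
      rw [mul_inv_rev, inv_eq_of_mul_eq_one_right (hsq u huS),
        inv_eq_of_mul_eq_one_right (hsq s hs)] at h1
      exact h1.symm
    have := Nat.le_of_dvd (by rw [hCu]; norm_num) (Subgroup.card_dvd_of_le hle)
    omega
  obtain rfl : u ^ 2 = z :=
    (hCK (u ^ 2) hu2K (by rw [← pow_succ, ← pow_succ'])).resolve_left hu2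
  have hzz : u ^ 2 * u ^ 2 = 1 := by rw [← pow_add]; exact hu4
  have hord : orderOf u = 4 :=
    orderOf_eq_prime_pow (p := 2) (n := 1) (by simpa using hu2) (by simpa using hu4)
  -- centralizers in `K` of conjugates of `u`
  have hCw : ∀ a k, k ∈ K → k * (a * u * a⁻¹) = a * u * a⁻¹ * k →
      k = 1 ∨ k = a * u ^ 2 * a⁻¹ := by
    intro a k hk hc
    have h1 : a⁻¹ * k * a * u = u * (a⁻¹ * k * a) := by
      calc a⁻¹ * k * a * u = a⁻¹ * (k * (a * u * a⁻¹)) * a := by group
        _ = a⁻¹ * (a * u * a⁻¹ * k) * a := by rw [hc]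
        _ = u * (a⁻¹ * k * a) := by group
    rcases hCK _ (hK.conj_mem' k hk a) h1 with e | e
    · left
      calc k = a * (a⁻¹ * k * a) * a⁻¹ := by group
        _ = 1 := by rw [e]; group
    · right
      rw [← e]; group
  -- `u ^ 2` is central in `S`
  have hzc : ∀ s ∈ (S : Subgroup G), s * u ^ 2 = u ^ 2 * s := by
    let S0 : Subgroup ↥(S : Subgroup G) := K.subgroupOf (S : Subgroup G)
    have : S0.Normal := hK.subgroupOf _
    letI := MulAction.compHom ↥S0 (MulAut.conjNormal : ↥(S : Subgroup G) →* MulAut ↥S0)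
    have hz0 : (⟨u ^ 2, hzS⟩ : ↥(S : Subgroup G)) ∈ S0 := hu2K
    have h2 : 2 ∣ Nat.card ↥S0 := by
      have h1 := Subgroup.card_dvd_of_le (Subgroup.zpowers_le.2 hz0)
      rwa [Nat.card_zpowers, orderOf_eq_prime (p := 2) (Subtype.ext ((pow_two _).trans hzz))
        (fun e => hu2 (congrArg Subtype.val e))] at h1
    obtain ⟨b, hb, hb1⟩ := S.isPGroup'.exists_fixed_point_of_prime_dvd_card_of_fixed_point _ h2
      (a := (1 : S0)) (fun g => map_one (MulAut.conjNormal g : MulAut S0))
    have hbc : ∀ s ∈ (S : Subgroup G), s * ((b : ↥(S : Subgroup G)) : G) * s⁻¹ =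
        ((b : ↥(S : Subgroup G)) : G) := fun s hs => by
      have := congrArg (fun y : S0 => ((y : ↥(S : Subgroup G)) : G)) (hb ⟨s, hs⟩)
      simpa [MulAction.compHom_smul_def] using this
    rcases hCK _ b.2 (mul_inv_eq_iff_eq_mul.1 (hbc u huS)).symm with e | e
    · exact absurd (Subtype.ext (Subtype.ext e.symm)) hb1
    · intro s hs
      rw [← e]
      exact mul_inv_eq_iff_eq_mul.1 (hbc s hs)
  have hs2 : ∀ s ∈ (S : Subgroup G), s ∉ K → s ^ 2 = u ^ 2 := by
    intro s hs hsK
    obtain ⟨a, ha⟩ := isConj_iff.1 (hsout s hs hsK)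
    rcases hCw a (u ^ 2) hu2K (by rw [ha]; exact (hzc s hs).symm) with e | e
    · exact absurd e hu2
    · rw [e, ← ha, conj_pow]
  have hinvS : ∀ v ∈ (S : Subgroup G), v ∉ K → ∀ k ∈ (S : Subgroup G), k ∈ K →
      v * k * v⁻¹ = k⁻¹ := by
    intro v hv hvK k hk hkK
    have hvk : v * k ∉ K := fun e => hvK (by simpa using K.mul_mem e (K.inv_mem hkK))
    have e : (v * k) ^ 2 = v ^ 2 := by rw [hs2 _ (Subgroup.mul_mem _ hv hk) hvk, hs2 v hv hvK]
    have e2 : k * v * k = v := by
      refine mul_left_cancel (a := v) ?_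
      calc v * (k * v * k) = (v * k) ^ 2 := by rw [pow_two]; group
        _ = v * v := by rw [e, pow_two]
    refine eq_inv_of_mul_eq_one_right ?_
    calc k * (v * k * v⁻¹) = k * v * k * v⁻¹ := by group
      _ = 1 := by rw [e2, mul_inv_cancel]
  have hS' : Nat.card (((S : Subgroup G)).map π) = 4 := by
    have h1 := (S.mapSurjective hπs).card_eq_multiplicity
    rw [h60] at h1
    rw [← Sylow.coe_mapSurjective hπs S]
    exact h1.trans (by decide +kernel)
  have hSK : ∀ k ∈ (S : Subgroup G), k ∈ K → k = 1 ∨ k = u ^ 2 := by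
    obtain ⟨v, hv, hv1, hv2⟩ : ∃ v ∈ (S : Subgroup G), π v ≠ 1 ∧ π (u * v) ≠ 1 := by
      by_contra hc
      push Not at hc
      have hle : (Finset.univ.filter fun q => q ∈ (S : Subgroup G).map π) ⊆ {1, t⁻¹} := by
        intro q hq
        obtain ⟨v, hv, rfl⟩ := Subgroup.mem_map.1 (Finset.mem_filter.1 hq).2
        by_cases h1 : π v = 1
        · simp [h1]
        · have h2 := hc v hv h1
          rw [map_mul, ← ht] at h2
          simp [eq_inv_of_mul_eq_one_right h2]
      have h1 := (Finset.card_le_card hle).trans Finset.card_le_two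
      rw [Nat.card_eq_fintype_card, Fintype.card_subtype] at hS'
      omega
    intro k hk hkK
    have huv : u * v ∉ K := fun e => hv2 ((hπk _).2 e)
    have hcomm : k * (u * v) = u * v * k := by
      have h1 := hinvS v hv (fun e => hv1 ((hπk v).2 e)) k hk hkK
      have h2 := hinvS u huS huK k⁻¹ (Subgroup.inv_mem _ hk) (K.inv_mem hkK)
      rw [inv_inv] at h2
      calc k * (u * v) = u * k⁻¹ * u⁻¹ * (u * v) := by rw [h2]
        _ = u * (v * k * v⁻¹) * v := by rw [h1]; group
        _ = u * v * k := by group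
    obtain ⟨a, ha⟩ := isConj_iff.1 (hsout _ (Subgroup.mul_mem _ huS hv) huv)
    rw [← hs2 _ (Subgroup.mul_mem _ huS hv) huv, ← ha, conj_pow]
    rw [← ha] at hcomm
    exact hCw a k hkK hcomm
  have hS8 : Nat.card (S : Subgroup G) = 8 := by
    let g : ↥(S : Subgroup G) →* G ⧸ K := π.comp (S : Subgroup G).subtype
    have hr : Nat.card g.range = 4 := by
      rw [← hS']
      congr 1
      rw [MonoidHom.range_comp, Subgroup.range_subtype]
    have hker : Nat.card g.ker = 2 := by
      have hne : (⟨⟨u ^ 2, hzS⟩, (hπk _).2 hu2K⟩ : g.ker) ≠ 1 := fun e =>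
        hu2 (congrArg (fun y : g.ker => ((y : ↥(S : Subgroup G)) : G)) e)
      refine le_antisymm ?_ (Finite.one_lt_card_iff_nontrivial.2 ⟨⟨_, _, hne⟩⟩)
      rw [Nat.card_eq_fintype_card, ← Finset.card_univ]
      refine (Finset.card_le_card (t := ({1, ⟨⟨u ^ 2, hzS⟩, (hπk _).2 hu2K⟩} : Finset g.ker))
        fun x _ => ?_).trans Finset.card_le_two
      rcases hSK _ x.1.2 ((hπk _).1 x.2) with e | e
      · exact Finset.mem_insert.2 (Or.inl (Subtype.ext (Subtype.ext e)))
      · exact Finset.mem_insert.2 (Or.inr (Finset.mem_singleton.2 (Subtype.ext (Subtype.ext e))))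
    rw [← g.ker.card_mul_index, Subgroup.index_ker, hr, hker]
  have hKfac : (Nat.card K).factorization 2 = 1 := by
    have h1 := S.card_eq_multiplicity
    rw [hS8, hGK, Nat.factorization_mul Nat.card_pos.ne' (by norm_num), Finsupp.add_apply,
      show Nat.factorization 60 2 = 2 by decide +kernel, show (8 : ℕ) = 2 ^ 3 from rfl] at h1
    have := Nat.pow_right_injective le_rfl h1
    omega
  set O : Subgroup G := Cfsg.oddCore G with hOdef
  have hOn : O.Normal := HallCore.pPrimeCore_normal 2 G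
  have hO2 : (Nat.card O).Coprime 2 := HallCore.coprime_card_pPrimeCore 2 G
  -- the normal complement
  have hKO : Nat.card K = 2 * Nat.card O := by
    have heven : 2 ∣ Nat.card K := by
      have := Nat.ordProj_dvd (Nat.card K) 2
      rwa [hKfac, pow_one] at this
    obtain ⟨P⟩ : Nonempty (Sylow 2 K) := inferInstance
    have hP2 : Nat.card (P : Subgroup K) = 2 := by rw [P.card_eq_multiplicity, hKfac, pow_one]
    have hcyc : IsCyclic (P : Subgroup K) := isCyclic_of_prime_card hP2
    have hN := hcyc.normalizer_le_centralizer ((Nat.minFac_eq_two_iff _).2 heven)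
    have hcompl := MonoidHom.ker_transferSylow_isComplement' P hN
    set M := (MonoidHom.transferSylow P hN).ker
    have hM : Nat.card M * 2 = Nat.card K := hP2 ▸ hcompl.card_mul
    have hM2 : (Nat.card M).Coprime 2 := by
      refine ((Nat.Prime.coprime_iff_not_dvd Nat.prime_two).2 fun hd => ?_).symm
      have h4 : 2 ^ 2 ∣ Nat.card K := by rw [← hM, pow_two]; exact Nat.mul_dvd_mul hd dvd_rfl
      have := (Nat.Prime.pow_dvd_iff_le_factorization Nat.prime_two Nat.card_pos.ne').1 h4
      omega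
    have hMle : M ≤ Cfsg.pPrimeCore 2 K := HallCore.le_pPrimeCore hM2
    have hMO : Nat.card M ≤ Nat.card O := by
      refine (Nat.le_of_dvd Nat.card_pos (Subgroup.card_dvd_of_le hMle)).trans ?_
      rw [← Subgroup.card_map_of_injective K.subtype_injective, HallCore.map_subtype_pPrimeCore]
      exact Nat.le_of_dvd Nat.card_pos (Subgroup.card_dvd_of_le inf_le_left)
    have hdvd : Nat.card O ∣ Nat.card M := by
      have h1 := Subgroup.card_dvd_of_le hOK
      rw [← hM] at h1
      exact hO2.dvd_of_dvd_mul_right h1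
    have := Nat.le_of_dvd Nat.card_pos hdvd
    omega
  have hzO : u ^ 2 ∉ O := fun e => by
    have h1 := Subgroup.card_dvd_of_le (Subgroup.zpowers_le.2 e)
    rw [Nat.card_zpowers, orderOf_eq_prime (p := 2) ((pow_two _).trans hzz) hu2] at h1
    have := hO2.coprime_dvd_left h1
    norm_num at this
  have hcases : ∀ k ∈ K, k ∈ O ∨ u ^ 2 * k ∈ O := by
    intro k hk
    have hidx : (O.subgroupOf K).index = 2 := by
      have h1 := (O.subgroupOf K).card_mul_index
      rw [Nat.card_congr (Subgroup.subgroupOfEquivOfLe hOK).toEquiv, hKO, mul_comm 2] at h1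
      exact Nat.eq_of_mul_eq_mul_left Nat.card_pos h1
    by_cases hk' : k ∈ O
    · exact Or.inl hk'
    · refine Or.inr ?_
      have h1 : ((⟨u ^ 2, hu2K⟩ : K) * ⟨k, hk⟩) ∈ O.subgroupOf K :=
        (Subgroup.mul_mem_iff_of_index_two hidx).2 ⟨fun e => absurd e hzO, fun e => absurd e hk'⟩
      exact h1
  -- the centralizer of `u ^ 2` covers `G ⧸ O`
  set H : Subgroup G := Subgroup.centralizer ({u ^ 2} : Set G) with hHdef
  have hcover : ∀ g : G, ∃ c ∈ H, c⁻¹ * g ∈ O := by
    intro g
    have hz'K : g * u ^ 2 * g⁻¹ ∈ K := hK.conj_mem _ hu2K g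
    let P : ∀ a : K, a ≠ 1 → a * a = 1 → Sylow 2 K := fun a ha ha2 =>
      Sylow.ofCard (Subgroup.zpowers a) (by
        rw [Nat.card_zpowers, orderOf_eq_prime (p := 2) ((pow_two a).trans ha2) ha, hKfac, pow_one])
    have h1 : (⟨g * u ^ 2 * g⁻¹, hz'K⟩ : K) ≠ 1 := fun e => hu2 (by
      have := congrArg Subtype.val e
      simpa using this)
    have h2 : (⟨g * u ^ 2 * g⁻¹, hz'K⟩ : K) * ⟨g * u ^ 2 * g⁻¹, hz'K⟩ = 1 := Subtype.ext (by
      show g * u ^ 2 * g⁻¹ * (g * u ^ 2 * g⁻¹) = 1
      calc g * u ^ 2 * g⁻¹ * (g * u ^ 2 * g⁻¹) = g * (u ^ 2 * u ^ 2) * g⁻¹ := by group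
        _ = 1 := by rw [hzz, mul_one, mul_inv_cancel])
    have h3 : (⟨u ^ 2, hu2K⟩ : K) ≠ 1 := fun e => hu2 (congrArg Subtype.val e)
    obtain ⟨k, hk⟩ := MulAction.exists_smul_eq K (P _ h1 h2) (P ⟨u ^ 2, hu2K⟩ h3 (Subtype.ext hzz))
    have hmem : k * ⟨g * u ^ 2 * g⁻¹, hz'K⟩ * k⁻¹ ∈ Subgroup.zpowers (⟨u ^ 2, hu2K⟩ : K) := by
      have : k * ⟨g * u ^ 2 * g⁻¹, hz'K⟩ * k⁻¹ ∈ (k • P _ h1 h2 : Sylow 2 K) := by
        rw [← SetLike.mem_coe, Sylow.coe_smul, Set.mem_smul_set]
        exact ⟨_, Subgroup.mem_zpowers _, rfl⟩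
      rw [hk] at this
      exact this
    have hkg : (k : G) * g ∈ H := by
      refine Subgroup.mem_centralizer_singleton_iff.2 ?_
      obtain ⟨i, hi⟩ := Subgroup.mem_zpowers_iff.1 hmem
      have hval : (k : G) * (g * u ^ 2 * g⁻¹) * (k : G)⁻¹ = u ^ 2 := by
        rcases Int.even_or_odd i with ⟨j, rfl⟩ | ⟨j, rfl⟩
        · exfalso
          rw [← two_mul, zpow_mul, zpow_ofNat,
            show (⟨u ^ 2, hu2K⟩ : K) ^ 2 = 1 from Subtype.ext ((pow_two _).trans hzz),
            one_zpow] at hi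
          exact h1 (conj_eq_one_iff.1 hi.symm)
        · rw [zpow_add, zpow_mul, zpow_ofNat,
            show (⟨u ^ 2, hu2K⟩ : K) ^ 2 = 1 from Subtype.ext ((pow_two _).trans hzz),
            one_zpow, one_mul, zpow_one] at hi
          exact (congrArg Subtype.val hi).symm
      calc (k : G) * g * u ^ 2 = (k : G) * (g * u ^ 2 * g⁻¹) * (k : G)⁻¹ * ((k : G) * g) := by group
        _ = u ^ 2 * ((k : G) * g) := by rw [hval]
    rcases hcases k k.2 with hk' | hk'
    · refine ⟨_, hkg, ?_⟩
      rw [show ((k : G) * g)⁻¹ * g = g⁻¹ * (k : G)⁻¹ * g by group]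
      exact hOn.conj_mem' _ (O.inv_mem hk') g
    · refine ⟨u ^ 2 * ((k : G) * g), H.mul_mem (Subgroup.mem_centralizer_singleton_iff.2 rfl) hkg, ?_⟩
      rw [show (u ^ 2 * ((k : G) * g))⁻¹ * g = g⁻¹ * (u ^ 2 * k)⁻¹ * g by group]
      exact hOn.conj_mem' _ (O.inv_mem hk') g
  -- `C_O(u ^ 2)` is trivial
  let q : H →* G ⧸ O := (QuotientGroup.mk' O).comp H.subtype
  have hqs : Function.Surjective q := fun y => by
    obtain ⟨g, rfl⟩ := QuotientGroup.mk'_surjective O y
    obtain ⟨c, hc, hcO⟩ := hcover g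
    exact ⟨⟨c, hc⟩, (QuotientGroup.eq).2 hcO⟩
  let φ : H →* MulAut q.ker := MulAut.conjNormal
  have hLO : ∀ l : q.ker, ((l : H) : G) ∈ O := fun l => (QuotientGroup.eq_one_iff _).1 l.2
  have hflip : ∀ x : H, IsConj u (x : G) →
      MonoidHom.FixedPointFree (φ x : q.ker → q.ker) ∧
        Function.Involutive (φ x : q.ker → q.ker) := by
    intro x hx
    obtain ⟨a, ha⟩ := isConj_iff.1 hx
    have hxz : a * u ^ 2 * a⁻¹ = u ^ 2 := by
      have hc := Subgroup.mem_centralizer_singleton_iff.1 x.2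
      rw [← ha] at hc
      exact ((hCw a (u ^ 2) hu2K hc.symm).resolve_left hu2).symm
    refine ⟨fun l hl => ?_, fun l => ?_⟩
    · have hl' : (x : G) * (l : H) * (x : G)⁻¹ = (l : H) := by
        have := congrArg (fun y : q.ker => ((y : H) : G)) hl
        simpa [φ] using this
      rw [← ha] at hl'
      rcases hCw a _ (hOK (hLO l)) (mul_inv_eq_iff_eq_mul.1 hl').symm with e | e
      · exact Subtype.ext (Subtype.ext e)
      · rw [hxz] at e
        exact absurd (e ▸ hLO l) hzO
    · apply Subtype.ext; apply Subtype.ext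
      have h2 : ((l : H) : G) * u ^ 2 = u ^ 2 * (l : H) :=
        Subgroup.mem_centralizer_singleton_iff.1 (l : H).2
      have h3 : (x : G) * (x : G) = u ^ 2 := by rw [← pow_two, ← ha, conj_pow, hxz]
      simp only [φ, MulAut.conjNormal_apply, Subgroup.coe_mul, Subgroup.coe_inv]
      calc (x : G) * ((x : G) * (l : H) * (x : G)⁻¹) * (x : G)⁻¹
          = (x : G) * (x : G) * (l : H) * ((x : G) * (x : G))⁻¹ := by group
        _ = ((l : H) : G) := by rw [h3, ← h2, mul_inv_cancel_right]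
  let uH : H := ⟨u, Subgroup.mem_centralizer_singleton_iff.2 (by rw [← pow_succ, ← pow_succ'])⟩
  have hu' := hflip uH (IsConj.refl u)
  have hconstφ : ∀ x : H, IsConj u (x : G) → φ x = φ uH := fun x hx => MulEquiv.ext fun l => by
    have h1 := congrFun ((hflip x hx).1.coe_eq_inv_of_involutive (hflip x hx).2) l
    have h2 := congrFun (hu'.1.coe_eq_inv_of_involutive hu'.2) l
    exact h1.trans h2.symm
  have hkerle : q.ker ≤ φ.ker := fun x hx => by
    refine MonoidHom.mem_ker.2 (MulEquiv.ext fun l => Subtype.ext ?_)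
    have hc : x * (l : H) = (l : H) * x :=
      congrArg Subtype.val (hu'.1.commute_all_of_involutive hu'.2 ⟨x, hx⟩ l).eq
    simp only [φ, MulAut.conjNormal_apply, MulAut.one_apply]
    rw [hc, mul_inv_cancel_right]
  let f : G →* MulAut q.ker := (q.liftOfSurjective hqs ⟨φ, hkerle⟩).comp (QuotientGroup.mk' O)
  have hfq : ∀ (g : G) (x : H), q x = QuotientGroup.mk' O g → f g = φ x := fun g x hx => by
    show q.liftOfSurjective hqs ⟨φ, hkerle⟩ (QuotientGroup.mk' O g) = _
    rw [← hx]
    exact MonoidHom.liftOfRightInverse_comp_apply _ _ _ ⟨φ, hkerle⟩ x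
  have hfu : φ uH = 1 := by
    rw [← hfq u uH rfl]
    refine hom_trivial hperf f u hnc (fun g => ?_) u
    obtain ⟨x, hx⟩ := hqs (QuotientGroup.mk' O g)
    have hx2 : q (x * uH * x⁻¹) = QuotientGroup.mk' O (g * u * g⁻¹) := by
      rw [map_mul, map_mul, map_inv, hx, map_mul, map_mul, map_inv]
      rfl
    rw [hfq (g * u * g⁻¹) (x * uH * x⁻¹) hx2, hfq u uH rfl]
    exact hconstφ _ (isConj_iff.2 ⟨(x : G), rfl⟩)
  have hCO : ∀ o ∈ O, o * u ^ 2 = u ^ 2 * o → o = 1 := by
    intro o ho hc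
    let l : q.ker := ⟨⟨o, Subgroup.mem_centralizer_singleton_iff.2 hc⟩,
      (QuotientGroup.eq_one_iff o).2 ho⟩
    have h1 := congrFun (hu'.1.coe_eq_inv_of_involutive hu'.2) l
    rw [hfu] at h1
    have h2 : o * o = 1 := by
      have h3 := congrArg (fun y : q.ker => ((y : H) : G)) h1
      simp only [MulAut.one_apply, Subgroup.coe_inv] at h3
      nth_rewrite 2 [show o = o⁻¹ from h3]
      exact mul_inv_cancel o
    by_contra hne
    have h4 := Subgroup.card_dvd_of_le (Subgroup.zpowers_le.2 ho)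
    rw [Nat.card_zpowers, orderOf_eq_prime (p := 2) ((pow_two o).trans h2) hne] at h4
    have := hO2.coprime_dvd_left h4
    norm_num at this
  refine ⟨?_, Or.inr ⟨?_, hord⟩⟩
  · let ψ : MulAut O := MulAut.conjNormal (u ^ 2)
    have hfp : MonoidHom.FixedPointFree (ψ : O → O) := fun o ho => by
      refine Subtype.ext (hCO o o.2 ?_)
      have := congrArg Subtype.val ho
      simp only [ψ, MulAut.conjNormal_apply] at this
      exact (mul_inv_eq_iff_eq_mul.1 this).symm
    have hin : Function.Involutive (ψ : O → O) := fun o => by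
      apply Subtype.ext
      simp only [ψ, MulAut.conjNormal_apply]
      calc u ^ 2 * (u ^ 2 * (o : G) * (u ^ 2)⁻¹) * (u ^ 2)⁻¹
          = u ^ 2 * u ^ 2 * (o : G) * (u ^ 2 * u ^ 2)⁻¹ := by group
        _ = (o : G) := by rw [hzz, one_mul, inv_one, mul_one]
    exact ⟨⟨fun a b => (hfp.commute_all_of_involutive hin a b).eq⟩⟩
  · have hle : O ≤ K.comap (MonoidHom.id G) := fun x hx => hOK hx
    let p : G ⧸ O →* alternatingGroup (Fin 5) :=
      e5.toMonoidHom.comp (QuotientGroup.map O K (MonoidHom.id G) hle)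
    have hp : ∀ g : G, p (g : G ⧸ O) = e5 (π g) := fun g => rfl
    have hp1 : ∀ g : G, p (g : G ⧸ O) = 1 ↔ g ∈ K := fun g => by
      rw [hp, MulEquiv.map_eq_one_iff, hπk]
    refine sl25_of ?_ p (fun a => ?_) ((u ^ 2 : G) : G ⧸ O) ?_ ?_ ?_ ?_ ?_
    · have h1 := O.card_mul_index
      rw [Subgroup.index_eq_card, hGK, hKO] at h1
      exact Nat.eq_of_mul_eq_mul_left (Nat.card_pos (α := O)) (h1.trans (by ring))
    · obtain ⟨g, hg⟩ := hπs (e5.symm a)
      exact ⟨(g : G ⧸ O), by rw [hp, hg, MulEquiv.apply_symm_apply]⟩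
    · exact fun e => hzO ((QuotientGroup.eq_one_iff _).1 e)
    · rw [← QuotientGroup.mk_pow, pow_two, hzz]; rfl
    · intro y
      obtain ⟨g, rfl⟩ := QuotientGroup.mk'_surjective O y
      obtain ⟨x, hx⟩ := hqs (QuotientGroup.mk' O g)
      rw [← hx]
      show QuotientGroup.mk' O (x : G) * QuotientGroup.mk' O (u ^ 2) =
        QuotientGroup.mk' O (u ^ 2) * QuotientGroup.mk' O (x : G)
      rw [← map_mul, ← map_mul, Subgroup.mem_centralizer_singleton_iff.1 x.2]
    · intro y hy
      obtain ⟨g, rfl⟩ := QuotientGroup.mk'_surjective O y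
      rcases hcases g ((hp1 g).1 hy) with e | e
      · exact Or.inl ((QuotientGroup.eq_one_iff g).2 e)
      · refine Or.inr ((QuotientGroup.eq).2 ?_)
        have h1 : g⁻¹ * u ^ 2 = (u ^ 2 * g)⁻¹ := by
          rw [mul_inv_rev, inv_eq_of_mul_eq_one_right hzz]
        rw [h1]
        exact O.inv_mem e
    · intro y hy
      obtain ⟨g, rfl⟩ := QuotientGroup.mk'_surjective O y
      refine (hp1 g).2 ?_
      by_contra hgK
      have hg2 : g ^ 2 ∈ O := (QuotientGroup.eq_one_iff _).1 (by rw [QuotientGroup.mk_pow]; exact hy)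
      obtain ⟨a, ha⟩ := isConj_iff.1 (hinv' g (fun e => hgK ((hπk g).1 e))
        (by rw [← map_pow]; exact (hπk _).2 (hOK hg2)))
      rw [← ha, conj_pow] at hg2
      have h2 := hOn.conj_mem' _ hg2 a
      rw [show a⁻¹ * (a * u ^ 2 * a⁻¹) * a = u ^ 2 by group] at h2
      exact hzO h2

end Cfsg.Agent.S4758
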