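import Cfsg.Statements.S4759
import Cfsg.Agent.Lib.CharExtension
import Cfsg.Agent.Lib.ExtraTwoGlue62
import Cfsg.Agent.S0205

set_option autoImplicit false
open Cfsg
open Subgroup Cfsg.Agent.PGroupsExtraspecial Cfsg.Agent.FRLift62 Cfsg.Agent.CharExtension
open scoped commutatorElement

namespace Cfsg.Agent.S4759

/-- Let G be a finite group that is the semidirect product of a normal extraspecial 2-subgroup E and a complement H acting faithfully on E (no non-identity element of H centralizes E), and suppose H has a normal subgroup K of odd order with [E, K] = E. Then every faithful irreducible character θ of E (there is exactly one) extends to G: some irreducible character of G restricts to θ on E. -/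
theorem result {G : Type*} [Group G] [Finite G] (E H : Subgroup G) [E.Normal] (hE : Cfsg.IsExtraspecial 2 ↥E) (hEH : E ⊓ H = ⊥) (hEHtop : E ⊔ H = ⊤) (hfaith : ∀ h ∈ H, (∀ e ∈ E, h * e = e * h) → h = 1) (K : Subgroup G) (hKH : K ≤ H) (hKn : ∀ h ∈ H, ∀ k ∈ K, h * k * h⁻¹ ∈ K) (hKodd : Odd (Nat.card ↥K)) (hEK : ⁅E, K⁆ = E) (θ : Cfsg.IrrCharacter ↥E) (hθ : ∀ e : ↥E, (θ : ↥E → ℂ) e = (θ : ↥E → ℂ) 1 → e = 1) : ∃ χ : Cfsg.IrrCharacter G, ∀ e : ↥E, (χ : G → ℂ) e = (θ : ↥E → ℂ) e := by
  classical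
  haveI : Finite (MulAut E) := Finite.of_injective (fun φ : MulAut E => (φ : E → E))
    DFunLike.coe_injective
  obtain ⟨z, hz0, hzc⟩ := extraspecial_exists_z hE
  have hz : Piece z := ⟨hz0, extraspecial_commInto hE hzc ⊤, extraspecial_nondeg_top hzc⟩
  obtain ⟨d, σ, hσ, hch⟩ := θ.2
  haveI := hσ
  have hχz : σ.character z ≠ σ.character 1 := fun h => hz.z_ne_one (hθ z (by rw [← hch]; exact h))
  set ρ := hz.matRepOfIrr σ hχz with hρ
  set ψ : G →* MulAut E := MulAut.conjNormal with hψ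
  have hψval : ∀ (g : G) (e : E), ((ψ g e : E) : G) = g * e * g⁻¹ := fun g e =>
    MulAut.conjNormal_apply g e
  -- the group of automorphisms induced by `K` fixes only the centre
  have hfix : fixPts (K.map ψ) ≤ zpowers z := by
    intro a ha
    have h1 : ⁅E, K⁆ ≤ centralizer ({(a : G)} : Set G) := by
      refine commutator_le.2 fun x hx k hk => mem_centralizer_singleton_iff.2 ?_
      have h2 := hz.commute_displ (x := (⟨x, hx⟩ : E)⁻¹) (ha _ ⟨k, hk, rfl⟩)
      have h3 := congrArg (Subtype.val : E → G) h2.eq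
      simp only [Subgroup.coe_mul, inv_inv, hψval, Subgroup.coe_inv] at h3
      have h4 : ⁅x, k⁆ = x * (k * x⁻¹ * k⁻¹) := by rw [commutatorElement_def]; group
      rw [h4]
      exact h3.symm
    rw [hEK] at h1
    exact hz.mem_center_iff'.1 (mem_center_iff.2 fun g => Subtype.ext
      (mem_centralizer_singleton_iff.1 (h1 g.2)))
  haveI hKsol : Group.IsSolvable K := Cfsg.Agent.S0205.result hKodd
  have hKsol' : Group.IsSolvable (K.map ψ) :=
    Group.isSolvable_of_surjective (ψ.subgroupMap_surjective K)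
  have hKodd' : Odd (Nat.card (K.map ψ)) := hKodd.of_dvd_nat (card_map_dvd K ψ)
  -- the extension problem
  have hcn : ∀ (g : G) (n : E), cn g n = ψ g n := fun g n => Subtype.ext (hψval g n).symm
  have S : SchurData (msc (Fin d)) ρ.toHom := by
    refine ⟨fun a b hab => ?_, fun a u => msc_comm a u, fun u hu => ?_⟩
    · have h1 := congrArg (fun w : MU (Fin d) => (w : Matrix (Fin d) (Fin d) ℂ)) hab
      simp only [msc_val] at h1
      have h2 := congrFun (congrFun h1 ⟨0, by simpa using ρ.card_pos hz⟩)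
        ⟨0, by simpa using ρ.card_pos hz⟩
      exact Units.ext (by simpa using h2)
    · exact ρ.exists_msc_of_commute hz fun a => by rw [(hu a).eq, mul_inv_cancel_right]
  have hinv : ∀ g, ∃ u, CharExtension.Impl ρ.toHom u g := fun g => by
    obtain ⟨u, hu⟩ := ρ.exists_impl hz (ψ g)
    exact ⟨u, fun n => by rw [hcn]; exact hu n⟩
  -- a determinant character of the whole group
  obtain ⟨μ', hμ'N, -⟩ := exists_glue (N := E) (S := H) (P := ⊤) hEH le_top le_top hEHtop.ge
    ((detMU (Fin d)).comp ρ.toHom) (1 : H →* ℂˣ) (fun s n => by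
      obtain ⟨u, hu⟩ := ρ.exists_impl hz (ψ (s : G))
      have h1 := congrArg (detMU (Fin d)) (hu n)
      simp only [map_mul, map_inv, mul_inv_cancel_comm] at h1
      simp only [MonoidHom.one_apply, one_mul, inv_one, mul_one, MonoidHom.comp_apply]
      rw [h1]
      congr 2)
  let μ : G →* ℂˣ := μ'.comp Subgroup.topEquiv.symm.toMonoidHom
  have hμ : ∀ n : E, μ n = detMU (Fin d) (ρ.toHom n) := fun n => hμ'N n
  obtain ⟨T, hT⟩ := exists_section hinv
  choose root hroot using exists_pow_eq_units (n := d) (by simpa using ρ.card_pos hz)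
  let root' : ℂˣ → ℂˣ := fun a => if a = 1 then 1 else root a
  have hroot' : ∀ a, root' a ^ d = a := by
    intro a
    simp only [root']
    split
    · next ha => rw [ha, one_pow]
    · exact hroot a
  let T' : G → MU (Fin d) := fun g =>
    T g * msc (Fin d) (root' (μ g * (detMU (Fin d) (T g))⁻¹))
  have hT' : IsSection ρ.toHom T' := by
    refine ⟨fun g n => ?_, fun n => ?_, fun g => S.impl_mul_sc (hT.impl g) _⟩
    · simp only [T', hT.right, map_mul, hμ, S.comm_left (T g) (ρ.toHom n)]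
      congr 2
      congr 1
      simp [mul_comm, mul_assoc, mul_left_comm]
    · simp [T', hT.onN, hμ, root']
  have hdet : ∀ g, detMU (Fin d) (T' g) = μ g := by
    intro g
    simp only [T', map_mul, detMU_msc, Fintype.card_fin, hroot']
    rw [mul_comm (μ g), mul_inv_cancel_left]
  have hd : (d : ℤ) ∈ cobound S T' := by
    refine ⟨fun _ => 1, fun _ => rfl, fun g h a ha => ?_⟩
    have h1 : detMU (Fin d) (T' g) * detMU (Fin d) (T' h) =
        detMU (Fin d) (T' (g * h)) * detMU (Fin d) (msc (Fin d) a) := by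
      rw [← map_mul, ← map_mul, ha]
    rw [hdet, hdet, hdet, detMU_msc, Fintype.card_fin, ← map_mul, left_eq_mul] at h1
    simp [h1]
  -- a Sylow 2-subgroup of `H`
  haveI : Fact (Nat.Prime 2) := ⟨Nat.prime_two⟩
  obtain ⟨S₂⟩ : Nonempty (Sylow 2 H) := inferInstance
  set Q₀ : Subgroup G := (S₂ : Subgroup H).map H.subtype with hQ₀
  have hQ₀H : Q₀ ≤ H := map_subtype_le _
  have hQimg : IsPGroup 2 (Q₀.map ψ) := (S₂.2.map _).map _
  have hnorm : Norm' (K.map ψ) (Q₀.map ψ) := by
    rintro _ ⟨g, hg, rfl⟩ _ ⟨k, hk, rfl⟩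
    exact ⟨g * k * g⁻¹, hKn g (hQ₀H hg) k hk, by simp⟩
  obtain ⟨R, hR⟩ := (lift_main hz _ _ hKodd' hKsol' hfix hQimg hnorm).exists_hom hz ρ
  obtain ⟨η₂, hη₂, -⟩ := exists_glue (N := E) (S := Q₀) (P := E ⊔ Q₀)
    (le_bot_iff.1 ((inf_le_inf_left E hQ₀H).trans hEH.le)) le_sup_left le_sup_right le_rfl
    ρ.toHom (R.comp (ψ.subgroupMap Q₀)) (fun s n => by
      rw [MonoidHom.comp_apply, hR (ψ.subgroupMap Q₀ s) n]
      congr 1)
  have hi := index_mem_cobound S hT' (E ⊔ Q₀) le_sup_left η₂ hη₂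
  -- the index is odd and `d` is a power of two
  have hidx : ¬ 2 ∣ (E ⊔ Q₀).index := by
    intro h2
    refine S₂.not_dvd_index (h2.trans ?_)
    have hc : ∀ A : Subgroup G, A ≤ H → Nat.card ↥(E ⊔ A) = Nat.card E * Nat.card A := by
      intro A hA
      have h1 : (E.subgroupOf A) = ⊥ := by
        rw [subgroupOf_eq_bot]
        exact disjoint_iff.2 (le_bot_iff.1 ((inf_le_inf_left E hA).trans hEH.le))
      rw [← relIndex_bot_left (H := E ⊔ A), ← relIndex_mul_relIndex ⊥ E (E ⊔ A) bot_le le_sup_left,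
        relIndex_bot_left, sup_comm E A, relIndex_sup_right, relIndex, h1, index_bot]
    have h3 := (E ⊔ Q₀).card_mul_index
    rw [hc Q₀ hQ₀H, ← card_top (G := G), ← hEHtop, hc H le_rfl, mul_assoc] at h3
    have h4 := Nat.eq_of_mul_eq_mul_left Nat.card_pos h3
    rw [hQ₀, card_map_of_injective H.subtype_injective, ← (S₂ : Subgroup H).card_mul_index] at h4
    exact dvd_of_eq (Nat.eq_of_mul_eq_mul_left Nat.card_pos h4)
  obtain ⟨n, hn⟩ := ρ.dim_eq_two_pow hz
  have h1 : (1 : ℤ) ∈ cobound S T' := by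
    refine one_mem_of_forall_prime _ fun p hp => ?_
    by_cases hp2 : p = 2
    · refine ⟨_, hi, fun hdvd => hidx ?_⟩
      rw [← hp2]
      exact Int.natCast_dvd_natCast.1 hdvd
    · refine ⟨_, hd, fun hdvd => hp2 ?_⟩
      have h2 := Int.natCast_dvd_natCast.1 hdvd
      rw [hn] at h2
      exact (Nat.prime_dvd_prime_iff_eq hp Nat.prime_two).1 (hp.dvd_of_dvd_pow h2)
  obtain ⟨η, hη⟩ := exists_hom_of_one_mem S hT' h1
  -- back to endomorphisms
  let toEnd : MU (Fin d) →* GU' d :=
    Units.map (Matrix.toLinAlgEquiv' (R := ℂ) (n := Fin d)).toRingEquiv.toMonoidHom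
  have hback : toRep (toEnd.comp ρ.toHom) = σ := by
    refine MonoidHom.ext fun e => ?_
    show Matrix.toLinAlgEquiv' (LinearMap.toMatrixAlgEquiv' (σ e)) = σ e
    exact Matrix.toLinAlgEquiv'_toMatrixAlgEquiv' (σ e)
  obtain ⟨h2, h3⟩ := ext_to_char_top (N := E) (ρ := toEnd.comp ρ.toHom) (by rw [hback]; exact hσ)
    (toEnd.comp η) (fun e => by rw [MonoidHom.comp_apply, hη]; rfl)
  refine ⟨⟨_, h2⟩, fun e => (h3 e).trans ?_⟩
  rw [chr, hback, hch]

end Cfsg.Agent.S4759
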