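import Cfsg.Statements.S4762
import Cfsg.Agent.Lib.CharKernel
import Cfsg.Agent.Lib.CharProjDegree
import Cfsg.Agent.Lib.PGroupsBasic
import Cfsg.Agent.Lib.FrobeniusNilpotent

set_option autoImplicit false
open Cfsg

namespace Cfsg.Agent.S4762

open scoped ComplexConjugate commutatorElement
open Cfsg.Agent.CharBasic Cfsg.Agent.CharBasicOrth Cfsg.Agent.CharBasicDecomp
open Cfsg.Agent.CharBasicLinear Cfsg.Agent.CharAverage Cfsg.Agent.CharKernel

variable {G : Type*} [Group G] [Finite G]

/-- A nilpotent group with exactly one irreducible character of degree divisible by `p`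
is a `p`-group. -/
theorem isPGroup_of_one [Group.IsNilpotent G] (p : ℕ) [Fact p.Prime] (χ₀ : Cfsg.IrrCharacter G)
    (h₀ : p ∣ Cfsg.charDegree (χ₀ : G → ℂ))
    (huniq : ∀ χ : Cfsg.IrrCharacter G, p ∣ Cfsg.charDegree (χ : G → ℂ) → χ = χ₀) :
    IsPGroup p G := by
  classical
  have := Fintype.ofFinite G
  have hpP : p.Prime := Fact.out
  obtain ⟨P, Q, hQn, hQP⟩ : Cfsg.HasNormalPComplement p G :=
    Cfsg.Agent.FrobeniusNilpotent.hasNormalPComplement_of_isNilpotent
  have hPn : (P : Subgroup G).Normal := by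
    exact Sylow.normal_of_normalizerCondition Group.normalizerCondition_of_isNilpotent P
  have hQi : Q.index = Nat.card (P : Subgroup G) := hQP.symm.index_eq_card
  have hPi : (P : Subgroup G).index = Nat.card Q := hQP.index_eq_card
  obtain ⟨a, ha⟩ := IsPGroup.iff_card.1 P.2
  by_cases hQ : Q = ⊥
  · rw [hQ, Subgroup.card_bot] at hPi
    have htop := Subgroup.index_eq_one.1 hPi
    exact IsPGroup.of_card (n := a) (by rw [← ha, htop, Subgroup.card_top])
  exfalso
  -- the Sylow subgroup is not abelian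
  have hPna : ¬ ∀ x y : (P : Subgroup G), x * y = y * x := by
    intro hab
    obtain ⟨m, hm, hsum⟩ := exists_mult
      (isCharacter_comap (P : Subgroup G).subtype (irr_isCharacter χ₀))
    obtain ⟨θ, hθ⟩ : ∃ θ, m θ ≠ 0 := by
      by_contra hcon
      push Not at hcon
      have h2 := congrFun hsum 1
      simp [hcon] at h2
      exact irr_one_ne_zero χ₀ h2
    obtain ⟨k, d, hd, hk, hkdvd⟩ := Cfsg.Agent.CharProjDegree.degree_dvd (P : Subgroup G) χ₀.2 θ.2
      (by
        have h3 : (fun n : (P : Subgroup G) => (χ₀ : G → ℂ) n) =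
            (χ₀ : G → ℂ) ∘ (P : Subgroup G).subtype := rfl
        rw [h3, hm θ]; exact Nat.cast_ne_zero.2 hθ)
    have hd1 : d = 1 := by
      have := apply_one_eq_one_of_comm hab θ.2
      rw [hd] at this; exact_mod_cast this
    rw [irr_apply_one χ₀, hd1, one_mul, Nat.cast_inj] at hk
    exact P.not_dvd_index ((hk ▸ h₀).trans hkdvd)
  -- so `χ₀` is inflated from `G ⧸ Q`
  have hQker : ∀ n ∈ Q, (χ₀ : G → ℂ) n = (χ₀ : G → ℂ) 1 := by
    by_contra hcon
    refine hPna fun x y => ?_
    have hall : ∀ ψ : Cfsg.IrrCharacter (G ⧸ Q), (ψ : G ⧸ Q → ℂ) 1 = 1 := by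
      intro ψ
      have h1 : Cfsg.charDegree (ψ : G ⧸ Q → ℂ) ∣ p ^ a := by
        have := charDegree_dvd_card ψ
        rwa [← Subgroup.index_eq_card, hQi, ha] at this
      obtain ⟨j, -, hj⟩ := (Nat.dvd_prime_pow hpP).1 h1
      rcases Nat.eq_zero_or_pos j with rfl | hj0
      · rw [irr_apply_one ψ, hj, pow_zero, Nat.cast_one]
      · refine absurd ?_ hcon
        have h2 := huniq (quotEquiv Q ψ).1 (by
          rw [charDegree_quotEquiv, hj]; exact dvd_pow_self p hj0.ne')
        exact h2 ▸ (quotEquiv Q ψ).2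
    have h3 := comm_of_forall_apply_one hall ((x : G) : G ⧸ Q) ((y : G) : G ⧸ Q)
    rw [← QuotientGroup.mk_mul, ← QuotientGroup.mk_mul, QuotientGroup.eq] at h3
    have h4 : ((x : G) * y)⁻¹ * ((y : G) * x) ∈ (P : Subgroup G) :=
      mul_mem (inv_mem (mul_mem x.2 y.2)) (mul_mem y.2 x.2)
    have h5 := Subgroup.disjoint_def.1 hQP.disjoint h3 h4
    exact Subtype.ext (inv_mul_eq_one.1 h5)
  -- and is moved by a linear character trivial on `P`
  have hcomm : commutator (G ⧸ (P : Subgroup G)) ≠ ⊤ := by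
    have hnt : Nontrivial (G ⧸ (P : Subgroup G)) := Finite.one_lt_card_iff_nontrivial.1 (by
      rw [← Subgroup.index_eq_card, hPi]
      exact Subgroup.one_lt_card_iff_ne_bot _ |>.2 hQ)
    exact Group.IsSolvable.commutator_lt_top_of_nontrivial (G ⧸ (P : Subgroup G)) |>.ne
  obtain ⟨lam, hlam⟩ : ∃ lam : G ⧸ (P : Subgroup G) →* ℂˣ, lam ≠ 1 := by
    have : 1 < Nat.card (G ⧸ (P : Subgroup G) →* ℂˣ) := by
      rw [card_hom_units]; exact Subgroup.one_lt_index_of_ne_top hcomm
    have := Finite.one_lt_card_iff_nontrivial.1 this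
    exact exists_ne 1
  let mu : G →* ℂˣ := lam.comp (QuotientGroup.mk' (P : Subgroup G))
  refine hlam (MonoidHom.ext fun q => ?_)
  obtain ⟨g, rfl⟩ := QuotientGroup.mk'_surjective (P : Subgroup G) q
  have htw : (⟨_, isIrrCharacter_mul_linear χ₀.2 mu⟩ : Cfsg.IrrCharacter G) = χ₀ := by
    refine huniq _ ?_
    have : Cfsg.charDegree (fun g => (χ₀ : G → ℂ) g * (mu g : ℂ)) = Cfsg.charDegree (χ₀ : G → ℂ) := by
      simp [Cfsg.charDegree]
    rw [this]; exact h₀
  obtain ⟨⟨⟨n, hn⟩, ⟨k, hk⟩⟩, e, -⟩ := (Subgroup.isComplement_iff_existsUnique.1 hQP) g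
  have e' : n * k = g := e
  have h6 := congrArg (fun z : Cfsg.IrrCharacter G => (z : G → ℂ) n) htw
  simp only [hQker n hn] at h6
  have h7 : mu n = 1 := Units.ext (mul_left_cancel₀ (irr_one_ne_zero χ₀) (h6.trans (mul_one _).symm))
  have h8 : mu k = 1 := by
    show lam (QuotientGroup.mk' (P : Subgroup G) k) = 1
    rw [QuotientGroup.mk'_apply, (QuotientGroup.eq_one_iff k).2 hk, map_one]
  show mu g = 1
  rw [← e', map_mul, h7, h8, one_mul]

/-- The forward direction for a `p`-group. -/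
theorem extraspecial_of_one (p : ℕ) [Fact p.Prime] (hG : IsPGroup p G) (χ₀ : Cfsg.IrrCharacter G)
    (h₀ : p ∣ Cfsg.charDegree (χ₀ : G → ℂ))
    (huniq : ∀ χ : Cfsg.IrrCharacter G, p ∣ Cfsg.charDegree (χ : G → ℂ) → χ = χ₀) :
    p = 2 ∧ Cfsg.IsExtraspecial 2 G := by
  classical
  have := Fintype.ofFinite G
  have hpP : p.Prime := Fact.out
  obtain ⟨a, ha⟩ := IsPGroup.iff_card.1 hG
  have hlin : ∀ χ : Cfsg.IrrCharacter G, (χ : G → ℂ) 1 = 1 ↔ χ ≠ χ₀ := by
    intro χ
    constructor
    · intro h e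
      subst e
      rw [irr_apply_one χ, Nat.cast_eq_one] at h
      rw [h] at h₀
      exact hpP.not_dvd_one h₀
    · intro h
      obtain ⟨j, -, hj⟩ := (Nat.dvd_prime_pow hpP).1 (ha ▸ charDegree_dvd_card χ)
      rcases Nat.eq_zero_or_pos j with rfl | hj0
      · rw [irr_apply_one χ, hj, pow_zero, Nat.cast_one]
      · exact absurd (huniq χ (hj ▸ dvd_pow_self p hj0.ne')) h
  set d := Cfsg.charDegree (χ₀ : G → ℂ) with hd
  have hcard : Nat.card G = (commutator G).index + d ^ 2 := by
    rw [← sum_sq_charDegree, ← Finset.add_sum_erase _ _ (Finset.mem_univ χ₀), add_comm]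
    congr 1
    rw [← card_linear, Nat.card_eq_fintype_card, Fintype.card_subtype, Finset.sum_congr rfl
      (fun χ hχ => by
        rw [show Cfsg.charDegree (χ : G → ℂ) = 1 by
          have := (hlin χ).2 (Finset.mem_erase.1 hχ).1
          rw [irr_apply_one χ, Nat.cast_eq_one] at this; exact this, one_pow]),
      Finset.sum_const, smul_eq_mul, mul_one]
    congr 1
    ext χ
    simp [hlin]
  obtain ⟨b, hb, hd'⟩ := (Nat.dvd_prime_pow hpP).1 (ha ▸ charDegree_dvd_card χ₀)
  obtain ⟨c, hc, hC⟩ := (Nat.dvd_prime_pow hpP).1 (ha ▸ Subgroup.card_subgroup_dvd_card (commutator G))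
  have hmul := (commutator G).card_mul_index
  rw [hC, hcard, hd, hd'] at hmul
  set i := (commutator G).index with hi
  have hipos : 0 < i := Nat.pos_of_ne_zero Subgroup.index_ne_zero_of_finite
  have hc1 : p ^ c = 2 := by
    have h1 : (p ^ c - 1) * i = (p ^ b) ^ 2 := by
      rw [Nat.sub_mul, hmul]; omega
    have hc0 : c ≠ 0 := by
      intro e; subst e
      have : 0 < (p ^ b) ^ 2 := pow_pos (pow_pos hpP.pos _) _
      simp at h1
      omega
    have h2 : p ^ c - 1 ∣ p ^ (b * 2) := ⟨i, by rw [pow_mul, h1]⟩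
    obtain ⟨j, -, hj⟩ := (Nat.dvd_prime_pow hpP).1 h2
    rcases Nat.eq_zero_or_pos j with rfl | hj0
    · have : 1 ≤ p ^ c := Nat.one_le_pow _ _ hpP.pos
      rw [pow_zero] at hj; omega
    · have h3 : p ∣ p ^ c - 1 := hj ▸ dvd_pow_self p hj0.ne'
      have h4 : p ∣ p ^ c := dvd_pow_self p hc0
      have h5 := Nat.dvd_sub h4 h3
      rw [Nat.sub_sub_self (Nat.one_le_pow _ _ hpP.pos)] at h5
      exact absurd h5 hpP.not_dvd_one
  have hp2 : p = 2 := by
    have hc0 : c ≠ 0 := fun e => by rw [e, pow_zero] at hc1; omega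
    exact (Nat.prime_dvd_prime_iff_eq hpP Nat.prime_two).1 (hc1 ▸ dvd_pow_self p hc0)
  subst hp2
  have hC2 : Nat.card (commutator G) = 2 := by rw [hC, hc1]
  have hle1 : commutator G ≤ Subgroup.center G :=
    Cfsg.Agent.PGroupsBasic.le_center_of_card_eq_prime hG hC2
  have hle2 : Subgroup.center G ≤ commutator G := by
    intro z hz
    by_contra hzC
    obtain ⟨n, ρ, hi', hρ⟩ := χ₀.2
    have hne : (χ₀ : G → ℂ) z ≠ 0 := by
      intro h0
      have := (norm_eq_finrank_iff ρ z).2 (exists_scalar_of_mem_center ρ hz)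
      rw [hρ, h0, norm_zero] at this
      exact (finrank_pos_of_irreducible ρ).ne' (by exact_mod_cast this.symm)
    -- a linear character nontrivial at `z`
    obtain ⟨lam, hlam⟩ : ∃ lam : G →* ℂˣ, lam z ≠ 1 := by
      obtain ⟨f, hf⟩ := CommGroup.exists_apply_ne_one_of_hasEnoughRootsOfUnity (Abelianization G) ℂ
        (a := Abelianization.of z) (by
          intro e
          exact hzC (by rwa [← MonoidHom.mem_ker, Abelianization.ker_of] at e))
      exact ⟨f.comp Abelianization.of, hf⟩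
    refine hlam (Units.ext ?_)
    have htw : (⟨_, isIrrCharacter_mul_linear χ₀.2 lam⟩ : Cfsg.IrrCharacter G) = χ₀ := by
      refine huniq _ ?_
      have : Cfsg.charDegree (fun g => (χ₀ : G → ℂ) g * (lam g : ℂ)) = d := by
        simp [hd, Cfsg.charDegree]
      rw [this]; exact h₀
    have h6 := congrArg (fun x : Cfsg.IrrCharacter G => (x : G → ℂ) z) htw
    exact mul_left_cancel₀ hne (h6.trans (mul_one _).symm)
  have hZC : Subgroup.center G = commutator G := le_antisymm hle2 hle1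
  refine ⟨rfl, ⟨hG, le_antisymm ?_ ?_, hZC.symm⟩, by rw [hZC, hC2]⟩
  · refine Cfsg.Agent.PGroupsBasic.frattini_le_of_elementary_quotient (p := 2) hle1 fun x => ?_
    rw [Subgroup.mem_center_iff]
    intro g
    have h1 : ⁅x, g⁆ ∈ commutator G :=
      Subgroup.commutator_mem_commutator (Subgroup.mem_top _) (Subgroup.mem_top _)
    have h2 := Cfsg.Agent.PGroupsBasic.commutatorElement_pow_left (hle1 h1) 2
    rw [Cfsg.Agent.PGroupsBasic.pow_eq_one_of_card hC2 h1, commutatorElement_eq_one_iff_mul_comm] at h2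
    exact h2.symm
  · rw [hZC]; exact Cfsg.Agent.PGroupsBasic.commutator_le_frattini hG

/-- The converse. -/
theorem one_of_extraspecial (hG : Cfsg.IsExtraspecial 2 G) :
    Nat.card {χ : Cfsg.IrrCharacter G // 2 ∣ Cfsg.charDegree (χ : G → ℂ)} = 1 := by
  classical
  have := Fintype.ofFinite G
  obtain ⟨⟨hP, -, hC⟩, hZ⟩ := hG
  obtain ⟨a, ha⟩ := IsPGroup.iff_card.1 hP
  have hC2 : Nat.card (commutator G) = 2 := by rw [hC, hZ]
  have hlin : ∀ χ : Cfsg.IrrCharacter G, ¬ 2 ∣ Cfsg.charDegree (χ : G → ℂ) ↔ (χ : G → ℂ) 1 = 1 := by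
    intro χ
    rw [irr_apply_one χ, Nat.cast_eq_one]
    obtain ⟨j, -, hj⟩ := (Nat.dvd_prime_pow Nat.prime_two).1 (ha ▸ charDegree_dvd_card χ)
    rw [hj]
    rcases Nat.eq_zero_or_pos j with rfl | hj0
    · simp
    · exact ⟨fun h => absurd (dvd_pow_self 2 hj0.ne') h, fun h => by
        rw [h]; exact Nat.prime_two.not_dvd_one⟩
  have hsq : ∀ χ : Cfsg.IrrCharacter G, 2 ∣ Cfsg.charDegree (χ : G → ℂ) →
      2 * Cfsg.charDegree (χ : G → ℂ) ^ 2 = Nat.card G := by
    intro χ hχ
    obtain ⟨n, ρ, hi, hρ⟩ := χ.2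
    have hvan : ∀ g : G, g ∉ Subgroup.center G → (χ : G → ℂ) g = 0 := by
      intro g hg
      rw [Subgroup.mem_center_iff] at hg
      push Not at hg
      obtain ⟨h, hh⟩ := hg
      have hz : ⁅h, g⁆ ∈ Subgroup.center G := hC ▸
        Subgroup.commutator_mem_commutator (Subgroup.mem_top _) (Subgroup.mem_top _)
      have hz1 : ⁅h, g⁆ ≠ 1 := fun e => hh (commutatorElement_eq_one_iff_mul_comm.1 e)
      obtain ⟨c, hc⟩ := exists_scalar_of_mem_center ρ hz
      have h1 : h * g * h⁻¹ = ⁅h, g⁆ * g := by rw [commutatorElement_def]; group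
      have h2 : (χ : G → ℂ) g = c * (χ : G → ℂ) g := by
        conv_lhs => rw [← irr_conj_apply χ h g, h1]
        rw [← hρ]
        show LinearMap.trace ℂ _ (ρ (⁅h, g⁆ * g)) = c * LinearMap.trace ℂ _ (ρ g)
        rw [map_mul, hc, smul_mul_assoc, map_smul, smul_eq_mul]
        rfl
      by_contra hne
      have hc1 : c = 1 := mul_right_cancel₀ hne ((one_mul _).trans h2).symm
      -- then the kernel contains the commutator subgroup
      have hker : commutator G ≤ MonoidHom.ker ρ := by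
        intro x hx
        have hcyc : x ∈ Subgroup.zpowers ⁅h, g⁆ := by
          have : Subgroup.zpowers ⁅h, g⁆ = commutator G := by
            refine Subgroup.eq_of_le_of_card_ge (Subgroup.zpowers_le.2 ?_) ?_
            · exact Subgroup.commutator_mem_commutator (Subgroup.mem_top _) (Subgroup.mem_top _)
            · rw [hC2]
              exact Subgroup.one_lt_card_iff_ne_bot _ |>.2 (Subgroup.zpowers_ne_bot.2 hz1)
          rwa [this]
        refine Subgroup.zpowers_le.2 ?_ hcyc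
        rw [MonoidHom.mem_ker, hc, hc1, one_smul]; rfl
      obtain ⟨ψ, hψ⟩ := exists_quot_irr (commutator G) χ fun x hx => by
        rw [← hρ]
        show LinearMap.trace ℂ _ (ρ x) = LinearMap.trace ℂ _ (ρ 1)
        rw [MonoidHom.mem_ker.1 (hker hx), ρ.map_one]
      have h3 : (ψ : G ⧸ commutator G → ℂ) 1 = 1 := apply_one_eq_one_of_comm
        (fun a b => mul_comm (show Abelianization G from a) b) ψ.2
      exact (hlin χ).2 (by rw [hψ 1]; exact h3) hχ
    have h0 := card_mul_classInner (χ : G → ℂ) (χ : G → ℂ)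
    rw [classInner_irr_self χ.2, mul_one] at h0
    apply Nat.cast_injective (R := ℂ)
    rw [h0, ← Finset.sum_subset (Finset.subset_univ (Finset.univ.filter fun g : G =>
      g ∈ Subgroup.center G)) (fun g _ hg => by simp [hvan g (by simpa using hg)])]
    rw [Finset.sum_congr rfl fun g hg => by
      rw [Complex.mul_conj', show ‖(χ : G → ℂ) g‖ = (Cfsg.charDegree (χ : G → ℂ) : ℝ) from by
        rw [← hρ, (norm_eq_finrank_iff ρ g).2 (exists_scalar_of_mem_center ρ (Finset.mem_filter.1 hg).2)]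
        rw [show Cfsg.charDegree ρ.character = Module.finrank ℂ (Fin n → ℂ) by
          simp [Cfsg.charDegree]]]]
    rw [Finset.sum_const, ← Fintype.card_subtype, ← Nat.card_eq_fintype_card,
      show Nat.card {x : G // x ∈ Subgroup.center G} = 2 from hZ]
    push_cast; ring
  have hpart := sum_sq_charDegree (G := G)
  rw [← Finset.sum_filter_add_sum_filter_not Finset.univ
    (fun χ : Cfsg.IrrCharacter G => 2 ∣ Cfsg.charDegree (χ : G → ℂ))] at hpart
  have hN : ∑ χ ∈ Finset.univ.filter (fun χ : Cfsg.IrrCharacter G =>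
      ¬ 2 ∣ Cfsg.charDegree (χ : G → ℂ)), Cfsg.charDegree (χ : G → ℂ) ^ 2 = (commutator G).index := by
    rw [← card_linear, Nat.card_eq_fintype_card, Fintype.card_subtype, Finset.sum_congr rfl
      (fun χ hχ => by
        rw [show Cfsg.charDegree (χ : G → ℂ) = 1 by
          have := (hlin χ).1 (Finset.mem_filter.1 hχ).2
          rw [irr_apply_one χ, Nat.cast_eq_one] at this; exact this, one_pow]),
      Finset.sum_const, smul_eq_mul, mul_one]
    congr 1
    ext χ
    simp [hlin]
  rw [hN] at hpart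
  have h2 := congrArg (2 * ·) hpart
  simp only [mul_add, Finset.mul_sum] at h2
  rw [Finset.sum_congr rfl fun χ hχ => hsq χ (Finset.mem_filter.1 hχ).2, Finset.sum_const,
    smul_eq_mul] at h2
  rw [Nat.card_eq_fintype_card (α := {χ : Cfsg.IrrCharacter G // 2 ∣ Cfsg.charDegree (χ : G → ℂ)}),
    Fintype.card_subtype]
  have h3 := (commutator G).card_mul_index
  rw [hC2] at h3
  have hpos : 0 < Nat.card G := Nat.card_pos
  rw [h3] at h2
  nlinarith


/-- Let p be a prime and G a finite nilpotent group. Then G has exactly one irreducible complex character of degree divisible by p if and only if p = 2 and G is an extraspecial 2-group. -/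
theorem result {G : Type*} [Group G] [Finite G] [Group.IsNilpotent G] (p : ℕ) [Fact p.Prime] : Nat.card {χ : Cfsg.IrrCharacter G // p ∣ Cfsg.charDegree (χ : G → ℂ)} = 1 ↔ (p = 2 ∧ Cfsg.IsExtraspecial 2 G) := by
  constructor
  · intro h
    obtain ⟨hs, ⟨⟨χ₀, h₀⟩⟩⟩ := Nat.card_eq_one_iff_unique.1 h
    have huniq : ∀ χ : Cfsg.IrrCharacter G, p ∣ Cfsg.charDegree (χ : G → ℂ) → χ = χ₀ :=
      fun χ hχ => congrArg Subtype.val (hs.elim ⟨χ, hχ⟩ ⟨χ₀, h₀⟩)
    exact extraspecial_of_one p (isPGroup_of_one p χ₀ h₀ huniq) χ₀ h₀ huniq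
  · rintro ⟨rfl, hG⟩
    exact one_of_extraspecial hG

end Cfsg.Agent.S4762
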