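import Cfsg.Statements.S4763
import Cfsg.Agent.S4452
import Cfsg.Agent.Lib.CharInducedCorr
import Cfsg.Agent.Lib.CharBasicLinear
import Cfsg.Agent.Lib.BrauerBlocksCentral

set_option autoImplicit false
open Cfsg

namespace Cfsg.Agent.S4763

open Cfsg.Agent.CharBasic Cfsg.Agent.CharBasicOrth Cfsg.Agent.CharBasicDecomp
  Cfsg.Agent.CharBasicLinear
  Cfsg.Agent.CharInduced Cfsg.Agent.GlaubermanCount

universe u

variable {G : Type u} [Group G] [Finite G] {p : ℕ} [hp : Fact p.Prime]

theorem charDegree_of_eq {χ : G → ℂ} {n : ℕ} (h : χ 1 = n) : Cfsg.charDegree χ = n := by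
  rw [Cfsg.charDegree, h, Complex.natCast_re, Nat.floor_natCast]

/-- If some nonlinear character exists on the complement and it is the only one of degree
divisible by `p`, the kernel is trivial. -/
theorem kernel_eq_bot (N : Subgroup G) [N.Normal] (k : ℕ) (hidx : N.index = p ^ k)
    {β : G → ℂ} (hβ : Cfsg.IsIrrCharacter G β) (hβN : ∀ n : N, β n = β 1)
    (hβp : p ∣ Cfsg.charDegree β)
    (huniq : ∀ χ : G → ℂ, Cfsg.IsIrrCharacter G χ → p ∣ Cfsg.charDegree χ → χ = β) :
    N = ⊥ := by
  classical
  have : Fintype G := Fintype.ofFinite G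
  have : Fintype N := Fintype.ofFinite N
  have key : ∀ θ : Cfsg.IrrCharacter N, (θ : N → ℂ) = fun _ => 1 := by
    intro θ
    by_contra hθ1
    have hover : ∀ χ : G → ℂ, Cfsg.IsIrrCharacter G χ →
        classInner (fun n : N => χ n) (θ : N → ℂ) ≠ 0 → ¬ p ∣ Cfsg.charDegree χ := by
      intro χ hχ hne hdiv
      rw [huniq χ hχ hdiv] at hne
      apply hne
      have e : (fun n : N => β n) = (β 1) • (fun _ : N => (1 : ℂ)) := by
        funext n; simp [hβN n]
      rw [e, CharBasicOrth.classInner_smul_left,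
        classInner_irr_ne isIrrCharacter_one θ.2 (fun e => hθ1 e.symm), mul_zero]
    have hindne : indFun N (θ : N → ℂ) ≠ 0 := by
      intro h0
      have h1 := congrFun h0 1
      rw [CharInduced.ind_one_apply, Pi.zero_apply, mul_eq_zero] at h1
      rcases h1 with h1 | h1
      · exact Subgroup.index_ne_zero_of_finite (Nat.cast_eq_zero.1 h1)
      · exact isIrrCharacter_apply_one_ne_zero θ.2 h1
    obtain ⟨χ, hχ, hne0⟩ := exists_constituent
      (isCharacter_ind N (isCharacter_of_isIrrCharacter θ.2)) hindne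
    have hne : classInner (fun n : N => χ n) (θ : N → ℂ) ≠ 0 := by
      rw [inner_ind_left N _ (isClassFunction_irr hχ), ← CharInduced.inner_conj_symm,
        map_ne_zero] at hne0
      exact hne0
    have hc := isCharacter_res N (isCharacter_of_isIrrCharacter hχ)
    obtain ⟨c, d, hd, hcd, hdvd⟩ := CharProjDegree.degree_dvd N hχ θ.2 hne
    have hnd := hover χ hχ hne
    rw [charDegree_of_eq hcd] at hnd
    have hc1 : c = 1 := by
      rw [hidx] at hdvd
      obtain ⟨i, -, hi⟩ := (Nat.dvd_prime_pow hp.out).1 hdvd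
      rcases Nat.eq_zero_or_pos i with rfl | hi0
      · simpa using hi
      · exact absurd (Dvd.dvd.mul_left (hi ▸ dvd_pow_self p hi0.ne') d) hnd
    have heq := CharCliffordCorr.eq_of_constituent hc θ.2 hne
      (by simp [OneMemClass.coe_one, hcd, hd, hc1])
    have hext : ∀ n : N, χ n = (θ : N → ℂ) n := fun n => congrFun heq n
    have hb := CharGallagher.bijOn_one N θ.2 hχ hext
    obtain ⟨hprod, hprodne⟩ := hb.mapsTo ⟨hβ, hβN⟩
    obtain ⟨b, -, hb1, -⟩ := CharBasicInt.exists_apply_one_dvd_card hβ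
    refine hover _ hprod hprodne ?_
    rw [charDegree_of_eq (n := b * (d * c)) (by
      show β 1 * χ 1 = _
      rw [hb1, hcd]; push_cast; ring)]
    rw [charDegree_of_eq hb1] at hβp
    exact hβp.mul_right _
  refine (Subgroup.eq_bot_iff_forall _).2 fun n hn => ?_
  have : IsConj (⟨n, hn⟩ : N) 1 := (isConj_iff_forall_irr _ _).2 fun θ => by rw [key θ]
  simpa using congrArg Subtype.val (isConj_one_left.1 this)

/-- Let p be a prime and G a finite group that is not nilpotent and has a normal p-complement (a normal subgroup of order prime to p and index a power of p). If G has exactly one irreducible complex character of degree divisible by p, then G has exactly one conjugacy class whose size is divisible by p. -/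
theorem result {G : Type*} [Group G] [Finite G] (p : ℕ) [Fact p.Prime] (hnil : ¬ Group.IsNilpotent G) (N : Subgroup G) [N.Normal] (hN : (Nat.card N).Coprime p) (hidx : ∃ k : ℕ, N.index = p ^ k) (hone : Nat.card {χ : Cfsg.IrrCharacter G // p ∣ Cfsg.charDegree (χ : G → ℂ)} = 1) : Nat.card {C : ConjClasses G // p ∣ Nat.card C.carrier} = 1 := by
  classical
  have hp : p.Prime := Fact.out
  obtain ⟨k, hk⟩ := hidx
  obtain ⟨P⟩ := (inferInstance : Nonempty (Sylow p G))
  set H : Subgroup G := (P : Subgroup G) with hHdef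
  -- P is a complement
  have hcardG : Nat.card G = Nat.card N * p ^ k := by rw [← hk, N.card_mul_index]
  have hnp : ¬ p ∣ Nat.card N := fun h => hp.not_dvd_one (hN ▸ Nat.dvd_gcd h dvd_rfl)
  have hcardH : Nat.card H = p ^ k := by
    rw [hHdef, P.card_eq_multiplicity, hcardG, Nat.factorization_mul Nat.card_pos.ne'
      (pow_pos hp.pos k).ne', Finsupp.add_apply, Nat.factorization_eq_zero_of_not_dvd hnp,
      hp.factorization_pow, Finsupp.single_eq_same, zero_add]
  have hcop : (Nat.card N).Coprime (Nat.card H) := by rw [hcardH]; exact hN.pow_right k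
  have hdisj : N ⊓ H = ⊥ := (Subgroup.disjoint_of_coprime_natCard hcop).eq_bot
  have hcompl : Subgroup.IsComplement' N H :=
    Subgroup.isComplement'_of_card_mul_and_disjoint (by rw [hcardH, ← hcardG])
      (disjoint_iff.2 hdisj)
  have hNH : N ⊔ H = ⊤ := hcompl.sup_eq_top
  let π : G →* H := hcompl.symm.QuotientMulEquiv.toMonoidHom.comp (QuotientGroup.mk' N)
  have hπN : ∀ n : G, n ∈ N → π n = 1 := fun n hn => by
    show hcompl.symm.QuotientMulEquiv (QuotientGroup.mk' N n) = 1
    rw [QuotientGroup.mk'_apply, (QuotientGroup.eq_one_iff _).2 hn, map_one]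
  have hπH : ∀ z : H, π z = z := fun z => by
    show hcompl.symm.QuotientMulEquiv ((z : G) : G ⧸ N) = z
    rw [← MulEquiv.eq_symm_apply]
    rfl
  have hπs : Function.Surjective π := fun z => ⟨z, hπH z⟩
  -- the unique character
  obtain ⟨hsub, ⟨⟨χ₀, hχ₀⟩⟩⟩ := Nat.card_eq_one_iff_unique.1 hone
  have hk0 : k ≠ 0 := by
    rintro rfl
    obtain ⟨n, -, hn, hdvd⟩ := CharBasicInt.exists_apply_one_dvd_card χ₀.2
    rw [charDegree_of_eq hn] at hχ₀
    rw [hcardG, pow_zero, mul_one] at hdvd
    exact hnp (hχ₀.trans hdvd)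
  -- P is abelian
  have hab : ∀ a b : H, a * b = b * a := by
    intro a b
    by_contra hab
    obtain ⟨ψ, hψ⟩ : ∃ ψ : Cfsg.IrrCharacter H, (ψ : H → ℂ) 1 ≠ 1 := by
      by_contra hc
      push Not at hc
      apply hab
      have : IsConj (a * b * a⁻¹ * b⁻¹) 1 := (isConj_iff_forall_irr _ _).2 fun ψ => by
        obtain ⟨μ, hμ⟩ := exists_hom_of_apply_one_eq_one
          (isCharacter_of_isIrrCharacter ψ.2) (hc ψ)
        rw [hμ]
        show ((μ _ : ℂˣ) : ℂ) = μ 1
        congr 1
        simp [map_mul, mul_comm, mul_assoc, mul_left_comm]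
      have h1 := isConj_one_left.1 this
      calc a * b = (a * b * a⁻¹ * b⁻¹) * (b * a) := by group
        _ = b * a := by rw [h1, one_mul]
    have hβ := isIrrCharacter_comap π hπs ψ.2
    obtain ⟨d, hd0, hd, hdvd⟩ := CharBasicInt.exists_apply_one_dvd_card ψ.2
    have hpd : p ∣ d := by
      rw [hcardH] at hdvd
      obtain ⟨i, -, hi⟩ := (Nat.dvd_prime_pow hp).1 hdvd
      rcases Nat.eq_zero_or_pos i with rfl | hi0
      · exact absurd (by rw [hd, hi, pow_zero, Nat.cast_one]) hψ
      · exact hi ▸ dvd_pow_self p hi0.ne'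
    have hb1 : ((ψ : H → ℂ) ∘ π) 1 = (d : ℂ) := by simp [hd]
    have hbot : N = ⊥ := kernel_eq_bot N k hk (β := (ψ : H → ℂ) ∘ π) hβ
      (fun n => by simp [hπN n n.2])
      (by rw [charDegree_of_eq hb1]; exact hpd)
      (fun χ hχ hdiv => congrArg (fun x : {χ : Cfsg.IrrCharacter G // p ∣ Cfsg.charDegree (χ : G → ℂ)} =>
        ((x.1 : Cfsg.IrrCharacter G) : G → ℂ))
        (hsub.allEq ⟨⟨χ, hχ⟩, hdiv⟩ ⟨⟨_, hβ⟩, by rw [charDegree_of_eq hb1]; exact hpd⟩))
    apply hnil
    refine IsPGroup.isNilpotent (p := p) (IsPGroup.of_card (n := k) ?_)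
    rw [hcardG, hbot, Subgroup.card_bot, one_mul]
  -- count characters
  have hHsol : Group.IsSolvable H := by
    letI : CommGroup H := { (inferInstance : Group H) with mul_comm := hab }
    exact inferInstance
  have e1 : Nat.card {χ : Cfsg.IrrCharacter G // ¬ p ∣ Cfsg.charDegree (χ : G → ℂ)} =
      Nat.card (ConjClasses (fixSub (S4452.conjHom N H) ⊤)) * Nat.card H := by
    rw [← S4452.card_invClass_top _ le_rfl hHsol _ hcop, ← card_inv_eq hHsol _ hcop]
    have hHom : Nat.card (H →* ℂˣ) = Nat.card H := by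
      letI : CommGroup H := { (inferInstance : Group H) with mul_comm := hab }
      exact CommGroup.card_monoidHom_of_hasEnoughRootsOfUnity H ℂ
    conv_rhs => rw [← hHom]
    rw [← S4452.coprime_degree_count N H hNH hcop]
    refine Nat.card_congr (Equiv.subtypeEquivRight fun χ => ?_)
    rw [hcardH]
    constructor
    · intro h
      exact ((hp.coprime_iff_not_dvd.2 h).symm).pow_right k
    · intro h hdiv
      exact hp.not_dvd_one (h ▸ Nat.dvd_gcd hdiv (dvd_pow_self p hk0))
  -- count classes
  have e2 : Nat.card {C : ConjClasses G // ¬ p ∣ Nat.card C.carrier} =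
      Nat.card (ConjClasses (fixSub (S4452.conjHom N H) ⊤)) * Nat.card H := by
    rw [← Nat.card_prod]
    have hfix : ∀ (c : fixSub (S4452.conjHom N H) ⊤) (z : H),
        (z : G) * ((c : N) : G) = ((c : N) : G) * z := fun c z => by
      have h1 := congrArg (fun y : N => (y : G)) (c.2 z (Subgroup.mem_top _))
      simp only [S4452.conjHom_apply] at h1
      exact mul_inv_eq_iff_eq_mul.1 h1
    let f0 : fixSub (S4452.conjHom N H) ⊤ → H → ConjClasses G :=
      fun c z => ConjClasses.mk (((c : N) : G) * z)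
    have hcarrier : ∀ g : G, Nat.card (ConjClasses.mk g).carrier =
        (Subgroup.centralizer ({g} : Set G)).index := fun g => by
      rw [← BrauerBlocksCentral.ncard_carrier g, Nat.card_coe_set_eq]
    have hmk : ∀ c z, ¬ p ∣ Nat.card (f0 c z).carrier := by
      intro c z
      rw [hcarrier]
      have hle : H ≤ Subgroup.centralizer ({((c : N) : G) * z} : Set G) := by
        intro y hy
        refine Subgroup.mem_centralizer_singleton_iff.2 ?_
        have h1 := hfix c ⟨y, hy⟩
        have h2 : y * (z : G) = z * y := congrArg Subtype.val (hab ⟨y, hy⟩ z)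
        calc y * (((c : N) : G) * z) = y * ((c : N) : G) * z := (mul_assoc ..).symm
          _ = ((c : N) : G) * (y * z) := by rw [h1, mul_assoc]
          _ = ((c : N) : G) * z * y := by rw [h2, mul_assoc]
      exact fun h => P.not_dvd_index (h.trans (Subgroup.index_dvd_of_le hle))
    let F : ConjClasses (fixSub (S4452.conjHom N H) ⊤) × H →
        {C : ConjClasses G // ¬ p ∣ Nat.card C.carrier} := fun x =>
      Quotient.liftOn x.1 (fun c => ⟨f0 c x.2, hmk c x.2⟩) (by
        intro c c' hcc
        obtain ⟨m, hm⟩ := isConj_iff.1 (show IsConj c c' from hcc)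
        refine Subtype.ext (ConjClasses.mk_eq_mk_iff_isConj.2 (isConj_iff.2 ⟨((m : N) : G), ?_⟩))
        have hm' : ((m : N) : G) * ((c : N) : G) * (((m : N) : G))⁻¹ = ((c' : N) : G) := by
          rw [← hm]; simp
        calc ((m : N) : G) * (((c : N) : G) * x.2) * (((m : N) : G))⁻¹
            = ((m : N) : G) * ((c : N) : G) * ((x.2 : G) * (((m : N) : G))⁻¹) := by group
          _ = ((m : N) : G) * ((c : N) : G) * ((((m : N) : G))⁻¹ * x.2) := by
              rw [show (x.2 : G) * (((m : N) : G))⁻¹ = (((m : N) : G))⁻¹ * x.2 from by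
                have := hfix m⁻¹ x.2
                simpa using this]
          _ = _ := by rw [← mul_assoc, hm'])
    have hF : ∀ c z, F (ConjClasses.mk c, z) = ⟨f0 c z, hmk c z⟩ := fun _ _ => rfl
    refine (Nat.card_congr (Equiv.ofBijective F ⟨?_, ?_⟩)).symm
    · rintro ⟨K, z⟩ ⟨K', z'⟩ h
      obtain ⟨c, rfl⟩ := ConjClasses.mk_surjective K
      obtain ⟨c', rfl⟩ := ConjClasses.mk_surjective K'
      rw [hF, hF] at h
      obtain ⟨g, hg⟩ := isConj_iff.1 (ConjClasses.mk_eq_mk_iff_isConj.1 (congrArg Subtype.val h))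
      have hzz : z = z' := by
        have := congrArg π hg
        simp only [map_mul, map_inv, hπN _ ((c : N)).2, hπN _ ((c' : N)).2, one_mul, hπH] at this
        rw [hab (π g) z, mul_inv_cancel_right] at this
        exact this
      subst hzz
      -- g = m h
      obtain ⟨m₀, hm₀, h₀, hh₀, rfl⟩ := Subgroup.mem_sup_of_normal_left.1
        (show g ∈ N ⊔ H by rw [hNH]; trivial)
      have hh : h₀ * (((c : N) : G) * z) * h₀⁻¹ = ((c : N) : G) * z := by
        have h1 : h₀ * ((c : N) : G) = ((c : N) : G) * h₀ := hfix c ⟨h₀, hh₀⟩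
        have h2 : h₀ * (z : G) = z * h₀ := congrArg Subtype.val (hab ⟨h₀, hh₀⟩ z)
        rw [← mul_assoc, h1, mul_assoc _ h₀, h2]
        group
      have hg' : m₀ * (((c : N) : G) * z) * m₀⁻¹ = ((c' : N) : G) * z := by
        rw [← hg]
        conv_lhs => rw [← hh]
        group
      -- p'-part and p-part
      have hop : ∀ y : H, ∃ j : ℕ, orderOf ((y : G)) = p ^ j := fun y => by
        obtain ⟨j, hj⟩ := IsPGroup.iff_orderOf.1 P.isPGroup' y
        exact ⟨j, by rw [Subgroup.orderOf_coe]; exact hj⟩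
      have hon : ∀ y : fixSub (S4452.conjHom N H) ⊤, (orderOf ((y : N) : G)).Coprime (Nat.card H) :=
        fun y => by
          rw [Subgroup.orderOf_coe]
          exact hcop.coprime_dvd_left (orderOf_dvd_natCard _)
      have hcn : m₀ * ((c : N) : G) * m₀⁻¹ = ((c' : N) : G) := by
        obtain ⟨e, he1, he2⟩ : ∃ e : ℕ, (∀ y : fixSub (S4452.conjHom N H) ⊤,
            ((y : N) : G) ^ e = ((y : N) : G)) ∧ ∀ y : H, (y : G) ^ e = 1 := by
          obtain ⟨e, he⟩ := Nat.chineseRemainder hcop 1 0
          refine ⟨e, fun y => ?_, fun y => ?_⟩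
          · have h1 : orderOf ((y : N) : G) ∣ Nat.card N := by
              rw [Subgroup.orderOf_coe]; exact orderOf_dvd_natCard _
            calc ((y : N) : G) ^ e = ((y : N) : G) ^ 1 :=
                  pow_eq_pow_iff_modEq.2 (he.1.of_dvd h1)
              _ = _ := pow_one _
          · have h1 : orderOf (y : G) ∣ Nat.card H := by
              rw [Subgroup.orderOf_coe]; exact orderOf_dvd_natCard _
            calc (y : G) ^ e = (y : G) ^ 0 := pow_eq_pow_iff_modEq.2 (he.2.of_dvd h1)
              _ = _ := pow_zero _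
        have := congrArg (fun x : G => x ^ e) hg'
        simp only [conj_pow] at this
        rw [Commute.mul_pow (show Commute ((c : N) : G) (z : G) from (hfix c z).symm),
          Commute.mul_pow (show Commute ((c' : N) : G) (z : G) from (hfix c' z).symm),
          he1, he1, he2, mul_one, mul_one] at this
        exact this
      -- conjugate the Sylow back
      have hle : H ≤ Subgroup.centralizer ({((c' : N) : G)} : Set G) := fun y hy =>
        Subgroup.mem_centralizer_singleton_iff.2 (hfix c' ⟨y, hy⟩)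
      have hle' : (m₀ • P : Sylow p G).toSubgroup ≤
          Subgroup.centralizer ({((c' : N) : G)} : Set G) := by
        intro y hy
        rw [Sylow.smul_def] at hy
        obtain ⟨y₀, hy₀, rfl⟩ := hy
        refine Subgroup.mem_centralizer_singleton_iff.2 ?_
        show m₀ * y₀ * m₀⁻¹ * _ = _ * (m₀ * y₀ * m₀⁻¹)
        rw [← hcn]
        have h1 : y₀ * ((c : N) : G) = ((c : N) : G) * y₀ := hfix c ⟨y₀, hy₀⟩
        calc m₀ * y₀ * m₀⁻¹ * (m₀ * ((c : N) : G) * m₀⁻¹)
            = m₀ * (y₀ * ((c : N) : G)) * m₀⁻¹ := by group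
          _ = m₀ * (((c : N) : G) * y₀) * m₀⁻¹ := by rw [h1]
          _ = _ := by group
      obtain ⟨cc, hcc⟩ := MulAction.exists_smul_eq (Subgroup.centralizer ({((c' : N) : G)} : Set G))
        ((m₀ • P).subtype hle') (P.subtype hle)
      rw [Sylow.smul_subtype hle' cc] at hcc
      have hcc1 := Sylow.subtype_injective hcc
      have hnorm : ((cc : G) * m₀) • P = P := by
        rw [mul_smul]; exact hcc1
      obtain ⟨m₁, hm₁, h₁, hh₁, he⟩ := Subgroup.mem_sup_of_normal_left.1
        (show (cc : G) * m₀ ∈ N ⊔ H by rw [hNH]; trivial)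
      have hm₁norm : m₁ ∈ Subgroup.normalizer (H : Set G) := by
        have h1 : (cc : G) * m₀ ∈ Subgroup.normalizer (H : Set G) :=
          Sylow.smul_eq_iff_mem_normalizer.1 hnorm
        have : m₁ = (cc : G) * m₀ * h₁⁻¹ := by rw [← he, mul_inv_cancel_right]
        rw [this]
        exact mul_mem h1 (inv_mem (Subgroup.le_normalizer hh₁))
      have hm₁fix : (⟨m₁, hm₁⟩ : N) ∈ fixSub (S4452.conjHom N H) ⊤ := by
        intro t _
        refine Subtype.ext ?_
        rw [S4452.conjHom_apply]
        show (t : G) * m₁ * (t : G)⁻¹ = m₁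
        have hmem : (t : G) * m₁ * (t : G)⁻¹ * m₁⁻¹ ∈ N ⊓ H := by
          refine ⟨N.mul_mem ((inferInstance : N.Normal).conj_mem _ hm₁ _) (N.inv_mem hm₁), ?_⟩
          have h2 : m₁ * (t : G)⁻¹ * m₁⁻¹ ∈ H :=
            (Subgroup.mem_normalizer_iff.1 hm₁norm _).1 (inv_mem t.2)
          simpa [mul_assoc] using H.mul_mem t.2 h2
        rw [hdisj, Subgroup.mem_bot, mul_inv_eq_one] at hmem
        exact hmem
      refine Prod.ext ?_ rfl
      refine ConjClasses.mk_eq_mk_iff_isConj.2 (isConj_iff.2 ⟨⟨⟨m₁, hm₁⟩, hm₁fix⟩, ?_⟩)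
      refine Subtype.ext (Subtype.ext ?_)
      show m₁ * ((c : N) : G) * m₁⁻¹ = ((c' : N) : G)
      have hh1 : h₁ * ((c : N) : G) = ((c : N) : G) * h₁ := hfix c ⟨h₁, hh₁⟩
      have hcc' : (cc : G) * ((c' : N) : G) = ((c' : N) : G) * cc :=
        Subgroup.mem_centralizer_singleton_iff.1 cc.2
      calc m₁ * ((c : N) : G) * m₁⁻¹ = (m₁ * h₁) * ((c : N) : G) * (m₁ * h₁)⁻¹ := by
            rw [mul_assoc m₁ h₁, hh1]; group
        _ = (cc : G) * (m₀ * ((c : N) : G) * m₀⁻¹) * (cc : G)⁻¹ := by rw [he]; group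
        _ = _ := by rw [hcn, hcc', mul_inv_cancel_right]
    · rintro ⟨C, hC⟩
      obtain ⟨x, rfl⟩ := ConjClasses.mk_surjective C
      rw [hcarrier] at hC
      obtain ⟨Q⟩ := (inferInstance : Nonempty (Sylow p (Subgroup.centralizer ({x} : Set G))))
      obtain ⟨R, hR⟩ := Q.exists_comap_subtype_eq
      have hcardQ : Nat.card Q = Nat.card R := by
        rw [Q.card_eq_multiplicity, R.card_eq_multiplicity]
        have := (Subgroup.centralizer ({x} : Set G)).card_mul_index
        rw [← this, Nat.factorization_mul Nat.card_pos.ne' Subgroup.index_ne_zero_of_finite,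
          Finsupp.add_apply, Nat.factorization_eq_zero_of_not_dvd hC, add_zero]
      have hRle : (R : Subgroup G) ≤ Subgroup.centralizer ({x} : Set G) := by
        have h1 : Q.toSubgroup.map (Subgroup.subtype _) ≤ R.toSubgroup := by
          rw [← hR]; exact Subgroup.map_comap_le _ _
        have h2 := Subgroup.eq_of_le_of_card_ge h1 (by
          rw [Subgroup.card_map_of_injective Subtype.val_injective]
          exact hcardQ.ge)
        rw [← h2]
        exact Subgroup.map_subtype_le _
      obtain ⟨g, hg⟩ := MulAction.exists_smul_eq G R P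
      set y := g * x * g⁻¹ with hy
      have hHy : ∀ t ∈ H, t * y = y * t := by
        intro t ht
        have : g⁻¹ * t * g ∈ (R : Subgroup G) := by
          rw [hHdef, ← hg, Sylow.coe_subgroup_smul] at ht
          obtain ⟨r, hr, rfl⟩ := ht
          simp [mul_assoc]
          exact hr
        have h1 := Subgroup.mem_centralizer_singleton_iff.1 (hRle this)
        calc t * y = g * ((g⁻¹ * t * g) * x) * g⁻¹ := by rw [hy]; group
          _ = g * (x * (g⁻¹ * t * g)) * g⁻¹ := by rw [h1]
          _ = y * t := by rw [hy]; group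
      obtain ⟨n, hn, z, hz, hnz⟩ := Subgroup.mem_sup_of_normal_left.1
        (show y ∈ N ⊔ H by rw [hNH]; trivial)
      have hnfix : (⟨n, hn⟩ : N) ∈ fixSub (S4452.conjHom N H) ⊤ := by
        intro t _
        refine Subtype.ext ?_
        rw [S4452.conjHom_apply]
        show (t : G) * n * (t : G)⁻¹ = n
        rw [mul_inv_eq_iff_eq_mul]
        have h1 := hHy t t.2
        have h2 : (t : G) * z = z * t := congrArg Subtype.val (hab t ⟨z, hz⟩)
        rw [← hnz, ← mul_assoc, mul_assoc n z, ← h2, ← mul_assoc] at h1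
        exact mul_right_cancel h1
      refine ⟨(ConjClasses.mk ⟨⟨n, hn⟩, hnfix⟩, ⟨z, hz⟩), ?_⟩
      rw [hF]
      refine Subtype.ext ?_
      show ConjClasses.mk (n * z) = ConjClasses.mk x
      exact (ConjClasses.mk_eq_mk_iff_isConj.2 (isConj_iff.2 ⟨g, by rw [hnz]⟩)).symm
  -- conclusion
  have t1 : Nat.card {χ : Cfsg.IrrCharacter G // p ∣ Cfsg.charDegree (χ : G → ℂ)} +
      Nat.card {χ : Cfsg.IrrCharacter G // ¬ p ∣ Cfsg.charDegree (χ : G → ℂ)} =
      Nat.card (Cfsg.IrrCharacter G) := by
    rw [← Nat.card_sum]; exact Nat.card_congr (Equiv.sumCompl _)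
  have t2 : Nat.card {C : ConjClasses G // p ∣ Nat.card C.carrier} +
      Nat.card {C : ConjClasses G // ¬ p ∣ Nat.card C.carrier} =
      Nat.card (ConjClasses G) := by
    rw [← Nat.card_sum]; exact Nat.card_congr (Equiv.sumCompl _)
  have := card_irrCharacter (G := G)
  omega

end Cfsg.Agent.S4763
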