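import Cfsg.Statements.S4768
import Cfsg.Agent.Lib.CharItoMichlerPSolvable
import Cfsg.Agent.Lib.CharExtensionCrit
import Cfsg.Agent.Lib.CharInducedCorr
import Cfsg.Agent.Lib.CharBasicLinear
import Cfsg.Agent.Lib.HallCore
import Cfsg.Agent.Lib.HallSolvable

set_option autoImplicit false
open Cfsg

namespace Cfsg.Agent.S4768

open Cfsg.Agent.CharBasic Cfsg.Agent.CharBasicOrth Cfsg.Agent.CharBasicDecomp
open Cfsg.Agent.CharBasicLinear

universe u

/-- An irreducible character over the trivial character of a normal subgroup is trivial on it. -/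
theorem trivial_of_constituent {G : Type u} [Group G] [Fintype G] (N : Subgroup G) [N.Normal]
    [Fintype N] {χ : G → ℂ} (hχ : Cfsg.IsIrrCharacter G χ)
    (h : Cfsg.classInner (fun n : N => χ n) (fun _ => (1 : ℂ)) ≠ 0) :
    ∀ n ∈ N, χ n = χ 1 := by
  classical
  have hc := CharInduced.clifford N hχ isIrrCharacter_one h
  have horb : CharInduced.orbitFin N (fun _ : N => (1 : ℂ)) = {fun _ => 1} := by
    refine Finset.eq_singleton_iff_unique_mem.2 ⟨CharInduced.self_mem_orbitFin N _, fun φ hφ => ?_⟩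
    obtain ⟨g, rfl⟩ := (CharInduced.mem_orbitFin N).1 hφ
    rfl
  rw [horb, Finset.sum_singleton] at hc
  intro n hn
  have h1 := congrFun hc ⟨n, hn⟩
  have h2 := congrFun hc 1
  simp only [Pi.smul_apply, smul_eq_mul, OneMemClass.coe_one] at h1 h2
  rw [h1, h2]

/-- If all characters nontrivial on an abelian normal `p`-subgroup `N` have degree prime to `p`,
then the Sylow `p`-subgroups of `G / N` are abelian. -/
theorem quot_sylow_comm {G : Type u} [Group G] [Finite G] {p : ℕ} [hp : Fact p.Prime]
    (hsolv : Cfsg.IsPSolvable p G) (P : Sylow p G) (N : Subgroup G) [N.Normal]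
    (hN : IsPGroup p N) (hne : N ≠ ⊥)
    (hdeg : ∀ χ : Cfsg.IrrCharacter G, p ∣ Cfsg.charDegree (χ : G → ℂ) →
      ∀ n ∈ N, (χ : G → ℂ) n = (χ : G → ℂ) 1) :
    ∀ a ∈ (P : Subgroup G), ∀ b ∈ (P : Subgroup G), a * b * a⁻¹ * b⁻¹ ∈ N := by
  classical
  have := Fintype.ofFinite G
  have := Fintype.ofFinite N
  have := Fintype.ofFinite (P : Subgroup G)
  have hNP : N ≤ (P : Subgroup G) := (HallCore.le_pCore hN).trans (HallCore.pCore_le_sylow P)
  -- a character nontrivial on `N`
  obtain ⟨n₀, hn₀, hn₀1⟩ := N.bot_or_exists_ne_one.resolve_left hne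
  obtain ⟨χ, hχ⟩ : ∃ χ : Cfsg.IrrCharacter G, (χ : G → ℂ) n₀ ≠ (χ : G → ℂ) 1 := by
    by_contra hc
    push Not at hc
    exact hn₀1 (isConj_one_left.1 ((isConj_iff_forall_irr n₀ 1).2 fun χ => hc χ))
  have hχp : ¬ p ∣ Cfsg.charDegree (χ : G → ℂ) := fun h => hχ (hdeg χ h n₀ hn₀)
  -- a linear constituent on `P`
  have hres : Cfsg.IsCharacter (P : Subgroup G) (fun x => (χ : G → ℂ) x) :=
    isCharacter_comap (P : Subgroup G).subtype (isCharacter_of_isIrrCharacter χ.2)
  obtain ⟨m, hm, hsum⟩ := exists_mult hres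
  obtain ⟨ψ, hψm, hψ1⟩ : ∃ ψ : Cfsg.IrrCharacter (P : Subgroup G), m ψ ≠ 0 ∧
      (ψ : ↥(P : Subgroup G) → ℂ) 1 = 1 := by
    by_contra hc
    push Not at hc
    have hall : ∀ ψ : Cfsg.IrrCharacter (P : Subgroup G), ∃ k : ℕ,
        (m ψ : ℂ) * (ψ : ↥(P : Subgroup G) → ℂ) 1 = ((p * k : ℕ) : ℂ) := by
      intro ψ
      by_cases h0 : m ψ = 0
      · exact ⟨0, by simp [h0]⟩
      obtain ⟨d, -, hd, hdvd⟩ := CharBasicInt.exists_apply_one_dvd_card ψ.2
      obtain ⟨k, hk⟩ := IsPGroup.iff_card.1 P.isPGroup'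
      rw [hk] at hdvd
      obtain ⟨i, -, hi⟩ := (Nat.dvd_prime_pow hp.out).1 hdvd
      rcases Nat.eq_zero_or_pos i with rfl | hi0
      · exact absurd (by rw [hd, hi, pow_zero, Nat.cast_one]) (hc ψ h0)
      · obtain ⟨l, hl⟩ : p ∣ d := hi ▸ dvd_pow_self p hi0.ne'
        exact ⟨m ψ * l, by rw [hd, hl]; push_cast; ring⟩
    choose k hk using hall
    apply hχp
    have h1 := congrFun hsum 1
    simp only [Finset.sum_apply, Pi.smul_apply, smul_eq_mul, OneMemClass.coe_one, hk] at h1
    rw [← Nat.cast_sum] at h1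
    rw [CharItoMichler.charDegree_eq h1, ← Finset.mul_sum]
    exact dvd_mul_right _ _
  obtain ⟨μ, hμ⟩ := exists_hom_of_apply_one_eq_one (isCharacter_of_isIrrCharacter ψ.2) hψ1
  let lam : N →* ℂˣ := μ.comp (Subgroup.inclusion hNP)
  set θ : N → ℂ := fun n => (lam n : ℂ) with hθdef
  have hθ : Cfsg.IsIrrCharacter N θ := isIrrCharacter_linear lam
  have hlam : lam ≠ 1 := by
    intro e
    apply hχ
    refine trivial_of_constituent N χ.2 ?_ n₀ hn₀
    have hrest : Cfsg.IsCharacter (P : Subgroup G)
        ((fun x : (P : Subgroup G) => (χ : G → ℂ) x) - (ψ : ↥(P : Subgroup G) → ℂ)) :=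
      CharInduced.isCharacter_sub_constituent hres ψ.2 (by rw [hm]; exact Nat.cast_ne_zero.2 hψm)
    obtain ⟨k, hk⟩ := classInner_isCharacter
      (isCharacter_comap (Subgroup.inclusion hNP) hrest) (isCharacter_one (G := N))
    have hsplit : (fun n : N => (χ : G → ℂ) n) =
        ((fun x : (P : Subgroup G) => (χ : G → ℂ) x) - (ψ : ↥(P : Subgroup G) → ℂ)) ∘
          (Subgroup.inclusion hNP) + (fun _ => (1 : ℂ)) := by
      funext n
      have : (μ (Subgroup.inclusion hNP n) : ℂ) = 1 := by
        have := DFunLike.congr_fun e n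
        simpa [lam] using congrArg Units.val this
      simp only [Pi.add_apply, Function.comp_apply, Pi.sub_apply, hμ, this]
      simp
    rw [hsplit, classInner_add_left, hk, classInner_irr_self isIrrCharacter_one,
      ← Nat.cast_one, ← Nat.cast_add]
    exact Nat.cast_ne_zero.2 (Nat.succ_ne_zero k)
  -- the inertia group
  set T : Subgroup G := CharInduced.inertia N θ with hTdef
  have hPT : (P : Subgroup G) ≤ T := by
    intro g hg
    refine (CharInduced.mem_inertia_iff N).2 fun n => ?_
    simp only [hθdef, lam, MonoidHom.comp_apply]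
    rw [show Subgroup.inclusion hNP ⟨g * n * g⁻¹, (inferInstance : N.Normal).conj_mem _ n.2 g⟩ =
        ⟨g, hg⟩ * Subgroup.inclusion hNP n * ⟨g, hg⟩⁻¹ from Subtype.ext rfl,
      map_mul, map_mul, map_inv, mul_comm (μ ⟨g, hg⟩), mul_inv_cancel_right]
  have hNT : N ≤ T := hNP.trans hPT
  have := Fintype.ofFinite T
  let N' : Subgroup T := N.subgroupOf T
  let lam' : N' →* ℂˣ := lam.comp (Subgroup.subgroupOfEquivOfLe hNT).toMonoidHom
  obtain ⟨ext, hext⟩ := CharExtension.exists_linear_ext (N := N') lam' (fun g n => by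
      apply Units.ext
      show θ _ = θ _
      exact (CharInduced.mem_inertia_iff N).1 g.2 ⟨((n : T) : G), n.2⟩)
    (Nat.card N) (fun n => by
      show lam _ ^ _ = 1
      rw [← map_pow, pow_card_eq_one', map_one])
    (fun r hr hrd => by
      obtain ⟨k, hk⟩ := IsPGroup.iff_card.1 hN
      have : r = p := (Nat.prime_dvd_prime_iff_eq hr hp.out).1 (hr.dvd_of_dvd_pow (hk ▸ hrd))
      subst this
      refine ⟨(P : Subgroup G).subgroupOf T, fun x hx => hNP hx,
        μ.comp (Subgroup.subgroupOfEquivOfLe hPT).toMonoidHom, ?_, fun n => rfl⟩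
      refine ((hp.out.coprime_iff_not_dvd).2 fun hd => P.not_dvd_index (hd.trans ?_)).symm
      exact Subgroup.relIndex_dvd_index_of_le hPT)
  -- all degrees of `T / N` are prime to `p`
  have hT : ∀ g : G, g ∈ T ↔ CharInduced.conjFun N θ g = θ := fun g => CharInduced.mem_inertia N
  have hTdeg : ∀ β : Cfsg.IrrCharacter (T ⧸ N'),
      ¬ p ∣ Cfsg.charDegree (β : T ⧸ N' → ℂ) := by
    intro β hβ
    have hβ' := isIrrCharacter_comap (QuotientGroup.mk' N') (QuotientGroup.mk'_surjective N') β.2
    have hφ := isIrrCharacter_mul_linear hβ' ext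
    set φ : T → ℂ := fun t => ((β : T ⧸ N' → ℂ) ∘ QuotientGroup.mk' N') t * (ext t : ℂ) with hφdef
    replace hφ : Cfsg.IsIrrCharacter T φ := by
      convert hφ using 1
    have hφN : (fun n : N => φ ⟨n, hNT n.2⟩) = ((β : T ⧸ N' → ℂ) 1) • θ := by
      funext n
      have e1 : QuotientGroup.mk' N' ⟨n, hNT n.2⟩ = 1 := (QuotientGroup.eq_one_iff _).2 n.2
      have e2 := congrArg Units.val (hext ⟨⟨n, hNT n.2⟩, n.2⟩)
      simp only [hφdef, Function.comp_apply, e1, Pi.smul_apply, smul_eq_mul]
      rw [e2]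
      rfl
    have hne : Cfsg.classInner (fun n : N => φ ⟨n, hNT n.2⟩) θ ≠ 0 := by
      rw [hφN, classInner_smul_left, classInner_irr_self hθ, mul_one]
      exact isIrrCharacter_apply_one_ne_zero β.2
    have hirr := CharInduced.ind_inertia_irr N T hNT hθ hT hφ hne
    have hcon : Cfsg.classInner (fun t : T => Cfsg.indFun T φ t) φ ≠ 0 := by
      have := classInner_irr_self hirr
      rw [CharInduced.inner_ind_left T φ (CharInduced.isClassFunction_ind T φ)] at this
      rw [← CharInduced.inner_conj_symm, this]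
      simp
    have heq := (CharInduced.ind_inertia_eq N T hNT hθ hT hφ hne hirr hcon).2
    obtain ⟨d, hd0, hd⟩ := isIrrCharacter_apply_one β.2
    rw [CharItoMichler.charDegree_eq hd] at hβ
    have h1 : Cfsg.indFun T φ 1 = ((T.index * d : ℕ) : ℂ) := by
      rw [CharInduced.ind_one_apply]
      simp only [hφdef, Function.comp_apply, map_one, Units.val_one, mul_one]
      rw [hd, Nat.cast_mul]
    have htriv := hdeg ⟨_, hirr⟩ (by
      rw [CharItoMichler.charDegree_eq h1]; exact hβ.trans (dvd_mul_left _ _))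
    apply hne
    rw [← heq]
    have h2 : (fun n : N => Cfsg.indFun T φ n) = (Cfsg.indFun T φ 1) • (fun _ : N => (1 : ℂ)) := by
      funext n
      rw [Pi.smul_apply, smul_eq_mul, mul_one]
      exact htriv n n.2
    rw [h2, classInner_smul_left, classInner_irr_ne isIrrCharacter_one hθ, mul_zero]
    intro e
    exact hlam (MonoidHom.ext fun n => Units.ext (congrFun e n).symm)
  have hQ := ((CharItoMichler.iff_degrees
    (HallSolvable.isPSolvable_quotient (HallSolvable.isPSolvable_subgroup hsolv T) N')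
    ((P.subtype hPT).mapSurjective (QuotientGroup.mk'_surjective N'))).2 hTdeg).2
  intro a ha b hb
  let a' : T := ⟨a, hPT ha⟩
  let b' : T := ⟨b, hPT hb⟩
  have hc := hQ.is_comm.comm
    ⟨QuotientGroup.mk' N' a', by
      rw [Sylow.coe_mapSurjective]; exact Subgroup.mem_map_of_mem _ ha⟩
    ⟨QuotientGroup.mk' N' b', by
      rw [Sylow.coe_mapSurjective]; exact Subgroup.mem_map_of_mem _ hb⟩
  have h1 : a' * b' * a'⁻¹ * b'⁻¹ ∈ N' := by
    rw [← QuotientGroup.eq_one_iff]
    show QuotientGroup.mk' N' (a' * b' * a'⁻¹ * b'⁻¹) = 1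
    rw [map_mul, map_mul, map_mul, map_inv, map_inv]
    have hc' : QuotientGroup.mk' N' a' * QuotientGroup.mk' N' b' =
        QuotientGroup.mk' N' b' * QuotientGroup.mk' N' a' := congrArg Subtype.val hc
    rw [hc', mul_inv_cancel_right, mul_inv_cancel]
  exact h1

/-- The derived length bound, by induction on the order. -/
theorem bound (k : ℕ) : ∀ (G : Type u) [Group G] [Finite G], Nat.card G = k →
    ∀ (p : ℕ) [Fact p.Prime], Cfsg.IsPSolvable p G → ∀ P : Sylow p G,
      derivedSeries ↥(P : Subgroup G)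
        (Nat.card {χ : Cfsg.IrrCharacter G // p ∣ Cfsg.charDegree (χ : G → ℂ)} + 1) = ⊥ := by
  induction k using Nat.strong_induction_on with
  | _ k ih =>
    intro G _ _ hk p hp hsolv P
    classical
    have := finite_irrCharacter (G := G)
    set n := Nat.card {χ : Cfsg.IrrCharacter G // p ∣ Cfsg.charDegree (χ : G → ℂ)} with hn
    by_cases hn0 : n = 0
    · rw [hn0, derivedSeries_one, commutator_eq_bot_iff_center_eq_top, eq_top_iff]
      have hdeg : ∀ χ : Cfsg.IrrCharacter G, ¬ p ∣ Cfsg.charDegree (χ : G → ℂ) := fun χ h => by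
        have := Nat.card_eq_zero.1 hn0
        rcases this with h' | h'
        · exact h'.elim ⟨χ, h⟩
        · exact not_finite {χ : Cfsg.IrrCharacter G // p ∣ Cfsg.charDegree (χ : G → ℂ)}
      have hc := ((CharItoMichler.iff_degrees hsolv P).2 hdeg).2
      intro x _
      exact Subgroup.mem_center_iff.2 fun y => hc.is_comm.comm y x
    by_cases hG : Nat.card G = 1
    · have : Subsingleton G := (Nat.card_eq_one_iff_unique.1 hG).1
      exact Subsingleton.elim _ _
    obtain ⟨N, hN, hNne, hNcase⟩ : ∃ N : Subgroup G, N.Normal ∧ N ≠ ⊥ ∧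
        ((IsPGroup p N ∧ ∀ x y : N, x * y = y * x) ∨ (Nat.card N).Coprime p) := by
      obtain ⟨m, H, h0, hl, hmono, hHn, hstep⟩ := hsolv
      by_contra hno
      have hall : ∀ i : ℕ, ∀ hi : i < m + 1, H ⟨i, hi⟩ = ⊥ := by
        intro i
        induction i with
        | zero => intro hi; exact h0
        | succ j ihj =>
          intro hi
          by_contra hne
          have hs := hstep ⟨j, by omega⟩
          have e1 : H (⟨j, by omega⟩ : Fin m).castSucc = ⊥ := ihj (by omega)
          rw [e1, Subgroup.relIndex_bot_left] at hs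
          set M := H (⟨j, by omega⟩ : Fin m).succ with hM
          have hMn : M.Normal := hHn _
          have hMne : M ≠ ⊥ := hne
          rcases hs with ⟨l, hl⟩ | hs
          · have hMp : IsPGroup p M := IsPGroup.of_card hl
            have : Nontrivial M := (Subgroup.nontrivial_iff_ne_bot M).2 hMne
            have := hMp.center_nontrivial
            refine hno ⟨(Subgroup.center M).map M.subtype,
              ConjAct.normal_of_characteristic_of_normal, ?_, Or.inl ⟨?_, ?_⟩⟩
            · rw [ne_eq, Subgroup.map_eq_bot_iff_of_injective _ M.subtype_injective,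
                ← ne_eq, ← Subgroup.nontrivial_iff_ne_bot]
              infer_instance
            · exact (hMp.to_subgroup _).map _
            · rintro ⟨_, x, hx, rfl⟩ ⟨_, y, hy, rfl⟩
              exact Subtype.ext (congrArg M.subtype (Subgroup.mem_center_iff.1 hy x))
          · exact hno ⟨M, hMn, hMne, Or.inr hs⟩
      have htop := hall m (Nat.lt_succ_self m)
      rw [show (⟨m, Nat.lt_succ_self m⟩ : Fin (m + 1)) = Fin.last m from rfl, hl] at htop
      exact hG (by rw [← Subgroup.card_top (G := G), htop, Subgroup.card_bot])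
    have := hN
    have hlt : Nat.card (G ⧸ N) < k := by
      rw [← hk, Subgroup.card_eq_card_quotient_mul_card_subgroup N]
      exact lt_mul_of_one_lt_right Nat.card_pos (N.one_lt_card_iff_ne_bot.2 hNne)
    have hsurj := QuotientGroup.mk'_surjective N
    let Q := P.mapSurjective hsurj
    have hih := ih _ hlt (G ⧸ N) rfl p (HallSolvable.isPSolvable_quotient hsolv N) Q
    let f : ↥(P : Subgroup G) →* ↥(Q : Subgroup (G ⧸ N)) :=
      ((QuotientGroup.mk' N).comp (P : Subgroup G).subtype).codRestrict _ fun x => by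
        rw [Sylow.coe_mapSurjective]; exact Subgroup.mem_map_of_mem _ x.2
    have hker : ∀ x, f x = 1 → (x : G) ∈ N := fun x hx =>
      (QuotientGroup.eq_one_iff (x : G)).1 (congrArg Subtype.val hx)
    let pull : {ψ : Cfsg.IrrCharacter (G ⧸ N) // p ∣ Cfsg.charDegree (ψ : G ⧸ N → ℂ)} →
        {χ : Cfsg.IrrCharacter G // p ∣ Cfsg.charDegree (χ : G → ℂ)} := fun ψ =>
      ⟨⟨_, isIrrCharacter_comap _ hsurj ψ.1.2⟩, by simpa [Cfsg.charDegree] using ψ.2⟩
    have hinj : Function.Injective pull := fun a b h => by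
      refine Subtype.ext (Subtype.ext (funext fun q => ?_))
      obtain ⟨g, rfl⟩ := hsurj q
      exact congrFun (congrArg Subtype.val (congrArg Subtype.val h)) g
    have := finite_irrCharacter (G := G ⧸ N)
    have hle := Nat.card_le_card_of_injective pull hinj
    set n' := Nat.card {ψ : Cfsg.IrrCharacter (G ⧸ N) // p ∣ Cfsg.charDegree (ψ : G ⧸ N → ℂ)}
      with hn'
    have hmap : ∀ m, n' + 1 ≤ m →
        ∀ x ∈ derivedSeries ↥(P : Subgroup G) m, (x : G) ∈ N := by
      intro m hm x hx
      refine hker x ?_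
      have h1 : f x ∈ derivedSeries ↥(Q : Subgroup (G ⧸ N)) m :=
        map_derivedSeries_le_derivedSeries f m (Subgroup.mem_map_of_mem f hx)
      exact (Subgroup.mem_bot).1 (hih ▸ derivedSeries_antitone _ hm h1)
    rcases hNcase with ⟨hNp, hNab⟩ | hcop
    · have hnext : ∀ m, (∀ x ∈ derivedSeries ↥(P : Subgroup G) m, (x : G) ∈ N) →
          derivedSeries ↥(P : Subgroup G) (m + 1) = ⊥ := by
        intro m hm
        rw [derivedSeries_succ, eq_bot_iff, Subgroup.commutator_le]
        intro x hx y hy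
        rw [Subgroup.mem_bot, commutatorElement_eq_one_iff_mul_comm]
        exact Subtype.ext (show (x : G) * y = y * x from congrArg Subtype.val (hNab ⟨x, hm x hx⟩ ⟨y, hm y hy⟩))
      rcases lt_or_eq_of_le hle with hlt' | heq
      · exact hnext n (hmap n hlt')
      · have hbij := (Nat.bijective_iff_injective_and_card pull).2 ⟨hinj, heq⟩
        have htriv : ∀ χ : Cfsg.IrrCharacter G, p ∣ Cfsg.charDegree (χ : G → ℂ) →
            ∀ x ∈ N, (χ : G → ℂ) x = (χ : G → ℂ) 1 := by
          intro χ hχ x hx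
          obtain ⟨ψ, hψ⟩ := hbij.2 ⟨χ, hχ⟩
          have e : (χ : G → ℂ) = (ψ.1 : G ⧸ N → ℂ) ∘ QuotientGroup.mk' N :=
            (congrArg (fun z : {χ : Cfsg.IrrCharacter G // p ∣ Cfsg.charDegree (χ : G → ℂ)} =>
              (z.1 : G → ℂ)) hψ).symm
          rw [e, Function.comp_apply, Function.comp_apply, map_one, QuotientGroup.mk'_apply,
            (QuotientGroup.eq_one_iff x).2 hx]
        have hc := quot_sylow_comm hsolv P N hNp hNne htriv
        have h2 : derivedSeries ↥(P : Subgroup G) 2 = ⊥ := by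
          refine hnext 1 fun x hx => ?_
          have hle1 : derivedSeries ↥(P : Subgroup G) 1 ≤ N.subgroupOf (P : Subgroup G) := by
            rw [derivedSeries_one, commutator_def, Subgroup.commutator_le]
            intro a _ b _
            exact hc a a.2 b b.2
          exact hle1 hx
        exact le_bot_iff.1 (h2 ▸ derivedSeries_antitone _ (show 2 ≤ n + 1 by omega))
    · refine (Subgroup.eq_bot_iff_forall _).2 fun x hx => ?_
      have hxN := hmap (n + 1) (by omega) x hx
      obtain ⟨l, hl⟩ := IsPGroup.iff_card.1 P.isPGroup'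
      have h1 : orderOf (x : G) ∣ p ^ l := by
        rw [← hl, Subgroup.orderOf_coe]; exact orderOf_dvd_natCard x
      have h2 : orderOf (x : G) ∣ Nat.card N := by
        have := orderOf_dvd_natCard (⟨(x : G), hxN⟩ : N)
        rwa [← Subgroup.orderOf_coe] at this
      have h3 := Nat.eq_one_of_dvd_coprimes ((hcop.symm.pow_left l)) h1 h2
      exact Subtype.ext (orderOf_eq_one_iff.1 h3)


/-- Let p be a prime, G a finite p-solvable group and P a Sylow p-subgroup of G. If n is the number of irreducible complex characters of G whose degree is divisible by p, then the (n+1)-st term of the derived series of P is trivial. (The p-solvable case has a direct inductive proof.) -/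
theorem result {G : Type*} [Group G] [Finite G] (p : ℕ) [Fact p.Prime] (hG : Cfsg.IsPSolvable p G) (P : Sylow p G) : derivedSeries ↥(P : Subgroup G) (Nat.card {χ : Cfsg.IrrCharacter G // p ∣ Cfsg.charDegree (χ : G → ℂ)} + 1) = ⊥ := by
  exact bound _ G rfl p hG P

end Cfsg.Agent.S4768
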