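import Cfsg.Statements.S4775
import Cfsg.Agent.Lib.SuzukiGroupDegrees
import Cfsg.Agent.Lib.SuzukiGroupLie
import Cfsg.Agent.Lib.SL2DegreeSets

set_option autoImplicit false
open Cfsg

namespace Cfsg.Agent.S4775

/-- Let F be a finite field with q = 2^(2m+1) ≥ 8 elements and let S be isomorphic to the Suzuki group over F. Then the vertices of the character degree graph of S are 2 and the primes dividing (q − 1)(q² + 1); the primes dividing (q − 1)(q² + 1) are pairwise adjacent, and 2 is adjacent exactly to the primes dividing q − 1. -/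
theorem result (F : Type*) [Field F] [Fintype F] (m : ℕ) (hm : 1 ≤ m) (q : ℕ) (hq : Fintype.card F = q) (hqm : q = 2 ^ (2 * m + 1)) {S : Type*} [Group S] [Finite S] (hS : Nonempty (S ≃* ↥(Cfsg.Lie.Sz F (2 ^ (m + 1))))) : Cfsg.degreePrimes S = {r : ℕ | r.Prime ∧ (r = 2 ∨ r ∣ (q - 1) * (q ^ 2 + 1))} ∧ ∀ r s : ℕ, (Cfsg.degreeGraph S).Adj r s ↔ (r ≠ s ∧ r.Prime ∧ s.Prime ∧ ((r ∣ (q - 1) * (q ^ 2 + 1) ∧ s ∣ (q - 1) * (q ^ 2 + 1)) ∨ (r = 2 ∧ s ∣ q - 1) ∨ (s = 2 ∧ r ∣ q - 1))) := by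
  classical
  obtain ⟨e⟩ := hS
  have : SuzukiGroupBasic.Param F m := SuzukiGroupBasic.Param.mk' hm (hq.trans hqm)
  have hD : Cfsg.charDegrees S = {1, q ^ 2, q ^ 2 + 1, (q - 1) * 2 ^ m,
      (q - 1) * (q + 2 * 2 ^ m + 1), (q - 1) * (q - 2 * 2 ^ m + 1)} := by
    rw [SL2DegreeSets.charDegrees_congr (e.trans SuzukiGroupLie.lieEquiv),
      SuzukiGroupDegrees.charDegrees_eq, hqm]
  have hk : q = 2 * (2 ^ m * 2 ^ m) := by rw [hqm, pow_succ', two_mul m, pow_add]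
  have hk2 : 2 ∣ 2 ^ m := dvd_pow_self 2 (by omega)
  set k := 2 ^ m with hkdef
  have hkge : 2 ≤ k := Nat.le_of_dvd (by positivity) hk2
  have hle : 2 * k ≤ q := by rw [hk]; exact Nat.mul_le_mul_left 2 (Nat.le_mul_self _)
  set P := q + 2 * k + 1 with hPdef
  set M := q - 2 * k + 1 with hMdef
  have hPM : P * M = q ^ 2 + 1 := by
    have hM : M + 2 * k = q + 1 := by omega
    zify at hM hk ⊢
    rw [hPdef]
    push_cast
    have hM' : (M : ℤ) = (q : ℤ) + 1 - 2 * (k : ℤ) := by linarith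
    rw [hM']
    linear_combination 2 * hk
  have h2N : ¬ 2 ∣ (q - 1) * (q ^ 2 + 1) := by
    have h2 : 2 ∣ q := hk ▸ dvd_mul_right _ _
    have h3 : 2 ∣ q ^ 2 := dvd_pow h2 two_ne_zero
    rw [Nat.prime_two.dvd_mul]
    omega
  set N := (q - 1) * (q ^ 2 + 1) with hN
  have hcopk : ∀ r : ℕ, r.Prime → r ∣ k → r = 2 := fun r hr h =>
    (Nat.prime_dvd_prime_iff_eq hr Nat.prime_two).mp (hr.dvd_of_dvd_pow h)
  have hq1N : q - 1 ∣ N := dvd_mul_right _ _
  have hqN : q ^ 2 + 1 ∣ N := dvd_mul_left _ _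
  have hPN : (q - 1) * P ∣ N := Nat.mul_dvd_mul_left _ (hPM ▸ dvd_mul_right P M)
  have hMN : (q - 1) * M ∣ N := Nat.mul_dvd_mul_left _ (hPM ▸ dvd_mul_left M P)
  have key : ∀ r : ℕ, r.Prime → ∀ d ∈ Cfsg.charDegrees S, r ∣ d → r = 2 ∨ r ∣ N := by
    intro r hr d hd hrd
    rw [hD] at hd
    simp only [Set.mem_insert_iff, Set.mem_singleton_iff] at hd
    rcases hd with rfl | rfl | rfl | rfl | rfl | rfl
    · exact absurd (Nat.dvd_one.mp hrd) hr.one_lt.ne'
    · left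
      have h1 := hr.dvd_of_dvd_pow hrd
      rw [hk] at h1
      rcases (Nat.Prime.dvd_mul hr).mp h1 with h | h
      · exact (Nat.prime_dvd_prime_iff_eq hr Nat.prime_two).mp h
      · exact hcopk r hr ((hr.dvd_mul.mp h).elim id id)
    · exact Or.inr (hrd.trans hqN)
    · rcases hr.dvd_mul.mp hrd with h | h
      exacts [Or.inr (h.trans hq1N), Or.inl (hcopk r hr h)]
    · exact Or.inr (hrd.trans hPN)
    · exact Or.inr (hrd.trans hMN)
  have mem : q ^ 2 ∈ Cfsg.charDegrees S ∧ q ^ 2 + 1 ∈ Cfsg.charDegrees S ∧ (q - 1) * k ∈ Cfsg.charDegrees S ∧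
      (q - 1) * P ∈ Cfsg.charDegrees S ∧ (q - 1) * M ∈ Cfsg.charDegrees S := by
    rw [hD]; simp
  obtain ⟨m2, m3, m4, m5, m6⟩ := mem
  refine ⟨?_, fun r s => ?_⟩
  · ext r
    constructor
    · rintro ⟨hr, d, hd, hrd⟩
      exact ⟨hr, key r hr d hd hrd⟩
    · rintro ⟨hr, rfl | h⟩
      · exact ⟨hr, _, m4, hk2.trans (dvd_mul_left _ _)⟩
      · rcases hr.dvd_mul.mp h with h | h
        exacts [⟨hr, _, m4, h.trans (dvd_mul_right _ _)⟩, ⟨hr, _, m3, h⟩]
  · constructor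
    · rintro ⟨hne, hr, hs, d, hd, hrs⟩
      refine ⟨hne, hr, hs, ?_⟩
      have hr' := key r hr d hd ((dvd_mul_right r s).trans hrs)
      have hs' := key s hs d hd ((dvd_mul_left s r).trans hrs)
      have h2 : ∀ t : ℕ, t.Prime → t ≠ 2 → 2 * t ∣ d → t ∣ q - 1 := by
        intro t ht ht2 htd
        rw [hD] at hd
        simp only [Set.mem_insert_iff, Set.mem_singleton_iff] at hd
        have h2d : 2 ∣ d := (dvd_mul_right 2 t).trans htd
        have htd' : t ∣ d := (dvd_mul_left t 2).trans htd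
        rcases hd with rfl | rfl | rfl | rfl | rfl | rfl
        · exact absurd (Nat.dvd_one.mp htd') ht.one_lt.ne'
        · exfalso
          have h1 := ht.dvd_of_dvd_pow htd'
          rw [hk] at h1
          rcases (Nat.Prime.dvd_mul ht).mp h1 with h | h
          · exact ht2 ((Nat.prime_dvd_prime_iff_eq ht Nat.prime_two).mp h)
          · exact ht2 (hcopk t ht ((ht.dvd_mul.mp h).elim id id))
        · exact absurd (h2d.trans hqN) h2N
        · exact (ht.dvd_mul.mp htd').resolve_right fun h => ht2 (hcopk t ht h)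
        · exact absurd (h2d.trans hPN) h2N
        · exact absurd (h2d.trans hMN) h2N
      rcases hr' with rfl | hr'
      · exact Or.inr (Or.inl ⟨rfl, h2 s hs (Ne.symm hne) hrs⟩)
      rcases hs' with rfl | hs'
      · exact Or.inr (Or.inr ⟨rfl, h2 r hr hne (mul_comm r 2 ▸ hrs)⟩)
      · exact Or.inl ⟨hr', hs'⟩
    · rintro ⟨hne, hr, hs, h⟩
      have hcop : Nat.Coprime r s := (Nat.coprime_primes hr hs).mpr hne
      refine ⟨hne, hr, hs, ?_⟩
      rcases h with ⟨h1, h2⟩ | ⟨rfl, h2⟩ | ⟨rfl, h1⟩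
      · rcases hr.dvd_mul.mp h1 with a | a <;> rcases hs.dvd_mul.mp h2 with b | b
        · exact ⟨_, m4, (hcop.mul_dvd_of_dvd_of_dvd a b).trans (dvd_mul_right _ _)⟩
        · rw [← hPM] at b
          rcases hs.dvd_mul.mp b with b | b
          exacts [⟨_, m5, Nat.mul_dvd_mul a b⟩, ⟨_, m6, Nat.mul_dvd_mul a b⟩]
        · rw [← hPM] at a
          rcases hr.dvd_mul.mp a with a | a
          · exact ⟨_, m5, mul_comm (q - 1) P ▸ Nat.mul_dvd_mul a b⟩
          · exact ⟨_, m6, mul_comm (q - 1) M ▸ Nat.mul_dvd_mul a b⟩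
        · exact ⟨_, m3, hcop.mul_dvd_of_dvd_of_dvd a b⟩
      · exact ⟨_, m4, mul_comm (q - 1) k ▸ Nat.mul_dvd_mul hk2 h2⟩
      · exact ⟨_, m4, Nat.mul_dvd_mul h1 hk2⟩

end Cfsg.Agent.S4775
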