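import Cfsg.Statements.S4776
import Mathlib
import Cfsg.Agent.Lib.CharDet73
import Cfsg.Agent.Lib.CharBasicLinear
import Cfsg.Agent.Lib.CharKernel
import Cfsg.Agent.Lib.CharGallagher
import Cfsg.Agent.Lib.CharProjDegree
import Cfsg.Agent.Lib.CharCliffordCorr
import Cfsg.Agent.Lib.CharInducedRep
import Cfsg.Agent.Lib.CharInducedCorr

set_option autoImplicit false
open Cfsg

namespace Cfsg.Agent.S4776
open Cfsg.Agent.CharBasic Cfsg.Agent.CharBasicOrth Cfsg.Agent.CharBasicDecomp Cfsg.Agent.CharInduced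
open Cfsg.Agent.CharDet73

universe w

noncomputable local instance (priority := high) fintypeFin4776 {α : Type*} [Finite α] : Fintype α :=
  Fintype.ofFinite α

variable {G : Type w} [Group G] [Finite G] (N : Subgroup G) [hN : N.Normal]

/-- The conjugate of a linear character. -/
def cj (g : G) (lam : N →* ℂˣ) : N →* ℂˣ := lam.comp (MulAut.conjNormal g).toMonoidHom

theorem cj_apply (g : G) (lam : N →* ℂˣ) (n : N) :
    cj N g lam n = lam (MulAut.conjNormal g n) := rfl

theorem cj_mul (g : G) (lam mu : N →* ℂˣ) : cj N g (lam * mu) = cj N g lam * cj N g mu := rfl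

theorem cj_cj (a c : G) (lam : N →* ℂˣ) : cj N c (cj N a lam) = cj N (a * c) lam := by
  ext n
  simp only [cj_apply, map_mul]
  rfl

/-- The stabiliser of a linear character. -/
def st (lam : N →* ℂˣ) : Subgroup G where
  carrier := {g | cj N g lam = lam}
  one_mem' := by
    ext n
    simp [cj_apply]
  mul_mem' := fun {a c} (ha : cj N a lam = lam) (hc : cj N c lam = lam) => by
    show cj N (a * c) lam = lam
    rw [← cj_cj, ha, hc]
  inv_mem' := fun {a} (ha : cj N a lam = lam) => by
    show cj N a⁻¹ lam = lam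
    conv_lhs => rw [← ha]
    rw [cj_cj, mul_inv_cancel]
    ext n
    simp [cj_apply]

theorem mem_st {lam : N →* ℂˣ} {g : G} : g ∈ st N lam ↔ cj N g lam = lam := Iff.rfl

theorem st_le_pow (lam : N →* ℂˣ) (k : ℕ) : st N lam ≤ st N (lam ^ k) := fun g hg => by
  rw [mem_st] at hg ⊢
  ext n
  rw [cj_apply, MonoidHom.pow_apply, MonoidHom.pow_apply, ← cj_apply, hg]

/-- A number `> 1` dividing all degrees over a character whose determinant has a power `lam`. -/
noncomputable def dd (lam : N →* ℂˣ) : ℕ :=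
  open scoped Classical in if st N lam = ⊤ then orderOf lam else (st N lam).index

theorem one_lt_dd {lam : N →* ℂˣ} {r : ℕ} (hr : r.Prime) (h : orderOf lam = r) : 1 < dd N lam := by
  unfold dd
  split_ifs with hs
  · rw [h]; exact hr.one_lt
  · have h1 : (st N lam).index ≠ 1 := fun h1 => hs (Subgroup.index_eq_one.1 h1)
    have h2 : (st N lam).index ≠ 0 := Subgroup.FiniteIndex.index_ne_zero
    omega

theorem dd_dvd (hNG : N ≤ commutator G) (χ : IrrCharacter G) (θ : IrrCharacter N)
    (hc : classInner (fun n : N => (χ : G → ℂ) n) (θ : N → ℂ) ≠ 0)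
    (δ : N →* ℂˣ) (hδ : ∀ n, (δ n : ℂ) = detChar (θ : N → ℂ) n) {lam : N →* ℂˣ} {r : ℕ}
    (hr : r.Prime) (ho : orderOf lam = r) (k : ℕ) (hk : δ ^ k = lam) :
    dd N lam ∣ charDegree (χ : G → ℂ) := by
  classical
  have hle : inertia N (θ : N → ℂ) ≤ st N δ := fun g hg => by
    rw [mem_st]
    ext n
    rw [cj_apply, hδ, hδ]
    have h := detChar_comap (MulAut.conjNormal (H := N) g).toMonoidHom
      (isCharacter_of_isIrrCharacter θ.2) n
    rw [show (fun x : N => (θ : N → ℂ) ((MulAut.conjNormal g).toMonoidHom x)) = (θ : N → ℂ) from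
      (mem_inertia N).1 hg] at h
    exact h.symm
  unfold dd
  split_ifs with hs
  · obtain ⟨e, he, hpow⟩ := pow_eq_one_of_invariant N hNG χ.2 θ.2 hc k lam
      (fun n => by rw [← hk, MonoidHom.pow_apply, Units.val_pow_eq_pow_val, hδ])
      (fun g n => by
        have h : g ∈ st N lam := hs ▸ Subgroup.mem_top g
        exact DFunLike.congr_fun ((mem_st N).1 h) n)
    rw [CharAverage.irr_apply_one, CharAverage.irr_apply_one, ← Nat.cast_mul, Nat.cast_inj] at he
    rw [he]
    exact (orderOf_dvd_of_pow_eq_one hpow).mul_right _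
  · obtain ⟨a, ha⟩ := CharBasicOrth.classInner_isCharacter
      (isCharacter_res N (isCharacter_of_isIrrCharacter χ.2)) (isCharacter_of_isIrrCharacter θ.2)
    have h := CharCliffordCorr.apply_one_eq N χ.2 θ.2 hc
    rw [CharAverage.irr_apply_one, CharAverage.irr_apply_one, ha, ← Nat.cast_mul, ← Nat.cast_mul,
      Nat.cast_inj] at h
    rw [h]
    refine ((Subgroup.index_dvd_of_le (hle.trans ?_)).mul_left a).mul_right _
    exact hk ▸ st_le_pow N δ k

theorem exists_over (θ : IrrCharacter N) :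
    ∃ χ : IrrCharacter G, classInner (fun n : N => (χ : G → ℂ) n) (θ : N → ℂ) ≠ 0 := by
  have h0 : indFun N (θ : N → ℂ) ≠ 0 := fun h => by
    have h1 := congrFun h 1
    rw [ind_one_apply, Pi.zero_apply, mul_eq_zero] at h1
    exact h1.elim (fun h2 => Subgroup.FiniteIndex.index_ne_zero (Nat.cast_eq_zero.1 h2))
      (isIrrCharacter_apply_one_ne_zero θ.2)
  obtain ⟨χ, hχ, hc⟩ :=
    exists_constituent (isCharacter_ind N (isCharacter_of_isIrrCharacter θ.2)) h0
  rw [inner_ind_left N _ (isClassFunction_irr hχ), ← CharInduced.inner_conj_symm, Ne,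
    map_eq_zero] at hc
  exact ⟨⟨χ, hχ⟩, hc⟩

theorem mem_rel (θ : IrrCharacter N) (hθ : (θ : N → ℂ) ≠ fun _ => 1) (χ : IrrCharacter G)
    (hc : classInner (fun n : N => (χ : G → ℂ) n) (θ : N → ℂ) ≠ 0) :
    charDegree (χ : G → ℂ) ∈ relCharDegrees N := by
  refine ⟨χ, ?_, rfl⟩
  by_contra h
  push Not at h
  apply hc
  rw [show (fun n : N => (χ : G → ℂ) n) = (χ : G → ℂ) 1 • (fun _ : N => (1 : ℂ)) from
    funext fun n => by simp [h n n.2],
    CharBasicOrth.classInner_smul_left, classInner_irr_ne isIrrCharacter_one θ.2 hθ.symm, mul_zero]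

theorem exists_constituent_of_rel (χ : IrrCharacter G)
    (h : ∃ x ∈ N, (χ : G → ℂ) x ≠ (χ : G → ℂ) 1) :
    ∃ θ : IrrCharacter N, (θ : N → ℂ) ≠ (fun _ => 1) ∧
      classInner (fun n : N => (χ : G → ℂ) n) (θ : N → ℂ) ≠ 0 := by
  obtain ⟨θ, hθ, hc⟩ := exists_constituent
    (isCharacter_res N (isCharacter_of_isIrrCharacter χ.2))
    (fun h0 => isIrrCharacter_apply_one_ne_zero χ.2 (congrFun h0 1))
  refine ⟨⟨θ, hθ⟩, ?_, hc⟩
  intro h1
  obtain ⟨x, hx, hne⟩ := h
  change θ = _ at h1
  subst h1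
  refine hne ((CharGallagher.mem_over_one_iff N χ.2).1 ?_ ⟨x, hx⟩)
  rwa [inner_ind_left N _ (isClassFunction_irr χ.2), ← CharInduced.inner_conj_symm, map_ne_zero]

/-- The graph. -/
abbrev gr : SimpleGraph (relCharDegrees N) := commonDivisorGraph.induce (relCharDegrees N)

theorem deg_pos {x : ℕ} (hx : x ∈ relCharDegrees N) : 0 < x := by
  obtain ⟨χ, -, rfl⟩ := hx
  exact CharAverage.irr_degree_pos χ

theorem reach_of_dvd (x y : relCharDegrees N) {d : ℕ} (hd : 1 < d) (hx : d ∣ (x : ℕ))
    (hy : d ∣ (y : ℕ)) : (gr N).Reachable x y := by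
  rcases eq_or_ne (x : ℕ) y with h | h
  · rw [Subtype.ext h]
  · refine SimpleGraph.Adj.reachable ?_
    show commonDivisorGraph.Adj (x : ℕ) (y : ℕ)
    refine ⟨h, lt_of_lt_of_le hd (Nat.le_of_dvd ?_ (Nat.dvd_gcd hx hy))⟩
    exact Nat.gcd_pos_of_pos_left _ (deg_pos N x.2)

theorem linear_ne_one {lam : N →* ℂˣ} (h : lam ≠ 1) : (fun n => (lam n : ℂ)) ≠ fun _ => 1 :=
  fun e => h (MonoidHom.ext fun n => Units.ext (congrFun e n))

theorem exists_node (lam : N →* ℂˣ) : ∃ x : ℕ, lam ≠ 1 → x ∈ relCharDegrees N ∧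
    ∃ χ : IrrCharacter G, charDegree (χ : G → ℂ) = x ∧
      classInner (fun n : N => (χ : G → ℂ) n) (fun n => (lam n : ℂ)) ≠ 0 := by
  obtain ⟨χ, hc⟩ := exists_over N ⟨_, isIrrCharacter_linear lam⟩
  exact ⟨_, fun h => ⟨mem_rel N ⟨_, isIrrCharacter_linear lam⟩ (linear_ne_one N h) χ hc,
    χ, rfl, hc⟩⟩

/-- A chosen degree over a linear character. -/
noncomputable def node (lam : N →* ℂˣ) (h : lam ≠ 1) : relCharDegrees N :=
  ⟨(exists_node N lam).choose, ((exists_node N lam).choose_spec h).1⟩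

theorem dd_dvd_node (hNG : N ≤ commutator G) {mu lam : N →* ℂˣ} (hmu : mu ≠ 1) {r : ℕ}
    (hr : r.Prime) (ho : orderOf lam = r) (k : ℕ) (hk : mu ^ k = lam) :
    dd N lam ∣ (node N mu hmu : ℕ) := by
  obtain ⟨χ, hχ, hc⟩ := ((exists_node N mu).choose_spec hmu).2
  show dd N lam ∣ (exists_node N mu).choose
  rw [← hχ]
  exact dd_dvd N hNG χ ⟨_, isIrrCharacter_linear mu⟩ hc mu
    (fun n => (detChar_linear mu n).symm) hr ho k hk

theorem mulPow (a c : N →* ℂˣ) (k : ℕ) : (a * c) ^ k = a ^ k * c ^ k :=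
  MonoidHom.ext fun n => mul_pow (a n) (c n) k

theorem powMul (a : N →* ℂˣ) (i j : ℕ) : a ^ (i * j) = (a ^ i) ^ j :=
  MonoidHom.ext fun n => pow_mul (a n) i j

theorem powOne (lam : N →* ℂˣ) : lam ^ 1 = lam := MonoidHom.ext fun n => pow_one (lam n)

theorem ne_one_of_order {lam : N →* ℂˣ} {r : ℕ} (hr : r.Prime) (ho : orderOf lam = r) : lam ≠ 1 :=
  fun h => hr.ne_one (by rw [← ho, h, orderOf_one])

/-- Two characters of distinct prime orders. -/
theorem link_ne (hNG : N ≤ commutator G) {lam mu : N →* ℂˣ} {r s : ℕ} (hr : r.Prime)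
    (hs : s.Prime) (hlam : orderOf lam = r) (hmu : orderOf mu = s) (hne : r ≠ s) :
    (gr N).Reachable (node N lam (ne_one_of_order N hr hlam))
      (node N mu (ne_one_of_order N hs hmu)) := by
  have hrs : Nat.Coprime r s := (Nat.coprime_primes hr hs).2 hne
  have hν : lam * mu ≠ 1 := fun h => by
    have h' : lam = mu⁻¹ :=
      MonoidHom.ext fun n => eq_inv_of_mul_eq_one_left (DFunLike.congr_fun h n)
    apply hne
    rw [← hlam, ← hmu, h']
    refine orderOf_eq_orderOf_iff.2 fun k => ?_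
    constructor <;> intro e <;> ext n
    · simpa [← Units.val_pow_eq_pow_val] using DFunLike.congr_fun e n
    · have h1 : mu n ^ k = 1 := DFunLike.congr_fun e n
      simp [← Units.val_pow_eq_pow_val, h1]
  obtain ⟨i, hi⟩ := exists_pow_eq_self_of_coprime (x := lam) (n := s)
    (by rw [hlam]; exact hrs.symm)
  obtain ⟨j, hj⟩ := exists_pow_eq_self_of_coprime (x := mu) (n := r) (by rw [hmu]; exact hrs)
  refine (reach_of_dvd N _ (node N (lam * mu) hν) (one_lt_dd N hr hlam)
    (dd_dvd_node N hNG _ hr hlam 1 (powOne N _)) (dd_dvd_node N hNG hν hr hlam (s * i) ?_)).trans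
    (reach_of_dvd N _ _ (one_lt_dd N hs hmu) (dd_dvd_node N hNG hν hs hmu (r * j) ?_)
      (dd_dvd_node N hNG _ hs hmu 1 (powOne N _)))
  · rw [mulPow, powMul, hi, powMul, show mu ^ s = 1 from hmu ▸ pow_orderOf_eq_one mu]
    ext n
    simp
  · rw [mulPow, powMul, powMul N mu, hj, show lam ^ r = 1 from hlam ▸ pow_orderOf_eq_one lam]
    ext n
    simp

theorem exists_mul_of_coprime (K L : Subgroup G) (h : Nat.Coprime K.index L.index) (g : G) :
    ∃ a ∈ L, ∃ c ∈ K, g = a * c := by
  classical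
  let f : K → G ⧸ L := fun k => QuotientGroup.mk (k : G)
  have hcard : Nat.card (Set.range f) = Nat.card (G ⧸ L) := by
    have e : Nat.card (Set.range f) = L.relIndex K := by
      have hs : MulAction.stabilizer K ((1 : G) : G ⧸ L) = L.subgroupOf K := by
        ext k
        rw [MulAction.mem_stabilizer_iff, Subgroup.mem_subgroupOf]
        show ((((k : G) * 1 : G)) : G ⧸ L) = ((1 : G) : G ⧸ L) ↔ _
        rw [mul_one, QuotientGroup.eq, mul_one, L.inv_mem_iff]
      have ho : Set.range f = MulAction.orbit K ((1 : G) : G ⧸ L) := by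
        refine congrArg Set.range (funext fun k => ?_)
        show ((k : G) : G ⧸ L) = (((k : G) * 1 : G) : G ⧸ L)
        rw [mul_one]
      rw [Subgroup.relIndex, ← hs, MulAction.index_stabilizer, ho, Nat.card_coe_set_eq]
    have h1 : L.index ∣ L.relIndex K := by
      refine (Nat.Coprime.symm h).dvd_of_dvd_mul_right ?_
      have h2 : (L ⊓ K).index = L.relIndex K * K.index := by
        rw [← Subgroup.relIndex_mul_index (inf_le_right : L ⊓ K ≤ K), Subgroup.inf_relIndex_right]
      rw [← h2]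
      exact Subgroup.index_dvd_of_le inf_le_left
    have h2 : Nat.card (Set.range f) ≤ Nat.card (G ⧸ L) :=
      Nat.card_le_card_of_injective _ Subtype.val_injective
    rw [e, ← L.index_eq_card] at h2 ⊢
    exact le_antisymm h2 (Nat.le_of_dvd
      (Nat.pos_of_ne_zero Subgroup.FiniteIndex.index_ne_zero) h1)
  have hsurj : Set.range f = Set.univ :=
    Set.eq_univ_of_forall fun q => by
      by_contra hq
      exact absurd hcard (ne_of_lt (Finite.card_subtype_lt hq))
  obtain ⟨k, hk⟩ : (QuotientGroup.mk g⁻¹ : G ⧸ L) ∈ Set.range f := hsurj ▸ Set.mem_univ _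
  have h3 : (k : G)⁻¹ * g⁻¹ ∈ L := QuotientGroup.eq.1 hk
  exact ⟨((k : G)⁻¹ * g⁻¹)⁻¹, L.inv_mem h3, (k : G)⁻¹, K.inv_mem k.2, by group⟩

/-- The orbit-sum trick. -/
theorem not_coprime_of_orbit {lam mu : N →* ℂˣ} {r : ℕ} (hr : r.Prime)
    (hmu : orderOf mu = r) (hcop : Nat.Coprime (st N lam).index (st N mu).index)
    (htm : st N mu ≠ ⊤) (hrl : ¬ r ∣ (st N lam).index) :
    ¬ Nat.Coprime (st N (lam * mu)).index (st N mu).index := by
  classical
  intro hcop'
  have hinf : st N (lam * mu) ⊓ st N mu = st N lam ⊓ st N mu := by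
    ext g
    simp only [Subgroup.mem_inf, mem_st, cj_mul]
    constructor
    · rintro ⟨h1, h2⟩
      rw [h2] at h1
      exact ⟨mul_right_cancel h1, h2⟩
    · rintro ⟨h1, h2⟩
      exact ⟨by rw [h1, h2], h2⟩
  have hidx : ∀ K L : Subgroup G, Nat.Coprime K.index L.index →
      (K ⊓ L).index = K.index * L.index := by
    intro K L h
    refine Nat.dvd_antisymm ?_ (h.mul_dvd_of_dvd_of_dvd
      (Subgroup.index_dvd_of_le inf_le_left) (Subgroup.index_dvd_of_le inf_le_right))
    have h2 : (K ⊓ L).index = K.relIndex L * L.index := by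
      rw [← Subgroup.relIndex_mul_index (inf_le_right : K ⊓ L ≤ L), Subgroup.inf_relIndex_right]
    have h3 : K.relIndex L ≤ K.index := by
      rw [← Subgroup.relIndex_top_right]
      exact Subgroup.relIndex_le_of_le_right le_top (by
        rw [Subgroup.relIndex_top_right]; exact Subgroup.FiniteIndex.index_ne_zero)
    have h4 : K.index ∣ K.relIndex L := by
      refine h.dvd_of_dvd_mul_right ?_
      rw [← h2]
      exact Subgroup.index_dvd_of_le inf_le_left
    have h5 : 0 < (K ⊓ L).index := Nat.pos_of_ne_zero Subgroup.FiniteIndex.index_ne_zero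
    rw [h2] at h5 ⊢
    rw [le_antisymm h3 (Nat.le_of_dvd (Nat.pos_of_mul_pos_right h5) h4)]
  have ht : (st N (lam * mu)).index = (st N lam).index :=
    Nat.eq_of_mul_eq_mul_right (Nat.pos_of_ne_zero Subgroup.FiniteIndex.index_ne_zero)
      ((hidx _ _ hcop').symm.trans (hinf ▸ hidx _ _ hcop))
  obtain ⟨g, hg⟩ : ∃ g, g ∉ st N mu := by
    by_contra h
    push Not at h
    exact htm ((Subgroup.eq_top_iff' _).2 h)
  let orb : (N →* ℂˣ) → Set (N →* ℂˣ) := fun x => Set.range fun y : G => cj N y x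
  have horb : ∀ x, Nat.card (orb x) = (st N x).index := by
    intro x
    have : ∀ a c : G, cj N a x = cj N c x ↔ a * c⁻¹ ∈ st N x := by
      intro a c
      rw [mem_st, ← cj_cj]
      constructor
      · intro h
        rw [h, cj_cj, mul_inv_cancel]
        ext n; simp [cj_apply]
      · intro h
        conv_rhs => rw [← h]
        rw [cj_cj, cj_cj, inv_mul_cancel, mul_one]
    rw [Subgroup.index_eq_card]
    let F : G → orb x := fun a => ⟨cj N a⁻¹ x, a⁻¹, rfl⟩
    refine (Nat.card_congr (Equiv.ofBijective (Quotient.lift (s := QuotientGroup.leftRel (st N x))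
      F ?_) ⟨?_, ?_⟩)).symm
    · intro a c hac
      refine Subtype.ext ((this _ _).2 ?_)
      rw [inv_inv]
      exact QuotientGroup.leftRel_apply.1 hac
    · intro a c
      induction a using Quotient.inductionOn with | h a => ?_
      induction c using Quotient.inductionOn with | h c => ?_
      intro hac
      refine Quotient.sound (QuotientGroup.leftRel_apply.2 ?_)
      have := (this _ _).1 (congrArg Subtype.val hac)
      rwa [inv_inv] at this
    · rintro ⟨_, a, rfl⟩
      exact ⟨Quotient.mk'' a⁻¹, Subtype.ext (by simp [F])⟩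
  haveI : ∀ x, Fintype (orb x) := fun x => Set.fintypeRange _
  have hmul : ∀ y : G, (orb lam).toFinset.image (· * cj N y mu) = (orb (lam * mu)).toFinset := by
    intro y
    refine Finset.eq_of_subset_of_card_le (fun z hz => ?_) ?_
    · obtain ⟨w, hw, rfl⟩ := Finset.mem_image.1 hz
      obtain ⟨x, rfl⟩ := Set.mem_toFinset.1 hw
      obtain ⟨a, ha, c, hc, hac⟩ :=
        exists_mul_of_coprime (st N lam) (st N mu) hcop (y * x⁻¹)
      refine Set.mem_toFinset.2 ⟨c * x, ?_⟩
      show cj N (c * x) (lam * mu) = cj N x lam * cj N y mu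
      rw [show y = a * (c * x) by rw [← mul_assoc, ← hac, inv_mul_cancel_right],
        ← cj_cj N a, (mem_st N).1 ha, cj_mul, ← cj_cj N c x lam, (mem_st N).1 hc]
    · rw [Finset.card_image_of_injective _ (mul_left_injective _), Set.toFinset_card,
        Set.toFinset_card, ← Nat.card_eq_fintype_card, ← Nat.card_eq_fintype_card, horb, horb, ht]
  have h1 := hmul g
  rw [← hmul 1] at h1
  have h2 := congrArg (fun s : Finset (N →* ℂˣ) => ∏ z ∈ s, z) h1
  simp only [Finset.prod_image (mul_left_injective _).injOn, Finset.prod_mul_distrib,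
    Finset.prod_const, Set.toFinset_card, ← Nat.card_eq_fintype_card, horb] at h2
  have h3 := mul_left_cancel h2
  have h4 : cj N 1 mu = mu := (mem_st N).1 (st N mu).one_mem
  rw [h4] at h3
  apply hg
  rw [mem_st]
  have h5 : ∀ z : N →* ℂˣ, orderOf z = r → z ^ r = 1 := fun z hz => hz ▸ pow_orderOf_eq_one z
  obtain ⟨i, hi⟩ := exists_pow_eq_self_of_coprime (x := mu) (n := (st N lam).index)
    (by rw [hmu]; exact ((Nat.Prime.coprime_iff_not_dvd hr).2 hrl).symm)
  have hcpow : ∀ (z : N →* ℂˣ) (k : ℕ), (cj N g z) ^ k = cj N g (z ^ k) := fun z k => rfl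
  have h6 := congrArg (· ^ i) h3
  simp only [hcpow, hi] at h6
  exact h6

theorem exists_order (hm : 1 < (commutator N).index) {r : ℕ} (hr : r.Prime)
    (hd : r ∣ (commutator N).index) : ∃ lam : N →* ℂˣ, orderOf lam = r := by
  have : Fact r.Prime := ⟨hr⟩
  have hc := CharBasicLinear.card_hom_units (G := N)
  have : Finite (N →* ℂˣ) := Nat.finite_of_card_ne_zero (by rw [hc]; omega)
  exact exists_prime_orderOf_dvd_card' r (hc ▸ hd)

theorem order_dvd (hm : 1 < (commutator N).index) {lam : N →* ℂˣ} {r : ℕ}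
    (ho : orderOf lam = r) : r ∣ (commutator N).index := by
  have hc := CharBasicLinear.card_hom_units (G := N)
  rw [← ho, ← hc]
  exact orderOf_dvd_natCard lam

/-- Every degree is either tied to a linear character, or is divisible by all primes of `m`. -/
theorem classify (hNG : N ≤ commutator G) (hm : 1 < (commutator N).index) (x : relCharDegrees N) :
    (∀ r : ℕ, r.Prime → r ∣ (commutator N).index → r ∣ (x : ℕ)) ∨
    (∃ (r : ℕ) (hr : r.Prime) (lam : N →* ℂˣ) (ho : orderOf lam = r), dd N lam ∣ (x : ℕ) ∧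
        (gr N).Reachable x (node N lam (ne_one_of_order N hr ho))) ∨
    (∃ r : ℕ, r.Prime ∧ r ∣ (commutator N).index ∧
      ∀ (hr : r.Prime) (lam : N →* ℂˣ) (ho : orderOf lam = r),
        (gr N).Reachable x (node N lam (ne_one_of_order N hr ho))) := by
  classical
  obtain ⟨χ, hχ, hx⟩ := x.2
  obtain ⟨θ, hθ1, hc⟩ := exists_constituent_of_rel N χ hχ
  obtain ⟨δ, hδ⟩ := exists_det (isCharacter_of_isIrrCharacter θ.2)
  by_cases hδ1 : δ = 1
  · by_cases hall : ∀ r : ℕ, r.Prime → r ∣ (commutator N).index → r ∣ charDegree (θ : N → ℂ)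
    · obtain ⟨k, d, hd, hk, -⟩ := CharProjDegree.degree_dvd N χ.2 θ.2 hc
      rw [CharAverage.irr_apply_one, Nat.cast_inj] at hd hk
      left
      intro r hr hrm
      rw [← hx, hk, ← hd]
      exact (hall r hr hrm).mul_right k
    push Not at hall
    obtain ⟨r, hr, hrm, hrθ⟩ := hall
    right; right
    refine ⟨r, hr, hrm, fun hr lam ho => ?_⟩
    have hf2 : 1 < charDegree (θ : N → ℂ) := by
      have h0 := CharAverage.irr_degree_pos θ
      by_contra h
      apply hθ1
      obtain ⟨mu, hmu⟩ := CharBasicLinear.exists_hom_of_apply_one_eq_one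
        (isCharacter_of_isIrrCharacter θ.2)
        (by rw [CharAverage.irr_apply_one, show charDegree (θ : N → ℂ) = 1 by omega, Nat.cast_one])
      rw [hmu]
      funext n
      have h2 := hδ n
      rw [hδ1, hmu, detChar_linear, MonoidHom.one_apply, Units.val_one] at h2
      exact h2.symm
    set f := charDegree (θ : N → ℂ) with hf
    obtain ⟨i, hi⟩ := exists_pow_eq_self_of_coprime (x := lam) (n := f)
      (by rw [ho]; exact ((Nat.Prime.coprime_iff_not_dvd hr).2 hrθ).symm)
    let θ' : IrrCharacter N := ⟨_, isIrrCharacter_mul_linear θ.2 (lam ^ i)⟩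
    have hθ'1 : charDegree (θ' : N → ℂ) = f := by simp [θ', charDegree, hf]
    obtain ⟨χ', hc'⟩ := exists_over N θ'
    have hθ'ne : (θ' : N → ℂ) ≠ fun _ => 1 := fun h => by
      rw [h] at hθ'1
      simp [charDegree] at hθ'1
      omega
    have hmem := mem_rel N θ' hθ'ne χ' hc'
    have hdet : ∀ n, ((δ * (lam ^ i) ^ f) n : ℂ) = detChar (θ' : N → ℂ) n := fun n => by
      rw [show detChar (θ' : N → ℂ) n = _ from detChar_mul_linear
        (isCharacter_of_isIrrCharacter θ.2) (CharAverage.irr_apply_one θ) (lam ^ i) n, ← hδ,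
        MonoidHom.mul_apply, Units.val_mul, MonoidHom.pow_apply, Units.val_pow_eq_pow_val]
    have h1 : dd N lam ∣ charDegree (χ' : G → ℂ) :=
      dd_dvd N hNG χ' θ' hc' _ hdet hr ho 1 (by
        rw [powOne, ← powMul, mul_comm i f, powMul, hi, hδ1]
        ext n
        simp)
    refine (reach_of_dvd N x ⟨_, hmem⟩ hf2 ?_ ?_).trans
      (reach_of_dvd N _ _ (one_lt_dd N hr ho) h1 (dd_dvd_node N hNG _ hr ho 1 (powOne N _)))
    · obtain ⟨k, d, hd, hk, -⟩ := CharProjDegree.degree_dvd N χ.2 θ.2 hc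
      rw [CharAverage.irr_apply_one, Nat.cast_inj] at hd hk
      rw [← hx, hk, ← hd]
      exact dvd_mul_right _ _
    · obtain ⟨k, d, hd, hk, -⟩ := CharProjDegree.degree_dvd N χ'.2 θ'.2 hc'
      rw [CharAverage.irr_apply_one, Nat.cast_inj] at hd hk
      show f ∣ charDegree (χ' : G → ℂ)
      rw [hk, ← hd, hθ'1]
      exact dvd_mul_right _ _
  · right; left
    have hc0 := CharBasicLinear.card_hom_units (G := N)
    have : Finite (N →* ℂˣ) := Nat.finite_of_card_ne_zero (by rw [hc0]; omega)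
    have hne : orderOf δ ≠ 1 := fun h => hδ1 (orderOf_eq_one_iff.1 h)
    obtain ⟨r, hr, hrd⟩ := Nat.exists_prime_and_dvd hne
    obtain ⟨k, hk⟩ := hrd
    have hk0 : k ≠ 0 := fun h => (orderOf_pos δ).ne' (by rw [hk, h, mul_zero])
    have ho : orderOf (δ ^ k) = r := by
      rw [orderOf_pow_of_dvd hk0 ⟨r, by rw [hk, mul_comm]⟩, hk,
        Nat.mul_div_left r (Nat.pos_of_ne_zero hk0)]
    have h1 : dd N (δ ^ k) ∣ (x : ℕ) := hx ▸ dd_dvd N hNG χ θ hc δ hδ hr ho k rfl
    exact ⟨r, hr, _, ho, h1,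
      reach_of_dvd N _ _ (one_lt_dd N hr ho) h1 (dd_dvd_node N hNG _ hr ho 1 (powOne N _))⟩

/-- Degrees not divisible by all primes of `m` are connected. -/
theorem reach_of_not_all (hNG : N ≤ commutator G) (hm : 1 < (commutator N).index)
    (x y : relCharDegrees N)
    (hx : ¬ ∀ r : ℕ, r.Prime → r ∣ (commutator N).index → r ∣ (x : ℕ))
    (hy : ¬ ∀ r : ℕ, r.Prime → r ∣ (commutator N).index → r ∣ (y : ℕ)) :
    (gr N).Reachable x y := by
  classical
  by_cases htwo : ∃ r s : ℕ, r.Prime ∧ s.Prime ∧ r ∣ (commutator N).index ∧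
      s ∣ (commutator N).index ∧ r ≠ s
  · obtain ⟨r₀, s₀, hr₀, hs₀, hrm, hsm, hrs⟩ := htwo
    obtain ⟨lam₀, hl₀⟩ := exists_order N hm hr₀ hrm
    obtain ⟨mu₀, hm₀⟩ := exists_order N hm hs₀ hsm
    have key : ∀ (r : ℕ) (hr : r.Prime) (lam : N →* ℂˣ) (ho : orderOf lam = r),
        (gr N).Reachable (node N lam (ne_one_of_order N hr ho))
          (node N lam₀ (ne_one_of_order N hr₀ hl₀)) := by
      intro r hr lam ho
      by_cases h : r = r₀
      · exact (link_ne N hNG hr hs₀ ho hm₀ (h ▸ hrs)).trans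
          (link_ne N hNG hs₀ hr₀ hm₀ hl₀ (Ne.symm hrs))
      · exact link_ne N hNG hr hr₀ ho hl₀ h
    have toC : ∀ z : relCharDegrees N,
        (¬ ∀ r : ℕ, r.Prime → r ∣ (commutator N).index → r ∣ (z : ℕ)) →
        (gr N).Reachable z (node N lam₀ (ne_one_of_order N hr₀ hl₀)) := by
      intro z hz
      rcases classify N hNG hm z with h | ⟨r, hr, lam, ho, -, h⟩ | ⟨r, hr, hrm, h⟩
      · exact absurd h hz
      · exact h.trans (key r hr lam ho)
      · obtain ⟨lam, ho⟩ := exists_order N hm hr hrm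
        exact (h hr lam ho).trans (key r hr lam ho)
    exact (toC x hx).trans (toC y hy).symm
  push Not at htwo
  obtain ⟨r₀, hr₀, hrm₀⟩ := Nat.exists_prime_and_dvd (ne_of_gt hm)
  have huniq : ∀ r : ℕ, r.Prime → r ∣ (commutator N).index → r = r₀ := fun r hr hrm =>
    htwo r r₀ hr hr₀ hrm hrm₀
  have good_link : ∀ (lam mu : N →* ℂˣ) (hl : orderOf lam = r₀) (hu : orderOf mu = r₀),
      ¬ r₀ ∣ dd N lam → ¬ r₀ ∣ dd N mu →
      (gr N).Reachable (node N lam (ne_one_of_order N hr₀ hl))
        (node N mu (ne_one_of_order N hr₀ hu)) := by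
    intro lam mu hl hu hdl hdu
    have hsl : st N lam ≠ ⊤ := fun h => hdl (by rw [dd, if_pos h, hl])
    have hsu : st N mu ≠ ⊤ := fun h => hdu (by rw [dd, if_pos h, hu])
    rw [dd, if_neg hsl] at hdl
    rw [dd, if_neg hsu] at hdu
    have hmain : ∀ g : ℕ, 1 < g → ∀ (a c : N →* ℂˣ) (ha : orderOf a = r₀) (hc : orderOf c = r₀),
        st N a ≠ ⊤ → st N c ≠ ⊤ → g ∣ (st N a).index → g ∣ (st N c).index →
        (gr N).Reachable (node N a (ne_one_of_order N hr₀ ha))
          (node N c (ne_one_of_order N hr₀ hc)) := by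
      intro g hg a c ha hc hsa hsc hga hgc
      refine reach_of_dvd N _ _ hg (hga.trans ?_) (hgc.trans ?_)
      · have := dd_dvd_node N hNG (ne_one_of_order N hr₀ ha) hr₀ ha 1 (powOne N _)
        rwa [dd, if_neg hsa] at this
      · have := dd_dvd_node N hNG (ne_one_of_order N hr₀ hc) hr₀ hc 1 (powOne N _)
        rwa [dd, if_neg hsc] at this
    have hgcd : ∀ a c : N →* ℂˣ, ¬ Nat.Coprime (st N a).index (st N c).index →
        1 < Nat.gcd (st N a).index (st N c).index := fun a c h => by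
      have := Nat.gcd_pos_of_pos_left (st N c).index
        (Nat.pos_of_ne_zero (Subgroup.FiniteIndex.index_ne_zero (H := st N a)))
      have : Nat.gcd (st N a).index (st N c).index ≠ 1 := h
      omega
    by_cases hcop : Nat.Coprime (st N lam).index (st N mu).index
    · have h1 := not_coprime_of_orbit N hr₀ hu hcop hsu hdl
      have h2 := not_coprime_of_orbit N hr₀ hl hcop.symm hsl hdu
      rw [mul_comm mu lam] at h2
      have hν1 : lam * mu ≠ 1 := fun h => by
        rw [h] at h1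
        apply h1
        rw [show st N (1 : N →* ℂˣ) = ⊤ from (Subgroup.eq_top_iff' _).2 fun g => by
          rw [mem_st]; rfl, Subgroup.index_top]
        exact Nat.coprime_one_left _
      have hν : orderOf (lam * mu) = r₀ := by
        have : Fact r₀.Prime := ⟨hr₀⟩
        refine orderOf_eq_prime ?_ hν1
        rw [mulPow]
        nth_rw 1 [← hl]
        rw [← hu, pow_orderOf_eq_one, pow_orderOf_eq_one]
        ext n
        simp
      have hsν : st N (lam * mu) ≠ ⊤ := fun h => h1 (by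
        rw [h, Subgroup.index_top]; exact Nat.coprime_one_left _)
      exact (hmain _ (hgcd _ _ h2) _ _ hν hl hsν hsl (Nat.gcd_dvd_left _ _)
        (Nat.gcd_dvd_right _ _)).symm.trans
        (hmain _ (hgcd _ _ h1) _ _ hν hu hsν hsu (Nat.gcd_dvd_left _ _) (Nat.gcd_dvd_right _ _))
    · exact hmain _ (hgcd _ _ hcop) _ _ hl hu hsl hsu (Nat.gcd_dvd_left _ _)
        (Nat.gcd_dvd_right _ _)
  have hnot : ∀ z : relCharDegrees N,
      (¬ ∀ r : ℕ, r.Prime → r ∣ (commutator N).index → r ∣ (z : ℕ)) → ¬ r₀ ∣ (z : ℕ) :=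
    fun z hz h => hz fun r hr hrm => (huniq r hr hrm) ▸ h
  have hcases : ∀ z : relCharDegrees N,
      (¬ ∀ r : ℕ, r.Prime → r ∣ (commutator N).index → r ∣ (z : ℕ)) →
      (∃ (lam : N →* ℂˣ) (ho : orderOf lam = r₀), ¬ r₀ ∣ dd N lam ∧
          (gr N).Reachable z (node N lam (ne_one_of_order N hr₀ ho))) ∨
      ∀ (lam : N →* ℂˣ) (ho : orderOf lam = r₀),
        (gr N).Reachable z (node N lam (ne_one_of_order N hr₀ ho)) := by
    intro z hz
    rcases classify N hNG hm z with h | ⟨r, hr, lam, ho, hd, h⟩ | ⟨r, hr, hrm, h⟩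
    · exact absurd h hz
    · obtain rfl : r = r₀ := huniq r hr (order_dvd N hm ho)
      exact Or.inl ⟨lam, ho, fun h' => hnot z hz (h'.trans hd), h⟩
    · obtain rfl : r = r₀ := huniq r hr hrm
      exact Or.inr (h hr)
  rcases hcases x hx with ⟨lx, hlx, hgx, hx'⟩ | hx' <;>
    rcases hcases y hy with ⟨ly, hly, hgy, hy'⟩ | hy'
  · exact (hx'.trans (good_link lx ly hlx hly hgx hgy)).trans hy'.symm
  · exact hx'.trans (hy' lx hlx).symm
  · exact (hx' ly hly).trans hy'.symm
  · obtain ⟨lam, ho⟩ := exists_order N hm hr₀ hrm₀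
    exact (hx' lam ho).trans (hy' lam ho).symm

theorem reach_of_all (hm : 1 < (commutator N).index) (x y : relCharDegrees N)
    (hx : ∀ r : ℕ, r.Prime → r ∣ (commutator N).index → r ∣ (x : ℕ))
    (hy : ∀ r : ℕ, r.Prime → r ∣ (commutator N).index → r ∣ (y : ℕ)) :
    (gr N).Reachable x y := by
  obtain ⟨r, hr, hrm⟩ := Nat.exists_prime_and_dvd (ne_of_gt hm)
  exact reach_of_dvd N x y hr.one_lt (hx r hr hrm) (hy r hr hrm)

omit hN in
/-- Let N be a normal subgroup of the finite group G that is not perfect and is contained in the derived subgroup of G. Consider the common-divisor graph on the relative degree set cd(G|N) (the degrees of the irreducible complex characters of G whose kernel does not contain N; two distinct degrees adjacent when they have a common divisor greater than one). Then this graph has at most two connected components; and if a, b ∈ cd(G|N) lie in different components, then one of a, b is coprime to the index m of the derived subgroup of N in N while the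 other is divisible by every prime divisor of m. -/
theorem result {G : Type*} [Group G] [Finite G] (N : Subgroup G) [N.Normal] (hN : ⁅N, N⁆ < N) (hNG : N ≤ commutator G) : Nat.card (Cfsg.commonDivisorGraph.induce (Cfsg.relCharDegrees N)).ConnectedComponent ≤ 2 ∧ ∀ (a b : ℕ) (ha : a ∈ Cfsg.relCharDegrees N) (hb : b ∈ Cfsg.relCharDegrees N), ¬ (Cfsg.commonDivisorGraph.induce (Cfsg.relCharDegrees N)).Reachable ⟨a, ha⟩ ⟨b, hb⟩ → (Nat.Coprime a (⁅N, N⁆.relIndex N) ∧ ∀ r : ℕ, r.Prime → r ∣ ⁅N, N⁆.relIndex N → r ∣ b) ∨ (Nat.Coprime b (⁅N, N⁆.relIndex N) ∧ ∀ r : ℕ, r.Prime → r ∣ ⁅N, N⁆.relIndex N → r ∣ a) := by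
  classical
  have he : ⁅N, N⁆.relIndex N = (commutator N).index := by
    rw [Subgroup.relIndex, ← Subgroup.map_subtype_commutator, Subgroup.subgroupOf,
      Subgroup.comap_map_eq_self_of_injective N.subtype_injective]
  have hm : 1 < (commutator N).index := by
    have h1 : ⁅N, N⁆.relIndex N ≠ 1 := fun h => not_le_of_gt hN (Subgroup.relIndex_eq_one.1 h)
    have h2 : (commutator N).index ≠ 0 := Subgroup.FiniteIndex.index_ne_zero
    omega
  refine ⟨?_, ?_⟩
  · let F : (gr N).ConnectedComponent → Bool := fun c =>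
      decide (∀ r : ℕ, r.Prime → r ∣ (commutator N).index → r ∣ (c.out : ℕ))
    have hF : Function.Injective F := by
      intro c c' h
      rw [← c.out_eq, ← c'.out_eq]
      refine SimpleGraph.ConnectedComponent.sound ?_
      simp only [F, decide_eq_decide] at h
      by_cases hp : ∀ r : ℕ, r.Prime → r ∣ (commutator N).index → r ∣ (c.out : ℕ)
      · exact reach_of_all N hm _ _ hp (h.1 hp)
      · exact reach_of_not_all N hNG hm _ _ hp (mt h.2 hp)
    refine (Nat.card_le_card_of_injective F hF).trans (le_of_eq ?_)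
    rw [Nat.card_congr finTwoEquiv.symm, Nat.card_fin]
  · intro a b ha hb hab
    rw [he]
    have key : ∀ (x y : relCharDegrees N), ¬ (gr N).Reachable x y →
        (∀ r : ℕ, r.Prime → r ∣ (commutator N).index → r ∣ (y : ℕ)) →
        Nat.Coprime (x : ℕ) (commutator N).index := by
      intro x y hxy hy
      refine Nat.coprime_of_dvd fun k hk hkx hkm => hxy ?_
      exact reach_of_dvd N x y hk.one_lt hkx (hy k hk hkm)
    by_cases hA : ∀ r : ℕ, r.Prime → r ∣ (commutator N).index → r ∣ a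
    · exact Or.inr ⟨key ⟨b, hb⟩ ⟨a, ha⟩ (fun h => hab h.symm) hA, hA⟩
    · by_cases hB : ∀ r : ℕ, r.Prime → r ∣ (commutator N).index → r ∣ b
      · exact Or.inl ⟨key ⟨a, ha⟩ ⟨b, hb⟩ hab hB, hB⟩
      · exact absurd (reach_of_not_all N hNG hm ⟨a, ha⟩ ⟨b, hb⟩ hA hB) hab

end Cfsg.Agent.S4776
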