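import Cfsg.Statements.S4779
import Mathlib
import Cfsg.Agent.S4776

set_option autoImplicit false
open Cfsg

namespace Cfsg.Agent.S4779
open Cfsg.Agent.CharBasic Cfsg.Agent.CharBasicOrth Cfsg.Agent.CharBasicDecomp Cfsg.Agent.CharInduced
open Cfsg.Agent.CharDet73 Cfsg.Agent.S4776

universe w

noncomputable local instance (priority := high) fintypeFin4779 {α : Type*} [Finite α] : Fintype α :=
  Fintype.ofFinite α

variable {G : Type w} [Group G] [Finite G] (N : Subgroup G) [hN : N.Normal]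

theorem charDegree_constituent_dvd {χ : IrrCharacter G} {θ : IrrCharacter N}
    (hc : classInner (fun n : N => (χ : G → ℂ) n) (θ : N → ℂ) ≠ 0) :
    charDegree (θ : N → ℂ) ∣ charDegree (χ : G → ℂ) := by
  obtain ⟨k, d, hd, hk, -⟩ := CharProjDegree.degree_dvd N χ.2 θ.2 hc
  rw [CharAverage.irr_apply_one, Nat.cast_inj] at hd hk
  rw [hk, ← hd]
  exact dvd_mul_right _ _

/-- Two kinds of degrees which are not divisible by all primes of `m`. -/
theorem types (hNG : N ≤ commutator G) (hm : 1 < (commutator N).index) (χ : IrrCharacter G)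
    (hχ : ∃ x ∈ N, (χ : G → ℂ) x ≠ (χ : G → ℂ) 1) :
    (∃ (r : ℕ) (_ : r.Prime) (lam : N →* ℂˣ), orderOf lam = r ∧
        dd N lam ∣ charDegree (χ : G → ℂ)) ∨
      ∃ θ : IrrCharacter N, classInner (fun n : N => (χ : G → ℂ) n) (θ : N → ℂ) ≠ 0 ∧
        1 < charDegree (θ : N → ℂ) ∧
        ∀ n, detChar (θ : N → ℂ) n = 1 := by
  classical
  obtain ⟨θ, hθ1, hc⟩ := exists_constituent_of_rel N χ hχ
  obtain ⟨δ, hδ⟩ := exists_det (isCharacter_of_isIrrCharacter θ.2)
  by_cases hδ1 : δ = 1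
  · right
    refine ⟨θ, hc, ?_, fun n => by rw [← hδ, hδ1, MonoidHom.one_apply, Units.val_one]⟩
    have h0 := CharAverage.irr_degree_pos θ
    by_contra h
    apply hθ1
    obtain ⟨mu, hmu⟩ := CharBasicLinear.exists_hom_of_apply_one_eq_one
      (isCharacter_of_isIrrCharacter θ.2)
      (by rw [CharAverage.irr_apply_one, show charDegree (θ : N → ℂ) = 1 by omega, Nat.cast_one])
    rw [hmu]
    funext n
    have h2 := hδ n
    rw [hδ1, hmu, detChar_linear, MonoidHom.one_apply, Units.val_one] at h2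
    exact h2.symm
  · left
    have hc0 := CharBasicLinear.card_hom_units (G := N)
    have : Finite (N →* ℂˣ) := Nat.finite_of_card_ne_zero (by rw [hc0]; omega)
    have hne : orderOf δ ≠ 1 := fun h => hδ1 (orderOf_eq_one_iff.1 h)
    obtain ⟨r, hr, hrd⟩ := Nat.exists_prime_and_dvd hne
    obtain ⟨k, hk⟩ := hrd
    have hk0 : k ≠ 0 := fun h => (orderOf_pos δ).ne' (by rw [hk, h, mul_zero])
    have ho : orderOf (δ ^ k) = r := by
      rw [orderOf_pow_of_dvd hk0 ⟨r, by rw [hk, mul_comm]⟩, hk,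
        Nat.mul_div_left r (Nat.pos_of_ne_zero hk0)]
    exact ⟨r, hr, _, ho, dd_dvd N hNG χ θ hc δ hδ hr ho k rfl⟩

/-- Twisting by a linear character. -/
theorem exists_twist (hNG : N ≤ commutator G) (θ : IrrCharacter N)
    (hf : 1 < charDegree (θ : N → ℂ)) (hdet : ∀ n, detChar (θ : N → ℂ) n = 1)
    {r : ℕ} (hr : r.Prime) (lam : N →* ℂˣ) (ho : orderOf lam = r)
    (hrf : ¬ r ∣ charDegree (θ : N → ℂ)) :
    ∃ z : relCharDegrees N, charDegree (θ : N → ℂ) ∣ (z : ℕ) ∧ dd N lam ∣ (z : ℕ) := by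
  classical
  set f := charDegree (θ : N → ℂ) with hfdef
  obtain ⟨i, hi⟩ := exists_pow_eq_self_of_coprime (x := lam) (n := f)
    (by rw [ho]; exact ((Nat.Prime.coprime_iff_not_dvd hr).2 hrf).symm)
  let θ' : IrrCharacter N := ⟨_, isIrrCharacter_mul_linear θ.2 (lam ^ i)⟩
  have hθ'1 : charDegree (θ' : N → ℂ) = f := by simp [θ', charDegree, hfdef]
  obtain ⟨χ', hc'⟩ := exists_over N θ'
  have hne : (θ' : N → ℂ) ≠ fun _ => 1 := fun h => by
    rw [h] at hθ'1
    simp [charDegree] at hθ'1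
    omega
  have hd : ∀ n, ((((lam ^ i) ^ f : N →* ℂˣ)) n : ℂ) = detChar (θ' : N → ℂ) n := fun n => by
    rw [show detChar (θ' : N → ℂ) n = _ from detChar_mul_linear
      (isCharacter_of_isIrrCharacter θ.2) (CharAverage.irr_apply_one θ) (lam ^ i) n, hdet, one_mul,
      MonoidHom.pow_apply, Units.val_pow_eq_pow_val]
  refine ⟨⟨_, mem_rel N θ' hne χ' hc'⟩, ?_, ?_⟩
  · have := charDegree_constituent_dvd N hc'
    rwa [hθ'1] at this
  · exact dd_dvd N hNG χ' θ' hc' _ hd hr ho 1 (by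
      rw [powOne, ← powMul, mul_comm i f, powMul, hi])

theorem adj_or_common (b c z : relCharDegrees N) (hbc : b ≠ c) {d e : ℕ} (hd : 1 < d) (he : 1 < e)
    (hb : d ∣ (b : ℕ)) (hz : d ∣ (z : ℕ)) (hz' : e ∣ (z : ℕ)) (hc : e ∣ (c : ℕ)) :
    (gr N).Adj b c ∨ ∃ d : relCharDegrees N, (gr N).Adj b d ∧ (gr N).Adj d c := by
  have key : ∀ (u v : relCharDegrees N) (k : ℕ), u ≠ v → 1 < k → k ∣ (u : ℕ) → k ∣ (v : ℕ) →
      (gr N).Adj u v := fun u v k huv hk hu hv => by
    refine ⟨fun h => huv (Subtype.ext h), ?_⟩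
    exact lt_of_lt_of_le hk (Nat.le_of_dvd (Nat.gcd_pos_of_pos_left _ (deg_pos N u.2))
      (Nat.dvd_gcd hu hv))
  rcases eq_or_ne b z with rfl | hbz
  · exact Or.inl (key b c e hbc he hz' hc)
  rcases eq_or_ne z c with rfl | hzc
  · exact Or.inl (key b z d hbc hd hb hz)
  exact Or.inr ⟨z, key b z d hbz hd hb hz, key z c e hzc he hz' hc⟩

/-- A common divisor partner for two linear characters. -/
theorem linear_mid (hNG : N ≤ commutator G) {lam mu : N →* ℂˣ} {r s : ℕ} (hr : r.Prime)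
    (hs : s.Prime) (hl : orderOf lam = r) (hu : orderOf mu = s)
    (hdl : ¬ r ∣ dd N lam) (hdu : ¬ s ∣ dd N mu) :
    ∃ (z : relCharDegrees N) (d e : ℕ), 1 < d ∧ 1 < e ∧ d ∣ dd N lam ∧ d ∣ (z : ℕ) ∧
      e ∣ (z : ℕ) ∧ e ∣ dd N mu := by
  classical
  by_cases hrs : r = s
  · subst hrs
    have hsl : st N lam ≠ ⊤ := fun h => hdl (by rw [dd, if_pos h, hl])
    have hsu : st N mu ≠ ⊤ := fun h => hdu (by rw [dd, if_pos h, hu])
    have el : dd N lam = (st N lam).index := by rw [dd, if_neg hsl]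
    have eu : dd N mu = (st N mu).index := by rw [dd, if_neg hsu]
    have hgcd : ∀ a c : N →* ℂˣ, ¬ Nat.Coprime (st N a).index (st N c).index →
        1 < Nat.gcd (st N a).index (st N c).index := fun a c h => by
      have := Nat.gcd_pos_of_pos_left (st N c).index
        (Nat.pos_of_ne_zero (Subgroup.FiniteIndex.index_ne_zero (H := st N a)))
      have : Nat.gcd (st N a).index (st N c).index ≠ 1 := h
      omega
    by_cases hcop : Nat.Coprime (st N lam).index (st N mu).index
    · rw [el] at hdl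
      rw [eu] at hdu
      have h1 := not_coprime_of_orbit N hr hu hcop hsu hdl
      have h2 := not_coprime_of_orbit N hr hl hcop.symm hsl hdu
      rw [mul_comm mu lam] at h2
      have hν1 : lam * mu ≠ 1 := fun h => by
        rw [h] at h1
        apply h1
        rw [show st N (1 : N →* ℂˣ) = ⊤ from (Subgroup.eq_top_iff' _).2 fun g => by
          rw [S4776.mem_st]; rfl, Subgroup.index_top]
        exact Nat.coprime_one_left _
      have hν : orderOf (lam * mu) = r := by
        have : Fact r.Prime := ⟨hr⟩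
        refine orderOf_eq_prime ?_ hν1
        rw [mulPow]
        nth_rw 1 [← hl]
        rw [← hu, pow_orderOf_eq_one, pow_orderOf_eq_one]
        ext n
        simp
      have hsν : st N (lam * mu) ≠ ⊤ := fun h => h1 (by
        rw [h, Subgroup.index_top]; exact Nat.coprime_one_left _)
      have hdν := dd_dvd_node N hNG hν1 hr hν 1 (powOne N _)
      rw [dd, if_neg hsν] at hdν
      refine ⟨node N _ hν1, _, _, hgcd _ _ h2, hgcd _ _ h1, el ▸ Nat.gcd_dvd_right _ _,
        (Nat.gcd_dvd_left _ _).trans hdν, (Nat.gcd_dvd_left _ _).trans hdν,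
        eu ▸ Nat.gcd_dvd_right _ _⟩
    · have hd := dd_dvd_node N hNG (ne_one_of_order N hr hl) hr hl 1 (powOne N _)
      rw [el] at hd
      exact ⟨node N lam (ne_one_of_order N hr hl), _, _, hgcd _ _ hcop, hgcd _ _ hcop,
        el ▸ Nat.gcd_dvd_left _ _, (Nat.gcd_dvd_left _ _).trans hd,
        (Nat.gcd_dvd_left _ _).trans hd, eu ▸ Nat.gcd_dvd_right _ _⟩
  · have hrsc : Nat.Coprime r s := (Nat.coprime_primes hr hs).2 hrs
    have hν : lam * mu ≠ 1 := fun h => by
      have h' : lam = mu⁻¹ :=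
        MonoidHom.ext fun n => eq_inv_of_mul_eq_one_left (DFunLike.congr_fun h n)
      apply hrs
      rw [← hl, ← hu, h']
      refine orderOf_eq_orderOf_iff.2 fun k => ?_
      constructor <;> intro e <;> ext n
      · simpa [← Units.val_pow_eq_pow_val] using DFunLike.congr_fun e n
      · have h1 : mu n ^ k = 1 := DFunLike.congr_fun e n
        simp [← Units.val_pow_eq_pow_val, h1]
    obtain ⟨i, hi⟩ := exists_pow_eq_self_of_coprime (x := lam) (n := s)
      (by rw [hl]; exact hrsc.symm)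
    obtain ⟨j, hj⟩ := exists_pow_eq_self_of_coprime (x := mu) (n := r) (by rw [hu]; exact hrsc)
    refine ⟨node N (lam * mu) hν, _, _, one_lt_dd N hr hl, one_lt_dd N hs hu, dvd_rfl,
      dd_dvd_node N hNG hν hr hl (s * i) ?_, dd_dvd_node N hNG hν hs hu (r * j) ?_, dvd_rfl⟩
    · rw [mulPow, powMul, hi, powMul, show mu ^ s = 1 from hu ▸ pow_orderOf_eq_one mu]
      ext n
      simp
    · rw [mulPow, powMul, powMul N mu, hj, show lam ^ r = 1 from hl ▸ pow_orderOf_eq_one lam]
      ext n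
      simp

theorem apply_one_of_trivial_on (θ : IrrCharacter N)
    (h : ∀ k ∈ commutator N, (θ : N → ℂ) k = (θ : N → ℂ) 1) : charDegree (θ : N → ℂ) = 1 := by
  obtain ⟨ψ, hψ⟩ := CharKernel.exists_quot_irr (commutator N) θ h
  have h1 := CharBasicLinear.apply_one_eq_one_of_comm (G := N ⧸ commutator N)
    (fun u v => (Subgroup.Normal.quotient_commutative_iff_commutator_le.2 le_rfl).is_comm.comm u v)
    ψ.2
  have h2 := hψ 1
  rw [CharAverage.irr_apply_one, QuotientGroup.mk_one, h1] at h2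
  exact_mod_cast h2

/-- A constituent nontrivial on `K` gives a character of `G` nontrivial on `K`. -/
theorem rel_of_constituent {K : Subgroup G} [K.Normal] (hKN : K ≤ N) (χ : IrrCharacter G)
    (θ : IrrCharacter N) (hc : classInner (fun n : N => (χ : G → ℂ) n) (θ : N → ℂ) ≠ 0)
    (k : K) (hk : (θ : N → ℂ) ⟨k, hKN k.2⟩ ≠ (θ : N → ℂ) 1) :
    ∃ x ∈ K, (χ : G → ℂ) x ≠ (χ : G → ℂ) 1 := by
  classical
  by_contra h
  push Not at h
  let inc : K →* N := Subgroup.inclusion hKN
  have h1 := isCharacter_sub_constituent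
    (isCharacter_res N (isCharacter_of_isIrrCharacter χ.2)) θ.2 hc
  set a : K → ℂ := fun x => (θ : N → ℂ) (inc x) with ha
  set c : K → ℂ := fun x => ((fun n : N => (χ : G → ℂ) n) - (θ : N → ℂ)) (inc x) with hcdef
  have hA : IsCharacter K a := isCharacter_comap inc (isCharacter_of_isIrrCharacter θ.2)
  have hC : IsCharacter K c := isCharacter_comap inc h1
  obtain ⟨ma, hma, hsuma⟩ := exists_mult hA
  obtain ⟨mc, hmc, -⟩ := exists_mult hC
  have hzero : ∀ ψ : IrrCharacter K, (ψ : K → ℂ) ≠ (fun _ => 1) → ma ψ = 0 := by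
    intro ψ hψ
    have h2 : classInner (a + c) (ψ : K → ℂ) = 0 := by
      rw [show a + c = (χ : G → ℂ) 1 • (fun _ : K => (1 : ℂ)) from funext fun x => by
          simp [ha, hcdef, inc, h x x.2],
        CharBasicOrth.classInner_smul_left, classInner_irr_ne isIrrCharacter_one ψ.2 hψ.symm,
        mul_zero]
    rw [CharBasicOrth.classInner_add_left, hma, hmc, ← Nat.cast_add, Nat.cast_eq_zero] at h2
    omega
  apply hk
  have hconst : ∀ x : K, a x = a 1 := fun x => by
    rw [hsuma, Finset.sum_apply, Finset.sum_apply]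
    refine Finset.sum_congr rfl fun ψ _ => ?_
    by_cases hψ : (ψ : K → ℂ) = fun _ => 1
    · simp [hψ]
    · simp [hzero ψ hψ]
  have h3 := hconst k
  simp only [ha, map_one] at h3
  exact h3

/-- Characters over nontrivial linear characters of `N'` have degree not prime to `m`. -/
theorem not_coprime_over (K : Subgroup G) [K.Normal] (hKN : K ≤ N)
    (hK : ∀ x : N, x ∈ commutator N ↔ (x : G) ∈ K) (φ : K →* ℂˣ) (hφ : φ ≠ 1)
    (χ : IrrCharacter G)
    (hc : classInner (fun k : K => (χ : G → ℂ) k) (fun k => (φ k : ℂ)) ≠ 0) :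
    ¬ Nat.Coprime (charDegree (χ : G → ℂ)) (commutator N).index := by
  classical
  intro hcop
  obtain ⟨θ, hθ, hcθ⟩ := exists_constituent
    (isCharacter_res N (isCharacter_of_isIrrCharacter χ.2))
    (fun h0 => isIrrCharacter_apply_one_ne_zero χ.2 (congrFun h0 1))
  obtain ⟨ψ, hψ, hcψ⟩ := exists_constituent
    (isCharacter_res (commutator N) (isCharacter_of_isIrrCharacter hθ))
    (fun h0 => isIrrCharacter_apply_one_ne_zero hθ (congrFun h0 1))
  obtain ⟨k, d, hd, hk, hkm⟩ := CharProjDegree.degree_dvd (commutator N) hθ hψ hcψ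
  have hθdvd := charDegree_constituent_dvd N (θ := ⟨θ, hθ⟩) hcθ
  change charDegree θ ∣ _ at hθdvd
  have hθdeg : θ 1 = (charDegree θ : ℂ) := CharAverage.irr_apply_one (⟨θ, hθ⟩ : IrrCharacter N)
  rw [hθdeg, Nat.cast_inj] at hk
  have hk1 : k = 1 := Nat.eq_one_of_dvd_coprimes hcop
    ((Dvd.intro_left d hk.symm).trans hθdvd) hkm
  rw [hk1, mul_one] at hk
  have hres : (fun n : commutator N => θ n) = ψ := by
    refine eq_of_constituent_of_apply_one_le
      (isCharacter_res (commutator N) (isCharacter_of_isIrrCharacter hθ)) hψ hcψ (le_of_eq ?_)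
    show (θ ((1 : commutator N) : N)).re = (ψ 1).re
    rw [OneMemClass.coe_one, hθdeg, hd, hk]
  -- transport to `K`
  let e : K →* commutator N :=
    { toFun := fun x => ⟨⟨x, hKN x.2⟩, (hK ⟨x, hKN x.2⟩).2 x.2⟩
      map_one' := rfl
      map_mul' := fun _ _ => rfl }
  have hesurj : Function.Surjective e := fun y => ⟨⟨((y : N) : G), (hK y).1 y.2⟩, rfl⟩
  have hirr : IsIrrCharacter K (ψ ∘ e) := isIrrCharacter_comap e hesurj hψ
  have hcK : classInner (fun x : K => (χ : G → ℂ) x) (ψ ∘ e) ≠ 0 := by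
    have h1 := isCharacter_sub_constituent
      (isCharacter_res N (isCharacter_of_isIrrCharacter χ.2)) hθ hcθ
    let inc : K →* N := Subgroup.inclusion hKN
    obtain ⟨n, hn⟩ : ∃ n : ℕ, classInner
        (fun x : K => ((fun n : N => (χ : G → ℂ) n) - θ) (inc x)) (ψ ∘ e) = n :=
      classInner_isCharacter (isCharacter_comap inc h1) (isCharacter_of_isIrrCharacter hirr)
    have e1 : (fun x : K => (χ : G → ℂ) x) =
        (ψ ∘ e) + fun x => ((fun n : N => (χ : G → ℂ) n) - θ) (inc x) := by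
      funext x
      have := congrFun hres (e x)
      simp only [Pi.add_apply, Function.comp_apply, ← this, Pi.sub_apply]
      show (χ : G → ℂ) x = θ ⟨x, hKN x.2⟩ + ((χ : G → ℂ) x - θ ⟨x, hKN x.2⟩)
      ring
    rw [e1, CharBasicOrth.classInner_add_left, classInner_irr_self hirr, hn, ← Nat.cast_one,
      ← Nat.cast_add]
    exact Nat.cast_ne_zero.2 (by omega)
  obtain ⟨g, hg⟩ := (mem_orbitFin K).1
    (mem_orbit_of_constituents K χ.2 (isIrrCharacter_linear φ) hirr hc hcK)
  have hlin : ψ 1 = 1 := by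
    have := congrFun hg 1
    simp only [Function.comp_apply, map_one] at this
    rw [← this]
    show ((φ _ : ℂˣ) : ℂ) = 1
    have h1 : (⟨g * ((1 : K) : G) * g⁻¹, ‹K.Normal›.conj_mem _ (1 : K).2 g⟩ : K) = 1 :=
      Subtype.ext (by simp)
    rw [h1, map_one, Units.val_one]
  rw [hlin] at hd
  obtain ⟨mu, hmu⟩ := CharBasicLinear.exists_hom_of_apply_one_eq_one
    (isCharacter_of_isIrrCharacter hθ) (by rw [hθdeg, hk, ← hd])
  apply hφ
  ext x
  obtain ⟨y, rfl⟩ : ∃ y : K, (⟨g * y * g⁻¹, ‹K.Normal›.conj_mem _ y.2 g⟩ : K) = x :=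
    ⟨⟨g⁻¹ * x * g, by simpa using ‹K.Normal›.conj_mem _ x.2 g⁻¹⟩, Subtype.ext (by simp [mul_assoc])⟩
  have h2 := congrFun hg y
  simp only [Function.comp_apply] at h2
  have h3 : ψ (e y) = 1 := by
    rw [← congrFun hres (e y)]
    show θ ((e y : commutator N) : N) = 1
    rw [hmu]
    show ((mu ((e y : commutator N) : N) : ℂˣ) : ℂ) = 1
    rw [MonoidHom.mem_ker.1 (Abelianization.commutator_subset_ker mu (e y).2), Units.val_one]
  rw [h3] at h2
  rw [MonoidHom.one_apply, Units.val_one]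
  exact h2

theorem disconnected_facts (hNG : N ≤ commutator G) (hm : 1 < (commutator N).index)
    (hdisc : ¬ (gr N).Preconnected) :
    ∃ a₀ : relCharDegrees N,
      (∀ r : ℕ, r.Prime → r ∣ (commutator N).index → r ∣ (a₀ : ℕ)) ∧
      ∀ b : relCharDegrees N, ¬ (gr N).Reachable a₀ b →
        Nat.Coprime (b : ℕ) (commutator N).index := by
  classical
  obtain ⟨a, ha⟩ : ∃ a : relCharDegrees N,
      ∀ r : ℕ, r.Prime → r ∣ (commutator N).index → r ∣ (a : ℕ) := by
    by_contra h
    exact hdisc fun x y => reach_of_not_all N hNG hm x y (not_exists.1 h x) (not_exists.1 h y)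
  refine ⟨a, ha, fun b hb => Nat.coprime_of_dvd fun k hk hkb hkm => hb ?_⟩
  exact (reach_of_dvd N b a hk.one_lt hkb (ha k hk hkm)).symm

omit hN in
/-- Let N be a solvable normal subgroup of the finite group G contained in the derived subgroup of G, and consider the common-divisor graph on the relative degree set cd(G|N) (degrees of irreducible complex characters of G whose kernel does not contain N, two distinct degrees adjacent when not coprime). If this graph has two vertices that are not joined by any path, then there is a vertex a₀ such that any two distinct vertices in the component of a₀ are adjacent, and any two distinct vertices outside that component are adjacent or have a common neighbour (one component is complete, the other has diameter at most 2). -/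
theorem result {G : Type*} [Group G] [Finite G] (N : Subgroup G) [N.Normal] [Group.IsSolvable N] (hNG : N ≤ commutator G) (hdisc : ¬ (Cfsg.commonDivisorGraph.induce (Cfsg.relCharDegrees N)).Preconnected) : ∃ a₀ : ↥(Cfsg.relCharDegrees N), (∀ b c : ↥(Cfsg.relCharDegrees N), (Cfsg.commonDivisorGraph.induce (Cfsg.relCharDegrees N)).Reachable a₀ b → (Cfsg.commonDivisorGraph.induce (Cfsg.relCharDegrees N)).Reachable a₀ c → b ≠ c → (Cfsg.commonDivisorGraph.induce (Cfsg.relCharDegrees N)).Adj b c) ∧ (∀ b c : ↥(Cfsg.relCharDegrees N), ¬ (Cfsg.commonDivisorGraph.induce (Cfsg.relCharDegrees N)).Reachable a₀ b → ¬ (Cfsg.commonDivisorGraph.induce (Cfsg.relCharDegrees N)).Reachable a₀ c → b ≠ c → (Cfsg.commonDivisorGraph.induce (Cfsg.relCharDegrees N)).Adj b c ∨ ∃ d : ↥(Cfsg.relCharDegrees N), (Cfsg.commonDivisorGraph.induce (Cfsg.relCharDegrees N)).Adj b d ∧ (Cfsg.commonDivisorGraph.induce (Cfsg.relCharDegrees N)).Adj d c) := by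
  classical
  have hN1 : N ≠ ⊥ := by
    rintro rfl
    apply hdisc
    rintro ⟨x, χ, ⟨y, hy, hne⟩, -⟩
    exact absurd rfl (Subgroup.mem_bot.1 hy ▸ hne)
  have : Nontrivial N := (Subgroup.nontrivial_iff_ne_bot N).2 hN1
  have hidx : ∀ (H : Type _) [Group H] [Finite H] [Group.IsSolvable H] [Nontrivial H],
      1 < (commutator H).index := by
    intro H _ _ _ _
    have h1 : (commutator H).index ≠ 1 := fun h =>
      (Group.IsSolvable.commutator_lt_top_of_nontrivial H).ne (Subgroup.index_eq_one.1 h)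
    have h2 : (commutator H).index ≠ 0 := Subgroup.FiniteIndex.index_ne_zero
    omega
  have hm : 1 < (commutator N).index := hidx N
  obtain ⟨a₀, ha₀, hco⟩ := disconnected_facts N hNG hm hdisc
  obtain ⟨r₀, hr₀, hrm₀⟩ := Nat.exists_prime_and_dvd (ne_of_gt hm)
  have hP : ∀ b, (gr N).Reachable a₀ b →
      ∀ r : ℕ, r.Prime → r ∣ (commutator N).index → r ∣ (b : ℕ) := by
    intro b hb
    by_contra hnb
    apply hdisc
    have key : ∀ x : relCharDegrees N, (gr N).Reachable a₀ x := fun x => by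
      by_cases hx : ∀ r : ℕ, r.Prime → r ∣ (commutator N).index → r ∣ (x : ℕ)
      · exact reach_of_all N hm a₀ x ha₀ hx
      · exact hb.trans (reach_of_not_all N hNG hm b x hnb hx)
    exact fun x y => (key x).symm.trans (key y)
  refine ⟨a₀, fun b c hb hc hbc => ⟨fun h => hbc (Subtype.ext h), ?_⟩, ?_⟩
  · exact lt_of_lt_of_le hr₀.one_lt (Nat.le_of_dvd (Nat.gcd_pos_of_pos_left _ (deg_pos N b.2))
      (Nat.dvd_gcd (hP b hb r₀ hr₀ hrm₀) (hP c hc r₀ hr₀ hrm₀)))
  -- the other component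
  set K : Subgroup G := ⁅N, N⁆ with hKdef
  have hKN : K ≤ N := Subgroup.commutator_le_self N
  have hKc : ∀ x : N, x ∈ commutator N ↔ (x : G) ∈ K := fun x => by
    rw [hKdef, ← Subgroup.map_subtype_commutator]
    exact (Subgroup.mem_map_iff_mem N.subtype_injective).symm
  have hrelK : ∀ y, y ∈ relCharDegrees K → y ∈ relCharDegrees N := by
    rintro y ⟨χ, ⟨g, hg, hne⟩, rfl⟩
    exact ⟨χ, ⟨g, hKN hg, hne⟩, rfl⟩
  have second : ∀ b : relCharDegrees N, ¬ (gr N).Reachable a₀ b →
      (∃ (r : ℕ) (_ : r.Prime) (lam : N →* ℂˣ), orderOf lam = r ∧ dd N lam ∣ (b : ℕ)) ∨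
      ((∀ r : ℕ, r.Prime → r ∣ (commutator K).index → r ∣ (b : ℕ)) ∧ 1 < (commutator K).index ∧
        ∃ θ : IrrCharacter N, 1 < charDegree (θ : N → ℂ) ∧
          charDegree (θ : N → ℂ) ∣ (b : ℕ) ∧ ∀ n, detChar (θ : N → ℂ) n = 1) := by
    intro b hb
    obtain ⟨χ, hχ, hbd⟩ := b.2
    rcases types N hNG hm χ hχ with ⟨r, hr, lam, ho, hd⟩ | ⟨θ, hc, hf, hdet⟩
    · exact Or.inl ⟨r, hr, lam, ho, hbd ▸ hd⟩
    right
    obtain ⟨k, hk, hkne⟩ : ∃ k ∈ commutator N, (θ : N → ℂ) k ≠ (θ : N → ℂ) 1 := by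
      by_contra h
      push Not at h
      exact (ne_of_gt hf) (apply_one_of_trivial_on N θ h)
    have hχK := rel_of_constituent N hKN χ θ hc ⟨(k : G), (hKc k).1 hk⟩ hkne
    have hK1 : K ≠ ⊥ := fun h => by
      obtain ⟨g, hg, hne⟩ := hχK
      rw [h, Subgroup.mem_bot] at hg
      exact hne (by rw [hg])
    have : Nontrivial K := (Subgroup.nontrivial_iff_ne_bot K).2 hK1
    have : Group.IsSolvable K :=
      Group.isSolvable_of_isSolvable_injective (Subgroup.inclusion_injective hKN)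
    have hmK : 1 < (commutator K).index := hidx K
    refine ⟨?_, hmK, θ, hf, hbd ▸ charDegree_constituent_dvd N hc, hdet⟩
    by_contra hbad
    apply hb
    let xK : relCharDegrees K := ⟨b, χ, hχK, hbd⟩
    obtain ⟨φ, hφ, hreach⟩ : ∃ (φ : K →* ℂˣ) (hφ : φ ≠ 1),
        (gr K).Reachable xK (node K φ hφ) := by
      rcases classify K (hKN.trans hNG) hmK xK with h | ⟨r, hr, lam, ho, -, h⟩ | ⟨r, hr, hrm, h⟩
      · exact absurd h hbad
      · exact ⟨lam, _, h⟩
      · obtain ⟨lam, ho⟩ := exists_order K hmK hr hrm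
        exact ⟨lam, _, h hr lam ho⟩
    let ι : gr K →g gr N := ⟨fun y => ⟨y.1, hrelK _ y.2⟩, fun {_ _} h => h⟩
    have h1 : (gr N).Reachable b (ι (node K φ hφ)) := hreach.map ι
    obtain ⟨χz, hz, hcz⟩ := ((exists_node K φ).choose_spec hφ).2
    have hnc := not_coprime_over N K hKN hKc φ hφ χz hcz
    rw [hz] at hnc
    obtain ⟨p, hp, hpz, hpm⟩ := Nat.Prime.not_coprime_iff_dvd.1 hnc
    exact ((reach_of_dvd N a₀ (ι (node K φ hφ)) hp.one_lt (ha₀ p hp hpm) hpz)).trans h1.symm
  intro b c hb hc hbc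
  have hbm := hco b hb
  have hcm := hco c hc
  have nd : ∀ (x : relCharDegrees N), Nat.Coprime (x : ℕ) (commutator N).index →
      ∀ (r : ℕ) (lam : N →* ℂˣ), r.Prime → orderOf lam = r → ¬ r ∣ (x : ℕ) :=
    fun x hx r lam hr ho h => hr.ne_one (Nat.eq_one_of_dvd_coprimes hx h (order_dvd N hm ho))
  rcases second b hb with ⟨r, hr, lam, hl, hlb⟩ | ⟨hbK, hmK, θ, hf, hfb, hdet⟩ <;>
    rcases second c hc with ⟨s, hs, mu, hu, huc⟩ | ⟨hcK, hmK', θ', hf', hfc, hdet'⟩
  · obtain ⟨z, d, e, hd, he, h1, h2, h3, h4⟩ := linear_mid N hNG hr hs hl hu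
      (fun h => nd b hbm r lam hr hl (h.trans hlb)) (fun h => nd c hcm s mu hs hu (h.trans huc))
    exact adj_or_common N b c z hbc hd he (h1.trans hlb) h2 h3 (h4.trans huc)
  · obtain ⟨z, h1, h2⟩ := exists_twist N hNG θ' hf' hdet' hr lam hl
      (fun h => nd c hcm r lam hr hl (h.trans hfc))
    exact adj_or_common N b c z hbc (one_lt_dd N hr hl) hf' hlb h2 h1 hfc
  · obtain ⟨z, h1, h2⟩ := exists_twist N hNG θ hf hdet hs mu hu
      (fun h => nd b hbm s mu hs hu (h.trans hfb))
    exact adj_or_common N b c z hbc hf (one_lt_dd N hs hu) hfb h1 h2 huc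
  · obtain ⟨p, hp, hpm⟩ := Nat.exists_prime_and_dvd (ne_of_gt hmK)
    left
    refine ⟨fun h => hbc (Subtype.ext h), ?_⟩
    exact lt_of_lt_of_le hp.one_lt (Nat.le_of_dvd (Nat.gcd_pos_of_pos_left _ (deg_pos N b.2))
      (Nat.dvd_gcd (hbK p hp hpm) (hcK p hp hpm)))

end Cfsg.Agent.S4779
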