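import Cfsg.Statements.S4781
import Mathlib
import Cfsg.Agent.Lib.NonDiv9Main
import Cfsg.Agent.Lib.NonDiv9Top

/-!
Solvable groups with no divisibility among degrees and disconnected degree graph have three degrees.
-/

set_option autoImplicit false
open Cfsg

namespace Cfsg.Agent.S4781

section
open Cfsg.Agent.CharBasic Cfsg.Agent.CharBasicOrth Cfsg.Agent.CharBasicDecomp Cfsg.Agent.CharBasicLinear
open Cfsg.Agent.CharBasicInt Cfsg.Agent.CharInduced
open scoped commutatorElement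

universe u

theorem connected_false {G : Type u} [Group G]
    (htwo : Nat.card ((Cfsg.degreeGraph G).induce (Cfsg.degreePrimes G)).ConnectedComponent = 2)
    (u : Cfsg.degreePrimes G)
    (hall : ∀ r, ((Cfsg.degreeGraph G).induce (Cfsg.degreePrimes G)).Reachable r u) : False := by
  haveI : Subsingleton ((Cfsg.degreeGraph G).induce (Cfsg.degreePrimes G)).ConnectedComponent :=
    ⟨fun a b => by
      induction a using SimpleGraph.ConnectedComponent.ind with
      | h x =>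
        induction b using SimpleGraph.ConnectedComponent.ind with
        | h y => exact SimpleGraph.ConnectedComponent.sound ((hall x).trans (hall y).symm)⟩
  have : Nat.card ((Cfsg.degreeGraph G).induce (Cfsg.degreePrimes G)).ConnectedComponent ≤ 1 :=
    Finite.card_le_one_iff_subsingleton.2 inferInstance
  omega

theorem three_degrees {G : Type u} [Group G] [Finite G] [Group.IsSolvable G]
    (hnd : ∀ a ∈ Cfsg.charDegrees G, ∀ b ∈ Cfsg.charDegrees G, 1 < a → a < b → ¬ a ∣ b)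
    (htwo : Nat.card ((Cfsg.degreeGraph G).induce (Cfsg.degreePrimes G)).ConnectedComponent = 2) :
    Nat.card ↥(Cfsg.charDegrees G) = 3 := by
  classical
  have := Fintype.ofFinite G
  have hdeg : ∀ {a : ℕ} {χ : G → ℂ}, IsIrrCharacter G χ → χ 1 = (a : ℂ) → a ∈ Cfsg.charDegrees G :=
    fun {a χ} hχ ha => ⟨⟨χ, hχ⟩, S4466.charDegree_eq ha⟩
  have getdeg : ∀ a ∈ Cfsg.charDegrees G, ∃ χ : G → ℂ, IsIrrCharacter G χ ∧ χ 1 = (a : ℂ) ∧ 0 < a := by
    rintro a ⟨χ, rfl⟩
    obtain ⟨n, hn, he⟩ := isIrrCharacter_apply_one χ.2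
    exact ⟨χ, χ.2, by rw [S4466.charDegree_eq he]; exact he, by rw [S4466.charDegree_eq he]; exact hn⟩
  have hndvd : ∀ a ∈ Cfsg.charDegrees G, ∀ b ∈ Cfsg.charDegrees G, a ≠ 1 → a ∣ b → a = b := by
    intro a ha b hb ha1 hab
    obtain ⟨_, -, -, ha0⟩ := getdeg a ha
    obtain ⟨_, -, -, hb0⟩ := getdeg b hb
    by_contra hne
    exact hnd a ha b hb (by omega) (lt_of_le_of_ne (Nat.le_of_dvd hb0 hab) hne) hab
  have hab : ¬ ∀ a b : G, a * b = b * a := fun h => by
    haveI : IsEmpty (Cfsg.degreePrimes G) := ⟨fun ⟨r, hr, d, hd, hrd⟩ => by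
      obtain ⟨χ, hχ, hχd, -⟩ := getdeg d hd
      rw [apply_one_eq_one_of_comm h hχ, eq_comm, Nat.cast_eq_one] at hχd
      exact hr.not_dvd_one (hχd ▸ hrd)⟩
    haveI : IsEmpty ((Cfsg.degreeGraph G).induce (Cfsg.degreePrimes G)).ConnectedComponent :=
      ⟨fun c => c.ind fun v => isEmptyElim v⟩
    simp at htwo
  obtain ⟨K, hK, hKmax⟩ := Finset.exists_max_image
    (Finset.univ.filter fun K : Subgroup G => K.Normal ∧ ¬ ∀ x y : G, ⁅x, y⁆ ∈ K)
    (fun K => Nat.card K) ⟨⊥, Finset.mem_filter.2 ⟨Finset.mem_univ _, inferInstance, fun h => hab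
      fun x y => commutatorElement_eq_one_iff_mul_comm.1 (Subgroup.mem_bot.1 (h x y))⟩⟩
  obtain ⟨-, hKn, hK⟩ := Finset.mem_filter.1 hK
  haveI := hKn
  haveI : Group.IsSolvable (G ⧸ K) := Group.isSolvable_of_surjective (QuotientGroup.mk'_surjective K)
  have hmemK : ∀ x y : G, ⁅QuotientGroup.mk' K x, QuotientGroup.mk' K y⁆ = 1 ↔ ⁅x, y⁆ ∈ K := fun x y => by
    rw [← map_commutatorElement]
    exact QuotientGroup.eq_one_iff _
  have hqnc : ¬ ∀ x y : G ⧸ K, x * y = y * x := fun h => hK fun x y =>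
    (hmemK x y).1 (commutatorElement_eq_one_iff_mul_comm.2 (h _ _))
  have hqmax : ∀ R : Subgroup (G ⧸ K), R.Normal → R ≠ ⊥ → ∀ x y : G ⧸ K, ⁅x, y⁆ ∈ R := by
    intro R hR hbot x y
    obtain ⟨x, rfl⟩ := QuotientGroup.mk'_surjective K x
    obtain ⟨y, rfl⟩ := QuotientGroup.mk'_surjective K y
    rw [← map_commutatorElement]
    by_contra hne
    have hle : K ≤ R.comap (QuotientGroup.mk' K) := fun k hk => by
      rw [Subgroup.mem_comap, (show QuotientGroup.mk' K k = 1 from (QuotientGroup.eq_one_iff k).2 hk)]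
      exact one_mem R
    have heq := Subgroup.eq_of_le_of_card_ge hle (hKmax _ (Finset.mem_filter.2 ⟨Finset.mem_univ _,
      inferInstance, fun h => hne (h x y)⟩))
    refine hbot (eq_bot_iff.2 fun z hz => ?_)
    obtain ⟨z, rfl⟩ := QuotientGroup.mk'_surjective K z
    exact Subgroup.mem_bot.2 ((QuotientGroup.eq_one_iff z).2 (heq ▸ hz))
  rcases S4811.minimal_quotient hqnc hqmax with ⟨p, hp, hP⟩ | ⟨hMb, hMt, hMmin, hMab, hMf⟩
  · exfalso
    haveI : Fact p.Prime := ⟨hp⟩
    obtain ⟨j, hj⟩ := IsPGroup.iff_card.1 hP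
    obtain ⟨β0, hβ0⟩ : ∃ β0 : IrrCharacter (G ⧸ K), (β0 : G ⧸ K → ℂ) 1 ≠ 1 := by
      by_contra hh
      push Not at hh
      exact hqnc (comm_of_forall_apply_one hh)
    obtain ⟨b, -, hb1, hbd⟩ := exists_apply_one_dvd_card β0.2
    obtain ⟨i, -, rfl⟩ := (Nat.dvd_prime_pow hp).1 (hj ▸ hbd)
    have hi : i ≠ 0 := fun h => hβ0 (by rw [hb1, h, pow_zero, Nat.cast_one])
    set β : G → ℂ := fun x => (β0 : G ⧸ K → ℂ) (QuotientGroup.mk' K x)
    have hβ : IsIrrCharacter G β := isIrrCharacter_comap _ (QuotientGroup.mk'_surjective K) β0.2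
    have hbcd := hdeg hβ (a := p ^ i) (by simp [β, hb1])
    have hpV : p ∈ Cfsg.degreePrimes G := ⟨hp, _, hbcd, dvd_pow_self p hi⟩
    refine connected_false htwo ⟨p, hpV⟩ ?_
    rintro ⟨r, hr, a, ha, hra⟩
    suffices hpa : p ∣ a from S4811.reach ⟨a, ha, hra, hpa⟩
    by_contra hpa
    obtain ⟨χ, hχ, hχa, ha0⟩ := getdeg a ha
    have := Fintype.ofFinite K
    obtain ⟨θ, hθ, hθne⟩ := exists_constituent (isCharacter_res K (isCharacter_of_isIrrCharacter hχ))
      (fun h => isIrrCharacter_apply_one_ne_zero hχ (by simpa using congrFun h 1))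
    obtain ⟨k, d, hd, hak, hk⟩ := CharProjDegree.degree_dvd K hχ hθ hθne
    rw [hχa, Nat.cast_inj] at hak
    have hk1 : k = 1 := by
      obtain ⟨i', -, hi'⟩ := (Nat.dvd_prime_pow hp).1 (show k ∣ p ^ j from hj ▸ hk)
      rcases Nat.eq_zero_or_pos i' with rfl | hi0
      · rw [hi', pow_zero]
      · exact absurd (hak ▸ Dvd.dvd.mul_left (hi' ▸ dvd_pow_self p hi0.ne') d) hpa
    rw [hk1, mul_one] at hak
    subst hak
    have hres : ∀ n : K, χ n = θ n := congrFun (eq_of_constituent_of_apply_one_le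
      (isCharacter_res K (isCharacter_of_isIrrCharacter hχ)) hθ hθne (by simp [hχa, hd]))
    have hprod := ((CharGallagher.bijOn_one K hθ hχ hres).mapsTo (x := β) ⟨hβ, fun n => by
      show (β0 : G ⧸ K → ℂ) _ = (β0 : G ⧸ K → ℂ) _
      rw [show QuotientGroup.mk' K (n : G) = 1 from (QuotientGroup.eq_one_iff _).2 n.2, map_one]⟩).1
    have hmem := hdeg hprod (a := p ^ i * a) (by simp [β, hb1, hχa])
    have ha1 : a ≠ 1 := fun h => hr.not_dvd_one (h ▸ hra)
    have heq := hndvd a ha _ hmem ha1 (dvd_mul_left a _)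
    exact hpa (heq ▸ Dvd.dvd.mul_right (dvd_pow_self p hi) a)
  set N := (commutator (G ⧸ K)).comap (QuotientGroup.mk' K) with hN
  have hKN : K < N := lt_of_le_of_ne (fun k hk => by
    rw [hN, Subgroup.mem_comap, (show QuotientGroup.mk' K k = 1 from (QuotientGroup.eq_one_iff k).2 hk)]
    exact one_mem _) fun e => hMb (eq_bot_iff.2 fun y hy => by
      obtain ⟨y, rfl⟩ := QuotientGroup.mk'_surjective K y
      exact Subgroup.mem_bot.2 ((QuotientGroup.eq_one_iff y).2 (e ▸ hy)))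
  have hmin : ∀ R : Subgroup G, R.Normal → K ≤ R → R ≤ N → R = K ∨ R = N := fun R hR hKR hRN => by
    have hcm : (R.map (QuotientGroup.mk' K)).comap (QuotientGroup.mk' K) = R := by
      rw [Subgroup.comap_map_eq, QuotientGroup.ker_mk', sup_eq_left.2 hKR]
    rcases hMmin _ (hR.map _ (QuotientGroup.mk'_surjective K)) (Subgroup.map_le_iff_le_comap.2 hRN)
      with h | h
    · left; rw [← hcm, h, MonoidHom.comap_bot, QuotientGroup.ker_mk']
    · right; rw [← hcm, h]
  have hcomm : ∀ x ∈ N, ∀ y ∈ N, ⁅x, y⁆ ∈ K := fun x hx y hy =>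
    (hmemK x y).1 (commutatorElement_eq_one_iff_mul_comm.2 (hMab _ hx _ hy))
  have hGN : ∀ x y : G, ⁅x, y⁆ ∈ N := fun x y => by
    rw [hN, Subgroup.mem_comap, map_commutatorElement]
    exact Subgroup.commutator_mem_commutator (Subgroup.mem_top _) (Subgroup.mem_top _)
  have hfpf : ∀ x : G, x ∉ N → ∃ n ∈ N, ⁅x, n⁆ ∉ K := fun x hx => by
    obtain ⟨m, hm, hxm⟩ := hMf (QuotientGroup.mk' K x) hx
    obtain ⟨n, rfl⟩ := QuotientGroup.mk'_surjective K m
    exact ⟨n, hm, fun h => hxm ((hmemK x n).2 h)⟩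
  haveI : N.Normal := by rw [hN]; infer_instance
  have := Fintype.ofFinite N
  obtain ⟨q, hq, hpow, j, hj⟩ := NonDiv9.relIndex_prime_pow N K hKN hmin hcomm
  obtain ⟨hfq, htwist⟩ := NonDiv9.frobenius_twist N K hKN hmin hcomm hGN hfpf hq hpow
  have hfcd : N.index ∈ Cfsg.charDegrees G := by
    simpa using htwist (fun _ => (1 : ℂ)) 1 (by simpa using isIrrCharacter_linear (1 : N →* ℂˣ))
      Nat.cast_one.symm hq.not_dvd_one
  have hf1 : N.index ≠ 1 := fun h => hMt (by
    rw [← Subgroup.index_eq_one, ← Subgroup.index_comap_of_surjective _ (QuotientGroup.mk'_surjective K)]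
    exact h)
  set u : Cfsg.degreePrimes G := ⟨N.index.minFac, Nat.minFac_prime hf1, N.index, hfcd, Nat.minFac_dvd _⟩
  -- kernel degrees
  have hker : ∀ (θ : N → ℂ) (d : ℕ), IsIrrCharacter N θ → θ 1 = (d : ℂ) → d ≠ 1 → q ∣ d := by
    intro θ d hθ hd hd1
    by_contra hqd
    have h := hndvd _ hfcd _ (htwist θ d hθ hd hqd) hf1 (dvd_mul_right _ _)
    exact hd1 ((Nat.eq_of_mul_eq_mul_left (Nat.pos_of_ne_zero Subgroup.index_ne_zero_of_finite)
      ((mul_one _).trans h)).symm)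
  have hcases : ∀ a ∈ Cfsg.charDegrees G, a = 1 ∨ a = N.index ∨ q ∣ a := by
    intro a ha
    obtain ⟨χ, hχ, hχa, -⟩ := getdeg a ha
    obtain ⟨θ, hθ, hθne⟩ := exists_constituent (isCharacter_res N (isCharacter_of_isIrrCharacter hχ))
      (fun h => isIrrCharacter_apply_one_ne_zero hχ (by simpa using congrFun h 1))
    obtain ⟨k, d, hd, hak, hk⟩ := CharProjDegree.degree_dvd N hχ hθ hθne
    rw [hχa, Nat.cast_inj] at hak
    by_cases hd1 : d = 1
    · rw [hd1, one_mul] at hak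
      by_cases ha1 : a = 1
      · exact Or.inl ha1
      · exact Or.inr (Or.inl (hndvd a ha _ hfcd ha1 (hak ▸ hk)))
    · exact Or.inr (Or.inr (hak ▸ (hker θ d hθ hd hd1).mul_right k))
  have reachf : ∀ {r : Cfsg.degreePrimes G}, (r : ℕ) ∣ N.index →
      ((Cfsg.degreeGraph G).induce (Cfsg.degreePrimes G)).Reachable r u :=
    fun h => S4811.reach ⟨N.index, hfcd, h, Nat.minFac_dvd _⟩
  have hcopall : ∀ a ∈ Cfsg.charDegrees G, q ∣ a → N.index.Coprime a := by
    intro a ha hqa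
    by_contra hncop
    obtain ⟨s, hs, hsf, hsa⟩ := Nat.Prime.not_coprime_iff_dvd.1 hncop
    have hqV : q ∈ Cfsg.degreePrimes G := ⟨hq, a, ha, hqa⟩
    have hsV : s ∈ Cfsg.degreePrimes G := ⟨hs, a, ha, hsa⟩
    have hqu : ((Cfsg.degreeGraph G).induce (Cfsg.degreePrimes G)).Reachable ⟨q, hqV⟩ u :=
      (S4811.reach (s := ⟨s, hsV⟩) ⟨a, ha, hqa, hsa⟩).trans (reachf hsf)
    refine connected_false htwo u fun r => ?_
    obtain ⟨r, hr, b, hb, hrb⟩ := r
    rcases hcases b hb with rfl | rfl | hqb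
    · exact absurd hrb hr.not_dvd_one
    · exact reachf hrb
    · exact (S4811.reach (s := ⟨q, hqV⟩) ⟨b, hb, hrb, hqb⟩).trans hqu
  have hnl : ∀ (θ : N → ℂ) (d : ℕ), IsIrrCharacter N θ → θ 1 = (d : ℂ) → d ≠ 1 →
      d ∈ Cfsg.charDegrees G ∧ N.index.Coprime d ∧ ∀ (g : G) (m : N), θ (MulAut.conjNormal g m) = θ m := by
    intro θ d hθ hd hd1
    obtain ⟨χ, hχ, hne⟩ := H74ThreeDeg.exists_over N hθ
    obtain ⟨k, d', hd', hχd, hk⟩ := CharProjDegree.degree_dvd N hχ hθ hne
    have hdd : d' = d := by exact_mod_cast hd'.symm.trans hd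
    subst hdd
    have hcop := hcopall _ (hdeg hχ hχd) ((hker θ d' hθ hd hd1).mul_right k)
    have hk1 : k = 1 := Nat.eq_one_of_dvd_coprimes hcop hk (dvd_mul_left k d')
    rw [hk1, mul_one] at hχd hcop
    have hres : ∀ n : N, χ n = θ n := congrFun (eq_of_constituent_of_apply_one_le
      (isCharacter_res N (isCharacter_of_isIrrCharacter hχ)) hθ hne (by simp [hχd, hd']))
    refine ⟨hdeg hχ hχd, hcop, fun g m => ?_⟩
    rw [← hres, ← hres, MulAut.conjNormal_apply]
    exact isClassFunction_irr hχ _ _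
  -- the group of automorphisms
  set Γ := (MulAut.conjNormal : G →* MulAut N).range with hΓ
  have hconj : ∀ n : N, MulAut.conjNormal (n : G) = MulAut.conj n := fun n => by
    ext m; simp
  have hctx : NonDiv9.Ctx Γ q N.index :=
    { inner := fun n => ⟨(n : G), hconj n⟩
      powf := by
        rintro _ ⟨g, rfl⟩
        exact ⟨⟨g ^ N.index, Subgroup.pow_index_mem N g⟩, by
          rw [← map_pow]; exact hconj ⟨g ^ N.index, Subgroup.pow_index_mem N g⟩⟩
      prime := hq
      copfq := hfq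
      deg := fun θ hθ d hd hd1 => ⟨hker θ d hθ hd hd1, (hnl θ d hθ hd hd1).2.1⟩
      inv := by
        rintro θ hθ hθ1 _ ⟨g, rfl⟩ m
        obtain ⟨e, -, he⟩ := isIrrCharacter_apply_one hθ
        exact (hnl θ e hθ he fun h => hθ1 (by rw [he, h, Nat.cast_one])).2.2 g m
      nd := fun θ φ hθ hφ a b ha hb ha1 hb1 hdvd =>
        hndvd a (hnl θ a hθ ha ha1).1 b (hnl φ b hφ hb hb1).1 ha1 hdvd }
  have hmove : ∃ α ∈ Γ, ∃ x : N, α x * x⁻¹ ∉ K.subgroupOf N := by
    obtain ⟨x, hx⟩ : ∃ x, x ∉ N := by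
      by_contra hh
      push Not at hh
      exact hf1 (Subgroup.index_eq_one.2 (eq_top_iff.2 fun x _ => hh x))
    obtain ⟨n, hn, hxn⟩ := hfpf x hx
    refine ⟨MulAut.conjNormal x, ⟨x, rfl⟩, ⟨n, hn⟩, fun h => hxn ?_⟩
    rw [Subgroup.mem_subgroupOf, Subgroup.coe_mul, Subgroup.coe_inv, MulAut.conjNormal_apply] at h
    exact h
  -- the third degree
  obtain ⟨d, hd, hqd⟩ : ∃ d ∈ Cfsg.charDegrees G, q ∣ d := by
    by_contra hh
    push Not at hh
    refine connected_false htwo u fun r => ?_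
    obtain ⟨r, hr, b, hb, hrb⟩ := r
    rcases hcases b hb with rfl | rfl | hqb
    · exact absurd hrb hr.not_dvd_one
    · exact reachf hrb
    · exact absurd hqb (hh b hb)
  have hfrom : ∀ a ∈ Cfsg.charDegrees G, q ∣ a →
      ∃ θ : N → ℂ, IsIrrCharacter N θ ∧ θ 1 = (a : ℂ) := by
    intro a ha hqa
    obtain ⟨χ, hχ, hχa, -⟩ := getdeg a ha
    obtain ⟨θ, hθ, hθne⟩ := exists_constituent (isCharacter_res N (isCharacter_of_isIrrCharacter hχ))
      (fun h => isIrrCharacter_apply_one_ne_zero hχ (by simpa using congrFun h 1))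
    obtain ⟨k, e, he, hak, hk⟩ := CharProjDegree.degree_dvd N hχ hθ hθne
    rw [hχa, Nat.cast_inj] at hak
    have hk1 : k = 1 := Nat.eq_one_of_dvd_coprimes (hcopall a ha hqa) hk (hak ▸ dvd_mul_left k e)
    exact ⟨θ, hθ, by rw [he, hak, hk1, mul_one]⟩
  have huniq : ∀ a ∈ Cfsg.charDegrees G, q ∣ a → a = d := by
    intro a ha hqa
    obtain ⟨θ, hθ, hθa⟩ := hfrom a ha hqa
    obtain ⟨φ, hφ, hφd⟩ := hfrom d hd hqd
    have hne : ∀ {m : ℕ}, q ∣ m → (m : ℂ) ≠ 1 := fun hm e => by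
      rw [Nat.cast_eq_one] at e; exact hq.not_dvd_one (e ▸ hm)
    have := NonDiv9.kernel_degrees hctx (K.subgroupOf N) (k := j) hj hmove hθ hφ (hθa ▸ hne hqa) (hφd ▸ hne hqd)
    rw [hθa, hφd, Nat.cast_inj] at this
    exact this
  have hd1 : d ≠ 1 := fun h => hq.not_dvd_one (h ▸ hqd)
  have hdf : d ≠ N.index := fun h => hd1 (Nat.eq_one_of_dvd_coprimes (hcopall d hd hqd) h.dvd dvd_rfl)
  have hone : 1 ∈ Cfsg.charDegrees G := hdeg (isIrrCharacter_linear (1 : G →* ℂˣ)) (by simp)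
  have hset : Cfsg.charDegrees G = {1, N.index, d} := by
    refine Set.ext fun a => ⟨fun ha => ?_, ?_⟩
    · simp only [Set.mem_insert_iff, Set.mem_singleton_iff]
      exact (hcases a ha).imp_right (Or.imp_right (huniq a ha))
    · rintro (rfl | rfl | rfl)
      · exact hone
      · exact hfcd
      · exact hd
  rw [hset, Nat.card_coe_set_eq]
  exact Set.ncard_eq_three.2 ⟨1, N.index, d, hf1.symm, hd1.symm, hdf.symm, rfl⟩

end

/-- Let G be a finite solvable group in which no irreducible complex character degree a with 1 < a divides a larger irreducible character degree, and suppose the character degree graph of G (primes dividing some degree, distinct primes adjacent when their product divides a degree) has exactly two connected components. Then G has exactly three distinct irreducible character degrees. -/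
theorem result {G : Type*} [Group G] [Finite G] [Group.IsSolvable G] (hnd : ∀ a ∈ Cfsg.charDegrees G, ∀ b ∈ Cfsg.charDegrees G, 1 < a → a < b → ¬ a ∣ b) (htwo : Nat.card ((Cfsg.degreeGraph G).induce (Cfsg.degreePrimes G)).ConnectedComponent = 2) : Nat.card ↥(Cfsg.charDegrees G) = 3 :=
  three_degrees hnd htwo

end Cfsg.Agent.S4781
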