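import Mathlib
import Cfsg.Statements.S4782
import Cfsg.Agent.Lib.CharInducedBurnside
import Cfsg.Agent.Lib.CharAverage
import Cfsg.Agent.Lib.CharKernel
import Cfsg.Agent.Lib.CharCliffordCorr
import Cfsg.Agent.Lib.CharInducedRep
import Cfsg.Agent.Lib.CharInducedCorr

set_option autoImplicit false
open Cfsg

namespace Cfsg.Agent.S4782

open Cfsg.Agent.CharBasic Cfsg.Agent.CharBasicOrth Cfsg.Agent.CharBasicInt
open Cfsg.Agent.CharBasicDecomp Cfsg.Agent.CharInduced
open scoped ComplexConjugate

universe w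

/-- Degrees of a normal subgroup divide degrees of the group. -/
theorem exists_multiple {G : Type w} [Group G] [Finite G] (N : Subgroup G) [N.Normal]
    (θ : IrrCharacter N) :
    ∃ χ : IrrCharacter G, charDegree (θ : N → ℂ) ∣ charDegree (χ : G → ℂ) := by
  classical
  have := Fintype.ofFinite G
  have := Fintype.ofFinite N
  have h0 : indFun N (θ : N → ℂ) ≠ 0 := fun h => by
    have h1 := congrFun h 1
    rw [ind_one_apply, Pi.zero_apply, mul_eq_zero] at h1
    exact h1.elim (fun h2 => Subgroup.FiniteIndex.index_ne_zero (Nat.cast_eq_zero.1 h2))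
      (isIrrCharacter_apply_one_ne_zero θ.2)
  obtain ⟨χ, hχ, hc⟩ :=
    exists_constituent (isCharacter_ind N (isCharacter_of_isIrrCharacter θ.2)) h0
  rw [inner_ind_left N _ (isClassFunction_irr hχ), ← CharInduced.inner_conj_symm, Ne,
    map_eq_zero] at hc
  refine ⟨⟨χ, hχ⟩, ?_⟩
  obtain ⟨a, ha⟩ := CharBasicOrth.classInner_isCharacter
    (isCharacter_res N (isCharacter_of_isIrrCharacter hχ)) (isCharacter_of_isIrrCharacter θ.2)
  have h := CharCliffordCorr.apply_one_eq N hχ θ.2 hc
  rw [CharAverage.apply_one_eq_charDegree (isCharacter_of_isIrrCharacter hχ),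
    CharAverage.irr_apply_one, ha, ← Nat.cast_mul, ← Nat.cast_mul, Nat.cast_inj] at h
  exact h ▸ dvd_mul_left _ _

/-- A simple group all whose degree primes lie among `p`, `q`, with `p` dividing the order. -/
theorem simple_case {G : Type w} [Group G] [Finite G] [IsSimpleGroup G] (p q : ℕ) (hp : p.Prime)
    (hq : q.Prime) (hpG : p ∣ Nat.card G) (hd : ∀ x ∈ degreePrimes G, x = p ∨ x = q) :
    ∀ a b : G, a * b = b * a := by
  classical
  by_contra hab
  have := Fintype.ofFinite G
  have := Fact.mk hp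
  obtain ⟨P⟩ : Nonempty (Sylow p G) := inferInstance
  have hPne : (P : Subgroup G) ≠ ⊥ := fun h => by
    have := P.not_dvd_index
    rw [h, Subgroup.index_bot] at this
    exact this hpG
  have : Nontrivial (P : Subgroup G) := (Subgroup.nontrivial_iff_ne_bot _).2 hPne
  have := P.isPGroup'.center_nontrivial
  obtain ⟨z, hz⟩ := exists_ne (1 : Subgroup.center (P : Subgroup G))
  obtain ⟨g, hgdef⟩ : ∃ g : G, g = ((z : (P : Subgroup G)) : G) := ⟨_, rfl⟩
  have hg : g ≠ 1 := hgdef ▸ fun h => hz (Subtype.ext (Subtype.ext h))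
  have hle : (P : Subgroup G) ≤ Subgroup.centralizer ({g} : Set G) := by
    intro x hx
    rw [Subgroup.mem_centralizer_iff]
    rintro y rfl
    rw [hgdef]
    exact (congrArg Subtype.val (Subgroup.mem_center_iff.1 z.2 ⟨x, hx⟩)).symm
  have hnd : ¬ p ∣ (Subgroup.centralizer ({g} : Set G)).index := fun h =>
    P.not_dvd_index (h.trans (Subgroup.index_dvd_of_le hle))
  have hsum := sum_irr_mul_conj g (1 : G)
  rw [if_neg fun h => hg (isConj_one_left.1 h)] at hsum
  have hterm : ∀ χ : IrrCharacter G, χ ≠ trivIrr G →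
      ∃ z : ℂ, IsIntegral ℤ z ∧ (χ : G → ℂ) g * conj ((χ : G → ℂ) 1) = (q : ℂ) * z := by
    intro χ hχ
    obtain ⟨n, ρ, hρ, he⟩ := χ.2
    have hd1 : (χ : G → ℂ) 1 = Module.finrank ℂ (Fin n → ℂ) := by
      rw [← he, Representation.char_one]
    have hdeg : charDegree (χ : G → ℂ) = Module.finrank ℂ (Fin n → ℂ) := by
      simp [charDegree, hd1]
    rw [hd1, Complex.conj_natCast, ← he]
    by_cases hdvd : q ∣ Module.finrank ℂ (Fin n → ℂ)
    · obtain ⟨c, hc⟩ := hdvd
      refine ⟨(c : ℂ) * ρ.character g,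
        (isIntegral_algebraMap (x := (c : ℤ))).mul (isIntegral_character ρ g), ?_⟩
      rw [hc]
      push_cast
      ring
    · refine ⟨0, isIntegral_zero, ?_⟩
      have hcop : Nat.Coprime (Module.finrank ℂ (Fin n → ℂ))
          (Subgroup.centralizer ({g} : Set G)).index := by
        refine Nat.coprime_of_dvd fun x hx hx1 hx2 => ?_
        rcases hd x ⟨hx, _, ⟨χ, rfl⟩, hdeg ▸ hx1⟩ with rfl | rfl
        · exact hnd hx2
        · exact hdvd hx1
      have hne : ρ.character ≠ fun _ => 1 := fun h => hχ (Subtype.ext (he ▸ h))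
      rw [(character_eq_zero_or_norm_eq ρ g hcop).resolve_right
        (not_norm_eq_of_simple hab ρ hne g hg), zero_mul, mul_zero]
  rw [← Finset.add_sum_erase _ _ (Finset.mem_univ (trivIrr G))] at hsum
  have h1 : ((trivIrr G : IrrCharacter G) : G → ℂ) g *
      conj (((trivIrr G : IrrCharacter G) : G → ℂ) 1) = 1 := by
    simp [trivIrr]
  rw [h1] at hsum
  choose y hy hy' using fun χ : {χ : IrrCharacter G // χ ≠ trivIrr G} => hterm χ.1 χ.2
  rw [Finset.sum_subtype (p := fun χ : IrrCharacter G => χ ≠ trivIrr G) _ (fun χ => by simp)]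
    at hsum
  simp only [hy'] at hsum
  rw [← Finset.mul_sum] at hsum
  have hint : IsIntegral ℤ (∑ χ, y χ) := IsIntegral.sum _ fun χ _ => hy χ
  have hinv : (((1 : ℕ) : ℂ) / (q : ℕ)) = - ∑ χ, y χ := by
    rw [Nat.cast_one, div_eq_iff (Nat.cast_ne_zero.2 hq.ne_zero)]
    linear_combination hsum
  exact hq.not_dvd_one (CharBasicInt.dvd_of_isIntegral_div hq.ne_zero (hinv ▸ hint.neg))

/-- Two degree primes force solvability. -/
theorem solvable_of_two (n : ℕ) : ∀ {G : Type w} [Group G] [Finite G], Nat.card G = n →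
    (¬ ∃ p q r : ℕ, p ≠ q ∧ q ≠ r ∧ p ≠ r ∧
      p ∈ degreePrimes G ∧ q ∈ degreePrimes G ∧ r ∈ degreePrimes G) → Group.IsSolvable G := by
  induction n using Nat.strong_induction_on with
  | _ n ih =>
    intro G _ _ hn hG
    rcases subsingleton_or_nontrivial G with hs | hnt
    · infer_instance
    by_cases hsimple : IsSimpleGroup G
    · obtain ⟨p, q, hp, hpG, hq, hd⟩ : ∃ p q : ℕ, p.Prime ∧ p ∣ Nat.card G ∧ q.Prime ∧
          ∀ x ∈ degreePrimes G, x = p ∨ x = q := by
        by_cases he : ∃ p, p ∈ degreePrimes G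
        · obtain ⟨p, hp⟩ := he
          have hpG : p ∣ Nat.card G := by
            obtain ⟨-, d, ⟨χ, rfl⟩, hpd⟩ := hp
            exact hpd.trans (CharAverage.charDegree_dvd_card χ)
          by_cases he' : ∃ q, q ∈ degreePrimes G ∧ q ≠ p
          · obtain ⟨q, hq, hne⟩ := he'
            refine ⟨p, q, hp.1, hpG, hq.1, fun x hx => ?_⟩
            by_contra hc
            push Not at hc
            exact hG ⟨p, q, x, hne.symm, hc.2.symm, hc.1.symm, hp, hq, hx⟩
          · exact ⟨p, 2, hp.1, hpG, Nat.prime_two,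
              fun x hx => Or.inl (by_contra fun h => he' ⟨x, hx, h⟩)⟩
        · obtain ⟨p, hp, hpG⟩ := Nat.exists_prime_and_dvd (Finite.one_lt_card (α := G)).ne'
          exact ⟨p, 2, hp, hpG, Nat.prime_two, fun x hx => (he ⟨x, hx⟩).elim⟩
      exact Group.isSolvable_of_comm (simple_case p q hp hq hpG hd)
    · obtain ⟨K, hK, hK1, hK2⟩ : ∃ K : Subgroup G, K.Normal ∧ K ≠ ⊥ ∧ K ≠ ⊤ := by
        by_contra hc
        push Not at hc
        refine hsimple ⟨fun K hK => ?_⟩
        by_cases h : K = ⊥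
        · exact Or.inl h
        · exact Or.inr (hc K hK h)
      have hsK : Group.IsSolvable K := by
        refine ih (Nat.card K) ?_ rfl ?_
        · rw [← hn]
          exact lt_of_le_of_ne (Subgroup.card_le_card_group K)
            fun h => hK2 ((Subgroup.card_eq_iff_eq_top K).1 h)
        · rintro ⟨p, q, r, h1, h2, h3, hp, hq, hr⟩
          have key : ∀ x ∈ degreePrimes K, x ∈ degreePrimes G := by
            rintro x ⟨hx, d, ⟨θ, rfl⟩, hxd⟩
            obtain ⟨χ, hχ⟩ := exists_multiple K θ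
            exact ⟨hx, _, ⟨χ, rfl⟩, hxd.trans hχ⟩
          exact hG ⟨p, q, r, h1, h2, h3, key p hp, key q hq, key r hr⟩
      have hsQ : Group.IsSolvable (G ⧸ K) := by
        refine ih (Nat.card (G ⧸ K)) ?_ rfl ?_
        · rw [← hn, K.card_eq_card_quotient_mul_card_subgroup]
          exact lt_mul_of_one_lt_right Nat.card_pos (K.one_lt_card_iff_ne_bot.2 hK1)
        · rintro ⟨p, q, r, h1, h2, h3, hp, hq, hr⟩
          have key : ∀ x ∈ degreePrimes (G ⧸ K), x ∈ degreePrimes G := by
            rintro x ⟨hx, d, ⟨ψ, rfl⟩, hxd⟩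
            exact ⟨hx, _, ⟨(CharKernel.quotEquiv K ψ).1, rfl⟩,
              (CharKernel.charDegree_quotEquiv K ψ).symm ▸ hxd⟩
          exact hG ⟨p, q, r, h1, h2, h3, key p hp, key q hq, key r hr⟩
      exact Group.isSolvable_of_ker_le_range K.subtype (QuotientGroup.mk' K) (by simp)

/-- If the finite group G is not solvable, then at least three distinct primes each divide some irreducible complex character degree of G. -/
theorem result {G : Type*} [Group G] [Finite G] (hG : ¬ Group.IsSolvable G) : ∃ p q r : ℕ, p ≠ q ∧ q ≠ r ∧ p ≠ r ∧ p ∈ Cfsg.degreePrimes G ∧ q ∈ Cfsg.degreePrimes G ∧ r ∈ Cfsg.degreePrimes G := by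
  by_contra h
  exact hG (solvable_of_two (Nat.card G) rfl h)

end Cfsg.Agent.S4782
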