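import Cfsg.Statements.S4784
import Cfsg.Agent.Lib.FSBound
import Cfsg.Agent.Lib.CharInducedRep
import Cfsg.Agent.Lib.CharInducedBasic

set_option autoImplicit false
open Cfsg

namespace Cfsg.Agent.S4784

open scoped ComplexConjugate
open Cfsg.Agent.CharBasic Cfsg.Agent.CharBasicOrth Cfsg.Agent.CharBasicDecomp
open Cfsg.Agent.CharAverage Cfsg.Agent.CharKernel Cfsg.Agent.FSBound Cfsg.Agent.FSIndicatorSum

variable {G : Type*} [Group G] [Fintype G]

/-- Multiplicity in the permutation character as a sum over the subgroup. -/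
theorem mult_eq (H : Subgroup G) [Fintype H] (χ : Cfsg.IrrCharacter G) :
    ∃ m : ℕ, Cfsg.classInner (Cfsg.indFun H (fun _ : H => (1 : ℂ))) (χ : G → ℂ) = m ∧
      ∑ h : H, (χ : G → ℂ) h = (Nat.card H : ℂ) * m := by
  have hcomap : Cfsg.IsCharacter H (fun h : H => (χ : G → ℂ) h) :=
    isCharacter_comap H.subtype (irr_isCharacter χ)
  obtain ⟨m, hm⟩ := classInner_isCharacter hcomap (isCharacter_one (G := H))
  refine ⟨m, ?_, ?_⟩
  · rw [CharInduced.inner_ind_left _ _ (isClassFunction_of_isCharacter (irr_isCharacter χ)),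
      ← CharInduced.inner_conj_symm, hm, map_natCast]
  · rw [← hm, card_mul_classInner]
    simp

/-- A constituent of the permutation character is trivial on the core. -/
theorem trivial_on_core (H : Subgroup G) [Fintype H] (χ : Cfsg.IrrCharacter G)
    (h : ∑ h : H, (χ : G → ℂ) h ≠ 0) : ∀ n ∈ H.normalCore, (χ : G → ℂ) n = (χ : G → ℂ) 1 := by
  classical
  obtain ⟨k, ρ, hi, hρ⟩ := χ.2
  let T : Module.End ℂ (Fin k → ℂ) := ∑ n : H.normalCore, ρ n
  have hconj : ∀ g : G, T * ρ g = ρ g * T := by
    intro g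
    simp only [T, Finset.sum_mul, Finset.mul_sum, ← map_mul]
    refine Fintype.sum_equiv (MulAut.conjNormal g⁻¹).toEquiv _ _ fun n => ?_
    congr 1
    simp only [MulEquiv.toEquiv_eq_coe, EquivLike.coe_coe, MulAut.conjNormal_apply]
    group
  obtain ⟨c, hc, -⟩ := exists_scalar_of_commute ρ T fun g v => by
    rw [← Module.End.mul_apply, hconj, Module.End.mul_apply]
  have hc0 : c ≠ 0 := by
    intro e
    refine h ?_
    have hz : T * ∑ h : H, ρ h = 0 := by rw [hc, e, zero_smul, zero_mul]
    have hs : T * ∑ h : H, ρ h = (Nat.card H.normalCore : ℂ) • ∑ h : H, ρ h := by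
      simp only [T, Finset.sum_mul, Finset.mul_sum, ← map_mul]
      rw [Finset.smul_sum, Finset.sum_comm]
      rw [Finset.sum_congr rfl (fun (n : H.normalCore) _ =>
        Fintype.sum_equiv (Equiv.mulLeft (⟨n, Subgroup.normalCore_le H n.2⟩ : H))
          (fun h : H => ρ ((n : G) * h)) (fun h : H => ρ h) (fun _ => rfl))]
      rw [Finset.sum_const, Finset.card_univ, ← Nat.card_eq_fintype_card, ← Finset.smul_sum,
        Nat.cast_smul_eq_nsmul]
    rw [hz] at hs
    have h2 := congrArg (LinearMap.trace ℂ (Fin k → ℂ)) hs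
    rw [map_zero, map_smul, map_sum, smul_eq_mul] at h2
    rw [← hρ]
    exact (mul_eq_zero.1 h2.symm).resolve_left (Nat.cast_ne_zero.2 Nat.card_pos.ne')
  intro n hn
  have hn1 : ρ n * T = T := by
    simp only [T, Finset.mul_sum, ← map_mul]
    exact Fintype.sum_equiv (Equiv.mulLeft (⟨n, hn⟩ : H.normalCore)) _ _ fun _ => rfl
  rw [hc, mul_smul_comm] at hn1
  have h3 : ρ n = LinearMap.id := by
    have h4 := smul_right_injective (Module.End ℂ (Fin k → ℂ)) hc0 hn1
    exact (mul_one (ρ n)).symm.trans h4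
  rw [← hρ]
  show LinearMap.trace ℂ _ (ρ n) = LinearMap.trace ℂ _ (ρ 1)
  rw [h3, map_one]; rfl


/-- Let H be a subgroup of the finite group G and consider the permutation character of G on the cosets of H (the function induced from the principal character of H). Then exactly one irreducible constituent of it is real-valued with Frobenius–Schur indicator +1 (namely the principal character) if and only if the normal core of H has odd index in G. -/
theorem result {G : Type*} [Group G] [Fintype G] (H : Subgroup G) : Nat.card {χ : Cfsg.IrrCharacter G // Cfsg.classInner (Cfsg.indFun H (fun _ : H => (1 : ℂ))) (χ : G → ℂ) ≠ 0 ∧ (∀ g : G, (starRingEnd ℂ) ((χ : G → ℂ) g) = (χ : G → ℂ) g) ∧ (Nat.card G : ℂ)⁻¹ * ∑ g : G, (χ : G → ℂ) (g * g) = 1} = 1 ↔ Odd H.normalCore.index := by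
  classical
  have : Fintype H := Fintype.ofFinite H
  have hmem : Cfsg.classInner (Cfsg.indFun H (fun _ : H => (1 : ℂ))) (trivIrr G : G → ℂ) ≠ 0 ∧
      (∀ g : G, (starRingEnd ℂ) ((trivIrr G : G → ℂ) g) = (trivIrr G : G → ℂ) g) ∧
      (Nat.card G : ℂ)⁻¹ * ∑ g : G, (trivIrr G : G → ℂ) (g * g) = 1 := by
    obtain ⟨m, hm, hsum⟩ := mult_eq H (trivIrr G)
    have hm1 : m = 1 := by
      simp [trivIrr, Nat.card_eq_fintype_card] at hsum
      exact_mod_cast hsum
    refine ⟨by rw [hm, hm1]; simp, fun g => by simp [trivIrr], ?_⟩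
    have : (Nat.card G : ℂ) ≠ 0 := Nat.cast_ne_zero.2 Nat.card_pos.ne'
    simp only [trivIrr, Finset.sum_const, Finset.card_univ, ← Nat.card_eq_fintype_card,
      nsmul_eq_mul, mul_one]
    field_simp
  have hone : Nat.card {χ : Cfsg.IrrCharacter G //
      Cfsg.classInner (Cfsg.indFun H (fun _ : H => (1 : ℂ))) (χ : G → ℂ) ≠ 0 ∧
      (∀ g : G, (starRingEnd ℂ) ((χ : G → ℂ) g) = (χ : G → ℂ) g) ∧
      (Nat.card G : ℂ)⁻¹ * ∑ g : G, (χ : G → ℂ) (g * g) = 1} = 1 ↔
    ∀ χ : Cfsg.IrrCharacter G,
      Cfsg.classInner (Cfsg.indFun H (fun _ : H => (1 : ℂ))) (χ : G → ℂ) ≠ 0 →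
      (∀ g : G, (starRingEnd ℂ) ((χ : G → ℂ) g) = (χ : G → ℂ) g) →
      nu (χ : G → ℂ) = 1 → χ = trivIrr G := by
    rw [Nat.card_eq_one_iff_unique]
    constructor
    · rintro ⟨hs, -⟩ χ h1 h2 h3
      exact congrArg Subtype.val (hs.elim ⟨χ, h1, h2, h3⟩ ⟨trivIrr G, hmem⟩)
    · intro h
      exact ⟨⟨fun a b => Subtype.ext ((h a.1 a.2.1 a.2.2.1 a.2.2.2).trans
        (h b.1 b.2.1 b.2.2.1 b.2.2.2).symm)⟩, ⟨trivIrr G, hmem⟩⟩
  rw [hone]
  constructor
  · intro h
    rw [← Nat.not_even_iff_odd, even_iff_two_dvd, Subgroup.index_eq_card]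
    intro h2
    obtain ⟨q, hq⟩ := exists_prime_orderOf_dvd_card' 2 h2
    obtain ⟨y, rfl⟩ := QuotientGroup.mk'_surjective H.normalCore q
    have hy : y ∉ H.normalCore := fun hy => by
      rw [QuotientGroup.mk'_apply, (QuotientGroup.eq_one_iff y).2 hy, orderOf_one] at hq
      omega
    have hy2 : y * y ∈ H.normalCore := by
      rw [← QuotientGroup.eq_one_iff, ← QuotientGroup.mk'_apply, map_mul, ← pow_two, ← hq]
      exact pow_orderOf_eq_one _
    obtain ⟨g, hg⟩ : ∃ g : G, g * y * g⁻¹ ∉ H := by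
      by_contra hcon
      push Not at hcon
      exact hy hcon
    have hg2 : (g * y * g⁻¹) * (g * y * g⁻¹) ∈ H := by
      refine Subgroup.normalCore_le H ?_
      rw [show (g * y * g⁻¹) * (g * y * g⁻¹) = g * (y * y) * g⁻¹ by group]
      exact (Subgroup.normalCore_normal H).conj_mem _ hy2 g
    -- count square roots of elements of `H`
    have hcount : Nat.card H < ∑ h : H, Nat.card {x : G // x * x = (h : G)} := by
      rw [← Nat.card_sigma]
      have hi : Function.Injective
          (fun o : Option H => match o with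
            | some h => (⟨⟨(h : G) * h, H.mul_mem h.2 h.2⟩, ⟨(h : G), rfl⟩⟩ :
                Σ h : H, {x : G // x * x = (h : G)})
            | none => ⟨⟨_, hg2⟩, ⟨g * y * g⁻¹, rfl⟩⟩) := by
        intro a b hab
        have h1 := congrArg (fun s : Σ h : H, {x : G // x * x = (h : G)} => (s.2 : G)) hab
        cases a <;> cases b
        · rfl
        · rename_i h; simp only at h1; exact absurd (h1.symm ▸ h.2) hg
        · rename_i h; simp only at h1; exact absurd (h1 ▸ h.2) hg
        · exact congrArg some (Subtype.ext h1)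
      have := Nat.card_le_card_of_injective _ hi
      rw [Nat.card_eq_fintype_card (α := Option H), Fintype.card_option,
        ← Nat.card_eq_fintype_card] at this
      omega
    choose m hm hsum using mult_eq H
    have htot : ((∑ h : H, Nat.card {x : G // x * x = (h : G)} : ℕ) : ℂ) =
        (Nat.card H : ℂ) * ∑ χ : Cfsg.IrrCharacter G, nu (χ : G → ℂ) * m χ := by
      rw [Nat.cast_sum]
      simp only [← sum_nu_mul_apply]
      rw [Finset.sum_comm, Finset.mul_sum]
      refine Finset.sum_congr rfl fun χ _ => ?_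
      rw [← Finset.mul_sum, hsum]
      ring
    have hval : ∀ χ : Cfsg.IrrCharacter G, χ ≠ trivIrr G →
        (nu (χ : G → ℂ) * m χ).re ≤ 0 := by
      intro χ hne
      by_cases hν : nu (χ : G → ℂ) = 0
      · simp [hν]
      · obtain ⟨hpm, hreal⟩ := nu_eq_zero_or χ hν
        rcases hpm with h1 | h1
        · by_cases hm0 : m χ = 0
          · simp [hm0]
          · exact absurd (h χ (by rw [hm]; exact_mod_cast hm0) hreal h1) hne
        · simp [h1]
    have h1 := congrArg Complex.re htot
    rw [Complex.natCast_re, ← Complex.ofReal_natCast, Complex.re_ofReal_mul, Complex.re_sum,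
      ← Finset.add_sum_erase _ _ (Finset.mem_univ (trivIrr G))] at h1
    have ht : (nu (trivIrr G : G → ℂ) * m (trivIrr G)).re = 1 := by
      have h3 : nu (trivIrr G : G → ℂ) = 1 := hmem.2.2
      have h4 := hsum (trivIrr G)
      simp [trivIrr, Nat.card_eq_fintype_card] at h4
      have h5 : m (trivIrr G) = 1 := by exact_mod_cast h4
      simp [h3, h5]
    have h6 : ∑ χ ∈ Finset.univ.erase (trivIrr G), (nu (χ : G → ℂ) * m χ).re ≤ 0 :=
      Finset.sum_nonpos fun χ hχ => hval χ (Finset.mem_erase.1 hχ).1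
    rw [ht] at h1
    have h7 : ((Nat.card H : ℕ) : ℝ) < ((∑ h : H, Nat.card {x : G // x * x = (h : G)} : ℕ) : ℝ) :=
      Nat.cast_lt.2 hcount
    rw [h1] at h7
    nlinarith [show (0 : ℝ) < Nat.card H from Nat.cast_pos.2 Nat.card_pos]
  · intro hodd χ h1 _ h3
    by_contra hne
    obtain ⟨m, hm, hsum⟩ := mult_eq H χ
    obtain ⟨ψ, hψ⟩ := exists_quot_irr H.normalCore χ (trivial_on_core H χ (by
      rw [hsum]
      exact mul_ne_zero (Nat.cast_ne_zero.2 Nat.card_pos.ne') (by rwa [← hm])))
    have hne' : (ψ : G ⧸ H.normalCore → ℂ) ≠ (fun _ => (1 : ℂ)) := fun e =>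
      hne (Subtype.ext (funext fun g => by rw [hψ g, e]; rfl))
    -- squaring is a bijection of the quotient
    have hoddQ : Nat.Coprime (Nat.card (G ⧸ H.normalCore)) 2 := by
      rw [← Subgroup.index_eq_card]; exact hodd.coprime_two_right
    have hQ : ∑ q : G ⧸ H.normalCore, (ψ : G ⧸ H.normalCore → ℂ) (q * q) = 0 := by
      have h4 := classInner_irr_ne ψ.2 (isIrrCharacter_one (G := G ⧸ H.normalCore)) hne'
      have h5 := card_mul_classInner (ψ : G ⧸ H.normalCore → ℂ) (fun _ => 1)
      rw [h4, mul_zero] at h5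
      simp only [map_one, mul_one] at h5
      rw [h5]
      exact Fintype.sum_equiv (powCoprime hoddQ) _ _ fun q => by simp [powCoprime, pow_two]
    have hG0 : ∑ g : G, (χ : G → ℂ) (g * g) = 0 := by
      rw [← Finset.sum_fiberwise Finset.univ (fun g : G => (g : G ⧸ H.normalCore))]
      have hfib : ∀ q : G ⧸ H.normalCore,
          ∑ g ∈ Finset.univ.filter (fun g : G => (g : G ⧸ H.normalCore) = q),
            (χ : G → ℂ) (g * g) =
          (Nat.card H.normalCore : ℂ) * (ψ : G ⧸ H.normalCore → ℂ) (q * q) := by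
        intro q
        rw [Finset.sum_congr rfl (fun g hg => by
          rw [hψ, QuotientGroup.mk_mul, (Finset.mem_filter.1 hg).2]), Finset.sum_const, nsmul_eq_mul]
        congr 1
        rw [← Fintype.card_subtype, ← Nat.card_eq_fintype_card]
        obtain ⟨a, rfl⟩ := QuotientGroup.mk_surjective q
        exact congrArg _ (Nat.card_congr
          { toFun := fun g => ⟨a⁻¹ * g, by rw [← QuotientGroup.eq]; exact g.2.symm⟩
            invFun := fun n => ⟨a * n, by
              rw [QuotientGroup.mk_mul, (QuotientGroup.eq_one_iff _).2 n.2, mul_one]⟩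
            left_inv := fun g => Subtype.ext (by simp)
            right_inv := fun n => Subtype.ext (by simp) })
      simp only [hfib]
      rw [← Finset.mul_sum, hQ, mul_zero]
    rw [nu, hG0, mul_zero] at h3
    exact zero_ne_one h3

end Cfsg.Agent.S4784
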