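import Cfsg.Statements.S4796
import Cfsg.Agent.Lib.CharKernel
import Cfsg.Agent.Lib.CharInducedRep
import Cfsg.Agent.Lib.CharInducedBasic

set_option autoImplicit false
open Cfsg

namespace Cfsg.Agent.S4796

open scoped ComplexConjugate Pointwise
open Cfsg.Agent.CharBasic Cfsg.Agent.CharBasicOrth Cfsg.Agent.CharBasicDecomp
open Cfsg.Agent.CharInduced Cfsg.Agent.CharAverage Cfsg.Agent.CharKernel

/-- `χ(1)² |Z(G)| ≤ |G|`. -/
theorem sq_mul_card_center_le {A : Type*} [Group A] [Finite A] (χ : Cfsg.IrrCharacter A) :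
    Cfsg.charDegree (χ : A → ℂ) ^ 2 * Nat.card (Subgroup.center A) ≤ Nat.card A := by
  classical
  have := Fintype.ofFinite A
  obtain ⟨n, ρ, hi, hρ⟩ := χ.2
  have hn : Cfsg.charDegree (χ : A → ℂ) = Module.finrank ℂ (Fin n → ℂ) := by
    apply Nat.cast_injective (R := ℂ)
    rw [← irr_apply_one χ, ← hρ, Representation.char_one]
  have h1 := card_mul_classInner (χ : A → ℂ) (χ : A → ℂ)
  rw [classInner_irr_self χ.2, mul_one] at h1
  have h2 : (Nat.card A : ℝ) = ∑ g : A, ‖(χ : A → ℂ) g‖ ^ 2 := by
    have h3 := congrArg Complex.re h1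
    simpa [Complex.mul_conj', ← Complex.ofReal_pow] using h3
  have h3 : ∀ g ∈ (Finset.univ.filter fun g : A => g ∈ Subgroup.center A),
      ‖(χ : A → ℂ) g‖ ^ 2 = (Cfsg.charDegree (χ : A → ℂ) : ℝ) ^ 2 := by
    intro g hg
    rw [← hρ, (norm_eq_finrank_iff ρ g).2 (exists_scalar_of_mem_center ρ (Finset.mem_filter.1 hg).2),
      hρ, hn]
  have h4 : ((Cfsg.charDegree (χ : A → ℂ) ^ 2 * Nat.card (Subgroup.center A) : ℕ) : ℝ) ≤ Nat.card A := by
    rw [h2]
    refine le_trans (le_of_eq ?_) (Finset.sum_le_sum_of_subset_of_nonneg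
      (Finset.subset_univ (Finset.univ.filter fun g : A => g ∈ Subgroup.center A))
      fun g _ _ => by positivity)
    rw [Finset.sum_congr rfl h3, Finset.sum_const, nsmul_eq_mul, ← Fintype.card_subtype,
      ← Nat.card_eq_fintype_card]
    push_cast; ring
  exact_mod_cast h4

variable {G : Type*} [Group G] [Finite G]

/-- The structure of `G` when a faithful irreducible character has prime codegree. -/
theorem structure_thm (χ : Cfsg.IrrCharacter G)
    (p : ℕ) (hp : p.Prime)
    (hcod : Nat.card G = p * Cfsg.charDegree (χ : G → ℂ)) :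
    ∃ P : Subgroup G, P.Normal ∧ Nat.card P = p ∧ (Nat.card G = p ∨
      (Subgroup.centralizer (P : Set G) ≤ P ∧ Nat.Coprime p P.index ∧ 1 < P.index)) := by
  classical
  have := Fintype.ofFinite G
  haveI := Fact.mk hp
  set n := Cfsg.charDegree (χ : G → ℂ) with hn
  have hnpos : 0 < n := irr_degree_pos χ
  rcases eq_or_ne n 1 with h1 | h1
  · refine ⟨⊤, inferInstance, ?_, Or.inl ?_⟩ <;> simp only [Subgroup.card_top, hcod, h1, mul_one]
  have hlt : n < p := by
    have hne : χ ≠ trivIrr G := fun e => h1 (by rw [hn, e]; simp [Cfsg.charDegree, trivIrr])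
    have h := Finset.sum_le_sum_of_subset (f := fun ψ : Cfsg.IrrCharacter G =>
      Cfsg.charDegree (ψ : G → ℂ) ^ 2) (Finset.subset_univ {trivIrr G, χ})
    rw [sum_sq_charDegree, Finset.sum_pair hne.symm, hcod, ← hn] at h
    have e : Cfsg.charDegree (trivIrr G : G → ℂ) = 1 := by simp [Cfsg.charDegree, trivIrr]
    rw [e] at h
    by_contra hle
    nlinarith
  obtain ⟨P⟩ : Nonempty (Sylow p G) := inferInstance
  have hpn : ¬ p ∣ n := fun h => absurd (Nat.le_of_dvd hnpos h) (not_le.2 hlt)
  have hPc : Nat.card (P : Subgroup G) = p := by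
    rw [P.card_eq_multiplicity, hcod, Nat.factorization_mul hp.ne_zero hnpos.ne', Finsupp.add_apply,
      hp.factorization_self, Nat.factorization_eq_zero_of_not_dvd hpn, add_zero, pow_one]
  have hPi : (P : Subgroup G).index = n := by
    have := (P : Subgroup G).card_mul_index
    rw [hPc, hcod] at this
    exact Nat.eq_of_mul_eq_mul_left hp.pos this
  have hone : Nat.card (Sylow p G) = 1 := by
    have h1 : Nat.card (Sylow p G) ∣ n := hPi ▸ P.card_dvd_index
    have h2 : Nat.card (Sylow p G) % p = 1 % p := card_sylow_modEq_one p G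
    rw [Nat.mod_eq_of_lt (lt_of_le_of_lt (Nat.le_of_dvd hnpos h1) hlt),
      Nat.mod_eq_of_lt hp.one_lt] at h2
    exact h2
  have : Subsingleton (Sylow p G) := (Nat.card_eq_one_iff_unique.1 hone).1
  have hPn : (P : Subgroup G).Normal := P.normal_of_subsingleton
  refine ⟨(P : Subgroup G), hPn, hPc, Or.inr ⟨?_, ?_, ?_⟩⟩
  · set A := Subgroup.centralizer ((P : Subgroup G) : Set G) with hA
    have hPA : (P : Subgroup G) ≤ A := by
      intro x hx
      rw [hA, Subgroup.mem_centralizer_iff]
      intro y hy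
      have : IsCyclic (P : Subgroup G) := isCyclic_of_prime_card hPc
      exact congrArg Subtype.val ((IsCyclic.isMulCommutative (α := (P : Subgroup G))).is_comm.comm ⟨y, hy⟩ ⟨x, hx⟩)
    obtain ⟨m, hm, hsum⟩ := exists_mult (isCharacter_comap A.subtype (irr_isCharacter χ))
    obtain ⟨θ, hθ⟩ : ∃ θ, m θ ≠ 0 := by
      by_contra hcon
      push Not at hcon
      have h2 := congrFun hsum 1
      simp [hcon] at h2
      exact irr_one_ne_zero χ h2
    -- `χ` is contained in the induced character
    have hind := isCharacter_ind A (irr_isCharacter θ)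
    have hle : n ≤ A.index * Cfsg.charDegree (θ : A → ℂ) := by
      obtain ⟨k, hk, hks⟩ := exists_mult hind
      have hkχ : k χ ≠ 0 := by
        intro h0
        have h2 := hk χ
        rw [h0, inner_ind_left _ _ (isClassFunction_of_isCharacter (irr_isCharacter χ)),
          ← CharInduced.inner_conj_symm] at h2
        rw [show (fun h : A => (χ : G → ℂ) h) = (χ : G → ℂ) ∘ A.subtype from rfl, hm θ,
          map_natCast, Nat.cast_inj] at h2
        exact hθ h2
      have hdeg : A.index * Cfsg.charDegree (θ : A → ℂ) = ∑ ψ, k ψ * Cfsg.charDegree (ψ : G → ℂ) := by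
        apply Nat.cast_injective (R := ℂ)
        have h2 := congrFun hks 1
        simp only [Finset.sum_apply, Pi.smul_apply, smul_eq_mul, ind_one_apply, irr_apply_one θ] at h2
        rw [Nat.cast_mul, h2, Nat.cast_sum]
        exact Finset.sum_congr rfl fun ψ _ => by rw [irr_apply_one ψ, Nat.cast_mul]
      rw [hdeg]
      exact le_trans (Nat.le_mul_of_pos_left _ (Nat.pos_of_ne_zero hkχ))
        (Finset.single_le_sum (f := fun ψ => k ψ * Cfsg.charDegree (ψ : G → ℂ))
          (fun _ _ => Nat.zero_le _) (Finset.mem_univ χ))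
    have hZ : p ≤ Nat.card (Subgroup.center A) := by
      rw [← hPc, ← Nat.card_congr (Subgroup.subgroupOfEquivOfLe hPA).toEquiv]
      refine Nat.le_of_dvd Nat.card_pos (Subgroup.card_dvd_of_le ?_)
      intro x hx
      rw [Subgroup.mem_center_iff]
      intro y
      exact Subtype.ext ((Subgroup.mem_centralizer_iff.1 y.2 _ hx).symm)
    obtain ⟨e, he⟩ : p ∣ Nat.card A := hPc ▸ Subgroup.card_dvd_of_le hPA
    have hAi : A.index * e = n := by
      have h2 := A.card_mul_index
      rw [he, hcod] at h2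
      exact Nat.eq_of_mul_eq_mul_left hp.pos (by rw [← h2]; ring)
    have he1 : e ≤ Cfsg.charDegree (θ : A → ℂ) :=
      Nat.le_of_mul_le_mul_left (hAi.le.trans hle) (Nat.pos_of_ne_zero Subgroup.index_ne_zero_of_finite)
    have he2 : Cfsg.charDegree (θ : A → ℂ) ^ 2 ≤ e := by
      have h2 := sq_mul_card_center_le θ
      rw [he] at h2
      have h3 := (Nat.mul_le_mul_left (Cfsg.charDegree (θ : A → ℂ) ^ 2) hZ).trans h2
      rw [mul_comm p e] at h3
      exact Nat.le_of_mul_le_mul_right h3 hp.pos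
    have hd := irr_degree_pos θ
    have he3 : e = 1 := by nlinarith
    exact (Subgroup.eq_of_le_of_card_ge hPA (by rw [hPc, he, he3, mul_one])).symm.le
  · rw [hPi]; exact hp.coprime_iff_not_dvd.2 hpn
  · rw [hPi]; omega


/-- Let G be a finite group with a faithful irreducible complex character χ whose codegree #G / χ(1) is a prime p (for a faithful character the kernel is trivial, so the codegree is #G / χ(1)). Then either G is cyclic of order p, or G is a Frobenius group whose Frobenius kernel has order p: some proper non-trivial subgroup H satisfies H ∩ gHg⁻¹ = 1 for every element g outside H, and the set of elements lying in no conjugate of H, together with the identity, has exactly p elements. -/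
theorem result {G : Type*} [Group G] [Finite G] (χ : Cfsg.IrrCharacter G) (hfaith : ∀ g : G, (χ : G → ℂ) g = (χ : G → ℂ) 1 → g = 1) (p : ℕ) (hp : p.Prime) (hcod : Nat.card G = p * Cfsg.charDegree (χ : G → ℂ)) : (IsCyclic G ∧ Nat.card G = p) ∨ ∃ H : Subgroup G, Cfsg.IsFrobeniusComplement H ∧ Nat.card ↥(Cfsg.frobeniusKernel H) = p := by
  classical
  haveI := Fact.mk hp
  obtain ⟨P, hPn, hPc, hcase⟩ := structure_thm χ p hp hcod
  rcases hcase with h | ⟨hC, hcop, hidx⟩
  · exact Or.inl ⟨isCyclic_of_prime_card h, h⟩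
  right
  obtain ⟨H, hH⟩ := Subgroup.exists_right_complement'_of_coprime (N := P) (by rwa [hPc])
  have hdis : P ⊓ H = ⊥ := hH.disjoint.eq_bot
  have hHc : Nat.card H = P.index := hH.symm.index_eq_card.symm
  have hfix : ∀ h ∈ H, ∀ k ∈ P, k ≠ 1 → h * k = k * h → h = 1 := by
    intro h hh k hk hk1 hcomm
    have : h ∈ P := hC (by
      rw [Subgroup.mem_centralizer_iff]
      intro y hy
      have hgen : (⊤ : Subgroup P) = Subgroup.zpowers (⟨k, hk⟩ : P) :=
        (zpowers_eq_top_of_prime_card hPc (fun e => hk1 (congrArg Subtype.val e))).symm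
      obtain ⟨i, hi⟩ := (hgen ▸ Subgroup.mem_top (⟨y, hy⟩ : P) : (⟨y, hy⟩ : P) ∈ Subgroup.zpowers _)
      have hi' : k ^ i = y := congrArg Subtype.val hi
      rw [← hi']
      exact ((Commute.zpow_right hcomm i).eq).symm)
    have h2 : h ∈ P ⊓ H := ⟨this, hh⟩
    rwa [hdis, Subgroup.mem_bot] at h2
  have hdecomp : ∀ g : G, ∃ k ∈ P, ∃ h ∈ H, g = k * h := fun g => by
    obtain ⟨⟨⟨k, hk⟩, ⟨h, hh⟩⟩, e, -⟩ := (Subgroup.isComplement_iff_existsUnique.1 hH) g
    exact ⟨k, hk, h, hh, e.symm⟩
  refine ⟨H, ⟨?_, ?_, ?_⟩, ?_⟩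
  · intro e
    rw [e, Subgroup.card_bot] at hHc
    omega
  · intro e
    have h1 : P ⊓ H = P := by rw [e, inf_top_eq]
    rw [hdis] at h1
    rw [← h1, Subgroup.card_bot] at hPc
    exact hp.ne_one hPc.symm
  · intro g hg
    rw [eq_bot_iff]
    rintro y ⟨hy, hy'⟩
    obtain ⟨k, hk, h, hh, rfl⟩ := hdecomp g
    obtain ⟨z, hz, rfl⟩ := Subgroup.mem_map.1 hy'
    have hz' : h * z * h⁻¹ ∈ H := H.mul_mem (H.mul_mem hh hz) (H.inv_mem hh)
    set w := h * z * h⁻¹ with hw
    have hkw : k * w * k⁻¹ ∈ H := by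
      have : k * h * z * (k * h)⁻¹ = k * w * k⁻¹ := by rw [hw]; group
      exact this ▸ hy
    have hk1 : k ≠ 1 := fun e => hg (by rw [e, one_mul]; exact hh)
    have hcomm : w * k = k * w := by
      have h1 : k * w * k⁻¹ * w⁻¹ ∈ P ⊓ H := by
        refine ⟨?_, H.mul_mem hkw (H.inv_mem hz')⟩
        rw [show k * w * k⁻¹ * w⁻¹ = k * (w * k⁻¹ * w⁻¹) by group]
        exact P.mul_mem hk (hPn.conj_mem _ (P.inv_mem hk) w)
      rw [hdis, Subgroup.mem_bot] at h1
      calc w * k = (k * w * k⁻¹ * w⁻¹)⁻¹ * (k * w) := by group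
        _ = k * w := by rw [h1, inv_one, one_mul]
    have hw1 : w = 1 := hfix w hz' k hk hk1 hcomm
    show (MulDistribMulAction.toMonoidEnd (MulAut G) G) (MulAut.conj (k * h)) z ∈ (⊥ : Subgroup G)
    rw [Subgroup.mem_bot]
    show k * h * z * (k * h)⁻¹ = 1
    calc k * h * z * (k * h)⁻¹ = k * w * k⁻¹ := by rw [hw]; group
      _ = 1 := by rw [hw1]; group
  · have hset : Cfsg.frobeniusKernel H = (P : Set G) := by
      ext x
      constructor
      · rintro (rfl | hx)
        · exact P.one_mem
        · by_contra hxP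
          obtain ⟨k, hk, h, hh, rfl⟩ := hdecomp x
          have hh1 : h ≠ 1 := fun e => hxP (by rw [e, mul_one]; exact hk)
          let f : P → P := fun u => ⟨u * h * (u : G)⁻¹ * h⁻¹, by
            rw [show (u : G) * h * (u : G)⁻¹ * h⁻¹ = (u : G) * (h * (u : G)⁻¹ * h⁻¹) by group]
            exact P.mul_mem u.2 (hPn.conj_mem _ (P.inv_mem u.2) h)⟩
          have hinj : Function.Injective f := by
            intro u v huv
            have h1 : (u : G) * h * (u : G)⁻¹ * h⁻¹ = v * h * (v : G)⁻¹ * h⁻¹ := congrArg Subtype.val huv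
            have h2 : h * ((u : G)⁻¹ * v) = ((u : G)⁻¹ * v) * h := by
              calc h * ((u : G)⁻¹ * v) = (u : G)⁻¹ * ((u : G) * h * (u : G)⁻¹ * h⁻¹) * h * v := by group
                _ = _ := by rw [h1]; group
            by_contra hne
            exact hh1 (hfix h hh _ (P.mul_mem (P.inv_mem u.2) v.2)
              (fun e => hne (Subtype.ext (inv_mul_eq_one.1 e))) h2)
          obtain ⟨u, hu⟩ := Finite.injective_iff_surjective.1 hinj ⟨k, hk⟩
          refine hx u ?_
          refine Subgroup.mem_map.2 ⟨h, hh, ?_⟩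
          show (u : G) * h * (u : G)⁻¹ = k * h
          have hu' : (u : G) * h * (u : G)⁻¹ * h⁻¹ = k := congrArg Subtype.val hu
          rw [← hu']
          group
      · intro hx
        refine or_iff_not_imp_left.2 fun hx1 g hg => hx1 ?_
        obtain ⟨z, hz, rfl⟩ := Subgroup.mem_map.1 hg
        have hz2 : z ∈ P ⊓ H := by
          refine ⟨?_, hz⟩
          have h1 : g * z * g⁻¹ ∈ P := hx
          have h2 := hPn.conj_mem _ h1 g⁻¹
          simpa [mul_assoc] using h2
        rw [hdis, Subgroup.mem_bot] at hz2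
        subst hz2
        show g * 1 * g⁻¹ = 1
        group
    rw [hset]
    exact hPc

end Cfsg.Agent.S4796
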