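import Cfsg.Statements.S4797
import Cfsg.Agent.S4796
import Cfsg.Agent.Lib.CharKernel

set_option autoImplicit false
open Cfsg

namespace Cfsg.Agent.S4797

open Cfsg.Agent.CharBasic Cfsg.Agent.CharAverage Cfsg.Agent.CharKernel Cfsg.Agent.CharBasicLinear

open scoped commutatorElement

/-- A perfect group has no irreducible character of prime codegree. -/
theorem not_perfect_of_structure {Q : Type*} [Group Q] [Finite Q] (p : ℕ) (hp : p.Prime)
    (ψ : Cfsg.IrrCharacter Q) (hcod : Nat.card Q = p * Cfsg.charDegree (ψ : Q → ℂ)) :
    commutator Q ≠ ⊤ := by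
  haveI := Fact.mk hp
  intro htop
  obtain ⟨P, hPn, hPc, hcase⟩ := Cfsg.Agent.S4796.structure_thm ψ p hp hcod
  rcases hcase with h | ⟨hC, -, hidx⟩
  · have : IsCyclic Q := isCyclic_of_prime_card h
    have hnt : Nontrivial Q := Finite.one_lt_card_iff_nontrivial.1 (h ▸ hp.one_lt)
    refine bot_ne_top (α := Subgroup Q) ?_
    rw [← htop]
    symm
    rw [commutator_def, Subgroup.commutator_eq_bot_iff_le_centralizer]
    intro a _
    rw [Subgroup.mem_centralizer_iff]
    intro b _
    exact (IsCyclic.isMulCommutative (α := Q)).is_comm.comm b a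
  · have : IsCyclic P := isCyclic_of_prime_card hPc
    have h1 : commutator Q ≤ P := by
      refine le_trans ?_ hC
      rw [commutator_def, Subgroup.commutator_le]
      intro a _ b _
      rw [Subgroup.mem_centralizer_iff]
      intro y hy
      have hcm := (IsCyclic.mulAutMulEquiv P).injective.eq_iff
        (a := MulAut.conjNormal a * MulAut.conjNormal b) (b := MulAut.conjNormal b * MulAut.conjNormal a)
      have hab : (MulAut.conjNormal (H := P) a) * MulAut.conjNormal b =
          MulAut.conjNormal b * MulAut.conjNormal a := hcm.1 (by rw [map_mul, map_mul, mul_comm])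
      have h2 : MulAut.conjNormal (H := P) ⁅a, b⁆ = 1 := by
        rw [map_commutatorElement, commutatorElement_eq_one_iff_mul_comm]
        exact hab
      have h3 := congrArg (fun f : MulAut P => (f ⟨y, hy⟩ : Q)) h2
      simp only [MulAut.conjNormal_apply, MulAut.one_apply] at h3
      calc y * ⁅a, b⁆ = ⁅a, b⁆ * y * ⁅a, b⁆⁻¹ * ⁅a, b⁆ := by rw [h3]
        _ = ⁅a, b⁆ * y := by group
    rw [htop, top_le_iff] at h1
    rw [h1, Subgroup.index_top] at hidx
    omega


/-- The codegree of an irreducible complex character χ of a finite group G is [G : ker χ] / χ(1), where ker χ is the set of elements at which χ takes the value χ(1). A non-trivial finite group is perfect if and only if no irreducible complex character of it has prime codegree. -/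
theorem result {G : Type*} [Group G] [Finite G] [Nontrivial G] : commutator G = ⊤ ↔ ∀ χ : Cfsg.IrrCharacter G, ¬ ((Nat.card G / (Nat.card {g : G // (χ : G → ℂ) g = (χ : G → ℂ) 1} * Cfsg.charDegree (χ : G → ℂ)))).Prime := by
  classical
  constructor
  · intro htop χ hp
    have hK := irrKer_normal χ
    have hQ : commutator (G ⧸ irrKer χ) = ⊤ := by
      rw [commutator_def] at htop ⊢
      rw [← Subgroup.map_top_of_surjective _ (QuotientGroup.mk'_surjective (irrKer χ)),
        ← Subgroup.map_commutator, htop]
    obtain ⟨ψ, hψ⟩ := exists_quot_irr (irrKer χ) χ fun n hn => hn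
    have hd : Cfsg.charDegree (χ : G → ℂ) = Cfsg.charDegree (ψ : G ⧸ irrKer χ → ℂ) := by
      simp [Cfsg.charDegree, hψ 1]
    refine not_perfect_of_structure _ hp ψ ?_ hQ
    rw [← hd, cod_mul_charDegree, Subgroup.index_eq_card]
  · intro h
    by_contra hne
    obtain ⟨M, hM, hle⟩ : ∃ M : Subgroup G, IsCoatom M ∧ commutator G ≤ M :=
      (eq_top_or_exists_le_coatom (commutator G)).resolve_left hne
    have hMn : M.Normal := Subgroup.Normal.of_commutator_le G hle
    have hprime : M.index.Prime := by
      rw [Subgroup.index_eq_card]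
      letI : CommGroup (G ⧸ M) :=
        { (inferInstance : Group (G ⧸ M)) with
          mul_comm := fun a b => by
            obtain ⟨a, rfl⟩ := QuotientGroup.mk'_surjective M a
            obtain ⟨b, rfl⟩ := QuotientGroup.mk'_surjective M b
            rw [← map_mul, ← map_mul, QuotientGroup.mk'_apply, QuotientGroup.mk'_apply,
              QuotientGroup.eq]
            apply hle
            have : (a * b)⁻¹ * (b * a) = ⁅b⁻¹, a⁻¹⁆ := by rw [commutatorElement_def]; group
            rw [this]
            exact Subgroup.commutator_mem_commutator (Subgroup.mem_top _) (Subgroup.mem_top _) }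
      have hnt : Nontrivial (G ⧸ M) := Finite.one_lt_card_iff_nontrivial.1 (by
        rw [← Subgroup.index_eq_card]; exact Subgroup.one_lt_index_of_ne_top hM.1)
      have : IsSimpleGroup (G ⧸ M) := ⟨fun H _ => by
        have h1 := Subgroup.map_comap_eq_self_of_surjective (QuotientGroup.mk'_surjective M) H
        have hle' : M ≤ H.comap (QuotientGroup.mk' M) := fun x hx => by
          rw [Subgroup.mem_comap, QuotientGroup.mk'_apply, (QuotientGroup.eq_one_iff x).2 hx]
          exact H.one_mem
        rcases hM.le_iff.1 hle' with h2 | h2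
        · right; rw [← h1, h2, Subgroup.map_top_of_surjective _ (QuotientGroup.mk'_surjective M)]
        · left; rw [← h1, h2, Subgroup.map_eq_bot_iff, QuotientGroup.ker_mk']⟩
      exact IsSimpleGroup.prime_card
    haveI := Fact.mk hprime
    obtain ⟨χ, hK, hχ⟩ := exists_pPrime_degree M (dvd_refl M.index)
      (fun J _ hJ hdvd => by
        rcases hM.le_iff.1 hJ with h2 | h2
        · rw [h2, Subgroup.index_top] at hdvd
          exact absurd hdvd hprime.not_dvd_one
        · exact h2)
    have h1 : Cfsg.charDegree (χ : G → ℂ) ∣ M.index := hK ▸ charDegree_dvd_index χ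
    have h2 : Cfsg.charDegree (χ : G → ℂ) = 1 := by
      rcases (Nat.dvd_prime hprime).1 h1 with e | e
      · exact e
      · exact absurd (e ▸ dvd_refl M.index) hχ
    refine h χ ?_
    rw [cod_eq, h2, Nat.div_one, hK]
    exact hprime

end Cfsg.Agent.S4797
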