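import Cfsg.Statements.S4798
import Cfsg.Agent.Lib.CharKernel
import Cfsg.Agent.Lib.CharInducedRep
import Cfsg.Agent.Lib.CharInducedBasic

set_option autoImplicit false
open Cfsg

namespace Cfsg.Agent.S4798

open scoped ComplexConjugate
open Cfsg.Agent.CharBasic Cfsg.Agent.CharBasicOrth Cfsg.Agent.CharBasicDecomp
open Cfsg.Agent.CharInduced Cfsg.Agent.CharAverage

/-- A character of degree at most `χ 1` containing the irreducible `χ` equals `χ`. -/
theorem eq_of_contains {G : Type*} [Group G] [Fintype G] {η : G → ℂ} (hη : Cfsg.IsCharacter G η)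
    (χ : Cfsg.IrrCharacter G) (hne : Cfsg.classInner η (χ : G → ℂ) ≠ 0)
    (hle : Cfsg.charDegree η ≤ Cfsg.charDegree (χ : G → ℂ)) : η = (χ : G → ℂ) := by
  classical
  obtain ⟨m, hm, hsum⟩ := exists_mult hη
  have hχ : 1 ≤ m χ := Nat.one_le_iff_ne_zero.2 fun h => hne (by rw [hm, h, Nat.cast_zero])
  have hdeg : Cfsg.charDegree η = ∑ ψ, m ψ * Cfsg.charDegree (ψ : G → ℂ) := by
    apply Nat.cast_injective (R := ℂ)
    rw [← apply_one_eq_charDegree hη, Nat.cast_sum]
    conv_lhs => rw [hsum]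
    simp only [Finset.sum_apply, Pi.smul_apply, smul_eq_mul, Nat.cast_mul]
    exact Finset.sum_congr rfl fun ψ _ => by rw [irr_apply_one ψ]
  rw [hdeg, ← Finset.add_sum_erase _ _ (Finset.mem_univ χ)] at hle
  have h1 : Cfsg.charDegree (χ : G → ℂ) ≤ m χ * Cfsg.charDegree (χ : G → ℂ) :=
    Nat.le_mul_of_pos_left _ hχ
  have h0 : ∀ ψ ∈ Finset.univ.erase χ, m ψ = 0 := by
    intro ψ hψ
    have h2 : ∑ ψ ∈ Finset.univ.erase χ, m ψ * Cfsg.charDegree (ψ : G → ℂ) = 0 := by omega
    exact ((mul_eq_zero.1 (Finset.sum_eq_zero_iff.1 h2 ψ hψ))).resolve_right (irr_degree_pos ψ).ne'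
  have hm1 : m χ = 1 := by
    have h2 : m χ * Cfsg.charDegree (χ : G → ℂ) = 1 * Cfsg.charDegree (χ : G → ℂ) := by omega
    exact Nat.eq_of_mul_eq_mul_right (irr_degree_pos χ) h2
  rw [hsum, ← Finset.add_sum_erase _ _ (Finset.mem_univ χ), hm1, Nat.cast_one, one_smul,
    Finset.sum_eq_zero (fun ψ hψ => by rw [h0 ψ hψ, Nat.cast_zero, zero_smul]), add_zero]


/-- Let p be a prime and χ a faithful irreducible complex character of the finite group G (χ(g) = χ(1) only for g = 1), so that its codegree is #G / χ(1). Then #G / χ(1) is a power of p if and only if χ is induced from a character of a Sylow p-subgroup of G. -/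
theorem result {G : Type*} [Group G] [Fintype G] (p : ℕ) [Fact p.Prime] (χ : Cfsg.IrrCharacter G) (hfaith : ∀ g : G, (χ : G → ℂ) g = (χ : G → ℂ) 1 → g = 1) : (∃ k : ℕ, Nat.card G = p ^ k * Cfsg.charDegree (χ : G → ℂ)) ↔ ∃ (P : Sylow p G) (θ : ↥(P : Subgroup G) → ℂ), Cfsg.IsCharacter ↥(P : Subgroup G) θ ∧ (χ : G → ℂ) = Cfsg.indFun (P : Subgroup G) θ := by
  classical
  have hpP : p.Prime := Fact.out
  constructor
  · rintro ⟨k, hk⟩
    obtain ⟨P⟩ : Nonempty (Sylow p G) := inferInstance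
    refine ⟨P, ?_⟩
    have hres : Cfsg.IsCharacter ↥(P : Subgroup G) (fun x => (χ : G → ℂ) x) :=
      isCharacter_comap (P : Subgroup G).subtype (irr_isCharacter χ)
    obtain ⟨m, hm, hsum⟩ := exists_mult hres
    have hkey : ∃ ψ : Cfsg.IrrCharacter ↥(P : Subgroup G), m ψ ≠ 0 ∧
        (P : Subgroup G).index * Cfsg.charDegree (ψ : ↥(P : Subgroup G) → ℂ) ≤
          Cfsg.charDegree (χ : G → ℂ) := by
      by_contra hcon
      push Not at hcon
      obtain ⟨a, ha⟩ := IsPGroup.iff_card.1 P.2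
      have hG : Nat.card G = (P : Subgroup G).index * p ^ a := by
        rw [← ha, Subgroup.index_mul_card]
      have hcop : Nat.Coprime (p ^ k) (P : Subgroup G).index :=
        Nat.Coprime.pow_left k (hpP.coprime_iff_not_dvd.2 P.not_dvd_index)
      have hdvd : (P : Subgroup G).index ∣ Cfsg.charDegree (χ : G → ℂ) :=
        hcop.symm.dvd_of_dvd_mul_left ⟨p ^ a, by rw [← hk, hG]⟩
      obtain ⟨e, he⟩ := hdvd
      have he' : p ^ k * e = p ^ a := by
        have h1 : (P : Subgroup G).index * (p ^ k * e) = (P : Subgroup G).index * p ^ a := by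
          rw [← hG, hk, he]; ring
        exact Nat.eq_of_mul_eq_mul_left (Nat.pos_of_ne_zero Subgroup.index_ne_zero_of_finite) h1
      obtain ⟨b, -, hb⟩ := (Nat.dvd_prime_pow hpP).1 (Dvd.intro_left _ he')
      subst hb
      have hall : ∀ ψ : Cfsg.IrrCharacter ↥(P : Subgroup G),
          p ^ (b + 1) ∣ m ψ * Cfsg.charDegree (ψ : ↥(P : Subgroup G) → ℂ) := by
        intro ψ
        by_cases h0 : m ψ = 0
        · simp [h0]
        · refine dvd_mul_of_dvd_right ?_ _
          obtain ⟨j, -, hj⟩ := (Nat.dvd_prime_pow hpP).1 (ha ▸ charDegree_dvd_card ψ)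
          rw [hj]
          refine pow_dvd_pow p ?_
          have h1 := hcon ψ h0
          rw [he, hj] at h1
          exact Nat.succ_le_of_lt ((Nat.pow_lt_pow_iff_right hpP.one_lt).1
            (lt_of_mul_lt_mul_left' h1))
      have hdeg : (P : Subgroup G).index * p ^ b =
          ∑ ψ, m ψ * Cfsg.charDegree (ψ : ↥(P : Subgroup G) → ℂ) := by
        apply Nat.cast_injective (R := ℂ)
        have h1 := congrFun hsum 1
        simp only [Finset.sum_apply, Pi.smul_apply, smul_eq_mul, OneMemClass.coe_one] at h1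
        rw [← he, ← irr_apply_one χ, h1, Nat.cast_sum]
        exact Finset.sum_congr rfl fun ψ _ => by rw [irr_apply_one ψ, Nat.cast_mul]
      have h2 : p ^ (b + 1) ∣ (P : Subgroup G).index * p ^ b :=
        hdeg ▸ Finset.dvd_sum fun ψ _ => hall ψ
      rw [pow_succ, mul_comm (P : Subgroup G).index] at h2
      exact P.not_dvd_index ((mul_dvd_mul_iff_left (pow_ne_zero _ hpP.ne_zero)).1 h2)
    obtain ⟨ψ, hψ, hle⟩ := hkey
    refine ⟨ψ, irr_isCharacter ψ, (eq_of_contains (isCharacter_ind _ (irr_isCharacter ψ)) χ ?_ ?_).symm⟩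
    · rw [inner_ind_left _ _ (isClassFunction_of_isCharacter (irr_isCharacter χ)),
        ← CharInduced.inner_conj_symm, hm ψ, map_natCast]
      exact Nat.cast_ne_zero.2 hψ
    · refine le_trans (le_of_eq ?_) hle
      apply Nat.cast_injective (R := ℂ)
      rw [← apply_one_eq_charDegree (isCharacter_ind _ (irr_isCharacter ψ)), ind_one_apply,
        irr_apply_one ψ, Nat.cast_mul]
  · rintro ⟨P, θ, hθ, hχ⟩
    have h1 : Cfsg.charDegree (χ : G → ℂ) =
        (P : Subgroup G).index * Cfsg.charDegree θ := by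
      apply Nat.cast_injective (R := ℂ)
      rw [← irr_apply_one χ, hχ, ind_one_apply, apply_one_eq_charDegree hθ, Nat.cast_mul]
    obtain ⟨a, ha⟩ := IsPGroup.iff_card.1 P.2
    have hG : Nat.card G = (P : Subgroup G).index * p ^ a := by
      rw [← ha, Subgroup.index_mul_card]
    have hd := charDegree_dvd_card χ
    rw [h1, hG, mul_dvd_mul_iff_left (Subgroup.index_ne_zero_of_finite)] at hd
    obtain ⟨j, hj, hj'⟩ := (Nat.dvd_prime_pow hpP).1 hd
    refine ⟨a - j, ?_⟩
    rw [h1, hj', hG, ← mul_assoc, mul_comm (p ^ (a - j)), mul_assoc, ← pow_add, Nat.sub_add_cancel hj]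

end Cfsg.Agent.S4798
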