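import Cfsg.Statements.S4801
import Cfsg.Agent.Lib.CharKernel

set_option autoImplicit false
open Cfsg

namespace Cfsg.Agent.S4801

open Cfsg.Agent.CharBasic Cfsg.Agent.CharKernel


/-- The codegree of an irreducible complex character χ of a finite group G is [G : ker χ] / χ(1), where ker χ is the set of elements at which χ takes the value χ(1). Let S be a finite simple group and G a finite group such that every codegree of an irreducible character of S is a codegree of an irreducible character of G. Then the order of S divides the order of G. -/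
theorem result {S : Type*} [Group S] [Finite S] (hS : IsSimpleGroup S) {G : Type*} [Group G] [Finite G] (hsub : ∀ χ : Cfsg.IrrCharacter S, ∃ ψ : Cfsg.IrrCharacter G, (Nat.card S / (Nat.card {g : S // (χ : S → ℂ) g = (χ : S → ℂ) 1} * Cfsg.charDegree (χ : S → ℂ))) = (Nat.card G / (Nat.card {g : G // (ψ : G → ℂ) g = (ψ : G → ℂ) 1} * Cfsg.charDegree (ψ : G → ℂ)))) : Nat.card S ∣ Nat.card G := by
  classical
  refine (Nat.dvd_iff_prime_pow_dvd_dvd _ _).2 fun p k hp hk => ?_
  haveI := Fact.mk hp
  rcases Nat.eq_zero_or_pos k with rfl | hk0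
  · simp
  have hpS : p ∣ (⊥ : Subgroup S).index := by
    rw [Subgroup.index_bot]
    exact (dvd_pow_self p hk0.ne').trans hk
  obtain ⟨χ, hK, hχ⟩ := exists_pPrime_degree (⊥ : Subgroup S) hpS (fun M hM _ hdvd => by
    rcases hS.eq_bot_or_eq_top_of_normal M hM with h | h
    · exact h
    · rw [h, Subgroup.index_top] at hdvd
      exact absurd hdvd hp.not_dvd_one)
  obtain ⟨ψ, hψ⟩ := hsub χ
  refine dvd_trans ?_ (cod_dvd_card ψ)
  rw [← hψ]
  have h := cod_mul_charDegree χ
  rw [hK, Subgroup.index_bot] at h
  exact (Nat.Coprime.pow_left k ((Nat.Prime.coprime_iff_not_dvd hp).2 hχ)).dvd_of_dvd_mul_right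
    (by rw [h]; exact hk)

end Cfsg.Agent.S4801
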