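import Cfsg.Statements.S4802
import Cfsg.Agent.Lib.CharAverage

set_option autoImplicit false
open Cfsg

namespace Cfsg.Agent.S4802

open scoped ComplexConjugate
open Cfsg.Agent.CharBasic Cfsg.Agent.CharBasicOrth Cfsg.Agent.CharAverage


/-- Let N < M be normal subgroups of the finite group G and g ∈ M ∖ N. Then the conjugacy class of g is exactly M ∖ N if and only if every irreducible complex character of G whose kernel contains N takes the same value at all elements of M ∖ N, and every irreducible complex character of G whose kernel does not contain N vanishes at g. -/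
theorem result {G : Type*} [Group G] [Finite G] (N M : Subgroup G) [N.Normal] [M.Normal] (hNM : N < M) (g : G) (hgM : g ∈ M) (hgN : g ∉ N) : {h : G | IsConj g h} = (M : Set G) \ (N : Set G) ↔ ((∀ χ : Cfsg.IrrCharacter G, (∀ x ∈ N, (χ : G → ℂ) x = (χ : G → ℂ) 1) → ∀ x ∈ M, x ∉ N → ∀ y ∈ M, y ∉ N → (χ : G → ℂ) x = (χ : G → ℂ) y) ∧ (∀ χ : Cfsg.IrrCharacter G, (∃ x ∈ N, (χ : G → ℂ) x ≠ (χ : G → ℂ) 1) → (χ : G → ℂ) g = 0)) := by
  classical
  have := Fintype.ofFinite G
  constructor
  · intro h
    refine ⟨fun χ _ x hxM hxN y hyM hyN => ?_, fun χ hχ => ?_⟩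
    · have hx : IsConj g x := h.symm.subset ⟨hxM, hxN⟩
      have hy : IsConj g y := h.symm.subset ⟨hyM, hyN⟩
      exact (isConj_iff_forall_irr _ _).1 (hx.symm.trans hy) χ
    · obtain ⟨n, hn, hne⟩ := hχ
      have h1 := sum_conj_mul χ n g
      have h2 : ∀ a : G, (χ : G → ℂ) (a * n * a⁻¹ * g) = (χ : G → ℂ) g := fun a => by
        have hm : a * n * a⁻¹ ∈ N := Subgroup.Normal.conj_mem inferInstance n hn a
        have : IsConj g (a * n * a⁻¹ * g) := h.symm.subset
          ⟨M.mul_mem (hNM.le hm) hgM, fun hc => hgN ((N.mul_mem_cancel_left hm).1 hc)⟩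
        exact ((isConj_iff_forall_irr _ _).1 this χ).symm
      simp only [h2, Finset.sum_const, Finset.card_univ, nsmul_eq_mul,
        ← Nat.card_eq_fintype_card] at h1
      rw [eq_div_iff (irr_one_ne_zero χ), mul_assoc, mul_assoc] at h1
      have h3 := mul_left_cancel₀ (Nat.cast_ne_zero.2 Nat.card_pos.ne') h1
      by_contra hg
      exact hne (mul_left_cancel₀ hg (by rw [h3]; ring)).symm
  · rintro ⟨h1, h2⟩
    ext x
    simp only [Set.mem_ofPred_eq, Set.mem_sdiff, SetLike.mem_coe]
    constructor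
    · intro hx
      obtain ⟨c, rfl⟩ := isConj_iff.1 hx
      have hN : N.Normal := inferInstance
      have hM : M.Normal := inferInstance
      exact ⟨hM.conj_mem g hgM c, fun hc => hgN (by simpa [mul_assoc] using hN.conj_mem _ hc c⁻¹)⟩
    · rintro ⟨hxM, hxN⟩
      by_contra hc
      have h0 := sum_irr_mul_conj g x
      have hg := sum_irr_mul_conj g g
      rw [if_pos (IsConj.refl g)] at hg
      rw [if_neg hc] at h0
      have : ∀ χ : Cfsg.IrrCharacter G, (χ : G → ℂ) g * conj ((χ : G → ℂ) x) =
          (χ : G → ℂ) g * conj ((χ : G → ℂ) g) := by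
        intro χ
        by_cases hk : ∀ z ∈ N, (χ : G → ℂ) z = (χ : G → ℂ) 1
        · rw [h1 χ hk x hxM hxN g hgM hgN]
        · push Not at hk
          simp [h2 χ hk]
      simp only [this] at h0
      exact Nat.card_pos.ne' (Nat.cast_eq_zero.1 (hg.symm.trans h0))

end Cfsg.Agent.S4802
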