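import Cfsg.Statements.S4805
import Cfsg.Agent.Lib.CharBasicLinear
import Cfsg.Agent.Lib.SeenOnceSolvable59

set_option autoImplicit false
open Cfsg

namespace Cfsg.Agent.S4805

open scoped commutatorElement

open scoped ComplexConjugate
open Cfsg.Agent.CharBasic Cfsg.Agent.CharBasicOrth Cfsg.Agent.CharBasicDecomp
open Cfsg.Agent.CharBasicLinear

variable {G : Type*} [Group G] [Finite G]

theorem deg_iff (ψ : Cfsg.IrrCharacter G) :
    Cfsg.charDegree (ψ : G → ℂ) = 1 ↔ (ψ : G → ℂ) 1 = 1 := by
  obtain ⟨n, -, hn⟩ := isIrrCharacter_apply_one ψ.2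
  rw [Cfsg.charDegree, hn]
  simp

theorem sum_homs [Fintype (G →* ℂˣ)] (x : G) [Decidable (x ∈ commutator G)] :
    ∑ lam : G →* ℂˣ, (lam x : ℂ) =
      if x ∈ commutator G then ((commutator G).index : ℂ) else 0 := by
  split_ifs with hx
  · have : ∀ lam : G →* ℂˣ, (lam x : ℂ) = 1 := fun lam => by
      have := Abelianization.commutator_subset_ker lam hx
      rw [MonoidHom.mem_ker] at this
      rw [this, Units.val_one]
    simp only [this, Finset.sum_const, Finset.card_univ, nsmul_eq_mul, mul_one]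
    rw [← card_hom_units, Nat.card_eq_fintype_card]
  · have hx' : Abelianization.of x ≠ 1 := fun e => hx ((QuotientGroup.eq_one_iff x).1 e)
    have : Finite (Abelianization G) := Quotient.finite _
    have : HasEnoughRootsOfUnity ℂ (Monoid.exponent (Abelianization G)) := by
      have : NeZero (Monoid.exponent (Abelianization G)) :=
        ⟨Monoid.exponent_ne_zero_of_finite⟩
      infer_instance
    obtain ⟨φ, hφ⟩ := CommGroup.exists_apply_ne_one_of_hasEnoughRootsOfUnity
      (Abelianization G) ℂ hx'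
    set μ : G →* ℂˣ := φ.comp Abelianization.of
    have hsum := (Fintype.sum_equiv (Equiv.mulLeft μ) (fun lam => ((μ * lam) x : ℂ))
      (fun lam => (lam x : ℂ)) fun _ => rfl).symm
    simp only [MonoidHom.mul_apply, Units.val_mul, ← Finset.mul_sum] at hsum
    have hμ : (μ x : ℂ) ≠ 1 := fun e => hφ (Units.ext e)
    by_contra hne
    exact hμ (mul_right_cancel₀ hne (by rw [one_mul, ← hsum]))

theorem sum_deg_one [Fintype (Cfsg.IrrCharacter G)] [Fintype (G →* ℂˣ)]
    [DecidablePred fun ψ : Cfsg.IrrCharacter G => (ψ : G → ℂ) 1 = 1]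
    (f : Cfsg.IrrCharacter G → ℂ) :
    ∑ ψ ∈ Finset.univ.filter (fun ψ : Cfsg.IrrCharacter G => (ψ : G → ℂ) 1 = 1), f ψ =
      ∑ lam : G →* ℂˣ, f (linearEquiv G lam).1 := by
  rw [← Finset.sum_subtype_eq_sum_filter, Finset.subtype_univ]
  exact (Fintype.sum_equiv (linearEquiv G) _ _ fun _ => rfl).symm

theorem lam_div (lam : G →* ℂˣ) (a b : G) :
    (lam a : ℂ) * conj (lam b : ℂ) = (lam (a * b⁻¹) : ℂ) := by
  rw [map_mul, Units.val_mul, ← isCharacter_inv (isCharacter_linear lam) b]


/-- Let G be a finite group, g an element outside the centre of G, and χ an irreducible complex character of degree greater than one with χ(g) ≠ 0 such that every other irreducible character of degree greater than one vanishes at g. Then g lies in the derived subgroup G′ and χ(g) = −[G : G′]/χ(1); G′ is the union of the kernel of χ (the elements where χ takes the value χ(1)) and the conjugacy class of g, and χ vanishes outside G′; every irreducible character of degree greater than one whose kernel contains that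 of χ equals χ; and G is solvable. -/
theorem result {G : Type*} [Group G] [Finite G] (g : G) (hg : g ∉ Subgroup.center G) (χ : Cfsg.IrrCharacter G) (hχ1 : Cfsg.charDegree (χ : G → ℂ) ≠ 1) (hχg : (χ : G → ℂ) g ≠ 0) (hother : ∀ ψ : Cfsg.IrrCharacter G, Cfsg.charDegree (ψ : G → ℂ) ≠ 1 → ψ ≠ χ → (ψ : G → ℂ) g = 0) : g ∈ commutator G ∧ (χ : G → ℂ) g = -(((commutator G).index : ℂ) / (χ : G → ℂ) 1) ∧ ((commutator G : Set G) = {x : G | (χ : G → ℂ) x = (χ : G → ℂ) 1} ∪ {h : G | IsConj g h}) ∧ (∀ x : G, x ∉ commutator G → (χ : G → ℂ) x = 0) ∧ (∀ ψ : Cfsg.IrrCharacter G, Cfsg.charDegree (ψ : G → ℂ) ≠ 1 → (∀ x : G, (χ : G → ℂ) x = (χ : G → ℂ) 1 → (ψ : G → ℂ) x = (ψ : G → ℂ) 1) → ψ = χ) ∧ Group.IsSolvable G := by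
  classical
  have := finite_irrCharacter (G := G)
  have := Fintype.ofFinite G
  have : Finite (G →* ℂˣ) := Finite.of_injective _ ((linearEquiv G).injective)
  have := Fintype.ofFinite (G →* ℂˣ)
  have hχc := isCharacter_of_isIrrCharacter χ.2
  have hχcl := isClassFunction_of_isCharacter hχc
  obtain ⟨n, hn0, hn⟩ := isIrrCharacter_apply_one χ.2
  have hχ11 : (χ : G → ℂ) 1 ≠ 1 := fun e => hχ1 ((deg_iff χ).2 e)
  have hχ10 : (χ : G → ℂ) 1 ≠ 0 := isIrrCharacter_apply_one_ne_zero χ.2
  set i := ((commutator G).index : ℂ) with hi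
  have hi0 : i ≠ 0 := Nat.cast_ne_zero.2 Subgroup.index_ne_zero_of_finite
  -- the orthogonality relation at `g`
  have col : ∀ h : G, (if h * g⁻¹ ∈ commutator G then i else 0) +
      (χ : G → ℂ) h * conj ((χ : G → ℂ) g) =
      if IsConj h g then (Nat.card (Subgroup.centralizer ({h} : Set G)) : ℂ) else 0 := by
    intro h
    rw [← sum_irr_mul_conj h g]
    refine Eq.trans ?_ (Finset.sum_filter_add_sum_filter_not Finset.univ
        (fun ψ : Cfsg.IrrCharacter G => (ψ : G → ℂ) 1 = 1) _)
    congr 1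
    · rw [sum_deg_one (fun ψ : Cfsg.IrrCharacter G => (ψ : G → ℂ) h * conj ((ψ : G → ℂ) g))]
      refine (sum_homs (h * g⁻¹)).symm.trans (Finset.sum_congr rfl fun lam _ => ?_)
      exact (lam_div lam h g).symm
    · symm
      refine Finset.sum_eq_single_of_mem χ (Finset.mem_filter.2 ⟨Finset.mem_univ _, hχ11⟩)
        fun ψ hψ hne => ?_
      rw [hother ψ (fun e => (Finset.mem_filter.1 hψ).2 ((deg_iff ψ).1 e)) hne, map_zero, mul_zero]
  have hg1 : ¬ IsConj (1 : G) g := fun e => hg ((isConj_one_right.1 e) ▸ Subgroup.one_mem _)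
  have hone := col 1
  rw [if_neg hg1, one_mul] at hone
  have hgc : g ∈ commutator G := by
    by_contra h
    rw [if_neg (fun e => h (by simpa using e)), zero_add] at hone
    exact hχg (by simpa [hχ10] using hone)
  rw [if_pos ((commutator G).inv_mem hgc)] at hone
  have hcj : conj ((χ : G → ℂ) g) = -(i / (χ : G → ℂ) 1) := by
    rw [eq_neg_iff_add_eq_zero]
    field_simp
    linear_combination hone
  have hval : (χ : G → ℂ) g = -(i / (χ : G → ℂ) 1) := by
    have h1 := congrArg conj hcj
    rw [Complex.conj_conj, map_neg, map_div₀, hi, map_natCast, hn, map_natCast] at h1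
    rw [hn, hi]; exact h1
  have hcj' : conj ((χ : G → ℂ) g) ≠ 0 := fun e => hχg (by simpa using e)
  have hmem : ∀ h : G, h * g⁻¹ ∈ commutator G ↔ h ∈ commutator G :=
    fun h => Subgroup.mul_mem_cancel_right _ ((commutator G).inv_mem hgc)
  have hout : ∀ x : G, x ∉ commutator G → (χ : G → ℂ) x = 0 := by
    intro x hx
    have h1 := col x
    rw [if_neg (fun e => hx ((hmem x).1 e)), zero_add, if_neg (fun e => hx ?_)] at h1
    · exact (mul_eq_zero.1 h1).resolve_right hcj'
    · obtain ⟨v, hv⟩ := isConj_iff.1 e.symm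
      rw [← hv]
      exact (inferInstance : (commutator G).Normal).conj_mem g hgc v
  have hin : ∀ x : G, x ∈ commutator G → ¬ IsConj g x → (χ : G → ℂ) x = (χ : G → ℂ) 1 := by
    intro x hx hgx
    have h1 := col x
    rw [if_pos ((hmem x).2 hx), if_neg (fun e => hgx e.symm)] at h1
    refine mul_right_cancel₀ hcj' ?_
    linear_combination h1 - hone
  have hne : (χ : G → ℂ) g ≠ (χ : G → ℂ) 1 := by
    rw [hval, hn, hi]
    intro e
    have h2 : -(((commutator G).index : ℝ) / n) = (n : ℝ) := by
      have := congrArg Complex.re e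
      rw [← Complex.ofReal_natCast, ← Complex.ofReal_natCast, ← Complex.ofReal_div] at this
      simpa using this
    have h3 : (0 : ℝ) < n := by exact_mod_cast hn0
    have h4 : (0 : ℝ) ≤ ((commutator G).index : ℝ) / n := by positivity
    linarith
  set K := charKer (χ : G → ℂ) hχc with hK
  have hKmem : ∀ x, x ∈ K ↔ (χ : G → ℂ) x = (χ : G → ℂ) 1 := fun _ => Iff.rfl
  have hKn : K.Normal := charKer_normal _ hχc
  have hKle : K ≤ commutator G := fun x hx => by
    by_contra h
    exact hχ10 (((hKmem x).1 hx).symm.trans (hout x h))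
  have hH : SeenOnceSolvable59.Hyp K g :=
    ⟨hgc, fun e => hne ((hKmem g).1 e), hKle, fun x hx hxK => by
      by_contra h
      exact hxK ((hKmem x).2 (hin x hx h))⟩
  refine ⟨hgc, hval, ?_, hout, ?_, hH.solvable fun u hu => ?_⟩
  · ext x
    constructor
    · intro hx
      by_cases hc : IsConj g x
      · exact Or.inr hc
      · exact Or.inl (hin x hx hc)
    · rintro (hx | hx)
      · exact hKle hx
      · obtain ⟨v, hv⟩ := isConj_iff.1 (show IsConj g x from hx)
        rw [← hv]
        exact (inferInstance : (commutator G).Normal).conj_mem g hgc v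
  · intro ψ hψ1 hψker
    by_contra hne'
    have hψ0 := hother ψ hψ1 hne'
    have hψcl := isClassFunction_of_isCharacter (isCharacter_of_isIrrCharacter ψ.2)
    have hψdeg : (ψ : G → ℂ) 1 ≠ 1 := fun e => hψ1 ((deg_iff ψ).2 e)
    have hs : ∑ lam : G →* ℂˣ, Cfsg.classInner (ψ : G → ℂ) (fun x => (lam x : ℂ)) = 0 :=
      Finset.sum_eq_zero fun lam _ => classInner_irr_ne ψ.2 (isIrrCharacter_linear lam)
        (fun e => hψdeg (by rw [e]; simp))
    simp only [Cfsg.classInner] at hs
    rw [← Finset.mul_sum, Finset.sum_comm] at hs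
    have hG : (Nat.card G : ℂ)⁻¹ ≠ 0 := inv_ne_zero (Nat.cast_ne_zero.2 Nat.card_pos.ne')
    have h1 := (mul_eq_zero.1 hs).resolve_left hG
    have h2 : ∀ x : G, ∑ lam : G →* ℂˣ, (ψ : G → ℂ) x * conj (lam x : ℂ) =
        if x ∈ K then i * (ψ : G → ℂ) 1 else 0 := by
      intro x
      rw [← Finset.mul_sum]
      have e : ∑ lam : G →* ℂˣ, conj (lam x : ℂ) = if x⁻¹ ∈ commutator G then i else 0 := by
        rw [← sum_homs x⁻¹]
        exact Finset.sum_congr rfl fun lam _ => (isCharacter_inv (isCharacter_linear lam) x).symm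
      rw [e]
      by_cases hxK : x ∈ K
      · rw [if_pos hxK, if_pos ((commutator G).inv_mem (hKle hxK)), hψker x ((hKmem x).1 hxK),
          mul_comm]
      · rw [if_neg hxK]
        split_ifs with hx
        · have hxg : IsConj g x := hH.cls x (by simpa using (commutator G).inv_mem hx) hxK
          rw [← apply_eq_of_isConj hψcl hxg, hψ0, zero_mul]
        · rw [mul_zero]
    simp only [h2, ← Finset.sum_filter, Finset.sum_const, nsmul_eq_mul] at h1
    refine mul_ne_zero ?_ (mul_ne_zero hi0 (isIrrCharacter_apply_one_ne_zero ψ.2)) h1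
    exact Nat.cast_ne_zero.2 (Finset.card_ne_zero.2
      ⟨1, Finset.mem_filter.2 ⟨Finset.mem_univ _, K.one_mem⟩⟩)
  · by_contra hu'
    obtain ⟨m, ρ, hρ, hρc⟩ := χ.2
    have h0 := hout u hu'
    have hker : ∀ v, ρ ⁅u, v⁆ = LinearMap.id := fun v => by
      have := (hKmem _).1 (hu v)
      rw [← hρc, Representation.char_one, character_eq_finrank_iff] at this
      exact this
    obtain ⟨c, hc, -⟩ := exists_scalar_of_commute ρ (ρ u) fun v w => by
      have e : u * v = ⁅u, v⁆ * (v * u) := by rw [commutatorElement_def]; group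
      rw [← Module.End.mul_apply, ← map_mul, e, map_mul, hker v, map_mul]
      rfl
    have h1 : ‖ρ.character u‖ = (Module.finrank ℂ (Fin m → ℂ) : ℝ) :=
      (norm_eq_finrank_iff ρ u).2 ⟨c, hc⟩
    rw [hρc, h0, norm_zero] at h1
    have h3 : (χ : G → ℂ) 1 = (Module.finrank ℂ (Fin m → ℂ) : ℂ) := by
      rw [← hρc, Representation.char_one]
    refine hχ10 (h3.trans ?_)
    exact_mod_cast h1.symm

end Cfsg.Agent.S4805
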