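import Cfsg.Statements.S4807
import Cfsg.Agent.Lib.Rel80Reduce

set_option autoImplicit false
open Cfsg

namespace Cfsg.Agent.S4807

universe u

open Cfsg.Agent.Rel80 in
theorem over_iff {G : Type u} [Group G] [Fintype G] {L H : Subgroup G} (hLH : L ≤ H)
    {f : G → ℂ} (hf : IrrOn H f) (ν : IrrCharacter L) (g : L → ℂ) (hg : ∀ l : L, f l = g l) :
    (∑ᶠ l : L, g l * (starRingEnd ℂ) ((ν : L → ℂ) l)) ≠ 0 ↔
      Over L (irrEquiv L ν).1 f := by
  classical
  have key : (Nat.card L : ℂ) * inn L f (irrEquiv L ν).1 =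
      ∑ᶠ l : L, g l * (starRingEnd ℂ) ((ν : L → ℂ) l) := by
    rw [card_mul_inn, sum_el, finsum_eq_sum_of_fintype]
    refine Finset.sum_congr rfl fun l _ => ?_
    rw [hg, irrEquiv_apply]
  rw [Over, mu_ne_zero_iff (hf.charOn_le hLH) (irrEquiv L ν).2.charOn, ← key, mul_ne_zero_iff,
    and_iff_right (card_ne_zero L)]

open Cfsg.Agent.Rel80 in
/-- Irreducible characters of the whole group. -/
noncomputable def topIrr (G : Type u) [Group G] [Fintype G] :
    IrrCharacter G ≃ Irr (⊤ : Subgroup G) where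
  toFun φ := ⟨(φ : G → ℂ), CharBasic.isIrrCharacter_comap
    (Subgroup.topEquiv : (⊤ : Subgroup G) ≃* G).toMonoidHom
    (Subgroup.topEquiv : (⊤ : Subgroup G) ≃* G).surjective φ.2, fun g hg => absurd (Subgroup.mem_top g) hg⟩
  invFun f := ⟨f.1, by
    have h := CharBasic.isIrrCharacter_comap
      (Subgroup.topEquiv : (⊤ : Subgroup G) ≃* G).symm.toMonoidHom
      (Subgroup.topEquiv : (⊤ : Subgroup G) ≃* G).symm.surjective f.2.1
    exact h⟩
  left_inv _ := rfl
  right_inv _ := rfl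

/-- Let p be a prime and G a finite p-solvable group, L a normal subgroup of G, S a Sylow p-subgroup of G and P the subgroup generated by L and S (so P/L is a Sylow p-subgroup of G/L), and let ν be an irreducible complex character of L that is invariant under conjugation by every element of P. Let N be the normalizer of P in G (it contains L). Then the number of irreducible characters of G of degree prime to p lying over ν (restriction to L not orthogonal to ν) equals the number of irreducible characters of N of degree prime to p lying over ν. -/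
theorem result {G : Type*} [Group G] [Finite G] (p : ℕ) [Fact p.Prime] (hG : Cfsg.IsPSolvable p G) (L : Subgroup G) [L.Normal] (S : Sylow p G) (P : Subgroup G) (hP : P = L ⊔ (S : Subgroup G)) (hLN : L ≤ (Subgroup.normalizer ((P : Subgroup G) : Set G))) (ν : Cfsg.IrrCharacter ↥L) (hν : ∀ x ∈ P, Cfsg.IsConjCharOf L x (ν : ↥L → ℂ) (ν : ↥L → ℂ)) : Nat.card {χ : Cfsg.IrrCharacter G // ¬ p ∣ Cfsg.charDegree (χ : G → ℂ) ∧ (∑ᶠ l : ↥L, (χ : G → ℂ) (l : G) * (starRingEnd ℂ) ((ν : ↥L → ℂ) l)) ≠ 0} = Nat.card {ψ : Cfsg.IrrCharacter ↥(Subgroup.normalizer ((P : Subgroup G) : Set G)) // ¬ p ∣ Cfsg.charDegree (ψ : ↥(Subgroup.normalizer ((P : Subgroup G) : Set G)) → ℂ) ∧ (∑ᶠ l : ↥L, (ψ : ↥(Subgroup.normalizer ((P : Subgroup G) : Set G)) → ℂ) (Subgroup.inclusion hLN l) * (starRingEnd ℂ) ((ν : ↥L → ℂ) l)) ≠ 0} := by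
  classical
  haveI : Fintype G := Fintype.ofFinite G
  set N := Subgroup.normalizer (P : Set G)
  let ν' : Rel80.Irr L := Rel80.irrEquiv L ν
  have hLn : (⊤ : Subgroup G) ≤ Subgroup.normalizer (L : Set G) := by
    rw [Subgroup.normalizer_eq_top]
  have hk : ∃ k, L.relIndex P = p ^ k := by
    obtain ⟨n, hn⟩ := IsPGroup.iff_card.1 S.isPGroup'
    have h : L.relIndex P ∣ p ^ n := by
      rw [hP, Rel80.relIndex_sup (le_top.trans hLn), ← hn]
      exact Subgroup.relIndex_dvd_card L _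
    obtain ⟨k, -, hk⟩ := (Nat.dvd_prime_pow (Fact.out : p.Prime)).1 h
    exact ⟨k, hk⟩
  have hc : ¬ p ∣ P.relIndex ⊤ := by
    rw [Subgroup.relIndex_top_right]
    exact fun h => S.not_dvd_index (h.trans (Subgroup.index_dvd_of_le (hP ▸ le_sup_right)))
  have hfix : ∀ x ∈ P, Rel80.cj x ν'.1 = ν'.1 := fun x hx =>
    (ν'.2.cj (hLn (Subgroup.mem_top x))).ext ν'.2 fun y hy => by
      show ν'.1 (x * y * x⁻¹) = ν'.1 y
      have hy' : x * y * x⁻¹ ∈ L := ‹L.Normal›.conj_mem y hy x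
      rw [show ν'.1 (x * y * x⁻¹) = (ν : L → ℂ) ⟨_, hy'⟩ from Rel80.irrEquiv_apply L ν ⟨_, hy'⟩,
        show ν'.1 y = (ν : L → ℂ) ⟨y, hy⟩ from Rel80.irrEquiv_apply L ν ⟨y, hy⟩]
      exact hν x hx ⟨y, hy⟩ ⟨_, hy'⟩ rfl
  have h := Rel80.reduce hG _ ⊤ L P ν'.1 rfl (hP ▸ le_sup_left) le_top hLn hk hc ν'.2 hfix
  rw [top_inf_eq] at h
  refine (Eq.trans ?_ h).trans ?_
  · refine Nat.card_congr ((topIrr G).subtypeEquiv fun χ => ?_)
    exact and_congr Iff.rfl (over_iff le_top ((topIrr G) χ).2 ν _ fun _ => rfl)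
  · symm
    refine Nat.card_congr ((Rel80.irrEquiv N).subtypeEquiv fun ψ => ?_)
    have h1 : charDegree (Rel80.irrEquiv N ψ).1 = charDegree (ψ : N → ℂ) := by
      simp only [charDegree]
      rw [show (Rel80.irrEquiv N ψ).1 1 = (ψ : N → ℂ) 1 from Rel80.irrEquiv_apply N ψ 1]
    rw [h1]
    exact and_congr Iff.rfl (over_iff hLN (Rel80.irrEquiv N ψ).2 ν _
      fun l => Rel80.irrEquiv_apply N ψ (Subgroup.inclusion hLN l))

end Cfsg.Agent.S4807
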