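import Cfsg.Statements.S4808
import Cfsg.Agent.Lib.CharKernel

set_option autoImplicit false
open Cfsg

namespace Cfsg.Agent.S4808

open Cfsg.Agent.CharBasic Cfsg.Agent.CharKernel


/-- The codegree of an irreducible complex character χ of a finite group G is [G : ker χ] / χ(1), where ker χ is the set of elements at which χ takes the value χ(1). A prime divides the order of G if and only if it divides the codegree of some irreducible complex character of G. -/
theorem result {G : Type*} [Group G] [Finite G] (p : ℕ) (hp : p.Prime) : p ∣ Nat.card G ↔ ∃ χ : Cfsg.IrrCharacter G, p ∣ (Nat.card G / (Nat.card {g : G // (χ : G → ℂ) g = (χ : G → ℂ) 1} * Cfsg.charDegree (χ : G → ℂ))) := by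
  classical
  haveI := Fact.mk hp
  refine ⟨fun h => ?_, fun ⟨χ, hχ⟩ => hχ.trans (cod_dvd_card χ)⟩
  obtain ⟨N, -, hN⟩ := Finite.exists_le_maximal
    (p := fun N : Subgroup G => N.Normal ∧ p ∣ N.index) (a := ⊥)
    ⟨inferInstance, by rwa [Subgroup.index_bot]⟩
  have : N.Normal := hN.1.1
  obtain ⟨χ, hK, hχ⟩ := exists_pPrime_degree N hN.1.2
    (fun M hM hle hdvd => le_antisymm (hN.2 ⟨hM, hdvd⟩ hle) hle)
  refine ⟨χ, (hp.coprime_iff_not_dvd.2 hχ).dvd_of_dvd_mul_right ?_⟩
  rw [cod_mul_charDegree χ, hK]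
  exact hN.1.2

end Cfsg.Agent.S4808
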