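import Mathlib
import Cfsg.Agent.S4466
import Cfsg.Agent.Lib.CharGallagher
import Cfsg.Agent.Lib.CharProjDegree
import Cfsg.Agent.Lib.CharInducedCorr
import Cfsg.Agent.Lib.PGroupsBasic
import Cfsg.Statements.S4813

set_option autoImplicit false
set_option linter.unusedVariables false
set_option linter.unusedSectionVars false
open Cfsg

namespace Cfsg.Agent.S4813

open Cfsg.Agent.CharBasic Cfsg.Agent.CharBasicOrth Cfsg.Agent.CharBasicDecomp Cfsg.Agent.CharBasicLinear
open Cfsg.Agent.CharBasicInt Cfsg.Agent.CharInduced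
open Subgroup
open scoped ComplexConjugate commutatorElement

universe u

def PrimeDegrees (G : Type u) [Group G] : Prop :=
  ∀ χ : IrrCharacter G, ∀ n : ℕ, (χ : G → ℂ) 1 = (n : ℂ) → n ≠ 1 → n.Prime

theorem prime_of_dvd_degree {G : Type u} [Group G] [Finite G] (h : PrimeDegrees G) (N : Subgroup G)
    [N.Normal] : PrimeDegrees N := by
  intro θ n hn hn1
  obtain ⟨χ, a, b, ha, hb, hba⟩ := S4466.degree_dvd_of_normal N θ.2
  rw [hn, Nat.cast_inj] at hb
  subst hb
  by_cases ha1 : a = 1
  · exact absurd (Nat.dvd_one.1 (ha1 ▸ hba)) hn1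
  · exact ((Nat.dvd_prime (h χ a ha ha1)).1 hba).resolve_left hn1 ▸ h χ a ha ha1

theorem exists_hom_of_not_mem {G : Type u} [Group G] [Finite G] (K : Subgroup G) [K.Normal]
    (hc : ∀ a b : G, ⁅a, b⁆ ∈ K) {n : G} (hn : n ∉ K) :
    ∃ lam : G →* ℂˣ, (∀ k ∈ K, lam k = 1) ∧ lam n ≠ 1 := by
  let _ : CommGroup (G ⧸ K) := { (inferInstance : Group (G ⧸ K)) with
    mul_comm := fun a b => by
      induction a using QuotientGroup.induction_on with
      | H a =>
        induction b using QuotientGroup.induction_on with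
        | H b =>
          have h := (QuotientGroup.eq_one_iff _).2 (hc a b)
          rw [← QuotientGroup.mk'_apply, map_commutatorElement,
            commutatorElement_eq_one_iff_mul_comm] at h
          exact h }
  obtain ⟨φ, hφ⟩ := CommGroup.exists_apply_ne_one_of_hasEnoughRootsOfUnity (G ⧸ K) ℂ
    (a := QuotientGroup.mk' K n) (fun h => hn ((QuotientGroup.eq_one_iff n).1 h))
  exact ⟨φ.comp (QuotientGroup.mk' K), fun k hk => by
    rw [MonoidHom.comp_apply, QuotientGroup.mk'_apply, (QuotientGroup.eq_one_iff k).2 hk, map_one], hφ⟩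

/-- The degrees above a noncentral chief factor at prime index. -/
theorem degrees_over {G : Type u} [Group G] [Finite G] (hdeg : PrimeDegrees G) (N K : Subgroup G)
    [N.Normal] [K.Normal] (hKN : K < N) (hf : N.index.Prime)
    (hmin : ∀ R : Subgroup G, R.Normal → K ≤ R → R ≤ N → R = K ∨ R = N)
    (hcomm : ∀ a ∈ N, ∀ b ∈ N, ⁅a, b⁆ ∈ K) (hnc : ∃ g : G, ∃ n ∈ N, ⁅g, n⁆ ∉ K) :
    ∀ (χ : IrrCharacter G) (a : ℕ), (χ : G → ℂ) 1 = (a : ℂ) →
      a = 1 ∨ a = N.index ∨ a = (K.relIndex N).minFac := by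
  classical
  have := Fintype.ofFinite G
  have := Fintype.ofFinite N
  intro χ a ha
  by_cases ha1 : a = 1
  · exact Or.inl ha1
  obtain ⟨ψ, hψ, hψne⟩ := exists_constituent (isCharacter_res N (isCharacter_of_isIrrCharacter χ.2))
    (fun h => isIrrCharacter_apply_one_ne_zero χ.2 (by simpa using congrFun h 1))
  obtain ⟨k, d, hd, hak, hk⟩ := CharProjDegree.degree_dvd N χ.2 hψ hψne
  rw [ha, Nat.cast_inj] at hak
  have hap := hdeg χ a ha ha1
  by_cases hd1 : d = 1
  · subst hd1
    rw [one_mul] at hak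
    subst hak
    exact Or.inr (Or.inl (((Nat.dvd_prime hf).1 hk).resolve_left ha1))
  have hdp : d.Prime := prime_of_dvd_degree hdeg N ⟨ψ, hψ⟩ d hd hd1
  have had : a = d := by
    rcases (Nat.dvd_prime hap).1 (hak ▸ dvd_mul_right d k) with h | h
    · exact absurd h hd1
    · exact h.symm
  refine Or.inr (Or.inr ?_)
  -- every character of `N` of degree `d` is invariant
  have hinv : ∀ φ : N → ℂ, IsIrrCharacter N φ → φ 1 = (d : ℂ) → ∀ g : G, conjFun N φ g = φ := by
    intro φ hφ hφ1
    by_contra hcon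
    push Not at hcon
    obtain ⟨g, hg⟩ := hcon
    have hle : N ≤ inertia N φ := le_inertia N (isClassFunction_irr hφ)
    have hT : inertia N φ = N := by
      have h1 := relIndex_mul_index hle
      rcases (Nat.dvd_prime hf).1 (Dvd.intro _ h1 : N.relIndex (inertia N φ) ∣ N.index) with h | h
      · exact le_antisymm (relIndex_eq_one.1 h) hle
      · rw [h] at h1
        have h2 : (inertia N φ).index = 1 := (Nat.mul_eq_left hf.ne_zero).1 h1
        exact absurd ((mem_inertia N).1 (index_eq_one.1 h2 ▸ mem_top g)) hg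
    have h1 : IsIrrCharacter G (indFun N φ) := isIrrCharacter_iff.2
      ⟨isCharacter_ind N (isCharacter_of_isIrrCharacter hφ), by
        rw [classInner_ind_self N hφ, hT, div_self (Nat.cast_ne_zero.2 Nat.card_pos.ne')]⟩
    have h2 : (⟨_, h1⟩ : IrrCharacter G).1 1 = ((N.index * d : ℕ) : ℂ) := by
      show indFun N φ 1 = _
      rw [ind_one_apply, hφ1, Nat.cast_mul]
    exact Nat.not_prime_mul hf.ne_one hd1 (hdeg _ _ h2
      (Nat.ne_of_gt (lt_of_lt_of_le hf.one_lt (Nat.le_mul_of_pos_right _ hdp.pos))))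
  let R : Subgroup G :=
    { carrier := {x | ∃ hx : x ∈ N, ∀ lam : N →* ℂˣ, (∀ k : N, (k : G) ∈ K → lam k = 1) →
        (∀ m : N, ψ m * (lam m : ℂ) = ψ m) → lam ⟨x, hx⟩ = 1}
      one_mem' := ⟨one_mem N, fun lam _ _ => map_one lam⟩
      mul_mem' := fun {x y} ⟨hx, hx'⟩ ⟨hy, hy'⟩ => ⟨mul_mem hx hy, fun lam h1 h2 => by
        rw [show (⟨x * y, mul_mem hx hy⟩ : N) = ⟨x, hx⟩ * ⟨y, hy⟩ from rfl, map_mul, hx' lam h1 h2,
          hy' lam h1 h2, mul_one]⟩
      inv_mem' := fun {x} ⟨hx, hx'⟩ => ⟨inv_mem hx, fun lam h1 h2 => by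
        rw [show (⟨x⁻¹, inv_mem hx⟩ : N) = (⟨x, hx⟩ : N)⁻¹ from rfl, map_inv, hx' lam h1 h2, inv_one]⟩ }
  have hψinv := hinv ψ hψ hd
  have hψc : ∀ (g : G) (m : N), ψ (MulAut.conjNormal g m) = ψ m := fun g m =>
    (mem_inertia_iff N).1 (show g ∈ inertia N ψ from hψinv g) m
  have hRn : R.Normal := ⟨fun x ⟨hx, hx'⟩ g => ⟨‹N.Normal›.conj_mem x hx g, fun lam h1 h2 => by
    have := hx' (lam.comp (MulAut.conjNormal g).toMonoidHom)
      (fun k hk => h1 _ (by
        show (MulAut.conjNormal g k : G) ∈ K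
        rw [MulAut.conjNormal_apply]; exact ‹K.Normal›.conj_mem _ hk g))
      (fun m => by
        have h := h2 (MulAut.conjNormal g m)
        rw [hψc] at h
        exact h)
    exact this⟩⟩
  have hKR : K ≤ R := fun x hx => ⟨hKN.le hx, fun lam h1 _ => h1 _ hx⟩
  have hRN : R ≤ N := fun x hx => hx.1
  have hsep : ∀ {x : N}, (x : G) ∉ K → ∃ lam : N →* ℂˣ, (∀ k : N, (k : G) ∈ K → lam k = 1) ∧ lam x ≠ 1 :=
    fun {x} hx => exists_hom_of_not_mem (K.subgroupOf N) (fun u v => hcomm u u.2 v v.2) hx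
  rcases hmin R hRn hKR hRN with hR | hR
  · have hvan : ∀ x : N, (x : G) ∉ K → ψ x = 0 := fun x hx => by
      by_contra hne
      refine hx (hR ▸ (show (x : G) ∈ R from ⟨x.2, fun lam _ h2 => ?_⟩))
      have h := h2 x
      exact Units.ext (by simpa [hne] using h)
    set K' := K.subgroupOf N with hK'
    have := Fintype.ofFinite K'
    obtain ⟨θ, hθ, hθne⟩ := exists_constituent (isCharacter_res K' (isCharacter_of_isIrrCharacter hψ))
      (fun h => isIrrCharacter_apply_one_ne_zero hψ (by simpa using congrFun h 1))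
    have hc := clifford K' hψ hθ hθne
    obtain ⟨e, he⟩ := classInner_isCharacter (isCharacter_res K' (isCharacter_of_isIrrCharacter hψ))
      (isCharacter_of_isIrrCharacter hθ)
    obtain ⟨t, -, ht⟩ := isIrrCharacter_apply_one hθ
    set O := orbitFin K' θ with hO
    have hOirr : ∀ φ ∈ O, IsIrrCharacter K' φ := fun φ hφ => by
      obtain ⟨g, rfl⟩ := (mem_orbitFin K').1 hφ; exact isIrrCharacter_conjFun K' hθ g
    have hdeq : d = e * O.card * t := by
      have h := congrFun hc 1
      rw [Pi.smul_apply, Finset.sum_apply, he, Finset.sum_congr rfl (g := fun _ => (t : ℂ))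
        (fun φ hφ => by
          obtain ⟨g, rfl⟩ := (mem_orbitFin K').1 hφ
          simp [conjFun]; exact ht)] at h
      simp only [Finset.sum_const, nsmul_eq_mul, smul_eq_mul, OneMemClass.coe_one, hd] at h
      have h' : (d : ℂ) = ((e * O.card * t : ℕ) : ℂ) := by rw [h]; push_cast; ring
      exact_mod_cast h'
    have hnorm : classInner (fun k : K' => ψ k) (fun k : K' => ψ k) = ((e * e * O.card : ℕ) : ℂ) := by
      rw [hc, he, classInner_smul_left, classInner_smul_right, classInner_sum_left,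
        Finset.sum_congr rfl (g := fun _ => (1 : ℂ)) (fun φ hφ => by
          rw [classInner_sum_right, Finset.sum_eq_single φ
            (fun φ' hφ' hne => classInner_irr_ne (hOirr φ hφ) (hOirr φ' hφ') hne.symm)
            (fun h => absurd hφ h), classInner_irr_self (hOirr φ hφ)])]
      simp only [Finset.sum_const, nsmul_eq_mul, mul_one, map_natCast]
      push_cast; ring
    have hrel : K.relIndex N = e * e * O.card := by
      have h1 := card_mul_classInner ψ ψ
      rw [classInner_irr_self hψ, mul_one] at h1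
      have h2 := card_mul_classInner (fun k : K' => ψ k) (fun k : K' => ψ k)
      rw [hnorm] at h2
      have h3 : (Nat.card N : ℂ) = (Nat.card K' : ℂ) * ((e * e * O.card : ℕ) : ℂ) := by
        rw [h1, h2, ← Finset.sum_subset (Finset.subset_univ (Finset.univ.filter fun x : N => x ∈ K'))
          (fun x _ hx => by rw [hvan x (by simpa [K', mem_subgroupOf] using hx), zero_mul])]
        exact (Finset.sum_subtype _ (by simp) _)
      rw [← Nat.cast_mul, Nat.cast_inj, ← card_mul_index K'] at h3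
      exact Nat.eq_of_mul_eq_mul_left Nat.card_pos h3
    have hne1 : K.relIndex N ≠ 1 := fun h => hKN.not_ge (relIndex_eq_one.1 h)
    have hr := Nat.minFac_prime hne1
    have hrd : (K.relIndex N).minFac ∣ d * d := by
      refine (Nat.minFac_dvd _).trans ?_
      rw [hrel, hdeq]
      exact ⟨O.card * t * t, by ring⟩
    rw [had]
    exact ((Nat.prime_dvd_prime_iff_eq hr hdp).1 ((hr.dvd_mul.1 hrd).elim id id)).symm
  · exfalso
    obtain ⟨g, n, hn, hgn⟩ := hnc
    obtain ⟨lam, hlK, hlne⟩ := hsep (x := ⟨⁅g, n⁆, by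
      rw [commutatorElement_def]
      exact mul_mem (‹N.Normal›.conj_mem n hn g) (inv_mem hn)⟩) hgn
    set ν : N →* ℂˣ := (lam.comp (MulAut.conjNormal g).toMonoidHom) * lam⁻¹ with hν
    have hφ : IsIrrCharacter N (fun m => ψ m * (lam m : ℂ)) := isIrrCharacter_mul_linear hψ lam
    have hφc : ∀ m : N, ψ (MulAut.conjNormal g m) * (lam (MulAut.conjNormal g m) : ℂ) = ψ m * (lam m : ℂ) :=
      fun m => (mem_inertia_iff N).1 (show g ∈ inertia N _ from hinv _ hφ (by simp [hd]) g) m
    have hmem : n ∈ R := hR ▸ hn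
    obtain ⟨_, hall⟩ := hmem
    have := hall ν (fun k hk => by
      have hk' : ((MulAut.conjNormal g k : N) : G) ∈ K := by
        rw [MulAut.conjNormal_apply]; exact ‹K.Normal›.conj_mem _ hk g
      simp [ν, hlK k hk, hlK _ hk']) (fun m => by
      have h := hφc m
      rw [hψc] at h
      simp only [ν, MonoidHom.mul_apply, MonoidHom.comp_apply, MonoidHom.inv_apply, Units.val_mul,
        MulEquiv.coe_toMonoidHom]
      rw [← mul_assoc, h, mul_assoc, Units.mul_inv, mul_one])
    refine hlne ?_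
    have e : (⟨⁅g, n⁆, by
      rw [commutatorElement_def]
      exact mul_mem (‹N.Normal›.conj_mem n hn g) (inv_mem hn)⟩ : N) =
        MulAut.conjNormal g ⟨n, hn⟩ * (⟨n, hn⟩ : N)⁻¹ := Subtype.ext (by simp [commutatorElement_def])
    rw [e, map_mul, map_inv]
    exact this

theorem minimal_quotient {Q : Type u} [Group Q] [Finite Q] (hsolv : Group.IsSolvable Q)
    (hdeg : PrimeDegrees Q) (hnc : ¬ ∀ a b : Q, a * b = b * a)
    (hmax : ∀ R : Subgroup Q, R.Normal → R ≠ ⊥ → ∀ a b : Q, ⁅a, b⁆ ∈ R) :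
    (∃ p : ℕ, p.Prime ∧ IsPGroup p Q) ∨
      ∃ M : Subgroup Q, M.Normal ∧ M ≠ ⊥ ∧ M.index.Prime ∧
        (∀ R : Subgroup Q, R.Normal → R ≤ M → R = ⊥ ∨ R = M) ∧
        (∀ a ∈ M, ∀ b ∈ M, a * b = b * a) ∧ ∃ g : Q, ∃ m ∈ M, ⁅g, m⁆ ≠ 1 := by
  classical
  have := Fintype.ofFinite Q
  set M := commutator Q with hM
  have hcm : ∀ a b : Q, ⁅a, b⁆ ∈ M := fun a b => commutator_mem_commutator (mem_top a) (mem_top b)
  have hmin : ∀ R : Subgroup Q, R.Normal → R ≠ ⊥ → M ≤ R := fun R hR hb => by
    rw [hM, _root_.commutator_def, commutator_le]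
    exact fun a _ b _ => hmax R hR hb a b
  have hMb : M ≠ ⊥ := fun h => hnc fun a b => commutatorElement_eq_one_iff_mul_comm.1 (mem_bot.1 (h ▸ hcm a b))
  have hMab : ∀ a ∈ M, ∀ b ∈ M, a * b = b * a := by
    intro a ha b hb
    by_contra hne
    have h2 : (⁅M, M⁆ : Subgroup Q) ≠ ⊥ := fun h => hne (commutatorElement_eq_one_iff_mul_comm.1
      (mem_bot.1 (h ▸ commutator_mem_commutator ha hb)))
    exact (IsSolvable.commutator_lt_of_ne_bot hMb).not_ge (hmin _ inferInstance h2)
  by_cases hcen : M ≤ center Q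
  · left
    have hnil : Group.IsNilpotent Q := by
      have h1 : Group.IsNilpotent (Q ⧸ center Q) := by
        let _ : CommGroup (Q ⧸ center Q) := { (inferInstance : Group (Q ⧸ center Q)) with
          mul_comm := fun a b => by
            induction a using QuotientGroup.induction_on with
            | H a =>
              induction b using QuotientGroup.induction_on with
              | H b =>
                have h := (QuotientGroup.eq_one_iff _).2 (hcen (hcm a b))
                rw [← QuotientGroup.mk'_apply, map_commutatorElement,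
                  commutatorElement_eq_one_iff_mul_comm] at h
                exact h }
        infer_instance
      exact Group.of_quotient_center_nilpotent h1
    have hnt : Nontrivial Q := by
      by_contra hh; rw [not_nontrivial_iff_subsingleton] at hh; exact hnc fun a b => Subsingleton.elim _ _
    set p := (Nat.card Q).minFac with hp_def
    have hp : p.Prime := Nat.minFac_prime Finite.one_lt_card.ne'
    refine ⟨p, hp, ?_⟩
    have : Fact p.Prime := ⟨hp⟩
    obtain ⟨P⟩ : Nonempty (Sylow p Q) := inferInstance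
    refine IsPGroup.of_card (n := (Nat.card Q).primeFactorsList.length) (Nat.eq_prime_pow_of_unique_prime_dvd Nat.card_pos.ne' ?_)
    intro r hr hrd
    by_contra hne
    have : Fact r.Prime := ⟨hr⟩
    obtain ⟨R⟩ : Nonempty (Sylow r Q) := inferInstance
    have hP := P.normal_of_normalizerCondition Group.normalizerCondition_of_isNilpotent
    have hR := R.normal_of_normalizerCondition Group.normalizerCondition_of_isNilpotent
    refine hMb (eq_bot_iff.2 ((le_inf (hmin _ hP (P.ne_bot_of_dvd_card (Nat.minFac_dvd _)))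
      (hmin _ hR (R.ne_bot_of_dvd_card hrd))).trans ?_))
    exact (P.isPGroup'.disjoint_of_ne p r (Ne.symm hne) _ _ R.isPGroup').le_bot
  right
  obtain ⟨m0, hm0, hm0c⟩ := SetLike.not_le_iff_exists.1 hcen
  obtain ⟨g0, hg0⟩ : ∃ g, ⁅g, m0⁆ ≠ 1 := by
    by_contra hh
    push Not at hh
    exact hm0c (mem_center_iff.2 fun g => commutatorElement_eq_one_iff_mul_comm.1 (hh g))
  have hminM : ∀ R : Subgroup Q, R.Normal → R ≤ M → R = ⊥ ∨ R = M := fun R hR hle =>
    (em (R = ⊥)).imp_right fun hb => le_antisymm hle (hmin R hR hb)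
  have hZ : center Q = ⊥ := by
    by_contra hb
    exact hcen (hmin _ inferInstance hb)
  set C := centralizer (M : Set Q) with hC
  have hMC : M ≤ C := fun a ha => mem_centralizer_iff.2 fun b hb => hMab b hb a ha
  have := Fintype.ofFinite M
  have := Fintype.ofFinite C
  have hMn : M.Normal := inferInstance
  have hinert : ∀ lam : M →* ℂˣ, lam ≠ 1 → inertia M (fun m => (lam m : ℂ)) = C := by
    intro lam hlam
    set T := inertia M (fun m => (lam m : ℂ)) with hT
    have hmemT : ∀ {t : Q}, t ∈ T ↔ ∀ m : M, lam (MulAut.conjNormal t m) = lam m := fun {t} => by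
      rw [hT, mem_inertia_iff]
      exact forall_congr' fun m => Units.val_inj
    refine le_antisymm (fun t ht => ?_) (fun t ht => hmemT.2 fun m => congrArg lam (Subtype.ext ?_))
    · rw [hC, mem_centralizer_iff]
      intro m hm
      let R : Subgroup Q :=
        { carrier := {x | ∃ hx : x ∈ M, ∀ y : Q, lam (MulAut.conjNormal y ⟨x, hx⟩) = 1}
          one_mem' := ⟨one_mem M, fun y => by
            rw [show (⟨1, one_mem M⟩ : M) = 1 from rfl, map_one, map_one]⟩
          mul_mem' := fun {a b} ⟨ha, ha'⟩ ⟨hb, hb'⟩ => ⟨mul_mem ha hb, fun y => by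
            rw [show (⟨a * b, mul_mem ha hb⟩ : M) = ⟨a, ha⟩ * ⟨b, hb⟩ from rfl, map_mul, map_mul, ha', hb', mul_one]⟩
          inv_mem' := fun {a} ⟨ha, ha'⟩ => ⟨inv_mem ha, fun y => by
            rw [show (⟨a⁻¹, inv_mem ha⟩ : M) = (⟨a, ha⟩ : M)⁻¹ from rfl, map_inv, map_inv, ha', inv_one]⟩ }
      have hRn : R.Normal := ⟨fun x ⟨hx, hx'⟩ g => ⟨hMn.conj_mem x hx g, fun y => by
        have h := hx' (y * g)
        rw [map_mul, MulAut.mul_apply] at h
        exact h⟩⟩
      have hRb : R = ⊥ := (hminM R hRn fun x hx => hx.1).resolve_right fun h => hlam (MonoidHom.ext fun u => by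
        have hu : (u : Q) ∈ R := by rw [h]; exact u.2
        obtain ⟨_, h'⟩ := hu
        have h'' := h' 1
        rwa [map_one, MulAut.one_apply] at h'')
      have key : ⁅t, m⁆ ∈ R := ⟨hcm t m, fun y => by
        have e : (⟨⁅t, m⁆, hcm t m⟩ : M) = MulAut.conjNormal t ⟨m, hm⟩ * (⟨m, hm⟩ : M)⁻¹ :=
          Subtype.ext (by simp [commutatorElement_def])
        rw [e, map_mul, map_mul, map_inv, map_inv, mul_inv_eq_one]
        have e2 : MulAut.conjNormal y (MulAut.conjNormal t (⟨m, hm⟩ : M)) =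
            MulAut.conjNormal t (MulAut.conjNormal y (⟨m, hm⟩ : M)) := by
          refine Subtype.ext ?_
          simp only [MulAut.conjNormal_apply]
          have h3 := hMab _ (hMn.conj_mem m hm (t * y)) _ (hcm y t)
          have e3 : y * (t * m * t⁻¹) * y⁻¹ = ⁅y, t⁆ * (t * y * m * (t * y)⁻¹) * ⁅y, t⁆⁻¹ := by
            rw [commutatorElement_def]; group
          rw [e3, ← h3, mul_inv_cancel_right]
          group
        rw [e2]
        exact hmemT.1 ht _⟩
      rw [hRb, mem_bot, commutatorElement_eq_one_iff_mul_comm] at key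
      exact key.symm
    · rw [MulAut.conjNormal_apply, ← mem_centralizer_iff.1 ht m m.2, mul_inv_cancel_right]
  have hCt : C ≠ ⊤ := fun h => hg0 (commutatorElement_eq_one_iff_mul_comm.2
    (mem_centralizer_iff.1 (h ▸ mem_top g0 : g0 ∈ C) m0 hm0).symm)
  have hCn : C.Normal := inferInstance
  have key : ∀ lam : M →* ℂˣ, lam ≠ 1 → C.index.Prime ∧ ∀ a b : C, lam ⟨⁅(a : Q), (b : Q)⁆, hcm a b⟩ = 1 := by
    intro lam hlam
    set θ : M → ℂ := fun m => (lam m : ℂ) with hθd
    have hθ : IsIrrCharacter M θ := isIrrCharacter_linear lam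
    obtain ⟨χ, hχ, hne⟩ := exists_constituent (isCharacter_ind M (isCharacter_of_isIrrCharacter hθ))
      (fun h => by
        have h1 := congrFun h 1
        rw [ind_one_apply, hθd] at h1
        simp [index_ne_zero_of_finite] at h1)
    have hresc := isCharacter_res M (isCharacter_of_isIrrCharacter hχ)
    rw [inner_ind_left M θ (isClassFunction_irr hχ),
      classInner_comm_of_isCharacter (isCharacter_of_isIrrCharacter hθ) hresc] at hne
    obtain ⟨e, he⟩ := classInner_isCharacter hresc (isCharacter_of_isIrrCharacter hθ)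
    have h1 := CharCliffordCorr.apply_one_eq M hχ hθ hne
    rw [he, hinert lam hlam, show θ 1 = 1 by simp [θ], mul_one, ← Nat.cast_mul] at h1
    have hC1 : C.index ≠ 1 := fun h => hCt (index_eq_one.1 h)
    have he0 : e ≠ 0 := fun h => hne (by rw [he, h, Nat.cast_zero])
    have hp := hdeg ⟨χ, hχ⟩ _ h1 (fun h => hC1 (Nat.eq_one_of_mul_eq_one_left h))
    rcases Nat.prime_mul_iff.1 hp with ⟨_, h⟩ | ⟨h, he1⟩
    · exact absurd h hC1
    refine ⟨h, fun a b => ?_⟩
    obtain ⟨ψ, hψ, hind, hψM⟩ := CharCliffordCorr.clifford_correspondence M hχ hθ hne C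
      (hinert lam hlam).symm hMC
    have hψ1 : ψ 1 = 1 := by
      have h2 := congrFun hψM 1
      rw [he, he1] at h2
      simp [θ] at h2
      exact h2
    obtain ⟨μ, hμ⟩ := exists_hom_of_apply_one_eq_one (isCharacter_of_isIrrCharacter hψ) hψ1
    have h2 := congrFun hψM ⟨⁅(a : Q), (b : Q)⁆, hcm a b⟩
    rw [he, he1, hμ] at h2
    simp only [Nat.cast_one, one_smul, θ] at h2
    have e : (⟨⁅(a : Q), (b : Q)⁆, hMC (hcm a b)⟩ : C) = ⁅a, b⁆ := Subtype.ext (by simp [commutatorElement_def])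
    rw [e, map_commutatorElement, commutatorElement_eq_one_iff_mul_comm.2 (mul_comm _ _)] at h2
    exact (Units.ext h2).symm
  have hMc' : ∀ a b : M, ⁅a, b⁆ ∈ (⊥ : Subgroup M) := fun a b => mem_bot.2
    (commutatorElement_eq_one_iff_mul_comm.2 (Subtype.ext (hMab a a.2 b b.2)))
  obtain ⟨lam0, -, hlam0⟩ := exists_hom_of_not_mem (⊥ : Subgroup M) hMc' (n := ⟨m0, hm0⟩)
    (fun h => hm0c (by rw [show m0 = 1 from congrArg Subtype.val (mem_bot.1 h)]; exact one_mem _))
  obtain ⟨hCp, -⟩ := key lam0 fun h => hlam0 (by rw [h]; rfl)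
  have hCab : ∀ a b : Q, a ∈ C → b ∈ C → a * b = b * a := fun a b ha hb => by
    rw [← commutatorElement_eq_one_iff_mul_comm]
    by_contra hne
    obtain ⟨lam, -, hl⟩ := exists_hom_of_not_mem (⊥ : Subgroup M) hMc' (n := ⟨⁅a, b⁆, hcm a b⟩)
      (fun h => hne (congrArg Subtype.val (mem_bot.1 h)))
    exact hl ((key lam fun h => hl (by rw [h]; rfl)).2 ⟨a, ha⟩ ⟨b, hb⟩)
  obtain ⟨x, hx⟩ : ∃ x, x ∉ C := by
    by_contra hh
    push Not at hh
    exact hCt (eq_top_iff.2 fun y _ => hh y)
  have hCM : C = M := by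
    refine (eq_of_le_of_card_ge hMC ?_).symm
    refine Nat.card_le_card_of_injective (fun c : C => (⟨⁅(c : Q), x⁆, hcm c x⟩ : M)) fun c d e => ?_
    have e' := congrArg Subtype.val e
    simp only [commutatorElement_def, mul_left_inj] at e'
    have hcom : (d : Q)⁻¹ * c * x = x * ((d : Q)⁻¹ * c) := by
      have := congrArg (fun z => (d : Q)⁻¹ * z * c) e'
      rw [show (d : Q)⁻¹ * (c * x * (c : Q)⁻¹) * c = (d : Q)⁻¹ * c * x by group,
        show (d : Q)⁻¹ * ((d : Q) * x * (d : Q)⁻¹) * c = x * ((d : Q)⁻¹ * c) by group] at this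
      exact this
    have hdc : (d : Q)⁻¹ * c ∈ C := mul_mem (inv_mem d.2) c.2
    have hcent : (d : Q)⁻¹ * c ∈ center Q := by
      refine mem_center_iff.2 fun g => ?_
      have hsup : C ⊔ zpowers x = ⊤ := by
        rw [← index_eq_one]
        refine ((Nat.dvd_prime hCp).1 (index_dvd_of_le le_sup_left)).resolve_right fun h => hx ?_
        have hh : C = C ⊔ zpowers x := by
          refine eq_of_le_of_card_ge le_sup_left (le_of_eq ?_)
          have a1 := card_mul_index C
          have a2 := card_mul_index (C ⊔ zpowers x)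
          rw [h, ← a1] at a2
          exact Nat.eq_of_mul_eq_mul_right hCp.pos a2
        exact hh ▸ mem_sup_right (mem_zpowers x)
      have hle : C ⊔ zpowers x ≤ centralizer {(d : Q)⁻¹ * c} := sup_le
        (fun u hu => mem_centralizer_singleton_iff.2 (hCab u _ hu hdc))
        (zpowers_le.2 (mem_centralizer_singleton_iff.2 hcom.symm))
      exact mem_centralizer_singleton_iff.1 (hle (hsup ▸ mem_top g))
    rw [hZ, mem_bot, inv_mul_eq_one] at hcent
    exact Subtype.ext hcent.symm
  exact ⟨M, hMn, hMb, hCM ▸ hCp, hminM, hMab, g0, m0, hm0, hg0⟩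

theorem three_degrees {G : Type u} [Group G] [Finite G] (hsolv : Group.IsSolvable G) (hdeg : PrimeDegrees G) :
    ∃ f r : ℕ, ∀ (χ : IrrCharacter G) (a : ℕ), (χ : G → ℂ) 1 = (a : ℂ) → a = 1 ∨ a = f ∨ a = r := by
  classical
  have := Fintype.ofFinite G
  by_cases hab : ∀ a b : G, a * b = b * a
  · refine ⟨1, 1, fun χ a ha => Or.inl ?_⟩
    rw [apply_one_eq_one_of_comm hab χ.2] at ha
    exact_mod_cast ha.symm
  obtain ⟨K, ⟨hKn, hK⟩, hKmax⟩ := Finset.exists_max_image
    (Finset.univ.filter fun K : Subgroup G => K.Normal ∧ ¬ ∀ a b : G, ⁅a, b⁆ ∈ K)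
    (fun K => Nat.card K) ⟨⊥, by
      simp only [Finset.mem_filter, Finset.mem_univ, true_and]
      exact ⟨inferInstance, fun h => hab fun a b => commutatorElement_eq_one_iff_mul_comm.1 (mem_bot.1 (h a b))⟩⟩
    |> fun ⟨K, hK, hm⟩ => (⟨K, (Finset.mem_filter.1 hK).2, hm⟩ :
      ∃ K : Subgroup G, (K.Normal ∧ ¬ ∀ a b : G, ⁅a, b⁆ ∈ K) ∧ ∀ K' ∈ (Finset.univ.filter
        fun K : Subgroup G => K.Normal ∧ ¬ ∀ a b : G, ⁅a, b⁆ ∈ K), Nat.card K' ≤ Nat.card K)
  have := hKn
  have hqs : Group.IsSolvable (G ⧸ K) := Group.isSolvable_of_surjective (QuotientGroup.mk'_surjective K)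
  have hqdeg : PrimeDegrees (G ⧸ K) := fun θ n hn hn1 =>
    hdeg ⟨_, isIrrCharacter_comap (QuotientGroup.mk' K) (QuotientGroup.mk'_surjective K) θ.2⟩ n
      (by simpa using hn) hn1
  have hmemK : ∀ a b : G, ⁅QuotientGroup.mk' K a, QuotientGroup.mk' K b⁆ = 1 ↔ ⁅a, b⁆ ∈ K := fun a b => by
    rw [← map_commutatorElement]
    exact QuotientGroup.eq_one_iff _
  have hqnc : ¬ ∀ a b : G ⧸ K, a * b = b * a := fun h => hK fun a b =>
    (hmemK a b).1 (commutatorElement_eq_one_iff_mul_comm.2 (h _ _))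
  have hqmax : ∀ R : Subgroup (G ⧸ K), R.Normal → R ≠ ⊥ → ∀ a b : G ⧸ K, ⁅a, b⁆ ∈ R := by
    intro R hR hb a b
    obtain ⟨a, rfl⟩ := QuotientGroup.mk'_surjective K a
    obtain ⟨b, rfl⟩ := QuotientGroup.mk'_surjective K b
    rw [← map_commutatorElement]
    by_contra hne
    have hle : K ≤ R.comap (QuotientGroup.mk' K) := fun k hk => by
      rw [mem_comap, (show QuotientGroup.mk' K k = 1 from (QuotientGroup.eq_one_iff k).2 hk)]; exact one_mem R
    have heq := eq_of_le_of_card_ge hle (hKmax _ (Finset.mem_filter.2 ⟨Finset.mem_univ _,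
      inferInstance, fun h => hne (h a b)⟩))
    refine hb (eq_bot_iff.2 fun y hy => ?_)
    obtain ⟨y, rfl⟩ := QuotientGroup.mk'_surjective K y
    exact mem_bot.2 ((QuotientGroup.eq_one_iff y).2 (heq ▸ hy))
  rcases minimal_quotient hqs hqdeg hqnc hqmax with ⟨p, hp, hP⟩ | ⟨M, hMn, hMb, hMi, hMmin, hMab, g, m, hm, hgm⟩
  · refine ⟨p, p, fun χ a ha => ?_⟩
    by_cases ha1 : a = 1
    · exact Or.inl ha1
    by_cases hap : a = p
    · exact Or.inr (Or.inl hap)
    exfalso
    have : Fact p.Prime := ⟨hp⟩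
    obtain ⟨j, hj⟩ := IsPGroup.iff_card.1 hP
    have hidx : K.index = p ^ j := by rw [Subgroup.index_eq_card, hj]
    have := Fintype.ofFinite K
    obtain ⟨θ, hθ, hθne⟩ := exists_constituent (isCharacter_res K (isCharacter_of_isIrrCharacter χ.2))
      (fun h => isIrrCharacter_apply_one_ne_zero χ.2 (by simpa using congrFun h 1))
    obtain ⟨k, d, hd, hak, hk⟩ := CharProjDegree.degree_dvd K χ.2 hθ hθne
    rw [ha, Nat.cast_inj] at hak
    have hapr := hdeg χ a ha ha1
    have hk1 : k = 1 := by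
      rcases (Nat.dvd_prime hapr).1 (hak ▸ dvd_mul_left k d) with h | h
      · exact h
      · obtain ⟨i, -, hi⟩ := (Nat.dvd_prime_pow hp).1 (hidx ▸ hk)
        exfalso
        rw [hi] at h
        rcases Nat.eq_zero_or_pos i with rfl | hi0
        · exact ha1 (by rw [← h, pow_zero])
        · exact hap ((Nat.prime_dvd_prime_iff_eq hp hapr).1 (h ▸ dvd_pow_self p hi0.ne')).symm
    rw [hk1, mul_one] at hak
    subst hak
    have hres : ∀ n : K, (χ : G → ℂ) n = θ n := congrFun (eq_of_constituent_of_apply_one_le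
      (isCharacter_res K (isCharacter_of_isIrrCharacter χ.2)) hθ hθne (by simp [ha, hd]))
    obtain ⟨β0, hβ0⟩ : ∃ β0 : IrrCharacter (G ⧸ K), (β0 : G ⧸ K → ℂ) 1 ≠ 1 := by
      by_contra hh
      push Not at hh
      exact hqnc (comm_of_forall_apply_one hh)
    obtain ⟨b, hb, hb1⟩ := isIrrCharacter_apply_one β0.2
    obtain ⟨b', -, hb', hbd⟩ := exists_apply_one_dvd_card β0.2
    rw [hb1, Nat.cast_inj] at hb'
    subst hb'
    have hbne : b ≠ 1 := fun h => hβ0 (by rw [hb1, h, Nat.cast_one])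
    have hbp : b = p := (Nat.prime_dvd_prime_iff_eq (hqdeg β0 b hb1 hbne) hp).1
      ((hqdeg β0 b hb1 hbne).dvd_of_dvd_pow (hj ▸ hbd))
    set β : G → ℂ := fun x => (β0 : G ⧸ K → ℂ) (QuotientGroup.mk' K x)
    have hβ : IsIrrCharacter G β := isIrrCharacter_comap _ (QuotientGroup.mk'_surjective K) β0.2
    have hprod := ((CharGallagher.bijOn_one K hθ χ.2 hres).mapsTo (x := β) ⟨hβ, fun n => by
      show (β0 : G ⧸ K → ℂ) _ = (β0 : G ⧸ K → ℂ) _
      rw [show QuotientGroup.mk' K (n : G) = 1 from (QuotientGroup.eq_one_iff _).2 n.2, map_one]⟩).1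
    have h1 : (⟨_, hprod⟩ : IrrCharacter G).1 1 = ((b * a : ℕ) : ℂ) := by
      show β 1 * (χ : G → ℂ) 1 = _
      simp [β, hb1, ha]
    exact Nat.not_prime_mul hbne ha1 (hdeg _ _ h1 (fun h => hbne (Nat.eq_one_of_mul_eq_one_right h)))
  · set N := M.comap (QuotientGroup.mk' K) with hN
    have hKN : K < N := lt_of_le_of_ne (fun k hk => by
      rw [hN, mem_comap, (show QuotientGroup.mk' K k = 1 from (QuotientGroup.eq_one_iff k).2 hk)]
      exact one_mem M) fun e => hMb (eq_bot_iff.2 fun y hy => by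
        obtain ⟨y, rfl⟩ := QuotientGroup.mk'_surjective K y
        exact mem_bot.2 ((QuotientGroup.eq_one_iff y).2 (e ▸ hy)))
    have hNi : N.index = M.index := index_comap_of_surjective _ (QuotientGroup.mk'_surjective K)
    refine ⟨N.index, (K.relIndex N).minFac, degrees_over hdeg N K hKN (hNi ▸ hMi) (fun R hR hKR hRN => ?_)
      (fun a ha b hb => (hmemK a b).1 (commutatorElement_eq_one_iff_mul_comm.2 (hMab _ ha _ hb))) ?_⟩
    · have hcm : (R.map (QuotientGroup.mk' K)).comap (QuotientGroup.mk' K) = R := by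
        rw [comap_map_eq, QuotientGroup.ker_mk', sup_eq_left.2 hKR]
      rcases hMmin _ (hR.map _ (QuotientGroup.mk'_surjective K)) (map_le_iff_le_comap.2 hRN) with h | h
      · left
        rw [← hcm, h, MonoidHom.comap_bot, QuotientGroup.ker_mk']
      · right
        rw [← hcm, h]
    · obtain ⟨g, rfl⟩ := QuotientGroup.mk'_surjective K g
      obtain ⟨m, rfl⟩ := QuotientGroup.mk'_surjective K m
      exact ⟨g, m, hm, fun h => hgm ((hmemK g m).2 h)⟩

theorem result {G : Type*} [Group G] [Finite G] (hprime : ∀ d ∈ Cfsg.charDegrees G, d = 1 ∨ d.Prime) : Nat.card ↥(Cfsg.charDegrees G) ≤ 3 := by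
  have hd : PrimeDegrees G := fun χ n hn hn1 => by
    have h := hprime n ⟨χ, S4466.charDegree_eq hn⟩
    exact h.resolve_left hn1
  obtain ⟨f, r, h⟩ := three_degrees (S4466.solvable_of_prime_degrees _ G rfl hd) hd
  have hsub : Cfsg.charDegrees G ⊆ {1, f, r} := by
    rintro d ⟨χ, rfl⟩
    obtain ⟨a, -, ha⟩ := isIrrCharacter_apply_one χ.2
    rw [S4466.charDegree_eq ha]
    simpa using h χ a ha
  rw [Nat.card_coe_set_eq]
  refine (Set.ncard_le_ncard hsub (Set.toFinite _)).trans ?_
  exact (Set.ncard_insert_le _ _).trans (Nat.succ_le_succ ((Set.ncard_insert_le _ _).trans (by simp)))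

end Cfsg.Agent.S4813
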