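import Cfsg.Statements.S4814
import Cfsg.Agent.Lib.CharAverage
import Cfsg.Agent.Lib.CharBasicDecomp

set_option autoImplicit false
open Cfsg

namespace Cfsg.Agent.S4814

open Cfsg.Agent.CharBasicDecomp Cfsg.Agent.CharBasic Cfsg.Agent.CharBasicOrth Cfsg.Agent.CharAverage


/-- Let G be a finite group such that the sum, over the irreducible complex characters χ of G, of 1/χ(1)² is less than 2. Then every element of G is a product of two commutators. -/
theorem result {G : Type*} [Group G] [Finite G]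
    (h : ∑ᶠ χ : Cfsg.IrrCharacter G, 1 / ‖(χ : G → ℂ) 1‖ ^ 2 < (2 : ℝ)) (g : G) :
    ∃ a b c d : G, (a * b * a⁻¹ * b⁻¹) * (c * d * c⁻¹ * d⁻¹) = g := by
  classical
  have := Fintype.ofFinite G
  by_contra hno
  push Not at hno
  let χ₀ : Cfsg.IrrCharacter G := ⟨fun _ => 1, isIrrCharacter_one⟩
  let S : Cfsg.IrrCharacter G → ℂ := fun χ =>
    (χ : G → ℂ) g / (χ : G → ℂ) 1 ^ 3
  have hS : ∑ χ : Cfsg.IrrCharacter G, S χ = 0 := by
    have hG : (Nat.card G : ℂ) ≠ 0 := Nat.cast_ne_zero.2 Nat.card_pos.ne'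
    suffices ∑ χ : Cfsg.IrrCharacter G, (Nat.card G : ℂ) ^ 4 * S χ = 0 by
      rw [← Finset.mul_sum] at this
      exact (mul_eq_zero.1 this).resolve_left (pow_ne_zero _ hG)
    have hk : ∀ χ : Cfsg.IrrCharacter G, (Nat.card G : ℂ) ^ 4 * S χ =
        ∑ c : G, ∑ d : G, ∑ a : G, ∑ b : G, (χ : G → ℂ) 1 *
          (χ : G → ℂ) (g * (c * d * c⁻¹ * d⁻¹)⁻¹ * (a * b * a⁻¹ * b⁻¹)⁻¹) := by
      intro χ
      have hinner : ∀ z : G, ∑ a : G, ∑ b : G, (χ : G → ℂ) (z * (a * b * a⁻¹ * b⁻¹)) =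
          (Nat.card G : ℂ) ^ 2 * (χ : G → ℂ) z / (χ : G → ℂ) 1 ^ 2 := by
        intro z
        rw [← sum_commutator_mul χ z]
        refine Finset.sum_congr rfl fun a _ => Finset.sum_congr rfl fun b _ => ?_
        rw [← irr_conj_apply χ z⁻¹ (z * (a * b * a⁻¹ * b⁻¹))]
        congr 1
        group
      have hflip : ∀ z : G, ∑ a : G, ∑ b : G, (χ : G → ℂ) (z * (a * b * a⁻¹ * b⁻¹)⁻¹) =
          (Nat.card G : ℂ) ^ 2 * (χ : G → ℂ) z / (χ : G → ℂ) 1 ^ 2 := by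
        intro z
        rw [← hinner z, Finset.sum_comm]
        refine Finset.sum_congr rfl fun a _ => Finset.sum_congr rfl fun b _ => ?_
        congr 1
        group
      calc (Nat.card G : ℂ) ^ 4 * S χ = (χ : G → ℂ) 1 * ((Nat.card G : ℂ) ^ 2 *
            ((Nat.card G : ℂ) ^ 2 * (χ : G → ℂ) g / (χ : G → ℂ) 1 ^ 2) /
              (χ : G → ℂ) 1 ^ 2) := by
            have h1 := irr_one_ne_zero χ
            simp only [S]
            field_simp
        _ = (χ : G → ℂ) 1 * ∑ c : G, ∑ d : G, ((Nat.card G : ℂ) ^ 2 *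
            (χ : G → ℂ) (g * (c * d * c⁻¹ * d⁻¹)⁻¹) / (χ : G → ℂ) 1 ^ 2) := by
            simp only [← Finset.sum_div, ← Finset.mul_sum]
            rw [hflip g]
        _ = ∑ c : G, ∑ d : G, ∑ a : G, ∑ b : G, (χ : G → ℂ) 1 *
            (χ : G → ℂ) (g * (c * d * c⁻¹ * d⁻¹)⁻¹ * (a * b * a⁻¹ * b⁻¹)⁻¹) := by
            simp only [Finset.mul_sum, ← hflip]
    simp only [hk]
    rw [Finset.sum_comm]
    refine Finset.sum_eq_zero fun c _ => ?_
    rw [Finset.sum_comm]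
    refine Finset.sum_eq_zero fun d _ => ?_
    rw [Finset.sum_comm]
    refine Finset.sum_eq_zero fun a _ => ?_
    rw [Finset.sum_comm]
    refine Finset.sum_eq_zero fun b _ => ?_
    have hne : g * (c * d * c⁻¹ * d⁻¹)⁻¹ * (a * b * a⁻¹ * b⁻¹)⁻¹ ≠ 1 := fun e =>
      hno a b c d (by
        have h1 := mul_inv_eq_one.1 e
        rw [← h1]; group)
    have h0 := sum_irr_mul_conj (g * (c * d * c⁻¹ * d⁻¹)⁻¹ * (a * b * a⁻¹ * b⁻¹)⁻¹) 1
    rw [if_neg (fun e => hne (isConj_one_left.1 e))] at h0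
    rw [← h0]
    refine Finset.sum_congr rfl fun χ _ => ?_
    rw [irr_apply_one χ, Complex.conj_natCast, mul_comm]
  rw [← Finset.add_sum_erase _ _ (Finset.mem_univ χ₀)] at hS
  have h0 : S χ₀ = 1 := by simp [S, χ₀]
  rw [h0] at hS
  have hbound : ‖∑ χ ∈ Finset.univ.erase χ₀, S χ‖ ≤
      ∑ χ ∈ Finset.univ.erase χ₀, 1 / ‖(χ : G → ℂ) 1‖ ^ 2 := by
    refine (norm_sum_le _ _).trans (Finset.sum_le_sum fun χ _ => ?_)
    have hd : (0 : ℝ) < Cfsg.charDegree (χ : G → ℂ) := by exact_mod_cast irr_degree_pos χ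
    simp only [S, norm_div, norm_pow, irr_apply_one χ, Complex.norm_natCast]
    rw [div_le_div_iff₀ (by positivity) (by positivity), one_mul]
    calc ‖(χ : G → ℂ) g‖ * (Cfsg.charDegree (χ : G → ℂ) : ℝ) ^ 2
        ≤ Cfsg.charDegree (χ : G → ℂ) * (Cfsg.charDegree (χ : G → ℂ) : ℝ) ^ 2 :=
          mul_le_mul_of_nonneg_right (irr_norm_le χ g) (by positivity)
      _ = _ := by ring
  have hn : ‖∑ χ ∈ Finset.univ.erase χ₀, S χ‖ = 1 := by
    rw [eq_neg_of_add_eq_zero_right hS, norm_neg, norm_one]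
  rw [finsum_eq_sum_of_fintype, ← Finset.add_sum_erase _ _ (Finset.mem_univ χ₀)] at h
  have h1 : (1 : ℝ) / ‖(χ₀ : G → ℂ) 1‖ ^ 2 = 1 := by simp [χ₀]
  linarith

end Cfsg.Agent.S4814
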