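import Cfsg.Statements.S4825
import Cfsg.Agent.Lib.BlockTheoryInduced
import Cfsg.Agent.Lib.CharCliffordCorr
import Cfsg.Agent.Lib.CharAverage
import Cfsg.Agent.Lib.SylowCount
-- import your own Cfsg.Agent.* helpers here

set_option autoImplicit false
open Cfsg

namespace Cfsg.Agent.S4825

theorem sq_eq_one_of_le_three {p : ℕ} (h2 : 2 ≤ p) (h3 : p ≤ 3) :
    ∀ z : ZMod p, z ≠ 0 → 1 = z ^ 2 := by
  interval_cases p <;> decide

/-- Let p be a prime, G a finite group with Sylow p-subgroup P, M a maximal ideal of the algebraic integers containing p, and B a p-block of G with defect group P. Let N be a normal subgroup of G not containing P and θ an irreducible character of N. Then the number of irreducible characters in B of degree prime to p lying over θ (having θ as a constituent on restriction to N) is either 0 or at least 2, and when p ≤ 3 it is divisible by p. -/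
theorem result {G : Type*} [Group G] [Fintype G] (p : ℕ) [Fact p.Prime] (P : Sylow p G) (M : Ideal Cfsg.AlgInt) (hM : Cfsg.IsPModular p M) (B : Set (Cfsg.IrrCharacter G)) (hB : Cfsg.IsPBlock M B) (hBP : Cfsg.IsDefectGroup p M B P) (N : Subgroup G) [N.Normal] [Fintype N] (hPN : ¬ (P : Subgroup G) ≤ N) (θ : Cfsg.IrrCharacter N) :
    (Nat.card {χ : Cfsg.IrrCharacter G // χ ∈ B ∧ ¬ p ∣ Cfsg.charDegree (χ : G → ℂ) ∧ Cfsg.classInner (fun n : N => (χ : G → ℂ) n) (θ : N → ℂ) ≠ 0} = 0 ∨
      2 ≤ Nat.card {χ : Cfsg.IrrCharacter G // χ ∈ B ∧ ¬ p ∣ Cfsg.charDegree (χ : G → ℂ) ∧ Cfsg.classInner (fun n : N => (χ : G → ℂ) n) (θ : N → ℂ) ≠ 0}) ∧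
    (p ≤ 3 → p ∣ Nat.card {χ : Cfsg.IrrCharacter G // χ ∈ B ∧ ¬ p ∣ Cfsg.charDegree (χ : G → ℂ) ∧ Cfsg.classInner (fun n : N => (χ : G → ℂ) n) (θ : N → ℂ) ≠ 0}) := by
  classical
  have hp : p.Prime := Fact.out
  have hidx : p ∣ N.index := by
    by_contra h
    exact hPN (SylowCount.sylow_le_of_normal h P)
  let f := Cfsg.indFun N (θ : N → ℂ)
  let a : Cfsg.IrrCharacter G → ℂ := fun χ =>
    Cfsg.classInner (fun n : N => (χ : G → ℂ) n) (θ : N → ℂ)
  -- the block part of the induced character has degree in the local ideal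
  have hcoef : ∀ g x : G, Cfsg.blockCoeff B (x * g * x⁻¹) = Cfsg.blockCoeff B g := fun g x => by
    unfold Cfsg.blockCoeff
    congr 1
    refine finsum_congr fun χ => finsum_congr fun _ => ?_
    rw [CharInduced.isClassFunction_irr χ.2 g x]
  have hmain : Cfsg.MemLocalIdeal M
      (∑ χ : Cfsg.IrrCharacter G, if χ ∈ B then
        Cfsg.classInner f (χ : G → ℂ) * (χ : G → ℂ) 1 else 0) := by
    rw [← BlockTheoryInduced.sum_blockCoeff_mul B (CharInduced.isClassFunction_ind N (θ : N → ℂ)) 1]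
    simp only [mul_one, f, CharInduced.indFun_apply, Finset.mul_sum]
    rw [Finset.sum_comm]
    have hin : ∀ x : G, ∑ k : G, Cfsg.blockCoeff B k *
        ((Nat.card N : ℂ)⁻¹ * Cfsg.extendByZero N (θ : N → ℂ) (x⁻¹ * k * x)) =
        (Nat.card N : ℂ)⁻¹ * ∑ k : G, Cfsg.extendByZero N (θ : N → ℂ) k * Cfsg.blockCoeff B k := by
      intro x
      rw [Finset.mul_sum]
      refine Fintype.sum_equiv (MulAut.conj x⁻¹).toEquiv _ _ fun k => ?_
      simp only [MulEquiv.toEquiv_eq_coe, EquivLike.coe_coe, MulAut.conj_apply, inv_inv]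
      have := hcoef k x⁻¹
      rw [inv_inv] at this
      rw [this]; ring
    rw [Finset.sum_congr rfl (fun x _ => hin x), Finset.sum_const, Finset.card_univ, nsmul_eq_mul,
      ← Nat.card_eq_fintype_card, CharInduced.sum_ext_zero_mul, ← mul_assoc]
    rw [show (Nat.card G : ℂ) * (Nat.card N : ℂ)⁻¹ = (N.index : ℂ) by
      rw [← N.card_mul_index, Nat.cast_mul]
      have : (Nat.card N : ℂ) ≠ 0 := Nat.cast_ne_zero.2 Nat.card_pos.ne'
      field_simp]
    refine BlockTheoryLocalRing.ideal_mul_right hM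
      ((BlockTheoryLocalRing.natCast_mem_iff hM).2 hidx) ?_
    exact sum_mem (S := BlockTheoryLocalRing.localRing hM) fun n _ => mul_mem
      (BlockTheoryLocalRing.of_isIntegral hM (by
        obtain ⟨d, ρ, hρ⟩ := CharBasic.isCharacter_of_isIrrCharacter θ.2
        rw [← hρ]; exact CharBasic.isIntegral_character ρ n))
      (BlockTheoryIdem.blockCoeff_mem hM hB _)
  obtain ⟨tθ, htθ0, htθ⟩ := CharBasic.isIrrCharacter_apply_one θ.2
  set t := (CharInduced.inertia N (θ : N → ℂ)).index * tθ with ht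
  let U := Finset.univ.filter fun χ : Cfsg.IrrCharacter G => χ ∈ B ∧ a χ ≠ 0
  have hsqdvd : p ∣ ∑ χ ∈ U, Cfsg.charDegree (χ : G → ℂ) ^ 2 := by
    rw [← BlockTheoryLocalRing.natCast_mem_iff hM]
    have h := BlockTheoryLocalRing.ideal_mul_right hM hmain
      (natCast_mem (BlockTheoryLocalRing.localRing hM) t)
    convert h using 1
    rw [Finset.sum_mul, Nat.cast_sum, Finset.sum_filter]
    refine Finset.sum_congr rfl fun χ _ => ?_
    rw [CharInduced.classInner_comm_of_isCharacter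
      (CharInduced.isCharacter_ind N (CharBasic.isCharacter_of_isIrrCharacter θ.2))
      (CharBasic.isCharacter_of_isIrrCharacter χ.2),
      CharInduced.inner_ind_right N (θ : N → ℂ) (CharInduced.isClassFunction_irr χ.2)]
    by_cases hb : χ ∈ B
    · rw [if_pos hb]
      by_cases h0 : a χ = 0
      · rw [if_neg (fun h => h.2 h0)]
        show _ = a χ * _ * _
        rw [h0]; simp
      · rw [if_pos ⟨hb, h0⟩, Nat.cast_pow, ← CharAverage.irr_apply_one χ, pow_two, ht, Nat.cast_mul,
          ← htθ]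
        rw [CharCliffordCorr.apply_one_eq N χ.2 θ.2 h0]
        ring
    · rw [if_neg hb, if_neg (fun h => hb h.1), zero_mul]
  set V := U.filter fun χ : Cfsg.IrrCharacter G => ¬ p ∣ Cfsg.charDegree (χ : G → ℂ) with hV
  have hVz : ∑ χ ∈ V, (Cfsg.charDegree (χ : G → ℂ) : ZMod p) ^ 2 = 0 := by
    rw [← ZMod.natCast_eq_zero_iff, Nat.cast_sum] at hsqdvd
    rw [hV, Finset.sum_filter]
    refine Eq.trans (Finset.sum_congr rfl fun χ _ => ?_) hsqdvd
    split_ifs with h
    · rw [Nat.cast_pow, (ZMod.natCast_eq_zero_iff _ _).2 h, zero_pow two_ne_zero]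
    · rw [Nat.cast_pow]
  have hne : ∀ χ ∈ V, (Cfsg.charDegree (χ : G → ℂ) : ZMod p) ≠ 0 := fun χ hχ e =>
    (Finset.mem_filter.1 hχ).2 ((ZMod.natCast_eq_zero_iff _ _).1 e)
  have hcard : Nat.card {χ : Cfsg.IrrCharacter G // χ ∈ B ∧ ¬ p ∣ Cfsg.charDegree (χ : G → ℂ) ∧
      Cfsg.classInner (fun n : N => (χ : G → ℂ) n) (θ : N → ℂ) ≠ 0} = V.card := by
    rw [Nat.card_eq_fintype_card, Fintype.card_subtype]
    congr 1
    ext χ
    simp only [hV, U, a, Finset.mem_filter, Finset.mem_univ, true_and]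
    tauto
  rw [hcard]
  constructor
  · by_contra h
    push Not at h
    obtain ⟨χ, hχ⟩ := Finset.card_eq_one.1 (show V.card = 1 by omega)
    rw [hχ, Finset.sum_singleton] at hVz
    exact hne χ (by rw [hχ]; exact Finset.mem_singleton_self χ) (pow_eq_zero_iff two_ne_zero |>.1 hVz)
  · intro hp3
    rw [← ZMod.natCast_eq_zero_iff]
    refine Eq.trans ?_ hVz
    rw [Finset.cast_card]
    refine Finset.sum_congr rfl fun χ hχ => (?_ : (1 : ZMod p) = _)
    have key := sq_eq_one_of_le_three hp.two_le hp3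
    exact key _ (hne χ hχ)

end Cfsg.Agent.S4825
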