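import Cfsg.Statements.S4828
import Cfsg.Agent.Lib.BlockCentral81
import Cfsg.Agent.Lib.BrauerPairs81Fusion
import Cfsg.Agent.Lib.BrauerPairs81Index
import Cfsg.Agent.Lib.BrauerPairs81Nilpotent
-- import your own Cfsg.Agent.* helpers here

set_option autoImplicit false
open Cfsg

namespace Cfsg.Agent.S4828

open BrauerPairs81Base BrauerPairs81Pairs BrauerPairs81Conj BrauerPairs81Max BrauerPairs81Local
  BrauerPairs81Index BrauerPairs81Fusion BlockCentral81 BlockTheoryBrauer BlockTheoryDefect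
  BlockTheoryCentre BlockTheoryIdem BlockTheoryLocalRing
attribute [local instance] Classical.propDecidable

variable {G : Type*} [Group G] [Fintype G] {p : ℕ} [Fact p.Prime] {M : Ideal AlgInt}

/-- The intersection with the centraliser, inside the centraliser. -/
theorem le_center (Q : Subgroup G) :
    (Q ⊓ Cen Q).subgroupOf (Cen Q) ≤ Subgroup.center (Cen Q) := fun u hu =>
  Subgroup.mem_center_iff.mpr fun g => Subtype.ext
    (Subgroup.mem_centralizer_iff.mp g.2 _ (Subgroup.mem_subgroupOf.mp hu).1).symm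

theorem card_sub (Q : Subgroup G) :
    Nat.card ((Q ⊓ Cen Q).subgroupOf (Cen Q)) = Nat.card ↥(Q ⊓ Cen Q) :=
  Nat.card_congr (Subgroup.subgroupOfEquivOfLe inf_le_right).toEquiv

theorem forward (hM : IsPModular p M) {B : Set (IrrCharacter G)} {Q : Subgroup G}
    {e : Set (IrrCharacter (Cen Q))} (hmax : IsMaximalBrauerPair p M B Q e) :
    (∃ θ ∈ e, DZero p ((Q ⊓ Cen Q).subgroupOf (Cen Q)) θ) ∧
      ∀ g : G, g ∈ Subgroup.normalizer (Q : Set G) → StabilizesBlock (Cen Q) e g →
        (∃ k : ℕ, orderOf g = p ^ k) → g ∈ Q ⊔ Cen Q := by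
  refine ⟨?_, fun g hN hst ⟨k, hk⟩ => ?_⟩
  · have hD : IsDefectGroup p M e ((Q ⊓ Cen Q).subgroupOf (Cen Q)) := by
      refine (defect_iff_max hM hmax Relation.ReflTransGen.refl le_rfl ?_ hmax.1.1.2
        fun t => (coeff_eb_coe _ e t).symm).mpr fun x hx => ?_
      · exact fun c hc => Subgroup.mem_normalizer_iff.mpr fun y => by
          constructor <;> intro hy
          · rwa [← Subgroup.mem_centralizer_iff.mp hc y hy, mul_inv_cancel_right]
          · have h1 := Subgroup.mem_centralizer_iff.mp hc _ hy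
            have : c * y * c⁻¹ = y := by
              have h2 : c * y * c⁻¹ * c = c * (c * y * c⁻¹) := h1
              have h3 : c * y = c * (c * y * c⁻¹) := by simpa [mul_assoc] using h2
              exact (mul_left_cancel h3).symm
            rwa [this] at hy
      · have h1 : cjS x Q ≤ Q := subgroup_le_of_subpairLE hx
        have h2 : cjS x Q = Q := Subgroup.eq_of_le_of_card_ge h1 (card_cjS x Q).ge
        rw [← cen_cjS, h2]
    have hn : ((Q ⊓ Cen Q).subgroupOf (Cen Q)).Normal := ⟨fun u hu g => by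
      rwa [Subgroup.mem_center_iff.1 (le_center Q hu) g, mul_inv_cancel_right]⟩
    exact exists_dzero hM hmax.1.1.2 hD
  · refine le_sup_of_stabilizes hM hmax (S₀ := Subgroup.zpowers g) ?_ (fun u hu => ?_)
      (Subgroup.mem_zpowers g)
    · exact BrauerPairs81Nilpotent.isPGroup_zpowers hk
    · exact mem_stab.mp ((Subgroup.zpowers_le.mpr
        (mem_stab.mpr (cP_eq_self_iff_stabilizes.mpr ⟨hN, hst⟩))) hu)

theorem backward (hM : IsPModular p M) {Q : Subgroup G} {e : Set (IrrCharacter (Cen Q))}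
    (he : IsBrauerPair p M Q e) {θ : IrrCharacter (Cen Q)} (hθe : θ ∈ e)
    (hθ : DZero p ((Q ⊓ Cen Q).subgroupOf (Cen Q)) θ)
    (hstab : ∀ g : G, g ∈ Subgroup.normalizer (Q : Set G) → StabilizesBlock (Cen Q) e g →
      (∃ k : ℕ, orderOf g = p ^ k) → g ∈ Q ⊔ Cen Q) :
    ∃ B : Set (IrrCharacter G), IsMaximalBrauerPair p M B Q e := by
  obtain ⟨B, hB, -⟩ := existsUnique_block hM he
  refine ⟨B, hB, fun R g _ hle => ?_⟩
  by_contra hne
  obtain ⟨S, g', hQS, hn, -⟩ := exists_step hM hle (Ne.symm hne)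
  have hns : ¬ Small M (cut S (eb (Cen Q) e)) := not_small_cut_of_normalSubpair hM hn
  obtain ⟨-, hSg, -, hSN, hst, -⟩ := hn
  refine hQS.not_ge fun s hs => ?_
  have hp : p.Prime := Fact.out
  set Z := (Q ⊓ Cen Q).subgroupOf (Cen Q)
  have hn0 : Z.Normal := ⟨fun u hu g => by
    rwa [Subgroup.mem_center_iff.1 (le_center Q hu) g, mul_inv_cancel_right]⟩
  have hZp : IsPGroup p Z := (he.1.to_le inf_le_left).of_equiv
    (Subgroup.subgroupOfEquivOfLe inf_le_right).symm
  obtain ⟨D, hD⟩ := exists_defectGroup hM he.2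
  have hDZ := hθ.defectGroup_eq hM (le_center Q) hZp he.2 hθe hD
  subst hDZ
  -- the part of `S` in the centraliser lies in `Q`
  have hSC : ∀ c ∈ S, c ∈ Cen Q → c ∈ Q := by
    intro c hcS hcC
    have hns' : ¬ Small M (cut (S.subgroupOf (Cen Q)) (idem e)) := fun hs' => hns fun x => by
      rw [coeff_cut]
      split_ifs with hx
      · by_cases hxC : x ∈ Cen Q
        · have h1 := hs' ⟨x, hxC⟩
          rw [coeff_cut, if_pos (Subgroup.mem_centralizer_iff.mpr fun u hu => Subtype.ext
            (Subgroup.mem_centralizer_iff.mp hx (u : G) hu)), coeff_idem] at h1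
          rwa [← coeff_eb_coe (Cen Q) e ⟨x, hxC⟩] at h1
        · rw [coeff_eb_of_notMem _ _ hxC]; exact ideal_zero hM
      · exact ideal_zero hM
    have hpS : IsPGroup p (S.subgroupOf (Cen Q)) :=
      hSg.1.comap_of_injective (Cen Q).subtype (Subgroup.subtype_injective _)
    obtain ⟨x, hx⟩ := (not_small_cut_iff hM he.2 hD hpS).mp hns'
    have h2 := hx (Subgroup.mem_map_of_mem (MulAut.conj x).toMonoidHom
      (show (⟨c, hcC⟩ : Cen Q) ∈ S.subgroupOf (Cen Q) from hcS))
    have h3 := hn0.conj_mem _ h2 x⁻¹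
    simp only [MulEquiv.coe_toMonoidHom, MulAut.conj_apply] at h3
    rw [show x⁻¹ * (x * ⟨c, hcC⟩ * x⁻¹) * x⁻¹⁻¹ = ⟨c, hcC⟩ by group] at h3
    exact (Subgroup.mem_subgroupOf.mp h3).1
  have hord : ∃ k : ℕ, orderOf s = p ^ k := by
    obtain ⟨k, hk⟩ := (IsPGroup.iff_orderOf.mp hSg.1) ⟨s, hs⟩
    exact ⟨k, by rwa [Subgroup.orderOf_mk] at hk⟩
  have hmem := hstab s (hSN hs) (hst s hs) hord
  rw [← SetLike.mem_coe, Subgroup.coe_mul_of_left_le_normalizer_right Q (Cen Q)
    ((Subgroup.le_normalizer (H := Q)).trans normalizer_le_normalizer_cen), Set.mem_mul] at hmem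
  obtain ⟨q, hq, c, hc, rfl⟩ := hmem
  refine mul_mem hq (hSC c ?_ hc)
  have := S.mul_mem (S.inv_mem (hQS.le hq)) hs
  simpa using this


/-- Let p be a prime, M a maximal ideal of the algebraic integers containing p, and (Q, e) a Brauer pair of the finite group G (Q a p-subgroup, e a block of C_G(Q)). Then (Q, e) is a maximal Brauer pair of some block of G if and only if e contains an irreducible character θ such that θ takes the value θ(1) at every element of Z(Q) = Q ∩ C_G(Q), the p-part of θ(1) times the p-part of the order of Z(Q) equals the p-part of the order of C_G(Q) (θ has defect zero as a character of C_G(Q)/Z(Q)), and every element of N_G(Q) of p-power order that stabilizes e lies in Q·C_G(Q) (the stabilizer of e in N_G(Q) has index prime to p over Q·C_G(Q)). -/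
theorem result {G : Type*} [Group G] [Finite G] (p : ℕ) [Fact p.Prime] (M : Ideal Cfsg.AlgInt) (hM : Cfsg.IsPModular p M) (Q : Subgroup G) (e : Set (Cfsg.IrrCharacter (Subgroup.centralizer (Q : Set G)))) (he : Cfsg.IsBrauerPair p M Q e) :
    (∃ B : Set (Cfsg.IrrCharacter G), Cfsg.IsMaximalBrauerPair p M B Q e) ↔
      ∃ θ ∈ e, (∀ z : Subgroup.centralizer (Q : Set G), (z : G) ∈ Q → (θ : Subgroup.centralizer (Q : Set G) → ℂ) z = (θ : Subgroup.centralizer (Q : Set G) → ℂ) 1) ∧
        (Cfsg.charDegree (θ : Subgroup.centralizer (Q : Set G) → ℂ)).factorization p + (Nat.card ↥(Q ⊓ Subgroup.centralizer (Q : Set G))).factorization p = (Nat.card (Subgroup.centralizer (Q : Set G))).factorization p ∧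
        (∀ g : G, g ∈ Subgroup.normalizer (Q : Set G) → Cfsg.StabilizesBlock (Subgroup.centralizer (Q : Set G)) e g → (∃ k : ℕ, orderOf g = p ^ k) → g ∈ Q ⊔ Subgroup.centralizer (Q : Set G)) := by
  have := Fintype.ofFinite G
  constructor
  · rintro ⟨B, hmax⟩
    obtain ⟨⟨θ, hθe, hθ⟩, hst⟩ := forward hM hmax
    refine ⟨θ, hθe, fun z hz => hθ.triv z (Subgroup.mem_subgroupOf.mpr ⟨hz, z.2⟩), ?_, hst⟩
    rw [← card_sub]
    exact hθ.deg
  · rintro ⟨θ, hθe, htriv, hdeg, hst⟩
    refine backward hM he hθe ⟨fun u hu => htriv u (Subgroup.mem_subgroupOf.mp hu).1, ?_⟩ hst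
    rw [card_sub]
    exact hdeg

end Cfsg.Agent.S4828
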