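import Cfsg.Statements.S4835
import Cfsg.Agent.Lib.GagolaChar

set_option autoImplicit false
open Cfsg

namespace Cfsg.Agent.S4835

/-- Let G be a finite group of order greater than 2 with an irreducible character χ that is nonzero on exactly two conjugacy classes. Then G has a unique minimal normal subgroup N; N is an elementary abelian p-group for some prime p; χ is nonzero exactly at the elements of N; and any two nonidentity elements of N are conjugate in G. -/
theorem result {G : Type*} [Group G] [Finite G] (hG : 2 < Nat.card G) (χ : Cfsg.IrrCharacter G) (hχ : Nat.card {C : ConjClasses G // ∃ g ∈ C.carrier, (χ : G → ℂ) g ≠ 0} = 2) :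
    ∃ N : Subgroup G, N.Normal ∧ N ≠ ⊥ ∧ (∀ K : Subgroup G, K.Normal → K ≠ ⊥ → N ≤ K) ∧
      (∃ p : ℕ, p.Prime ∧ Cfsg.IsElementaryAbelian p N) ∧
      (∀ g : G, (χ : G → ℂ) g ≠ 0 ↔ g ∈ N) ∧
      (∀ x ∈ N, ∀ y ∈ N, x ≠ 1 → y ≠ 1 → ∃ g : G, g * x * g⁻¹ = y) := by
  obtain ⟨hiff, -, hbot, htr, -⟩ := GagolaChar.main hG χ hχ
  obtain ⟨p, hp, hNp⟩ := GagolaChar.exists_prime hG χ hχ
  haveI : Fact p.Prime := ⟨hp⟩
  have hcfg := GagolaChar.config hG χ hχ (GagolaChar.otherKer χ) (fun g => (hiff g).symm) hNp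
  refine ⟨GagolaChar.otherKer χ, GagolaChar.otherKer_normal χ, hbot,
    fun K hK hK1 => GagolaChar.normal_ge hG χ hχ K hK hK1,
    ⟨p, hp, ⟨⟨fun x y => Subtype.ext (GagolaGroup.comm hcfg x.2 y.2)⟩⟩,
      fun a ha => GagolaGroup.pow_p_eq_one hcfg ha⟩, hiff, ?_⟩
  intro x hx y hy hx1 hy1
  exact isConj_iff.mp (htr x hx hx1 y hy hy1)

end Cfsg.Agent.S4835
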