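import Cfsg.Statements.S4840
import Cfsg.Agent.Lib.GagolaChar
import Cfsg.Agent.Lib.GagolaSolvable
-- import your own Cfsg.Agent.* helpers here

set_option autoImplicit false
open Cfsg

namespace Cfsg.Agent.S4840

/-- Let G be a finite solvable group of order greater than 2 with an irreducible character nonzero on exactly two conjugacy classes. Then there is exactly one prime p with O_p(G) ≠ 1, and the quotient G/O_p(G) has a normal p-complement and commutative Sylow p-subgroups. -/
theorem result {G : Type*} [Group G] [Finite G] [hs : Group.IsSolvable G] (hG : 2 < Nat.card G) (χ : Cfsg.IrrCharacter G) (hχ : Nat.card {C : ConjClasses G // ∃ g ∈ C.carrier, (χ : G → ℂ) g ≠ 0} = 2) :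
    ∃ p : ℕ, p.Prime ∧ (∀ q : ℕ, q.Prime → (Cfsg.pCore q G ≠ ⊥ ↔ q = p)) ∧
      Cfsg.HasNormalPComplement p (G ⧸ Cfsg.pCore p G) ∧ ∀ Q : Sylow p (G ⧸ Cfsg.pCore p G), IsMulCommutative (Q : Subgroup (G ⧸ Cfsg.pCore p G)) := by
  classical
  obtain ⟨p, hp, hNp⟩ := GagolaChar.exists_prime hG χ hχ
  haveI := Fact.mk hp
  obtain ⟨hiff, -, hbot, htr, hco⟩ := GagolaChar.main hG χ hχ
  set N := GagolaChar.otherKer χ with hNdef
  have hcfg : GagolaGroup.Config p N :=
    ⟨GagolaChar.otherKer_normal χ, hNp, hbot, htr, hco⟩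
  haveI := hcfg.normal
  set O := Cfsg.pCore p G with hO
  haveI hOn : O.Normal := HallCore.pCore_normal p G
  have hNO : N ≤ O := HallCore.le_pCore hNp
  have honly : ∀ q : ℕ, q.Prime → (Cfsg.pCore q G ≠ ⊥ ↔ q = p) := by
    intro q hq
    constructor
    · intro hne
      haveI := Fact.mk hq
      have hle : N ≤ Cfsg.pCore q G :=
        GagolaChar.normal_ge hG χ hχ _ (HallCore.pCore_normal q G) hne
      obtain ⟨k, hk, hk1⟩ := GagolaGroup.exists_mem_ne hcfg
      obtain ⟨j, hj⟩ := IsPGroup.iff_orderOf.1 (HallCore.isPGroup_pCore q G) ⟨k, hle hk⟩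
      rw [Subgroup.orderOf_mk, GagolaGroup.orderOf_eq hcfg hk hk1] at hj
      rcases j with _ | j
      · rw [pow_zero] at hj; exact absurd hj hp.one_lt.ne'
      · exact ((Nat.prime_dvd_prime_iff_eq hq hp).1 (hj ▸ dvd_pow_self q j.succ_ne_zero))
    · rintro rfl
      exact fun h => hbot (le_bot_iff.1 (h ▸ hNO))
  -- the centraliser of `N` is the core
  have hCle : Subgroup.centralizer (N : Set G) ≤ O := by
    obtain ⟨k, hk, hk1⟩ := GagolaGroup.exists_mem_ne hcfg
    exact HallCore.le_pCore ((GagolaGroup.isPGroup_centralizer hcfg hk hk1).to_le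
      (Subgroup.centralizer_le (Set.singleton_subset_iff.mpr hk)))
  have hOC : O ≤ Subgroup.centralizer (N : Set G) := by
    haveI : Nontrivial O := (Subgroup.nontrivial_iff_ne_bot O).2 fun h => hbot (le_bot_iff.1 (h ▸ hNO))
    haveI := (HallCore.isPGroup_pCore p G).center_nontrivial (G := O)
    have hZ : ((Subgroup.center O).map O.subtype) ≠ ⊥ := by
      rw [Ne, Subgroup.map_eq_bot_iff_of_injective _ Subtype.val_injective]
      exact (Subgroup.nontrivial_iff_ne_bot _).1 inferInstance
    have hle : N ≤ (Subgroup.center O).map O.subtype :=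
      GagolaChar.normal_ge hG χ hχ _ inferInstance hZ
    intro o ho
    rw [Subgroup.mem_centralizer_iff]
    intro n hn
    obtain ⟨z, hz, rfl⟩ := hle hn
    exact (congrArg Subtype.val (Subgroup.mem_center_iff.1 hz ⟨o, ho⟩)).symm
  letI : CommGroup N :=
    { (inferInstance : Group N) with mul_comm := fun a b => Subtype.ext (GagolaGroup.comm hcfg a.2 b.2) }
  let α : G ⧸ O →* MulAut N := QuotientGroup.lift O MulAut.conjNormal (fun o ho => by
    rw [MonoidHom.mem_ker]
    ext n
    rw [MulAut.conjNormal_apply, MulAut.one_apply,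
      ← Subgroup.mem_centralizer_iff.1 (hOC ho) n n.2, mul_inv_cancel_right])
  letI : MulDistribMulAction (G ⧸ O) N := MulDistribMulAction.compHom N α
  have hsm : ∀ (g : G) (n : N), (((g : G ⧸ O) • n : N) : G) = g * n * g⁻¹ := fun g n =>
    MulAut.conjNormal_apply g n
  have hset : GagolaSolvable.Setup (G ⧸ O) N p := by
    refine ⟨(Subgroup.nontrivial_iff_ne_bot N).2 hbot,
      fun v => Subtype.ext (by rw [SubgroupClass.coe_pow]; exact GagolaGroup.pow_p_eq_one hcfg v.2),
      ?_, ?_, ?_, inferInstance⟩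
    · intro v w hv hw
      obtain ⟨c, hc⟩ := isConj_iff.1 (htr v v.2 (fun e => hv (Subtype.ext e)) w w.2
        (fun e => hw (Subtype.ext e)))
      exact ⟨(c : G ⧸ O), Subtype.ext ((hsm c v).trans hc)⟩
    · intro q hq hq1 v hv
      by_contra hv1
      obtain ⟨g, rfl⟩ := QuotientGroup.mk_surjective q
      have hc : g * (v : G) * g⁻¹ = v := (hsm g v).symm.trans (congrArg Subtype.val hv)
      have hmem : g ∈ Subgroup.centralizer ({(v : G)} : Set G) :=
        Subgroup.mem_centralizer_singleton_iff.2 (mul_inv_eq_iff_eq_mul.1 hc)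
      obtain ⟨k, hk⟩ := IsPGroup.iff_orderOf.1
        (GagolaGroup.isPGroup_centralizer hcfg v.2 (fun e => hv1 (Subtype.ext e))) ⟨g, hmem⟩
      rw [Subgroup.orderOf_mk] at hk
      obtain ⟨i, -, hi⟩ := (Nat.dvd_prime_pow hp).1
        (hk ▸ orderOf_map_dvd (QuotientGroup.mk' O) g)
      rcases i with _ | i
      · rw [pow_zero, orderOf_eq_one_iff] at hi; exact hq1 hi
      · exact hq (hi ▸ dvd_pow_self p i.succ_ne_zero)
    · rw [eq_bot_iff]
      intro x hx
      obtain ⟨g, rfl⟩ := QuotientGroup.mk_surjective x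
      haveI : (Cfsg.pCore p (G ⧸ O)).Normal := HallCore.pCore_normal p _
      have hg : g ∈ O := HallCore.le_pCore
        (HallCore.isPGroup_comap_mk' (HallCore.isPGroup_pCore p G) (HallCore.isPGroup_pCore p (G ⧸ O)))
        (show g ∈ (Cfsg.pCore p (G ⧸ O)).comap (QuotientGroup.mk' O) from hx)
      exact Subgroup.mem_bot.2 ((QuotientGroup.eq_one_iff g).2 hg)
  exact ⟨p, hp, honly, GagolaSolvable.main hset⟩

end Cfsg.Agent.S4840
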