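import Cfsg.Statements.S4843
import Cfsg.Agent.Lib.GaloisProduct71

set_option autoImplicit false
open Cfsg

namespace Cfsg.Agent.S4843

/-- Let G be a finite group with a faithful irreducible character χ (taking the value χ(1) only at the identity) and let k be prime to the order of G, so that g ↦ χ(g^k) is a Galois conjugate of χ. If the pointwise product g ↦ χ(g)·χ(g^k) is again an irreducible character, then the Fitting subgroup of G equals its centre. -/
theorem result {G : Type*} [Group G] [Finite G] (χ : Cfsg.IrrCharacter G) (hfaith : ∀ g : G, (χ : G → ℂ) g = (χ : G → ℂ) 1 → g = 1) (k : ℕ) (hk : Nat.Coprime k (Nat.card G)) (hirr : Cfsg.IsIrrCharacter G (fun g => (χ : G → ℂ) g * (χ : G → ℂ) (g ^ k))) : Cfsg.fittingSubgroup G = Subgroup.center G := by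
  obtain ⟨χ, n, ρ, hρi, rfl⟩ := χ
  haveI := hρi
  haveI := Fintype.ofFinite G
  have hinj : Function.Injective ρ := by
    intro a b h
    have h2 : ρ (a⁻¹ * b) = 1 := by
      rw [map_mul, ← h, ← map_mul, inv_mul_cancel, map_one]
    refine inv_mul_eq_one.1 (hfaith _ ?_)
    show LinearMap.trace ℂ _ (ρ (a⁻¹ * b)) = LinearMap.trace ℂ _ (ρ 1)
    rw [h2, map_one ρ]
  exact GaloisProduct71.fitting_eq_center ρ hinj hk
    (Cfsg.Agent.CharBasicOrth.classInner_irr_self hirr)

end Cfsg.Agent.S4843
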