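import Cfsg.Statements.S4845
import Cfsg.Agent.Lib.CharKernel
import Cfsg.Agent.Lib.CharBasicLinear
import Cfsg.Agent.Lib.CharAverage
import Cfsg.Agent.Lib.DegreeDvd
import Cfsg.Agent.Lib.GagolaChar
import Cfsg.Agent.Lib.CharInducedClifford
-- import your own Cfsg.Agent.* helpers here

set_option autoImplicit false
open Cfsg

namespace Cfsg.Agent.S4845

open scoped commutatorElement

universe u

/-- Characters of the same degree above one are Galois conjugate. -/
def GaloisByDeg (P : Type u) [Group P] : Prop :=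
  ∀ χ ψ : Cfsg.IrrCharacter P, Cfsg.charDegree (χ : P → ℂ) ≠ 1 →
    Cfsg.charDegree (χ : P → ℂ) = Cfsg.charDegree (ψ : P → ℂ) →
    ∃ k : ℕ, Nat.Coprime k (Nat.card P) ∧ ∀ g : P, (ψ : P → ℂ) g = (χ : P → ℂ) (g ^ k)

variable {P : Type u} [Group P] [Finite P]

theorem same_ker (h : GaloisByDeg P) {χ ψ : Cfsg.IrrCharacter P}
    (h1 : Cfsg.charDegree (χ : P → ℂ) ≠ 1)
    (h2 : Cfsg.charDegree (χ : P → ℂ) = Cfsg.charDegree (ψ : P → ℂ)) :
    CharKernel.irrKer χ = CharKernel.irrKer ψ := by
  obtain ⟨k, hk, hg⟩ := h χ ψ h1 h2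
  ext g
  rw [CharKernel.mem_irrKer, CharKernel.mem_irrKer, hg g, hg 1, one_pow,
    ← CharKernel.mem_irrKer, ← CharKernel.mem_irrKer]
  refine ⟨fun hx => Subgroup.pow_mem _ hx k, fun hx => ?_⟩
  have h3 : g = (powCoprime hk.symm).symm (g ^ k) := ((powCoprime hk.symm).symm_apply_apply g).symm
  rw [h3, powCoprime_symm_apply]
  exact Subgroup.zpow_mem _ hx _

theorem charDegree_eq_one_iff (χ : Cfsg.IrrCharacter P) :
    Cfsg.charDegree (χ : P → ℂ) = 1 ↔ commutator P ≤ CharKernel.irrKer χ := by
  constructor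
  · intro h
    obtain ⟨l, hl⟩ := CharBasicLinear.exists_hom_of_apply_one_eq_one
      (CharBasic.isCharacter_of_isIrrCharacter χ.2)
      (by rw [CharAverage.irr_apply_one χ, h, Nat.cast_one])
    intro g hg
    rw [CharKernel.mem_irrKer, hl]
    have : l g = 1 := Abelianization.commutator_subset_ker l hg
    simp [this]
  · intro h
    haveI := CharKernel.irrKer_normal χ
    obtain ⟨ψ, hψ⟩ := CharKernel.exists_quot_irr (CharKernel.irrKer χ) χ fun n hn => hn
    have hc : ∀ a b : P ⧸ CharKernel.irrKer χ, a * b = b * a := by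
      intro a b
      haveI := Subgroup.Normal.quotient_commutative_iff_commutator_le.mpr h
      exact mul_comm' a b
    have h1 : (χ : P → ℂ) 1 = 1 := by
      rw [hψ 1]; exact GagolaChar.apply_one_of_comm hc ψ
    rw [CharAverage.irr_apply_one χ] at h1
    exact Nat.cast_eq_one.1 h1

theorem exists_sep {z : P} (hz : z ≠ 1) :
    ∃ χ : Cfsg.IrrCharacter P, z ∉ CharKernel.irrKer χ := by
  by_contra hno
  push Not at hno
  obtain ⟨c, hc⟩ := isConj_iff.1 ((CharBasicOrth.isConj_iff_forall_irr (1 : P) z).2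
    fun χ => ((hno χ : (χ : P → ℂ) z = (χ : P → ℂ) 1)).symm)
  exact hz (by rw [← hc, mul_one, mul_inv_cancel])

theorem exists_lift (N : Subgroup P) [N.Normal] (ψ : Cfsg.IrrCharacter (P ⧸ N)) :
    ∃ χ : Cfsg.IrrCharacter P, (∀ g : P, (χ : P → ℂ) g = (ψ : P ⧸ N → ℂ) (g : P ⧸ N)) ∧
      N ≤ CharKernel.irrKer χ ∧
      Cfsg.charDegree (χ : P → ℂ) = Cfsg.charDegree (ψ : P ⧸ N → ℂ) :=
  ⟨(CharKernel.quotEquiv N ψ).1, CharKernel.quotEquiv_apply N ψ,
    fun n hn => (CharKernel.quotEquiv N ψ).2 n hn, CharKernel.charDegree_quotEquiv N ψ⟩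

theorem galoisByDeg_quot (h : GaloisByDeg P) (N : Subgroup P) [N.Normal] :
    GaloisByDeg (P ⧸ N) := by
  intro χ ψ h1 h2
  obtain ⟨χ', hχ, -, hdχ⟩ := exists_lift N χ
  obtain ⟨ψ', hψ, -, hdψ⟩ := exists_lift N ψ
  obtain ⟨k, hk, hg⟩ := h χ' ψ' (hdχ ▸ h1) (by rw [hdχ, hdψ, h2])
  refine ⟨k, hk.coprime_dvd_right (Subgroup.card_quotient_dvd_card N), fun q => ?_⟩
  obtain ⟨g, rfl⟩ := QuotientGroup.mk_surjective q
  rw [← hψ, hg g, hχ]
  rfl

theorem exists_central_scalar (χ : Cfsg.IrrCharacter P) {z : P} (hz : z ∈ Subgroup.center P) :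
    ∃ c : ℂ, ∀ x, (χ : P → ℂ) (z * x) = c * (χ : P → ℂ) x := by
  obtain ⟨n, ρ, hi, he⟩ := χ.2
  obtain ⟨c, hc⟩ := CharBasic.exists_scalar_of_mem_center ρ hz
  refine ⟨c, fun x => ?_⟩
  rw [← he]
  simp only [Representation.character, map_mul, hc]
  rw [show (c • LinearMap.id : Module.End ℂ (Fin n → ℂ)) * ρ x = c • ρ x from by
    ext v; simp, map_smul, smul_eq_mul]

theorem vanish (χ : Cfsg.IrrCharacter P) {g x : P} (hz : ⁅g, x⁆ ∈ Subgroup.center P)
    (hk : ⁅g, x⁆ ∉ CharKernel.irrKer χ) : (χ : P → ℂ) x = 0 := by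
  obtain ⟨c, hc⟩ := exists_central_scalar χ hz
  have h1 : (χ : P → ℂ) x = c * (χ : P → ℂ) x := by
    rw [← hc, show ⁅g, x⁆ * x = g * x * g⁻¹ by rw [commutatorElement_def]; group]
    exact (CharInduced.isClassFunction_irr χ.2 x g).symm
  by_contra h0
  have hc1 : c = 1 := mul_right_cancel₀ h0 (h1.symm.trans (one_mul _).symm)
  apply hk
  rw [CharKernel.mem_irrKer]
  simpa [hc1] using hc 1

theorem norm_central (χ : Cfsg.IrrCharacter P) {z : P} (hz : z ∈ Subgroup.center P) :
    (χ : P → ℂ) z * (starRingEnd ℂ) ((χ : P → ℂ) z) = (χ : P → ℂ) 1 * (χ : P → ℂ) 1 := by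
  obtain ⟨c, hc⟩ := exists_central_scalar χ hz
  have h1 := hc 1
  rw [mul_one] at h1
  have h2 := hc z⁻¹
  rw [mul_inv_cancel, CharBasic.isCharacter_inv (CharBasic.isCharacter_of_isIrrCharacter χ.2), h1,
    map_mul] at h2
  have hr : (starRingEnd ℂ) ((χ : P → ℂ) 1) = (χ : P → ℂ) 1 := by
    rw [CharAverage.irr_apply_one χ, map_natCast]
  rw [hr] at h2
  rw [h1, map_mul, hr]
  linear_combination (-(χ : P → ℂ) 1) * h2

theorem deg_sq (χ : Cfsg.IrrCharacter P) (S : Subgroup P) (hS : S ≤ Subgroup.center P)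
    (hv : ∀ x, x ∉ S → (χ : P → ℂ) x = 0) :
    Cfsg.charDegree (χ : P → ℂ) ^ 2 = S.index := by
  classical
  haveI : Fintype P := Fintype.ofFinite P
  have h := CharBasicOrth.classInner_irr_self χ.2
  rw [Cfsg.classInner, inv_mul_eq_one₀ (Nat.cast_ne_zero.2 Nat.card_pos.ne')] at h
  rw [← Finset.sum_filter_add_sum_filter_not Finset.univ (· ∈ S)] at h
  rw [Finset.sum_eq_zero (s := Finset.univ.filter fun x => ¬ x ∈ S) (fun x hx => by
    rw [hv x (Finset.mem_filter.1 hx).2, zero_mul]), add_zero,
    Finset.sum_congr rfl (fun x hx => norm_central χ (hS (Finset.mem_filter.1 hx).2)),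
    Finset.sum_const, nsmul_eq_mul, ← Fintype.card_subtype, ← Nat.card_eq_fintype_card,
    CharAverage.irr_apply_one χ, ← Nat.cast_mul, ← Nat.cast_mul, Nat.cast_inj,
    ← S.index_mul_card, mul_comm (Nat.card {x // x ∈ S})] at h
  rw [pow_two]
  exact (Nat.eq_of_mul_eq_mul_right Nat.card_pos h).symm

theorem eq_of_cyclic {G : Type*} [Group G] [Finite G] {A B S : Subgroup G} [IsCyclic S]
    (hA : A ≤ S) (hB : B ≤ S) (h : Nat.card A = Nat.card B) : A = B := by
  classical
  haveI : Fintype S := Fintype.ofFinite S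
  have key : ∀ C : Subgroup G, C ≤ S → Nat.card C = Nat.card A →
      (Finset.univ.filter fun x : S => (x : G) ∈ C) =
        Finset.univ.filter fun x : S => x ^ Nat.card A = 1 := by
    intro C hC hc
    refine Finset.eq_of_subset_of_card_le (fun x hx => ?_) ?_
    · rw [Finset.mem_filter] at hx ⊢
      refine ⟨hx.1, Subtype.ext ?_⟩
      have := pow_card_eq_one' (x := (⟨(x : G), hx.2⟩ : C))
      rw [hc] at this
      rw [SubgroupClass.coe_pow]
      exact congrArg Subtype.val this
    · refine le_trans (IsCyclic.card_pow_eq_one_le Nat.card_pos) (le_of_eq ?_)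
      rw [← hc, ← Fintype.card_subtype, ← Nat.card_eq_fintype_card]
      exact (Nat.card_congr (Subgroup.subgroupOfEquivOfLe hC).toEquiv).symm
  have h1 := (key A hA rfl).trans (key B hB h.symm).symm
  ext x
  constructor
  · intro hx
    have h2 : (⟨x, hA hx⟩ : S) ∈ Finset.univ.filter fun y : S => (y : G) ∈ A := by simpa using hx
    rw [h1] at h2
    simpa using h2
  · intro hx
    have h2 : (⟨x, hB hx⟩ : S) ∈ Finset.univ.filter fun y : S => (y : G) ∈ B := by simpa using hx
    rw [← h1] at h2
    simpa using h2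

variable {p : ℕ} [hp : Fact p.Prime]

theorem le_center_of_card {N : Subgroup P} [N.Normal] (hP : IsPGroup p P) (h : Nat.card N = p) :
    N ≤ Subgroup.center P := by
  haveI : Nontrivial N := Finite.one_lt_card_iff_nontrivial.1 (h ▸ hp.out.one_lt)
  intro n hn
  have hne : Subgroup.center P ⊓ N ≠ ⊥ := by
    intro hbot
    let _ : MulAction P N := MulAction.compHom N (MulAut.conjNormal (G := P) (H := N))
    obtain ⟨b, hb, hne⟩ := hP.exists_fixed_point_of_prime_dvd_card_of_fixed_point N
      (h ▸ dvd_rfl) (a := 1) (fun u => map_one (MulAut.conjNormal u : MulAut N))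
    refine hne.symm (Subtype.ext ?_)
    rw [Subgroup.coe_one, ← Subgroup.mem_bot, ← hbot]
    refine ⟨Subgroup.mem_center_iff.2 fun u => ?_, b.2⟩
    have h2 : ((MulAut.conjNormal u b : N) : P) = (b : P) := congrArg Subtype.val (hb u)
    rw [MulAut.conjNormal_apply] at h2
    exact mul_inv_eq_iff_eq_mul.1 h2
  have hle : Subgroup.center P ⊓ N = N := by
    refine Subgroup.eq_of_le_of_card_ge inf_le_right ?_
    rcases (Nat.dvd_prime hp.out).1 (h ▸ Subgroup.card_dvd_of_le inf_le_right) with h1 | h1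
    · exact absurd (Subgroup.card_eq_one.1 h1) hne
    · rw [h, h1]
  exact (hle.ge hn).1

theorem exists_center_card {N : Subgroup P} [N.Normal] (hP : IsPGroup p P) (hN : N ≠ ⊥) :
    ∃ W : Subgroup P, W ≤ N ∧ Nat.card W = p ∧ W ≤ Subgroup.center P ∧ W.Normal := by
  haveI := (Subgroup.nontrivial_iff_ne_bot N).2 hN
  let _ : MulAction P N := MulAction.compHom N (MulAut.conjNormal (G := P) (H := N))
  obtain ⟨j, hj⟩ := IsPGroup.iff_card.1 (hP.to_subgroup N)
  have hdvd : p ∣ Nat.card N := by
    rcases j with _ | j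
    · exact absurd (hj.trans (pow_zero p)) Finite.one_lt_card.ne'
    · exact hj ▸ dvd_pow_self p j.succ_ne_zero
  obtain ⟨b, hb, hne⟩ := hP.exists_fixed_point_of_prime_dvd_card_of_fixed_point N hdvd (a := 1)
    (fun u => map_one (MulAut.conjNormal u : MulAut N))
  have hbc : (b : P) ∈ Subgroup.center P := Subgroup.mem_center_iff.2 fun u => by
    have h2 : ((MulAut.conjNormal u b : N) : P) = (b : P) := congrArg Subtype.val (hb u)
    rw [MulAut.conjNormal_apply] at h2
    exact mul_inv_eq_iff_eq_mul.1 h2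
  obtain ⟨i, hi⟩ := IsPGroup.iff_orderOf.1 hP (b : P)
  rcases i with _ | i
  · rw [pow_zero, orderOf_eq_one_iff] at hi
    exact absurd (Subtype.ext hi) hne.symm
  set W := Subgroup.zpowers ((b : P) ^ p ^ i)
  have hW : W ≤ Subgroup.center P :=
    Subgroup.zpowers_le.2 (Subgroup.pow_mem _ hbc _)
  refine ⟨W, Subgroup.zpowers_le.2 (Subgroup.pow_mem _ b.2 _), ?_, hW, ⟨fun n hn g => ?_⟩⟩
  · rw [Nat.card_zpowers, orderOf_pow' _ (pow_ne_zero _ hp.out.ne_zero), hi, pow_succ,
      Nat.gcd_mul_right_left, Nat.mul_div_cancel_left _ (pow_pos hp.out.pos _)]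
  · rwa [Subgroup.mem_center_iff.1 (hW hn) g, mul_inv_cancel_right]

theorem mem_iff_of_card {N : Subgroup P} (h : Nat.card N = p) {z : P} (hz : z ∈ N) (hz1 : z ≠ 1) :
    N = Subgroup.zpowers z := by
  refine (Subgroup.eq_of_le_of_card_ge (Subgroup.zpowers_le.2 hz) ?_).symm
  rw [h, Nat.card_zpowers]
  have : orderOf (⟨z, hz⟩ : N) ∣ p := h ▸ orderOf_dvd_natCard _
  rw [Subgroup.orderOf_mk] at this
  rcases (Nat.dvd_prime hp.out).1 this with h1 | h1
  · exact absurd (orderOf_eq_one_iff.1 h1) hz1
  · rw [h1]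

/-- The structure when the derived subgroup has order `p`. -/
theorem of_card_commutator (hP : IsPGroup p P) (hd : Nat.card (commutator P) = p)
    (χ : Cfsg.IrrCharacter P) (h1 : Cfsg.charDegree (χ : P → ℂ) ≠ 1) :
    (∀ x, x ∉ Subgroup.center P → (χ : P → ℂ) x = 0) ∧
      Cfsg.charDegree (χ : P → ℂ) ^ 2 = (Subgroup.center P).index := by
  have hv : ∀ x, x ∉ Subgroup.center P → (χ : P → ℂ) x = 0 := by
    intro x hx
    rw [Subgroup.mem_center_iff] at hx
    push Not at hx
    obtain ⟨g, hg⟩ := hx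
    have hmem : ⁅g, x⁆ ∈ commutator P :=
      Subgroup.commutator_mem_commutator (Subgroup.mem_top g) (Subgroup.mem_top x)
    refine vanish χ (le_center_of_card hP hd hmem) fun hk => h1 ?_
    rw [charDegree_eq_one_iff, mem_iff_of_card hd hmem
      (fun e => hg (commutatorElement_eq_one_iff_mul_comm.1 e)), Subgroup.zpowers_le]
    exact hk
  exact ⟨hv, deg_sq χ _ le_rfl hv⟩

theorem center_cyclic (hP : IsPGroup p P) (hd : Nat.card (commutator P) = p) (h : GaloisByDeg P) :
    IsCyclic (Subgroup.center P) := by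
  have hne : commutator P ≠ ⊥ := fun e => by
    rw [e, Subgroup.card_bot] at hd
    exact hp.out.one_lt.ne hd
  obtain ⟨z, hz, hz1⟩ := (Subgroup.ne_bot_iff_exists_ne_one.1 hne : ∃ z : commutator P, z ≠ 1) |>.elim
    fun z h => (⟨(z : P), z.2, fun e => h (Subtype.ext e)⟩ : ∃ z : P, z ∈ commutator P ∧ z ≠ 1)
  obtain ⟨χ, hχ⟩ := exists_sep hz1
  have hχ1 : Cfsg.charDegree (χ : P → ℂ) ≠ 1 := fun e => hχ ((charDegree_eq_one_iff χ).1 e hz)
  haveI := CharKernel.irrKer_normal χ
  -- the kernel is trivial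
  have hker : CharKernel.irrKer χ = ⊥ := by
    by_contra hk
    obtain ⟨W, hWle, hWcard, hWc, hWn⟩ := exists_center_card hP hk
    haveI : Nontrivial W := Finite.one_lt_card_iff_nontrivial.1 (hWcard ▸ hp.out.one_lt)
    obtain ⟨⟨w, hw⟩, hw1⟩ := exists_ne (1 : W)
    have hw1' : w ≠ 1 := fun e => hw1 (Subtype.ext e)
    have hzc := le_center_of_card hP hd hz
    have hzw : w * z ≠ 1 := fun e => hχ (by
      rw [eq_inv_of_mul_eq_one_right e]; exact Subgroup.inv_mem _ (hWle hw))
    have hzz : Subgroup.zpowers (w * z) ≤ Subgroup.center P :=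
      Subgroup.zpowers_le.2 (Subgroup.mul_mem _ (hWc hw) hzc)
    haveI : (Subgroup.zpowers (w * z)).Normal := ⟨fun n hn g => by
      rwa [Subgroup.mem_center_iff.1 (hzz hn) g, mul_inv_cancel_right]⟩
    set U := Subgroup.zpowers (w * z)
    by_cases hzU : z ∈ U
    · -- then `w` is a power of `z`
      obtain ⟨i, hi⟩ := Subgroup.mem_zpowers_iff.1 hzU
      have hwU : w ∈ U := by
        have := U.mul_mem (Subgroup.mem_zpowers (w * z)) (U.inv_mem hzU)
        rwa [mul_inv_cancel_right] at this
      have hcyc : U ≤ commutator P ⊔ W :=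
        Subgroup.zpowers_le.2 (Subgroup.mul_mem _ (Subgroup.mem_sup_right hw) (Subgroup.mem_sup_left hz))
      have hpow : (w * z) ^ p = 1 := by
        have hcomm : Commute w z := ((Subgroup.mem_center_iff.1 (hWc hw)) z).symm
        rw [hcomm.mul_pow]
        have e1 : w ^ p = 1 := by
          have := pow_card_eq_one' (x := (⟨w, hw⟩ : W))
          rw [hWcard] at this
          exact congrArg Subtype.val this
        have e2 : z ^ p = 1 := by
          have := pow_card_eq_one' (x := (⟨z, hz⟩ : commutator P))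
          rw [hd] at this
          exact congrArg Subtype.val this
        rw [e1, e2, one_mul]
      have hU : Nat.card U = p := by
        rw [Nat.card_zpowers]; exact orderOf_eq_prime hpow hzw
      have h1 := mem_iff_of_card hU hzU hz1
      have h2 := mem_iff_of_card hWcard hw hw1'
      have hwD : w ∈ commutator P := (Subgroup.zpowers_le.2 hz) (h1 ▸ hwU)
      have h3 : z ∈ W := by
        have hz2 := hz
        rw [mem_iff_of_card hd hwD hw1'] at hz2
        exact (Subgroup.zpowers_le.2 hw) hz2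
      exact hχ (hWle h3)
    · obtain ⟨ψ, hψ⟩ := exists_sep (P := P ⧸ U) (z := (z : P ⧸ U))
        (fun e => hzU ((QuotientGroup.eq_one_iff z).1 e))
      obtain ⟨χ', hval, hle, -⟩ := exists_lift U ψ
      have hz' : z ∉ CharKernel.irrKer χ' := fun hk' => hψ (by
        rw [CharKernel.mem_irrKer] at hk' ⊢
        rw [hval, hval] at hk'
        exact hk')
      have hχ'1 : Cfsg.charDegree (χ' : P → ℂ) ≠ 1 := fun e =>
        hz' ((charDegree_eq_one_iff χ').1 e hz)
      have hdeg : Cfsg.charDegree (χ : P → ℂ) = Cfsg.charDegree (χ' : P → ℂ) :=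
        Nat.pow_left_injective two_ne_zero
          ((of_card_commutator hP hd χ hχ1).2.trans (of_card_commutator hP hd χ' hχ'1).2.symm)
      have hk' := same_ker h hχ1 hdeg
      apply hz'
      have h1 := hle (Subgroup.mem_zpowers (w * z))
      have h2 : w ∈ CharKernel.irrKer χ' := hk' ▸ hWle hw
      have := Subgroup.mul_mem _ (Subgroup.inv_mem _ h2) h1
      rwa [inv_mul_cancel_left] at this
  -- a faithful central character
  choose c hc using fun z : Subgroup.center P => exists_central_scalar χ z.2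
  have hone : (χ : P → ℂ) 1 ≠ 0 := CharAverage.irr_one_ne_zero χ
  let f : Subgroup.center P →* ℂ :=
    { toFun := c
      map_one' := by
        have := hc 1 1
        simp only [Subgroup.coe_one, one_mul] at this
        exact (mul_left_eq_self₀.1 this.symm).resolve_right hone
      map_mul' := fun a b => mul_right_cancel₀ hone (by
        have h1 := hc (a * b) 1
        have h3 := hc b 1
        have h2 := hc a b
        simp only [Subgroup.coe_mul, mul_one] at h1 h3
        rw [← h1, h2, h3, mul_assoc]) }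
  refine isCyclic_of_subgroup_isDomain f ((injective_iff_map_eq_one f).2 fun a ha => ?_)
  have h1 := hc a 1
  rw [mul_one, show c a = 1 from ha, one_mul] at h1
  have : (a : P) ∈ CharKernel.irrKer χ := CharKernel.mem_irrKer.2 h1
  rw [hker, Subgroup.mem_bot] at this
  exact Subtype.ext this

/-- Data of a quotient by a central subgroup of order `p` in the derived subgroup. -/
theorem quot_data (hP : IsPGroup p P) (h : GaloisByDeg P) (N : Subgroup P) [N.Normal]
    (hd : Nat.card (commutator (P ⧸ N)) = p) :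
    IsCyclic (Subgroup.center (P ⧸ N)) ∧
    ∃ χ : Cfsg.IrrCharacter P, Cfsg.charDegree (χ : P → ℂ) ≠ 1 ∧ N ≤ CharKernel.irrKer χ ∧
      Cfsg.charDegree (χ : P → ℂ) ^ 2 = (Subgroup.center (P ⧸ N)).index := by
  have hQ : IsPGroup p (P ⧸ N) := hP.to_quotient N
  refine ⟨center_cyclic hQ hd (galoisByDeg_quot h N), ?_⟩
  have hne : commutator (P ⧸ N) ≠ ⊥ := fun e => by
    rw [e, Subgroup.card_bot] at hd
    exact hp.out.one_lt.ne hd
  obtain ⟨⟨z, hz⟩, hz1⟩ := Subgroup.ne_bot_iff_exists_ne_one.1 hne
  obtain ⟨ψ, hψ⟩ := exists_sep (P := P ⧸ N) (z := z) (fun e => hz1 (Subtype.ext e))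
  have hψ1 : Cfsg.charDegree (ψ : P ⧸ N → ℂ) ≠ 1 := fun e =>
    hψ ((charDegree_eq_one_iff ψ).1 e hz)
  obtain ⟨χ, -, hle, hdeg⟩ := exists_lift N ψ
  exact ⟨χ, hdeg ▸ hψ1, hle, hdeg ▸ (of_card_commutator hQ hd ψ hψ1).2⟩

theorem card_commutator_quot (N : Subgroup P) [N.Normal] (hN : N ≤ commutator P) :
    Nat.card (commutator (P ⧸ N)) * Nat.card N = Nat.card (commutator P) := by
  have e : commutator (P ⧸ N) = (commutator P).map (QuotientGroup.mk' N) := by
    rw [commutator_def, commutator_def, Subgroup.map_commutator,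
      Subgroup.map_top_of_surjective _ (QuotientGroup.mk'_surjective N)]
  rw [e, ← Subgroup.relIndex_bot_left, ← Subgroup.map_bot (QuotientGroup.mk' N),
    Subgroup.relIndex_map_map, QuotientGroup.ker_mk', bot_sup_eq, sup_eq_left.2 hN,
    ← Subgroup.relIndex_bot_left (H := N), mul_comm,
    Subgroup.relIndex_mul_relIndex _ _ _ bot_le hN, Subgroup.relIndex_bot_left]

/-- In a central derived subgroup the commutator with a fixed element is multiplicative. -/
theorem pow_commutator {x g : P} (hc : ⁅x, g⁆ ∈ Subgroup.center P) (n : ℕ) :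
    ⁅x ^ n, g⁆ = ⁅x, g⁆ ^ n := by
  induction n with
  | zero => simp
  | succ n ih =>
    have h := Subgroup.mem_center_iff.1 hc
    calc ⁅x ^ (n + 1), g⁆ = x ^ n * ⁅x, g⁆ * (g * (x ^ n)⁻¹ * g⁻¹) := by
          rw [pow_succ, commutatorElement_def, commutatorElement_def]; group
      _ = ⁅x, g⁆ * ⁅x ^ n, g⁆ := by
          rw [h (x ^ n), commutatorElement_def (x ^ n) g]; group
      _ = ⁅x, g⁆ ^ (n + 1) := by rw [ih, pow_succ']

theorem mem_R {N : Subgroup P} [N.Normal] {x : P} :
    x ∈ (Subgroup.center (P ⧸ N)).comap (QuotientGroup.mk' N) ↔ ∀ g, ⁅x, g⁆ ∈ N := by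
  rw [Subgroup.mem_comap, Subgroup.mem_center_iff]
  constructor
  · intro h g
    rw [← QuotientGroup.eq_one_iff]
    show (QuotientGroup.mk' N) ⁅x, g⁆ = 1
    rw [map_commutatorElement]
    exact commutatorElement_eq_one_iff_mul_comm.2 (h _).symm
  · intro h q
    obtain ⟨g, rfl⟩ := QuotientGroup.mk'_surjective N q
    refine (commutatorElement_eq_one_iff_mul_comm.1 ?_).symm
    rw [← map_commutatorElement]
    exact (QuotientGroup.eq_one_iff _).2 (h g)

theorem mem_center_iff' {x : P} : x ∈ Subgroup.center P ↔ ∀ g : P, ⁅x, g⁆ = 1 := by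
  rw [Subgroup.mem_center_iff]
  exact forall_congr' fun g => by rw [commutatorElement_eq_one_iff_mul_comm, eq_comm]

theorem step (hP : IsPGroup p P) (h : GaloisByDeg P) (hd : Nat.card (commutator P) = p * p) :
    False := by
  classical
  have hne : commutator P ≠ ⊥ := fun e => by
    rw [e, Subgroup.card_bot] at hd
    have := hp.out.two_le
    nlinarith
  obtain ⟨N, hNle, hNc, hNZ, hNn⟩ := exists_center_card hP hne
  haveI := hNn
  have hdq : ∀ (M : Subgroup P) [M.Normal], M ≤ commutator P → Nat.card M = p →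
      Nat.card (commutator (P ⧸ M)) = p := by
    intro M _ hM hMc
    have := card_commutator_quot M hM
    rw [hMc, hd] at this
    exact Nat.eq_of_mul_eq_mul_right hp.out.pos this
  obtain ⟨hcyc, χN, hN1, hNker, hNdeg⟩ := quot_data hP h N (hdq N hNle hNc)
  set R := (Subgroup.center (P ⧸ N)).comap (QuotientGroup.mk' N) with hR
  have hcommmem : ∀ a b : P, ⁅a, b⁆ ∈ commutator P := fun a b =>
    Subgroup.commutator_mem_commutator (Subgroup.mem_top a) (Subgroup.mem_top b)
  have hNpow : ∀ n ∈ N, n ^ p = 1 := fun n hn => by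
    have := pow_card_eq_one' (x := (⟨n, hn⟩ : N))
    rw [hNc] at this
    exact congrArg Subtype.val this
  -- the derived subgroup lies in `R`
  have hDR : ∀ x ∈ commutator P, x ∈ R := fun x hx => by
    refine Subgroup.mem_comap.2 (le_center_of_card (hP.to_quotient N) (hdq N hNle hNc) ?_)
    rw [commutator_def, ← Subgroup.map_top_of_surjective _ (QuotientGroup.mk'_surjective N),
      ← Subgroup.map_commutator]
    exact Subgroup.mem_map_of_mem _ hx
  by_cases hcen : commutator P ≤ Subgroup.center P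
  · -- central derived subgroup
    have hRpow : ∀ x : P, x ^ p ∈ R := by
      intro x
      rw [hR, mem_R]
      intro g
      rw [pow_commutator (hcen (hcommmem x g))]
      rw [← QuotientGroup.eq_one_iff, QuotientGroup.mk_pow]
      have h2 : ((⁅x, g⁆ : P) : P ⧸ N) ∈ commutator (P ⧸ N) := by
        show (QuotientGroup.mk' N) ⁅x, g⁆ ∈ _
        rw [map_commutatorElement]
        exact Subgroup.commutator_mem_commutator (Subgroup.mem_top _) (Subgroup.mem_top _)
      have := pow_card_eq_one' (x := (⟨_, h2⟩ : commutator (P ⧸ N)))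
      rw [hdq N hNle hNc] at this
      exact congrArg Subtype.val this
    by_cases helem : ∀ x ∈ commutator P, x ^ p = 1
    · obtain ⟨a, ha, haN⟩ : ∃ a ∈ commutator P, a ∉ N := by
        by_contra hno
        push Not at hno
        have := Subgroup.card_le_of_le (show commutator P ≤ N from hno)
        rw [hd, hNc] at this
        have := hp.out.two_le
        nlinarith
      set N2 := Subgroup.zpowers a
      have hN2c : Nat.card N2 = p := by
        rw [Nat.card_zpowers]
        exact orderOf_eq_prime (helem a ha) (fun e => haN (e ▸ N.one_mem))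
      haveI : N2.Normal := ⟨fun n hn g => by
        rwa [Subgroup.mem_center_iff.1 (hcen (Subgroup.zpowers_le.2 ha hn)) g,
          mul_inv_cancel_right]⟩
      have hN2le : N2 ≤ commutator P := Subgroup.zpowers_le.2 ha
      obtain ⟨-, χ2, h21, h2ker, h2deg⟩ := quot_data hP h N2 (hdq N2 hN2le hN2c)
      -- the index of the radical over the centre
      have hidx : ∀ (M : Subgroup P) [M.Normal], M ≤ Subgroup.center P → Nat.card M = p →
          IsCyclic (Subgroup.center (P ⧸ M)) →
          ∃ e : ℕ, (e = 0 ∨ e = 1) ∧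
            (Subgroup.center P).index = p ^ e * (Subgroup.center (P ⧸ M)).index := by
        intro M _ hMZ hMc hMcyc
        set RM := (Subgroup.center (P ⧸ M)).comap (QuotientGroup.mk' M)
        have hZR : Subgroup.center P ≤ RM := fun x hx => mem_R.2 fun g => by
          rw [mem_center_iff'.1 hx g]; exact M.one_mem
        have hpowZ : ∀ x ∈ RM, x ^ p ∈ Subgroup.center P := fun x _ => mem_center_iff'.2 fun g => by
          rw [pow_commutator (hcen (hcommmem x g)), helem _ (hcommmem x g)]
        have hrel : (Subgroup.center P).relIndex RM = 1 ∨ (Subgroup.center P).relIndex RM = p := by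
          set ZM := (Subgroup.center P).map (QuotientGroup.mk' M)
          have hle : ZM ≤ Subgroup.center (P ⧸ M) := Subgroup.map_le_iff_le_comap.2 hZR
          have e : (Subgroup.center P).relIndex RM = ZM.relIndex (Subgroup.center (P ⧸ M)) := by
            rw [← Subgroup.map_comap_eq_self_of_surjective (QuotientGroup.mk'_surjective M)
              (Subgroup.center (P ⧸ M)), Subgroup.relIndex_map_map, QuotientGroup.ker_mk',
              sup_eq_left.2 hMZ, sup_eq_left.2 (hMZ.trans hZR)]
          rw [e]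
          haveI := hMcyc
          obtain ⟨⟨w, hw⟩, hwgen⟩ := hMcyc.exists_generator
          haveI : (ZM.subgroupOf (Subgroup.center (P ⧸ M))).Normal := inferInstance
          have hcq : IsCyclic (Subgroup.center (P ⧸ M) ⧸ ZM.subgroupOf (Subgroup.center (P ⧸ M))) :=
            isCyclic_of_surjective (QuotientGroup.mk' _) (QuotientGroup.mk'_surjective _)
          obtain ⟨v, hv⟩ := hcq.exists_generator
          refine (Nat.dvd_prime hp.out).1 ?_
          show Nat.card (Subgroup.center (P ⧸ M) ⧸ ZM.subgroupOf (Subgroup.center (P ⧸ M))) ∣ p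
          rw [← orderOf_eq_card_of_forall_mem_zpowers hv]
          refine orderOf_dvd_of_pow_eq_one ?_
          obtain ⟨⟨u, hu⟩, rfl⟩ := QuotientGroup.mk_surjective v
          obtain ⟨x, rfl⟩ := QuotientGroup.mk'_surjective M u
          rw [← QuotientGroup.mk_pow, QuotientGroup.eq_one_iff, Subgroup.mem_subgroupOf]
          exact ⟨x ^ p, hpowZ x hu, by simp⟩
        have hmul := Subgroup.relIndex_mul_index hZR
        rw [Subgroup.index_comap_of_surjective _ (QuotientGroup.mk'_surjective M)] at hmul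
        rcases hrel with h1 | h1
        · exact ⟨0, Or.inl rfl, by rw [← hmul, h1, pow_zero]⟩
        · exact ⟨1, Or.inr rfl, by rw [← hmul, h1, pow_one]⟩
      obtain ⟨e1, he1, hi1⟩ := hidx N hNZ hNc hcyc
      obtain ⟨e2, he2, hi2⟩ := hidx N2 (hN2le.trans hcen) hN2c
        (quot_data hP h N2 (hdq N2 hN2le hN2c)).1
      rw [← hNdeg, hi2, ← h2deg] at hi1
      have hdeg : Cfsg.charDegree (χN : P → ℂ) = Cfsg.charDegree (χ2 : P → ℂ) := by
        have hpos1 := (CharAverage.irr_degree_pos χN).ne'
        have hpos2 := (CharAverage.irr_degree_pos χ2).ne'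
        have hfac := congrArg (fun n => n.factorization p) hi1
        simp only [Nat.factorization_mul (pow_ne_zero _ hp.out.ne_zero) (pow_ne_zero 2 hpos1),
          Nat.factorization_mul (pow_ne_zero _ hp.out.ne_zero) (pow_ne_zero 2 hpos2),
          Nat.factorization_pow, hp.out.factorization, Finsupp.add_apply, Finsupp.smul_apply,
          Finsupp.single_eq_same, smul_eq_mul, mul_one] at hfac
        have : e1 = e2 := by
          rcases he1 with rfl | rfl <;> rcases he2 with rfl | rfl <;> omega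
        rw [this] at hi1
        exact Nat.pow_left_injective two_ne_zero
          (Nat.eq_of_mul_eq_mul_left (pow_pos hp.out.pos _) hi1).symm
      have hk := same_ker h hN1 hdeg
      apply hN1
      rw [charDegree_eq_one_iff]
      have hsup : commutator P = N ⊔ N2 := by
        refine (Subgroup.eq_of_le_of_card_ge (sup_le hNle hN2le) ?_).symm
        have h1 : p ∣ Nat.card (N ⊔ N2 : Subgroup P) := hNc ▸ Subgroup.card_dvd_of_le le_sup_left
        have h2 : Nat.card (N ⊔ N2 : Subgroup P) ∣ p ^ 2 := by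
          rw [pow_two, ← hd]; exact Subgroup.card_dvd_of_le (sup_le hNle hN2le)
        obtain ⟨i, hi, hi'⟩ := (Nat.dvd_prime_pow hp.out).1 h2
        rw [hd, hi']
        interval_cases i
        · rw [hi', pow_zero] at h1
          exact absurd (Nat.dvd_one.1 h1) hp.out.ne_one
        · exfalso
          apply haN
          have : N = N ⊔ N2 := Subgroup.eq_of_le_of_card_ge le_sup_left
            (by rw [hi', hNc, pow_one])
          rw [this]
          exact Subgroup.mem_sup_right (Subgroup.mem_zpowers a)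
        · rw [pow_two]
      rw [hsup]
      exact sup_le hNker (hk ▸ h2ker)
    · -- cyclic derived subgroup
      push Not at helem
      obtain ⟨x, y, hxy⟩ : ∃ x y : P, ⁅x, y⁆ ^ p ≠ 1 := by
        by_contra hno
        push Not at hno
        obtain ⟨a, ha, hap⟩ := helem
        apply hap
        let Ω : Subgroup P :=
          { carrier := {g | g ∈ Subgroup.center P ∧ g ^ p = 1}
            one_mem' := ⟨one_mem _, one_pow p⟩
            mul_mem' := fun {u v} hu hv => ⟨mul_mem hu.1 hv.1, by
              rw [Commute.mul_pow (Subgroup.mem_center_iff.1 hv.1 u), hu.2, hv.2, one_mul]⟩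
            inv_mem' := fun {u} hu => ⟨inv_mem hu.1, by rw [inv_pow, hu.2, inv_one]⟩ }
        have hle : commutator P ≤ Ω := by
          rw [commutator_def, Subgroup.commutator_le]
          exact fun u _ v _ => ⟨hcen (hcommmem u v), hno u v⟩
        exact (hle ha).2
      obtain ⟨⟨w, hw⟩, hwgen⟩ := hcyc.exists_generator
      obtain ⟨w, rfl⟩ := QuotientGroup.mk'_surjective N w
      have hwR : ∀ g, ⁅w, g⁆ ∈ N := mem_R.1 hw
      have hpowN : ∀ (g : P) (i : ℕ), ⁅w ^ i, g⁆ = ⁅w, g⁆ ^ i := fun g i =>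
        pow_commutator (hNZ (hwR g)) i
      have hexp : ∀ u : P, ∃ i : ℕ, ∀ g : P, ⁅u ^ p, g⁆ = ⁅w, g⁆ ^ i := by
        intro u
        have hu := hRpow u
        obtain ⟨j, hj⟩ := Subgroup.mem_zpowers_iff.1 (hwgen ⟨_, hu⟩)
        have hj' := congrArg Subtype.val hj
        simp only [SubgroupClass.coe_zpow] at hj'
        obtain ⟨i, hi⟩ : ∃ i : ℕ, (QuotientGroup.mk' N w) ^ i = (QuotientGroup.mk' N w) ^ j :=
          (mem_powers_iff_mem_zpowers.2 ⟨j, rfl⟩ : (QuotientGroup.mk' N w) ^ j ∈
            Submonoid.powers (QuotientGroup.mk' N w))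
        refine ⟨i, fun g => ?_⟩
        rw [← hpowN]
        have h1 : (w ^ i)⁻¹ * u ^ p ∈ N := by
          rw [← QuotientGroup.eq, ← QuotientGroup.mk'_apply N (w ^ i), map_pow, hi, hj']
          rfl
        obtain ⟨n, hn, hup⟩ : ∃ n ∈ N, u ^ p = w ^ i * n := ⟨_, h1, by group⟩
        have hnc := Subgroup.mem_center_iff.1 (hNZ hn)
        rw [hup, commutatorElement_def, commutatorElement_def]
        calc w ^ i * n * g * (w ^ i * n)⁻¹ * g⁻¹ = w ^ i * (n * g) * n⁻¹ * (w ^ i)⁻¹ * g⁻¹ := by
              group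
          _ = _ := by rw [← hnc g]; group
      obtain ⟨i, hi⟩ := hexp x
      obtain ⟨j, hj⟩ := hexp y
      have h1 : ⁅w, y⁆ ^ i ≠ 1 := by rw [← hi, pow_commutator (hcen (hcommmem x y))]; exact hxy
      have hpi : ¬ p ∣ i := by
        rintro ⟨k, rfl⟩
        exact h1 (by rw [pow_mul, hNpow _ (hwR y), one_pow])
      have h2 : ⁅w, x⁆ = 1 := by
        have h3 : ⁅w, x⁆ ^ i = 1 := by
          rw [← hi, pow_commutator (hcen (hcommmem x x)), commutatorElement_self, one_pow]
        have h4 : orderOf ⁅w, x⁆ ∣ Nat.gcd i p :=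
          Nat.dvd_gcd (orderOf_dvd_of_pow_eq_one h3) (orderOf_dvd_of_pow_eq_one (hNpow _ (hwR x)))
        rw [((hp.out.coprime_iff_not_dvd.2 hpi).symm).gcd_eq_one, Nat.dvd_one] at h4
        exact orderOf_eq_one_iff.1 h4
      have h5 : ⁅y, x⁆ ^ p = 1 := by
        rw [← pow_commutator (hcen (hcommmem y x)), hj, h2, one_pow]
      rw [← commutatorElement_inv, inv_pow, inv_eq_one] at h5
      exact hxy h5
  · -- a derived subgroup outside the centre
    obtain ⟨a, ha, haZ⟩ := SetLike.not_le_iff_exists.1 hcen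
    have haN : a ∉ N := fun h => haZ (hNZ h)
    have hDgen : ∀ g : P, g ∈ commutator P → ∃ (n : P) (i : ℤ), n ∈ N ∧ g = n * a ^ i := by
      intro g hg
      have hsup : commutator P = N ⊔ Subgroup.zpowers a := by
        have hle : N ⊔ Subgroup.zpowers a ≤ commutator P :=
          sup_le hNle (Subgroup.zpowers_le.2 ha)
        refine (Subgroup.eq_of_le_of_card_ge hle ?_).symm
        have h2 : Nat.card (N ⊔ Subgroup.zpowers a : Subgroup P) ∣ p ^ 2 := by
          rw [pow_two, ← hd]; exact Subgroup.card_dvd_of_le hle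
        obtain ⟨i, hi, hi'⟩ := (Nat.dvd_prime_pow hp.out).1 h2
        rw [hd, hi']
        have hlt : Nat.card N < Nat.card (N ⊔ Subgroup.zpowers a : Subgroup P) := by
          refine lt_of_le_of_ne (Subgroup.card_le_of_le le_sup_left) fun e => haN ?_
          have := Subgroup.eq_of_le_of_card_ge (le_sup_left : N ≤ N ⊔ Subgroup.zpowers a) e.ge
          rw [this]
          exact Subgroup.mem_sup_right (Subgroup.mem_zpowers a)
        rw [hNc, hi'] at hlt
        interval_cases i
        · simp at hlt; exact absurd hlt hp.out.ne_zero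
        · simp at hlt
        · rw [pow_two]
      rw [hsup, Subgroup.mem_sup_of_normal_left] at hg
      obtain ⟨n, hn, b, hb, rfl⟩ := hg
      obtain ⟨i, rfl⟩ := Subgroup.mem_zpowers_iff.1 hb
      exact ⟨n, i, hn, rfl⟩
    set C := Subgroup.centralizer ({a} : Set P) with hC
    have haR : ∀ g, ⁅g, a⁆ ∈ N := fun g => by
      rw [← commutatorElement_inv]; exact N.inv_mem (mem_R.1 (hDR a ha) g)
    have hmemC : ∀ c, c ∈ C ↔ ⁅c, a⁆ = 1 := fun c => by
      rw [hC, Subgroup.mem_centralizer_singleton_iff, commutatorElement_eq_one_iff_mul_comm]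
    have hCD : ∀ c ∈ C, ∀ g ∈ commutator P, c * g = g * c := by
      intro c hc g hg
      obtain ⟨n, i, hn, rfl⟩ := hDgen g hg
      have h1 : Commute c a := Subgroup.mem_centralizer_singleton_iff.1 hc
      rw [← mul_assoc, Subgroup.mem_center_iff.1 (hNZ hn) c, mul_assoc, (h1.zpow_right i).eq,
        mul_assoc]
    -- the index of `C`
    let φ : P →* N := MonoidHom.mk' (fun g => ⟨⁅g, a⁆, haR g⟩) fun g g' => Subtype.ext (by
      show ⁅g * g', a⁆ = ⁅g, a⁆ * ⁅g', a⁆
      calc ⁅g * g', a⁆ = g * ⁅g', a⁆ * (a * g⁻¹ * a⁻¹) := by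
            rw [commutatorElement_def, commutatorElement_def]; group
        _ = ⁅g', a⁆ * ⁅g, a⁆ := by
            rw [Subgroup.mem_center_iff.1 (hNZ (haR g')) g, commutatorElement_def g a]; group
        _ = ⁅g, a⁆ * ⁅g', a⁆ := (Subgroup.mem_center_iff.1 (hNZ (haR g')) _).symm)
    have hker : φ.ker = C := by
      ext g
      rw [MonoidHom.mem_ker, hmemC]
      exact ⟨fun e => congrArg Subtype.val e, fun e => Subtype.ext e⟩
    have hCidx : C.index = p := by
      have h1 : C.index ∣ p := by
        rw [← hker, Subgroup.index_ker, ← hNc]; exact Subgroup.card_subgroup_dvd_card _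
      rcases (Nat.dvd_prime hp.out).1 h1 with h2 | h2
      · exfalso
        refine haZ (mem_center_iff'.2 fun g => ?_)
        rw [← commutatorElement_inv, inv_eq_one, ← hmemC, Subgroup.index_eq_one.1 h2]
        exact Subgroup.mem_top g
      · exact h2
    haveI : C.Normal := hker ▸ MonoidHom.normal_ker φ
    -- the radical
    have hRC : ∀ r ∈ R, ∀ g ∈ commutator P, r * g = g * r := by
      intro r hr g hg
      have hle : commutator P ≤ Subgroup.centralizer ({r} : Set P) := by
        rw [commutator_def, Subgroup.commutator_le]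
        intro u _ v _
        rw [Subgroup.mem_centralizer_singleton_iff]
        have hnu := mem_R.1 hr u
        have hnv := mem_R.1 hr v
        have cu := Subgroup.mem_center_iff.1 (hNZ hnu)
        have cv := Subgroup.mem_center_iff.1 (hNZ hnv)
        have h1 : r * ⁅u, v⁆ * r⁻¹ = ⁅⁅r, u⁆ * u, ⁅r, v⁆ * v⁆ := by
          simp only [commutatorElement_def]; group
        have h2 : ⁅⁅r, u⁆ * u, ⁅r, v⁆ * v⁆ = ⁅u, v⁆ := by
          generalize ⁅r, u⁆ = n at cu ⊢
          generalize ⁅r, v⁆ = m at cv ⊢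
          calc ⁅n * u, m * v⁆ = n * u * (m * v) * u⁻¹ * n⁻¹ * v⁻¹ * m⁻¹ := by
                rw [commutatorElement_def]; group
            _ = n * (u * m) * v * u⁻¹ * (n⁻¹ * v⁻¹) * m⁻¹ := by group
            _ = n * (m * u) * v * u⁻¹ * (n⁻¹ * v⁻¹) * m⁻¹ := by rw [cv u]
            _ = n * m * ⁅u, v⁆ * (v * n⁻¹) * v⁻¹ * m⁻¹ := by rw [commutatorElement_def]; group
            _ = n * m * ⁅u, v⁆ * n⁻¹ * m⁻¹ := by
                rw [show v * n⁻¹ = n⁻¹ * v from ((Commute.inv_left (show Commute n v from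
                  (cu v).symm)).eq).symm]; group
            _ = m * (n * ⁅u, v⁆) * n⁻¹ * m⁻¹ := by rw [cv n]; group
            _ = m * (⁅u, v⁆ * n) * n⁻¹ * m⁻¹ := by rw [← cu ⁅u, v⁆]
            _ = (m * ⁅u, v⁆) * m⁻¹ := by group
            _ = (⁅u, v⁆ * m) * m⁻¹ := by rw [cv ⁅u, v⁆]
            _ = ⁅u, v⁆ := by group
        have h3 := h1.trans h2
        exact (mul_inv_eq_iff_eq_mul.1 h3).symm
      exact ((Subgroup.mem_centralizer_singleton_iff.1 (hle hg))).symm
    have hRpowZ : ∀ r ∈ R, r ^ p ∈ Subgroup.center P := fun r hr => mem_center_iff'.2 fun g => by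
      rw [pow_commutator (hNZ (mem_R.1 hr g)), hNpow _ (mem_R.1 hr g)]
    have hZN : Subgroup.center P ≤ N := by
      by_contra hno
      obtain ⟨z, hz, hzN⟩ := SetLike.not_le_iff_exists.1 hno
      haveI := hcyc
      set ZM := (Subgroup.center P).map (QuotientGroup.mk' N)
      have hle : ZM ≤ Subgroup.center (P ⧸ N) := Subgroup.map_le_iff_le_comap.2 fun x hx =>
        mem_R.2 fun g => by rw [mem_center_iff'.1 hx g]; exact N.one_mem
      have hne2 : ZM ≠ ⊥ := fun e => hzN (by
        rw [← QuotientGroup.eq_one_iff, ← Subgroup.mem_bot, ← e]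
        exact Subgroup.mem_map_of_mem _ hz)
      haveI : ZM.Normal := Subgroup.Normal.map inferInstance _ (QuotientGroup.mk'_surjective N)
      obtain ⟨W, hWle, hWc, hWcen, -⟩ := exists_center_card (hP.to_quotient N) hne2
      have hDQ : commutator (P ⧸ N) ≤ Subgroup.center (P ⧸ N) :=
        le_center_of_card (hP.to_quotient N) (hdq N hNle hNc)
      have hWD : commutator (P ⧸ N) = W := by
        have h1 := eq_of_cyclic (S := Subgroup.center (P ⧸ N)) hDQ hWcen
          ((hdq N hNle hNc).trans hWc.symm)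
        exact h1
      have haW : (a : P ⧸ N) ∈ ZM := hWle (hWD ▸ (by
        rw [commutator_def, ← Subgroup.map_top_of_surjective _ (QuotientGroup.mk'_surjective N),
          ← Subgroup.map_commutator]
        exact Subgroup.mem_map_of_mem _ ha))
      obtain ⟨z', hz', hza⟩ := haW
      refine haZ ?_
      have h1 : z'⁻¹ * a ∈ N := QuotientGroup.eq.1 hza
      have := Subgroup.mul_mem _ hz' (hNZ h1)
      rwa [mul_inv_cancel_left] at this
    have hR2 : Nat.card (Subgroup.center (P ⧸ N)) = p := by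
      haveI := hcyc
      obtain ⟨⟨v, hv⟩, hvgen⟩ := hcyc.exists_generator
      obtain ⟨r, rfl⟩ := QuotientGroup.mk'_surjective N v
      rw [← orderOf_eq_card_of_forall_mem_zpowers hvgen]
      refine orderOf_eq_prime (Subtype.ext ?_) fun e => ?_
      · rw [SubgroupClass.coe_pow, ← map_pow]
        exact (QuotientGroup.eq_one_iff _).2 (hZN (hRpowZ r hv))
      · haveI : Nontrivial (Subgroup.center (P ⧸ N)) := by
          refine (Subgroup.nontrivial_iff_ne_bot _).2 fun e' => ?_
          have := le_center_of_card (hP.to_quotient N) (hdq N hNle hNc)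
          rw [e', le_bot_iff] at this
          have h1 := hdq N hNle hNc
          rw [this, Subgroup.card_bot] at h1
          exact hp.out.one_lt.ne h1
        obtain ⟨u, hu⟩ := exists_ne (1 : Subgroup.center (P ⧸ N))
        obtain ⟨i, hi⟩ := Subgroup.mem_zpowers_iff.1 (hvgen u)
        rw [e, one_zpow] at hi
        exact hu hi.symm
    -- commutators of `C` lie in `N`
    have hCC : ∀ c ∈ C, ∀ d ∈ C, ⁅c, d⁆ ∈ N := by
      intro c hc d hd
      refine hZN (Subgroup.mem_center_iff.2 fun x => ?_)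
      have k1 : ∀ g, c * (⁅x, g⁆) = ⁅x, g⁆ * c := fun g => hCD c hc _ (hcommmem x g)
      have k2 : ∀ g, d * (⁅x, g⁆) = ⁅x, g⁆ * d := fun g => hCD d hd _ (hcommmem x g)
      have k3 : ⁅x, c⁆ * ⁅x, d⁆ = ⁅x, d⁆ * ⁅x, c⁆ := by
        have hin : ⁅x, c⁆ ∈ C := (hmemC _).2 (commutatorElement_eq_one_iff_mul_comm.2 (by
          obtain ⟨n, i, hn, he⟩ := hDgen _ (hcommmem x c)
          rw [he, mul_assoc, ((Commute.refl a).zpow_left i).eq, ← mul_assoc, ← mul_assoc,
            Subgroup.mem_center_iff.1 (hNZ hn) a]))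
        exact hCD _ hin _ (hcommmem x d)
      have h1 : x * ⁅c, d⁆ * x⁻¹ = ⁅⁅x, c⁆ * c, ⁅x, d⁆ * d⁆ := by
        simp only [commutatorElement_def]; group
      have h2 : ⁅⁅x, c⁆ * c, ⁅x, d⁆ * d⁆ = ⁅c, d⁆ := by
        have kc := k1 c
        have kc' := k1 d
        have kd := k2 c
        have kd' := k2 d
        generalize ⁅x, c⁆ = n at k3 kc kd ⊢
        generalize ⁅x, d⁆ = m at k3 kc' kd' ⊢
        have en : Commute n (⁅c, d⁆) := by
          have h1 : Commute n c := kc.symm
          have h2 : Commute n d := kd.symm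
          rw [commutatorElement_def]
          exact ((h1.mul_right h2).mul_right h1.inv_right).mul_right h2.inv_right
        have em : Commute m (⁅c, d⁆) := by
          have h1 : Commute m c := kc'.symm
          have h2 : Commute m d := kd'.symm
          rw [commutatorElement_def]
          exact ((h1.mul_right h2).mul_right h1.inv_right).mul_right h2.inv_right
        calc ⁅n * c, m * d⁆ = n * (c * m) * d * c⁻¹ * (n⁻¹ * d⁻¹) * m⁻¹ := by
              rw [commutatorElement_def]; group
          _ = n * (m * c) * d * c⁻¹ * (d⁻¹ * n⁻¹) * m⁻¹ := by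
              rw [kc', ((show Commute n d from kd.symm).inv_inv).eq]
          _ = n * m * ⁅c, d⁆ * n⁻¹ * m⁻¹ := by rw [commutatorElement_def]; group
          _ = m * (n * ⁅c, d⁆) * n⁻¹ * m⁻¹ := by rw [k3]; group
          _ = m * (⁅c, d⁆ * n) * n⁻¹ * m⁻¹ := by rw [en.eq]
          _ = (m * ⁅c, d⁆) * m⁻¹ := by group
          _ = (⁅c, d⁆ * m) * m⁻¹ := by rw [em.eq]
          _ = ⁅c, d⁆ := by group
      have h3 := h1.trans h2
      exact mul_inv_eq_iff_eq_mul.1 h3
    -- the quotient has degree `p`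
    set A := C.map (QuotientGroup.mk' N)
    haveI : A.Normal := Subgroup.Normal.map inferInstance _ (QuotientGroup.mk'_surjective N)
    have hA : ∀ u v : A, u * v = v * u := by
      rintro ⟨_, c, hc, rfl⟩ ⟨_, d, hd, rfl⟩
      refine Subtype.ext ?_
      show QuotientGroup.mk' N c * QuotientGroup.mk' N d = QuotientGroup.mk' N d * QuotientGroup.mk' N c
      rw [← commutatorElement_eq_one_iff_mul_comm, ← map_commutatorElement]
      exact (QuotientGroup.eq_one_iff _).2 (hCC c hc d hd)
    have hNC : N ≤ C := fun n hn => (hmemC n).2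
      (commutatorElement_eq_one_iff_mul_comm.2 (Subgroup.mem_center_iff.1 (hNZ hn) a).symm)
    have hAidx : A.index = p := by
      rw [Subgroup.index_map_eq _ (QuotientGroup.mk'_surjective N) (by rwa [QuotientGroup.ker_mk']),
        hCidx]
    obtain ⟨ψ, hψ⟩ := CharKernel.exists_quot_irr N χN hNker
    have hdegN : Cfsg.charDegree (χN : P → ℂ) = p := by
      obtain ⟨m, hm0, hm, hmd⟩ := DegreeDvd.degree_dvd_index_abelian ψ.2 A hA
      rw [hAidx] at hmd
      have hmN : Cfsg.charDegree (χN : P → ℂ) = m := by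
        have := hψ 1
        rw [CharAverage.irr_apply_one χN] at this
        exact Nat.cast_injective (R := ℂ) (this.trans hm)
      rcases (Nat.dvd_prime hp.out).1 hmd with rfl | rfl
      · exact absurd hmN hN1
      · exact hmN
    -- so `C` is abelian
    have hPcard : Nat.card P = p * p * (p * p) := by
      have h1 := (Subgroup.center (P ⧸ N)).index_mul_card
      rw [hR2, ← hNdeg, hdegN, ← Subgroup.index_eq_card] at h1
      rw [← N.index_mul_card, hNc, ← h1]
      ring
    have hCcard : Nat.card C = p * p * p := by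
      have h1 := C.index_mul_card
      rw [hCidx, hPcard] at h1
      exact Nat.eq_of_mul_eq_mul_left hp.out.pos (h1.trans (by ring))
    have hDC : commutator P ≤ C := fun g hg => (hmemC g).2 (commutatorElement_eq_one_iff_mul_comm.2 (by
      obtain ⟨n, i, hn, rfl⟩ := hDgen g hg
      rw [mul_assoc, ((Commute.refl a).zpow_left i).eq, ← mul_assoc, ← mul_assoc,
        Subgroup.mem_center_iff.1 (hNZ hn) a]))
    have hCab : ∀ u v : C, u * v = v * u := by
      set D := (commutator P).subgroupOf C
      haveI : D.Normal := inferInstance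
      have hDc : Nat.card D = p * p := by
        rw [Nat.card_congr (Subgroup.subgroupOfEquivOfLe hDC).toEquiv, hd]
      have hq : Nat.card (C ⧸ D) = p := by
        have h1 := D.index_mul_card
        rw [hDc, hCcard, Subgroup.index_eq_card] at h1
        exact Nat.eq_of_mul_eq_mul_right (Nat.mul_pos hp.out.pos hp.out.pos) (h1.trans (by ring))
      haveI : IsCyclic (C ⧸ D) := isCyclic_of_prime_card (p := p) hq
      have hle : (QuotientGroup.mk' D).ker ≤ Subgroup.center C := by
        rw [QuotientGroup.ker_mk']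
        intro g hg
        exact Subgroup.mem_center_iff.2 fun c => Subtype.ext (hCD c c.2 g hg)
      exact (commutative_of_cyclic_center_quotient (QuotientGroup.mk' D) hle)
    obtain ⟨n0, hn0⟩ : ∃ n ∈ N, n ≠ 1 := by
      haveI : Nontrivial N := Finite.one_lt_card_iff_nontrivial.1 (hNc ▸ hp.out.one_lt)
      obtain ⟨⟨n, hn⟩, hn1⟩ := exists_ne (1 : N)
      exact ⟨n, hn, fun e => hn1 (Subtype.ext e)⟩
    obtain ⟨χ, hχ⟩ := exists_sep hn0.2
    have hχ1 : Cfsg.charDegree (χ : P → ℂ) ≠ 1 := fun e =>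
      hχ ((charDegree_eq_one_iff χ).1 e (hNle hn0.1))
    obtain ⟨m, hm0, hm, hmd⟩ := DegreeDvd.degree_dvd_index_abelian χ.2 C hCab
    rw [CharAverage.irr_apply_one χ, Nat.cast_inj] at hm
    rw [hCidx] at hmd
    rcases (Nat.dvd_prime hp.out).1 hmd with h1 | h1
    · exact hχ1 (hm.trans h1)
    · have hk := same_ker h hN1 (hdegN.trans (hm.trans h1).symm)
      exact hχ (hk ▸ hNker hn0.1)

theorem card_commutator_eq (n : ℕ) : ∀ (P : Type u) [Group P] [Finite P], Nat.card P ≤ n →
    IsPGroup p P → ¬ IsMulCommutative P → GaloisByDeg P → Nat.card (commutator P) = p := by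
  induction n with
  | zero =>
    intro P _ _ hn
    exact absurd (Nat.le_zero.1 hn) Nat.card_pos.ne'
  | succ n ih =>
    intro P _ _ hn hP hna h
    have hne : commutator P ≠ ⊥ := fun e => hna ⟨⟨fun a b => by
      have hm : ⁅a, b⁆ ∈ commutator P :=
        Subgroup.commutator_mem_commutator (Subgroup.mem_top a) (Subgroup.mem_top b)
      rw [e, Subgroup.mem_bot] at hm
      exact commutatorElement_eq_one_iff_mul_comm.1 hm⟩⟩
    obtain ⟨N, hNle, hNc, hNZ, hNn⟩ := exists_center_card hP hne
    haveI := hNn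
    have h1 := card_commutator_quot N hNle
    rw [hNc] at h1
    by_cases hab : IsMulCommutative (P ⧸ N)
    · have h2 := Subgroup.Normal.quotient_commutative_iff_commutator_le.1 hab
      rw [le_antisymm h2 hNle, hNc]
    · exfalso
      refine step hP h ?_
      have hlt : Nat.card (P ⧸ N) ≤ n := by
        have h2 := N.index_mul_card
        rw [hNc, Subgroup.index_eq_card] at h2
        have h3 : 0 < Nat.card (P ⧸ N) := Nat.card_pos
        have := hp.out.two_le
        nlinarith
      rw [ih (P ⧸ N) hlt (hP.to_quotient N) hab (galoisByDeg_quot h N)] at h1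
      exact h1.symm

/-- The converse. -/
theorem galoisByDeg_of (hP : IsPGroup p P) (hcyc : IsCyclic (Subgroup.center P))
    (hd : Nat.card (commutator P) = p) : GaloisByDeg P := by
  classical
  intro χ ψ h1 h2
  haveI := hcyc
  have h2' : Cfsg.charDegree (ψ : P → ℂ) ≠ 1 := h2 ▸ h1
  have hfaith : ∀ θ : Cfsg.IrrCharacter P, Cfsg.charDegree (θ : P → ℂ) ≠ 1 →
      CharKernel.irrKer θ = ⊥ := by
    intro θ hθ
    by_contra hk
    haveI := CharKernel.irrKer_normal θ
    obtain ⟨W, hW, hWc, hWZ, -⟩ := exists_center_card hP hk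
    have := eq_of_cyclic (S := Subgroup.center P) (le_center_of_card hP hd) hWZ
      (hd.trans hWc.symm)
    exact hθ ((charDegree_eq_one_iff θ).2 (this ▸ hW))
  -- the central characters
  have hhom : ∀ θ : Cfsg.IrrCharacter P, Cfsg.charDegree (θ : P → ℂ) ≠ 1 →
      ∃ f : Subgroup.center P →* ℂ, Function.Injective f ∧
        ∀ z : Subgroup.center P, (θ : P → ℂ) z = f z * (θ : P → ℂ) 1 := by
    intro θ hθ
    choose c hc using fun z : Subgroup.center P => exists_central_scalar θ z.2
    have hone := CharAverage.irr_one_ne_zero θ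
    have hval : ∀ z : Subgroup.center P, (θ : P → ℂ) z = c z * (θ : P → ℂ) 1 := fun z => by
      simpa using hc z 1
    let f : Subgroup.center P →* ℂ :=
      { toFun := c
        map_one' := mul_right_cancel₀ hone (by rw [← hval, one_mul]; rfl)
        map_mul' := fun a b => mul_right_cancel₀ hone (by
          rw [← hval, Subgroup.coe_mul, hc a, hval b, mul_assoc]) }
    refine ⟨f, (injective_iff_map_eq_one f).2 fun a ha => ?_, hval⟩
    have h1 := hval a
    rw [show c a = 1 from ha, one_mul] at h1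
    have h2 : (a : P) ∈ CharKernel.irrKer θ := CharKernel.mem_irrKer.2 h1
    rw [hfaith θ hθ, Subgroup.mem_bot] at h2
    exact Subtype.ext h2
  obtain ⟨f, hf, hfv⟩ := hhom χ h1
  obtain ⟨f', hf', hfv'⟩ := hhom ψ h2'
  obtain ⟨w, hw⟩ := hcyc.exists_generator
  set m := Nat.card (Subgroup.center P) with hm
  have how : orderOf w = m := orderOf_eq_card_of_forall_mem_zpowers hw
  haveI : NeZero m := ⟨Nat.card_pos.ne'⟩
  have hprim : ∀ g : Subgroup.center P →* ℂ, Function.Injective g → IsPrimitiveRoot (g w) m :=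
    fun g hg => IsPrimitiveRoot.iff_orderOf.2 ((orderOf_injective g hg w).trans how)
  obtain ⟨k0, hk0, hk0c, hk0e⟩ := (IsPrimitiveRoot.isPrimitiveRoot_iff (hprim f hf)).1 (hprim f' hf')
  -- make the exponent prime to `p`
  have hm1 : p ∣ m := by
    have := Subgroup.card_dvd_of_le (le_center_of_card hP hd)
    rwa [hd] at this
  have hk : ¬ p ∣ k0 := fun hdv => hp.out.not_dvd_one (hk0c ▸ Nat.dvd_gcd hdv hm1)
  obtain ⟨e, he⟩ := IsPGroup.iff_card.1 hP
  refine ⟨k0, by rw [he]; exact Nat.Coprime.pow_right e ((hp.out.coprime_iff_not_dvd.2 hk).symm),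
    fun g => ?_⟩
  by_cases hg : g ∈ Subgroup.center P
  · have hgk : ∀ z : Subgroup.center P, f' z = f (z ^ k0) := by
      intro z
      obtain ⟨j, hj⟩ : ∃ j : ℕ, w ^ j = z := (mem_powers_iff_mem_zpowers.2 (hw z) :)
      rw [← hj, map_pow, ← hk0e, ← pow_mul, ← pow_mul, map_pow, mul_comm]
    have h3 := hfv' ⟨g, hg⟩
    have h4 := hfv (⟨g, hg⟩ ^ k0)
    rw [SubgroupClass.coe_pow] at h4
    rw [h3, hgk, h4, CharAverage.irr_apply_one χ, CharAverage.irr_apply_one ψ, h2]
  · rw [(of_card_commutator hP hd ψ h2').1 g hg, (of_card_commutator hP hd χ h1).1]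
    intro hgk
    apply hg
    have hcop : (Nat.card P).Coprime k0 := by
      rw [he]; exact Nat.Coprime.pow_left e (hp.out.coprime_iff_not_dvd.2 hk)
    have h3 : g = (powCoprime hcop).symm (g ^ k0) := ((powCoprime hcop).symm_apply_apply g).symm
    rw [h3, powCoprime_symm_apply]
    exact Subgroup.zpow_mem _ hgk _


/-- Let p be a prime and P a finite non-commutative p-group. Then every two irreducible characters of P of the same degree greater than 1 are Galois conjugate (one is obtained from the other by composing with g ↦ g^k for some k prime to the order of P) if and only if the centre of P is cyclic and the derived subgroup of P has order p. -/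
theorem result {P : Type*} [Group P] [Finite P] (p : ℕ) [Fact p.Prime] (hP : IsPGroup p P) (hna : ¬ IsMulCommutative P) :
    (∀ χ ψ : Cfsg.IrrCharacter P, Cfsg.charDegree (χ : P → ℂ) ≠ 1 → Cfsg.charDegree (χ : P → ℂ) = Cfsg.charDegree (ψ : P → ℂ) → ∃ k : ℕ, Nat.Coprime k (Nat.card P) ∧ ∀ g : P, (ψ : P → ℂ) g = (χ : P → ℂ) (g ^ k)) ↔
      (IsCyclic (Subgroup.center P) ∧ Nat.card (commutator P) = p) := by
  constructor
  · intro h
    have hd := card_commutator_eq (p := p) (Nat.card P) P le_rfl hP hna h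
    exact ⟨center_cyclic hP hd h, hd⟩
  · rintro ⟨hc, hd⟩
    exact galoisByDeg_of hP hc hd

end Cfsg.Agent.S4845
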