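import Cfsg.Statements.S4847
import Cfsg.Agent.Lib.PalfyReduce7

set_option autoImplicit false
open Cfsg

namespace Cfsg.Agent.S4847

/-- Let G be a finite solvable group and p, q, r three distinct primes each dividing the degree of some irreducible character of G. Then for some two of them the product divides the degree of some irreducible character of G (the character degree graph of a solvable group has no three pairwise non-adjacent vertices). -/
theorem result {G : Type*} [Group G] [Finite G] [hs : Group.IsSolvable G] (p q r : ℕ) (hp : p.Prime) (hq : q.Prime) (hr : r.Prime) (hpq : p ≠ q) (hqr : q ≠ r) (hpr : p ≠ r)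
    (hpd : ∃ χ : Cfsg.IrrCharacter G, p ∣ Cfsg.charDegree (χ : G → ℂ)) (hqd : ∃ χ : Cfsg.IrrCharacter G, q ∣ Cfsg.charDegree (χ : G → ℂ)) (hrd : ∃ χ : Cfsg.IrrCharacter G, r ∣ Cfsg.charDegree (χ : G → ℂ)) :
    (∃ χ : Cfsg.IrrCharacter G, p * q ∣ Cfsg.charDegree (χ : G → ℂ)) ∨ (∃ χ : Cfsg.IrrCharacter G, q * r ∣ Cfsg.charDegree (χ : G → ℂ)) ∨ (∃ χ : Cfsg.IrrCharacter G, p * r ∣ Cfsg.charDegree (χ : G → ℂ)) := by
  by_contra h
  push Not at h
  obtain ⟨h1, h2, h3⟩ := h
  refine Cfsg.Agent.Palfy7.no_bad _ G rfl p q r ⟨hp, hq, hr, hpq, hqr, hpr, hpd, hqd, hrd,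
    fun χ ha hb => h1 χ ?_, fun χ ha hb => h2 χ ?_, fun χ ha hb => h3 χ ?_⟩
  · exact ((Nat.coprime_primes hp hq).2 hpq).mul_dvd_of_dvd_of_dvd ha hb
  · exact ((Nat.coprime_primes hq hr).2 hqr).mul_dvd_of_dvd_of_dvd ha hb
  · exact ((Nat.coprime_primes hp hr).2 hpr).mul_dvd_of_dvd_of_dvd ha hb

end Cfsg.Agent.S4847
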