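import Cfsg.Statements.S4850
import Cfsg.Agent.Lib.VanishingPSingular9

set_option autoImplicit false
open Cfsg
open scoped commutatorElement

namespace Cfsg.Agent.S4850

universe u

theorem card_map_le {G : Type u} [Group G] [Finite G] [Group.IsSolvable G] (p : ℕ) [hp : Fact p.Prime] (b : ℕ)
    (hb : ∀ g : G, p ∣ orderOf g → Vanish9.Van g → orderOf g = b) (P : Sylow p G) :
    Nat.card ((P : Subgroup G).map (QuotientGroup.mk' (Cfsg.pCore p G))) ≤ p := by
  set O := Cfsg.pCore p G
  have : Group.IsSolvable (G ⧸ O) := Group.isSolvable_of_surjective (QuotientGroup.mk'_surjective O)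
  have h := Vanish9.sylow_card_le (G := G ⧸ O) (HallCore.pCore_quotient_self p G) ?_
    (P.mapSurjective (QuotientGroup.mk'_surjective O))
  · simpa using h
  · intro x hx hv m hm hmd hpm hvm
    obtain ⟨g, rfl⟩ := QuotientGroup.mk'_surjective O x
    have hgx := orderOf_map_dvd (QuotientGroup.mk' O) g
    have hg := hb g (hx.trans hgx) (Vanish9.van_of_mk hv)
    have hgm' := orderOf_map_dvd (QuotientGroup.mk' O) (g ^ m)
    rw [map_pow] at hgm'
    have hgm := hb (g ^ m) (hpm.trans hgm') (Vanish9.van_of_mk (N := O) (g := g ^ m) hvm)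
    have hmg : m ∣ orderOf g := hmd.trans hgx
    rw [orderOf_pow' g (by omega), Nat.gcd_eq_right hmg, hg] at hgm
    have := orderOf_pos g
    exact absurd hgm (Nat.div_lt_self (by omega) hm).ne

/-- Let p be a prime and G a finite solvable group whose vanishing elements (elements at which some irreducible character is zero) of order divisible by p all have the same order, with at least one such element. Let P be a Sylow p-subgroup of G. Then the derived subgroup of P is subnormal in G and the image of P in G/O_p(G) is cyclic. -/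
theorem result {G : Type*} [Group G] [Finite G] [hs : Group.IsSolvable G] (p : ℕ) [Fact p.Prime] (b : ℕ) (hvo : {n : ℕ | p ∣ n ∧ ∃ (g : G) (χ : Cfsg.IrrCharacter G), orderOf g = n ∧ (χ : G → ℂ) g = 0} = {b}) (P : Sylow p G) :
    ((commutator ↥(P : Subgroup G)).map (P : Subgroup G).subtype).IsSubnormal ∧ IsCyclic ↥((P : Subgroup G).map (QuotientGroup.mk' (Cfsg.pCore p G))) := by
  have hb : ∀ g : G, p ∣ orderOf g → Vanish9.Van g → orderOf g = b := by
    rintro g hp ⟨χ, hχ⟩
    have hmem : orderOf g ∈ ({b} : Set ℕ) := by rw [← hvo]; exact ⟨hp, g, χ, rfl, hχ⟩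
    exact hmem
  have hP := card_map_le p b hb P
  set O := Cfsg.pCore p G
  have hPO : O ≤ (P : Subgroup G) :=
    by
    obtain ⟨Q, hQ⟩ := (HallCore.isPGroup_pCore p G).exists_le_sylow
    obtain ⟨s, rfl⟩ := MulAction.exists_smul_eq G Q P
    intro x hx
    rw [Sylow.coe_subgroup_smul]
    refine Subgroup.mem_pointwise_smul_iff_inv_smul_mem.2 (hQ ?_)
    have := Subgroup.Normal.conj_mem (inferInstance : O.Normal) x hx s⁻¹
    simpa [MulAut.smul_def, MulAut.conj_symm_apply] using this
  obtain ⟨j, hj⟩ := IsPGroup.iff_card.1 (P.2.map (QuotientGroup.mk' O))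
  have hj1 : j ≤ 1 := by
    rw [hj] at hP
    exact (Nat.pow_le_pow_iff_right (Fact.out : p.Prime).one_lt).1 (hP.trans (pow_one p).ge)
  have hcyc : IsCyclic ↥((P : Subgroup G).map (QuotientGroup.mk' O)) := by
    interval_cases j
    · rw [pow_zero] at hj
      have := (Nat.card_eq_one_iff_unique.1 hj).1
      infer_instance
    · exact isCyclic_of_prime_card (hj.trans (pow_one p))
  refine ⟨?_, hcyc⟩
  set D := (commutator ↥(P : Subgroup G)).map (P : Subgroup G).subtype
  have hDO : D ≤ O := by
    rw [show D = ⁅(P : Subgroup G), (P : Subgroup G)⁆ from Subgroup.map_subtype_commutator _,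
      Subgroup.commutator_le]
    intro a ha c hc
    rw [← QuotientGroup.eq_one_iff]
    have hcomm := hcyc.commutative.is_comm.comm
      ⟨_, Subgroup.mem_map_of_mem (QuotientGroup.mk' O) ha⟩
      ⟨_, Subgroup.mem_map_of_mem (QuotientGroup.mk' O) hc⟩
    have h2 := commutatorElement_eq_one_iff_mul_comm.2 (congrArg Subtype.val hcomm)
    rw [← map_commutatorElement] at h2
    exact h2
  refine Subgroup.IsSubnormal.step D O hDO
    (Subgroup.IsSubnormal.step O ⊤ le_top Subgroup.IsSubnormal.top inferInstance) ⟨fun d hd o => ?_⟩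
  rw [Subgroup.mem_subgroupOf] at hd ⊢
  obtain ⟨d', hd', hdd⟩ := hd
  refine ⟨⟨o, hPO o.2⟩ * d' * ⟨o, hPO o.2⟩⁻¹, ?_, by simp [← hdd]⟩
  exact Subgroup.Normal.conj_mem inferInstance _ hd' _

end Cfsg.Agent.S4850
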