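import Cfsg.Statements.S4856
import Cfsg.Agent.Lib.CharAverage

set_option autoImplicit false
open Cfsg

namespace Cfsg.Agent.S4856

/-- For an element z of a finite group G, the number of pairs (x, y) of elements with x y x⁻¹ y⁻¹ = z equals the order of G times the sum over the irreducible characters χ of χ(z)/χ(1). -/
theorem result {G : Type*} [Group G] [Finite G] (z : G) : (Nat.card {xy : G × G // xy.1 * xy.2 * xy.1⁻¹ * xy.2⁻¹ = z} : ℂ) = (Nat.card G : ℂ) * ∑ᶠ χ : Cfsg.IrrCharacter G, (χ : G → ℂ) z / (χ : G → ℂ) 1 := by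
  classical
  haveI : Fintype G := Fintype.ofFinite G
  -- count for `z⁻¹` and swap the two arguments
  have hswap : Nat.card {xy : G × G // xy.1 * xy.2 * xy.1⁻¹ * xy.2⁻¹ = z} =
      Nat.card {xy : G × G // xy.1 * xy.2 * xy.1⁻¹ * xy.2⁻¹ = z⁻¹} := by
    refine Nat.card_congr (Equiv.subtypeEquiv (Equiv.prodComm G G) fun xy => ?_)
    obtain ⟨a, b⟩ := xy
    simp only [Equiv.prodComm_apply, Prod.swap_prod_mk]
    rw [← inv_inj]
    simp [mul_assoc]
  rw [hswap, finsum_eq_sum_of_fintype]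
  have hG : (Nat.card G : ℂ) ≠ 0 := Nat.cast_ne_zero.mpr Nat.card_pos.ne'
  apply mul_left_cancel₀ hG
  have hone : Nat.card (Subgroup.centralizer ({1} : Set G)) = Nat.card G := by
    rw [Subgroup.centralizer_eq_top_iff_subset.2 (by simp), Subgroup.card_top]
  have hind : ∀ a b : G, (if a * b * a⁻¹ * b⁻¹ = z⁻¹ then (Nat.card G : ℂ) else 0) =
      ∑ χ : Cfsg.IrrCharacter G, (χ : G → ℂ) 1 * (χ : G → ℂ) (a * b * a⁻¹ * b⁻¹ * z) := by
    intro a b
    set w := a * b * a⁻¹ * b⁻¹
    by_cases h : w = z⁻¹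
    · rw [if_pos h, h, inv_mul_cancel]
      have := Cfsg.Agent.CharBasicOrth.sum_sq_apply_one (G := G)
      simp only [pow_two] at this
      exact this.symm
    · rw [if_neg h]
      have hne : ¬ IsConj (w * z) 1 := fun hc => h (eq_inv_of_mul_eq_one_left (isConj_one_left.mp hc))
      have := Cfsg.Agent.CharBasicOrth.sum_irr_mul_conj (w * z) 1
      rw [if_neg hne] at this
      rw [← this]
      refine Finset.sum_congr rfl fun χ _ => ?_
      rw [Cfsg.Agent.CharAverage.irr_apply_one χ, map_natCast, mul_comm]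
  have hcount : (Nat.card G : ℂ) *
      (Nat.card {xy : G × G // xy.1 * xy.2 * xy.1⁻¹ * xy.2⁻¹ = z⁻¹} : ℂ) =
      ∑ a : G, ∑ b : G, (if a * b * a⁻¹ * b⁻¹ = z⁻¹ then (Nat.card G : ℂ) else 0) := by
    rw [← Fintype.sum_prod_type' (fun a b : G => if a * b * a⁻¹ * b⁻¹ = z⁻¹ then (Nat.card G : ℂ) else 0),
      ← Finset.sum_filter, Finset.sum_const, nsmul_eq_mul, Nat.card_eq_fintype_card,
      Nat.card_eq_fintype_card, Fintype.card_subtype]
    ring
  rw [hcount]
  simp only [hind]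
  rw [Finset.sum_congr rfl (fun a _ => Finset.sum_comm), Finset.sum_comm]
  simp only [← Finset.mul_sum, Cfsg.Agent.CharAverage.sum_commutator_mul]
  rw [Finset.mul_sum, Finset.mul_sum]
  refine Finset.sum_congr rfl fun χ _ => ?_
  have := Cfsg.Agent.CharAverage.irr_one_ne_zero χ
  field_simp

end Cfsg.Agent.S4856
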