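import Cfsg.Statements.S4859
import Cfsg.Agent.Lib.RealChars

set_option autoImplicit false
open Cfsg

namespace Cfsg.Agent.S4859

/-- Let p be an odd prime, G a finite group and x an element of G whose order is a power of p (possibly 1) and whose centralizer has even order. Let y be a 2-element of the centralizer of x whose order is largest among the 2-elements of that centralizer. Then x * y is not a square in G, and some non-principal real-valued irreducible character of G does not vanish at x * y. -/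
theorem result {G : Type*} [Group G] [Finite G] (p : ℕ) [Fact p.Prime] (hp : p ≠ 2) (x : G) (hx : ∃ k : ℕ, orderOf x = p ^ k) (heven : Even (Nat.card (Subgroup.centralizer ({x} : Set G)))) (y : G) (hy : y ∈ Subgroup.centralizer ({x} : Set G)) (hy2 : ∃ k : ℕ, orderOf y = 2 ^ k) (hmax : ∀ z ∈ Subgroup.centralizer ({x} : Set G), (∃ k : ℕ, orderOf z = 2 ^ k) → orderOf z ≤ orderOf y) : (¬ ∃ u : G, u * u = x * y) ∧ ∃ χ : Cfsg.IrrCharacter G, ¬ ((χ : G → ℂ) = fun _ => (1 : ℂ)) ∧ (∀ g : G, ((χ : G → ℂ) g).im = 0) ∧ (χ : G → ℂ) (x * y) ≠ 0 := by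
  classical
  obtain ⟨a, ha⟩ := hx
  obtain ⟨j, hj⟩ := hy2
  have hP : p.Prime := Fact.out
  have hcomm : Commute x y := (Subgroup.mem_centralizer_singleton_iff.mp hy).symm
  haveI : Fact (Nat.Prime 2) := ⟨Nat.prime_two⟩
  obtain ⟨w, hw⟩ := exists_prime_orderOf_dvd_card' (G := Subgroup.centralizer ({x} : Set G)) 2
    heven.two_dvd
  rw [← Subgroup.orderOf_coe] at hw
  have hy2' : 2 ≤ orderOf y := hw ▸ hmax w w.2 ⟨1, by rw [hw, pow_one]⟩
  have hcop : Nat.Coprime (orderOf x) (orderOf y) := by
    rw [ha, hj]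
    exact ((Nat.coprime_primes hP Nat.prime_two).mpr hp).pow a j
  have hxy : orderOf (x * y) = orderOf x * orderOf y := hcomm.orderOf_mul_eq_mul_orderOf_of_coprime hcop
  have hns : ¬ ∃ u : G, u * u = x * y := by
    rintro ⟨u, hu⟩
    have hux : Commute u (x * y) := by rw [← hu]; exact (Commute.refl u).mul_right (Commute.refl u)
    -- `x` is a power of `x * y`
    have hxpow : ∃ e : ℕ, (x * y) ^ e = x := by
      obtain ⟨i, hi⟩ := exists_pow_eq_self_of_coprime (x := x) hcop.symm
      refine ⟨orderOf y * i, ?_⟩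
      rw [pow_mul, hcomm.mul_pow, pow_orderOf_eq_one, mul_one, hi]
    obtain ⟨e, he⟩ := hxpow
    have hcx : Commute u x := he ▸ hux.pow_right e
    set v := u ^ p ^ a with hv
    have hv2 : v * v = y ^ p ^ a := by
      rw [hv, ← ((Commute.refl u).mul_pow), hu, hcomm.mul_pow, ← ha, pow_orderOf_eq_one, one_mul]
    have hyo : orderOf (y ^ p ^ a) = 2 ^ j := by
      rw [← hj]
      refine Nat.Coprime.orderOf_pow ?_
      rw [← ha]; exact hcop.symm
    have hj0 : j ≠ 0 := by rintro rfl; rw [hj, pow_zero] at hy2'; omega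
    have hvo : orderOf v = 2 ^ (j + 1) := by
      refine orderOf_eq_prime_pow ?_ ?_
      · intro h
        obtain ⟨j', rfl⟩ := Nat.exists_eq_succ_of_ne_zero hj0
        rw [pow_succ', pow_mul, pow_two, hv2] at h
        have hd := orderOf_dvd_of_pow_eq_one h
        rw [hyo] at hd
        have := Nat.le_of_dvd (pow_pos two_pos _) hd
        rw [Nat.succ_eq_add_one, pow_succ] at this
        have := pow_pos (two_pos (α := ℕ)) j'
        omega
      · rw [pow_succ', pow_mul, pow_two, hv2, ← hyo, pow_orderOf_eq_one]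
    have := hmax v (Subgroup.mem_centralizer_singleton_iff.mpr (hcx.pow_left (p ^ a)).eq) ⟨j + 1, hvo⟩
    rw [hvo, hj, pow_succ] at this
    have := pow_pos (two_pos (α := ℕ)) j
    omega
  refine ⟨hns, ?_⟩
  have h0 : Nat.card {u : G // u * u = x * y} = 0 := by
    haveI : IsEmpty {u : G // u * u = x * y} := ⟨fun u => hns ⟨u.1, u.2⟩⟩
    exact Nat.card_of_isEmpty
  have hsum := RealChars.sqrtCount_eq (x * y)
  rw [h0, Nat.cast_zero] at hsum
  by_contra hcon
  push Not at hcon
  haveI := Fintype.ofFinite G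
  have h1 : RealChars.nu (fun _ : G => (1 : ℂ)) = 1 := by
    rw [RealChars.nu_eq, Finset.sum_const, Finset.card_univ, nsmul_eq_mul, mul_one,
      Nat.card_eq_fintype_card, inv_mul_cancel₀ (Nat.cast_ne_zero.mpr Fintype.card_ne_zero)]
  rw [Finset.sum_eq_single (CharBasicDecomp.trivIrr G)] at hsum
  · simp [CharBasicDecomp.trivIrr, h1] at hsum
  · intro χ _ hne
    by_cases hnu : RealChars.nu (χ : G → ℂ) = 0
    · rw [hnu, zero_mul]
    · rw [hcon χ (fun h => hne (Subtype.ext h)) (RealChars.real_of_nu_ne_zero χ hnu), mul_zero]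
  · intro h
    exact absurd (Finset.mem_univ _) h

end Cfsg.Agent.S4859
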