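import Cfsg.Statements.S4860
import Cfsg.Agent.Lib.RealChars
import Cfsg.Agent.Lib.ZStarPrincipal
import Cfsg.Agent.Lib.BlockContribPrime

/-! The indicator-weighted sum of the characters over the `p`-regular elements equals their number:
a square is `p`-regular exactly when its root is, for `p` odd. -/

set_option autoImplicit false
open Cfsg

namespace Cfsg.Agent.S4860

open scoped ComplexConjugate
open Cfsg.Agent.BlockTheoryLocalRing Cfsg.Agent.ZStarPrincipal

universe u

theorem orderOf_sq_iff {G : Type u} [Group G] {p : ℕ} (hp : p.Prime) (h2 : p ≠ 2) (x : G) :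
    p ∣ orderOf (x * x) ↔ p ∣ orderOf x := by
  constructor
  · intro h
    exact h.trans (by rw [← pow_two]; exact orderOf_pow_dvd 2)
  · intro h
    have hd : orderOf x ∣ 2 * orderOf (x * x) := by
      apply orderOf_dvd_of_pow_eq_one
      rw [pow_mul, pow_two, pow_orderOf_eq_one]
    rcases hp.dvd_mul.1 (h.trans hd) with h' | h'
    · exact absurd ((Nat.prime_dvd_prime_iff_eq hp Nat.prime_two).1 h') h2
    · exact h'

theorem sum_nu_regSum {G : Type u} [Group G] [Fintype G] {p : ℕ} (hp : p.Prime) (h2 : p ≠ 2) :
    ∑ χ : IrrCharacter G, RealChars.nu (χ : G → ℂ) * regSum p (χ : G → ℂ) = (regCard p G : ℂ) := by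
  classical
  have h1 : ∀ g : G, (Nat.card {x : G // x * x = g} : ℂ) =
      ∑ x : G, if x * x = g then (1 : ℂ) else 0 := fun g => by
    rw [Nat.card_eq_fintype_card, Fintype.card_subtype, Finset.natCast_card_filter]
  calc ∑ χ : IrrCharacter G, RealChars.nu (χ : G → ℂ) * regSum p (χ : G → ℂ)
      = ∑ g : G, if p ∣ orderOf g then 0 else
          ∑ χ : IrrCharacter G, RealChars.nu (χ : G → ℂ) * (χ : G → ℂ) g := by
        simp only [regSum, Finset.mul_sum]
        rw [Finset.sum_comm]
        refine Finset.sum_congr rfl fun g _ => ?_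
        split_ifs with hg <;> simp
    _ = ∑ g : G, ∑ x : G, if x * x = g then (if p ∣ orderOf x then 0 else (1 : ℂ)) else 0 := by
        refine Finset.sum_congr rfl fun g _ => ?_
        rw [← RealChars.sqrtCount_eq, h1]
        split_ifs with hg
        · refine (Finset.sum_eq_zero fun x _ => ?_).symm
          split_ifs with hx hx'
          · rfl
          · exact absurd ((orderOf_sq_iff hp h2 x).1 (hx ▸ hg)) hx'
          · rfl
        · refine Finset.sum_congr rfl fun x _ => ?_
          split_ifs with hx hx'
          · exact absurd ((orderOf_sq_iff hp h2 x).2 hx') (hx.symm ▸ hg)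
          · rfl
          · rfl
    _ = (regCard p G : ℂ) := by
        rw [Finset.sum_comm]
        simp only [Finset.sum_ite_eq, Finset.mem_univ, if_true]
        rw [regCard, Finset.natCast_card_filter]
        exact Finset.sum_congr rfl fun x _ => by split_ifs <;> rfl

theorem exists_int_regSum {G : Type u} [Group G] [Fintype G] (p : ℕ) (χ : IrrCharacter G) :
    ∃ z : ℤ, regSum p (χ : G → ℂ) = (z : ℂ) := by
  classical
  obtain ⟨z, hz⟩ := BlockContribPrime.exists_int_regSum p
    (CharBasic.isCharacter_of_isIrrCharacter χ.2)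
  refine ⟨z, ?_⟩
  rw [← hz, BlockContribPrime.regSum, regSum, Finset.sum_filter]
  exact Finset.sum_congr rfl fun x _ => by split_ifs <;> rfl

/-- Let G be a finite group, p an odd prime and M a maximal ideal of the algebraic integers containing p. If the principal p-block of G contains a non-principal real-valued irreducible character α, then it contains a non-principal real-valued irreducible character β different from α, and β may be chosen so that no field automorphism of ℂ carries α to β. -/
theorem result {G : Type*} [Group G] [Finite G] (p : ℕ) [Fact p.Prime] (hp : p ≠ 2) (M : Ideal Cfsg.AlgInt) (hM : Cfsg.IsPModular p M) (α : Cfsg.IrrCharacter G) (hα : α ∈ Cfsg.principalBlock M G) (hα1 : ¬ ((α : G → ℂ) = fun _ => (1 : ℂ))) (hαr : (∀ g : G, ((α : G → ℂ) g).im = 0)) : ∃ β : Cfsg.IrrCharacter G, β ∈ Cfsg.principalBlock M G ∧ ¬ ((β : G → ℂ) = fun _ => (1 : ℂ)) ∧ (∀ g : G, ((β : G → ℂ) g).im = 0) ∧ β ≠ α ∧ ∀ σ : ℂ ≃+* ℂ, (β : G → ℂ) ≠ (σ : ℂ → ℂ) ∘ (α : G → ℂ) := by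
  classical
  have := Fintype.ofFinite G
  by_contra hcon
  simp only [not_exists, not_and] at hcon
  have hpp : p.Prime := Fact.out
  set o := BlockPrincipal81.oneChar G with ho
  set N : IrrCharacter G → ℂ := fun χ =>
    RealChars.nu (χ : G → ℂ) * regSum p (χ : G → ℂ) with hN
  -- every term other than the principal one is `0` or that of `α`
  have hterm : ∀ χ : IrrCharacter G, χ ≠ o → N χ = 0 ∨ N χ = N α := by
    intro χ hχ
    by_cases hr : ∀ g, ((χ : G → ℂ) g).im = 0
    · by_cases hb : χ ∈ principalBlock M G
      · right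
        by_cases he : χ = α
        · rw [he]
        have h := hcon χ hb (fun e => hχ (Subtype.ext e)) hr he
        simp only [not_forall, ne_eq, not_not] at h
        obtain ⟨σ, hσ⟩ := h
        have hnu : RealChars.nu (χ : G → ℂ) = RealChars.nu (α : G → ℂ) := by
          have h3 : RealChars.nu (χ : G → ℂ) = σ (RealChars.nu (α : G → ℂ)) := by
            rw [RealChars.nu_eq, RealChars.nu_eq, map_mul, map_inv₀, map_natCast, map_sum, hσ]
            rfl
          rcases RealChars.nu_eq_one_or_neg_one α hαr with e | e <;> rw [h3, e] <;> simp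
        have hreg : regSum p (χ : G → ℂ) = regSum p (α : G → ℂ) := by
          obtain ⟨z, hz⟩ := exists_int_regSum p α
          have h3 : regSum p (χ : G → ℂ) = σ (regSum p (α : G → ℂ)) := by
            simp only [regSum, map_sum, hσ]
            exact Finset.sum_congr rfl fun x _ => by split_ifs <;> simp
          rw [h3, hz, map_intCast]
        simp only [hN, hnu, hreg]
      · left
        simp only [hN, regSum_eq_zero hM hb, mul_zero]
    · left
      simp only [hN, RealChars.nu_eq_zero χ hr, zero_mul]
  have hαo : α ≠ o := fun e => hα1 (by rw [e]; rfl)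
  -- the principal term already gives the whole count
  have hsum := sum_nu_regSum (G := G) hpp hp
  have hno : N o = (regCard p G : ℂ) := by
    have h1 : RealChars.nu ((o : IrrCharacter G) : G → ℂ) = 1 := by
      rw [RealChars.nu_eq]
      simp [ho, BlockPrincipal81.oneChar, Nat.card_eq_fintype_card]
    simp only [hN, h1, one_mul]
    exact regSum_one
  rw [← Finset.add_sum_erase Finset.univ N (Finset.mem_univ o), hno] at hsum
  have hrest : ∑ χ ∈ Finset.univ.erase o, N χ = 0 := by linear_combination hsum
  have hNα : N α ≠ 0 := by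
    refine mul_ne_zero ?_ ?_
    · rcases RealChars.nu_eq_one_or_neg_one α hαr with e | e <;> rw [e] <;> simp
    · intro h0
      have h := omega_zReg_sub_mem hM hα
      rw [BlockTheoryCentre.omega_apply, chiSum_zReg, h0, mul_zero, sub_zero] at h
      exact ZStarPrincipal.not_dvd_regCard ((natCast_mem_iff hM).1 h)
  have hrest' : ∑ χ ∈ Finset.univ.erase o, N χ =
      (((Finset.univ.erase o).filter fun χ => N χ = N α).card : ℂ) * N α := by
    rw [← Finset.sum_filter_add_sum_filter_not (Finset.univ.erase o) (fun χ => N χ = N α),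
      Finset.sum_congr rfl (fun χ hχ => (Finset.mem_filter.1 hχ).2), Finset.sum_const, nsmul_eq_mul,
      Finset.sum_eq_zero fun χ hχ => (hterm χ (Finset.mem_erase.1 (Finset.mem_filter.1 hχ).1).1).resolve_right
        (Finset.mem_filter.1 hχ).2, add_zero]
  rw [hrest'] at hrest
  rcases mul_eq_zero.1 hrest with h | h
  · rw [Nat.cast_eq_zero, Finset.card_eq_zero] at h
    exact Finset.notMem_empty α
      (h ▸ Finset.mem_filter.2 ⟨Finset.mem_erase.2 ⟨hαo, Finset.mem_univ α⟩, rfl⟩)
  · exact hNα h

end Cfsg.Agent.S4860
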