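import Cfsg.Statements.S4865
import Cfsg.Agent.Lib.RealMcKay38
-- import your own Cfsg.Agent.* helpers here

set_option autoImplicit false
open Cfsg

namespace Cfsg.Agent.S4865

open scoped ComplexConjugate
open Cfsg.Agent.CharBasic Cfsg.Agent.CharBasicOrth Cfsg.Agent.CharBasicDecomp Cfsg.Agent.RealMcKay38

theorem classInner_conjFun {G : Type*} [Group G] [Finite G] (H : Subgroup G) [H.Normal] [Fintype H]
    (χ : Cfsg.IrrCharacter G) (θ : H → ℂ) (g : G) :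
    Cfsg.classInner (fun n : H => (χ : G → ℂ) n) (CharInduced.conjFun H θ g) =
      Cfsg.classInner (fun n : H => (χ : G → ℂ) n) θ := by
  refine (congrArg₂ Cfsg.classInner ?_ ?_).trans
    (classInner_congr_equiv (MulAut.conjNormal g : H ≃* H) (fun n : H => (χ : G → ℂ) n) θ)
  · funext n
    show (χ : G → ℂ) n = (χ : G → ℂ) ((MulAut.conjNormal g n : H) : G)
    rw [MulAut.conjNormal_apply]
    exact (isClassFunction_of_isCharacter (isCharacter_of_isIrrCharacter χ.2) _ _).symm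
  · funext n
    exact congrArg θ (Subtype.ext (MulAut.conjNormal_apply g n).symm)


/-- Let p be a prime and G a finite group such that the subgroup generated by the p-elements of G is solvable and every real-valued irreducible complex character of G has degree prime to p. Let N be the normalizer of a Sylow p-subgroup of G. Then there is a bijection from the real-valued irreducible characters of G onto the real-valued irreducible characters of N of degree prime to p under which corresponding degrees are congruent modulo p up to sign. -/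
theorem result {G : Type*} [Group G] [Finite G] (p : ℕ) [Fact p.Prime] (hsolv : Group.IsSolvable ↥(Subgroup.closure {g : G | ∃ k : ℕ, orderOf g = p ^ k})) (hreal : ∀ χ : Cfsg.IrrCharacter G, (∀ g : G, ((χ : G → ℂ) g).im = 0) → ¬ p ∣ Cfsg.charDegree (χ : G → ℂ)) (P : Sylow p G) : ∃ f : {χ : Cfsg.IrrCharacter G // ∀ g : G, ((χ : G → ℂ) g).im = 0} → {ξ : Cfsg.IrrCharacter ↥(Subgroup.normalizer ((P : Subgroup G) : Set G)) // (∀ n, ((ξ : ↥(Subgroup.normalizer ((P : Subgroup G) : Set G)) → ℂ) n).im = 0) ∧ ¬ p ∣ Cfsg.charDegree (ξ : ↥(Subgroup.normalizer ((P : Subgroup G) : Set G)) → ℂ)}, Function.Bijective f ∧ ∀ χ, ((Cfsg.charDegree ((f χ).1 : ↥(Subgroup.normalizer ((P : Subgroup G) : Set G)) → ℂ) : ZMod p) = (Cfsg.charDegree (χ.1 : G → ℂ) : ZMod p) ∨ (Cfsg.charDegree ((f χ).1 : ↥(Subgroup.normalizer ((P : Subgroup G) : Set G)) → ℂ) : ZMod p) = -(Cfsg.charDegree (χ.1 : G → ℂ) : ZMod p)) := by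
  classical
  haveI := Fintype.ofFinite G
  obtain ⟨Q, hQn, hQp, hQR, hQi⟩ := RealNormalizer38.exists_normal_sylow _ G rfl hsolv hreal
  set R := RealNormalizer38.elemGen 2 G with hR
  haveI := Fintype.ofFinite R
  have hRodd : Odd R.index := RealNormalizer38.odd_index_elemGen
  haveI hQn' := hQn
  set N := Subgroup.normalizer ((P : Subgroup G) : Set G) with hN
  set C := R ⊓ N with hCdef
  set C' := R.subgroupOf N with hC'
  haveI := Fintype.ofFinite C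
  haveI := Fintype.ofFinite C'
  have hCodd : Odd C'.index := Odd.of_dvd_nat hRodd (Subgroup.relIndex_dvd_index_of_normal R N)
  let e : C' ≃* C :=
    { toFun := fun n => ⟨((n : N) : G), n.2, (n : N).2⟩
      invFun := fun c => ⟨⟨(c : G), c.2.2⟩, c.2.1⟩
      left_inv := fun n => rfl
      right_inv := fun c => rfl
      map_mul' := fun _ _ => rfl }
  let P' : Sylow p N := P.subtype Subgroup.le_normalizer
  have hP' : ∀ n : N, n ∈ (P' : Subgroup N) ↔ (n : G) ∈ (P : Subgroup G) := fun n => Iff.rfl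
  -- the fixed points modulo `Q`
  have hQP : Q ≤ (P : Subgroup G) := by
    have h := P.is_maximal' (hQp.to_sup_of_normal_left P.isPGroup') le_sup_right
    exact le_sup_left.trans h.le
  have hPR : R ⊓ (P : Subgroup G) ≤ Q := by
    intro z hz
    have h0 : IsPGroup p ↥(R ⊓ (P : Subgroup G)) := P.isPGroup'.to_le inf_le_right
    have h1 := Subgroup.relIndex_mul_relIndex Q (R ⊓ (P : Subgroup G)) R (le_inf hQR hQP) inf_le_left
    obtain ⟨b, hb⟩ := IsPGroup.iff_card.1 h0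
    have h2 : Q.relIndex (R ⊓ (P : Subgroup G)) = 1 := by
      have h3 : Q.relIndex (R ⊓ (P : Subgroup G)) ∣ p ^ b := hb ▸ Subgroup.relIndex_dvd_card _ _
      obtain ⟨j, -, hj⟩ := (Nat.dvd_prime_pow Fact.out).1 h3
      rcases Nat.eq_zero_or_pos j with rfl | hjp
      · simpa using hj
      · exact absurd (h1 ▸ dvd_mul_of_dvd_left (hj ▸ dvd_pow_self p hjp.ne') _) hQi
    exact Subgroup.relIndex_eq_one.1 h2 hz
  have hC : ∀ k : G, k ∈ C ↔ (k ∈ R ∧ ∀ x ∈ (P : Subgroup G), x * k * x⁻¹ * k⁻¹ ∈ Q) := by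
    intro k
    refine ⟨fun hk => ⟨hk.1, fun x hx => hPR ⟨R.mul_mem ((inferInstance : R.Normal).conj_mem k hk.1 x)
      (R.inv_mem hk.1), ?_⟩⟩, fun hk => ⟨hk.1, ?_⟩⟩
    · rw [show x * k * x⁻¹ * k⁻¹ = x * (k * x⁻¹ * k⁻¹) by group]
      exact (P : Subgroup G).mul_mem hx
        ((Subgroup.mem_normalizer_iff.1 hk.2 x⁻¹).1 ((P : Subgroup G).inv_mem hx))
    · refine inv_inv k ▸ N.inv_mem ?_
      rw [hN, Subgroup.mem_normalizer_iff]
      have key : ∀ z : G, (∀ x ∈ (P : Subgroup G), x * z * x⁻¹ * z⁻¹ ∈ Q) →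
          ∀ x ∈ (P : Subgroup G), z * x * z⁻¹ ∈ (P : Subgroup G) := by
        intro z hz x hx
        have h1 := hQP (hz x⁻¹ (inv_mem hx))
        have h2 := (P : Subgroup G).mul_mem hx h1
        simpa [mul_assoc] using h2
      have hk' : ∀ x ∈ (P : Subgroup G), x * k⁻¹ * x⁻¹ * k⁻¹⁻¹ ∈ Q := by
        intro x hx
        have := hQn.conj_mem _ (inv_mem (hk.2 x hx)) k⁻¹
        simpa [mul_assoc] using this
      intro u
      refine ⟨fun hu => key k⁻¹ hk' u hu, fun hu => ?_⟩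
      simpa [mul_assoc] using key k hk.2 _ hu
  obtain ⟨f, hfbij, hfp⟩ := S4914.result p (P : Subgroup G) R Q C P.isPGroup'
    (le_top.trans R.normalizer_eq_top.ge) hQR (fun k _ q hq => hQn.conj_mem q hq k)
    (IsPGroup.iff_card.1 hQp) hQi inf_le_left hC
  -- recognition of the correspondent
  let S : (R → ℂ) → (C → ℂ) → ℂ := fun a b =>
    (Nat.card C : ℂ)⁻¹ * ∑ᶠ c : C, a (Subgroup.inclusion inf_le_left c) * conj (b c)
  have hfun : ∀ χ χ' ξ', S (χ'.1 : R → ℂ) (ξ'.1 : C → ℂ) = S (χ.1 : R → ℂ) ((f χ).1 : C → ℂ) →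
      f χ' = ξ' := by
    intro χ χ' ξ' h
    obtain ⟨m, hm, hm1, -⟩ := (hfp χ).1 (f χ)
    obtain ⟨m', hm', -, hm'2⟩ := (hfp χ').1 ξ'
    have e1 : m' = m := by exact_mod_cast hm'.symm.trans (h.trans hm)
    by_contra hne
    have h0 : (m : ZMod p) = 0 := by
      rw [ZMod.natCast_eq_zero_iff]
      exact e1 ▸ hm'2 fun h => hne h.symm
    rcases hm1 rfl with h | h <;> rw [h0] at h <;> simp at h
  have hdeg : ∀ χ, (p ∣ Cfsg.charDegree ((f χ).1 : C → ℂ) ↔ p ∣ Cfsg.charDegree (χ.1 : R → ℂ)) := by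
    intro χ
    rw [← ZMod.natCast_eq_zero_iff, ← ZMod.natCast_eq_zero_iff]
    rcases (hfp χ).2 with h | h <;> rw [h] <;> simp
  have hSconj : ∀ (a : R → ℂ) (b : C → ℂ),
      S (fun r => conj (a r)) (fun c => conj (b c)) = conj (S a b) := by
    intro a b
    simp only [S, map_mul, map_inv₀, map_natCast, finsum_eq_sum_of_fintype, map_sum]
  have hSnat : ∀ χ, conj (S (χ.1 : R → ℂ) ((f χ).1 : C → ℂ)) = S (χ.1 : R → ℂ) ((f χ).1 : C → ℂ) := by
    intro χ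
    obtain ⟨m, hm, -⟩ := (hfp χ).1 (f χ)
    exact (congrArg conj hm).trans ((map_natCast _ m).trans hm.symm)
  have hInvR : ∀ θ : R → ℂ, ((P : Subgroup G) ≤ CharInduced.inertia R θ) →
      ∀ x ∈ (P : Subgroup G), ∀ k k' : R, (k' : G) = x * (k : G) * x⁻¹ → θ k' = θ k := by
    intro θ h x hx k k' hk
    rw [← (CharInduced.mem_inertia_iff R).1 (h hx) k]
    exact congrArg θ (Subtype.ext hk)
  have hInvR' : ∀ θ : R → ℂ,
      (∀ x ∈ (P : Subgroup G), ∀ k k' : R, (k' : G) = x * (k : G) * x⁻¹ → θ k' = θ k) →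
      (P : Subgroup G) ≤ CharInduced.inertia R θ :=
    fun θ h x hx => (CharInduced.mem_inertia_iff R).2 fun n => h x hx n _ rfl
  let eC : Cfsg.IrrCharacter C → Cfsg.IrrCharacter C' := fun ξ =>
    ⟨(ξ : C → ℂ) ∘ e.toMonoidHom, isIrrCharacter_comap _ e.surjective ξ.2⟩
  have heC : ∀ ξ, Cfsg.charDegree (eC ξ : C' → ℂ) = Cfsg.charDegree (ξ : C → ℂ) := fun ξ => by
    simp [Cfsg.charDegree, eC]
  -- the sets of fixed real characters of degree prime to `p`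
  let A := {θ : Cfsg.IrrCharacter R // Real' (θ : R → ℂ) ∧
    (P : Subgroup G) ≤ CharInduced.inertia R (θ : R → ℂ) ∧ ¬ p ∣ Cfsg.charDegree (θ : R → ℂ)}
  let B := {ξ : Cfsg.IrrCharacter C' // Real' (ξ : C' → ℂ) ∧
    (P' : Subgroup N) ≤ CharInduced.inertia C' (ξ : C' → ℂ) ∧ ¬ p ∣ Cfsg.charDegree (ξ : C' → ℂ)}
  have hjB : ∀ θ : A, Real' (eC (f ⟨θ.1, hInvR _ θ.2.2.1⟩).1 : C' → ℂ) ∧
      (P' : Subgroup N) ≤ CharInduced.inertia C' (eC (f ⟨θ.1, hInvR _ θ.2.2.1⟩).1 : C' → ℂ) ∧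
      ¬ p ∣ Cfsg.charDegree (eC (f ⟨θ.1, hInvR _ θ.2.2.1⟩).1 : C' → ℂ) := by
    intro θ
    set χ : {χ : Cfsg.IrrCharacter R // ∀ x ∈ (P : Subgroup G), ∀ k k' : R,
      (k' : G) = x * (k : G) * x⁻¹ → (χ : R → ℂ) k' = (χ : R → ℂ) k} :=
      ⟨θ.1, hInvR _ θ.2.2.1⟩ with hχ
    set ξ := f χ with hξ
    have hxi : f χ = ⟨⟨fun c => conj ((ξ.1 : C → ℂ) c), isIrrCharacter_conj ξ.1.2⟩,
        fun x hx k k' hk => congrArg conj (ξ.2 x hx k k' hk)⟩ := by
      refine hfun χ χ _ ?_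
      have e1 : (fun r => conj ((χ.1 : R → ℂ) r)) = (χ.1 : R → ℂ) :=
        funext fun r => Complex.conj_eq_iff_im.2 (θ.2.1 r)
      conv_lhs => rw [← e1]
      rw [hSconj, hSnat]
    refine ⟨fun n => ?_, fun u hu => ?_, ?_⟩
    · have e1 := congrFun (congrArg (fun z => ((z.1 : Cfsg.IrrCharacter C) : C → ℂ)) hxi) (e n)
      exact Complex.conj_eq_iff_im.1 e1.symm
    · rw [CharInduced.mem_inertia_iff]
      intro n
      exact ξ.2 (u : G) ((hP' u).1 hu) (e n) (e ⟨u * n * u⁻¹, (inferInstance : C'.Normal).conj_mem n n.2 u⟩) rfl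
    · rw [heC, hdeg]; exact θ.2.2.2
  let j : A → B := fun θ => ⟨_, hjB θ⟩
  have hjsurj : Function.Surjective j := by
    intro ξ0
    let η : {ξ : Cfsg.IrrCharacter C // ∀ x ∈ (P : Subgroup G), ∀ k k' : C,
        (k' : G) = x * (k : G) * x⁻¹ → (ξ : C → ℂ) k' = (ξ : C → ℂ) k} :=
      ⟨⟨(ξ0.1 : C' → ℂ) ∘ e.symm.toMonoidHom, isIrrCharacter_comap _ e.symm.surjective ξ0.1.2⟩, by
        intro x hx k k' hk
        show (ξ0.1 : C' → ℂ) (e.symm k') = (ξ0.1 : C' → ℂ) (e.symm k)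
        have hxN : x ∈ N := Subgroup.le_normalizer hx
        rw [← (CharInduced.mem_inertia_iff C').1 (ξ0.2.2.1 ((hP' ⟨x, hxN⟩).2 hx)) (e.symm k)]
        exact congrArg (ξ0.1 : C' → ℂ) (Subtype.ext (Subtype.ext hk))⟩
    obtain ⟨χ, hχ⟩ := hfbij.2 η
    let χb : {χ : Cfsg.IrrCharacter R // ∀ x ∈ (P : Subgroup G), ∀ k k' : R,
        (k' : G) = x * (k : G) * x⁻¹ → (χ : R → ℂ) k' = (χ : R → ℂ) k} :=
      ⟨⟨fun r => conj ((χ.1 : R → ℂ) r), isIrrCharacter_conj χ.1.2⟩,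
        fun x hx k k' hk => congrArg conj (χ.2 x hx k k' hk)⟩
    have h1 : f χb = η := by
      refine hfun χ χb η ?_
      have e1 : (fun c => conj ((η.1 : C → ℂ) c)) = (η.1 : C → ℂ) :=
        funext fun c => Complex.conj_eq_iff_im.2 (ξ0.2.1 _)
      conv_lhs => rw [← e1]
      show S (fun r => conj ((χ.1 : R → ℂ) r)) _ = _
      rw [hSconj, ← hχ, hSnat]
    have h2 : χb = χ := hfbij.1 (h1.trans hχ.symm)
    have hr : Real' (χ.1 : R → ℂ) := fun r =>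
      Complex.conj_eq_iff_im.1 (congrFun (congrArg (fun z => ((z.1 : Cfsg.IrrCharacter R) : R → ℂ)) h2) r)
    have hd : ¬ p ∣ Cfsg.charDegree (χ.1 : R → ℂ) := by
      rw [← hdeg, hχ]
      have : Cfsg.charDegree (η.1 : C → ℂ) = Cfsg.charDegree (ξ0.1 : C' → ℂ) := by
        simp [Cfsg.charDegree, η]
      rw [this]; exact ξ0.2.2.2
    refine ⟨⟨χ.1, hr, hInvR' _ χ.2, hd⟩, Subtype.ext (Subtype.ext ?_)⟩
    show ((f χ).1 : C → ℂ) ∘ e.toMonoidHom = (ξ0.1 : C' → ℂ)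
    rw [hχ]
    funext n
    show (ξ0.1 : C' → ℂ) (e.symm (e n)) = _
    rw [e.symm_apply_apply]
  -- equivariance
  have hequiv : ∀ (n : N) (θ η : A), CharInduced.conjFun R (θ.1 : R → ℂ) (n : G) = (η.1 : R → ℂ) →
      CharInduced.conjFun C' ((j θ).1 : C' → ℂ) n = ((j η).1 : C' → ℂ) := by
    intro n θ η h
    set ξ := f ⟨θ.1, hInvR _ θ.2.2.1⟩ with hξ
    let cC : C ≃* C :=
      { toFun := fun c => ⟨(n : G) * c * (n : G)⁻¹, (inferInstance : R.Normal).conj_mem _ c.2.1 _,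
          N.mul_mem (N.mul_mem n.2 c.2.2) (N.inv_mem n.2)⟩
        invFun := fun c => ⟨(n : G)⁻¹ * c * (n : G), by
            have := (inferInstance : R.Normal).conj_mem _ c.2.1 (n : G)⁻¹
            rwa [inv_inv] at this,
          N.mul_mem (N.mul_mem (N.inv_mem n.2) c.2.2) n.2⟩
        left_inv := fun c => Subtype.ext (by simp [mul_assoc])
        right_inv := fun c => Subtype.ext (by simp [mul_assoc])
        map_mul' := fun a b => Subtype.ext (by simp [mul_assoc]) }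
    let ξ' : {ξ : Cfsg.IrrCharacter C // ∀ x ∈ (P : Subgroup G), ∀ k k' : C,
        (k' : G) = x * (k : G) * x⁻¹ → (ξ : C → ℂ) k' = (ξ : C → ℂ) k} :=
      ⟨⟨(ξ.1 : C → ℂ) ∘ cC.toMonoidHom, isIrrCharacter_comap _ cC.surjective ξ.1.2⟩, by
        intro x hx k k' hk
        show (ξ.1 : C → ℂ) (cC k') = (ξ.1 : C → ℂ) (cC k)
        refine ξ.2 ((n : G) * x * (n : G)⁻¹) ((Subgroup.mem_normalizer_iff.1 n.2 x).1 hx) _ _ ?_
        show (n : G) * k' * (n : G)⁻¹ = _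
        rw [hk]
        show _ = (n : G) * x * (n : G)⁻¹ * ((n : G) * k * (n : G)⁻¹) * ((n : G) * x * (n : G)⁻¹)⁻¹
        group⟩
    have h1 : f ⟨η.1, hInvR _ η.2.2.1⟩ = ξ' := by
      refine hfun ⟨θ.1, hInvR _ θ.2.2.1⟩ _ ξ' ?_
      show S (η.1 : R → ℂ) _ = _
      rw [← h]
      simp only [S]
      congr 1
      exact finsum_comp_equiv (f := fun c => (θ.1 : R → ℂ) (Subgroup.inclusion inf_le_left c) *
        conj ((ξ.1 : C → ℂ) c)) cC.toEquiv
    funext m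
    show (ξ.1 : C → ℂ) (e _) = ((f ⟨η.1, hInvR _ η.2.2.1⟩).1 : C → ℂ) (e m)
    rw [h1]
    rfl
  have hjinj : Function.Injective j := by
    intro a b h
    have h1 : (f ⟨a.1, hInvR _ a.2.2.1⟩).1 = (f ⟨b.1, hInvR _ b.2.2.1⟩).1 := by
      refine Subtype.ext (funext fun c => ?_)
      simpa [j, eC] using congrFun (congrArg (fun z : B => (z.1 : C' → ℂ)) h) (e.symm c)
    have h2 := congrArg Subtype.val (hfbij.1 (Subtype.ext h1))
    exact Subtype.ext h2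
  have hconjA : ∀ (n : N) (θ : A), ∃ η : A,
      CharInduced.conjFun R (θ.1 : R → ℂ) (n : G) = (η.1 : R → ℂ) := by
    intro n θ
    refine ⟨⟨⟨CharInduced.conjFun R (θ.1 : R → ℂ) (n : G),
      isIrrCharacter_comap (MulAut.conjNormal (n : G) : R ≃* R).toMonoidHom
        (MulAut.conjNormal (n : G) : R ≃* R).surjective θ.1.2⟩, fun r => θ.2.1 _, ?_, ?_⟩, rfl⟩
    · intro x hx
      rw [CharInduced.mem_inertia]
      show CharInduced.conjFun R (CharInduced.conjFun R (θ.1 : R → ℂ) (n : G)) x = _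
      rw [CharInduced.conjFun_conjFun, CharInduced.conjFun_eq_iff]
      exact θ.2.2.1 ((Subgroup.mem_normalizer_iff.1 n.2 x).1 hx)
    · have h1 : Cfsg.charDegree (CharInduced.conjFun R (θ.1 : R → ℂ) (n : G)) =
          Cfsg.charDegree (θ.1 : R → ℂ) := by
        simp only [Cfsg.charDegree]
        congr 2
        exact congrArg (θ.1 : R → ℂ) (Subtype.ext (by simp))
      show ¬ p ∣ Cfsg.charDegree (CharInduced.conjFun R (θ.1 : R → ℂ) (n : G))
      rw [h1]; exact θ.2.2.2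
  have hrev : ∀ (n : N) (θ η : A),
      CharInduced.conjFun C' ((j θ).1 : C' → ℂ) n = ((j η).1 : C' → ℂ) →
      CharInduced.conjFun R (θ.1 : R → ℂ) (n : G) = (η.1 : R → ℂ) := by
    intro n θ η h
    obtain ⟨η', hη'⟩ := hconjA n θ
    have : η' = η := hjinj (Subtype.ext (Subtype.ext ((hequiv n θ η' hη').symm.trans h)))
    rw [← this]; exact hη'
  -- upper characters
  have hup : ∀ ξ : B, ∃ y : Cfsg.IrrCharacter N, (Real' (y : N → ℂ) ∧
      ¬ p ∣ Cfsg.charDegree (y : N → ℂ)) ∧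
      Cfsg.classInner (fun n : C' => (y : N → ℂ) n) (ξ.1 : C' → ℂ) ≠ 0 ∧
      (y : N → ℂ) 1 = ((CharInduced.inertia C' (ξ.1 : C' → ℂ)).index : ℂ) * (ξ.1 : C' → ℂ) 1 := by
    intro ξ
    obtain ⟨y, ⟨hy, hc⟩, -⟩ := existsUnique_over C' hCodd ξ.1 ξ.2.1
    have hd := apply_one_real C' hCodd hy ξ.2.1 hc
    refine ⟨y, ⟨hy, fun h => ?_⟩, hc, hd⟩
    have e1 : Cfsg.charDegree (y : N → ℂ) =
        (CharInduced.inertia C' (ξ.1 : C' → ℂ)).index * Cfsg.charDegree (ξ.1 : C' → ℂ) := by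
      rw [deg_cast, deg_cast ξ.1, ← Nat.cast_mul, Nat.cast_inj] at hd
      exact hd
    rw [e1] at h
    exact ((Fact.out : p.Prime).dvd_mul.1 h).elim
      (fun h1 => P'.not_dvd_index (h1.trans (Subgroup.index_dvd_of_le ξ.2.2.1))) ξ.2.2.2
  choose upB hupR hupC hupD using hup
  have hsel : ∀ χ : {χ : Cfsg.IrrCharacter G // ∀ g : G, ((χ : G → ℂ) g).im = 0}, ∃ θ : A,
      Cfsg.classInner (fun n : R => (χ.1 : G → ℂ) n) (θ.1 : R → ℂ) ≠ 0 := by
    intro χ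
    obtain ⟨θ, h1, h2, h3, h4⟩ := exists_below R hRodd P χ.1 χ.2 (hreal χ.1 χ.2)
    exact ⟨⟨θ, h1, h2, h3⟩, h4⟩
  choose sel hselC using hsel
  have huniqN : ∀ (y y' : Cfsg.IrrCharacter N) (ξ : B), Real' (y : N → ℂ) → Real' (y' : N → ℂ) →
      Cfsg.classInner (fun n : C' => (y : N → ℂ) n) (ξ.1 : C' → ℂ) ≠ 0 →
      Cfsg.classInner (fun n : C' => (y' : N → ℂ) n) (ξ.1 : C' → ℂ) ≠ 0 → y = y' := by
    intro y y' ξ h1 h2 h3 h4
    obtain ⟨z, -, -, hz⟩ := existsUnique_over C' hCodd ξ.1 ξ.2.1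
    rw [hz y h1 h3, hz y' h2 h4]
  have huniqG : ∀ (y y' : Cfsg.IrrCharacter G) (θ : A), Real' (y : G → ℂ) → Real' (y' : G → ℂ) →
      Cfsg.classInner (fun n : R => (y : G → ℂ) n) (θ.1 : R → ℂ) ≠ 0 →
      Cfsg.classInner (fun n : R => (y' : G → ℂ) n) (θ.1 : R → ℂ) ≠ 0 → y = y' := by
    intro y y' θ h1 h2 h3 h4
    obtain ⟨z, -, -, hz⟩ := existsUnique_over R hRodd θ.1 θ.2.1
    rw [hz y h1 h3, hz y' h2 h4]
  refine ⟨fun χ => ⟨upB (j (sel χ)), hupR _⟩, ⟨?_, ?_⟩, fun χ => ?_⟩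
  · intro χ χ' h
    have h1 : upB (j (sel χ)) = upB (j (sel χ')) := congrArg Subtype.val h
    obtain ⟨n, hn⟩ := (CharInduced.mem_orbitFin C').1 (CharInduced.mem_orbit_of_constituents C'
      (upB (j (sel χ))).2 (j (sel χ)).1.2 (j (sel χ')).1.2 (hupC _)
      (by rw [h1]; exact hupC _))
    have h2 := hrev n _ _ hn
    refine Subtype.ext (huniqG χ.1 χ'.1 (sel χ') χ.2 χ'.2 ?_ (hselC χ'))
    rw [← h2, classInner_conjFun]
    exact hselC χ
  · rintro ⟨y, hy, hyd⟩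
    obtain ⟨ξ0, h1, h2, h3, h4⟩ := exists_below C' hCodd P' y hy hyd
    obtain ⟨θ, hθ⟩ := hjsurj ⟨ξ0, h1, h2, h3⟩
    obtain ⟨χ, ⟨hχ, hχc⟩, -⟩ := existsUnique_over R hRodd θ.1 θ.2.1
    refine ⟨⟨χ, hχ⟩, Subtype.ext ?_⟩
    obtain ⟨g, hg⟩ := (CharInduced.mem_orbitFin R).1 (CharInduced.mem_orbit_of_constituents R χ.2
      θ.1.2 (sel ⟨χ, hχ⟩).1.2 hχc (hselC ⟨χ, hχ⟩))
    obtain ⟨n, hn, hn'⟩ := exists_normalizer_conj R P _ _ g hg θ.2.2.1 (sel ⟨χ, hχ⟩).2.2.1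
    refine huniqN _ y (j (sel ⟨χ, hχ⟩)) (hupR _).1 hy (hupC _) ?_
    rw [← hequiv ⟨n, hn⟩ θ _ hn', classInner_conjFun, hθ]
    exact h4
  · have hT : CharInduced.inertia C' ((j (sel χ)).1 : C' → ℂ) =
        (CharInduced.inertia R ((sel χ).1 : R → ℂ)).subgroupOf N := by
      ext n
      rw [Subgroup.mem_subgroupOf, CharInduced.mem_inertia, CharInduced.mem_inertia]
      exact ⟨fun h => hrev n _ _ h, fun h => hequiv n _ _ h⟩
    have h1 := apply_one_real R hRodd χ.2 (sel χ).2.1 (hselC χ)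
    rw [deg_cast, deg_cast (sel χ).1, ← Nat.cast_mul, Nat.cast_inj] at h1
    have h2 := hupD (j (sel χ))
    rw [deg_cast, deg_cast (j (sel χ)).1, ← Nat.cast_mul, Nat.cast_inj] at h2
    have h3 : ((CharInduced.inertia R ((sel χ).1 : R → ℂ)).index : ZMod p) =
        ((CharInduced.inertia C' ((j (sel χ)).1 : C' → ℂ)).index : ZMod p) := by
      rw [hT]
      exact (ZMod.natCast_eq_natCast_iff _ _ _).2 (index_modEq P _ (sel χ).2.2.1)
    show ((Cfsg.charDegree (upB (j (sel χ)) : N → ℂ) : ZMod p) = _) ∨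
      ((Cfsg.charDegree (upB (j (sel χ)) : N → ℂ) : ZMod p) = _)
    have h4 : Cfsg.charDegree ((j (sel χ)).1 : C' → ℂ) =
        Cfsg.charDegree ((f ⟨(sel χ).1, hInvR _ (sel χ).2.2.1⟩).1 : C → ℂ) := heC _
    rw [h1, h2, Nat.cast_mul, Nat.cast_mul, h3, h4]
    rcases (hfp ⟨(sel χ).1, hInvR _ (sel χ).2.2.1⟩).2 with h | h <;> rw [h]
    · exact Or.inl rfl
    · exact Or.inr (mul_neg _ _)

end Cfsg.Agent.S4865
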