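import Cfsg.Statements.S4870
import Cfsg.Agent.Lib.RealInduced
-- import your own Cfsg.Agent.* helpers here

set_option autoImplicit false
open Cfsg

namespace Cfsg.Agent.S4870

/-- Let G be a finite group with a non-abelian minimal normal subgroup N, and let φ be an irreducible complex character of N with stabilizer I in G (the elements g with φ(g n g⁻¹) = φ(n) for all n ∈ N) such that φ extends to an irreducible character of I. Put d = φ(1)·[G : I]. Then the number of linear characters of G is at most [G : I] times the number of irreducible characters of G of degree d. -/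
theorem result {G : Type*} [Group G] [Finite G] (N : Subgroup G) (hN : N.Normal) (hN1 : N ≠ ⊥) (hmin : ∀ M : Subgroup G, M.Normal → M ≤ N → M = ⊥ ∨ M = N) (hna : ¬ IsMulCommutative ↥N) (φ : Cfsg.IrrCharacter ↥N) (I : Subgroup G) (hI : ∀ g : G, g ∈ I ↔ ∀ n n' : ↥N, (n' : G) = g * (n : G) * g⁻¹ → (φ : ↥N → ℂ) n' = (φ : ↥N → ℂ) n) (hNI : N ≤ I) (hext : ∃ ψ : Cfsg.IrrCharacter ↥I, ∀ n : ↥N, (ψ : ↥I → ℂ) (Subgroup.inclusion hNI n) = (φ : ↥N → ℂ) n) : Nat.card {χ : Cfsg.IrrCharacter G // Cfsg.charDegree (χ : G → ℂ) = 1} ≤ I.index * Nat.card {χ : Cfsg.IrrCharacter G // Cfsg.charDegree (χ : G → ℂ) = Cfsg.charDegree (φ : ↥N → ℂ) * I.index} := by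
  classical
  haveI : Fintype G := Fintype.ofFinite G
  haveI : N.Normal := hN
  haveI : Fintype N := Fintype.ofFinite N
  haveI : Fintype I := Fintype.ofFinite I
  have hT : ∀ g : G, g ∈ I ↔ CharInduced.conjFun N (φ : N → ℂ) g = (φ : N → ℂ) := fun g =>
    (hI g).trans ⟨fun h => funext fun n => h n ⟨g * n * g⁻¹, hN.conj_mem _ n.2 g⟩ rfl,
      fun h n n' e => by
        rw [show n' = ⟨g * n * g⁻¹, hN.conj_mem _ n.2 g⟩ from Subtype.ext e]
        exact congrFun h n⟩
  have hcomm := RealInduced.le_commutator_of_minimal N hmin hna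
  have hdeg : ∀ (χ : Cfsg.IrrCharacter G) (m : ℕ), Cfsg.charDegree (χ : G → ℂ) = m ↔
      (χ : G → ℂ) 1 = m := fun χ m => by
    rw [CharAverage.irr_apply_one χ, Nat.cast_inj]
  have hval : ∀ (ψ : I → ℂ), (∀ n : N, ψ ⟨n, hNI n.2⟩ = (φ : N → ℂ) n) → ∀ lam : G →* ℂˣ,
      Cfsg.indFun I (fun t : I => ψ t * (lam t : ℂ)) 1 =
        ((Cfsg.charDegree (φ : N → ℂ) * I.index : ℕ) : ℂ) := fun ψ hres lam => by
    have h1 := hres 1
    simp only [Subgroup.coe_one] at h1
    rw [CharInduced.ind_one_apply, Nat.cast_mul, ← CharAverage.irr_apply_one φ, ← h1]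
    simp only [Subgroup.coe_one, map_one, Units.val_one, mul_one]
    rw [mul_comm]
    rfl
  obtain ⟨ψ, hψres⟩ := hext
  have hres : ∀ n : N, (ψ : I → ℂ) ⟨n, hNI n.2⟩ = (φ : N → ℂ) n := hψres
  exact RealInduced.card_linear_le N I hNI φ.2 hT ψ.2 hres hcomm _ _
    (fun χ h => by rw [(hdeg χ 1).1 h, Nat.cast_one])
    (fun lam χ _ _ _ h' => (hdeg ⟨_, h'⟩ _).2 (hval _ hres lam))

end Cfsg.Agent.S4870
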