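import Cfsg.Statements.S4871
import Cfsg.Agent.Lib.RealInduced
-- import your own Cfsg.Agent.* helpers here

set_option autoImplicit false
open Cfsg
open scoped commutatorElement

namespace Cfsg.Agent.S4871

/-- Let G be a finite group that is the semidirect product of a normal elementary abelian subgroup N of odd order by a non-trivial 2-subgroup P, with N the unique minimal normal subgroup of G. Consider the strongly real irreducible complex characters of G (Frobenius–Schur indicator +1) whose degree is 1 or even. Then their average degree is at least 4/3: four times their number is at most three times the sum of their degrees. -/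
theorem result {G : Type*} [Group G] [Finite G] (N P : Subgroup G) (hN : N.Normal) (q : ℕ) [Fact q.Prime] (hq : q ≠ 2) (hNel : Cfsg.IsElementaryAbelian q N) (hP : IsPGroup 2 ↥P) (hP1 : P ≠ ⊥) (hdisj : N ⊓ P = ⊥) (hprod : N ⊔ P = ⊤) (hmin : N ≠ ⊥ ∧ ∀ M : Subgroup G, M.Normal → M ≠ ⊥ → N ≤ M) : 4 * Nat.card {χ : Cfsg.IrrCharacter G // (Cfsg.charDegree (χ : G → ℂ) = 1 ∨ 2 ∣ Cfsg.charDegree (χ : G → ℂ)) ∧ (Nat.card G : ℂ)⁻¹ * ∑ᶠ g : G, (χ : G → ℂ) (g * g) = 1} ≤ 3 * (∑ᶠ χ : {χ : Cfsg.IrrCharacter G // (Cfsg.charDegree (χ : G → ℂ) = 1 ∨ 2 ∣ Cfsg.charDegree (χ : G → ℂ)) ∧ (Nat.card G : ℂ)⁻¹ * ∑ᶠ g : G, (χ : G → ℂ) (g * g) = 1}, Cfsg.charDegree (χ.1 : G → ℂ)) := by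
  classical
  haveI : N.Normal := hN
  haveI : Fintype G := Fintype.ofFinite G
  haveI : Fintype N := Fintype.ofFinite N
  haveI : Finite (Cfsg.IrrCharacter G) := CharBasicOrth.finite_irrCharacter
  obtain ⟨hN1, hmin⟩ := hmin
  obtain ⟨hcomN, hexp⟩ := hNel
  haveI := hcomN
  have hcN : ∀ a b : N, a * b = b * a := fun a b => mul_comm' a b
  -- `N` has odd order
  have hNpg : IsPGroup q N := fun a => ⟨1, by
    rw [pow_one]; exact Subtype.ext (by simpa using hexp a a.2)⟩
  obtain ⟨kq, hkq⟩ := IsPGroup.iff_card.1 hNpg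
  have hNodd : ¬ 2 ∣ Nat.card N := fun h => hq
    ((Nat.prime_dvd_prime_iff_eq Nat.prime_two Fact.out).1 (Nat.prime_two.dvd_of_dvd_pow (hkq ▸ h))).symm
  have hcopN : ∀ x : G, x ∈ N → x * x = 1 → x = 1 := fun x hx h => by
    by_contra h1
    have h2 : orderOf x = 2 := orderOf_eq_prime (by rw [pow_two, h]) h1
    refine hNodd (h2 ▸ ?_)
    rw [← Subgroup.orderOf_mk x hx]
    exact orderOf_dvd_natCard _
  -- a central involution of `P`
  obtain ⟨tP, htc, hto⟩ : ∃ t : P, t ∈ Subgroup.center P ∧ orderOf t = 2 := by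
    haveI : Fact (Nat.Prime 2) := ⟨Nat.prime_two⟩
    haveI : Nontrivial P := (Subgroup.nontrivial_iff_ne_bot P).2 hP1
    have hZ := hP.center_nontrivial
    obtain ⟨kz, hkz⟩ := IsPGroup.iff_card.1 (hP.to_subgroup (Subgroup.center P))
    have hkz0 : kz ≠ 0 := fun e => by
      rw [e, pow_zero] at hkz
      exact absurd hkz Finite.one_lt_card.ne'
    obtain ⟨z, hz⟩ := exists_prime_orderOf_dvd_card' (G := Subgroup.center P) 2
      (hkz ▸ dvd_pow_self 2 hkz0)
    exact ⟨z, z.2, by rw [Subgroup.orderOf_coe]; exact hz⟩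
  set t : G := (tP : G) with ht
  have ht2 : t * t = 1 := by
    have h := pow_orderOf_eq_one tP
    rw [hto, pow_two] at h
    exact congrArg Subtype.val h
  have ht1 : t ≠ 1 := fun e => by
    rw [show tP = 1 from Subtype.ext e, orderOf_one] at hto
    exact absurd hto (by norm_num)
  have htP : ∀ x ∈ P, x * t = t * x := fun x hx =>
    congrArg Subtype.val (Subgroup.mem_center_iff.1 htc ⟨x, hx⟩)
  have hclosed : ∀ H : Subgroup G, N ≤ H → P ≤ H → H = ⊤ := fun H h1 h2 =>
    eq_top_iff.2 (hprod ▸ sup_le h1 h2)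
  -- the involution is not central
  have hnc : ¬ ∀ g : G, g * t = t * g := by
    intro hc
    have hz : Subgroup.zpowers t ≤ Subgroup.center G := by
      rw [Subgroup.zpowers_le, Subgroup.mem_center_iff]; exact hc
    have hn : (Subgroup.zpowers t).Normal := ⟨fun n hn g => by
      rwa [Subgroup.mem_center_iff.1 (hz hn) g, mul_inv_cancel_right]⟩
    have hle := hmin _ hn (fun e => ht1 (Subgroup.zpowers_eq_bot.1 e))
    refine hN1 ((Subgroup.eq_bot_iff_forall N).2 fun x hx => hcopN x hx ?_)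
    obtain ⟨j, rfl⟩ := Subgroup.mem_zpowers_iff.1 (hle hx)
    rw [← zpow_add, ← two_mul, zpow_mul, zpow_two, ht2, one_zpow]
  -- it inverts `N`
  have hfix : ∀ x ∈ N, x * t = t * x → x = 1 := by
    intro x hx hxt
    let K : Subgroup G := N ⊓ Subgroup.centralizer ({t} : Set G)
    have hK : K.Normal := by
      rw [← Subgroup.normalizer_eq_top_iff]
      refine hclosed _ (fun n hn => ?_) (fun u hu => ?_) <;>
        rw [Subgroup.mem_normalizer_iff] <;> intro k
      · constructor <;> intro hk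
        · have hkN : k ∈ N := hk.1
          have := congrArg Subtype.val (hcN ⟨n, hn⟩ ⟨k, hkN⟩)
          simp only [Subgroup.coe_mul] at this
          rw [this, mul_inv_cancel_right]; exact hk
        · have hkN : k ∈ N := by
            simpa [mul_assoc] using N.mul_mem (N.mul_mem (N.inv_mem hn) hk.1) hn
          have := congrArg Subtype.val (hcN ⟨n, hn⟩ ⟨k, hkN⟩)
          simp only [Subgroup.coe_mul] at this
          rw [this, mul_inv_cancel_right] at hk; exact hk
      · have hu' := htP u hu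
        have hu'' := htP u⁻¹ (P.inv_mem hu)
        simp only [K, Subgroup.mem_inf, Subgroup.mem_centralizer_singleton_iff]
        constructor
        · rintro ⟨h1, h2⟩
          refine ⟨hN.conj_mem k h1 u, ?_⟩
          calc u * k * u⁻¹ * t = u * k * (u⁻¹ * t) := by group
            _ = u * (k * t) * u⁻¹ := by rw [hu'']; group
            _ = (u * t) * k * u⁻¹ := by rw [h2]; group
            _ = t * (u * k * u⁻¹) := by rw [hu']; group
        · rintro ⟨h1, h2⟩
          refine ⟨by simpa [mul_assoc] using hN.conj_mem _ h1 u⁻¹, ?_⟩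
          calc k * t = u⁻¹ * (u * k * u⁻¹) * (u * t) := by group
            _ = u⁻¹ * ((u * k * u⁻¹) * t) * u := by rw [hu']; group
            _ = (u⁻¹ * t) * (u * k * u⁻¹) * u := by rw [h2]; group
            _ = t * k := by rw [hu'']; group
    by_contra hx1
    have hmem : x ∈ K := ⟨hx, Subgroup.mem_centralizer_singleton_iff.2 hxt⟩
    have hle := hmin K hK (fun e => hx1 (Subgroup.mem_bot.1 (e ▸ hmem)))
    refine hnc fun g => Subgroup.mem_centralizer_singleton_iff.1 ?_
    rw [hclosed (Subgroup.centralizer ({t} : Set G)) (hle.trans inf_le_right)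
      (fun u hu => Subgroup.mem_centralizer_singleton_iff.2 (htP u hu))]
    exact Subgroup.mem_top g
  have htinv : t⁻¹ = t := inv_eq_of_mul_eq_one_right ht2
  have hinvN : ∀ x ∈ N, t * x * t⁻¹ = x⁻¹ := by
    intro x hx
    have hy : t * x * t⁻¹ ∈ N := hN.conj_mem x hx t
    have h := hfix (x * (t * x * t⁻¹)) (N.mul_mem hx hy) (by
      have hc : t * x * t⁻¹ * x = x * (t * x * t⁻¹) :=
        congrArg Subtype.val (hcN ⟨_, hy⟩ ⟨x, hx⟩)
      calc x * (t * x * t⁻¹) * t = x * (t * x) := by group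
        _ = t * (t⁻¹ * x * t) * x := by group
        _ = t * (t * x * t⁻¹ * x) := by rw [htinv]; group
        _ = t * (x * (t * x * t⁻¹)) := by rw [hc])
    exact eq_inv_of_mul_eq_one_right h
  have hcomm : N ≤ commutator G := by
    refine hmin _ inferInstance fun e => hnc fun g => ?_
    have h : ⁅g, t⁆ ∈ commutator G :=
      Subgroup.commutator_mem_commutator (Subgroup.mem_top g) (Subgroup.mem_top t)
    rw [e, Subgroup.mem_bot] at h
    exact commutatorElement_eq_one_iff_mul_comm.1 h
  -- a nontrivial character of `N`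
  obtain ⟨μ, hμ⟩ : ∃ μ : N →* ℂˣ, μ ≠ 1 := by
    by_contra hno
    push Not at hno
    haveI : Subsingleton (N →* ℂˣ) := ⟨fun a b => (hno a).trans (hno b).symm⟩
    have h1 : Nat.card (N →* ℂˣ) = 1 := Nat.card_of_subsingleton 1
    rw [CharBasicLinear.card_hom_units] at h1
    have hbot : commutator N = ⊥ := by
      rw [commutator_def, Subgroup.commutator_eq_bot_iff_le_centralizer]
      intro a _ b _
      exact hcN b a
    rw [hbot, Subgroup.index_bot] at h1
    exact hN1 ((Subgroup.card_eq_one).1 h1)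
  set θ : N → ℂ := fun n => (μ n : ℂ) with hθdef
  have hθ : Cfsg.IsIrrCharacter N θ := CharBasicDecomp.isIrrCharacter_linear μ
  set T := CharInduced.inertia N θ with hTdef
  haveI : Fintype T := Fintype.ofFinite T
  have hT : ∀ g : G, g ∈ T ↔ CharInduced.conjFun N θ g = θ := fun g => Iff.rfl
  have hTμ : ∀ g ∈ T, ∀ n : N, μ ⟨g * n * g⁻¹, hN.conj_mem _ n.2 g⟩ = μ n := fun g hg n =>
    Units.ext ((CharInduced.mem_inertia_iff N).1 hg n)
  have hNT : N ≤ T := CharInduced.le_inertia N (CharInduced.isClassFunction_irr hθ)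
  -- projection to `P`
  let f : P →* G ⧸ N := (QuotientGroup.mk' N).comp P.subtype
  have hf : Function.Bijective f := by
    constructor
    · rw [injective_iff_map_eq_one]
      intro x hx
      have h : (x : G) ∈ N ⊓ P := ⟨(QuotientGroup.eq_one_iff _).1 hx, x.2⟩
      rw [hdisj, Subgroup.mem_bot] at h
      exact Subtype.ext h
    · rw [← MonoidHom.range_eq_top, MonoidHom.range_comp, Subgroup.range_subtype]
      refine eq_top_iff.2 fun z _ => ?_
      obtain ⟨g, rfl⟩ := QuotientGroup.mk'_surjective N z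
      have hg : g ∈ N ⊔ P := hprod ▸ Subgroup.mem_top g
      obtain ⟨n, hn, u, hu, rfl⟩ := Subgroup.mem_sup_of_normal_left.1 hg
      refine ⟨u, hu, ?_⟩
      show (u : G ⧸ N) = ((n * u : G) : G ⧸ N)
      rw [QuotientGroup.mk_mul, (QuotientGroup.eq_one_iff n).2 hn, one_mul]
  let e := MulEquiv.ofBijective f hf
  let π : G →* P := e.symm.toMonoidHom.comp (QuotientGroup.mk' N)
  have hπN : ∀ g : G, g * (π g : G)⁻¹ ∈ N := by
    intro g
    have h : f (π g) = (g : G ⧸ N) := e.apply_symm_apply _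
    rw [← QuotientGroup.eq_one_iff, QuotientGroup.mk_mul, QuotientGroup.mk_inv]
    show (g : G ⧸ N) * (f (π g))⁻¹ = 1
    rw [h, mul_inv_cancel]
  have hπn : ∀ n ∈ N, π n = 1 := fun n hn => by
    show e.symm (n : G ⧸ N) = 1
    rw [(QuotientGroup.eq_one_iff n).2 hn, map_one]
  have hπP : ∀ u : P, π (u : G) = u := fun u => e.symm_apply_apply u
  have hπT : ∀ g ∈ T, (π g : G) ∈ T := fun g hg => by
    have : (π g : G) = (g * (π g : G)⁻¹)⁻¹ * g := by group
    rw [this]; exact T.mul_mem (T.inv_mem (hNT (hπN g))) hg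
  let ψ0 : T →* ℂˣ := MonoidHom.mk' (fun s => μ ⟨(s : G) * (π s : G)⁻¹, hπN s⟩) fun a b => by
    rw [← hTμ _ (hπT a a.2) ⟨(b : G) * (π b : G)⁻¹, hπN b⟩, ← map_mul]
    refine congrArg μ (Subtype.ext ?_)
    simp only [Subgroup.coe_mul, map_mul, mul_inv_rev]
    group
  set ψ : T → ℂ := fun s => (ψ0 s : ℂ) with hψdef
  have hψ : Cfsg.IsIrrCharacter T ψ := CharBasicDecomp.isIrrCharacter_linear ψ0
  have hres : ∀ n : N, ψ ⟨n, hNT n.2⟩ = θ n := fun n => by
    show (μ _ : ℂ) = μ n
    congr 2
    exact Subtype.ext (by simp [hπn n n.2])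
  -- the inversion
  have htμ : ∀ n : N, μ ⟨t * n * t⁻¹, hN.conj_mem _ n.2 t⟩ = (μ n)⁻¹ := fun n => by
    rw [← map_inv]
    exact congrArg μ (Subtype.ext (hinvN n n.2))
  have htT : t ∉ T := by
    intro h
    apply hμ
    ext n
    have h1 := hTμ t h n
    rw [htμ, inv_eq_iff_mul_eq_one, ← map_mul] at h1
    have h2 : (Nat.card N).Coprime 2 := ((Nat.Prime.coprime_iff_not_dvd Nat.prime_two).2 hNodd).symm
    obtain ⟨m, hm⟩ : ∃ m : N, m ^ 2 = n := ⟨(powCoprime h2).symm n, (powCoprime h2).apply_symm_apply n⟩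
    have h3 : ∀ a : N, μ (a * a) = 1 := fun a => by
      have h1 := hTμ t h a
      rw [htμ, inv_eq_iff_mul_eq_one, ← map_mul] at h1
      exact h1
    rw [← hm, pow_two, h3]
    rfl
  set d := T.index with hd
  have hd2 : 2 ≤ d := by
    rcases Nat.lt_or_ge d 2 with h | h
    · exfalso
      have h0 : d ≠ 0 := Subgroup.index_ne_zero_of_finite
      exact htT (Subgroup.index_eq_one.1 (show T.index = 1 by omega) ▸ Subgroup.mem_top t)
    · exact h
  have hdeven : 2 ∣ d := by
    obtain ⟨k, hk⟩ := IsPGroup.iff_card.1 hP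
    have h : d ∣ 2 ^ k := by
      rw [← hk, Nat.card_congr e.toEquiv]
      exact Subgroup.index_dvd_of_le hNT
    obtain ⟨i, -, hi⟩ := (Nat.dvd_prime_pow Nat.prime_two).1 h
    rcases i with _ | i
    · rw [pow_zero] at hi; omega
    · rw [hi]; exact dvd_pow_self 2 i.succ_ne_zero
  -- the indicator
  have hnu : RealChars.nu (Cfsg.indFun T ψ) = 1 := by
    set F := Cfsg.extendByZero T ψ with hF
    have hsq : ∀ x : G, ∑ g : G, F (x⁻¹ * (g * g) * x) = ∑ g : G, F (g * g) := fun x =>
      Fintype.sum_equiv (MulAut.conj x⁻¹).toEquiv _ _ fun g => congrArg F (by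
        simp only [MulEquiv.toEquiv_eq_coe, EquivLike.coe_coe, MulAut.conj_apply]
        group)
    rw [RealChars.nu_eq]
    simp only [CharInduced.indFun_apply]
    rw [← Finset.mul_sum, Finset.sum_comm, Finset.sum_congr rfl (fun x _ => hsq x),
      Finset.sum_const, Finset.card_univ, nsmul_eq_mul, ← Nat.card_eq_fintype_card]
    have hG0 : (Nat.card G : ℂ) ≠ 0 := Nat.cast_ne_zero.2 Nat.card_pos.ne'
    have hT0 : (Nat.card T : ℂ) ≠ 0 := Nat.cast_ne_zero.2 Nat.card_pos.ne'
    suffices h : ∑ g : G, F (g * g) = (Nat.card T : ℂ) by rw [h]; field_simp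
    -- averaging over `N`
    have hinner : ∀ g : G, ∑ n : N, F (g * n * (g * n)) =
        if t * g ∈ T then (Nat.card N : ℂ) else 0 := by
      intro g
      by_cases htg : t * g ∈ T
      · rw [if_pos htg]
        rw [Finset.sum_eq_card_nsmul (b := (1 : ℂ)) (fun n _ => ?_), Finset.card_univ, nsmul_eq_mul,
          mul_one, Nat.card_eq_fintype_card]
        set s : G := t * (g * n)
        have hs : s ∈ T := by
          rw [show s = (t * g) * n by simp only [s, mul_assoc]]
          exact T.mul_mem htg (hNT n.2)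
        have hgs : g * (n : G) = t * s := by
          simp only [s, ← mul_assoc, ht2, one_mul]
        set m : N := ⟨s * (π s : G)⁻¹, hπN s⟩
        have hsm : s = m * (π s : G) := by simp [m]
        have hts : t * s * t⁻¹ = (m : G)⁻¹ * (π s : G) := by
          calc t * s * t⁻¹ = t * ((m : G) * (π s : G)) * t⁻¹ := by rw [← hsm]
            _ = (t * m * t⁻¹) * (t * (π s : G) * t⁻¹) := by group
            _ = (m : G)⁻¹ * (π s : G) := by
              rw [hinvN m m.2, ← htP _ (π s).2]; group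
        have hts' : t * s * t⁻¹ ∈ T := hts ▸ T.mul_mem (T.inv_mem (hNT m.2)) (hπT s hs)
        have hprod2 : g * (n : G) * (g * n) = (((⟨_, hts'⟩ : T) * ⟨s, hs⟩ : T) : G) := by
          rw [hgs, Subgroup.coe_mul]
          show t * s * (t * s) = t * s * t⁻¹ * s
          rw [htinv]; group
        rw [hprod2, hF, CharInduced.ext_zero_coe]
        show ((ψ0 (_ * _) : ℂˣ) : ℂ) = 1
        rw [map_mul]
        have h1 : ψ0 ⟨_, hts'⟩ = (μ m)⁻¹ := by
          rw [← map_inv]
          refine congrArg μ (Subtype.ext ?_)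
          show t * s * t⁻¹ * (π (t * s * t⁻¹) : G)⁻¹ = (m : G)⁻¹
          have h2 : π (t * s * t⁻¹) = π s := by
            rw [hts, map_mul, hπn _ (N.inv_mem m.2), one_mul, hπP]
          rw [h2, hts, mul_inv_cancel_right]
        have h2 : ψ0 ⟨s, hs⟩ = μ m := rfl
        rw [h1, h2, inv_mul_cancel, Units.val_one]
      · rw [if_neg htg]
        by_cases hg2 : g * g ∈ T
        · let a : N → N := fun n => ⟨g * n * g⁻¹, hN.conj_mem _ n.2 g⟩
          have hmul : ∀ n : N, F (g * n * (g * n)) =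
              ((μ (a n) * μ n : ℂˣ) : ℂ) * (ψ0 ⟨g * g, hg2⟩ : ℂ) := fun n => by
            have he : g * (n : G) * (g * n) =
                (((⟨a n, hNT (a n).2⟩ : T) * ⟨g * g, hg2⟩ * ⟨n, hNT n.2⟩ : T) : G) := by
              simp only [Subgroup.coe_mul, a]; group
            rw [he, hF, CharInduced.ext_zero_coe]
            show ((ψ0 (_ * _ * _) : ℂˣ) : ℂ) = _
            rw [map_mul, map_mul, Units.val_mul, Units.val_mul, Units.val_mul]
            rw [show (ψ0 ⟨a n, hNT (a n).2⟩ : ℂ) = μ (a n) from hres (a n),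
              show (ψ0 ⟨n, hNT n.2⟩ : ℂ) = μ n from hres n]
            ring
          simp only [hmul]
          rw [← Finset.sum_mul]
          refine mul_eq_zero_of_left ?_ _
          let ch : N →* ℂˣ := MonoidHom.mk' (fun n => μ (a n) * μ n) fun x y => by
            have ha : a (x * y) = a x * a y :=
              Subtype.ext (show g * ((x : G) * y) * g⁻¹ = g * x * g⁻¹ * (g * y * g⁻¹) by group)
            rw [ha, map_mul, map_mul, mul_mul_mul_comm]
          have hch : ch ≠ 1 := by
            intro h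
            apply htg
            rw [hT]
            funext n
            show (μ ⟨t * g * n * (t * g)⁻¹, _⟩ : ℂ) = μ n
            have h1 : μ (a n) * μ n = 1 := DFunLike.congr_fun h n
            refine congrArg Units.val ?_
            rw [show (⟨t * g * n * (t * g)⁻¹, hN.conj_mem _ n.2 _⟩ : N) =
              ⟨t * (a n : G) * t⁻¹, hN.conj_mem _ (a n).2 t⟩ from Subtype.ext (by simp only [a]; group),
              htμ, inv_eq_of_mul_eq_one_right h1]
          obtain ⟨n0, hn0⟩ : ∃ n0, ch n0 ≠ 1 := by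
            by_contra h; push Not at h; exact hch (MonoidHom.ext h)
          show ∑ n : N, (ch n : ℂ) = 0
          have h1 : (ch n0 : ℂ) * ∑ n : N, (ch n : ℂ) = ∑ n : N, (ch n : ℂ) := by
            rw [Finset.mul_sum]
            exact Fintype.sum_equiv (Equiv.mulLeft n0) _ _ fun n => by
              rw [Equiv.coe_mulLeft, map_mul, Units.val_mul]
          exact eq_zero_of_mul_eq_self_left (fun e => hn0 (Units.ext e)) h1
        · refine Finset.sum_eq_zero fun n _ => ?_
          rw [hF, CharInduced.ext_zero_of_not_mem]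
          intro h
          refine hg2 ?_
          have hk : g * (n : G) * g⁻¹ ∈ T := hNT (hN.conj_mem _ n.2 g)
          have : g * g = (g * (n : G) * g⁻¹)⁻¹ * (g * n * (g * n)) * (n : G)⁻¹ := by group
          rw [this]
          exact T.mul_mem (T.mul_mem (T.inv_mem hk) h) (T.inv_mem (hNT n.2))
    have hdouble : ∑ g : G, ∑ n : N, F (g * n * (g * n)) = (Nat.card N : ℂ) * ∑ g : G, F (g * g) := by
      rw [Finset.sum_comm, Finset.sum_congr rfl (fun (n : N) _ => Fintype.sum_equiv
        (Equiv.mulRight (n : G)) (fun g => F (g * n * (g * n))) (fun g => F (g * g)) fun g => rfl),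
        Finset.sum_const, Finset.card_univ, nsmul_eq_mul, Nat.card_eq_fintype_card]
    rw [Finset.sum_congr rfl (fun g _ => hinner g), Fintype.sum_equiv (Equiv.mulLeft t)
      (fun g => if t * g ∈ T then (Nat.card N : ℂ) else 0)
      (fun g => if g ∈ T then (Nat.card N : ℂ) else 0) (fun g => rfl), Finset.sum_ite,
      Finset.sum_const_zero, add_zero, Finset.sum_const, nsmul_eq_mul] at hdouble
    have hN0 : (Nat.card N : ℂ) ≠ 0 := Nat.cast_ne_zero.2 Nat.card_pos.ne'
    rw [mul_comm] at hdouble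
    rw [← mul_left_cancel₀ hN0 hdouble, ← Fintype.card_subtype, ← Nat.card_eq_fintype_card]
  let Pr : Cfsg.IrrCharacter G → Prop := fun χ =>
    Cfsg.charDegree (χ : G → ℂ) = 1 ∧ RealChars.nu (χ : G → ℂ) = 1
  let Q : Cfsg.IrrCharacter G → Prop := fun χ =>
    Cfsg.charDegree (χ : G → ℂ) = d ∧ RealChars.nu (χ : G → ℂ) = 1
  have hle : Nat.card {χ : Cfsg.IrrCharacter G // Pr χ} ≤
      d * Nat.card {χ : Cfsg.IrrCharacter G // Q χ} := by
    refine RealInduced.card_linear_le N T hNT hθ hT hψ hres hcomm Pr Q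
      (fun χ h => by rw [CharAverage.irr_apply_one χ, h.1, Nat.cast_one]) ?_
    intro lam χ hχ he hl h'
    constructor
    · have h1 : Cfsg.indFun T (fun s : T => ψ s * (lam s : ℂ)) 1 = (d : ℂ) := by
        rw [CharInduced.ind_one_apply]
        simp [hψdef, hd]
      have h2 := CharAverage.irr_apply_one ⟨_, h'⟩
      exact_mod_cast h2.symm.trans h1
    · have hreal := RealChars.real_of_nu_ne_zero χ (by rw [hχ.2]; exact one_ne_zero)
      have hlsq : ∀ g : G, (lam (g * g) : ℂ) = 1 := fun g => by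
        have h1 := CharBasicDecomp.norm_linear lam g
        have h2 : (lam g : ℂ) * (starRingEnd ℂ) (lam g : ℂ) = 1 := by
          rw [Complex.mul_conj', h1]; norm_num
        rw [Complex.conj_eq_iff_im.mpr (by have := hreal g; rwa [he] at this)] at h2
        rw [map_mul, Units.val_mul, h2]
      show RealChars.nu (Cfsg.indFun T fun s : T => ψ s * (lam s : ℂ)) = 1
      rw [← hnu, show (fun s : T => ψ s * (lam s : ℂ)) = (fun s : T => ψ s * (fun g : G => (lam g : ℂ)) s)
        from rfl, CharInduced.ind_mul_res T ψ (CharInduced.isClassFunction_irr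
          (CharBasicDecomp.isIrrCharacter_linear lam)), RealChars.nu_eq, RealChars.nu_eq]
      congr 1
      exact Finset.sum_congr rfl fun g _ => by rw [Pi.mul_apply, hlsq, mul_one]
  -- the count
  haveI : Fintype {χ : Cfsg.IrrCharacter G // (Cfsg.charDegree (χ : G → ℂ) = 1 ∨
      2 ∣ Cfsg.charDegree (χ : G → ℂ)) ∧
        (Nat.card G : ℂ)⁻¹ * ∑ᶠ g : G, (χ : G → ℂ) (g * g) = 1} := Fintype.ofFinite _
  have hSmem : ∀ χ : Cfsg.IrrCharacter G, (χ ∈ Finset.univ.filter fun χ : Cfsg.IrrCharacter G =>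
      (Cfsg.charDegree (χ : G → ℂ) = 1 ∨ 2 ∣ Cfsg.charDegree (χ : G → ℂ)) ∧
        RealChars.nu (χ : G → ℂ) = 1) ↔ ((Cfsg.charDegree (χ : G → ℂ) = 1 ∨
      2 ∣ Cfsg.charDegree (χ : G → ℂ)) ∧
        (Nat.card G : ℂ)⁻¹ * ∑ᶠ g : G, (χ : G → ℂ) (g * g) = 1) := fun χ => by
    rw [Finset.mem_filter, RealChars.nu_eq_finsum]
    exact and_iff_right (Finset.mem_univ _)
  rw [finsum_eq_sum_of_fintype,
    ← Finset.sum_subtype _ hSmem (fun χ => Cfsg.charDegree (χ : G → ℂ)),
    Nat.subtype_card _ hSmem]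
  rw [Nat.card_eq_fintype_card, Nat.card_eq_fintype_card, Fintype.card_subtype,
    Fintype.card_subtype] at hle
  set S := Finset.univ.filter fun χ : Cfsg.IrrCharacter G =>
    (Cfsg.charDegree (χ : G → ℂ) = 1 ∨ 2 ∣ Cfsg.charDegree (χ : G → ℂ)) ∧
      RealChars.nu (χ : G → ℂ) = 1 with hS
  have eQ : Finset.univ.filter Q = S.filter Q := by
    ext χ
    simp only [hS, Finset.mem_filter, Finset.mem_univ, true_and]
    exact ⟨fun h => ⟨⟨Or.inr (h.1 ▸ hdeven), h.2⟩, h⟩, fun h => h.2⟩
  have eP : Finset.univ.filter Pr = S.filter Pr := by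
    ext χ
    simp only [hS, Finset.mem_filter, Finset.mem_univ, true_and]
    exact ⟨fun h => ⟨⟨Or.inl h.1, h.2⟩, h⟩, fun h => h.2⟩
  rw [eQ, eP, Finset.card_filter, Finset.card_filter, Finset.mul_sum] at hle
  have hterm : ∑ χ ∈ S, (4 + d * (if Q χ then 1 else 0)) ≤
      ∑ χ ∈ S, (3 * Cfsg.charDegree (χ : G → ℂ) + (if Pr χ then 1 else 0)) := by
    refine Finset.sum_le_sum fun χ hχ => ?_
    simp only [hS, Finset.mem_filter, Finset.mem_univ, true_and] at hχ
    have hpos := CharAverage.irr_degree_pos χ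
    by_cases hQ : Q χ
    · rw [if_pos hQ]; have := hQ.1; omega
    · rw [if_neg hQ]
      rcases hχ.1 with h1 | ⟨c, hc⟩
      · rw [if_pos ⟨h1, hχ.2⟩]; omega
      · omega
  rw [Finset.sum_add_distrib, Finset.sum_add_distrib, Finset.sum_const, smul_eq_mul,
    ← Finset.mul_sum] at hterm
  simp only [Pr, Q, ← Finset.mul_sum] at hterm hle
  linarith

end Cfsg.Agent.S4871
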