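import Cfsg.Statements.S4872
import Cfsg.Agent.S0165
import Cfsg.Agent.Lib.RealRep79
import Cfsg.Agent.Lib.CharProjDegree
import Cfsg.Agent.Lib.CharCliffordCorr
import Cfsg.Agent.Lib.DegreeDvd

set_option autoImplicit false
open Cfsg
open scoped ComplexConjugate
open Matrix

namespace Cfsg.Agent.S4872

universe u

variable {G : Type u} [Group G]

/-- An irreducible character of negative indicator contains the trivial character of any subgroup
with even multiplicity. -/
theorem even_fixed [Fintype G] {n : ℕ} (ρ : Representation ℂ G (Fin n → ℂ)) [ρ.IsIrreducible]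
    (hν : FSIndicatorSum.nu ρ.character = -1) (P : Subgroup G) :
    Even (Module.finrank ℂ (Representation.invariants (ρ.comp P.subtype))) := by
  classical
  rcases RealRep79.dichotomy ρ with ⟨-, h0, -⟩ | ⟨M, hM0, hM, -, hT, -⟩
  · rw [hν] at h0; norm_num at h0
  rw [hν, neg_one_smul] at hT
  by_contra hodd
  rw [Nat.not_even_iff_odd] at hodd
  set τ : Representation ℂ P (Fin n → ℂ) := ρ.comp P.subtype with hτ
  set a := Module.finrank ℂ τ.invariants with ha
  let b := Module.finBasis ℂ τ.invariants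
  let A : Matrix (Fin a) (Fin a) ℂ := fun i j => (b i : Fin n → ℂ) ⬝ᵥ M *ᵥ (b j : Fin n → ℂ)
  have hA : Aᵀ = -A := by
    ext i j
    show (b j : Fin n → ℂ) ⬝ᵥ M *ᵥ (b i : Fin n → ℂ) = -((b i : Fin n → ℂ) ⬝ᵥ M *ᵥ (b j : Fin n → ℂ))
    rw [dotProduct_mulVec, dotProduct_comm, ← Matrix.mulVec_transpose, hT, Matrix.neg_mulVec,
      dotProduct_neg]
  have hdet : A.det = 0 := by
    have h := congrArg Matrix.det hA
    rw [Matrix.det_transpose, Matrix.det_neg, Fintype.card_fin, hodd.neg_one_pow] at h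
    linear_combination h / 2
  obtain ⟨c, hc0, hc⟩ := Matrix.exists_vecMul_eq_zero_iff.mpr hdet
  set v : τ.invariants := ∑ i, c i • b i with hv
  have hv0 : v ≠ 0 := fun h =>
    hc0 (funext (Fintype.linearIndependent_iff.mp b.linearIndependent c h))
  have hvb : ∀ j, (v : Fin n → ℂ) ⬝ᵥ M *ᵥ (b j : Fin n → ℂ) = 0 := by
    intro j
    have := congrFun hc j
    rw [hv, Submodule.coe_sum, sum_dotProduct]
    simp only [Submodule.coe_smul, smul_dotProduct, smul_eq_mul]
    exact this
  have hvW : ∀ w : τ.invariants, (v : Fin n → ℂ) ⬝ᵥ M *ᵥ (w : Fin n → ℂ) = 0 := by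
    intro w
    clear_value v
    rw [← b.sum_repr w, Submodule.coe_sum, Matrix.mulVec_sum, dotProduct_sum]
    exact Finset.sum_eq_zero fun j _ => by
      rw [Submodule.coe_smul, Matrix.mulVec_smul, dotProduct_smul, hvb, smul_zero]
  haveI : Fintype P := Fintype.ofFinite P
  have hall : ∀ x : Fin n → ℂ, (v : Fin n → ℂ) ⬝ᵥ M *ᵥ x = 0 := by
    intro x
    have hx : (∑ u : P, τ u x) ∈ τ.invariants := by
      intro g
      rw [map_sum]
      refine Fintype.sum_equiv (Equiv.mulLeft g) _ _ fun u => ?_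
      simp [map_mul]
    have h1 := hvW ⟨_, hx⟩
    have h2 : ∀ u : P, (v : Fin n → ℂ) ⬝ᵥ M *ᵥ τ u x = (v : Fin n → ℂ) ⬝ᵥ M *ᵥ x := by
      intro u
      have hv' : ρ (u : G) (v : Fin n → ℂ) = v := v.2 u
      have hu : τ u x = ρ (u : G) x := rfl
      conv_lhs => rw [hu, ← hv', ← RealRep79.mat_mulVec, ← RealRep79.mat_mulVec]
      conv_rhs => rw [← hM (u : G)]
      rw [← Matrix.mulVec_mulVec, ← Matrix.mulVec_mulVec, dotProduct_mulVec (v : Fin n → ℂ)
        (RealRep79.mat ρ u)ᵀ, Matrix.vecMul_transpose]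
    rw [Matrix.mulVec_sum, dotProduct_sum, Finset.sum_congr rfl (fun u _ => h2 u),
      Finset.sum_const, Finset.card_univ, nsmul_eq_mul] at h1
    exact (mul_eq_zero.mp h1).resolve_left (by exact_mod_cast Fintype.card_ne_zero)
  have hvM : (v : Fin n → ℂ) ᵥ* M = 0 := by
    refine funext fun i => ?_
    have := hall (Pi.single i 1)
    rwa [dotProduct_mulVec, dotProduct_single_one] at this
  exact RealRep79.Inv.det_ne_zero hM hM0
    (Matrix.exists_vecMul_eq_zero_iff.mp ⟨_, fun h => hv0 (Subtype.ext h), hvM⟩)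

theorem main [Finite G] (N : Subgroup G) [hNn : N.Normal] (h2 : IsPGroup 2 (G ⧸ N))
    (φ : Cfsg.IrrCharacter ↥N)
    (hdef : 2 ^ (Nat.card ↥N).factorization 2 ∣ Cfsg.charDegree (φ : ↥N → ℂ))
    (hconj : ∃ g : G, ∀ n n' : ↥N, (n' : G) = g * (n : G) * g⁻¹ →
      (φ : ↥N → ℂ) n' = conj ((φ : ↥N → ℂ) n)) :
    ∃ χ : Cfsg.IrrCharacter G, (Nat.card G : ℂ)⁻¹ * ∑ᶠ g : G, (χ : G → ℂ) (g * g) = 1 ∧
      (Nat.card ↥N : ℂ)⁻¹ * ∑ᶠ n : ↥N, (χ : G → ℂ) n * conj ((φ : ↥N → ℂ) n) = 1 := by
  classical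
  haveI : Fintype G := Fintype.ofFinite G
  haveI : Fintype N := Fintype.ofFinite N
  haveI : Finite (IrrCharacter G) := CharBasicOrth.finite_irrCharacter
  obtain ⟨g₀, hg₀⟩ := hconj
  obtain ⟨d, σ, hσi, hσ⟩ := φ.2
  haveI := hσi
  have hφ1 : (φ : N → ℂ) 1 = d := by
    rw [← hσ, Representation.char_one, Module.finrank_fin_fun]
  rw [show Cfsg.charDegree (φ : ↥N → ℂ) = d by
    rw [Cfsg.charDegree, hφ1, Complex.natCast_re, Nat.floor_natCast]] at hdef
  set β := (Nat.card ↥N).factorization 2 with hβ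
  have hNpos : Nat.card ↥N ≠ 0 := Nat.card_pos.ne'
  have hN1 : ¬ 2 ^ (β + 1) ∣ Nat.card ↥N :=
    Nat.pow_succ_factorization_not_dvd hNpos Nat.prime_two
  have hdN : d ∣ Nat.card ↥N := by
    have h := DegreeDvd.finrank_dvd_card σ
    rwa [Module.finrank_fin_fun] at h
  have hvan : ∀ x : N, 2 ∣ orderOf x → (φ : N → ℂ) x = 0 := by
    intro x hx
    rw [← hσ]
    exact S0165.result σ 2 β Nat.prime_two (Nat.ordProj_dvd _ _) hN1
      (by rw [Module.finrank_fin_fun]; exact hdef) x hx
  obtain ⟨m, hm⟩ := hdef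
  have hmodd : Odd m := by
    rw [Nat.odd_iff]
    by_contra h
    obtain ⟨j, rfl⟩ : 2 ∣ m := Nat.dvd_of_mod_eq_zero (by omega)
    exact hN1 (dvd_trans (Dvd.intro j (by rw [hm, pow_succ, mul_assoc])) hdN)
  obtain ⟨k, hk⟩ := IsPGroup.iff_card.mp h2
  rw [← Subgroup.index_eq_card] at hk
  let P : Sylow 2 G := default
  haveI : Fintype (P : Subgroup G) := Fintype.ofFinite _
  have hP : Nat.card (P : Subgroup G) = 2 ^ (k + β) := by
    rw [P.card_eq_multiplicity, ← N.card_mul_index, hk,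
      Nat.factorization_mul hNpos (pow_ne_zero _ (by norm_num)), Finsupp.add_apply,
      Nat.Prime.factorization_pow Nat.prime_two, Finsupp.single_eq_same, ← hβ, add_comm]
  -- the multiplicities on `P` and under `φ`
  have ha : ∀ χ : IrrCharacter G, ∃ a : ℕ,
      (Nat.card (P : Subgroup G) : ℂ)⁻¹ * ∑ u : (P : Subgroup G), (χ : G → ℂ) u = a ∧
      ∀ (n : ℕ) (ρ : Representation ℂ G (Fin n → ℂ)), ρ.character = (χ : G → ℂ) →
        Module.finrank ℂ (Representation.invariants (ρ.comp (P : Subgroup G).subtype)) = a := by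
    intro χ
    have key : ∀ (n : ℕ) (ρ : Representation ℂ G (Fin n → ℂ)), ρ.character = (χ : G → ℂ) →
        (Nat.card (P : Subgroup G) : ℂ)⁻¹ * ∑ u : (P : Subgroup G), (χ : G → ℂ) u =
          Module.finrank ℂ (Representation.invariants (ρ.comp (P : Subgroup G).subtype)) := by
      intro n ρ h
      haveI : Invertible (Nat.card (P : Subgroup G) : ℂ) :=
        invertibleOfNonzero (by exact_mod_cast Nat.card_pos.ne')
      rw [← Representation.card_inv_mul_sum_char_eq_finrank, ← h]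
      rfl
    obtain ⟨n, ρ, -, h⟩ := χ.2
    exact ⟨_, key n ρ h, fun n' ρ' h' => by exact_mod_cast (key n' ρ' h').symm.trans (key n ρ h)⟩
  choose a ha hafix using ha
  have hφc := CharBasic.isCharacter_of_isIrrCharacter φ.2
  choose e he using fun χ : IrrCharacter G => CharBasicOrth.classInner_isCharacter
    (CharInduced.isCharacter_res N (CharBasic.isCharacter_of_isIrrCharacter χ.2)) hφc
  -- the total is odd
  have hsum : ∑ χ, a χ * e χ = m := by
    have key : ∀ u : (P : Subgroup G), ∀ n : N,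
        ∑ χ : IrrCharacter G, (χ : G → ℂ) u * ((χ : G → ℂ) n * conj ((φ : N → ℂ) n)) =
          if (u : G) = 1 ∧ n = 1 then (Nat.card G : ℂ) * d else 0 := by
      intro u n
      have h1 : ∀ χ : IrrCharacter G, (χ : G → ℂ) u = conj ((χ : G → ℂ) (u : G)⁻¹) := by
        intro χ
        rw [CharBasic.isCharacter_inv (CharBasic.isCharacter_of_isIrrCharacter χ.2),
          Complex.conj_conj]
      rw [Finset.sum_congr rfl (g := fun χ : IrrCharacter G => ((χ : G → ℂ) n *
        conj ((χ : G → ℂ) (u : G)⁻¹)) * conj ((φ : N → ℂ) n)) (fun χ _ => by rw [← h1 χ]; ring),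
        ← Finset.sum_mul, CharBasicOrth.sum_irr_mul_conj]
      by_cases hc : IsConj (n : G) (u : G)⁻¹
      · rw [if_pos hc]
        by_cases hu : (u : G) = 1
        · rw [hu, inv_one, isConj_one_left] at hc
          have hn : n = 1 := Subtype.ext hc
          subst hn
          rw [if_pos ⟨hu, rfl⟩, hφ1, Complex.conj_natCast]
          congr 1
          have hC : Subgroup.centralizer ({((1 : N) : G)} : Set G) = ⊤ := by
            simp [Subgroup.eq_top_iff', Subgroup.mem_centralizer_iff]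
          rw [hC, Subgroup.card_top]
        · rw [if_neg fun h => hu h.1]
          have hx : 2 ∣ orderOf n := by
            obtain ⟨c, hc⟩ := isConj_iff.mp hc
            have h3 : orderOf n = orderOf u := by
              rw [← Subgroup.orderOf_coe n, ← Subgroup.orderOf_coe u, ← orderOf_inv (u : G), ← hc]
              exact ((MulAut.conj c).orderOf_eq (n : G)).symm
            obtain ⟨i, hi⟩ := IsPGroup.iff_orderOf.mp P.2 u
            rw [h3, hi]
            refine dvd_pow_self 2 fun h0 => hu ?_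
            rw [h0, pow_zero, orderOf_eq_one_iff] at hi
            simp [hi]
          rw [hvan n hx, map_zero, mul_zero]
      · rw [if_neg hc, zero_mul, if_neg]
        rintro ⟨hu, rfl⟩
        simp [hu] at hc
    have hcast : ((∑ χ, a χ * e χ : ℕ) : ℂ) = (m : ℂ) := by
      push_cast
      rw [Finset.sum_congr rfl (g := fun χ : IrrCharacter G => ((Nat.card (P : Subgroup G) : ℂ)⁻¹ *
        (Nat.card N : ℂ)⁻¹) * ∑ u : (P : Subgroup G), ∑ n : N,
          (χ : G → ℂ) u * ((χ : G → ℂ) n * conj ((φ : N → ℂ) n))) (fun χ _ => by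
        rw [← ha, ← he]
        simp only [Cfsg.classInner, ← Finset.mul_sum, ← Finset.sum_mul]
        ring)]
      rw [← Finset.mul_sum, Finset.sum_comm]
      simp_rw [Finset.sum_comm (γ := IrrCharacter G), key]
      rw [Finset.sum_eq_single (1 : (P : Subgroup G)), Finset.sum_eq_single (1 : N)]
      · rw [if_pos ⟨rfl, rfl⟩, ← N.card_mul_index, hk, hP, hm]
        have : (Nat.card N : ℂ) ≠ 0 := Nat.cast_ne_zero.mpr hNpos
        push_cast
        field_simp
        ring
      · intro n _ hn; rw [if_neg fun h => hn h.2]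
      · simp
      · intro u _ hu
        exact Finset.sum_eq_zero fun n _ => if_neg fun h => hu (Subtype.ext h.1)
      · simp
    exact_mod_cast hcast
  -- complex conjugation preserves both multiplicities
  let star' : IrrCharacter G → IrrCharacter G := fun χ =>
    ⟨fun g => conj ((χ : G → ℂ) g), CharBasicDecomp.isIrrCharacter_conj χ.2⟩
  have hstar : ∀ χ, a (star' χ) = a χ ∧ e (star' χ) = e χ := by
    intro χ
    constructor
    · have : (a (star' χ) : ℂ) = conj (a χ : ℂ) := by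
        rw [← ha, ← ha, map_mul, map_sum, map_inv₀, Complex.conj_natCast]
      rw [Complex.conj_natCast] at this
      exact_mod_cast this
    · have : (e (star' χ) : ℂ) = conj (e χ : ℂ) := by
        rw [← he, ← he]
        simp only [Cfsg.classInner, map_mul, map_sum, map_inv₀, Complex.conj_natCast,
          Complex.conj_conj, star']
        congr 1
        let cN : N ≃* N := MulAut.conjNormal g₀
        refine (Fintype.sum_equiv cN.toEquiv _ _ fun n => ?_)
        have hcn : ((cN n : N) : G) = g₀ * n * g₀⁻¹ := MulAut.conjNormal_apply g₀ n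
        show conj ((χ : G → ℂ) n) * conj ((φ : N → ℂ) n) =
          conj ((χ : G → ℂ) (cN n : N)) * (φ : N → ℂ) (cN n)
        rw [hg₀ n (cN n) hcn, hcn, CharBasic.isClassFunction_of_isCharacter
          (CharBasic.isCharacter_of_isIrrCharacter χ.2)]
      rw [Complex.conj_natCast] at this
      exact_mod_cast this
  obtain ⟨χ, hreal, hao, heo⟩ : ∃ χ, star' χ = χ ∧ Odd (a χ) ∧ Odd (e χ) := by
    by_contra hc
    push Not at hc
    have : ∑ χ : IrrCharacter G, ((a χ * e χ : ℕ) : ZMod 2) = 0 := by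
      refine Finset.sum_involution (fun χ _ => star' χ) (fun χ _ => ?_) (fun χ _ hne hfix => ?_)
        (fun χ _ => Finset.mem_univ _)
        (fun χ _ => Subtype.ext (funext fun g => Complex.conj_conj _))
      · rw [(hstar χ).1, (hstar χ).2]
        exact CharTwo.add_self_eq_zero _
      · rw [Ne, ZMod.natCast_eq_zero_iff_even, Nat.not_even_iff_odd, Nat.odd_mul] at hne
        exact hc χ hfix hne.1 hne.2
    rw [← Nat.cast_sum, hsum, ZMod.natCast_eq_zero_iff_even, ← Nat.not_odd_iff_even] at this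
    exact this hmodd
  obtain ⟨n, ρ, hρi, hρ⟩ := χ.2
  haveI := hρi
  have hν : FSIndicatorSum.nu (χ : G → ℂ) = 1 := by
    rw [← hρ]
    rcases RealRep79.dichotomy ρ with ⟨-, h0, -⟩ | ⟨M, -, -, hor, -, -⟩
    · obtain ⟨g, hg⟩ := (RealRep79.nu_eq_zero_iff ρ).mp h0
      refine absurd ?_ hg
      rw [hρ]
      exact Complex.conj_eq_iff_im.mp (congrFun (congrArg Subtype.val hreal) g)
    · rcases hor with h | h
      · exact h
      · exact absurd (hafix χ n ρ hρ ▸ even_fixed ρ h (P : Subgroup G))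
          (Nat.not_even_iff_odd.mpr hao)
  have he0 : Cfsg.classInner (fun x : N => (χ : G → ℂ) x) (φ : N → ℂ) ≠ 0 := by
    rw [he]; exact_mod_cast heo.pos.ne'
  have he1 : e χ = 1 := by
    obtain ⟨kk, dd, hd1, hχ1, hkk⟩ := CharProjDegree.degree_dvd N χ.2 φ.2 he0
    have h1 := CharCliffordCorr.apply_one_eq N χ.2 φ.2 he0
    rw [he, hχ1, hd1] at h1
    have h3 : dd * kk = e χ * (CharInduced.inertia N (φ : N → ℂ)).index * dd := by exact_mod_cast h1
    have hd0 : dd ≠ 0 := fun h => CharBasic.isIrrCharacter_apply_one_ne_zero φ.2 (by simp [hd1, h])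
    have h4 : kk = e χ * (CharInduced.inertia N (φ : N → ℂ)).index :=
      Nat.eq_of_mul_eq_mul_left (Nat.pos_of_ne_zero hd0) (h3.trans (mul_comm _ _))
    obtain ⟨i, -, hi⟩ := (Nat.dvd_prime_pow Nat.prime_two).mp
      (hk ▸ (Dvd.intro _ h4.symm).trans hkk)
    rcases Nat.eq_zero_or_pos i with rfl | hi0
    · exact hi
    · exact absurd ((even_iff_two_dvd).mpr (hi ▸ dvd_pow_self 2 hi0.ne'))
        (Nat.not_even_iff_odd.mpr heo)
  refine ⟨χ, ?_, ?_⟩
  · rw [← hν, FSIndicatorSum.nu, finsum_eq_sum_of_fintype]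
  · have h5 := he χ
    rw [he1, Nat.cast_one] at h5
    rw [finsum_eq_sum_of_fintype]
    exact h5

theorem result {G : Type*} [Group G] [Finite G] (N : Subgroup G) [N.Normal] (h2 : IsPGroup 2 (G ⧸ N)) (φ : Cfsg.IrrCharacter ↥N) (hdef : 2 ^ (Nat.card ↥N).factorization 2 ∣ Cfsg.charDegree (φ : ↥N → ℂ)) (hconj : ∃ g : G, ∀ n n' : ↥N, (n' : G) = g * (n : G) * g⁻¹ → (φ : ↥N → ℂ) n' = (starRingEnd ℂ) ((φ : ↥N → ℂ) n)) : ∃ χ : Cfsg.IrrCharacter G, (Nat.card G : ℂ)⁻¹ * ∑ᶠ g : G, (χ : G → ℂ) (g * g) = 1 ∧ (Nat.card ↥N : ℂ)⁻¹ * ∑ᶠ n : ↥N, (χ : G → ℂ) n * (starRingEnd ℂ) ((φ : ↥N → ℂ) n) = 1 :=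
  main N h2 φ hdef hconj

end Cfsg.Agent.S4872
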