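import Cfsg.Statements.S4873
import Cfsg.Agent.Lib.RealChars
import Cfsg.Agent.Lib.CharInducedClifford
import Cfsg.Agent.S4866
-- import your own Cfsg.Agent.* helpers here

set_option autoImplicit false
open Cfsg

namespace Cfsg.Agent.S4873

/-- Let N be a normal subgroup of odd index in the finite group G. Then every irreducible complex character of N with Frobenius–Schur indicator +1 lies under exactly one irreducible character of G with Frobenius–Schur indicator +1. -/
theorem result {G : Type*} [Group G] [Finite G] (N : Subgroup G) [N.Normal] (hodd : Odd N.index) (φ : Cfsg.IrrCharacter ↥N) (hφ : (Nat.card ↥N : ℂ)⁻¹ * ∑ᶠ g : ↥N, (φ : ↥N → ℂ) (g * g) = 1) : ∃! χ : Cfsg.IrrCharacter G, (Nat.card G : ℂ)⁻¹ * ∑ᶠ g : G, (χ : G → ℂ) (g * g) = 1 ∧ (∑ᶠ n : ↥N, (χ : G → ℂ) n * (starRingEnd ℂ) ((φ : ↥N → ℂ) n)) ≠ 0 := by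
  classical
  haveI : Fintype G := Fintype.ofFinite G
  haveI : Fintype N := Fintype.ofFinite N
  haveI : Finite (Cfsg.IrrCharacter G) := CharBasicOrth.finite_irrCharacter
  haveI : Finite (Cfsg.IrrCharacter N) := CharBasicOrth.finite_irrCharacter
  obtain ⟨a, ha⟩ := hodd
  -- an element inverted by `c` is inverted by the odd powers of `c`
  have hpow : ∀ {H : Type _} [Group H] (c x : H) (_ : c * x * c⁻¹ = x⁻¹) (j : ℕ),
      c ^ (2 * j + 1) * x * (c ^ (2 * j + 1))⁻¹ = x⁻¹ := by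
    intro H _ c x hc j
    have h2 : c * x⁻¹ * c⁻¹ = x := by rw [← conj_inv, hc, inv_inv]
    induction j with
    | zero => simpa using hc
    | succ j ih =>
      rw [show 2 * (j + 1) + 1 = 1 + (1 + (2 * j + 1)) by ring, pow_add c 1, pow_add c 1, pow_one]
      calc c * (c * c ^ (2 * j + 1)) * x * (c * (c * c ^ (2 * j + 1)))⁻¹
          = c * (c * (c ^ (2 * j + 1) * x * (c ^ (2 * j + 1))⁻¹) * c⁻¹) * c⁻¹ := by group
        _ = _ := by rw [ih, h2, hc]
  -- square roots of elements of `N` lie in `N`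
  have hsqN : ∀ x : G, x * x ∈ N → x ∈ N := by
    intro x hx
    have h1 := Subgroup.pow_index_mem N x
    rw [ha, pow_add, pow_mul, pow_one, pow_two] at h1
    simpa using N.mul_mem (N.inv_mem (N.pow_mem hx a)) h1
  -- real elements lie in `N` and are real there
  have hrealN : ∀ x : G, IsConj x x⁻¹ → x ∈ N := by
    intro x hx
    obtain ⟨c, hc⟩ := isConj_iff.mp hx
    have h1 := hpow c x hc a
    have hcN : c ^ (2 * a + 1) ∈ N := by rw [← ha]; exact Subgroup.pow_index_mem N c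
    apply hsqN
    have h2 : c ^ (2 * a + 1) * (x * (c ^ (2 * a + 1))⁻¹ * x⁻¹) ∈ N :=
      N.mul_mem hcN ((inferInstance : N.Normal).conj_mem _ (N.inv_mem hcN) x)
    rw [← mul_assoc, ← mul_assoc, h1] at h2
    simpa [mul_inv_rev] using N.inv_mem h2
  have hrealN' : ∀ x : N, IsConj (x : G) (x : G)⁻¹ → IsConj x x⁻¹ := by
    intro x hx
    obtain ⟨c, hc⟩ := isConj_iff.mp hx
    exact isConj_iff.mpr ⟨⟨c ^ (2 * a + 1), by rw [← ha]; exact Subgroup.pow_index_mem N c⟩,
      Subtype.ext (hpow c x hc a)⟩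
  -- signed multiplicities add up to the indicator
  have hformula : ∀ θ : Cfsg.IrrCharacter N, ∑ χ : Cfsg.IrrCharacter G,
      RealChars.nu (χ : G → ℂ) * Cfsg.classInner (fun n : N => (χ : G → ℂ) n) (θ : N → ℂ) =
        RealChars.nu (θ : N → ℂ) := by
    intro θ
    have h1 : (fun n : N => (Nat.card {x : G // x * x = (n : G)} : ℂ)) =
        fun n : N => (Nat.card {x : N // x * x = n} : ℂ) := funext fun n => by
      congr 1
      exact Nat.card_congr
        { toFun := fun x => ⟨⟨x.1, hsqN x.1 (by rw [x.2]; exact n.2)⟩, Subtype.ext x.2⟩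
          invFun := fun x => ⟨x.1, by rw [← Subgroup.coe_mul, x.2]⟩
          left_inv := fun x => rfl
          right_inv := fun x => rfl }
    calc _ = Cfsg.classInner (fun n : N => (Nat.card {x : G // x * x = (n : G)} : ℂ)) θ := by
          rw [show (fun n : N => (Nat.card {x : G // x * x = (n : G)} : ℂ)) =
            ∑ χ : Cfsg.IrrCharacter G, RealChars.nu (χ : G → ℂ) • fun n : N => (χ : G → ℂ) n from
            funext fun n => by rw [RealChars.sqrtCount_eq, Finset.sum_apply]; rfl,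
            CharInduced.inner_sum_left]
          simp only [CharInduced.inner_smul_left]
      _ = Cfsg.classInner (∑ ψ : Cfsg.IrrCharacter N, RealChars.nu (ψ : N → ℂ) • (ψ : N → ℂ)) θ := by
          rw [h1]
          congr 1
          funext n
          rw [RealChars.sqrtCount_eq, Finset.sum_apply]
          rfl
      _ = _ := by
          rw [CharInduced.inner_sum_left, Finset.sum_eq_single θ]
          · rw [CharInduced.inner_smul_left, CharBasicOrth.classInner_irr_self θ.2, mul_one]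
          · intro ψ _ hne
            rw [CharInduced.inner_smul_left, CharBasicOrth.classInner_irr_ne ψ.2 θ.2
              (fun e => hne (Subtype.ext e)), mul_zero]
          · simp
  let R := {χ : Cfsg.IrrCharacter G // ∀ g : G, ((χ : G → ℂ) g).im = 0}
  let X := {θ : Cfsg.IrrCharacter N // (∀ k : N, ((θ : N → ℂ) k).im = 0)}
  have hex : ∀ θ : X, ∃ χ : R,
      Cfsg.classInner (fun n : N => (χ.1 : G → ℂ) n) (θ.1 : N → ℂ) ≠ 0 := by
    intro θ
    by_contra hno
    push Not at hno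
    have h := hformula θ.1
    rw [Finset.sum_eq_zero fun χ _ => ?_] at h
    · rcases RealChars.nu_eq_one_or_neg_one θ.1 θ.2 with h' | h' <;> rw [h'] at h <;> norm_num at h
    · by_cases hr : ∀ g : G, ((χ : G → ℂ) g).im = 0
      · rw [hno ⟨χ, hr⟩, mul_zero]
      · rw [RealChars.nu_eq_zero χ hr, zero_mul]
  choose ch hch using hex
  let rel : X → X → Prop := fun θ η => ∃ g : G, ∀ k k' : N, (k' : G) = g * (k : G) * g⁻¹ →
    (η.1 : N → ℂ) k' = (θ.1 : N → ℂ) k
  have hconst : ∀ (θ η : X) (χ : R), Cfsg.classInner (fun n : N => (χ.1 : G → ℂ) n) (θ.1 : N → ℂ) ≠ 0 →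
      Cfsg.classInner (fun n : N => (χ.1 : G → ℂ) n) (η.1 : N → ℂ) ≠ 0 →
      Quot.mk rel θ = Quot.mk rel η := by
    intro θ η χ h1 h2
    obtain ⟨g, hg⟩ := (CharInduced.mem_orbitFin N).1
      (CharInduced.mem_orbit_of_constituents N χ.1.2 θ.1.2 η.1.2 h1 h2)
    refine Quot.sound ⟨g⁻¹, fun k k' hk => ?_⟩
    rw [← hg]
    show (θ.1 : N → ℂ) _ = _
    exact congrArg (θ.1 : N → ℂ) (Subtype.ext (show g * (k' : G) * g⁻¹ = (k : G) by rw [hk]; group))
  let f : Quot rel → R := fun q => ch q.out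
  have hf : Function.Injective f := fun q q' e => by
    have := hconst q.out q'.out (f q) (hch _) (by rw [e]; exact hch _)
    rwa [Quot.out_eq, Quot.out_eq] at this
  have hcard : Nat.card (Quot rel) = Nat.card R := by
    rw [RealChars.card_real_eq]
    refine (S4866.result N ⟨a, ha⟩).trans (Nat.card_eq_of_bijective (fun q => Quot.liftOn q
      (fun x : {x : N // IsConj x x⁻¹} => (⟨ConjClasses.mk (x.1 : G), fun g hg => ?_⟩ :
        {C : ConjClasses G // ∀ g : G, ConjClasses.mk g = C → IsConj g g⁻¹})) ?_) ⟨?_, ?_⟩)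
    · obtain ⟨u, hu⟩ := isConj_iff.mp x.2
      obtain ⟨w, hw⟩ := isConj_iff.mp (ConjClasses.mk_eq_mk_iff_isConj.mp hg)
      have h1 : IsConj (x.1 : G) (x.1 : G)⁻¹ :=
        isConj_iff.mpr ⟨u, congrArg Subtype.val hu⟩
      have h2 : IsConj (x.1 : G)⁻¹ g⁻¹ := isConj_iff.mpr ⟨w⁻¹, by rw [← hw]; group⟩
      exact ((ConjClasses.mk_eq_mk_iff_isConj.mp hg).trans h1).trans h2
    · rintro x y ⟨g, hg⟩
      exact Subtype.ext (ConjClasses.mk_eq_mk_iff_isConj.mpr (isConj_iff.mpr ⟨g, hg.symm⟩))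
    · intro q q'
      induction q using Quot.ind with
      | mk x =>
        induction q' using Quot.ind with
        | mk y =>
          intro e
          obtain ⟨g, hg⟩ := isConj_iff.mp
            (ConjClasses.mk_eq_mk_iff_isConj.mp (congrArg Subtype.val e))
          exact Quot.sound ⟨g, hg.symm⟩
    · rintro ⟨C, hC⟩
      obtain ⟨x, rfl⟩ := ConjClasses.mk_surjective C
      exact ⟨Quot.mk _ ⟨⟨x, hrealN x (hC x rfl)⟩, hrealN' _ (hC x rfl)⟩, rfl⟩
  have hfb : Function.Bijective f :=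
    ⟨hf, (hf.bijective_of_nat_card_le hcard.ge).2⟩
  -- the given character
  rw [← RealChars.nu_eq_finsum] at hφ
  let φ' : X := ⟨φ, RealChars.real_of_nu_ne_zero φ (by rw [hφ]; exact one_ne_zero)⟩
  have honly : ∀ χ : R, Cfsg.classInner (fun n : N => (χ.1 : G → ℂ) n) (φ : N → ℂ) ≠ 0 →
      χ = f (Quot.mk rel φ') := by
    intro χ hχ
    obtain ⟨q, rfl⟩ := hfb.2 χ
    have := hconst q.out φ' (f q) (hch _) hχ
    rw [Quot.out_eq] at this
    rw [this]
  set χ0 := f (Quot.mk rel φ') with hχ0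
  have hover : Cfsg.classInner (fun n : N => (χ0.1 : G → ℂ) n) (φ : N → ℂ) ≠ 0 := by
    obtain ⟨χ, hχ⟩ : ∃ χ : R, Cfsg.classInner (fun n : N => (χ.1 : G → ℂ) n) (φ : N → ℂ) ≠ 0 :=
      ⟨ch φ', hch φ'⟩
    rwa [honly χ hχ] at hχ
  have hsum : RealChars.nu (χ0.1 : G → ℂ) *
      Cfsg.classInner (fun n : N => (χ0.1 : G → ℂ) n) (φ : N → ℂ) = 1 := by
    rw [← hφ, ← hformula φ, Finset.sum_eq_single χ0.1]
    · intro χ _ hne
      by_cases hr : ∀ g : G, ((χ : G → ℂ) g).im = 0
      · by_cases h0 : Cfsg.classInner (fun n : N => (χ : G → ℂ) n) (φ : N → ℂ) = 0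
        · rw [h0, mul_zero]
        · exact absurd (congrArg Subtype.val (honly ⟨χ, hr⟩ h0)) hne
      · rw [RealChars.nu_eq_zero χ hr, zero_mul]
    · simp
  have hnu : RealChars.nu (χ0.1 : G → ℂ) = 1 := by
    rcases RealChars.nu_eq_one_or_neg_one χ0.1 χ0.2 with h | h
    · exact h
    · exfalso
      obtain ⟨n, hn⟩ := CharBasicOrth.classInner_isCharacter
        (CharInduced.isCharacter_res N (CharBasic.isCharacter_of_isIrrCharacter χ0.1.2))
        (CharBasic.isCharacter_of_isIrrCharacter φ.2)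
      rw [h, hn, neg_one_mul, neg_eq_iff_add_eq_zero] at hsum
      norm_cast at hsum
  have hconv : ∀ χ : Cfsg.IrrCharacter G,
      (∑ᶠ n : N, (χ : G → ℂ) n * (starRingEnd ℂ) ((φ : N → ℂ) n)) ≠ 0 ↔
        Cfsg.classInner (fun n : N => (χ : G → ℂ) n) (φ : N → ℂ) ≠ 0 := fun χ => by
    rw [Cfsg.classInner, finsum_eq_sum_of_fintype, mul_ne_zero_iff]
    exact (and_iff_right (inv_ne_zero (Nat.cast_ne_zero.2 Nat.card_pos.ne'))).symm
  refine ⟨χ0.1, ⟨by rw [← RealChars.nu_eq_finsum, hnu], (hconv _).2 hover⟩, ?_⟩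
  rintro χ ⟨h1, h2⟩
  rw [← RealChars.nu_eq_finsum] at h1
  exact congrArg Subtype.val (honly ⟨χ, RealChars.real_of_nu_ne_zero χ (by rw [h1]; exact one_ne_zero)⟩
    ((hconv _).1 h2))

end Cfsg.Agent.S4873
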