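import Cfsg.Statements.S4885
import Cfsg.Agent.Lib.PrincipalQuot80
import Cfsg.Agent.Lib.TransferTate
import Cfsg.Agent.Lib.PGroupsBasic
import Cfsg.Agent.Lib.CharKernel
import Cfsg.Agent.Lib.CharInducedBasic
import Cfsg.Agent.Lib.CharInducedRep
import Cfsg.Agent.Lib.HallSolvable

set_option autoImplicit false
open Cfsg

namespace Cfsg.Agent.S4885

open scoped ComplexConjugate

universe u

variable {G : Type u} [Group G] [Finite G]

theorem exists_pPrime_constituent [Fintype G] {p : ℕ} [Fact p.Prime] (P : Sylow p G)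
    [Fintype (P : Subgroup G)] (lam : (P : Subgroup G) →* ℂˣ) :
    ∃ ψ : IrrCharacter G, ¬ p ∣ charDegree (ψ : G → ℂ) ∧
      ∀ y : (P : Subgroup G), (ψ : G → ℂ) y = (ψ : G → ℂ) 1 → lam y = 1 := by
  set a := indFun (P : Subgroup G) (fun z => (lam z : ℂ)) with ha
  have hac : IsCharacter G a := CharInduced.isCharacter_ind _
    (CharBasicDecomp.isCharacter_linear lam)
  obtain ⟨m, hm, hsum⟩ := CharBasicDecomp.exists_mult hac
  obtain ⟨ψ, hψ0, hψd⟩ : ∃ ψ : IrrCharacter G, m ψ ≠ 0 ∧ ¬ p ∣ charDegree (ψ : G → ℂ) := by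
    by_contra! hall
    have h1 := congrFun hsum 1
    rw [ha, CharInduced.ind_one_apply, map_one, Units.val_one, mul_one, Finset.sum_apply] at h1
    have h2 : (P : Subgroup G).index = ∑ ψ : IrrCharacter G, m ψ * charDegree (ψ : G → ℂ) := by
      apply Nat.cast_injective (R := ℂ)
      rw [Nat.cast_sum, h1]
      refine Finset.sum_congr rfl fun ψ _ => ?_
      rw [Pi.smul_apply, CharAverage.irr_apply_one ψ, smul_eq_mul, Nat.cast_mul]
    refine P.not_dvd_index ?_
    rw [h2]
    refine Finset.dvd_sum fun ψ _ => ?_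
    by_cases h0 : m ψ = 0
    · simp [h0]
    · exact dvd_mul_of_dvd_right (hall ψ h0) _
  refine ⟨ψ, hψd, fun y hy => ?_⟩
  obtain ⟨n, ρ, _, hρ⟩ := id ψ.2
  have hy1 : ρ (y : G) = 1 := by
    rw [← hρ, Representation.char_one, CharBasic.character_eq_finrank_iff] at hy
    exact hy
  have hmul : ∀ z : G, (ψ : G → ℂ) (z * y) = (ψ : G → ℂ) z := by
    intro z
    rw [← hρ]
    simp only [Representation.character, map_mul, hy1, mul_one]
  set s := ∑ z : (P : Subgroup G), (lam z : ℂ) * conj ((ψ : G → ℂ) z) with hs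
  have hs0 : s ≠ 0 := by
    intro h
    apply hψ0
    have h1 := hm ψ
    rw [ha, CharInduced.inner_ind_left _ _ (CharBasic.isClassFunction_of_isCharacter
      (CharBasic.isCharacter_of_isIrrCharacter ψ.2))] at h1
    simp only [classInner] at h1
    rw [← hs, h, mul_zero] at h1
    exact_mod_cast h1.symm
  have e : s * (lam y : ℂ) = s := by
    rw [hs, Finset.sum_mul]
    refine Fintype.sum_equiv (Equiv.mulRight y) _ _ fun z => ?_
    rw [Equiv.coe_mulRight, map_mul, Units.val_mul, Subgroup.coe_mul, hmul]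
    ring
  exact Units.ext (mul_left_cancel₀ hs0 (e.trans (mul_one s).symm))

/-- The quotient by a normal subgroup killed by the principal characters of `p'`-degree. -/
theorem core_step {p : ℕ} [Fact p.Prime] (hps : IsPSolvable p G) {M : Ideal AlgInt}
    (hM : IsPModular p M) (L : Subgroup G) [L.Normal] (hKL : pPrimeCore p G ≤ L)
    (hX : ∀ χ : IrrCharacter G, χ ∈ principalBlock M G → ¬ p ∣ charDegree (χ : G → ℂ) →
      ∀ x ∈ L, (χ : G → ℂ) x = (χ : G → ℂ) 1) :
    pPrimeCore p (G ⧸ L) = ⊥ ∧ (L = ⊤ → ¬ p ∣ Nat.card G) := by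
  classical
  have hp : p.Prime := Fact.out
  have := HallCore.pPrimeCore_normal p G
  set K := pPrimeCore p G with hK
  set f := QuotientGroup.mk' K with hf
  have : Fintype (G ⧸ K) := Fintype.ofFinite _
  obtain ⟨P⟩ : Nonempty (Sylow p (G ⧸ K)) := inferInstance
  have : Fintype (P : Subgroup (G ⧸ K)) := Fintype.ofFinite _
  -- the image of `L` meets the Sylow subgroup in its derived subgroup
  have hder : L.map f ⊓ (P : Subgroup (G ⧸ K)) ≤
      (commutator (P : Subgroup (G ⧸ K))).map (P : Subgroup (G ⧸ K)).subtype := by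
    rintro x ⟨hx, hxP⟩
    refine ⟨⟨x, hxP⟩, ?_, rfl⟩
    by_contra hne
    have hne1 : Abelianization.of (⟨x, hxP⟩ : (P : Subgroup (G ⧸ K))) ≠ 1 := fun h =>
      hne (by rw [← Abelianization.ker_of]; exact h)
    obtain ⟨l, hl⟩ := CommGroup.exists_apply_ne_one_of_hasEnoughRootsOfUnity
      (Abelianization (P : Subgroup (G ⧸ K))) ℂ hne1
    obtain ⟨ψ, hψd, hψ⟩ := exists_pPrime_constituent P (l.comp Abelianization.of)
    let χ : IrrCharacter G := ⟨(ψ : G ⧸ K → ℂ) ∘ f,
      CharBasic.isIrrCharacter_comap f (QuotientGroup.mk'_surjective K) ψ.2⟩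
    have hχ1 : (χ : G → ℂ) 1 = (ψ : G ⧸ K → ℂ) 1 := by simp [χ]
    have hχB : χ ∈ principalBlock M G := by
      rw [PrincipalQuot80.mem_principal_iff_of_pSolvable hM hps]
      intro k hk
      show (ψ : G ⧸ K → ℂ) (f k) = (χ : G → ℂ) 1
      rw [hχ1, show f k = 1 from (QuotientGroup.eq_one_iff k).mpr hk]
    have hχd : ¬ p ∣ charDegree (χ : G → ℂ) := by
      rwa [show charDegree (χ : G → ℂ) = charDegree (ψ : G ⧸ K → ℂ) by simp [charDegree, hχ1]]
    obtain ⟨y, hy, hyx⟩ := hx
    refine hl (hψ ⟨x, hxP⟩ ?_)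
    show (ψ : G ⧸ K → ℂ) x = _
    rw [← hyx, ← hχ1]
    exact hX χ hχB hχd y hy
  have hPp : IsPGroup p (P : Subgroup (G ⧸ K)) := P.isPGroup'
  have hfr : (commutator (P : Subgroup (G ⧸ K))).map (P : Subgroup (G ⧸ K)).subtype ≤
      (frattini (P : Subgroup (G ⧸ K))).map (P : Subgroup (G ⧸ K)).subtype :=
    Subgroup.map_mono (PGroupsBasic.commutator_le_frattini hPp)
  set π : G ⧸ K →* G ⧸ L := QuotientGroup.map K L (MonoidHom.id G) (by simpa using hKL) with hπdef
  have hπ : ∀ y : G, π (f y) = (y : G ⧸ L) := fun y => rfl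
  have hπker : ∀ z : G ⧸ K, π z = 1 → z ∈ L.map f := by
    intro z hz
    obtain ⟨y, rfl⟩ := QuotientGroup.mk'_surjective K z
    exact ⟨y, (QuotientGroup.eq_one_iff y).mp ((hπ y).symm.trans hz), rfl⟩
  -- a normal subgroup with `p'`-image over `L` is inside `L`
  have key : ∀ R : Subgroup G, R.Normal → ¬ p ∣ Nat.card (R.map (QuotientGroup.mk' L)) →
      IsPGroup p (R.map f) ∧ R.map (QuotientGroup.mk' L) = ⊥ := by
    intro R hR hidx
    have hRn : (R.map f).Normal := hR.map f (QuotientGroup.mk'_surjective K)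
    have hmap : (R.map f).map π = R.map (QuotientGroup.mk' L) := by
      rw [Subgroup.map_map]; rfl
    have hinf : R.map f ⊓ (P : Subgroup (G ⧸ K)) ≤
        (frattini (P : Subgroup (G ⧸ K))).map (P : Subgroup (G ⧸ K)).subtype := by
      rintro x ⟨hx, hxP⟩
      refine hfr (hder ⟨hπker x ?_, hxP⟩)
      obtain ⟨k, hk⟩ := IsPGroup.iff_orderOf.mp hPp ⟨x, hxP⟩
      rw [Subgroup.orderOf_mk] at hk
      obtain ⟨j, -, hj⟩ := (Nat.dvd_prime_pow hp).mp (hk ▸ orderOf_map_dvd π x)
      rcases j with _ | j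
      · exact orderOf_eq_one_iff.mp (by simpa using hj)
      · refine absurd ?_ hidx
        have h1 : orderOf (π x) ∣ Nat.card (R.map (QuotientGroup.mk' L)) :=
          Subgroup.orderOf_dvd_natCard _ (hmap ▸ Subgroup.mem_map_of_mem π hx)
        rw [hj] at h1
        exact (dvd_pow_self p (Nat.succ_ne_zero j)).trans h1
    obtain ⟨Q, N, hN, hc⟩ :=
      TransferTate.hasNormalPComplement_of_normal_inf_le_frattini P (R.map f) hinf
    have hcard : (Nat.card N).Coprime p := by
      rw [Nat.coprime_comm, hp.coprime_iff_not_dvd, ← hc.index_eq_card]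
      exact Q.not_dvd_index
    have hNbot : N = ⊥ := by
      have h1 : N.map (R.map f).subtype ≤ pPrimeCore p (G ⧸ K) :=
        (Subgroup.map_mono (@HallCore.le_pPrimeCore _ _ p N hN hcard)).trans
          ((HallCore.map_subtype_pPrimeCore (R.map f)).le.trans inf_le_left)
      rw [HallCore.pPrimeCore_quotient_self, le_bot_iff,
        Subgroup.map_eq_bot_iff_of_injective _ (Subgroup.subtype_injective _)] at h1
      exact h1
    have hpg : IsPGroup p (R.map f) := by
      have hQ : (Q : Subgroup (R.map f)) = ⊤ := by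
        rw [eq_top_iff, ← hc.sup_eq_top, hNbot, bot_sup_eq]
      exact (hQ ▸ Q.isPGroup').of_equiv Subgroup.topEquiv
    refine ⟨hpg, ?_⟩
    obtain ⟨k, hk⟩ := IsPGroup.iff_card.mp (hmap ▸ hpg.map π)
    rcases k with _ | k
    · exact Subgroup.card_eq_one.mp (by simpa using hk)
    · exact absurd (hk ▸ dvd_pow_self p (Nat.succ_ne_zero k)) hidx
  constructor
  · have hn := HallCore.pPrimeCore_normal p (G ⧸ L)
    have h := key ((pPrimeCore p (G ⧸ L)).comap (QuotientGroup.mk' L)) (hn.comap _) (by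
      rw [Subgroup.map_comap_eq_self_of_surjective (QuotientGroup.mk'_surjective L)]
      exact HallCore.not_dvd_card_pPrimeCore p _)
    rw [← h.2, Subgroup.map_comap_eq_self_of_surjective (QuotientGroup.mk'_surjective L)]
  · intro hLtop
    have h := key ⊤ inferInstance (by
      rw [← hLtop, QuotientGroup.map_mk'_self, Subgroup.card_bot]
      exact hp.not_dvd_one)
    rw [Subgroup.map_top_of_surjective f (QuotientGroup.mk'_surjective K)] at h
    have hG : IsPGroup p (G ⧸ K) := h.1.of_equiv Subgroup.topEquiv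
    have hPtop : (P : Subgroup (G ⧸ K)) = ⊤ := (P.is_maximal' (hG.to_subgroup ⊤) le_top).symm
    have hc : commutator (P : Subgroup (G ⧸ K)) = ⊤ := by
      rw [eq_top_iff]
      intro z _
      obtain ⟨w, hw, hwz⟩ := hder ⟨by
        rw [hLtop, Subgroup.map_top_of_surjective f (QuotientGroup.mk'_surjective K)]
        trivial, z.2⟩
      rwa [← Subtype.ext (show ((w : (P : Subgroup (G ⧸ K))) : G ⧸ K) = z from hwz)]
    have : Group.IsNilpotent (P : Subgroup (G ⧸ K)) := hPp.isNilpotent
    have hsub : Subsingleton (P : Subgroup (G ⧸ K)) := by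
      by_contra hne
      rw [not_subsingleton_iff_nontrivial] at hne
      exact (IsSolvable.commutator_lt_top_of_nontrivial (P : Subgroup (G ⧸ K))).ne hc
    rw [hPtop] at hsub
    have h1 : Nat.card (G ⧸ K) = 1 := by
      rw [← Subgroup.card_top]; exact Nat.card_of_subsingleton (1 : (⊤ : Subgroup (G ⧸ K)))
    intro hd
    rw [← Subgroup.index_mul_card K, Subgroup.index, h1, one_mul] at hd
    exact HallCore.not_dvd_card_pPrimeCore p G hd

/-- Let p and q be primes dividing the order of the finite group G, and suppose G is p-solvable and q-solvable. Fix maximal ideals of the algebraic integers containing p and q, defining the principal p-block and the principal q-block. If the irreducible characters of degree prime to p in the principal p-block are exactly the irreducible characters of degree prime to q in the principal q-block, then p = q. -/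
theorem result {G : Type*} [Group G] [Finite G] (p q : ℕ) [Fact p.Prime] [Fact q.Prime] (hp : p ∣ Nat.card G) (hq : q ∣ Nat.card G) (hps : Cfsg.IsPSolvable p G) (hqs : Cfsg.IsPSolvable q G) (Mp Mq : Ideal Cfsg.AlgInt) (hMp : Cfsg.IsPModular p Mp) (hMq : Cfsg.IsPModular q Mq) (h : ∀ χ : Cfsg.IrrCharacter G, (χ ∈ Cfsg.principalBlock Mp G ∧ ¬ p ∣ Cfsg.charDegree (χ : G → ℂ)) ↔ (χ ∈ Cfsg.principalBlock Mq G ∧ ¬ q ∣ Cfsg.charDegree (χ : G → ℂ))) : p = q := by
  classical
  by_contra hpq
  have := Fintype.ofFinite G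
  have := HallCore.pPrimeCore_normal p G
  have := HallCore.pPrimeCore_normal q G
  set L := pPrimeCore p G ⊔ pPrimeCore q G with hL
  have hker : ∀ (r : ℕ) [Fact r.Prime] (Mr : Ideal AlgInt), IsPModular r Mr →
      ∀ χ : IrrCharacter G, χ ∈ principalBlock Mr G → pPrimeCore r G ≤ CharKernel.irrKer χ := by
    intro r _ Mr hMr χ hχ x hx
    have := HallCore.pPrimeCore_normal r G
    exact PrincipalParity80.kernel_of_principal hMr _ (HallCore.not_dvd_card_pPrimeCore r G) hχ x hx
  obtain ⟨hTp, htopP⟩ := core_step hps hMp L le_sup_left fun χ hχ hd x hx =>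
    (show L ≤ CharKernel.irrKer χ from
      sup_le (hker p Mp hMp χ hχ) (hker q Mq hMq χ ((h χ).mp ⟨hχ, hd⟩).1)) hx
  obtain ⟨hTq, -⟩ := core_step hqs hMq L le_sup_right fun χ hχ hd x hx =>
    (show L ≤ CharKernel.irrKer χ from
      sup_le (hker p Mp hMp χ ((h χ).mpr ⟨hχ, hd⟩).1) (hker q Mq hMq χ hχ)) hx
  have hcore : pCore p (G ⧸ L) = ⊥ := by
    have := HallCore.pCore_normal p (G ⧸ L)
    rw [← le_bot_iff, ← hTq]
    refine HallCore.le_pPrimeCore ?_
    obtain ⟨k, hk⟩ := IsPGroup.iff_card.mp (HallCore.isPGroup_pCore p (G ⧸ L))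
    rw [hk]
    exact Nat.Coprime.pow_left k ((Nat.coprime_primes Fact.out Fact.out).mpr hpq)
  have hc := HallSolvable.centralizer_pCore_le (HallSolvable.isPSolvable_quotient hps L) hTp
  rw [hcore] at hc
  refine htopP ?_ hp
  rw [eq_top_iff]
  intro x _
  rw [← QuotientGroup.eq_one_iff]
  exact hc (Subgroup.mem_centralizer_iff.mpr fun y hy => by
    rw [Subgroup.mem_bot.mp hy, one_mul, mul_one])

end Cfsg.Agent.S4885
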