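import Cfsg.Statements.S4886
import Cfsg.Agent.Lib.PrincipalPQ78
import Cfsg.Agent.Lib.PrincipalQuot80
import Cfsg.Agent.Lib.HallSolvable
import Cfsg.Agent.Lib.CoprimeSZ

set_option autoImplicit false
open Cfsg

namespace Cfsg.Agent.S4886

open Cfsg.Agent.HallCore
open Cfsg.Agent.CharBasic Cfsg.Agent.CharBasicOrth Cfsg.Agent.CharBasicDecomp
open Cfsg.Agent.CharInduced
open scoped Pointwise

attribute [local instance] Classical.propDecidable

universe u

/-- Characters trivial on `O_p'` of degree prime to `p` have degree prime to `q`. -/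
def Hyp (p q : ℕ) (G : Type u) [Group G] : Prop :=
  ∀ χ : IrrCharacter G, (∀ x ∈ pPrimeCore p G, (χ : G → ℂ) x = (χ : G → ℂ) 1) →
    ¬ p ∣ charDegree (χ : G → ℂ) → ¬ q ∣ charDegree (χ : G → ℂ)

theorem Hyp.quotient {p q : ℕ} {G : Type u} [Group G] [Finite G] (h : Hyp p q G) (N : Subgroup G)
    [N.Normal] : Hyp p q (G ⧸ N) := by
  intro χ hχ hp
  have h1 := h (PrincipalQuot80.infl N χ) (fun x hx => by
    rw [PrincipalQuot80.infl_apply, PrincipalQuot80.infl_apply, QuotientGroup.mk_one]
    exact hχ _ (map_pPrimeCore_le (p := p) (QuotientGroup.mk'_surjective N)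
      (Subgroup.mem_map_of_mem _ hx))) (by simpa [Cfsg.charDegree, PrincipalQuot80.infl_apply] using hp)
  simpa [Cfsg.charDegree, PrincipalQuot80.infl_apply] using h1

variable {G : Type u} [Group G] [Finite G]

/-- The conjugation action on the characters of a normal subgroup. -/
def da (W : Subgroup G) [W.Normal] (g : G) : (W →* ℂˣ) →* (W →* ℂˣ) where
  toFun lam := lam.comp ((MulAut.conjNormal (H := W)) g⁻¹).toMonoidHom
  map_one' := rfl
  map_mul' _ _ := rfl

theorem da_apply (W : Subgroup G) [W.Normal] (g : G) (lam : W →* ℂˣ) (w : W) :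
    da W g lam w = lam ((MulAut.conjNormal (H := W)) g⁻¹ w) := rfl

theorem da_one (W : Subgroup G) [W.Normal] (lam : W →* ℂˣ) : da W 1 lam = lam :=
  MonoidHom.ext fun w => by simp [da_apply]

theorem da_mul (W : Subgroup G) [W.Normal] (g h : G) (lam : W →* ℂˣ) :
    da W (g * h) lam = da W g (da W h lam) :=
  MonoidHom.ext fun w => by simp [da_apply, mul_inv_rev]

theorem da_eq_iff (W : Subgroup G) [W.Normal] [Fintype W] (g : G) (lam : W →* ℂˣ) :
    da W g lam = lam ↔ g ∈ inertia W (fun w : W => (lam w : ℂ)) := by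
  rw [← inv_mem_iff (x := g), mem_inertia_iff, MonoidHom.ext_iff]
  refine forall_congr' fun w => ?_
  rw [← Units.ext_iff]
  rfl

/-- A linear character fixed by a complementing subgroup extends to the join. -/
theorem exists_linear_ext_sup (W P : Subgroup G) [W.Normal] (hWP : W ⊓ P = ⊥) (lam : W →* ℂˣ)
    (hinv : ∀ a ∈ P, da W a lam = lam) :
    ∃ μ : (W ⊔ P : Subgroup G) →* ℂˣ,
      ∀ w : W, μ ⟨w, (le_sup_left : W ≤ W ⊔ P) w.2⟩ = lam w := by
  have hex : ∀ x : (W ⊔ P : Subgroup G), ∃ w : W, ∃ a : P, (w : G) * a = x := fun x => by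
    obtain ⟨w, hw, a, ha, h⟩ := Subgroup.mem_sup_of_normal_left.1 x.2
    exact ⟨⟨w, hw⟩, ⟨a, ha⟩, h⟩
  choose fw fa hfx using hex
  have huniq : ∀ (x : (W ⊔ P : Subgroup G)) (w : W) (a : P), (w : G) * a = x → fw x = w := by
    intro x w a h
    have h1 : (w : G)⁻¹ * fw x ∈ W ⊓ P := ⟨W.mul_mem (W.inv_mem w.2) (fw x).2, by
      rw [show (w : G)⁻¹ * fw x = (a : G) * (fa x : G)⁻¹ by
        rw [eq_mul_inv_iff_mul_eq, mul_assoc, hfx, inv_mul_eq_iff_eq_mul, h]]
      exact P.mul_mem a.2 (P.inv_mem (fa x).2)⟩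
    rw [hWP, Subgroup.mem_bot, inv_mul_eq_one] at h1
    exact Subtype.ext h1.symm
  refine ⟨MonoidHom.mk' (fun x => lam (fw x)) fun x y => ?_, fun w => ?_⟩
  · have h1 := huniq (x * y) (fw x * (MulAut.conjNormal (H := W)) (fa x : G) (fw y))
      (fa x * fa y) (by
        rw [Subgroup.coe_mul, Subgroup.coe_mul, MulAut.conjNormal_apply, Subgroup.coe_mul,
          ← hfx x, ← hfx y]
        group)
    show lam (fw (x * y)) = lam (fw x) * lam (fw y)
    rw [h1, map_mul]
    congr 1
    have h2 := hinv _ (P.inv_mem (fa x).2)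
    have h3 := DFunLike.congr_fun h2 (fw y)
    rwa [da_apply, inv_inv] at h3
  · show lam (fw _) = lam w
    rw [huniq _ w 1 (by simp)]

/-- The faithful case. -/
theorem step_faithful {p q : ℕ} [Fact p.Prime] [Fact q.Prime] (hpq : p ≠ q)
    (hq : IsPSolvable q G) (hyp : Hyp p q G) (hX : pPrimeCore p G = ⊥) (W : Subgroup G)
    (hW : HallSolvable.IsMinNormal W) [W.Normal] (hWp : IsPGroup p W) [IsMulCommutative W]
    (h1 : ¬ q ∣ (pPrimeCore p (G ⧸ W)).index) (h2 : ¬ p ∣ (pPrimeCore q (G ⧸ W)).index) :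
    ¬ q ∣ Nat.card G := by
  intro hqG
  have hp : p.Prime := Fact.out
  have hqp : q.Prime := Fact.out
  haveI : Fintype G := Fintype.ofFinite G
  haveI : Fintype W := Fintype.ofFinite W
  set K0 := pPrimeCore p (G ⧸ W) with hK0
  haveI : K0.Normal := pPrimeCore_normal p _
  set R := K0.comap (QuotientGroup.mk' W) with hR
  haveI : R.Normal := inferInstance
  have hWR : W ≤ R := fun w hw => by
    show (QuotientGroup.mk' W) w ∈ K0
    rw [QuotientGroup.mk'_apply, (QuotientGroup.eq_one_iff w).2 hw]; exact K0.one_mem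
  obtain ⟨k, hk⟩ := IsPGroup.iff_card.1 hWp
  have hcopWK : (Nat.card W).Coprime (Nat.card K0) := by
    rw [hk]; exact ((coprime_card_pPrimeCore p (G ⧸ W)).symm).pow_left k
  have hRcard : Nat.card R = Nat.card W * Nat.card K0 := by
    rw [hR, ← card_comap_mk', mul_comm]
  set W' := W.subgroupOf R with hW'
  haveI : W'.Normal := ‹W.Normal›.subgroupOf R
  have hW'c : Nat.card W' = Nat.card W :=
    Nat.card_congr (Subgroup.subgroupOfEquivOfLe hWR).toEquiv
  have hW'i : W'.index = Nat.card K0 := by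
    have := W'.card_mul_index
    rw [hRcard, hW'c] at this
    exact Nat.eq_of_mul_eq_mul_left Nat.card_pos this
  have hW'cop : (Nat.card W').Coprime W'.index := by rw [hW'c, hW'i]; exact hcopWK
  obtain ⟨L0, hL0⟩ := Subgroup.exists_right_complement'_of_coprime hW'cop
  set L := L0.map R.subtype with hL
  have hLR : L ≤ R := Subgroup.map_subtype_le L0
  have hLc : Nat.card L = Nat.card K0 := by
    rw [hL, Subgroup.card_map_of_injective R.subtype_injective, ← hW'i, ← hL0.symm.index_eq_card]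
  have hWL : W ⊓ L = ⊥ := Subgroup.inf_eq_bot_of_coprime (by rw [hLc]; exact hcopWK)
  have hRsup : R = W ⊔ L := by
    refine le_antisymm (fun x hx => ?_) (sup_le hWR hLR)
    obtain ⟨⟨a, b⟩, hab⟩ := hL0.2 ⟨x, hx⟩
    rw [show x = ((a : R) : G) * ((b : R) : G) from (congrArg Subtype.val hab).symm]
    exact Subgroup.mul_mem_sup (Subgroup.mem_subgroupOf.1 a.2) (Subgroup.mem_map_of_mem _ b.2)
  have hqL : q ∣ Nat.card L := by
    rw [hLc]
    have hG : Nat.card G = Nat.card W * (Nat.card K0 * K0.index) := by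
      rw [K0.card_mul_index, ← Subgroup.index_eq_card, W.card_mul_index]
    rw [hG] at hqG
    rcases hqp.dvd_mul.1 hqG with h | h
    · rw [hk] at h
      exact absurd ((Nat.prime_dvd_prime_iff_eq hqp hp).1 (hqp.dvd_of_dvd_pow h)) (Ne.symm hpq)
    · exact (hqp.dvd_mul.1 h).resolve_right h1
  have hLne : L ≠ ⊥ := fun h => hqp.ne_one (Nat.dvd_one.1 (by simpa [h] using hqL))
  have hLp : ¬ p ∣ Nat.card L := by rw [hLc]; exact not_dvd_card_pPrimeCore p _
  set T := Subgroup.normalizer (L : Set G) with hT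
  have hsolvW : Group.IsSolvable W := by
    haveI := hWp.isNilpotent
    infer_instance
  have hGT : ∀ g : G, ∃ w ∈ W, w * g ∈ T := by
    intro g
    obtain ⟨w, hw, hwL⟩ := CoprimeSZ.exists_conj_of_card_eq (N := W)
      (A := MulAut.conj g • L) (B := L)
      (by rw [Subgroup.normalizer_eq_top]; exact le_top)
      (by rw [CoprimeSZ.card_conj_smul, hLc]; exact hcopWK.symm) (Or.inr hsolvW)
      (by
        intro x hx
        have hxR : g⁻¹ * x * g ∈ R := by
          simpa using ‹R.Normal›.conj_mem x (hLR hx) g⁻¹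
        rw [hRsup] at hxR
        obtain ⟨a, ha, b, hb, hab⟩ := Subgroup.mem_sup_of_normal_left.1 hxR
        rw [show x = (g * a * g⁻¹) * (g * b * g⁻¹) by
          rw [show g * a * g⁻¹ * (g * b * g⁻¹) = g * (a * b) * g⁻¹ by group, hab]; group]
        exact Subgroup.mul_mem_sup (‹W.Normal›.conj_mem a ha g)
          (CoprimeSZ.conj_mul_mem_conj_smul hb))
      (CoprimeSZ.card_conj_smul g L).symm
    refine ⟨w, hw, Subgroup.mem_normalizer_iff.2 fun x => ?_⟩
    rw [← CoprimeSZ.conj_smul_mul] at hwL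
    constructor
    · intro hx
      have h := CoprimeSZ.conj_mul_mem_conj_smul (g := w * g) hx
      rwa [hwL] at h
    · intro hx
      rw [← hwL] at hx
      simpa [mul_assoc] using CoprimeSZ.mem_conj_smul.1 hx
  have hWT : W ⊓ T = ⊥ := by
    have hc : W ⊓ T ≤ Subgroup.centralizer (L : Set G) := fun w hw =>
      Subgroup.mem_centralizer_iff.2 fun l hl => by
        have h : w * l * w⁻¹ * l⁻¹ ∈ W ⊓ L := ⟨by
            rw [mul_assoc w l, mul_assoc w]
            exact W.mul_mem hw.1 (‹W.Normal›.conj_mem _ (W.inv_mem hw.1) l),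
          L.mul_mem ((Subgroup.mem_normalizer_iff.1 hw.2 l).1 hl) (L.inv_mem hl)⟩
        rw [hWL, Subgroup.mem_bot, mul_inv_eq_one, mul_inv_eq_iff_eq_mul] at h
        exact h.symm
    have hcj : ∀ g : G, ∀ x ∈ W ⊓ T, g * x * g⁻¹ ∈ W ⊓ T := by
      intro g x hx
      obtain ⟨w, hw, hwg⟩ := hGT g
      have h1 : (w * g) * x * (w * g)⁻¹ ∈ W ⊓ T :=
        ⟨‹W.Normal›.conj_mem x hx.1 _, T.mul_mem (T.mul_mem hwg hx.2) (T.inv_mem hwg)⟩
      have hW2 : g * x * g⁻¹ ∈ W := ‹W.Normal›.conj_mem x hx.1 g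
      have h3 : w * (g * x * g⁻¹) * w⁻¹ = g * x * g⁻¹ := by
        have := congrArg Subtype.val (mul_comm' (⟨w, hw⟩ : W) ⟨_, hW2⟩)
        rw [mul_inv_eq_iff_eq_mul]
        exact this
      rw [← h3]
      simpa [mul_assoc] using h1
    haveI : (W ⊓ T).Normal := ⟨fun x hx g => hcj g x hx⟩
    by_contra hne
    have hWe : W ⊓ T = W := (hW.2.2 (W ⊓ T) inferInstance inf_le_left).resolve_left hne
    have hWT' : W ≤ T := inf_eq_left.1 hWe
    have hTtop : T = ⊤ := top_unique fun g _ => by
      obtain ⟨w, hw, hwg⟩ := hGT g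
      simpa using T.mul_mem (T.inv_mem (hWT' hw)) hwg
    haveI : L.Normal := Subgroup.normalizer_eq_top_iff.1 hTtop
    exact hLne (le_bot_iff.1 (hX ▸ le_pPrimeCore ((hp.coprime_iff_not_dvd.2 hLp).symm)))
  have hCL : L ⊓ Subgroup.centralizer (W : Set G) = ⊥ := by
    haveI : (Subgroup.centralizer (W : Set G)).Normal := inferInstance
    have hcj : ∀ g : G, ∀ x ∈ L ⊓ Subgroup.centralizer (W : Set G),
        g * x * g⁻¹ ∈ L ⊓ Subgroup.centralizer (W : Set G) := by
      intro g x hx
      obtain ⟨w, hw, hwg⟩ := hGT g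
      have h1 : (w * g) * x * (w * g)⁻¹ ∈ L ⊓ Subgroup.centralizer (W : Set G) :=
        ⟨(Subgroup.mem_normalizer_iff.1 hwg x).1 hx.1,
          (inferInstance : (Subgroup.centralizer (W : Set G)).Normal).conj_mem x hx.2 _⟩
      have hc : g * x * g⁻¹ ∈ Subgroup.centralizer (W : Set G) :=
        (inferInstance : (Subgroup.centralizer (W : Set G)).Normal).conj_mem x hx.2 g
      have h3 : w * (g * x * g⁻¹) * w⁻¹ = g * x * g⁻¹ := by
        rw [mul_inv_eq_iff_eq_mul]
        exact Subgroup.mem_centralizer_iff.1 hc w hw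
      rw [← h3]
      simpa [mul_assoc] using h1
    haveI : (L ⊓ Subgroup.centralizer (W : Set G)).Normal := ⟨fun x hx g => hcj g x hx⟩
    exact le_bot_iff.1 (hX ▸ le_pPrimeCore (((hp.coprime_iff_not_dvd.2 hLp).symm).coprime_dvd_left
      (Subgroup.card_dvd_of_le inf_le_left)))
  haveI : Fintype T := Fintype.ofFinite T
  have hbij : Function.Bijective ((QuotientGroup.mk' W).comp T.subtype) := by
    refine ⟨fun a b h => ?_, fun z => ?_⟩
    · have h' : ((a : G) : G ⧸ W) = (b : G) := h
      have h2 : (a : G)⁻¹ * b ∈ W ⊓ T := ⟨QuotientGroup.eq.1 h', T.mul_mem (T.inv_mem a.2) b.2⟩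
      rw [hWT, Subgroup.mem_bot, inv_mul_eq_one] at h2
      exact Subtype.ext h2
    · obtain ⟨g, rfl⟩ := QuotientGroup.mk'_surjective W z
      obtain ⟨w, hw, hwg⟩ := hGT g
      refine ⟨⟨w * g, hwg⟩, ?_⟩
      show ((w * g : G) : G ⧸ W) = (g : G ⧸ W)
      rw [QuotientGroup.mk_mul, (QuotientGroup.eq_one_iff w).2 hw, one_mul]
  let e : T ≃* G ⧸ W := MulEquiv.ofBijective _ hbij
  have he : ∀ t : T, e t = ((t : G) : G ⧸ W) := fun _ => rfl
  set L' := K0.comap e.toMonoidHom with hL'
  haveI : L'.Normal := inferInstance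
  set U' := (pPrimeCore q (G ⧸ W)).comap e.toMonoidHom with hU'
  haveI : (pPrimeCore q (G ⧸ W)).Normal := pPrimeCore_normal q _
  haveI : U'.Normal := inferInstance
  have hcardcomap : ∀ S : Subgroup (G ⧸ W), Nat.card (S.comap e.toMonoidHom) = Nat.card S :=
    fun S => Nat.card_congr (e.toEquiv.subtypeEquiv fun a => Iff.rfl)
  have hL'p : ¬ p ∣ Nat.card L' := by rw [hL', hcardcomap]; exact not_dvd_card_pPrimeCore p _
  have hU'q : ¬ q ∣ Nat.card U' := by rw [hU', hcardcomap]; exact not_dvd_card_pPrimeCore q _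
  have hL'i : ¬ q ∣ L'.index := by
    rw [hL', Subgroup.index_comap_of_surjective K0 e.surjective]; exact h1
  have hU'i : ¬ p ∣ U'.index := by
    rw [hU', Subgroup.index_comap_of_surjective _ e.surjective]; exact h2
  have hL'L : ∀ t : T, t ∈ L' → (t : G) ∈ L := by
    intro t ht
    have htR : (t : G) ∈ R := ht
    rw [hRsup] at htR
    obtain ⟨a, ha, b, hb, hab⟩ := Subgroup.mem_sup_of_normal_left.1 htR
    have hbT : b ∈ T := Subgroup.le_normalizer hb
    have haWT : a ∈ W ⊓ T := ⟨ha, by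
      rw [show a = (t : G) * b⁻¹ from eq_mul_inv_of_mul_eq hab]
      exact T.mul_mem t.2 (T.inv_mem hbT)⟩
    rw [hWT, Subgroup.mem_bot] at haWT
    rw [← hab, haWT, one_mul]
    exact hb
  have hqT : IsPSolvable q T := HallSolvable.isPSolvable_subgroup hq T
  obtain ⟨P0⟩ : Nonempty (Sylow p T) := inferInstance
  have hP0i : ¬ p ∣ (P0 : Subgroup T).index := P0.not_dvd_index
  have hP0U : (P0 : Subgroup T) ≤ U' := by
    rw [← Subgroup.relIndex_eq_one]
    obtain ⟨j, hj⟩ := IsPGroup.iff_card.1 P0.2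
    refine Nat.eq_one_of_dvd_coprimes ?_ (Subgroup.relIndex_dvd_card U' (P0 : Subgroup T))
      (Subgroup.relIndex_dvd_index_of_normal U' (P0 : Subgroup T))
    rw [hj]
    exact (hp.coprime_iff_not_dvd.2 hU'i).pow_left j
  have hdegT : ∀ ψ : IrrCharacter T, ¬ p ∣ charDegree (ψ : T → ℂ) →
      ¬ q ∣ charDegree (ψ : T → ℂ) := by
    intro ψ hψ
    let f : G →* T := e.symm.toMonoidHom.comp (QuotientGroup.mk' W)
    have hf : Function.Surjective f := e.symm.surjective.comp (QuotientGroup.mk'_surjective W)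
    have := hyp ⟨(ψ : T → ℂ) ∘ f, isIrrCharacter_comap f hf ψ.2⟩ (fun x hx => by
      rw [hX, Subgroup.mem_bot] at hx; rw [hx]) (by simpa [Cfsg.charDegree] using hψ)
    simpa [Cfsg.charDegree] using this
  obtain ⟨Q, hQ⟩ := PrincipalPQ78.exists_unique_invariant hqT L' (L' ⊓ U') inf_le_left hL'p
    (fun h => hU'q (h.trans (Subgroup.card_dvd_of_le inf_le_right))) hL'i (P0 : Subgroup T) P0.2
    hP0i (fun a ha x hx => ⟨L'.mul_mem (‹L'.Normal›.conj_mem x hx a) (L'.inv_mem hx), by
      rw [mul_assoc a x, mul_assoc a]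
      exact U'.mul_mem (hP0U ha) (‹U'.Normal›.conj_mem _ (U'.inv_mem (hP0U ha)) x)⟩) hdegT
  have hP0n : (P0 : Subgroup T) ≤ Subgroup.normalizer ((Q : Subgroup T) : Set T) := by
    haveI := P0.2.isNilpotent
    obtain ⟨S, hS⟩ := CoprimeAction.exists_invariant_sylow
      (A := (P0 : Subgroup T)) (K := L') (by rw [Subgroup.normalizer_eq_top]; exact le_top)
      (by
        obtain ⟨j, hj⟩ := IsPGroup.iff_card.1 P0.2
        rw [hj]; exact (hp.coprime_iff_not_dvd.2 hL'p).pow_left j)
      (Or.inl inferInstance) q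
    have hi : ¬ q ∣ ((S : Subgroup L').map L'.subtype).index := by
      rw [Subgroup.index_map_subtype, hqp.dvd_mul]
      exact fun h => h.elim S.not_dvd_index hL'i
    rw [← hQ ((S.2.map L'.subtype).toSylow hi) hS]
    exact hS
  have hQL : ∀ y : T, y ∈ (Q : Subgroup T) → (y : G) ∈ L := by
    intro y hy
    refine hL'L y ?_
    obtain ⟨j, hj⟩ := IsPGroup.iff_card.1 Q.2
    have h : L'.relIndex (Q : Subgroup T) = 1 := by
      refine Nat.eq_one_of_dvd_coprimes ?_ (Subgroup.relIndex_dvd_card L' (Q : Subgroup T))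
        (Subgroup.relIndex_dvd_index_of_normal L' (Q : Subgroup T))
      rw [hj]
      exact (hqp.coprime_iff_not_dvd.2 hL'i).pow_left j
    exact Subgroup.relIndex_eq_one.1 h hy
  have hfix : ∀ lam : W →* ℂˣ, (∀ a : T, a ∈ (P0 : Subgroup T) → da W (a : G) lam = lam) →
      ∀ y : T, y ∈ (Q : Subgroup T) → da W (y : G) lam = lam := by
    intro lam hlam
    set θ : IrrCharacter W := ⟨fun w => (lam w : ℂ), isIrrCharacter_linear lam⟩ with hθdef
    set P0G := (P0 : Subgroup T).map T.subtype with hP0G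
    set J := W ⊔ P0G with hJdef
    haveI : Fintype J := Fintype.ofFinite J
    obtain ⟨μ, hμ⟩ := exists_linear_ext_sup W P0G
      (le_bot_iff.1 (hWT ▸ inf_le_inf_left W (Subgroup.map_subtype_le _))) lam
      (fun a ha => by obtain ⟨t, ht, rfl⟩ := ha; exact hlam t ht)
    have hJi : ¬ p ∣ J.index := by
      have h : J.map (QuotientGroup.mk' W) = (P0 : Subgroup T).map e.toMonoidHom := by
        rw [hJdef, Subgroup.map_sup, HallSolvable.map_mk'_eq_bot.2 le_rfl, bot_sup_eq, hP0G,
          Subgroup.map_map]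
        rfl
      rw [← HallSolvable.index_map_mk'_of_le (N := W) (K := J) le_sup_left, h,
        Subgroup.index_map_of_bijective e.bijective]
      exact hP0i
    obtain ⟨χ, hχp, hover⟩ := PrincipalPQ78.exists_over_ext (p := p) W J le_sup_left hJi θ
      ⟨fun x => (μ x : ℂ), isIrrCharacter_linear μ⟩ (fun w => congrArg Units.val (hμ w))
      (by rw [CharItoMichler.charDegree_eq (n := 1) (by simp [θ])]; exact hp.not_dvd_one)
    have hI := (PrincipalPQ78.not_dvd_of_over W θ χ hover (hyp χ (fun x hx => by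
      rw [hX, Subgroup.mem_bot] at hx; rw [hx]) hχp)).2
    set I := inertia W (θ : W → ℂ) with hIdef
    set I' := I.subgroupOf T with hI'def
    have hWI : W ≤ I := le_inertia W (isClassFunction_irr θ.2)
    have hI'i : I'.index = I.index := by
      have h : I' = (I.map (QuotientGroup.mk' W)).comap e.toMonoidHom := by
        ext t
        show (t : G) ∈ I ↔ (t : G) ∈ (I.map (QuotientGroup.mk' W)).comap (QuotientGroup.mk' W)
        rw [HallSolvable.comap_mk'_map_of_le hWI]
      rw [h, Subgroup.index_comap_of_surjective _ e.surjective,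
        HallSolvable.index_map_mk'_of_le hWI]
    have hP0I : (P0 : Subgroup T) ≤ I' := fun a ha => (da_eq_iff W _ lam).1 (hlam a ha)
    set K := L' ⊓ I' with hKdef
    have hKi : ¬ q ∣ K.index := by
      have h : K.index = L'.relIndex I' * I'.index := by
        rw [hKdef, ← Subgroup.relIndex_mul_index (inf_le_right : L' ⊓ I' ≤ I'),
          Subgroup.inf_relIndex_right]
      rw [h, hqp.dvd_mul]
      rintro (h | h)
      · exact hL'i (h.trans (Subgroup.relIndex_dvd_index_of_normal L' I'))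
      · exact hI (hI'i ▸ h)
    haveI := P0.2.isNilpotent
    obtain ⟨S, hS⟩ := CoprimeAction.exists_invariant_sylow (A := (P0 : Subgroup T)) (K := K)
      (fun a ha => Subgroup.mem_normalizer_iff.2 fun z => by
        simp only [hKdef, Subgroup.mem_inf]
        exact and_congr ⟨fun h => ‹L'.Normal›.conj_mem z h a, fun h => by
            simpa [mul_assoc] using ‹L'.Normal›.conj_mem _ h a⁻¹⟩
          (Subgroup.mem_normalizer_iff.1 (Subgroup.le_normalizer (hP0I ha)) z))
      (by
        obtain ⟨j, hj⟩ := IsPGroup.iff_card.1 P0.2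
        rw [hj]
        exact ((hp.coprime_iff_not_dvd.2 hL'p).pow_left j).coprime_dvd_right
          (Subgroup.card_dvd_of_le inf_le_left))
      (Or.inl inferInstance) q
    have hi : ¬ q ∣ ((S : Subgroup K).map K.subtype).index := by
      rw [Subgroup.index_map_subtype, hqp.dvd_mul]
      exact fun h => h.elim S.not_dvd_index hKi
    intro y hy
    rw [← hQ ((S.2.map K.subtype).toSylow hi) hS] at hy
    exact (da_eq_iff W _ lam).2 (Subgroup.map_subtype_le _ hy).2
  letI : CommGroup W := { (inferInstance : Group W) with mul_comm := mul_comm' }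
  by_cases hall : ∀ lam : W →* ℂˣ, ∀ y : T, y ∈ (Q : Subgroup T) → da W (y : G) lam = lam
  · obtain ⟨j, hj⟩ := IsPGroup.iff_card.1 Q.2
    have hQ1 : (Q : Subgroup T) = ⊥ := by
      refine (Subgroup.eq_bot_iff_forall _).2 fun y hy => ?_
      have hyC : (y : G) ∈ L ⊓ Subgroup.centralizer (W : Set G) := by
        refine ⟨hQL y hy, Subgroup.mem_centralizer_iff.2 fun w hw => ?_⟩
        by_contra hne
        have hne' : (MulAut.conjNormal (H := W)) (y : G)⁻¹ ⟨w, hw⟩ * (⟨w, hw⟩ : W)⁻¹ ≠ 1 := by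
          intro h
          apply hne
          have h' := congrArg Subtype.val (mul_inv_eq_one.1 h)
          rw [MulAut.conjNormal_apply, inv_inv] at h'
          calc w * (y : G) = (y : G) * ((y : G)⁻¹ * w * y) := by group
            _ = y * w := by rw [h']
        obtain ⟨φ, hφ⟩ := CommGroup.exists_apply_ne_one_of_hasEnoughRootsOfUnity W ℂ hne'
        apply hφ
        have := DFunLike.congr_fun (hall φ y hy) ⟨w, hw⟩
        rw [da_apply] at this
        rw [map_mul φ, this, map_inv φ, mul_inv_cancel]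
      rw [hCL, Subgroup.mem_bot] at hyC
      exact Subtype.ext hyC
    have hd : q ∣ Nat.card L' := by rw [hL', hcardcomap, ← hLc]; exact hqL
    have hd' : q ∣ Nat.card (Q : Subgroup T) :=
      Q.dvd_card_of_dvd_card (hd.trans (Subgroup.card_subgroup_dvd_card L'))
    rw [hQ1, Subgroup.card_bot] at hd'
    exact hqp.ne_one (Nat.dvd_one.1 hd')
  · push Not at hall
    obtain ⟨lam0, y0, hy0, hne0⟩ := hall
    haveI : Fintype (Q : Subgroup T) := Fintype.ofFinite _
    let N : (W →* ℂˣ) →* (W →* ℂˣ) := ∏ y : (Q : Subgroup T), da W ((y : T) : G)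
    have hNap : ∀ lam, N lam = ∏ y : (Q : Subgroup T), da W ((y : T) : G) lam :=
      fun lam => MonoidHom.finsetProd_apply _ _ _
    have hNinv : ∀ lam, N (da W (y0 : G) lam) = N lam := by
      intro lam
      rw [hNap, hNap]
      exact Fintype.prod_equiv (Equiv.mulRight (⟨y0, hy0⟩ : (Q : Subgroup T))) _ _ fun y => by
        show da W ((y : T) : G) (da W (y0 : G) lam) = da W (((y : T) : G) * y0) lam
        rw [da_mul]
    have hNa : ∀ a : T, a ∈ (P0 : Subgroup T) → ∀ lam,
        N (da W (a : G) lam) = da W (a : G) (N lam) := by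
      intro a ha lam
      rw [hNap, hNap, map_prod]
      have hn := Subgroup.mem_normalizer_iff.1 (hP0n ha)
      let σ : (Q : Subgroup T) ≃ (Q : Subgroup T) :=
        { toFun := fun y => ⟨a⁻¹ * y * a, (hn _).2 (by simpa [mul_assoc] using y.2)⟩
          invFun := fun y => ⟨a * y * a⁻¹, (hn _).1 y.2⟩
          left_inv := fun y => Subtype.ext (by simp [mul_assoc])
          right_inv := fun y => Subtype.ext (by simp [mul_assoc]) }
      exact Fintype.prod_equiv σ _ _ fun y => by
        show da W ((y : T) : G) (da W (a : G) lam) =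
          da W (a : G) (da W ((a : G)⁻¹ * (y : T) * a) lam)
        rw [← da_mul, ← da_mul]
        congr 2
        group
    haveI : Finite (W →* ℂˣ) := by
      obtain ⟨eD⟩ := CommGroup.monoidHom_mulEquiv_of_hasEnoughRootsOfUnity W ℂ
      exact Finite.of_equiv W eD.symm.toEquiv
    have hexp : ∀ lam : W →* ℂˣ, lam ^ Nat.card W = 1 := fun lam => MonoidHom.ext fun w => by
      rw [MonoidHom.pow_apply, ← map_pow, pow_card_eq_one', map_one, MonoidHom.one_apply]
    have hkp : IsPGroup p N.ker := fun x => ⟨k, Subtype.ext (by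
      rw [SubgroupClass.coe_pow, ← hk]; exact hexp x)⟩
    have hkne : N.ker ≠ ⊥ := by
      intro hb
      exact hne0 ((MonoidHom.ker_eq_bot_iff N).1 hb (hNinv lam0))
    have hkd : p ∣ Nat.card N.ker := by
      obtain ⟨j, hj⟩ := IsPGroup.iff_card.1 hkp
      rcases Nat.eq_zero_or_pos j with rfl | hj0
      · rw [pow_zero] at hj
        exact absurd (Subgroup.eq_bot_of_card_eq _ hj) hkne
      · rw [hj]; exact dvd_pow_self p hj0.ne'
    letI : MulAction (P0 : Subgroup T) N.ker :=
      { smul := fun a x => ⟨da W ((a : T) : G) x, by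
          rw [MonoidHom.mem_ker, hNa _ a.2, MonoidHom.mem_ker.1 x.2, map_one]⟩
        one_smul := fun x => Subtype.ext (da_one W _)
        mul_smul := fun a b x => Subtype.ext (da_mul W _ _ _) }
    obtain ⟨b, hb, hb1⟩ := P0.2.exists_fixed_point_of_prime_dvd_card_of_fixed_point N.ker hkd
      (a := 1) (fun a => Subtype.ext (map_one _))
    apply hb1
    have hbfix := hfix b (fun a ha => congrArg Subtype.val (hb ⟨a, ha⟩))
    have hNb : (b : W →* ℂˣ) ^ Nat.card (Q : Subgroup T) = 1 := by
      have := MonoidHom.mem_ker.1 b.2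
      rw [hNap, Finset.prod_congr rfl (fun (y : (Q : Subgroup T)) _ => hbfix (y : T) y.2), Finset.prod_const,
        Finset.card_univ, ← Nat.card_eq_fintype_card] at this
      exact this
    refine Subtype.ext ?_
    obtain ⟨j, hj⟩ := IsPGroup.iff_card.1 Q.2
    have hcop : (Nat.card (Q : Subgroup T)).Coprime (Nat.card W) := by
      rw [hj, hk]
      exact (((Nat.coprime_primes hqp hp).2 (Ne.symm hpq)).pow j k)
    refine (MonoidHom.ext fun w => ?_)
    have hw1 : (b : W →* ℂˣ) w ^ Nat.card (Q : Subgroup T) = 1 := by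
      simpa using DFunLike.congr_fun hNb w
    have hw2 : (b : W →* ℂˣ) w ^ Nat.card W = 1 := by
      rw [← map_pow, pow_card_eq_one', map_one]
    have := pow_gcd_eq_one.2 ⟨hw1, hw2⟩
    rw [hcop.gcd_eq_one, pow_one] at this
    exact this.symm

/-- The core statement. -/
theorem index_core (n : ℕ) : ∀ (G : Type u) [Group G] [Finite G], Nat.card G = n →
    ∀ (p q : ℕ), p.Prime → q.Prime → p ≠ q → IsPSolvable p G → IsPSolvable q G →
      Hyp p q G → Hyp q p G → ¬ q ∣ (pPrimeCore p G).index := by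
  induction n using Nat.strong_induction_on with
  | _ n ih =>
    intro G _ _ hn p q hp hq hpq hps hqs h1 h2
    haveI := Fact.mk hp
    haveI := Fact.mk hq
    haveI : (pPrimeCore p G).Normal := pPrimeCore_normal p G
    by_cases hX : pPrimeCore p G = ⊥
    · rw [hX, Subgroup.index_bot]
      intro hqG
      have : Nontrivial G := by
        refine Finite.one_lt_card_iff_nontrivial.1 ?_
        exact lt_of_lt_of_le hq.one_lt (Nat.le_of_dvd Nat.card_pos hqG)
      obtain ⟨W, hW, hWpc⟩ := ((HallSolvable.isPSolvable_iff p).1 hps).exists_minNormal_piece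
      haveI := hW.normal
      have hWp : IsPGroup p W := by
        rcases hWpc with h | h
        · exact isPGroup_iff_piNat.2 h
        · exfalso
          refine hW.ne_bot (le_bot_iff.1 (hX ▸ le_pPrimeCore ?_))
          exact (piNat_compl_singleton_iff hp).1 h
      haveI := hWp.isNilpotent
      haveI : IsMulCommutative W := hW.commutative_of_solvable
      have hlt : Nat.card (G ⧸ W) < n := hn ▸ HallSolvable.card_quotient_lt hW.ne_bot
      exact step_faithful hpq hqs h1 hX W hW hWp
        (ih _ hlt (G ⧸ W) rfl p q hp hq hpq (HallSolvable.isPSolvable_quotient hps W)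
          (HallSolvable.isPSolvable_quotient hqs W) (h1.quotient W) (h2.quotient W))
        (ih _ hlt (G ⧸ W) rfl q p hq hp hpq.symm (HallSolvable.isPSolvable_quotient hqs W)
          (HallSolvable.isPSolvable_quotient hps W) (h2.quotient W) (h1.quotient W)) hqG
    · set X := pPrimeCore p G with hXdef
      have hlt : Nat.card (G ⧸ X) < n := hn ▸ HallSolvable.card_quotient_lt hX
      have h := ih _ hlt (G ⧸ X) rfl p q hp hq hpq (HallSolvable.isPSolvable_quotient hps X)
        (HallSolvable.isPSolvable_quotient hqs X) (h1.quotient X) (h2.quotient X)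
      rw [show pPrimeCore p (G ⧸ X) = ⊥ from pPrimeCore_quotient_self p G, Subgroup.index_bot,
        ← Subgroup.index_eq_card] at h
      exact h

/-- Commuting Sylow subgroups give the index condition. -/
theorem index_of_commute {p q : ℕ} [Fact p.Prime] [Fact q.Prime] (hpq : p ≠ q)
    (hps : IsPSolvable p G) (P : Sylow p G) (Q : Sylow q G)
    (h : ∀ x ∈ (P : Subgroup G), ∀ y ∈ (Q : Subgroup G), x * y = y * x) :
    ¬ q ∣ (pPrimeCore p G).index := by
  set X := pPrimeCore p G with hX
  haveI : X.Normal := pPrimeCore_normal p G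
  set f := QuotientGroup.mk' X with hf
  haveI : (pCore p (G ⧸ X)).Normal := pCore_normal p _
  have hQX : (Q : Subgroup G) ≤ X := by
    intro y hy
    have hc : f y ∈ Subgroup.centralizer (pCore p (G ⧸ X) : Set (G ⧸ X)) := by
      refine Subgroup.mem_centralizer_iff.2 fun z hz => ?_
      have hP' : z ∈ (P.mapSurjective (QuotientGroup.mk'_surjective X) : Subgroup (G ⧸ X)) :=
        (isPGroup_pCore p (G ⧸ X)).le_sylow_of_normal _ hz
      rw [Sylow.coe_mapSurjective] at hP'
      obtain ⟨x, hx, rfl⟩ := hP'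
      rw [← map_mul, ← map_mul, h x hx y hy]
    have hpc : f y ∈ pCore p (G ⧸ X) :=
      HallSolvable.centralizer_pCore_le (HallSolvable.isPSolvable_quotient hps X)
        (pPrimeCore_quotient_self p G) hc
    obtain ⟨a, ha⟩ := isPGroup_pCore p (G ⧸ X) ⟨f y, hpc⟩
    obtain ⟨b, hb⟩ := Q.2 ⟨y, hy⟩
    have ha' : f y ^ p ^ a = 1 := by simpa using congrArg Subtype.val ha
    have hb' : f y ^ q ^ b = 1 := by
      rw [← map_pow, show y ^ q ^ b = 1 by simpa using congrArg Subtype.val hb, map_one]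
    have := pow_gcd_eq_one.2 ⟨ha', hb'⟩
    rw [((Nat.coprime_primes Fact.out Fact.out).2 hpq).pow a b |>.gcd_eq_one, pow_one] at this
    exact (QuotientGroup.eq_one_iff y).1 this
  exact fun hd => Q.not_dvd_index (hd.trans (Subgroup.index_dvd_of_le hQX))

/-- The index condition gives the degree condition. -/
theorem degrees_of_index {p q : ℕ} [Fact p.Prime] [Fact q.Prime] (M : Ideal Cfsg.AlgInt)
    (hM : IsPModular p M) (hps : IsPSolvable p G) (h : ¬ q ∣ (pPrimeCore p G).index)
    (χ : IrrCharacter G) (hχ : χ ∈ principalBlock M G) : ¬ q ∣ charDegree (χ : G → ℂ) := by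
  have hker : pPrimeCore p G ≤ CharKernel.irrKer χ :=
    fun x hx => (PrincipalQuot80.mem_principal_iff_of_pSolvable hM hps χ).1 hχ x hx
  exact fun hd => h ((hd.trans (CharKernel.charDegree_dvd_index χ)).trans
    (Subgroup.index_dvd_of_le hker))

theorem result {G : Type*} [Group G] [Finite G] (p q : ℕ) [Fact p.Prime] [Fact q.Prime] (hpq : p ≠ q) (Mp Mq : Ideal Cfsg.AlgInt) (hMp : Cfsg.IsPModular p Mp) (hMq : Cfsg.IsPModular q Mq) (hps : Cfsg.IsPSolvable p G) (hqs : Cfsg.IsPSolvable q G) : ((∀ χ : Cfsg.IrrCharacter G, χ ∈ Cfsg.principalBlock Mp G → ¬ p ∣ Cfsg.charDegree (χ : G → ℂ) → ¬ q ∣ Cfsg.charDegree (χ : G → ℂ)) ∧ (∀ χ : Cfsg.IrrCharacter G, χ ∈ Cfsg.principalBlock Mq G → ¬ q ∣ Cfsg.charDegree (χ : G → ℂ) → ¬ p ∣ Cfsg.charDegree (χ : G → ℂ))) ↔ ∃ (P : Sylow p G) (Q : Sylow q G), ∀ x ∈ (P : Subgroup G), ∀ y ∈ (Q : Subgroup G), x * y = y * x := by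
  constructor
  · rintro ⟨h1, h2⟩
    have H1 : Hyp p q G := fun χ hk =>
      h1 χ ((PrincipalQuot80.mem_principal_iff_of_pSolvable hMp hps χ).2 hk)
    have H2 : Hyp q p G := fun χ hk =>
      h2 χ ((PrincipalQuot80.mem_principal_iff_of_pSolvable hMq hqs χ).2 hk)
    have hX := index_core _ G rfl p q Fact.out Fact.out hpq hps hqs H1 H2
    have hY := index_core _ G rfl q p Fact.out Fact.out hpq.symm hqs hps H2 H1
    haveI : (pPrimeCore p G).Normal := pPrimeCore_normal p G
    haveI : (pPrimeCore q G).Normal := pPrimeCore_normal q G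
    obtain ⟨P⟩ : Nonempty (Sylow p G) := inferInstance
    obtain ⟨j, hj⟩ := IsPGroup.iff_card.1 P.2
    haveI := P.2.isNilpotent
    obtain ⟨S, hS⟩ := CoprimeAction.exists_invariant_sylow (A := (P : Subgroup G))
      (K := pPrimeCore p G) (by rw [Subgroup.normalizer_eq_top]; exact le_top)
      (by rw [hj]; exact ((coprime_card_pPrimeCore p G).symm).pow_left j)
      (Or.inl inferInstance) q
    have hi : ¬ q ∣ ((S : Subgroup (pPrimeCore p G)).map (pPrimeCore p G).subtype).index := by
      rw [Subgroup.index_map_subtype, (Fact.out : q.Prime).dvd_mul]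
      exact fun h => h.elim S.not_dvd_index hX
    have hPY : (P : Subgroup G) ≤ pPrimeCore q G := by
      rw [← Subgroup.relIndex_eq_one]
      refine Nat.eq_one_of_dvd_coprimes ?_
        (Subgroup.relIndex_dvd_card (pPrimeCore q G) (P : Subgroup G))
        (Subgroup.relIndex_dvd_index_of_normal (pPrimeCore q G) (P : Subgroup G))
      rw [hj]
      exact ((Fact.out : p.Prime).coprime_iff_not_dvd.2 hY).pow_left j
    refine ⟨P, (S.2.map _).toSylow hi, fun x hx y hy => ?_⟩
    set Q := (S : Subgroup (pPrimeCore p G)).map (pPrimeCore p G).subtype with hQ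
    have hxy : x * y * x⁻¹ * y⁻¹ ∈ Q ⊓ pPrimeCore q G :=
      ⟨Q.mul_mem ((Subgroup.mem_normalizer_iff.1 (hS hx) y).1 hy) (Q.inv_mem hy), by
        rw [mul_assoc x y, mul_assoc x]
        exact Subgroup.mul_mem _ (hPY hx)
          ((inferInstance : (pPrimeCore q G).Normal).conj_mem _ (Subgroup.inv_mem _ (hPY hx)) y)⟩
    have hbot : Q ⊓ pPrimeCore q G = ⊥ := by
      refine Subgroup.inf_eq_bot_of_coprime ?_
      obtain ⟨i, hi2⟩ := IsPGroup.iff_card.1 (S.2.map (pPrimeCore p G).subtype)
      rw [hQ, hi2]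
      exact ((coprime_card_pPrimeCore q G).symm).pow_left i
    rw [hbot, Subgroup.mem_bot, mul_inv_eq_one, mul_inv_eq_iff_eq_mul] at hxy
    exact hxy
  · rintro ⟨P, Q, h⟩
    exact ⟨fun χ hχ _ => degrees_of_index Mp hMp hps (index_of_commute hpq hps P Q h) χ hχ,
      fun χ hχ _ => degrees_of_index Mq hMq hqs
        (index_of_commute hpq.symm hqs Q P fun x hx y hy => (h y hy x hx).symm) χ hχ⟩

end Cfsg.Agent.S4886
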