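import Cfsg.Statements.S4888
import Cfsg.Agent.Lib.BlockTheoryNormal
import Cfsg.Agent.Lib.BlockPrincipal81
import Cfsg.Agent.Lib.ZStarPrincipal
import Cfsg.Agent.Lib.TransferPResidual
import Cfsg.Agent.Lib.CharExtension
import Cfsg.Agent.Lib.CharExtensionCrit
import Cfsg.Agent.Lib.CharProjDegree
import Cfsg.Agent.Lib.CharAverage
-- import your own Cfsg.Agent.* helpers here

set_option autoImplicit false
open scoped Pointwise
open Cfsg

namespace Cfsg.Agent.S4888

open scoped ComplexConjugate

universe u

theorem not_dvd_card_hom {X : Type*} [Group X] [Finite X] {p : ℕ} [Fact p.Prime]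
    (hX : Cfsg.pResidual p X = ⊤) : ¬ p ∣ Nat.card (X →* ℂˣ) := by
  haveI : Finite (X →* ℂˣ) := Nat.finite_of_card_ne_zero (by
    rw [CharBasicLinear.card_hom_units]; exact Subgroup.index_ne_zero_of_finite)
  intro h
  obtain ⟨l, hl⟩ := exists_prime_orderOf_dvd_card' p h
  have hker := TransferPResidual.pResidual_le_ker (p := p) l.rangeRestrict (fun z => ⟨1, by
    obtain ⟨_, x, rfl⟩ := z
    refine Subtype.ext ?_
    rw [pow_one, SubgroupClass.coe_pow]
    show l x ^ p = 1
    rw [← MonoidHom.pow_apply, ← hl, pow_orderOf_eq_one, MonoidHom.one_apply]⟩)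
  rw [hX] at hker
  have : l = 1 := MonoidHom.ext fun x => by
    have h1 := hker (Subgroup.mem_top x)
    rw [MonoidHom.mem_ker] at h1
    exact congrArg Subtype.val h1
  rw [this, orderOf_one] at hl
  exact (Fact.out : p.Prime).one_lt.ne hl

theorem height_zero_iff {G : Type u} [Group G] [Finite G] {p : ℕ} (hp : p.Prime)
    {M : Ideal Cfsg.AlgInt} (hM : Cfsg.IsPModular p M) (χ : Cfsg.IrrCharacter G) :
    Cfsg.blockHeight p (Cfsg.principalBlock M G) (χ : G → ℂ) = 0 ↔
      ¬ p ∣ Cfsg.charDegree (χ : G → ℂ) := by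
  haveI : Fintype G := Fintype.ofFinite G
  have h1 : Cfsg.charDegree ((BlockPrincipal81.oneChar G : Cfsg.IrrCharacter G) : G → ℂ) = 1 := by
    have := CharAverage.irr_apply_one (BlockPrincipal81.oneChar G)
    exact (Nat.cast_eq_one.1 this.symm)
  have h0 : sInf ((fun ψ : Cfsg.IrrCharacter G => (Cfsg.charDegree (ψ : G → ℂ)).factorization p) ''
      Cfsg.principalBlock M G) = 0 :=
    Nat.sInf_eq_zero.2 (Or.inl ⟨BlockPrincipal81.oneChar G, BlockPrincipal81.oneChar_mem hM,
      by simp [h1]⟩)
  unfold Cfsg.blockHeight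
  rw [h0, Nat.sub_zero, Nat.factorization_eq_zero_iff]
  have := (CharAverage.irr_degree_pos χ).ne'
  constructor
  · rintro (h | h | h)
    exacts [absurd hp h, h, absurd h this]
  · exact fun h => Or.inr (Or.inl h)

/-- Invariant characters of `O^p(G)` of degree prime to `p` extend to `G`. -/
theorem exists_ext {G : Type u} [Group G] [Finite G] {p : ℕ} [Fact p.Prime] {X : Subgroup G}
    [X.Normal] {k : ℕ} (hk : X.index = p ^ k) (hX : Cfsg.pResidual p X = ⊤)
    (φ : Cfsg.IrrCharacter X) (hinv : ∀ g : G, ∀ n : X,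
      (φ : X → ℂ) ⟨g * n * g⁻¹, (inferInstance : X.Normal).conj_mem (n : G) n.2 g⟩ = (φ : X → ℂ) n)
    (hd : ¬ p ∣ Cfsg.charDegree (φ : X → ℂ)) :
    ∃ χ : Cfsg.IrrCharacter G, ∀ n : X, (χ : G → ℂ) n = (φ : X → ℂ) n := by
  obtain ⟨d, ρ, hd0, hd1, hch, S, hi, hirr⟩ := CharExtension.exists_setup φ.2 hinv
  have hdd : Cfsg.charDegree (φ : X → ℂ) = d := by
    have := CharAverage.irr_apply_one φ
    rw [hd1] at this
    exact_mod_cast this.symm
  set lam : X →* ℂˣ := (CharExtension.detU d).comp ρ with hlam
  have hlinv : ∀ (g : G) (n : X), lam (CharExtension.cn g n) = lam n := by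
    intro g n
    obtain ⟨u, hu⟩ := hi g
    rw [hlam, MonoidHom.comp_apply, MonoidHom.comp_apply, ← hu n, map_mul, map_mul, map_inv,
      mul_comm, inv_mul_cancel_left]
  have hcop : Nat.Coprime X.index (orderOf lam) := by
    rw [hk]
    refine Nat.Coprime.pow_left k ((Nat.Prime.coprime_iff_not_dvd Fact.out).2 fun hdvd => ?_)
    haveI : Finite (X →* ℂˣ) := Nat.finite_of_card_ne_zero (by
      rw [CharBasicLinear.card_hom_units]; exact Subgroup.index_ne_zero_of_finite)
    exact not_dvd_card_hom hX (hdvd.trans (orderOf_dvd_natCard lam))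
  obtain ⟨μ, hμ, -, -⟩ := CharExtension.linear_ext_coprime lam hlinv hcop
  obtain ⟨η, hη, -⟩ := CharExtension.exists_ext_det S hi (CharExtension.detU d) d
    (CharExtension.detU_scal d) (fun a => CharExtension.exists_root d a hd0)
    (by rw [hk]; exact Nat.Coprime.pow_left k ((Nat.Prime.coprime_iff_not_dvd Fact.out).2
      (hdd ▸ hd))) μ (fun n => hμ n)
  obtain ⟨h1, h2⟩ := CharExtension.ext_to_char_top hirr η hη
  exact ⟨⟨_, h1⟩, fun n => (h2 n).trans (congrFun hch n)⟩

/-- Let G be a finite group, p a prime and M a maximal ideal of the algebraic integers containing p. Then all height-zero irreducible characters of the principal p-block of G (equivalently, all its characters of degree prime to p) have the same degree if and only if G has a normal p-complement. -/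
theorem result {G : Type*} [Group G] [Finite G] (p : ℕ) [Fact p.Prime] (M : Ideal Cfsg.AlgInt) (hM : Cfsg.IsPModular p M) : (∃ d : ℕ, ∀ χ : Cfsg.IrrCharacter G, χ ∈ (Cfsg.principalBlock M G) → Cfsg.blockHeight p (Cfsg.principalBlock M G) (χ : G → ℂ) = 0 → Cfsg.charDegree (χ : G → ℂ) = d) ↔ Cfsg.HasNormalPComplement p G := by
  classical
  haveI : Fintype G := Fintype.ofFinite G
  have hp : p.Prime := Fact.out
  haveI : (Cfsg.pResidual p G).Normal := inferInstance
  set X := Cfsg.pResidual p G with hXdef
  haveI : Fintype X := Fintype.ofFinite X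
  obtain ⟨k, hk⟩ := TransferPResidual.index_pResidual (G := G) (p := p)
  rw [TransferPResidual.hasNormalPComplement_iff_not_dvd]
  constructor
  · rintro ⟨d, hd⟩ hpX
    have hd1 : ∀ χ : Cfsg.IrrCharacter G, χ ∈ Cfsg.principalBlock M G →
        ¬ p ∣ Cfsg.charDegree (χ : G → ℂ) → Cfsg.charDegree (χ : G → ℂ) = 1 := by
      intro χ hχ hpχ
      have h1 : Cfsg.charDegree ((BlockPrincipal81.oneChar G : Cfsg.IrrCharacter G) : G → ℂ) = 1 :=
        Nat.cast_eq_one.1 (CharAverage.irr_apply_one (BlockPrincipal81.oneChar G)).symm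
      rw [hd χ hχ ((height_zero_iff hp hM χ).2 hpχ), ← hd _ (BlockPrincipal81.oneChar_mem hM)
        ((height_zero_iff hp hM _).2 (by rw [h1]; exact hp.not_dvd_one)), h1]
    have hres : Cfsg.pResidual p X = ⊤ := TransferPResidual.pResidual_pResidual
    obtain ⟨P⟩ : Nonempty (Sylow p G) := inferInstance
    -- a central element of `P` inside `X`
    obtain ⟨y, hyX, hy1, hyP, hyo⟩ : ∃ y : G, y ∈ X ∧ y ≠ 1 ∧
        (∀ u ∈ (P : Subgroup G), u * y * u⁻¹ = y) ∧ ∃ j : ℕ, orderOf y = p ^ j := by
      obtain ⟨x, hx⟩ := exists_prime_orderOf_dvd_card' p hpX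
      obtain ⟨c, hc⟩ : ∃ c : G, c * (x : G) * c⁻¹ ∈ (P : Subgroup G) := by
        have hxp : IsPGroup p (Subgroup.zpowers (x : G)) := IsPGroup.of_card (n := 1) (by
          rw [Nat.card_zpowers, Subgroup.orderOf_coe, hx, pow_one])
        obtain ⟨Q, hQ⟩ := hxp.exists_le_sylow
        obtain ⟨c, hc⟩ := MulAction.exists_smul_eq G Q P
        refine ⟨c, ?_⟩
        rw [← hc]
        show MulAut.conj c • (x : G) ∈ MulAut.conj c • (Q : Subgroup G)
        exact Subgroup.smul_mem_pointwise_smul _ _ _ (hQ (Subgroup.mem_zpowers _))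
      set Q := X.subgroupOf (P : Subgroup G) with hQ
      have hQne : Nontrivial Q := by
        refine ⟨⟨⟨⟨c * x * c⁻¹, hc⟩, ?_⟩, 1, ?_⟩⟩
        · exact Subgroup.mem_subgroupOf.2 ((inferInstance : X.Normal).conj_mem _ x.2 c)
        · intro e
          have e' : c * (x : G) * c⁻¹ = 1 := congrArg (fun z : Q => ((z : (P : Subgroup G)) : G)) e
          rw [conj_eq_one_iff] at e'
          rw [← Subgroup.orderOf_coe, e', orderOf_one] at hx
          exact hp.one_lt.ne hx
      obtain ⟨z, hzQ, hz1⟩ : ∃ z : (P : Subgroup G), z ∈ Q ⊓ Subgroup.center _ ∧ z ≠ 1 := by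
        by_contra hno
        push Not at hno
        have hfix := P.isPGroup'.exists_fixed_point_of_prime_dvd_card_of_fixed_point
        haveI : Q.Normal := inferInstance
        obtain ⟨j, hj⟩ := IsPGroup.iff_card.1 (P.isPGroup'.to_subgroup Q)
        have hjp : p ∣ Nat.card Q := by
          rcases j with _ | j
          · exact absurd (hj.trans (pow_zero p)) Finite.one_lt_card.ne'
          · rw [hj]; exact dvd_pow_self p j.succ_ne_zero
        let _ : MulAction (P : Subgroup G) Q := MulAction.compHom Q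
          (MulAut.conjNormal (G := (P : Subgroup G)) (H := Q))
        obtain ⟨b, hb, hne⟩ := hfix Q hjp (a := 1) (by
          intro u; exact map_one (MulAut.conjNormal u : MulAut Q))
        refine hne.symm (Subtype.ext (hno b.1 ⟨b.2, Subgroup.mem_center_iff.2 fun u => ?_⟩))
        have h1 : (MulAut.conjNormal u : MulAut Q) b = b := hb u
        have h2 := congrArg (fun z : Q => (z : (P : Subgroup G))) h1
        simp only [MulAut.conjNormal_apply] at h2
        exact mul_inv_eq_iff_eq_mul.1 h2
      refine ⟨z, Subgroup.mem_subgroupOf.1 hzQ.1, fun e => hz1 (Subtype.ext e), fun u hu => ?_, ?_⟩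
      · have := Subgroup.mem_center_iff.1 hzQ.2 ⟨u, hu⟩
        rw [mul_inv_eq_iff_eq_mul]
        exact congrArg Subtype.val this
      · obtain ⟨j, hj⟩ := IsPGroup.iff_orderOf.1 P.isPGroup' z
        exact ⟨j, by rw [Subgroup.orderOf_coe]; exact hj⟩
    set y' : X := ⟨y, hyX⟩
    have hyp : p ∣ orderOf y' := by
      obtain ⟨j, hj⟩ := hyo
      rw [← Subgroup.orderOf_coe, hj]
      rcases j with _ | j
      · rw [pow_zero, orderOf_eq_one_iff] at hj; exact absurd hj hy1
      · exact dvd_pow_self p j.succ_ne_zero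
    -- the action of `P`
    let cj : G → (X ≃* X) := fun g => MulAut.conjNormal g
    let B : Set (Cfsg.IrrCharacter X) := Cfsg.principalBlock M X
    letI : MulAction (P : Subgroup G) (Cfsg.IrrCharacter X) :=
      { smul := fun u φ => ⟨fun n => (φ : X → ℂ) (cj (u : G)⁻¹ n),
          CharBasic.isIrrCharacter_comap (cj (u : G)⁻¹).toMonoidHom (cj (u : G)⁻¹).surjective φ.2⟩
        one_smul := fun φ => Subtype.ext (funext fun n => by
          show (φ : X → ℂ) (cj ((1 : (P : Subgroup G)) : G)⁻¹ n) = _
          simp [cj])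
        mul_smul := fun a b φ => Subtype.ext (funext fun n => by
          show (φ : X → ℂ) (cj ((a * b : (P : Subgroup G)) : G)⁻¹ n) =
            (φ : X → ℂ) (cj (b : G)⁻¹ (cj (a : G)⁻¹ n))
          simp [cj]) }
    have hsm : ∀ (u : (P : Subgroup G)) (φ : Cfsg.IrrCharacter X) (n : X),
        ((u • φ : Cfsg.IrrCharacter X) : X → ℂ) n = (φ : X → ℂ) (cj (u : G)⁻¹ n) := fun _ _ _ => rfl
    have hreg : ∀ (u : (P : Subgroup G)) (φ : Cfsg.IrrCharacter X),
        u • φ ∈ B ↔ φ ∈ B := by
      intro u φ
      rw [ZStarPrincipal.mem_principal_iff hM, ZStarPrincipal.mem_principal_iff hM]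
      have : ZStarPrincipal.regSum p ((u • φ : Cfsg.IrrCharacter X) : X → ℂ) =
          ZStarPrincipal.regSum p (φ : X → ℂ) := by
        unfold ZStarPrincipal.regSum
        refine Fintype.sum_equiv (cj (u : G)⁻¹).toEquiv _ _ fun n => ?_
        simp only [hsm, MulEquiv.toEquiv_eq_coe, EquivLike.coe_coe, MulEquiv.orderOf_eq]
      rw [this]
    let W : Cfsg.IrrCharacter X → ℂ := fun φ =>
      if φ ∈ B then (φ : X → ℂ) 1 * conj ((φ : X → ℂ) y') else 0
    have hW0 : ∑ φ, W φ = 0 :=
      BlockTheoryIdem.weak_orthogonality hM BlockPrincipal81.isPBlock_principal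
        (by simpa using hp.ne_one) hyp
    have hint : ∀ (φ : Cfsg.IrrCharacter X) (n : X), IsIntegral ℤ ((φ : X → ℂ) n) := fun φ n =>
      CharBasic.isCharacter_integral (CharBasic.isCharacter_of_isIrrCharacter φ.2) n
    have hWi : ∀ φ, Cfsg.MemLocalRing M (W φ) := fun φ => by
      simp only [W]
      split_ifs
      · refine (BlockTheoryLocalRing.localRing hM).mul_mem
          (BlockTheoryLocalRing.of_isIntegral hM (hint _ _)) ?_
        rw [← BlockTheoryCentre.irr_inv]
        exact BlockTheoryLocalRing.of_isIntegral hM (hint _ _)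
      · exact (BlockTheoryLocalRing.localRing hM).zero_mem
    have hWinv : ∀ (u : (P : Subgroup G)) φ, W (u • φ) = W φ := fun u φ => by
      have e : cj (u : G)⁻¹ y' = y' := Subtype.ext (by
        show ((MulAut.conjNormal (u : G)⁻¹ y' : X) : G) = y
        rw [MulAut.conjNormal_apply]
        exact hyP _ (P.toSubgroup.inv_mem u.2))
      simp only [W, hreg, hsm, map_one, e]
    have hsum := BlockPrincipal81.ideal_sum_sub_fixed hM P.isPGroup' W hWinv hWi
    rw [hW0, zero_sub] at hsum
    -- the invariant linear characters in the block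
    haveI : Finite (X →* ℂˣ) := Nat.finite_of_card_ne_zero (by
      rw [CharBasicLinear.card_hom_units]; exact Subgroup.index_ne_zero_of_finite)
    let li : (X →* ℂˣ) → Cfsg.IrrCharacter X := fun l =>
      ⟨_, CharBasicDecomp.isIrrCharacter_linear l⟩
    have hcc : ∀ (l : X →* ℂˣ) (n : X), Cfsg.centralChar ((li l : Cfsg.IrrCharacter X) : X → ℂ) n -
        Cfsg.centralChar (fun _ : X => (1 : ℂ)) n =
          ((Subgroup.centralizer ({n} : Set X)).index : ℂ) * ((l n : ℂ) - 1) := fun l n => by
      simp [Cfsg.centralChar, li, mul_sub]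
    have hB : ∀ l : X →* ℂˣ, li l ∈ B ↔ ∀ n : X, Cfsg.MemLocalIdeal M
        (((Subgroup.centralizer ({n} : Set X)).index : ℂ) * ((l n : ℂ) - 1)) := fun l => by
      refine Iff.trans ?_ (forall_congr' fun n => by rw [← hcc])
      exact ⟨fun h => BlockTheoryIdem.sameBlock_symm h, fun h => BlockTheoryIdem.sameBlock_symm h⟩
    have hunit : ∀ (l : X →* ℂˣ) (n : X), IsIntegral ℤ (l n : ℂ) := fun l n => hint (li l) n
    let L : Subgroup (X →* ℂˣ) :=
      { carrier := {l | (∀ u ∈ (P : Subgroup G), ∀ n, l (cj u n) = l n) ∧ ∀ n : X,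
          Cfsg.MemLocalIdeal M (((Subgroup.centralizer ({n} : Set X)).index : ℂ) * ((l n : ℂ) - 1))}
        one_mem' := ⟨fun _ _ _ => rfl, fun n => by
          simpa using BlockTheoryLocalRing.ideal_zero hM⟩
        mul_mem' := fun {a b} ha hb => ⟨fun u hu n => by
            simp [ha.1 u hu n, hb.1 u hu n], fun n => by
          have h1 := BlockTheoryLocalRing.ideal_mul_left hM
            (BlockTheoryLocalRing.of_isIntegral hM (hunit a n)) (hb.2 n)
          convert BlockTheoryLocalRing.ideal_add hM h1 (ha.2 n) using 1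
          simp only [MonoidHom.mul_apply, Units.val_mul]
          ring⟩
        inv_mem' := fun {a} ha => ⟨fun u hu n => by simp [ha.1 u hu n], fun n => by
          have h1 := BlockTheoryLocalRing.ideal_mul_left hM
            (BlockTheoryLocalRing.of_isIntegral hM (hunit a⁻¹ n)) (ha.2 n)
          convert BlockTheoryLocalRing.ideal_neg h1 using 1
          have : ((a⁻¹ n : ℂˣ) : ℂ) * (a n : ℂ) = 1 := by
            rw [← Units.val_mul, MonoidHom.inv_apply, inv_mul_cancel, Units.val_one]
          linear_combination ((Subgroup.centralizer ({n} : Set X)).index : ℂ) * this⟩ }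
    have hfixed : Cfsg.MemLocalIdeal M (∑ φ ∈ Finset.univ.filter (· ∈ MulAction.fixedPoints
          (P : Subgroup G) (Cfsg.IrrCharacter X)), W φ - (Nat.card L : ℂ)) := by
      haveI : Fintype L := Fintype.ofFinite L
      have hcard : (Nat.card L : ℂ) = ∑ φ ∈ Finset.univ.filter (fun φ : Cfsg.IrrCharacter X =>
          φ ∈ MulAction.fixedPoints (P : Subgroup G) (Cfsg.IrrCharacter X) ∧
            φ ∈ B ∧ (φ : X → ℂ) 1 = 1), (1 : ℂ) := by
        rw [Finset.sum_const, nsmul_eq_mul, mul_one, Nat.card_eq_fintype_card, ← Finset.card_univ]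
        refine congrArg Nat.cast (Finset.card_bij (fun (l : L) _ => li l.1) ?_ ?_ ?_)
        · intro l _
          refine Finset.mem_filter.2 ⟨Finset.mem_univ _, fun u => ?_, (hB _).2 l.2.2, by simp [li]⟩
          refine Subtype.ext (funext fun n => ?_)
          show ((l.1 (cj (u : G)⁻¹ n) : ℂˣ) : ℂ) = _
          rw [l.2.1 _ (P.toSubgroup.inv_mem u.2)]
        · intro a _ b _ h
          exact Subtype.ext (MonoidHom.ext fun n => Units.ext
            (congrFun (congrArg Subtype.val h) n))
        · intro φ hφ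
          obtain ⟨-, hfx, hφB, hφ1⟩ := Finset.mem_filter.1 hφ
          obtain ⟨l, hl⟩ := CharBasicLinear.exists_hom_of_apply_one_eq_one
            (CharBasic.isCharacter_of_isIrrCharacter φ.2) hφ1
          have hli : li l = φ := Subtype.ext hl.symm
          refine ⟨⟨l, fun u hu n => ?_, (hB l).1 (hli ▸ hφB)⟩, Finset.mem_univ _, hli⟩
          have := congrFun (congrArg Subtype.val (hfx ⟨u⁻¹, P.toSubgroup.inv_mem hu⟩)) n
          rw [hsm, hl] at this
          simp only [inv_inv] at this
          exact Units.ext this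
      rw [hcard, ← Finset.filter_filter, Finset.sum_filter _ _ (s := Finset.univ.filter _),
        ← Finset.sum_sub_distrib]
      refine BlockTheoryLocalRing.ideal_sum hM fun φ hφ => ?_
      have hfx := (Finset.mem_filter.1 hφ).2
      simp only [W]
      by_cases hφB : φ ∈ B
      swap
      · rw [if_neg hφB, if_neg (fun h => hφB h.1), sub_zero]
        exact BlockTheoryLocalRing.ideal_zero hM
      rw [if_pos hφB]
      by_cases hφ1 : (φ : X → ℂ) 1 = 1
      · rw [if_pos ⟨hφB, hφ1⟩, hφ1, one_mul]
        obtain ⟨l, hl⟩ := CharBasicLinear.exists_hom_of_apply_one_eq_one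
          (CharBasic.isCharacter_of_isIrrCharacter φ.2) hφ1
        have hly : l y' = 1 := by
          have h1 : orderOf (l y') ∣ orderOf y' := orderOf_map_dvd l y'
          have h2 : orderOf (l y') ∣ Nat.card (X →* ℂˣ) := orderOf_dvd_of_pow_eq_one (by
            rw [← MonoidHom.pow_apply, pow_card_eq_one', MonoidHom.one_apply])
          obtain ⟨j, hj⟩ := hyo
          rw [← Subgroup.orderOf_coe, show ((y' : X) : G) = y from rfl, hj] at h1
          have h3 : Nat.Coprime (p ^ j) (Nat.card (X →* ℂˣ)) := Nat.Coprime.pow_left j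
            ((Nat.Prime.coprime_iff_not_dvd hp).2 (not_dvd_card_hom hres))
          exact orderOf_eq_one_iff.1 (Nat.eq_one_of_dvd_coprimes h3 h1 h2)
        rw [hl]
        simp only [hly, Units.val_one, map_one, sub_self]
        exact BlockTheoryLocalRing.ideal_zero hM
      · rw [if_neg (fun h => hφ1 h.2), sub_zero]
        by_cases hdiv : p ∣ Cfsg.charDegree (φ : X → ℂ)
        · rw [CharAverage.irr_apply_one φ]
          refine BlockTheoryLocalRing.ideal_mul_right hM
            ((BlockTheoryLocalRing.natCast_mem_iff hM).2 hdiv) ?_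
          rw [← BlockTheoryCentre.irr_inv]
          exact BlockTheoryLocalRing.of_isIntegral hM (hint _ _)
        · exfalso
          have hle : (P : Subgroup G) ⊔ X ≤ CharInduced.inertia X (φ : X → ℂ) := by
            refine sup_le (fun u hu => ?_) (CharInduced.le_inertia X
              (CharInduced.isClassFunction_irr φ.2))
            rw [CharInduced.mem_inertia_iff]
            intro n
            have := congrFun (congrArg Subtype.val (hfx ⟨u⁻¹, P.toSubgroup.inv_mem hu⟩)) n
            rw [hsm] at this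
            simp only [inv_inv] at this
            exact Eq.trans (congrArg (φ : X → ℂ) (Subtype.ext
              (MulAut.conjNormal_apply u n).symm)) this
          rw [TransferPResidual.sylow_sup_pResidual] at hle
          obtain ⟨χ, hχ⟩ := exists_ext hk hres φ
            (fun g => (CharInduced.mem_inertia_iff X).1 (hle (Subgroup.mem_top g))) hdiv
          have hdeg : Cfsg.charDegree (χ : G → ℂ) = Cfsg.charDegree (φ : X → ℂ) := by
            have := hχ 1
            rw [Subgroup.coe_one, CharAverage.irr_apply_one χ, CharAverage.irr_apply_one φ] at this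
            exact_mod_cast this
          have hχB : χ ∈ Cfsg.principalBlock M G := by
            rw [ZStarPrincipal.mem_principal_iff hM]
            have e : ZStarPrincipal.regSum p (χ : G → ℂ) = ZStarPrincipal.regSum p (φ : X → ℂ) := by
              unfold ZStarPrincipal.regSum
              refine (Fintype.sum_of_injective (fun n : X => (n : G)) Subtype.val_injective _ _ ?_ ?_).symm
              · intro g hg
                rw [if_pos]
                by_contra hnd
                exact hg ⟨⟨g, TransferPResidual.mem_pResidual_of_coprime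
                  ((hp.coprime_iff_not_dvd.2 hnd).symm)⟩, rfl⟩
              · intro n
                rw [Subgroup.orderOf_coe, hχ n]
            rw [e]
            exact (ZStarPrincipal.mem_principal_iff hM φ).1 hφB
          refine hφ1 ?_
          rw [CharAverage.irr_apply_one φ, ← hdeg, hd1 χ hχB (hdeg ▸ hdiv), Nat.cast_one]
    have hL : p ∣ Nat.card L := by
      rw [← BlockTheoryLocalRing.natCast_mem_iff hM]
      have h2 := BlockTheoryLocalRing.ideal_neg
        (BlockTheoryLocalRing.ideal_add hM hsum hfixed)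
      convert h2 using 1
      ring
    exact not_dvd_card_hom hres (hL.trans (Subgroup.card_subgroup_dvd_card L))
  · intro hpX
    refine ⟨1, fun χ hχ hh => ?_⟩
    have hpd := (height_zero_iff hp hM χ).1 hh
    have htriv : ∀ n ∈ X, (χ : G → ℂ) n = (χ : G → ℂ) 1 :=
      BlockTheoryNormal.blockOf_subset_trivialOn X hM hpX
        (χ := BlockPrincipal81.oneChar G) (fun n _ => rfl) hχ
    obtain ⟨a, d, hd, hχ1, hdvd⟩ := CharProjDegree.degree_dvd X χ.2
      (CharBasicDecomp.isIrrCharacter_one (G := X)) (by
        rw [Cfsg.classInner, Finset.sum_congr rfl (g := fun _ => (χ : G → ℂ) 1) (fun n _ => by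
          simp [htriv n n.2]), Finset.sum_const, Finset.card_univ, nsmul_eq_mul,
          ← Nat.card_eq_fintype_card, ← mul_assoc,
          inv_mul_cancel₀ (Nat.cast_ne_zero.2 Nat.card_pos.ne'), one_mul]
        exact CharAverage.irr_one_ne_zero χ)
    obtain rfl : d = 1 := Nat.cast_eq_one.1 hd.symm
    rw [one_mul, CharAverage.irr_apply_one χ, Nat.cast_inj] at hχ1
    rw [hk] at hdvd
    obtain ⟨i, -, hi⟩ := (Nat.dvd_prime_pow hp).1 hdvd
    rcases i with _ | i
    · rw [hχ1, hi, pow_zero]
    · exact absurd (hχ1 ▸ hi ▸ dvd_pow_self p i.succ_ne_zero) hpd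

end Cfsg.Agent.S4888
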