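import Cfsg.Statements.S4890
import Cfsg.Agent.Lib.EqualDeg80Main
import Cfsg.Agent.Lib.Star80Nilpotent

set_option autoImplicit false
open Cfsg

namespace Cfsg.Agent.S4890

/-- Let G be a finite group, p a prime, M a maximal ideal of the algebraic integers containing p, and B a p-block of G with a defect group that is normal in G. Then all height-zero irreducible characters of B have the same degree if and only if B is a nilpotent block. -/
theorem result {G : Type*} [Group G] [Finite G] (p : ℕ) [Fact p.Prime] (M : Ideal Cfsg.AlgInt) (hM : Cfsg.IsPModular p M) (B : Set (Cfsg.IrrCharacter G)) (hB : Cfsg.IsPBlock M B) (D : Subgroup G) (hD : Cfsg.IsDefectGroup p M B D) (hDn : D.Normal) : (∃ d : ℕ, ∀ χ : Cfsg.IrrCharacter G, χ ∈ B → Cfsg.blockHeight p B (χ : G → ℂ) = 0 → Cfsg.charDegree (χ : G → ℂ) = d) ↔ Cfsg.IsNilpotentBlock p M B := by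
  haveI := Fintype.ofFinite G
  constructor
  · rintro ⟨d, hd⟩
    exact Agent.EqualDeg80Main.nilpotent_of_equal_degrees hM hB hD hd
  · intro hnil
    obtain ⟨e, hmax⟩ := Agent.Star80Nilpotent.exists_maximal hM hB hD
    obtain ⟨χ0, hχ0, h0⟩ := Agent.BlockContrib.exists_height_zero hM hB
    obtain ⟨Φ, hΦ⟩ := Agent.Star80Nilpotent.exists_equiv hM hmax hnil hχ0 h0
    refine ⟨Cfsg.charDegree (χ0 : G → ℂ), fun χ hχ hχ0' => ?_⟩
    set ψ := Φ.symm ⟨χ, hχ⟩ with hψ
    have hstar := hΦ ψ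
    rw [hψ, Equiv.apply_symm_apply, ← hψ] at hstar
    have hh := Agent.Star80Nilpotent.height_eq hM hmax hχ0 h0 hχ ψ hstar
    rw [hχ0'] at hh
    have hDp : IsPGroup p D := hmax.1.1.1
    obtain ⟨n, hn⟩ := IsPGroup.iff_card.1 hDp
    obtain ⟨i, -, hi⟩ := (Nat.dvd_prime_pow (Fact.out : p.Prime)).1
      (hn ▸ Agent.ClassAlgebraOmega.charDegree_dvd_card ψ)
    rw [hi, (Fact.out : p.Prime).factorization_pow, Finsupp.single_eq_same] at hh
    have h1 := congrFun hstar 1
    rw [Agent.Star80Nilpotent.starP_regular hM hmax hχ0 ψ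
      (by rw [orderOf_one]; exact (Fact.out : p.Prime).not_dvd_one), hi, ← hh, pow_zero, Nat.cast_one,
      one_mul] at h1
    show ⌊((χ : G → ℂ) 1).re⌋₊ = ⌊((χ0 : G → ℂ) 1).re⌋₊
    rw [show (χ : G → ℂ) 1 = (χ0 : G → ℂ) 1 from h1]

end Cfsg.Agent.S4890
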