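import Cfsg.Statements.S4911
import Cfsg.Agent.Lib.RealInvariantClasses

set_option autoImplicit false
open Cfsg

namespace Cfsg.Agent.S4911

/-- Let P and K be subgroups of a finite group with P a p-group normalizing K and K of order prime to p. Then the number of P-invariant real-valued irreducible complex characters of K equals the number of conjugacy classes of K that are real (closed under inversion) and P-invariant. Moreover, if every real-valued irreducible character of K is P-invariant, then every real element of K (one conjugate in K to its inverse) is conjugate in K to an element centralized by P. -/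
theorem result {G : Type*} [Group G] [Finite G] (p : ℕ) [Fact p.Prime] (P K : Subgroup G) (hP : IsPGroup p ↥P) (hK : ¬ p ∣ Nat.card ↥K) (hPK : P ≤ Subgroup.normalizer (K : Set G)) : Nat.card {θ : Cfsg.IrrCharacter ↥K // (∀ k : ↥K, ((θ : ↥K → ℂ) k).im = 0) ∧ (∀ x ∈ P, ∀ k k' : ↥K, (k' : G) = x * (k : G) * x⁻¹ → (θ : ↥K → ℂ) k' = (θ : ↥K → ℂ) k)} = Nat.card {c : ConjClasses ↥K // (∀ k : ↥K, ConjClasses.mk k = c → IsConj k k⁻¹) ∧ ∀ k : ↥K, ConjClasses.mk k = c → ∀ x ∈ P, ∀ k' : ↥K, (k' : G) = x * (k : G) * x⁻¹ → ConjClasses.mk k' = c} ∧ ((∀ θ : Cfsg.IrrCharacter ↥K, (∀ k : ↥K, ((θ : ↥K → ℂ) k).im = 0) → (∀ x ∈ P, ∀ k k' : ↥K, (k' : G) = x * (k : G) * x⁻¹ → (θ : ↥K → ℂ) k' = (θ : ↥K → ℂ) k)) → ∀ k : ↥K, IsConj k k⁻¹ → ∃ k' : ↥K, IsConj k k' ∧ ∀ x ∈ P, x * (k' : G) * x⁻¹ = (k' : G)) := by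
  let φ : ↥P →* MulAut ↥K := K.normalizerMonoidHom.comp (Subgroup.inclusion hPK)
  have hφ : ∀ (a : ↥P) (k : ↥K), ((φ a k : ↥K) : G) = (a : G) * k * (a : G)⁻¹ := fun _ _ => rfl
  have hinv : ∀ θ : Cfsg.IrrCharacter ↥K, Cfsg.Agent.GlaubermanP.Inv φ θ ↔
      ∀ x ∈ P, ∀ k k' : ↥K, (k' : G) = x * (k : G) * x⁻¹ → (θ : ↥K → ℂ) k' = (θ : ↥K → ℂ) k := by
    intro θ
    refine ⟨fun h x hx k k' e => ?_, fun h a g => h a a.2 g _ (hφ a g)⟩
    rw [show k' = φ ⟨x, hx⟩ k from Subtype.ext e]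
    exact h ⟨x, hx⟩ k
  refine ⟨?_, fun hall k hk => ?_⟩
  · refine ((Nat.card_congr (Equiv.subtypeEquivRight fun θ => and_congr_right fun _ => (hinv θ).symm)).trans
      (Cfsg.Agent.RealInvariantClasses.card_real_inv φ hP hK)).trans
      (Nat.card_congr (Equiv.subtypeEquivRight fun c => ?_))
    refine and_congr Iff.rfl ⟨fun h k hk x hx k' e => ?_, fun h a g hg => h g hg a a.2 _ (hφ a g)⟩
    rw [show k' = φ ⟨x, hx⟩ k from Subtype.ext e]
    exact h ⟨x, hx⟩ k hk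
  · obtain ⟨k', h1, h2⟩ := Cfsg.Agent.RealInvariantClasses.exists_fixed φ hP hK
      (fun θ hθ => (hinv θ).2 (hall θ hθ)) k hk
    exact ⟨k', h1, fun x hx => (hφ ⟨x, hx⟩ k').symm.trans (congrArg Subtype.val (h2 ⟨x, hx⟩))⟩

end Cfsg.Agent.S4911
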