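import Cfsg.Statements.S4912
import Cfsg.Agent.Lib.RealInduced
-- import your own Cfsg.Agent.* helpers here

set_option autoImplicit false
open Cfsg

namespace Cfsg.Agent.S4912

/-- Let G be a finite group with a non-abelian minimal normal subgroup N, and let φ be an irreducible complex character of N with stabilizer I in G such that φ extends to an irreducible character of I with Frobenius–Schur indicator +1. Put d = φ(1)·[G : I]. Then the number of linear characters of G with Frobenius–Schur indicator +1 is at most [G : I] times the number of irreducible characters of G of degree d with Frobenius–Schur indicator +1. -/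
theorem result {G : Type*} [Group G] [Finite G] (N : Subgroup G) (hN : N.Normal) (hN1 : N ≠ ⊥) (hmin : ∀ M : Subgroup G, M.Normal → M ≤ N → M = ⊥ ∨ M = N) (hna : ¬ IsMulCommutative ↥N) (φ : Cfsg.IrrCharacter ↥N) (I : Subgroup G) (hI : ∀ g : G, g ∈ I ↔ ∀ n n' : ↥N, (n' : G) = g * (n : G) * g⁻¹ → (φ : ↥N → ℂ) n' = (φ : ↥N → ℂ) n) (hNI : N ≤ I) (hext : ∃ ψ : Cfsg.IrrCharacter ↥I, (Nat.card ↥I : ℂ)⁻¹ * ∑ᶠ g : ↥I, (ψ : ↥I → ℂ) (g * g) = 1 ∧ ∀ n : ↥N, (ψ : ↥I → ℂ) (Subgroup.inclusion hNI n) = (φ : ↥N → ℂ) n) : Nat.card {χ : Cfsg.IrrCharacter G // Cfsg.charDegree (χ : G → ℂ) = 1 ∧ (Nat.card G : ℂ)⁻¹ * ∑ᶠ g : G, (χ : G → ℂ) (g * g) = 1} ≤ I.index * Nat.card {χ : Cfsg.IrrCharacter G // Cfsg.charDegree (χ : G → ℂ) = Cfsg.charDegree (φ : ↥N → ℂ) * I.index ∧ (Nat.card G : ℂ)⁻¹ * ∑ᶠ g : G, (χ : G → ℂ) (g * g) = 1} := by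
  classical
  haveI : Fintype G := Fintype.ofFinite G
  haveI : N.Normal := hN
  haveI : Fintype N := Fintype.ofFinite N
  haveI : Fintype I := Fintype.ofFinite I
  have hT : ∀ g : G, g ∈ I ↔ CharInduced.conjFun N (φ : N → ℂ) g = (φ : N → ℂ) := fun g =>
    (hI g).trans ⟨fun h => funext fun n => h n ⟨g * n * g⁻¹, hN.conj_mem _ n.2 g⟩ rfl,
      fun h n n' e => by
        rw [show n' = ⟨g * n * g⁻¹, hN.conj_mem _ n.2 g⟩ from Subtype.ext e]
        exact congrFun h n⟩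
  have hcomm := RealInduced.le_commutator_of_minimal N hmin hna
  have hdeg : ∀ (χ : Cfsg.IrrCharacter G) (m : ℕ), Cfsg.charDegree (χ : G → ℂ) = m ↔
      (χ : G → ℂ) 1 = m := fun χ m => by
    rw [CharAverage.irr_apply_one χ, Nat.cast_inj]
  have hval : ∀ (ψ : I → ℂ), (∀ n : N, ψ ⟨n, hNI n.2⟩ = (φ : N → ℂ) n) → ∀ lam : G →* ℂˣ,
      Cfsg.indFun I (fun t : I => ψ t * (lam t : ℂ)) 1 =
        ((Cfsg.charDegree (φ : N → ℂ) * I.index : ℕ) : ℂ) := fun ψ hres lam => by
    have h1 := hres 1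
    simp only [Subgroup.coe_one] at h1
    rw [CharInduced.ind_one_apply, Nat.cast_mul, ← CharAverage.irr_apply_one φ, ← h1]
    simp only [Subgroup.coe_one, map_one, Units.val_one, mul_one]
    rw [mul_comm]
    rfl
  obtain ⟨ψ, hψnu, hψres⟩ := hext
  have hres : ∀ n : N, (ψ : I → ℂ) ⟨n, hNI n.2⟩ = (φ : N → ℂ) n := hψres
  rw [← RealChars.nu_eq_finsum] at hψnu
  have hψreal := RealChars.real_of_nu_ne_zero ψ (by rw [hψnu]; exact one_ne_zero)
  refine RealInduced.card_linear_le N I hNI φ.2 hT ψ.2 hres hcomm _ _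
    (fun χ h => by rw [(hdeg χ 1).1 h.1, Nat.cast_one]) ?_
  intro lam χ hχ he hl h'
  refine ⟨(hdeg ⟨_, h'⟩ _).2 (hval _ hres lam), ?_⟩
  have hnu := hχ.2
  rw [← RealChars.nu_eq_finsum] at hnu
  have hχreal := RealChars.real_of_nu_ne_zero χ (by rw [hnu]; exact one_ne_zero)
  have hsq : ∀ g : G, (lam (g * g) : ℂ) = 1 := fun g => by
    have h1 := CharBasicDecomp.norm_linear lam g
    have h2 : (lam g : ℂ) * (starRingEnd ℂ) (lam g : ℂ) = 1 := by
      rw [Complex.mul_conj', h1]; norm_num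
    rw [Complex.conj_eq_iff_im.mpr (by have := hχreal g; rwa [he] at this)] at h2
    rw [map_mul, Units.val_mul, h2]
  show _ = (1 : ℂ)
  rw [← RealChars.nu_eq_finsum]
  have hreal : ∀ n : N, (starRingEnd ℂ) ((φ : N → ℂ) n) = (φ : N → ℂ) n := fun n => by
    rw [← hres]
    exact Complex.conj_eq_iff_im.mpr (hψreal _)
  have key := RealInduced.nu_ind N I hNI φ.2 hT hl (fun n => by
    rw [hres]
    simp [show lam (n : G) = 1 from Abelianization.commutator_subset_ker lam (hcomm n.2)]) hreal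
  show RealChars.nu (Cfsg.indFun I fun t : I => (ψ : I → ℂ) t * (lam t : ℂ)) = 1
  rw [key, ← hψnu, RealChars.nu_eq, RealChars.nu_eq]
  congr 1
  exact Finset.sum_congr rfl fun t _ => by rw [Subgroup.coe_mul, hsq, mul_one]

end Cfsg.Agent.S4912
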