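import Cfsg.Statements.S4916
import Cfsg.Agent.Lib.BlockPrincipal81
import Cfsg.Agent.Lib.BrauerBlocksCentral
import Cfsg.Agent.Lib.CharBasicInt

set_option autoImplicit false
open Cfsg

namespace Cfsg.Agent.S4916

/-- Let G be a finite group, p a prime and M a maximal ideal of the algebraic integers containing p. Then the principal character is the only irreducible character of degree prime to p in the principal p-block of G if and only if p does not divide the order of G. -/
theorem result {G : Type*} [Group G] [Finite G] (p : ℕ) [Fact p.Prime] (M : Ideal Cfsg.AlgInt) (hM : Cfsg.IsPModular p M) : (∀ χ : Cfsg.IrrCharacter G, χ ∈ Cfsg.principalBlock M G → ¬ p ∣ Cfsg.charDegree (χ : G → ℂ) → (χ : G → ℂ) = fun _ => (1 : ℂ)) ↔ ¬ p ∣ Nat.card G := by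
  classical
  have := Fintype.ofFinite G
  have hp := (Fact.out : p.Prime)
  have hdeg : ∀ χ : Cfsg.IrrCharacter G, (χ : G → ℂ) 1 = (Cfsg.charDegree (χ : G → ℂ) : ℂ) := by
    intro χ
    obtain ⟨d, -, hd⟩ := Cfsg.Agent.CharBasic.isIrrCharacter_apply_one χ.2
    rw [Cfsg.charDegree, hd]
    simp
  constructor
  · intro h hdvd
    obtain ⟨y, hy⟩ := exists_prime_orderOf_dvd_card' (G := G) p hdvd
    have h0 := Cfsg.Agent.BlockTheoryIdem.weak_orthogonality hM
      Cfsg.Agent.BlockPrincipal81.isPBlock_principal (x := (1 : G)) (y := y)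
      (by simpa using hp.ne_one) (by rw [hy])
    rw [← Finset.add_sum_erase _ _ (Finset.mem_univ (Cfsg.Agent.BlockPrincipal81.oneChar G)),
      if_pos (Cfsg.Agent.BlockPrincipal81.oneChar_mem hM)] at h0
    have hterm : ∀ χ ∈ Finset.univ.erase (Cfsg.Agent.BlockPrincipal81.oneChar G), ∃ a : ℂ,
        IsIntegral ℤ a ∧ (if χ ∈ Cfsg.principalBlock M G then
          (χ : G → ℂ) 1 * (starRingEnd ℂ) ((χ : G → ℂ) y) else 0) = (p : ℂ) * a := by
      intro χ hχ
      by_cases hb : χ ∈ Cfsg.principalBlock M G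
      · have hd : p ∣ Cfsg.charDegree (χ : G → ℂ) := by
          by_contra hd
          exact (Finset.mem_erase.1 hχ).1 (Subtype.ext (h χ hb hd))
        obtain ⟨k, hk⟩ := hd
        refine ⟨(k : ℂ) * (χ : G → ℂ) y⁻¹, ((isIntegral_algebraMap (x := (k : ℤ))).mul
          (Cfsg.Agent.BrauerBlocksCentral.isIntegral_irr χ y⁻¹) : _), ?_⟩
        rw [if_pos hb, hdeg χ, hk, Cfsg.Agent.BlockTheoryCentre.irr_inv]
        push_cast; ring
      · exact ⟨0, isIntegral_zero, by simp [hb]⟩
    choose! a ha hsum using hterm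
    rw [Finset.sum_congr rfl hsum, ← Finset.mul_sum] at h0
    set A := ∑ χ ∈ Finset.univ.erase (Cfsg.Agent.BlockPrincipal81.oneChar G), a χ
    have hA : IsIntegral ℤ (-A) := (IsIntegral.sum _ ha).neg
    simp only [Cfsg.Agent.BlockPrincipal81.oneChar, map_one, mul_one] at h0
    have hpA : (-A) = (1 : ℕ) / (p : ℕ) := by
      rw [eq_div_iff (Nat.cast_ne_zero.2 hp.ne_zero)]
      push_cast
      linear_combination -h0
    exact hp.not_dvd_one (Cfsg.Agent.CharBasicInt.dvd_of_isIntegral_div hp.ne_zero (hpA ▸ hA))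
  · intro hnd χ hχ _
    by_contra hne
    let z : MonoidAlgebra ℂ G := Cfsg.Agent.BlockTheoryCentre.ofFun fun _ => (1 : ℂ)
    have hz : Cfsg.Agent.BlockTheoryCentre.IsCen z := fun g h => rfl
    have hzi : Cfsg.Agent.BlockTheoryCentre.IsInt M z := fun x =>
      (Cfsg.Agent.BlockTheoryLocalRing.localRing hM).one_mem
    have hsame := Cfsg.Agent.BlockTheoryIdem.sameBlock_of_mem hM
      Cfsg.Agent.BlockPrincipal81.isPBlock_principal
      (Cfsg.Agent.BlockPrincipal81.oneChar_mem hM) hχ
    have h1 := Cfsg.Agent.BlockTheoryIdem.omega_sub_mem hM hsame hz hzi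
    rw [Cfsg.Agent.BlockPrincipal81.omega_one_apply, Cfsg.Agent.BlockTheoryCentre.omega_apply,
      Cfsg.Agent.BlockTheoryCentre.chiSum_apply] at h1
    have horth : ∑ g : G, (χ : G → ℂ) g = 0 := by
      have h2 := Cfsg.Agent.CharBasicOrth.classInner_irr_ne χ.2
        (Cfsg.Agent.BlockPrincipal81.oneChar G).2 hne
      rw [Cfsg.classInner, mul_eq_zero] at h2
      simpa [Cfsg.Agent.BlockPrincipal81.oneChar] using
        h2.resolve_left (inv_ne_zero (Nat.cast_ne_zero.2 Nat.card_pos.ne'))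
    have e1 : ∀ x : G, z.coeff x = 1 := fun x => rfl
    simp only [e1, one_mul, horth, mul_zero, sub_zero, Finset.sum_const, Finset.card_univ,
      nsmul_eq_mul, mul_one] at h1
    rw [← Nat.card_eq_fintype_card, Cfsg.Agent.BlockTheoryLocalRing.natCast_mem_iff hM] at h1
    exact hnd h1

end Cfsg.Agent.S4916
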