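import Cfsg.Statements.S4923
import Cfsg.Agent.Lib.GaloisChar80
import Cfsg.Agent.Lib.MaxClassTwo
import Cfsg.Agent.Lib.CharBasicOrth

set_option autoImplicit false
open Cfsg

namespace Cfsg.Agent.S4923


open Subgroup Cfsg.Agent.CharBasic Cfsg.Agent.GaloisChar80
open scoped commutatorElement

theorem pow_mod_of_modEq {M : Type*} [Monoid M] {w : M} {N A B : ℕ} (hw : w ^ N = 1)
    (h : A ≡ B [MOD N]) : w ^ A = w ^ B := by
  rw [← Nat.mod_add_div A N, ← Nat.mod_add_div B N, pow_add, pow_add, pow_mul, pow_mul, hw,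
    one_pow, one_pow, h]

/-- Two sets of elements of a cyclotomic field with the same fixing automorphisms generate the
same field. -/
theorem adjoin_eq_of_fix {N : ℕ} [NeZero N] {ζ : ℂ} (hζ : IsPrimitiveRoot ζ N) {S T : Set ℂ}
    (hS : S ⊆ (IntermediateField.adjoin ℚ ({ζ} : Set ℂ) : Set ℂ))
    (hT : T ⊆ (IntermediateField.adjoin ℚ ({ζ} : Set ℂ) : Set ℂ))
    (h : ∀ (k : ℕ), k.Coprime N → ∀ σ : ℂ ≃+* ℂ, (∀ z : ℂ, z ^ N = 1 → σ z = z ^ k) →
      ((∀ s ∈ S, σ s = s) ↔ ∀ t ∈ T, σ t = t)) :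
    IntermediateField.adjoin ℚ S = IntermediateField.adjoin ℚ T := by
  let L := CyclotomicField N ℚ
  have : IsCyclotomicExtension {N} ℚ L := CyclotomicField.isCyclotomicExtension N ℚ
  have hξ : IsPrimitiveRoot (IsCyclotomicExtension.zeta N ℚ L) N :=
    IsCyclotomicExtension.zeta_spec N ℚ L
  set ξ := IsCyclotomicExtension.zeta N ℚ L
  have : FiniteDimensional ℚ L := IsCyclotomicExtension.finiteDimensional {N} ℚ L
  have : IsGalois ℚ L := IsCyclotomicExtension.isGalois {N} ℚ L
  let φ : L →ₐ[ℚ] ℂ := IsAlgClosed.lift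
  have hφ : IsPrimitiveRoot (φ ξ) N := hξ.map_of_injective φ.injective
  obtain ⟨l, -, hl⟩ := hφ.eq_pow_of_pow_eq_one hζ.pow_eq_one
  have hF : IntermediateField.adjoin ℚ ({ζ} : Set ℂ) ≤ φ.fieldRange := by
    rw [IntermediateField.adjoin_le_iff, Set.singleton_subset_iff]
    exact ⟨ξ ^ l, by simp [hl]⟩
  have hpre : ∀ U : Set ℂ, U ⊆ (IntermediateField.adjoin ℚ ({ζ} : Set ℂ) : Set ℂ) →
      (IntermediateField.adjoin ℚ (φ ⁻¹' U)).map φ = IntermediateField.adjoin ℚ U := by
    intro U hU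
    rw [IntermediateField.adjoin_map, Set.image_preimage_eq_of_subset]
    exact fun u hu => hF (hU hu)
  rw [← hpre S hS, ← hpre T hT]
  congr 1
  rw [← IsGalois.fixedField_fixingSubgroup (IntermediateField.adjoin ℚ (φ ⁻¹' S)),
    ← IsGalois.fixedField_fixingSubgroup (IntermediateField.adjoin ℚ (φ ⁻¹' T))]
  congr 1
  ext τ
  have hfix : ∀ V : Set L, τ ∈ (IntermediateField.adjoin ℚ V).fixingSubgroup ↔
      ∀ v ∈ V, τ v = v := by
    intro V
    rw [IntermediateField.mem_fixingSubgroup_iff]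
    refine ⟨fun h v hv => h v (IntermediateField.subset_adjoin ℚ V hv), fun h v hv => ?_⟩
    induction hv using IntermediateField.adjoin_induction with
    | mem x hx => exact h x hx
    | algebraMap x => exact τ.commutes x
    | add x y _ _ hx hy => rw [map_add, hx, hy]
    | inv x _ hx => rw [map_inv₀, hx]
    | mul x y _ _ hx hy => rw [map_mul, hx, hy]
  rw [hfix, hfix]
  have hτ : IsPrimitiveRoot (τ ξ) N := hξ.map_of_injective τ.injective
  obtain ⟨k, -, hk, hkξ⟩ := hξ.isPrimitiveRoot_iff.1 hτ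
  obtain ⟨σ, hσ⟩ := exists_aut (NeZero.pos N) hk
  have hσφ : ∀ w : L, σ (φ w) = φ (τ w) := by
    have key : (σ.toRatAlgEquiv.toAlgHom.comp φ) = φ.comp τ.toAlgHom := by
      refine (hξ.powerBasis ℚ).algHom_ext ?_
      simp only [IsPrimitiveRoot.powerBasis_gen, AlgHom.comp_apply]
      show σ (φ ξ) = φ (τ ξ)
      rw [hσ _ hφ.pow_eq_one, ← hkξ, map_pow]
    exact fun w => DFunLike.congr_fun key w
  have hconv : ∀ U : Set ℂ, U ⊆ (IntermediateField.adjoin ℚ ({ζ} : Set ℂ) : Set ℂ) →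
      ((∀ v ∈ φ ⁻¹' U, τ v = v) ↔ ∀ u ∈ U, σ u = u) := by
    intro U hU
    refine ⟨fun h u hu => ?_, fun h v hv => φ.injective (show φ (τ v) = φ v from ?_)⟩
    · obtain ⟨v, hv⟩ := hF (hU hu)
      have hv' : φ v = u := hv
      rw [← hv', hσφ, h v (by rw [Set.mem_preimage, hv']; exact hu)]
    · rw [← hσφ, h _ hv]
  rw [hconv S hS, hconv T hT]
  exact h k hk σ hσ

/-- Elements of the field generated by a set are fixed by automorphisms fixing the set. -/
theorem fix_adjoin (σ : ℂ ≃+* ℂ) {S : Set ℂ} (h : ∀ s ∈ S, σ s = s) {z : ℂ}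
    (hz : z ∈ IntermediateField.adjoin ℚ S) : σ z = z := by
  induction hz using IntermediateField.adjoin_induction with
  | mem x hx => exact h x hx
  | algebraMap x => simp
  | add x y _ _ hx hy => rw [map_add, hx, hy]
  | inv x _ hx => rw [map_inv₀, hx]
  | mul x y _ _ hx hy => rw [map_mul, hx, hy]

section Values

variable {G : Type*} [Group G] [Finite G]

theorem value_aut {g : G} {N k : ℕ} (hg : g ^ N = 1) (χ : IrrCharacter G) (σ : ℂ ≃+* ℂ)
    (hσ : ∀ z : ℂ, z ^ N = 1 → σ z = z ^ k) :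
    σ ((χ : G → ℂ) g) = (χ : G → ℂ) (g ^ k) := by
  obtain ⟨d, ρ, hρ⟩ := isCharacter_of_isIrrCharacter χ.2
  obtain ⟨b, μ, -, h2, -, h4⟩ := exists_rep_eigenbasis ρ g
  rw [← hρ]
  conv_lhs => rw [← pow_one g, h4]
  rw [h4, map_sum]
  refine Finset.sum_congr rfl fun i _ => ?_
  rw [pow_one, hσ]
  obtain ⟨c, hc⟩ := orderOf_dvd_of_pow_eq_one hg
  rw [hc, pow_mul, h2, one_pow]

theorem value_mem {g : G} {N : ℕ} [NeZero N] (hg : g ^ N = 1) {ζ : ℂ} (hζ : IsPrimitiveRoot ζ N)
    (χ : IrrCharacter G) : (χ : G → ℂ) g ∈ IntermediateField.adjoin ℚ ({ζ} : Set ℂ) := by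
  obtain ⟨d, ρ, hρ⟩ := isCharacter_of_isIrrCharacter χ.2
  obtain ⟨b, μ, -, h2, -, h4⟩ := exists_rep_eigenbasis ρ g
  rw [← hρ, ← pow_one g, h4]
  refine sum_mem fun i _ => pow_mem ?_ _
  obtain ⟨j, -, hj⟩ := hζ.eq_pow_of_pow_eq_one (ξ := μ i) (by
    obtain ⟨c, hc⟩ := orderOf_dvd_of_pow_eq_one hg
    rw [hc, pow_mul, h2, one_pow])
  rw [← hj]
  exact pow_mem (IntermediateField.mem_adjoin_simple_self ℚ ζ) _

theorem fix_values_iff {g : G} {N k : ℕ} (hg : g ^ N = 1) (σ : ℂ ≃+* ℂ)
    (hσ : ∀ z : ℂ, z ^ N = 1 → σ z = z ^ k) :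
    (∀ s ∈ {z : ℂ | ∃ χ : IrrCharacter G, (χ : G → ℂ) g = z}, σ s = s) ↔ IsConj g (g ^ k) := by
  rw [CharBasicOrth.isConj_iff_forall_irr]
  constructor
  · intro h χ
    rw [← value_aut hg χ σ hσ]
    exact (h _ ⟨χ, rfl⟩).symm
  · rintro h s ⟨χ, rfl⟩
    rw [value_aut hg χ σ hσ, h χ]

end Values

/-- The two quadratic irrationalities. -/
theorem fix_theta {N k m : ℕ} [NeZero N] (hN : N = 2 * m) {ζ : ℂ} (hζ : IsPrimitiveRoot ζ N)
    (σ : ℂ ≃+* ℂ) (hσ : ∀ z : ℂ, z ^ N = 1 → σ z = z ^ k) :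
    ((∀ t ∈ ({ζ + ζ⁻¹} : Set ℂ), σ t = t) ↔ k ≡ 1 [MOD N] ∨ k ≡ N - 1 [MOD N]) ∧
    ((∀ t ∈ ({ζ - ζ⁻¹} : Set ℂ), σ t = t) ↔ k ≡ 1 [MOD N] ∨ k ≡ m - 1 [MOD N]) := by
  have hN0 : 0 < N := NeZero.pos N
  have hm0 : 0 < m := by omega
  have hne : ζ ≠ 0 := hζ.ne_zero (NeZero.ne N)
  have hu : σ ζ = ζ ^ k := hσ ζ hζ.pow_eq_one
  have hk0 : ζ ^ k ≠ 0 := pow_ne_zero _ hne
  have hmod : ∀ A B : ℕ, ζ ^ A = ζ ^ B ↔ A ≡ B [MOD N] := fun A B => by
    have := (hζ.isOfFinOrder (NeZero.ne N)).pow_eq_pow_iff_modEq (n := A) (m := B)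
    rwa [← hζ.eq_orderOf] at this
  have h1 : ζ ^ (N - 1) = ζ⁻¹ := by
    refine eq_inv_of_mul_eq_one_left ?_
    rw [← pow_succ, Nat.sub_add_cancel (by omega), hζ.pow_eq_one]
  have hmh : ζ ^ m = -1 := by
    have h2 : (ζ ^ m) ^ 2 = 1 := by rw [← pow_mul, mul_comm, ← hN, hζ.pow_eq_one]
    rcases sq_eq_one_iff.1 h2 with h | h
    · exact absurd h (hζ.pow_ne_one_of_pos_of_lt hm0.ne' (by omega))
    · exact h
  have h2 : ζ ^ (m - 1) = -ζ⁻¹ := by
    have : ζ ^ (m - 1) * ζ = -1 := by rw [← pow_succ, Nat.sub_add_cancel hm0, hmh]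
    rw [← neg_one_mul ζ⁻¹, ← this, mul_inv_cancel_right₀ hne]
  refine ⟨?_, ?_⟩
  · rw [← hmod k 1, ← hmod k (N - 1), h1, pow_one, show ∀ (a : ℂ) (p : ℂ → Prop), (∀ t ∈ ({a} : Set ℂ), p t) ↔ p a from fun a p => by simp]
    rw [map_add, map_inv₀, hu]
    constructor
    · intro h
      have : (ζ ^ k - ζ) * (ζ ^ k - ζ⁻¹) = 0 := by
        field_simp at h ⊢
        linear_combination h
      rcases mul_eq_zero.1 this with h3 | h3
      · exact Or.inl (sub_eq_zero.1 h3)
      · exact Or.inr (sub_eq_zero.1 h3)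
    · rintro (h | h) <;> rw [h]
      rw [inv_inv, add_comm]
  · rw [← hmod k 1, ← hmod k (m - 1), h2, pow_one, show ∀ (a : ℂ) (p : ℂ → Prop), (∀ t ∈ ({a} : Set ℂ), p t) ↔ p a from fun a p => by simp]
    rw [map_sub, map_inv₀, hu]
    constructor
    · intro h
      have : (ζ ^ k - ζ) * (ζ ^ k - -ζ⁻¹) = 0 := by
        field_simp at h ⊢
        linear_combination h
      rcases mul_eq_zero.1 this with h3 | h3
      · exact Or.inl (sub_eq_zero.1 h3)
      · exact Or.inr (sub_eq_zero.1 h3)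
    · rintro (h | h) <;> rw [h]
      rw [inv_neg, inv_inv, sub_neg_eq_add, neg_add_eq_sub]

/-- Class field of an element inverted or twisted: the fixers are the obvious ones. -/
theorem conj_iff {G : Type*} [Group G] [Finite G] {n e : ℕ} (hn : 3 ≤ n)
    (hG : (Nat.card G).factorization 2 = n) {g x : G} (hg : orderOf g = 2 ^ (n - 1))
    (hx : x * g * x⁻¹ = g ^ e) (hne : ¬ e ≡ 1 [MOD 2 ^ (n - 1)]) :
    2 ∣ (Subgroup.centralizer ({g} : Set G)).index ∧
      ∀ k : ℕ, k.Coprime (2 ^ (n - 1)) →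
        (IsConj g (g ^ k) ↔ k ≡ 1 [MOD 2 ^ (n - 1)] ∨ k ≡ e [MOD 2 ^ (n - 1)]) := by
  classical
  haveI : Fact (Nat.Prime 2) := ⟨Nat.prime_two⟩
  set M := Subgroup.normalizer ((zpowers g : Subgroup G) : Set G) with hMdef
  set C := Subgroup.centralizer ({g} : Set G) with hCdef
  have hCz : Subgroup.centralizer ((zpowers g : Subgroup G) : Set G) = C := by
    ext y
    refine ⟨fun hy => mem_centralizer_singleton_iff.2 (mem_centralizer_iff.1 hy g (mem_zpowers g)).symm,
      fun hy => mem_centralizer_iff.2 fun z hz => ?_⟩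
    obtain ⟨i, rfl⟩ := mem_zpowers_iff.1 hz
    exact ((show Commute g y from (mem_centralizer_singleton_iff.1 hy).symm).zpow_left i).eq
  have hCM : C ≤ M := by rw [← hCz, hMdef]; exact Subgroup.centralizer_le_normalizer _
  have hmemM : ∀ (y : G) (k : ℕ), k.Coprime (2 ^ (n - 1)) → y * g * y⁻¹ = g ^ k → y ∈ M := by
    intro y k hk hy
    rw [hMdef, Subgroup.mem_normalizer_iff_map_conj_eq, MonoidHom.map_zpowers]
    show zpowers (y * g * y⁻¹) = zpowers g
    rw [hy]
    refine eq_of_le_of_card_ge (zpowers_le.2 (pow_mem (mem_zpowers g) k)) ?_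
    rw [Nat.card_zpowers, Nat.card_zpowers, Nat.Coprime.orderOf_pow]
    rw [hg]; exact hk.symm
  have hxe : e.Coprime (2 ^ (n - 1)) := by
    have h1 : orderOf (g ^ e) = orderOf g := by
      rw [← hx, ← MulAut.conj_apply, MulEquiv.orderOf_eq]
    rw [Nat.coprime_pow_right_iff (by omega), Nat.coprime_two_right, ← Nat.not_even_iff_odd,
      even_iff_two_dvd]
    intro h2
    obtain ⟨c, rfl⟩ := h2
    have h3 : (g ^ (2 * c)) ^ 2 ^ (n - 2) = 1 := by
      rw [← pow_mul, show 2 * c * 2 ^ (n - 2) = 2 ^ (n - 1) * c by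
        rw [show n - 1 = n - 2 + 1 by omega, pow_succ]; ring, pow_mul, ← hg, pow_orderOf_eq_one,
        one_pow]
    have h4 := orderOf_dvd_of_pow_eq_one h3
    rw [h1, hg, Nat.pow_dvd_pow_iff_le_right one_lt_two] at h4
    omega
  have hxM : x ∈ M := hmemM x e hxe hx
  have hxC : x ∉ C := by
    intro h
    rw [hCdef, mem_centralizer_singleton_iff] at h
    refine hne ?_
    have h1 : g ^ e = g ^ 1 := by rw [← hx, h, mul_inv_cancel_right, pow_one]
    rw [pow_eq_pow_iff_modEq, hg] at h1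
    exact h1
  obtain ⟨j, hj⟩ : ∃ j, C.relIndex M = 2 ^ j := by
    have h1 : C.relIndex M ∣ Nat.totient (2 ^ (n - 1)) := by
      rw [Subgroup.relIndex, ← hCz, ← Subgroup.normalizerMonoidHom_ker, Subgroup.index_ker]
      refine (Subgroup.card_subgroup_dvd_card _).trans (dvd_of_eq ?_)
      rw [IsCyclic.card_mulAut, Nat.card_zpowers, hg]
    rw [Nat.totient_prime_pow Nat.prime_two (by omega)] at h1
    simp only [mul_one, Nat.add_one_sub_one] at h1
    obtain ⟨j, -, hj⟩ := (Nat.dvd_prime_pow Nat.prime_two).1 h1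
    exact ⟨j, hj⟩
  have hgC : g ∈ C := mem_centralizer_singleton_iff.2 rfl
  have hC2 : 2 ^ (n - 1) ∣ Nat.card C := by
    rw [← hg, ← Subgroup.orderOf_mk g hgC]; exact orderOf_dvd_natCard _
  have hMC : C.relIndex M * Nat.card C = Nat.card M := by
    rw [mul_comm, ← Subgroup.relIndex_bot_left, ← Subgroup.relIndex_bot_left]
    exact Subgroup.relIndex_mul_relIndex ⊥ C M bot_le hCM
  have hj1 : j ≤ 1 := by
    have h1 : 2 ^ (j + (n - 1)) ∣ Nat.card G := by
      rw [pow_add]
      exact ((Nat.mul_dvd_mul (dvd_of_eq hj.symm) hC2).trans (dvd_of_eq hMC)).trans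
        (Subgroup.card_subgroup_dvd_card M)
    have h2 := (Nat.prime_two.pow_dvd_iff_le_factorization Nat.card_pos.ne').1 h1
    omega
  have hj0 : j = 1 := by
    rcases Nat.le_one_iff_eq_zero_or_eq_one.1 hj1 with rfl | rfl
    · exact absurd (Subgroup.relIndex_eq_one.1 (by rw [hj, pow_zero]) hxM) hxC
    · rfl
  subst hj0
  rw [pow_one] at hj
  refine ⟨?_, fun k hk => ⟨fun hc => ?_, fun hc => ?_⟩⟩
  · exact hj ▸ Subgroup.relIndex_dvd_index_of_le hCM
  · obtain ⟨y, hy⟩ := isConj_iff.1 hc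
    have hyM := hmemM y k hk hy
    have hcase : ∀ a ∈ M, a ∉ C → x⁻¹ * a ∈ C := by
      intro a ha haC
      have h2 : (C.subgroupOf M).index = 2 := hj
      have := (Subgroup.mul_mem_iff_of_index_two h2 (a := (⟨x, hxM⟩ : M)⁻¹) (b := ⟨a, ha⟩)).2
        (iff_of_false (fun h => hxC (inv_mem_iff.1 h)) haC)
      exact this
    have key : ∀ B : ℕ, g ^ k = g ^ B → k ≡ B [MOD 2 ^ (n - 1)] := fun B h => by
      rwa [pow_eq_pow_iff_modEq, hg] at h
    by_cases hyC : y ∈ C
    · left
      rw [hCdef, mem_centralizer_singleton_iff] at hyC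
      exact key 1 (by rw [← hy, hyC, mul_inv_cancel_right, pow_one])
    · right
      have h2 := hcase y hyM hyC
      rw [hCdef, mem_centralizer_singleton_iff] at h2
      refine key e ?_
      calc g ^ k = x * ((x⁻¹ * y) * g) * y⁻¹ := by rw [← hy]; group
        _ = x * (g * (x⁻¹ * y)) * y⁻¹ := by rw [h2]
        _ = g ^ e := by rw [← hx]; group
  · have hgN : g ^ 2 ^ (n - 1) = 1 := hg ▸ pow_orderOf_eq_one g
    rcases hc with h | h
    · rw [pow_mod_of_modEq hgN h, pow_one]
    · rw [pow_mod_of_modEq hgN h]; exact isConj_iff.2 ⟨x, hx⟩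

/-- A 2-group with cyclic abelianization is commutative. -/
theorem comm_of_cyclic {X : Type*} [Group X] [Finite X] (hX : IsPGroup 2 X)
    (hcyc : IsCyclic (X ⧸ commutator X)) : ∀ a b : X, a * b = b * a := by
  haveI : Fact (Nat.Prime 2) := ⟨Nat.prime_two⟩
  obtain ⟨u, hu⟩ := hcyc.exists_generator
  obtain ⟨u, rfl⟩ := QuotientGroup.mk_surjective u
  have htop : zpowers u = ⊤ := by
    by_contra hne
    obtain ⟨M, hM, hMi, huM⟩ := PGroupsBasic.exists_normal_index_eq hX hne
    haveI := hM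
    have hc : commutator X ≤ M := by
      have : IsCyclic (X ⧸ M) := isCyclic_of_prime_card (p := 2) hMi
      rw [_root_.commutator_def, Subgroup.commutator_le]
      intro a _ b _
      rw [← QuotientGroup.eq_one_iff, ← QuotientGroup.mk'_apply, map_commutatorElement,
        commutatorElement_eq_one_iff_mul_comm]
      exact Std.Commutative.comm (self := (IsCyclic.isMulCommutative).is_comm) _ _
    have : M = ⊤ := eq_top_iff.2 fun a _ => by
      obtain ⟨j, hj⟩ := mem_zpowers_iff.1 (hu (a : X ⧸ commutator X))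
      rw [← QuotientGroup.mk_zpow, QuotientGroup.eq] at hj
      have := M.mul_mem (zpow_mem (huM (mem_zpowers u)) j) (hc hj)
      rwa [mul_inv_cancel_left] at this
    rw [this, index_top] at hMi
    omega
  intro a b
  have hc : IsCyclic X := isCyclic_iff_exists_zpowers_eq_top.2 ⟨u, htop⟩
  exact (IsCyclic.isMulCommutative (α := X)).is_comm.comm a b

/-- A noncommutative 2-group has commutator index at least four. -/
theorem four_le_index {X : Type*} [Group X] [Finite X] (hX : IsPGroup 2 X)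
    (hnc : ¬ ∀ a b : X, a * b = b * a) : 4 ∣ (commutator X).index := by
  haveI : Fact (Nat.Prime 2) := ⟨Nat.prime_two⟩
  obtain ⟨i, hi⟩ := hX.index (commutator X)
  rcases Nat.lt_or_ge i 2 with h | h
  · exfalso
    have hcyc : IsCyclic (X ⧸ commutator X) := by
      interval_cases i
      · have : Subsingleton (X ⧸ commutator X) :=
          (Nat.card_eq_one_iff_unique.1 (by rw [← Subgroup.index_eq_card, hi, pow_zero])).1
        infer_instance
      · exact isCyclic_of_prime_card (p := 2) (by rw [← Subgroup.index_eq_card, hi, pow_one])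
    exact hnc (comm_of_cyclic hX hcyc)
  · rw [hi]
    exact (show (4 : ℕ) = 2 ^ 2 by norm_num) ▸ pow_dvd_pow 2 h

/-- Let G be a finite group with Sylow 2-subgroup P of order 2^n ≥ 8, and let ζ be a primitive 2^(n−1)-th root of unity in ℂ. Then the commutator subgroup of P has index 4 in P if and only if there is an element g of P whose conjugacy class in G has even size and such that the field generated over ℚ by the values at g of all irreducible complex characters of G equals ℚ(ζ + ζ⁻¹) or ℚ(ζ − ζ⁻¹). -/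
theorem result {G : Type*} [Group G] [Finite G] (P : Sylow 2 G) (n : ℕ) (hn : 3 ≤ n) (hP : Nat.card P = 2 ^ n) (ζ : ℂ) (hζ : IsPrimitiveRoot ζ (2 ^ (n - 1))) :
    (commutator ↥P).index = 4 ↔
      ∃ g : G, g ∈ (P : Subgroup G) ∧ 2 ∣ (Subgroup.centralizer ({g} : Set G)).index ∧
        (IntermediateField.adjoin ℚ {z : ℂ | ∃ χ : Cfsg.IrrCharacter G, (χ : G → ℂ) g = z} = IntermediateField.adjoin ℚ ({ζ + ζ⁻¹} : Set ℂ) ∨
          IntermediateField.adjoin ℚ {z : ℂ | ∃ χ : Cfsg.IrrCharacter G, (χ : G → ℂ) g = z} = IntermediateField.adjoin ℚ ({ζ - ζ⁻¹} : Set ℂ)) := by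
  classical
  haveI : Fact (Nat.Prime 2) := ⟨Nat.prime_two⟩
  have hN0 : NeZero (2 ^ (n - 1)) := ⟨(pow_pos two_pos _).ne'⟩
  set N := 2 ^ (n - 1) with hNdef
  set m := 2 ^ (n - 2) with hmdef
  have hNm : N = 2 * m := by rw [hNdef, hmdef, show n - 1 = n - 2 + 1 by omega, pow_succ']
  have hm2 : 2 ≤ m := by
    rw [hmdef]; exact le_self_pow₀ (by norm_num) (by omega)
  have hfac : (Nat.card G).factorization 2 = n := by
    have h1 := P.card_eq_multiplicity
    rw [hP] at h1
    exact (Nat.pow_right_injective le_rfl h1).symm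
  have hθmem : ({ζ + ζ⁻¹} : Set ℂ) ⊆ (IntermediateField.adjoin ℚ ({ζ} : Set ℂ) : Set ℂ) ∧
      ({ζ - ζ⁻¹} : Set ℂ) ⊆ (IntermediateField.adjoin ℚ ({ζ} : Set ℂ) : Set ℂ) := by
    have h := IntermediateField.mem_adjoin_simple_self ℚ ζ
    exact ⟨Set.singleton_subset_iff.2 (add_mem h (inv_mem h)),
      Set.singleton_subset_iff.2 (sub_mem h (inv_mem h))⟩
  constructor
  · -- the index of the commutator subgroup is four
    intro hidx
    change (commutator (P : Subgroup G)).index = 4 at hidx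
    have hPp : IsPGroup 2 (P : Subgroup G) := P.2
    have hnc : ¬ ∀ a b : (P : Subgroup G), a * b = b * a := by
      intro hc
      have : commutator (P : Subgroup G) = ⊥ := by
        rw [_root_.commutator_def, commutator_eq_bot_iff_le_centralizer]
        exact fun a _ => mem_centralizer_iff.2 fun b _ => hc b a
      rw [show commutator ↥(P : Subgroup G) = ⊥ from this] at hidx
      change (⊥ : Subgroup (P : Subgroup G)).index = 4 at hidx
      rw [index_bot] at hidx
      have h8 : 2 ^ 3 ≤ 2 ^ n := Nat.pow_le_pow_right two_pos hn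
      rw [← hP] at h8
      omega
    have hK : IsKleinFour ((P : Subgroup G) ⧸ commutator (P : Subgroup G)) := by
      haveI : Nontrivial ((P : Subgroup G) ⧸ commutator (P : Subgroup G)) :=
        Finite.one_lt_card_iff_nontrivial.1 (by rw [← Subgroup.index_eq_card, hidx]; norm_num)
      refine ⟨hidx, (Monoid.exponent_eq_prime_iff Nat.prime_two).mpr fun a ha => ?_⟩
      refine orderOf_eq_prime ?_ ha
      by_contra h2
      have hd : orderOf a ∣ 4 := hidx ▸ orderOf_dvd_natCard a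
      obtain ⟨i, hi, hai⟩ := (Nat.dvd_prime_pow Nat.prime_two).1 (show orderOf a ∣ 2 ^ 2 from hd)
      interval_cases i
      · exact ha (orderOf_eq_one_iff.1 hai)
      · exact h2 (by have := pow_orderOf_eq_one a; rwa [hai] at this)
      · have hcy : IsCyclic ((P : Subgroup G) ⧸ commutator (P : Subgroup G)) :=
          isCyclic_of_orderOf_eq_card a (by rw [hai, ← Subgroup.index_eq_card, hidx]; norm_num)
        exact hnc (comm_of_cyclic hPp hcy)
    have hcl := MaxClassTwo.class_of_isKleinFour n (P : Subgroup G) hP hn hK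
    obtain ⟨C, hC, hCi, hcard, hZd, hZC, hsq⟩ := MaxClassTwo.structure_of_maxClass hn hP hcl
    obtain ⟨c, hcgen⟩ := hC.exists_generator
    set g : (P : Subgroup G) := (c : (P : Subgroup G)) with hgdef
    have hzC : zpowers g = C := by
      refine le_antisymm (zpowers_le.2 c.2) fun a ha => ?_
      obtain ⟨j, hj⟩ := mem_zpowers_iff.1 (hcgen ⟨a, ha⟩)
      exact mem_zpowers_iff.2 ⟨j, congrArg Subtype.val hj⟩
    have hog : orderOf g = N := by
      have h := card_mul_index C
      rw [hCi, hP, ← hzC, Nat.card_zpowers, show n = n - 1 + 1 by omega, pow_succ] at h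
      exact Nat.eq_of_mul_eq_mul_right two_pos h
    obtain ⟨y, hy⟩ : ∃ y, y ∉ C := by
      by_contra h
      push Not at h
      rw [show C = ⊤ from eq_top_iff.mpr fun x _ => h x, index_top] at hCi
      omega
    obtain ⟨-, -, hout, -⟩ :=
      MaxClassTwo.abelian_index_prime hPp C IsCyclic.isMulCommutative hCi hnc hy
    have hCn : C.Normal := PGroupsBasic.normal_of_index_eq hPp hCi
    obtain ⟨r, hrN, hr⟩ : ∃ r, r < N ∧ y * g * y⁻¹ = g ^ r := by
      have := hCn.conj_mem g c.2 y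
      rw [← hzC, mem_zpowers_iff_mem_range_orderOf, Finset.mem_image] at this
      obtain ⟨r, hr, hr'⟩ := this
      exact ⟨r, by simpa [hog] using hr, hr'.symm⟩
    -- every commutator is a power of `g ^ (r - 1)`
    have hrodd : r % 2 = 1 := by
      by_contra h
      obtain ⟨d, rfl⟩ : ∃ d, r = 2 * d := ⟨r / 2, by omega⟩
      have h1 : orderOf (g ^ (2 * d)) = N := by
        rw [← hr, ← MulAut.conj_apply, MulEquiv.orderOf_eq, hog]
      have h3 : (g ^ (2 * d)) ^ m = 1 := by
        rw [← pow_mul, show 2 * d * m = N * d by rw [hNm]; ring, pow_mul, ← hog,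
          pow_orderOf_eq_one, one_pow]
      have := orderOf_le_of_pow_eq_one (by omega) h3
      omega
    have hder : Nat.card (commutator (P : Subgroup G)) ≤ orderOf (g ^ (r + N - 1)) := by
      rw [← Nat.card_zpowers]
      refine card_le_of_le fun z hz => ?_
      obtain ⟨a, ha, rfl⟩ := hout z hz
      rw [← hzC, mem_zpowers_iff] at ha
      obtain ⟨j, rfl⟩ := ha
      refine mem_zpowers_iff.2 ⟨j, ?_⟩
      have hgN : g ^ N = 1 := hog ▸ pow_orderOf_eq_one g
      have h1 : g ^ (r + N - 1) = g ^ r * g⁻¹ := by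
        refine eq_mul_inv_of_mul_eq ?_
        rw [← pow_succ, Nat.sub_add_cancel (by omega), pow_add, hgN, mul_one]
      rw [commutatorElement_def, ← conj_zpow, hr, h1, (Commute.pow_self g r).inv_right.mul_zpow,
        inv_zpow]
    have hr4 : r % 4 = 3 := by
      by_contra h
      have h4 : r % 4 = 1 := by omega
      obtain ⟨d, hd⟩ : ∃ d, r + N - 1 = 4 * d := by
        refine ⟨(r + N - 1) / 4, (Nat.mul_div_cancel' ?_).symm⟩
        have : 4 ∣ N := by rw [hNm]; exact Nat.mul_dvd_mul_left 2 (dvd_pow_self 2 (by omega))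
        omega
      have h3 : (g ^ (r + N - 1)) ^ (2 ^ (n - 3)) = 1 := by
        have : 4 * 2 ^ (n - 3) = N := by
          rw [hNdef, show n - 1 = n - 3 + 2 by omega, pow_add]; ring
        rw [hd, ← pow_mul, mul_right_comm, this, pow_mul, ← hog, pow_orderOf_eq_one, one_pow]
      have := orderOf_le_of_pow_eq_one (pow_pos two_pos _) h3
      have h5 : 2 ^ (n - 3) < 2 ^ (n - 2) := Nat.pow_lt_pow_right one_lt_two (by omega)
      omega
    have hsq' : r * r ≡ 1 [MOD N] := by
      have h1 : Commute (y ^ 2) g := (mem_center_iff.1 (hsq y hy) g).symm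
      have h2 : g ^ (r * r) = g ^ 1 := by
        rw [pow_one, pow_mul, ← hr, conj_pow, ← hr]
        calc y * (y * g * y⁻¹) * y⁻¹ = y ^ 2 * g * (y ^ 2)⁻¹ := by rw [pow_two]; group
          _ = g := by rw [h1.eq, mul_inv_cancel_right]
      rwa [pow_eq_pow_iff_modEq, hog] at h2
    have hre : r = N - 1 ∨ r = m - 1 := by
      obtain ⟨u, hu⟩ : ∃ u, r = 2 * u + 1 := ⟨r / 2, by omega⟩
      have hdvd : N ∣ r * r - 1 := (Nat.modEq_iff_dvd' (by nlinarith)).1 hsq'.symm
      have hfac2 : r * r - 1 = (2 * u) * (r + 1) := by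
        rw [hu]; zify [show 1 ≤ (2 * u + 1) * (2 * u + 1) by nlinarith]; ring
      rw [hfac2, hNm, mul_assoc] at hdvd
      have h2 : m ∣ u * (r + 1) := Nat.dvd_of_mul_dvd_mul_left two_pos hdvd
      have hcop : m.Coprime u := (Nat.coprime_two_left.2 (Nat.odd_iff.2 (by omega))).pow_left _
      obtain ⟨t, ht⟩ := hcop.dvd_of_dvd_mul_left h2
      have ht1 : 0 < t := by
        rcases Nat.eq_zero_or_pos t with h | h
        · rw [h, mul_zero] at ht; omega
        · exact h
      have ht2 : t ≤ 2 := by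
        by_contra h
        have : m * 3 ≤ m * t := Nat.mul_le_mul_left m (by omega)
        omega
      interval_cases t <;> omega
    have hr1 : ¬ r ≡ 1 [MOD N] := by
      intro h
      have h' : r % N = 1 % N := h
      rw [Nat.mod_eq_of_lt hrN, Nat.mod_eq_of_lt (by omega : 1 < N)] at h'
      omega
    have hogG : orderOf (g : G) = 2 ^ (n - 1) := by rw [Subgroup.orderOf_coe]; exact hog
    have hxG : (y : G) * (g : G) * (y : G)⁻¹ = (g : G) ^ r := congrArg Subtype.val hr
    obtain ⟨hdvd, hiff⟩ := conj_iff hn hfac hogG hxG hr1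
    refine ⟨g, g.2, hdvd, ?_⟩
    have hgN : (g : G) ^ N = 1 := by
      have := pow_orderOf_eq_one (g : G); rwa [hogG] at this
    have hS : {z : ℂ | ∃ χ : Cfsg.IrrCharacter G, (χ : G → ℂ) g = z} ⊆
        (IntermediateField.adjoin ℚ ({ζ} : Set ℂ) : Set ℂ) := by
      rintro z ⟨χ, rfl⟩; exact value_mem hgN hζ χ
    rcases hre with h | h
    · refine Or.inl (adjoin_eq_of_fix hζ hS hθmem.1 fun k hk σ hσ => ?_)
      rw [fix_values_iff hgN σ hσ, (fix_theta hNm hζ σ hσ).1, hiff k hk, h]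
    · refine Or.inr (adjoin_eq_of_fix hζ hS hθmem.2 fun k hk σ hσ => ?_)
      rw [fix_values_iff hgN σ hσ, (fix_theta hNm hζ σ hσ).2, hiff k hk, h]
  · -- from the field to the index
    rintro ⟨g, hgP, hdvd, hfield⟩
    have hPp : IsPGroup 2 (P : Subgroup G) := P.2
    have hnc : ¬ ∀ a b : (P : Subgroup G), a * b = b * a := by
      intro hc
      have hle : (P : Subgroup G) ≤ Subgroup.centralizer ({g} : Set G) := fun a ha =>
        mem_centralizer_singleton_iff.2 (congrArg Subtype.val (hc ⟨a, ha⟩ ⟨g, hgP⟩))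
      exact P.not_dvd_index (hdvd.trans (Subgroup.index_dvd_of_le hle))
    show (commutator (P : Subgroup G)).index = 4
    have hfour := four_le_index hPp hnc
    have hpos : 0 < (commutator (P : Subgroup G)).index :=
      Nat.pos_of_ne_zero Subgroup.index_ne_zero_of_finite
    suffices hle : 2 ^ (n - 2) ≤ Nat.card (commutator (P : Subgroup G)) by
      have h := card_mul_index (commutator (P : Subgroup G))
      rw [hP, show n = n - 2 + 2 by omega, pow_add] at h
      have h3 : 2 ^ (n - 2) * (commutator (P : Subgroup G)).index ≤ 2 ^ (n - 2) * 2 ^ 2 := by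
        rw [← h]; exact Nat.mul_le_mul_right _ hle
      have := Nat.le_of_mul_le_mul_left h3 (pow_pos two_pos _)
      have := Nat.le_of_dvd hpos hfour
      omega
    rcases hn.lt_or_eq with hn4 | hn3
    swap
    · subst hn3
      norm_num
      by_contra h
      have h1 : Nat.card (commutator (P : Subgroup G)) = 1 := by
        have := Nat.card_pos (α := commutator (P : Subgroup G)); omega
      refine hnc fun a b => ?_
      have := commutator_mem_commutator (mem_top a) (mem_top b)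
      rw [← _root_.commutator_def, (commutator _).eq_bot_of_card_eq h1, mem_bot] at this
      exact commutatorElement_eq_one_iff_mul_comm.mp this
    have hm4 : 4 ≤ m := by
      rw [hmdef]; exact (show 2 ^ 2 ≤ 2 ^ (n - 2) from Nat.pow_le_pow_right two_pos (by omega))
    have hgN : g ^ N = 1 := by
      obtain ⟨i, hi⟩ := IsPGroup.iff_orderOf.1 hPp ⟨g, hgP⟩
      rw [Subgroup.orderOf_mk] at hi
      by_contra hne
      have hin : n ≤ i := by
        by_contra h
        exact hne (orderOf_dvd_iff_pow_eq_one.1 (hi ▸ pow_dvd_pow 2 (by omega)))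
      have hd := orderOf_dvd_natCard (⟨g, hgP⟩ : (P : Subgroup G))
      rw [Subgroup.orderOf_mk, hi, hP, Nat.pow_dvd_pow_iff_le_right one_lt_two] at hd
      obtain rfl : i = n := le_antisymm hd hin
      have hcyc : IsCyclic (P : Subgroup G) :=
        isCyclic_of_orderOf_eq_card ⟨g, hgP⟩ (by rw [Subgroup.orderOf_mk, hi, hP])
      exact hnc fun a b => (IsCyclic.isMulCommutative (α := (P : Subgroup G))).is_comm.comm a b
    obtain ⟨e, θ, hθ, hfix, hem⟩ : ∃ (e : ℕ) (θ : ℂ),
        IntermediateField.adjoin ℚ {z : ℂ | ∃ χ : Cfsg.IrrCharacter G, (χ : G → ℂ) g = z} =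
          IntermediateField.adjoin ℚ ({θ} : Set ℂ) ∧
        (∀ (k : ℕ) (σ : ℂ ≃+* ℂ), (∀ z : ℂ, z ^ N = 1 → σ z = z ^ k) →
          ((∀ t ∈ ({θ} : Set ℂ), σ t = t) ↔ k ≡ 1 [MOD N] ∨ k ≡ e [MOD N])) ∧
        (e = N - 1 ∨ e = m - 1) := by
      rcases hfield with h | h
      · exact ⟨N - 1, _, h, fun k σ hσ => (fix_theta hNm hζ σ hσ).1, Or.inl rfl⟩
      · exact ⟨m - 1, _, h, fun k σ hσ => (fix_theta hNm hζ σ hσ).2, Or.inr rfl⟩
    have hiff : ∀ (k : ℕ), k.Coprime N → (IsConj g (g ^ k) ↔ k ≡ 1 [MOD N] ∨ k ≡ e [MOD N]) := by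
      intro k hk
      obtain ⟨σ, hσ⟩ := exists_aut (NeZero.pos N) hk
      rw [← fix_values_iff hgN σ hσ, ← hfix k σ hσ]
      constructor
      · intro h t ht
        exact fix_adjoin σ h (hθ ▸ IntermediateField.subset_adjoin ℚ _ ht)
      · intro h t ht
        exact fix_adjoin σ h (hθ.symm ▸ IntermediateField.subset_adjoin ℚ _ ht)
    have hmeven : m % 2 = 0 := by
      rw [hmdef, show n - 2 = n - 3 + 1 by omega, pow_succ]; omega
    have hog : orderOf g = N := by
      refine orderOf_eq_prime_pow ?_ ?_ |>.trans (show 2 ^ (n - 2 + 1) = N by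
        rw [hNdef]; congr 1; omega)
      · intro h
        have hk : (m + 1).Coprime N :=
          (Nat.coprime_two_right.2 (Nat.odd_iff.2 (by omega))).pow_right _
        have hc : IsConj g (g ^ (m + 1)) := by
          rw [pow_succ, h, one_mul]
        rcases (hiff _ hk).1 hc with h1 | h1
        · have h1' : (m + 1) % N = 1 % N := h1
          rw [Nat.mod_eq_of_lt (by omega), Nat.mod_eq_of_lt (by omega)] at h1'
          omega
        · have h1' : (m + 1) % N = e % N := h1
          rw [Nat.mod_eq_of_lt (by omega), Nat.mod_eq_of_lt (by omega)] at h1'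
          omega
      · rw [show 2 ^ (n - 2 + 1) = N by rw [hNdef]; congr 1; omega]; exact hgN
    have heodd : e % 2 = 1 := by rcases hem with h | h <;> omega
    have he1 : ¬ e ≡ 1 [MOD N] := by
      intro h
      have h' : e % N = 1 % N := h
      rw [Nat.mod_eq_of_lt (by omega : e < N), Nat.mod_eq_of_lt (by omega : 1 < N)] at h'
      omega
    have hesq : e * e ≡ 1 [MOD N] := by
      rcases hem with h | h <;> subst h
      · refine Nat.modEq_of_dvd ⟨-((N : ℤ) - 2), ?_⟩
        push_cast [show 1 ≤ N by omega]; ring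
      · obtain ⟨m', hm'⟩ : 2 ∣ m := by omega
        refine Nat.modEq_of_dvd ⟨-((m' : ℤ) - 1), ?_⟩
        rw [hNm, hm']
        push_cast [show 1 ≤ 2 * m' by omega]; ring
    have hek : e.Coprime N := (Nat.coprime_two_right.2 (Nat.odd_iff.2 heodd)).pow_right _
    obtain ⟨x0, hx0⟩ := isConj_iff.1 ((hiff e hek).2 (Or.inr (Nat.ModEq.refl e)))
    -- pass to a 2-element
    obtain ⟨a, q, hq, hfa⟩ := Nat.exists_eq_two_pow_mul_odd (orderOf_pos x0).ne'
    obtain ⟨j, rfl⟩ := hq
    set x := x0 ^ (2 * j + 1) with hxdef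
    have hx2 : x0 ^ 2 * g * (x0 ^ 2)⁻¹ = g := by
      calc x0 ^ 2 * g * (x0 ^ 2)⁻¹ = x0 * (x0 * g * x0⁻¹) * x0⁻¹ := by rw [pow_two]; group
        _ = g := by rw [hx0, ← conj_pow, hx0, ← pow_mul, pow_mod_of_modEq hgN hesq, pow_one]
    have hx : x * g * x⁻¹ = g ^ e := by
      have h1 : Commute (x0 ^ 2) g := mul_inv_eq_iff_eq_mul.1 hx2
      have h2 : Commute ((x0 ^ 2) ^ j) g := h1.pow_left j
      rw [hxdef, pow_succ', pow_mul]
      calc x0 * (x0 ^ 2) ^ j * g * (x0 * (x0 ^ 2) ^ j)⁻¹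
          = x0 * ((x0 ^ 2) ^ j * g * ((x0 ^ 2) ^ j)⁻¹) * x0⁻¹ := by group
        _ = g ^ e := by rw [h2.eq, mul_inv_cancel_right, hx0]
    have hxp : IsPGroup 2 (zpowers x) := by
      have h : orderOf x ∣ 2 ^ a := orderOf_dvd_of_pow_eq_one (by
        rw [hxdef, ← pow_mul, mul_comm, ← hfa, pow_orderOf_eq_one])
      obtain ⟨i, -, hi⟩ := (Nat.dvd_prime_pow Nat.prime_two).1 h
      exact IsPGroup.of_card (n := i) (by rw [Nat.card_zpowers, hi])
    have hgp : IsPGroup 2 (zpowers g) := IsPGroup.of_card (n := n - 1) (by rw [Nat.card_zpowers, hog])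
    have hnorm : zpowers x ≤ Subgroup.normalizer ((zpowers g : Subgroup G) : Set G) := by
      rw [zpowers_le, Subgroup.mem_normalizer_iff_map_conj_eq, MonoidHom.map_zpowers]
      show zpowers (x * g * x⁻¹) = zpowers g
      rw [hx]
      refine eq_of_le_of_card_ge (zpowers_le.2 (pow_mem (mem_zpowers g) e)) ?_
      rw [Nat.card_zpowers, Nat.card_zpowers, Nat.Coprime.orderOf_pow]
      rw [hog]; exact hek.symm
    set H := zpowers g ⊔ zpowers x with hHdef
    have hHp : IsPGroup 2 H := hgp.to_sup_of_normal_left' hxp hnorm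
    have hgH : g ∈ H := mem_sup_left (mem_zpowers g)
    have hxH : x ∈ H := mem_sup_right (mem_zpowers x)
    have hlt : zpowers g < H := by
      refine lt_of_le_of_ne le_sup_left fun h => he1 ?_
      rw [← h] at hxH
      obtain ⟨i, hi'⟩ := mem_zpowers_iff.1 hxH
      have h1 : g ^ e = g ^ 1 := by
        rw [← hx, pow_one, ← hi', (Commute.zpow_self g i).eq, mul_inv_cancel_right]
      rwa [pow_eq_pow_iff_modEq, hog] at h1
    obtain ⟨i, hi⟩ := IsPGroup.iff_card.1 hHp
    obtain ⟨Q, hHQ⟩ := hHp.exists_le_sylow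
    have hQc : Nat.card (Q : Subgroup G) = 2 ^ n := by rw [Q.card_eq_multiplicity, hfac]
    have hHQ' : H = (Q : Subgroup G) := by
      refine eq_of_le_of_card_ge hHQ ?_
      rw [hQc, hi]
      refine Nat.pow_le_pow_right two_pos ?_
      by_contra hin
      have h1 : Nat.card H ≤ Nat.card (zpowers g) := by
        rw [hi, Nat.card_zpowers, hog, hNdef]; exact Nat.pow_le_pow_right two_pos (by omega)
      exact hlt.ne (eq_of_le_of_card_ge hlt.le h1)
    have hgQ : g ∈ (Q : Subgroup G) := hHQ' ▸ hgH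
    have hxQ : x ∈ (Q : Subgroup G) := hHQ' ▸ hxH
    have hcomm : g ^ e * g⁻¹ ∈ (commutator (Q : Subgroup G)).map (Q : Subgroup G).subtype := by
      refine ⟨⁅(⟨x, hxQ⟩ : (Q : Subgroup G)), ⟨g, hgQ⟩⁆,
        commutator_mem_commutator (mem_top _) (mem_top _), ?_⟩
      rw [map_commutatorElement, commutatorElement_def]
      show x * g * x⁻¹ * g⁻¹ = _
      rw [hx]
    have hge : g ^ e * g⁻¹ = g ^ (e - 1) := by
      rw [mul_inv_eq_iff_eq_mul, ← pow_succ, Nat.sub_add_cancel (by omega)]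
    rw [hge] at hcomm
    have hord : orderOf (g ^ (e - 1)) = 2 ^ (n - 2) := by
      obtain ⟨d, hd⟩ : ∃ d, e - 1 = 2 * d := ⟨(e - 1) / 2, by omega⟩
      have hd2 : d % 2 = 1 := by
        obtain ⟨m', hm'⟩ : 4 ∣ m := by
          rw [hmdef, show n - 2 = n - 4 + 2 by omega, pow_add]; exact dvd_mul_left _ _
        rcases hem with h | h <;> omega
      rw [hd, pow_mul, Nat.Coprime.orderOf_pow]
      · rw [orderOf_pow_of_dvd two_ne_zero (by rw [hog, hNm]; exact dvd_mul_right _ _), hog, hNm,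
          Nat.mul_div_cancel_left _ two_pos]
      · rw [orderOf_pow_of_dvd two_ne_zero (by rw [hog, hNm]; exact dvd_mul_right _ _), hog, hNm,
          Nat.mul_div_cancel_left _ two_pos]
        exact (Nat.coprime_two_left.2 (Nat.odd_iff.2 hd2)).pow_left _
    have h2 : 2 ^ (n - 2) ≤ Nat.card (commutator (Q : Subgroup G)) := by
      rw [← hord, ← Nat.card_zpowers]
      exact (card_le_of_le (zpowers_le.2 hcomm)).trans
        (Nat.le_of_dvd Nat.card_pos (Subgroup.card_map_dvd _ _))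
    obtain ⟨f⟩ : Nonempty ((Q : Subgroup G) ≃* (P : Subgroup G)) := ⟨Q.equiv P⟩
    have h3 : (commutator (Q : Subgroup G)).map f.toMonoidHom = commutator (P : Subgroup G) := by
      rw [_root_.commutator_def, _root_.commutator_def, Subgroup.map_commutator,
        map_top_of_surjective _ f.surjective]
    rw [← h3, Subgroup.card_map_of_injective f.injective]
    exact h2

end Cfsg.Agent.S4923
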