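import Cfsg.Agent.Lib.NormalizerExt

set_option autoImplicit false

open scoped ComplexConjugate

namespace Cfsg.Agent.S4930

open Cfsg.Agent Cfsg.Agent.NormalizerExt

universe u

/-- Arithmetic step: squares, and the sum, of the weights of one fibre. -/
theorem fibre_bound {ι : Type*} (s : Finset ι) (w : ι → ℕ) (d : ℕ) (h : ∑ i ∈ s, w i ≤ d) :
    ∑ i ∈ s, w i ^ 2 ≤ d ^ 2 ∧ (∑ i ∈ s, w i ^ 2 = d ^ 2 → ∀ i ∈ s, 0 < w i → w i = d) := by
  classical
  have h1 : ∀ i ∈ s, w i ^ 2 ≤ w i * d := fun i hi => by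
    rw [pow_two]; exact Nat.mul_le_mul_left _ ((Finset.single_le_sum (fun _ _ => Nat.zero_le _) hi).trans h)
  have h2 : ∑ i ∈ s, w i * d ≤ d ^ 2 := by
    rw [← Finset.sum_mul, pow_two]; exact Nat.mul_le_mul_right _ h
  refine ⟨(Finset.sum_le_sum h1).trans h2, fun he i hi hpos => ?_⟩
  have h3 : ∑ i ∈ s, w i ^ 2 = ∑ i ∈ s, w i * d := le_antisymm (Finset.sum_le_sum h1) (he ▸ h2)
  have h4 := (Finset.sum_eq_sum_iff_of_le h1).1 h3 i hi
  rw [pow_two] at h4
  exact Nat.eq_of_mul_eq_mul_left hpos h4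

variable {G : Type u} [Group G] [Fintype G]

theorem main (p : ℕ) [Fact p.Prime] (P : Sylow p G) :
    Nat.card (NP P) ≤ Nat.card (commutator ↥(P : Subgroup G)) *
        (∑ᶠ χ : {χ : Cfsg.IrrCharacter G // ¬ p ∣ Cfsg.charDegree (χ : G → ℂ)}, Cfsg.charDegree (χ.1 : G → ℂ) ^ 2) ∧
    (Nat.card (NP P) = Nat.card (commutator ↥(P : Subgroup G)) *
        (∑ᶠ χ : {χ : Cfsg.IrrCharacter G // ¬ p ∣ Cfsg.charDegree (χ : G → ℂ)}, Cfsg.charDegree (χ.1 : G → ℂ) ^ 2) ↔
      ∃ K : Subgroup G, K.Normal ∧ K ⊓ NP P = ⊥ ∧ K ⊔ NP P = ⊤) := by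
  classical
  haveI := Fintype.ofFinite (NP P)
  let A := {χ : Cfsg.IrrCharacter G // ¬ p ∣ Cfsg.charDegree (χ : G → ℂ)}
  let B := {θ : Cfsg.IrrCharacter (NP P) // ∀ y ∈ DN P, (θ : NP P → ℂ) y = (θ : NP P → ℂ) 1}
  let dG : A → ℕ := fun χ => Cfsg.charDegree (χ.1 : G → ℂ)
  let dN : B → ℕ := fun θ => Cfsg.charDegree (θ.1 : NP P → ℂ)
  have hB : ∑ θ : B, dN θ ^ 2 = (DN P).index := sum_sq_quotient (DN P)
  have hD : Nat.card (commutator ↥(P : Subgroup G)) = Nat.card (DN P) := by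
    have h1 : Nat.card ((commutator ↥(P : Subgroup G)).map (P : Subgroup G).subtype) = Nat.card (commutator ↥(P : Subgroup G)) :=
      Subgroup.card_map_of_injective (P : Subgroup G).subtype_injective
    have h2 : Nat.card ((DN P).map (NP P).subtype) = Nat.card (DN P) :=
      Subgroup.card_map_of_injective (NP P).subtype_injective
    rw [← h1, ← h2, map_DN, commutator_def, Subgroup.map_commutator, ← MonoidHom.range_eq_map,
      Subgroup.range_subtype]
  have hN : Nat.card (NP P) = Nat.card (commutator ↥(P : Subgroup G)) * ∑ θ : B, dN θ ^ 2 := by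
    rw [hB, hD, Subgroup.card_mul_index]
  rw [finsum_eq_sum_of_fintype]
  have hDpos : 0 < Nat.card (commutator ↥(P : Subgroup G)) := Nat.card_pos
  -- a constituent of degree prime to p of each induced character
  have hex : ∀ θ : B, ∃ χ : A, Cfsg.classInner (fun x : NP P => (χ.1 : G → ℂ) x) (θ.1 : NP P → ℂ) ≠ 0 := by
    intro θ
    obtain ⟨m, hm, hexp⟩ := ind_expansion (NP P) (irr_isCharacter θ.1)
    have h1 := hexp 1
    simp only [CharInduced.ind_one_apply, irr_degree, ← Nat.cast_mul, ← Nat.cast_sum, Nat.cast_inj] at h1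
    by_contra hno
    push Not at hno
    have hd : p ∣ (NP P).index * dN θ := by
      show p ∣ (NP P).index * Cfsg.charDegree (θ.1 : NP P → ℂ)
      rw [h1]
      refine Finset.dvd_sum fun χ _ => ?_
      by_cases hχ : p ∣ Cfsg.charDegree (χ : G → ℂ)
      · exact dvd_mul_of_dvd_right hχ _
      · have := hno ⟨χ, hχ⟩
        rw [hm, Nat.cast_eq_zero] at this
        simp [this]
    rcases (Nat.Prime.dvd_mul Fact.out).1 hd with h | h
    · exact P.not_dvd_index (h.trans (Subgroup.index_dvd_of_le (P_le P)))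
    · exact not_dvd_of_trivial P θ.1 θ.2 h
  choose F hF using hex
  have hfib : ∀ χ : A, ∑ θ ∈ Finset.univ.filter (fun θ => F θ = χ), dN θ ≤ dG χ ∧
      ∀ θ, F θ = χ → dN θ = dG χ → ∀ x : NP P, (χ.1 : G → ℂ) x = (θ.1 : NP P → ℂ) x := by
    intro χ
    obtain ⟨m, hm, hsum⟩ := CharBasicDecomp.exists_mult (res_isCharacter (irr_isCharacter χ.1) (NP P))
    have h1 := congrFun hsum 1
    simp only [OneMemClass.coe_one, Finset.sum_apply, Pi.smul_apply, smul_eq_mul, irr_degree, ← Nat.cast_mul,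
      ← Nat.cast_sum, Nat.cast_inj] at h1
    have hmpos : ∀ θ, F θ = χ → 1 ≤ m θ.1 := fun θ hθ => by
      have := hF θ
      rw [hθ, hm, Nat.cast_ne_zero] at this
      omega
    refine ⟨?_, fun θ hθ hdeg x => ?_⟩
    · show _ ≤ Cfsg.charDegree (χ.1 : G → ℂ)
      rw [h1]
      calc ∑ θ ∈ Finset.univ.filter (fun θ => F θ = χ), dN θ
          ≤ ∑ θ ∈ Finset.univ.filter (fun θ => F θ = χ), m θ.1 * dN θ :=
            Finset.sum_le_sum fun θ hθ => Nat.le_mul_of_pos_left _ (hmpos θ (Finset.mem_filter.1 hθ).2)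
        _ = ∑ ψ ∈ (Finset.univ.filter (fun θ => F θ = χ)).image Subtype.val,
              m ψ * Cfsg.charDegree (ψ : NP P → ℂ) :=
            (Finset.sum_image (f := fun ψ : Cfsg.IrrCharacter (NP P) => m ψ * Cfsg.charDegree (ψ : NP P → ℂ))
              (fun a _ b _ h => Subtype.ext h)).symm
        _ ≤ _ := Finset.sum_le_sum_of_subset (Finset.subset_univ _)
    · have hsplit := Finset.add_sum_erase Finset.univ
        (fun ψ : Cfsg.IrrCharacter (NP P) => m ψ * Cfsg.charDegree (ψ : NP P → ℂ)) (Finset.mem_univ θ.1)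
      change Cfsg.charDegree (θ.1 : NP P → ℂ) = Cfsg.charDegree (χ.1 : G → ℂ) at hdeg
      rw [← h1, ← hdeg] at hsplit
      have hθpos := irr_degree_pos θ.1
      have hge : Cfsg.charDegree (θ.1 : NP P → ℂ) ≤ m θ.1 * Cfsg.charDegree (θ.1 : NP P → ℂ) :=
        Nat.le_mul_of_pos_left _ (hmpos θ hθ)
      have hm1 : m θ.1 = 1 := Nat.eq_of_mul_eq_mul_right hθpos (by rw [one_mul]; omega)
      have hzero : ∀ ψ ∈ Finset.univ, ψ ≠ θ.1 → m ψ = 0 := by
        intro ψ _ hne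
        rw [hm1, one_mul] at hsplit
        have h0 : ∑ ψ ∈ Finset.univ.erase θ.1, m ψ * Cfsg.charDegree (ψ : NP P → ℂ) = 0 := by omega
        have := Finset.sum_eq_zero_iff.1 h0 ψ (Finset.mem_erase.2 ⟨hne, Finset.mem_univ _⟩)
        exact (mul_eq_zero.1 this).resolve_right (irr_degree_pos ψ).ne'
      have := congrFun hsum x
      simp only [Finset.sum_apply, Pi.smul_apply, smul_eq_mul] at this
      rw [this, Finset.sum_eq_single θ.1 (fun ψ hψ hne => by rw [hzero ψ hψ hne, Nat.cast_zero, zero_mul])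
        (fun h => absurd (Finset.mem_univ _) h), hm1, Nat.cast_one, one_mul]
  have hle : ∀ χ ∈ (Finset.univ : Finset A),
      ∑ θ ∈ Finset.univ.filter (fun θ => F θ = χ), dN θ ^ 2 ≤ dG χ ^ 2 := fun χ _ =>
    (fibre_bound _ dN _ (hfib χ).1).1
  have hfw : ∑ χ : A, ∑ θ ∈ Finset.univ.filter (fun θ => F θ = χ), dN θ ^ 2 = ∑ θ : B, dN θ ^ 2 :=
    Finset.sum_fiberwise Finset.univ F _
  have hineq : ∑ θ : B, dN θ ^ 2 ≤ ∑ χ : A, dG χ ^ 2 := hfw ▸ Finset.sum_le_sum hle
  refine ⟨?_, ?_, ?_⟩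
  · rw [hN]; exact Nat.mul_le_mul_left _ hineq
  · intro heq
    rw [hN] at heq
    have he : ∑ θ : B, dN θ ^ 2 = ∑ χ : A, dG χ ^ 2 := Nat.eq_of_mul_eq_mul_left hDpos heq
    rw [← hfw, Finset.sum_eq_sum_iff_of_le hle] at he
    obtain ⟨K, hK, h1, h2⟩ := exists_complement P (fun θ hθ => by
      let χ := F ⟨θ, hθ⟩
      have hdeg := (fibre_bound _ dN _ (hfib χ).1).2 (he χ (Finset.mem_univ _)) ⟨θ, hθ⟩
        (Finset.mem_filter.2 ⟨Finset.mem_univ _, rfl⟩) (irr_degree_pos θ)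
      exact ⟨_, irr_isCharacter χ.1, (hfib χ).2 ⟨θ, hθ⟩ rfl hdeg⟩)
    exact ⟨K, hK, h2, h1⟩
  · rintro ⟨K, hKn, hbot, htop⟩
    haveI := hKn
    obtain ⟨f, hf, hfn, hfK⟩ := exists_retraction hbot htop
    rw [hN]
    congr 1
    have hf1 : f 1 = 1 := map_one f
    refine (Fintype.sum_equiv (Equiv.ofBijective (fun θ : B => (⟨⟨(θ.1 : NP P → ℂ) ∘ f,
      CharBasic.isIrrCharacter_comap f hf θ.1.2⟩, ?_⟩ : A)) ⟨?_, ?_⟩) _ _ ?_)
    · have h1 : ((θ.1 : NP P → ℂ) ∘ f) 1 = (Cfsg.charDegree (θ.1 : NP P → ℂ) : ℂ) := by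
        rw [Function.comp_apply, hf1, irr_degree]
      rw [charDegree_eq h1]
      exact not_dvd_of_trivial P θ.1 θ.2
    · intro a b h
      apply Subtype.ext; apply Subtype.ext; funext x
      have := congrFun (congrArg (fun c : A => (c.1 : G → ℂ)) h) (x : G)
      simpa [hfn] using this
    · intro χ
      have htriv := trivial_on_complement P hbot htop χ.1 χ.2
      have hrec : ∀ g : G, (χ.1 : G → ℂ) g = (χ.1 : G → ℂ) ((f g : NP P) : G) := fun g => by
        have hk : ((f g : NP P) : G)⁻¹ * g ∈ K := hKn.mem_comm (hfK g)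
        have := apply_mul_of_mem_charKer (irr_isCharacter χ.1) (htriv _ hk) ((f g : NP P) : G)
        rwa [mul_inv_cancel_left] at this
      have hirr : Cfsg.IsIrrCharacter (NP P) (fun x : NP P => (χ.1 : G → ℂ) x) := by
        obtain ⟨n, ρ, hρ, hρc⟩ := χ.1.2
        let σ := CharBasic.repComap (NP P).subtype ρ
        have hker : ∀ g : G, ρ g = σ (f g) := fun g => by
          have hk : ((f g : NP P) : G)⁻¹ * g ∈ K := hKn.mem_comm (hfK g)
          have h1 := htriv _ hk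
          rw [← hρc, Representation.char_one, CharBasic.character_eq_finrank_iff] at h1
          conv_lhs => rw [← mul_inv_cancel_left ((f g : NP P) : G) g]
          rw [map_mul, h1]
          rfl
        have e : Subrepresentation σ ≃o Subrepresentation ρ :=
          { toFun := fun U => ⟨U.toSubmodule, fun g v hv => by rw [hker]; exact U.apply_mem_toSubmodule _ hv⟩
            invFun := fun U => ⟨U.toSubmodule, fun x v hv => U.apply_mem_toSubmodule (x : G) hv⟩
            left_inv := fun U => rfl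
            right_inv := fun U => rfl
            map_rel_iff' := Iff.rfl }
        exact ⟨n, σ, e.isSimpleOrder_iff.2 inferInstance, by rw [← hρc]; rfl⟩
      have hdeg : Cfsg.charDegree (fun x : NP P => (χ.1 : G → ℂ) x) = Cfsg.charDegree (χ.1 : G → ℂ) := rfl
      refine ⟨⟨⟨_, hirr⟩, trivial_of_not_dvd P ⟨_, hirr⟩ (by
        show ¬ p ∣ Cfsg.charDegree (fun x : NP P => (χ.1 : G → ℂ) x)
        rw [hdeg]; exact χ.2)⟩, ?_⟩
      apply Subtype.ext; apply Subtype.ext; funext g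
      exact (hrec g).symm
    · intro θ
      show Cfsg.charDegree (θ.1 : NP P → ℂ) ^ 2 = Cfsg.charDegree ((θ.1 : NP P → ℂ) ∘ f) ^ 2
      have h1 : ((θ.1 : NP P → ℂ) ∘ f) 1 = (Cfsg.charDegree (θ.1 : NP P → ℂ) : ℂ) := by
        rw [Function.comp_apply, hf1, irr_degree]
      rw [charDegree_eq h1]

theorem result {G : Type*} [Group G] [Finite G] (P : Sylow 2 G) :
    Nat.card (Subgroup.normalizer ((P : Subgroup G) : Set G)) ≤ Nat.card (commutator ↥P) * (∑ᶠ χ : {χ : Cfsg.IrrCharacter G // ¬ 2 ∣ Cfsg.charDegree (χ : G → ℂ)}, Cfsg.charDegree (χ.1 : G → ℂ) ^ 2) ∧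
    (Nat.card (Subgroup.normalizer ((P : Subgroup G) : Set G)) = Nat.card (commutator ↥P) * (∑ᶠ χ : {χ : Cfsg.IrrCharacter G // ¬ 2 ∣ Cfsg.charDegree (χ : G → ℂ)}, Cfsg.charDegree (χ.1 : G → ℂ) ^ 2) ↔
      ∃ K : Subgroup G, K.Normal ∧ K ⊓ Subgroup.normalizer ((P : Subgroup G) : Set G) = ⊥ ∧ K ⊔ Subgroup.normalizer ((P : Subgroup G) : Set G) = ⊤) := by
  haveI := Fintype.ofFinite G
  exact main 2 P

end Cfsg.Agent.S4930
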