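import Cfsg.Agent.Lib.NormalizerExt

set_option autoImplicit false

namespace Cfsg.Agent.S4931

open Cfsg.Agent.NormalizerExt

theorem result {G : Type*} [Group G] [Finite G] (p : ℕ) [Fact p.Prime] (P : Sylow p G) :
    (∀ θ : Cfsg.IrrCharacter ↥(Subgroup.normalizer ((P : Subgroup G) : Set G)), ¬ p ∣ Cfsg.charDegree (θ : ↥(Subgroup.normalizer ((P : Subgroup G) : Set G)) → ℂ) →
        ∃ χ : Cfsg.IrrCharacter G, ∀ x : ↥(Subgroup.normalizer ((P : Subgroup G) : Set G)), (χ : G → ℂ) x = (θ : ↥(Subgroup.normalizer ((P : Subgroup G) : Set G)) → ℂ) x) ↔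
      ∃ K : Subgroup G, K.Normal ∧ K ⊔ Subgroup.normalizer ((P : Subgroup G) : Set G) = ⊤ ∧ K ⊓ Subgroup.normalizer ((P : Subgroup G) : Set G) = ⊥ := by
  constructor
  · intro h
    refine exists_complement P fun θ hθ => ?_
    obtain ⟨χ, hχ⟩ := h θ (not_dvd_of_trivial P θ hθ)
    exact ⟨_, irr_isCharacter χ, hχ⟩
  · rintro ⟨K, hKn, htop, hbot⟩ θ -
    haveI := hKn
    obtain ⟨f, hf, hfn, -⟩ := exists_retraction hbot htop
    exact ⟨⟨_, CharBasic.isIrrCharacter_comap f hf θ.2⟩, fun x => congrArg _ (hfn x)⟩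

end Cfsg.Agent.S4931
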