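import Cfsg.Prelude.Def_Characters
import Mathlib

set_option autoImplicit false

namespace Cfsg.Agent.S4956

/-- For commuting `a`, `b` in a finite group acting coprimely on an abelian group `V`, the map
`(u, w) ↦ (u * a w) / (w * b u)` has kernel of order `|V| * |C_V(a, b)|`. -/
theorem fibre_card {V A : Type*} [CommGroup V] [Finite V] [Group A] [Finite A] [MulDistribMulAction A V]
    (hcop : (Nat.card V).Coprime (Nat.card A)) (a b : A) (hab : Commute a b) :
    Nat.card {p : V × V // p.1 * (a • p.2) = p.2 * (b • p.1)} =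
      Nat.card V * Nat.card {v : V // a • v = v ∧ b • v = v} := by
  classical
  let L : V × V →* V :=
    { toFun := fun p => p.1 * (a • p.2) / (p.2 * (b • p.1))
      map_one' := by simp
      map_mul' := fun p q => by
        simp only [Prod.fst_mul, Prod.snd_mul, smul_mul']
        rw [mul_mul_mul_comm p.1 q.1, mul_mul_mul_comm p.2 q.2, mul_div_mul_comm] }
  let B : Subgroup A := Subgroup.closure {a, b}
  haveI : Fintype B := Fintype.ofFinite B
  let E : V →* V :=
    { toFun := fun v => ∏ c : B, (c : A) • v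
      map_one' := by simp
      map_mul' := fun v w => by simp only [smul_mul']; exact Finset.prod_mul_distrib }
  have hEinv : ∀ c : A, c ∈ B → ∀ v, E (c • v) = E v := by
    intro c hc v
    refine Fintype.prod_equiv (Equiv.mulRight (⟨c, hc⟩ : B)) _ _ (fun d => ?_)
    simp [mul_smul]
  have haB : a ∈ B := Subgroup.subset_closure (by simp)
  have hbB : b ∈ B := Subgroup.subset_closure (by simp)
  have hcopB : (Nat.card V).Coprime (Fintype.card B) := by
    rw [← Nat.card_eq_fintype_card]
    exact Nat.Coprime.coprime_dvd_right (Subgroup.card_subgroup_dvd_card B) hcop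
  have hfixB : ∀ v : V, a • v = v → b • v = v → ∀ c : B, (c : A) • v = v := by
    intro v ha hb c
    have : B ≤ MulAction.stabilizer A v :=
      (Subgroup.closure_le _).2 (by intro z hz; rcases hz with rfl | rfl <;> assumption)
    exact this c.2
  -- the two subgroups agree
  have hrange : L.range = E.ker := by
    apply le_antisymm
    · rintro v ⟨⟨u, w⟩, rfl⟩
      rw [MonoidHom.mem_ker]
      show E (u * (a • w) / (w * (b • u))) = 1
      rw [map_div, map_mul, map_mul, hEinv a haB, hEinv b hbB, mul_comm (E u), div_self']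
    · intro v hv
      have hT : ∀ c ∈ B, ∀ x : V, x / (c • x) ∈ L.range := by
        intro c hc
        induction hc using Subgroup.closure_induction with
        | mem z hz =>
          intro x
          rcases hz with rfl | rfl
          · exact ⟨((1 : V), x⁻¹), by simp [L, div_eq_mul_inv, mul_comm]⟩
          · exact ⟨(x, (1 : V)), by simp [L]⟩
        | one => intro x; simp
        | mul c d _ _ ihc ihd =>
          intro x
          have := mul_mem (ihd x) (ihc (d • x))
          rwa [div_mul_div_cancel, ← mul_smul] at this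
        | inv c _ ih =>
          intro x
          have := inv_mem (ih (c⁻¹ • x))
          rwa [smul_inv_smul, inv_div] at this
      have hp : ∏ c : B, v / ((c : A) • v) ∈ L.range :=
        prod_mem (fun (c : B) _ => hT c c.2 v)
      have hv' : ∏ c : B, (c : A) • v = 1 := hv
      rw [Finset.prod_div_distrib, hv', div_one, Finset.prod_const, Finset.card_univ] at hp
      obtain ⟨z, hz⟩ := (powCoprime (G := ↥L.range)
        (hcopB.coprime_dvd_left (Subgroup.card_subgroup_dvd_card _))).surjective ⟨v ^ Fintype.card B, hp⟩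
      have hz' : (z : V) ^ Fintype.card B = v ^ Fintype.card B := congrArg Subtype.val hz
      have := (powCoprime hcopB).injective (a₁ := (z : V)) (a₂ := v) hz'
      exact this ▸ z.2
  have hErange : (E.range : Set V) = {v : V | a • v = v ∧ b • v = v} := by
    ext v
    constructor
    · rintro ⟨x, rfl⟩
      have hh : ∀ c ∈ B, c • E x = E x := by
        intro c hc
        show c • ∏ d : B, (d : A) • x = ∏ d : B, (d : A) • x
        rw [Finset.smul_prod']
        exact Fintype.prod_equiv (Equiv.mulLeft (⟨c, hc⟩ : B)) _ _ (fun d => by simp [mul_smul])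
      exact ⟨hh a haB, hh b hbB⟩
    · rintro ⟨ha, hb⟩
      obtain ⟨y, hy⟩ := (powCoprime hcopB).surjective v
      have hy' : y ^ Fintype.card B = v := hy
      have hfy : ∀ c : A, c • v = v → c • y = y := fun c hc =>
        (powCoprime hcopB).injective (show (c • y) ^ Fintype.card B = y ^ Fintype.card B by
          rw [← smul_pow', hy', hc])
      refine ⟨y, ?_⟩
      show ∏ c : B, (c : A) • y = v
      rw [Finset.prod_congr rfl (fun c _ => hfixB y (hfy a ha) (hfy b hb) c), Finset.prod_const,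
        Finset.card_univ, hy']
  have hC : Nat.card {v : V // a • v = v ∧ b • v = v} = Nat.card E.range := by
    apply Nat.card_congr
    exact Equiv.setCongr hErange.symm
  have hK : Nat.card {p : V × V // p.1 * (a • p.2) = p.2 * (b • p.1)} = Nat.card L.ker := by
    apply Nat.card_congr
    exact Equiv.subtypeEquivRight (fun p => by simp [L, MonoidHom.mem_ker, div_eq_one])
  have h1 := Subgroup.card_mul_index L.ker
  rw [Subgroup.index_ker, hrange, Nat.card_prod] at h1
  have h2 := Subgroup.card_mul_index E.ker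
  rw [Subgroup.index_ker] at h2
  rw [hK, hC]
  have hpos : 0 < Nat.card E.ker := Nat.card_pos
  apply Nat.eq_of_mul_eq_mul_right hpos
  rw [h1, mul_assoc, mul_comm (Nat.card E.range), h2]

theorem result {X : Type*} [Group X] [Finite X] (V : Subgroup X) [V.Normal] (hab : ∀ a ∈ V, ∀ b ∈ V, a * b = b * a) (G : Subgroup X) (hGV : Subgroup.IsComplement' V G) (hcop : (Nat.card V).Coprime (Nat.card G)) (S : Finset X) (hSV : ∀ s ∈ S, s ∈ V) (hrep : ∀ v ∈ V, ∃! s, s ∈ S ∧ ∃ g ∈ G, g * v * g⁻¹ = s) : Nat.card (ConjClasses X) = ∑ s ∈ S, Nat.card (ConjClasses ↥(G ⊓ Subgroup.centralizer ({s} : Set X))) := by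
  classical
  letI iV : CommGroup V := { (inferInstance : Group V) with mul_comm := fun a b => Subtype.ext (hab a a.2 b b.2) }
  let φ : ↥G →* MulAut ↥V := (MulAut.conjNormal (H := V)).comp G.subtype
  letI act : MulDistribMulAction ↥G ↥V := MulDistribMulAction.compHom ↥V φ
  have hsmul : ∀ (g : ↥G) (v : ↥V), ((g • v : ↥V) : X) = (g : X) * v * (g : X)⁻¹ := fun g v => rfl
  haveI : Fintype X := Fintype.ofFinite X
  let e : ↥V × ↥G ≃ X := Equiv.ofBijective (fun p => (p.1 : X) * p.2) hGV
  have hiff : ∀ p q : ↥V × ↥G, Commute (e p) (e q) ↔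
      Commute p.2 q.2 ∧ p.1 * (p.2 • q.1) = q.1 * (q.2 • p.1) := by
    intro p q
    have hm : ∀ p q : ↥V × ↥G, e p * e q = e (p.1 * (p.2 • q.1), p.2 * q.2) := by
      intro p q
      show (p.1 : X) * p.2 * ((q.1 : X) * q.2) = ((p.1 * (p.2 • q.1) : ↥V) : X) * ((p.2 * q.2 : ↥G) : X)
      rw [Subgroup.coe_mul, Subgroup.coe_mul, hsmul]; group
    show e p * e q = e q * e p ↔ _
    rw [hm, hm, e.injective.eq_iff, Prod.ext_iff, and_comm]
    rfl
  let PG := {p : ↥G × ↥G // Commute p.1 p.2}
  let PX : {p : X × X // Commute p.1 p.2} ≃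
      Σ gh : PG, {p : ↥V × ↥V // p.1 * (gh.1.1 • p.2) = p.2 * (gh.1.2 • p.1)} :=
    (Equiv.subtypeEquiv (p := fun z : X × X => Commute z.1 z.2)
      (q := fun z : (↥V × ↥G) × (↥V × ↥G) => Commute z.1.2 z.2.2 ∧ z.1.1 * (z.1.2 • z.2.1) = z.2.1 * (z.2.2 • z.1.1))
      (e.symm.prodCongr e.symm) (fun z => by simpa using hiff (e.symm z.1) (e.symm z.2))).trans
    { toFun := fun q => ⟨⟨(q.1.1.2, q.1.2.2), q.2.1⟩, ⟨(q.1.1.1, q.1.2.1), q.2.2⟩⟩
      invFun := fun q => ⟨((q.2.1.1, q.1.1.1), (q.2.1.2, q.1.1.2)), q.1.2, q.2.2⟩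
      left_inv := fun q => rfl
      right_inv := fun q => rfl }
  haveI : Fintype PG := Fintype.ofFinite PG
  have key : Nat.card {p : X × X // Commute p.1 p.2} = Nat.card ↥V *
      ∑ gh : PG, Nat.card {v : ↥V // gh.1.1 • v = v ∧ gh.1.2 • v = v} := by
    rw [Nat.card_congr PX, Nat.card_sigma, Finset.mul_sum]
    exact Finset.sum_congr rfl fun gh _ => fibre_card hcop _ _ gh.2
  -- double counting
  let N : ↥V → ℕ := fun v => Nat.card {gh : PG // gh.1.1 • v = v ∧ gh.1.2 • v = v}
  have key2 : ∑ gh : PG, Nat.card {v : ↥V // gh.1.1 • v = v ∧ gh.1.2 • v = v} = ∑ v : ↥V, N v := by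
    simp only [N]
    rw [← Nat.card_sigma, ← Nat.card_sigma]
    exact Nat.card_congr
      { toFun := fun q => ⟨q.2.1, ⟨q.1, q.2.2⟩⟩
        invFun := fun q => ⟨q.2.1, ⟨q.1, q.2.2⟩⟩
        left_inv := fun q => rfl
        right_inv := fun q => rfl }
  -- N is invariant
  have hNinv : ∀ (g : ↥G) (v : ↥V), N (g • v) = N v := by
    intro g v
    refine Nat.card_congr (Equiv.subtypeEquiv
      (Equiv.subtypeEquiv ((MulAut.conj g⁻¹).toEquiv.prodCongr (MulAut.conj g⁻¹).toEquiv) ?_) ?_)
    · intro p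
      exact (commute_map_iff (f := MulAut.conj g⁻¹) (MulEquiv.injective _)).symm
    · intro gh
      simp [Equiv.subtypeEquiv, mul_smul, inv_smul_eq_iff]
  -- representatives
  have hr : ∀ v : ↥V, ∃! s : ↥V, (s : X) ∈ S ∧ ∃ g : ↥G, g • v = s := by
    intro v
    obtain ⟨s, ⟨hs, g, hg, hgs⟩, huniq⟩ := hrep v v.2
    refine ⟨⟨s, hSV s hs⟩, ⟨hs, ⟨g, hg⟩, Subtype.ext (by rw [hsmul]; exact hgs)⟩, ?_⟩
    rintro t ⟨ht, g', hg'⟩
    exact Subtype.ext (huniq t ⟨ht, g', g'.2, by rw [← hg', hsmul]⟩)
  choose r hr1 hr2 using hr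
  let S' : Finset ↥V := Finset.univ.filter (fun s => (s : X) ∈ S)
  have horb : ∀ s ∈ S', (Finset.univ.filter fun v => r v = s) =
      (Finset.univ.filter fun v => v ∈ MulAction.orbit ↥G s) := by
    intro s hs
    ext v
    simp only [Finset.mem_filter, Finset.mem_univ, true_and, MulAction.mem_orbit_iff]
    constructor
    · rintro rfl
      obtain ⟨g, hg⟩ := (hr1 v).2
      exact ⟨g⁻¹, by rw [← hg, inv_smul_smul]⟩
    · rintro ⟨g, hg⟩
      exact (hr2 v s ⟨by simpa [S'] using hs, g⁻¹, by rw [← hg, inv_smul_smul]⟩).symm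
  have key3 : ∑ v : ↥V, N v = Nat.card ↥G *
      ∑ s ∈ S, Nat.card (ConjClasses ↥(G ⊓ Subgroup.centralizer ({s} : Set X))) := by
    rw [← Finset.sum_fiberwise_of_maps_to (g := r) (t := S') (fun v _ => by simp [S', (hr1 v).1])]
    rw [Finset.mul_sum]
    refine Finset.sum_bij (fun s _ => (s : X)) (fun s hs => by simpa [S'] using hs)
      (fun a _ b _ h => Subtype.ext h) (fun s hs => ⟨⟨s, hSV s hs⟩, by simp [S', hs], rfl⟩) ?_
    intro s hs
    rw [horb s hs, Finset.sum_congr rfl (g := fun _ => N s) (fun v hv => by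
      simp only [Finset.mem_filter, Finset.mem_univ, true_and, MulAction.mem_orbit_iff] at hv
      obtain ⟨g, rfl⟩ := hv
      exact hNinv g s), Finset.sum_const, smul_eq_mul]
    have hN : N s = Nat.card (ConjClasses ↥(G ⊓ Subgroup.centralizer ({(s : X)} : Set X))) *
        Nat.card (MulAction.stabilizer ↥G s) := by
      have hmem : ∀ g : ↥G, g • s = s ↔ (g : X) ∈ G ⊓ Subgroup.centralizer ({(s : X)} : Set X) := by
        intro g
        simp [Subgroup.mem_centralizer_singleton_iff, Subtype.ext_iff, hsmul, mul_inv_eq_iff_eq_mul]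
      let H := G ⊓ Subgroup.centralizer ({(s : X)} : Set X)
      have hcardH : Nat.card (MulAction.stabilizer ↥G s) = Nat.card H :=
        Nat.card_congr
          { toFun := fun g => ⟨(g : ↥G).1, (hmem g).1 g.2⟩
            invFun := fun h => ⟨⟨h.1, h.2.1⟩, (hmem ⟨h.1, h.2.1⟩).2 h.2⟩
            left_inv := fun g => rfl
            right_inv := fun h => rfl }
      rw [hcardH, ← card_comm_eq_card_conjClasses_mul_card]
      exact Nat.card_congr
        { toFun := fun q => ⟨(⟨q.1.1.1.1, (hmem _).1 q.2.1⟩, ⟨q.1.1.2.1, (hmem _).1 q.2.2⟩),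
            Subtype.ext (show (q.1.1.1 * q.1.1.2 : ↥G).1 = (q.1.1.2 * q.1.1.1 : ↥G).1 from congrArg Subtype.val q.1.2.eq)⟩
          invFun := fun q => ⟨⟨(⟨q.1.1.1, q.1.1.2.1⟩, ⟨q.1.2.1, q.1.2.2.1⟩),
            Subtype.ext (show (q.1.1 * q.1.2 : ↥H).1 = (q.1.2 * q.1.1 : ↥H).1 from congrArg Subtype.val q.2.eq)⟩,
            (hmem ⟨q.1.1.1, q.1.1.2.1⟩).2 q.1.1.2, (hmem ⟨q.1.2.1, q.1.2.2.1⟩).2 q.1.2.2⟩
          left_inv := fun q => rfl
          right_inv := fun q => rfl }
    rw [hN, ← Fintype.card_subtype, ← Nat.card_eq_fintype_card,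
      show Nat.card {v // v ∈ MulAction.orbit ↥G s} = (MulAction.stabilizer ↥G s).index from
        (Nat.card_coe_set_eq _).trans (MulAction.index_stabilizer ↥G s).symm, mul_left_comm, ← Subgroup.card_mul_index (MulAction.stabilizer ↥G s)]
    ring
  have hX : Nat.card X = Nat.card ↥V * Nat.card ↥G := (Subgroup.IsComplement'.card_mul_card hGV).symm
  rw [card_comm_eq_card_conjClasses_mul_card, key2, key3, hX] at key
  exact Nat.eq_of_mul_eq_mul_left (Nat.mul_pos Nat.card_pos Nat.card_pos : 0 < Nat.card ↥V * Nat.card ↥G)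
    (by linarith [key])

end Cfsg.Agent.S4956
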