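import Cfsg.Statements.S4959
import Mathlib
import Cfsg.Agent.Lib.KnorrDelta81Split
import Cfsg.Agent.Lib.DegreeDvd
import Cfsg.Agent.Lib.ZStarCount
-- import your own Cfsg.Agent.* helpers here

set_option autoImplicit false
open Cfsg

namespace Cfsg.Agent.S4959

open Cfsg.Agent.CharBasic Cfsg.Agent.CharBasicOrth Cfsg.Agent.CharBasicDecomp
open Cfsg.Agent.KnorrBase81 Cfsg.Agent.KnorrDelta81
open scoped ComplexConjugate

theorem natCast_dvd_of_mem {p : ℕ} (hp : p.Prime) {P : Ideal AlgInt} (hP : IsPModular p P) {n : ℕ}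
    (h : (n : AlgInt) ∈ P) : p ∣ n := by
  by_contra hn
  obtain ⟨a, b, hab⟩ : IsCoprime (p : ℤ) (n : ℤ) :=
    (Nat.prime_iff_prime_int.1 hp).coprime_iff_not_dvd.2 (by exact_mod_cast hn)
  refine hP.2.1.ne_top ((Ideal.eq_top_iff_one P).2 ?_)
  have e : (1 : AlgInt) = (a : AlgInt) * (p : AlgInt) + (b : AlgInt) * (n : AlgInt) := by
    rw [← Int.cast_natCast (R := AlgInt) p, ← Int.cast_natCast (R := AlgInt) n, ← Int.cast_mul,
      ← Int.cast_mul, ← Int.cast_add, hab, Int.cast_one]
  rw [e]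
  exact P.add_mem (P.mul_mem_left _ hP.2.2) (P.mul_mem_left _ h)

/-- The module attached to a coprime action on an elementary abelian subgroup with a form. -/
theorem exists_delta {X : Type*} [Group X] [Finite X] {p : ℕ} [Fact p.Prime] (H U : Subgroup X)
    [Fintype H] (hcop : ¬ p ∣ Nat.card H) (hc : ∀ a ∈ U, ∀ b ∈ U, a * b = b * a)
    (hexp : ∀ u ∈ U, u ^ p = 1) (hinv : ∀ h ∈ H, ∀ u ∈ U, h * u * h⁻¹ ∈ U)
    (β : X → X → ZMod p) (hl : ∀ u ∈ U, ∀ u' ∈ U, ∀ w ∈ U, β (u * u') w = β u w + β u' w)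
    (hr : ∀ u ∈ U, ∀ w ∈ U, ∀ w' ∈ U, β u (w * w') = β u w + β u w')
    (hβ : ∀ h ∈ H, ∀ u ∈ U, ∀ w ∈ U, β (h * u * h⁻¹) (h * w * h⁻¹) = β u w)
    (hnd : ∀ u ∈ U, (∀ w ∈ U, β u w = 0) → u = 1)
    (hfaith : ∀ h ∈ H, (∀ u ∈ U, h * u * h⁻¹ = u) → h = 1) :
    ∃ δ : H → ℂ, IntFun δ ∧ δ 1 = 1 ∧
      (∀ h : H, δ h * conj (δ h) *
        (Nat.card ↥(U ⊓ Subgroup.centralizer ({(h : X)} : Set X)) : ℂ) = (Nat.card U : ℂ)) ∧
      (∀ h : H, IsIntegral ℤ (δ h)) ∧ (∀ h : H, h ≠ 1 → InPrimes p (δ h)) ∧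
      ∀ N : ℕ, p * Nat.card U * Nat.card H ∣ N → ∀ h : H, δ h ∈ cyclo N := by
  classical
  letI : CommGroup U :=
    { (inferInstance : Group U) with mul_comm := fun a b => Subtype.ext (hc a a.2 b b.2) }
  letI : Module (ZMod p) (Additive U) := AddCommGroup.zmodModule (n := p) (G := Additive U) fun x =>
    show x.toMul ^ p = (1 : U) from Subtype.ext (hexp _ x.toMul.2)
  haveI : Fintype (Additive U) := Fintype.ofFinite _
  let act : H → U →* U := fun h => MonoidHom.mk'
    (fun u : U => (⟨(h : X) * u * (h : X)⁻¹, hinv h h.2 u u.2⟩ : U))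
    fun a b => Subtype.ext (by simp [mul_assoc])
  let f : H → Module.End (ZMod p) (Additive U) := fun h =>
    (MonoidHom.toAdditive (act h)).toZModLinearMap p
  have hfv : ∀ (h : H) (x : Additive U),
      ((f h x).toMul : X) = (h : X) * (x.toMul : X) * (h : X)⁻¹ := fun h x => rfl
  have hf1 : f 1 = 1 := LinearMap.ext fun x => Additive.toMul.injective (Subtype.ext (by
    rw [hfv, Module.End.one_apply, Subgroup.coe_one]; simp))
  have hfm : ∀ a b : H, f (a * b) = f a * f b := fun a b =>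
    LinearMap.ext fun x => Additive.toMul.injective (Subtype.ext (by
      rw [Module.End.mul_apply, hfv, hfv, hfv, Subgroup.coe_mul]; group))
  let ρ : Representation (ZMod p) H (Additive U) := MonoidHom.mk ⟨f, hf1⟩ hfm
  have hρ : ∀ (h : H) (x : Additive U),
      ((ρ h x).toMul : X) = (h : X) * (x.toMul : X) * (h : X)⁻¹ := hfv
  let βr : Additive U → Additive U →ₗ[ZMod p] ZMod p := fun x =>
    (AddMonoidHom.mk' (fun y : Additive U => β (x.toMul : X) (y.toMul : X))
      fun y z => hr _ x.toMul.2 _ y.toMul.2 _ z.toMul.2).toZModLinearMap p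
  let B : LinearMap.BilinForm (ZMod p) (Additive U) :=
    (AddMonoidHom.mk' βr fun x x' => LinearMap.ext fun y =>
      hl _ x.toMul.2 _ x'.toMul.2 _ y.toMul.2).toZModLinearMap p
  have hB : ∀ x y, B x y = β (x.toMul : X) (y.toMul : X) := fun x y => rfl
  have hBnd : B.Nondegenerate := by
    have hl' : ∀ x, (∀ y, B x y = 0) → x = 0 := fun x hx =>
      Additive.toMul.injective (Subtype.ext (hnd _ x.toMul.2 fun w hw =>
        hx (Additive.ofMul ⟨w, hw⟩)))
    refine (LinearMap.BilinForm.nondegenerate_iff_ker_eq_bot).2 ?_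
    rw [LinearMap.ker_eq_bot']
    exact fun x hx => hl' x fun y => by rw [hx]; rfl
  obtain ⟨δ, hδ⟩ := KnorrDelta81Split.exists_good ρ hcop B hBnd (fun h x y => by
    rw [hB, hB, hρ, hρ]; exact hβ _ h.2 _ x.toMul.2 _ y.toMul.2)
  have hcardU : Nat.card (Additive U) = Nat.card U := Nat.card_congr Additive.toMul
  have hfix : ∀ h : H, fixCard ρ h =
      Nat.card ↥(U ⊓ Subgroup.centralizer ({(h : X)} : Set X)) := by
    intro h
    refine Nat.card_congr
      { toFun := fun x => ⟨(x.1.toMul : X), x.1.toMul.2,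
          Subgroup.mem_centralizer_singleton_iff.2 (by
            have h1 := congrArg (fun z : Additive U => (z.toMul : X)) ((mem_ker_iff ρ h _).1 x.2)
            rw [hρ] at h1
            exact (mul_inv_eq_iff_eq_mul.1 h1).symm)⟩
        invFun := fun x => ⟨Additive.ofMul ⟨(x : X), x.2.1⟩, (mem_ker_iff ρ h _).2
          (Additive.toMul.injective (Subtype.ext (mul_inv_eq_iff_eq_mul.2
            (Subgroup.mem_centralizer_singleton_iff.1 x.2.2).symm)))⟩
        left_inv := fun x => rfl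
        right_inv := fun x => rfl }
  refine ⟨δ, hδ.intFun, hδ.one, fun h => ?_, hδ.integral, fun h hh => hδ.mem h fun h1 => hh ?_,
    fun N hN h => hδ.field N (hcardU.symm ▸ hN) h⟩
  · rw [← hfix, ← hcardU]; exact hδ.normSq h
  · refine Subtype.ext (hfaith h h.2 fun u hu => ?_)
    exact congrArg (fun z : Additive U => (z.toMul : X))
      (LinearMap.congr_fun h1 (Additive.ofMul ⟨u, hu⟩))


/-- Let X be a finite group and V a normal subgroup of X in which every element has order dividing the prime p, whose index in X is prime to p and which is its own centralizer in X; so V is an elementary abelian normal Sylow p-subgroup, and any complement G to V in X is a group of order prime to p acting faithfully on the vector space V by conjugation (the coprime linear setting of the k(GV) problem). Let G be a complement to V in X, let v be in V and let H be the centralizer of v in G. Suppose there is a subgroup U of V normalized by H, on which H acts faithfully, and carrying an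 H-invariant bi-additive pairing β with values in the integers modulo p that is nondegenerate on U (equivalently: the restriction of the module V to H has a faithful self-dual submodule; such a v is called a real vector for G). Then the number of conjugacy classes of X is at most the order of V (the real-vector criterion for the k(GV) problem). The pairing is given as a function on X whose relevant values are those on pairs from U. -/
theorem result {X : Type*} [Group X] [Finite X] (p : ℕ) [Fact p.Prime] (V : Subgroup X) [V.Normal] (hVexp : ∀ v ∈ V, v ^ p = 1) (hidx : ¬ p ∣ V.index) (hself : Subgroup.centralizer (V : Set X) = V) (G : Subgroup X) (hGV : Subgroup.IsComplement' V G) (v : X) (hv : v ∈ V) (U : Subgroup X) (hUV : U ≤ V) (hUinv : ∀ h ∈ G, h * v * h⁻¹ = v → ∀ u ∈ U, h * u * h⁻¹ ∈ U) (hUfaith : ∀ h ∈ G, h * v * h⁻¹ = v → (∀ u ∈ U, h * u * h⁻¹ = u) → h = 1) (β : X → X → ZMod p) (hβl : ∀ u ∈ U, ∀ u' ∈ U, ∀ w ∈ U, β (u * u') w = β u w + β u' w) (hβr : ∀ u ∈ U, ∀ w ∈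 U, ∀ w' ∈ U, β u (w * w') = β u w + β u w') (hβinv : ∀ h ∈ G, h * v * h⁻¹ = v → ∀ u ∈ U, ∀ w ∈ U, β (h * u * h⁻¹) (h * w * h⁻¹) = β u w) (hβnd : ∀ u ∈ U, (∀ w ∈ U, β u w = 0) → u = 1) : Nat.card (ConjClasses X) ≤ Nat.card V := by
  classical
  haveI := Fintype.ofFinite X
  have hpp : p.Prime := Fact.out
  have hVc : ∀ a ∈ V, ∀ b ∈ V, a * b = b * a := by
    intro a ha b hb
    have : b ∈ Subgroup.centralizer (V : Set X) := hself.symm ▸ hb
    exact Subgroup.mem_centralizer_iff.1 this a ha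
  set H := G ⊓ Subgroup.centralizer ({v} : Set X) with hH
  have hHv : ∀ h : H, Commute (h : X) v := fun h =>
    Subgroup.mem_centralizer_singleton_iff.1 h.2.2
  have hfix : ∀ {h : X}, h ∈ H → h * v * h⁻¹ = v := fun {h} hh =>
    mul_inv_eq_iff_eq_mul.2 (Subgroup.mem_centralizer_singleton_iff.1 hh.2)
  have hcopG : ¬ p ∣ Nat.card G := by rwa [← hGV.symm.index_eq_card]
  have hcop : ¬ p ∣ Nat.card H := fun h => hcopG (h.trans (Subgroup.card_dvd_of_le inf_le_left))
  obtain ⟨δ, hδi, hδ1, hδn, hδint, hδP, hδF⟩ := exists_delta H U hcop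
    (fun a ha b hb => hVc a (hUV ha) b (hUV hb)) (fun u hu => hVexp u (hUV hu))
    (fun h hh => hUinv h hh.1 (hfix hh)) β hβl hβr (fun h hh => hβinv h hh.1 (hfix hh)) hβnd
    (fun h hh => hUfaith h hh.1 (hfix hh))
  -- the values on `v H`
  have hf : ∀ χ : IrrCharacter X, IntFun (fun h : H => (χ : X → ℂ) (v * h)) := by
    intro χ
    have hcl := isClassFunction_of_isCharacter (isCharacter_of_isIrrCharacter χ.2)
    refine ⟨fun g h => ?_, fun ψ hψ => ?_⟩
    · show (χ : X → ℂ) (v * ↑(h * g * h⁻¹)) = (χ : X → ℂ) (v * g)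
      rw [← hcl (v * g) (h : X)]
      refine congrArg (χ : X → ℂ) ?_
      rw [Subgroup.coe_mul, Subgroup.coe_mul, Subgroup.coe_inv]
      calc v * ((h : X) * g * (h : X)⁻¹) = (v * h) * g * (h : X)⁻¹ := by group
        _ = ((h : X) * v) * g * (h : X)⁻¹ := by rw [(hHv h).eq]
        _ = _ := by group
    · letI : CommGroup (Subgroup.zpowers v) := IsCyclic.commGroup
      let f : Subgroup.zpowers v × H →* X :=
        MonoidHom.noncommCoprod (Subgroup.zpowers v).subtype H.subtype fun a h => by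
          obtain ⟨i, hi⟩ := Subgroup.mem_zpowers_iff.1 a.2
          show Commute (a : X) (h : X)
          rw [← hi]
          exact ((hHv h).symm).zpow_left i
      exact BlockContribPrime.isIntegral_avg (f.prod (MonoidHom.snd _ _))
        (show IsCharacter (X × H)
          (((χ : X → ℂ) ∘ MonoidHom.fst X H) * (ψ ∘ MonoidHom.snd X H)) from
          isCharacter_mul (isCharacter_comap _ (isCharacter_of_isIrrCharacter χ.2))
            (isCharacter_comap _ hψ))
        ⟨v, Subgroup.mem_zpowers v⟩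
  let a : IrrCharacter X → ℂ := fun χ =>
    (Nat.card H : ℂ)⁻¹ * ∑ h : H, δ h * (χ : X → ℂ) (v * h)
  have haint : ∀ χ, IsIntegral ℤ (a χ) := fun χ => by
    have := (intFun_mul hδi (hf χ)).2 _ (isCharacter_one (G := H))
    simpa [a] using this
  have hH0 : (Nat.card H : ℂ) ≠ 0 := Nat.cast_ne_zero.2 Nat.card_pos.ne'
  -- nonvanishing
  obtain ⟨P, hP⟩ := ZStarCount.exists_isPModular p hpp
  have hane : ∀ χ, a χ ≠ 0 := by
    intro χ h0
    have hsum : ∑ h : H, δ h * (χ : X → ℂ) (v * h) = 0 :=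
      (mul_eq_zero.1 h0).resolve_left (inv_ne_zero hH0)
    have hχint := fun x => isCharacter_integral (isCharacter_of_isIrrCharacter χ.2) x
    let F : H → AlgInt := fun h => ⟨δ h * (χ : X → ℂ) (v * h), (hδint h).mul (hχint _)⟩
    have hrest : ∀ h : H, h ≠ 1 → F h ∈ P := by
      intro h hh
      obtain ⟨w, hw, hwe⟩ := hδP h hh P hP
      have : F h = w * ⟨(χ : X → ℂ) (v * h), hχint _⟩ := Subtype.ext (by
        show δ h * _ = (w : ℂ) * _
        rw [hwe])
      rw [this]; exact P.mul_mem_right _ hw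
    have h1 : F 1 ∈ P := by
      have e : F 1 = - ∑ h ∈ Finset.univ.erase (1 : H), F h := by
        rw [eq_neg_iff_add_eq_zero, Finset.add_sum_erase _ _ (Finset.mem_univ _)]
        exact Subtype.ext (by rw [AddSubmonoidClass.coe_finsetSum]; exact hsum)
      rw [e]
      exact P.neg_mem (P.sum_mem fun h hh => hrest h (Finset.mem_erase.1 hh).1)
    obtain ⟨χ, n, R, hi, rfl⟩ := χ
    obtain ⟨b, μ, -, hμ, -, hpow⟩ := exists_rep_eigenbasis R v
    have hμp : ∀ i, μ i ^ p = 1 := fun i => by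
      obtain ⟨m, hm⟩ := orderOf_dvd_of_pow_eq_one (hVexp v hv)
      conv_lhs => rw [hm, pow_mul, hμ, one_pow]
    let μ' : Fin (Module.finrank ℂ (Fin n → ℂ)) → AlgInt := fun i =>
      ⟨μ i, IsIntegral.of_pow hpp.pos (by rw [hμp]; exact isIntegral_one)⟩
    have hd : F 1 = ∑ i, μ' i := by
      refine Subtype.ext ?_
      rw [AddSubmonoidClass.coe_finsetSum]
      show δ 1 * R.character (v * ((1 : H) : X)) = _
      rw [hδ1, one_mul, Subgroup.coe_one, mul_one]
      simpa using hpow 1
    have hdP : ((Module.finrank ℂ (Fin n → ℂ) : ℕ) : AlgInt) ∈ P := by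
      have e : ((Module.finrank ℂ (Fin n → ℂ) : ℕ) : AlgInt) = F 1 - ∑ i, (μ' i - 1) := by
        rw [hd, Finset.sum_sub_distrib, Finset.sum_const, Finset.card_univ, Fintype.card_fin,
          nsmul_eq_mul, mul_one, sub_sub_cancel]
      rw [e]
      exact P.sub_mem h1 (P.sum_mem fun i _ => sum_addChar_sub_one P hP (Subtype.ext (hμp i)))
    obtain ⟨k, -, hk, hkdvd⟩ := DegreeDvd.degree_dvd_index_abelian ⟨n, R, hi, rfl⟩ V
      (fun x y => Subtype.ext (hVc x x.2 y y.2))
    rw [Representation.char_one, Nat.cast_inj] at hk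
    exact hidx (((natCast_dvd_of_mem hpp hP hdP).trans (dvd_of_eq hk)).trans hkdvd)
  -- the field
  let N := Nat.card X * (p * Nat.card U * Nat.card H)
  have hN0 : 0 < N := Nat.mul_pos Nat.card_pos (Nat.mul_pos (Nat.mul_pos hpp.pos Nat.card_pos)
    Nat.card_pos)
  have hamem : ∀ χ, a χ ∈ cyclo N := fun χ =>
    mul_mem (inv_mem (natCast_mem _ _)) (sum_mem fun h _ => mul_mem
      (hδF N (Dvd.intro_left _ rfl) h)
      (char_mem (Dvd.intro _ rfl) (isCharacter_of_isIrrCharacter χ.2) _))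
  -- fusion
  have hdisj : ∀ x, x ∈ V → x ∈ G → x = 1 := fun x h1 h2 =>
    Subgroup.disjoint_def.1 hGV.disjoint h1 h2
  have hfus : ∀ (h h' : H) (x : X), x * (v * h) * x⁻¹ = v * h' →
      ∃ w ∈ V, ∃ g : H, x = w * g ∧ Commute w (h' : X) ∧ g * h * g⁻¹ = h' := by
    intro h h' x hx
    have hco : Nat.Coprime p (Nat.card H) := (hpp.coprime_iff_not_dvd).2 hcop
    obtain ⟨m, hm1, hm2⟩ := Nat.chineseRemainder hco 1 0
    have hpowm : ∀ g : H, (v * (g : X)) ^ m = v := fun g => by
      rw [((hHv g).symm).mul_pow]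
      have e1 : v ^ m = v := by
        conv_rhs => rw [← pow_one v]
        exact pow_eq_pow_iff_modEq.2 (hm1.of_dvd (orderOf_dvd_of_pow_eq_one (hVexp v hv)))
      have e2 : (g : X) ^ m = 1 := orderOf_dvd_iff_pow_eq_one.1
        ((by rw [Subgroup.orderOf_coe]; exact orderOf_dvd_natCard g :
          orderOf (g : X) ∣ Nat.card H).trans (Nat.modEq_zero_iff_dvd.1 hm2))
      rw [e1, e2, mul_one]
    have hxv : x * v * x⁻¹ = v := by
      have := congrArg (· ^ m) hx
      rwa [conj_pow, hpowm, hpowm] at this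
    obtain ⟨⟨⟨w, hw⟩, ⟨g, hg⟩⟩, hwg⟩ := (hGV.existsUnique x).exists
    change w * g = x at hwg
    subst hwg
    have hgv : g * v * g⁻¹ = v := by
      have h1 : g * v * g⁻¹ = w⁻¹ * v * w := by
        calc g * v * g⁻¹ = w⁻¹ * (w * g * v * (w * g)⁻¹) * w := by group
          _ = _ := by rw [hxv]
      rw [h1, mul_assoc, hVc v hv w hw, inv_mul_cancel_left]
    let g' : H := ⟨g, hg, Subgroup.mem_centralizer_singleton_iff.2 (mul_inv_eq_iff_eq_mul.1 hgv)⟩
    have hxh : (w * g) * (h : X) * (w * g)⁻¹ = h' := by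
      have h1 : w * g * (v * h) * (w * g)⁻¹ =
          (w * g * v * (w * g)⁻¹) * ((w * g) * (h : X) * (w * g)⁻¹) := by group
      rw [hxv, hx] at h1
      exact (mul_left_cancel h1).symm
    have hy : (h' : X)⁻¹ * w⁻¹ * h' * w = (h' : X)⁻¹ * ↑(g' * h * g'⁻¹) := by
      rw [Subgroup.coe_mul, Subgroup.coe_mul, Subgroup.coe_inv]
      show _ = (h' : X)⁻¹ * (g * h * g⁻¹)
      calc (h' : X)⁻¹ * w⁻¹ * h' * w = (h' : X)⁻¹ * (w⁻¹ * h' * w) := by group
        _ = _ := by rw [← hxh]; group
    have h1 : (h' : X)⁻¹ * w⁻¹ * h' * w = 1 := hdisj _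
      (V.mul_mem (by
        simpa [mul_assoc] using
          Subgroup.Normal.conj_mem ‹V.Normal› _ (V.inv_mem hw) (h' : X)⁻¹) hw)
      (hy ▸ G.mul_mem (G.inv_mem h'.2.1) (g' * h * g'⁻¹).2.1)
    refine ⟨w, hw, g', rfl, ?_, Subtype.ext (inv_mul_eq_one.1 (hy.symm.trans h1)).symm⟩
    show w * h' = h' * w
    calc w * h' = w * h' * ((h' : X)⁻¹ * w⁻¹ * h' * w) := by rw [h1, mul_one]
      _ = _ := by group
  -- counting
  let S : H → Finset H := fun h => Finset.univ.filter fun h' => IsConj (v * (h : X)) (v * h')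
  let cX : H → ℕ := fun h => Nat.card (Subgroup.centralizer ({v * (h : X)} : Set X))
  let cU : H → ℕ := fun h => Nat.card ↥(U ⊓ Subgroup.centralizer ({(h : X)} : Set X))
  have hSδ : ∀ h, ∀ h' ∈ S h, δ h' = δ h := by
    intro h h' hh'
    obtain ⟨x, hx⟩ := isConj_iff.1 (Finset.mem_filter.1 hh').2
    obtain ⟨w, -, g, -, -, rfl⟩ := hfus h h' x hx
    exact hδi.1 h g
  have hcount : ∀ h : H, (S h).card * cX h ≤
      Nat.card H * Nat.card ↥(V ⊓ Subgroup.centralizer ({(h : X)} : Set X)) := by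
    intro h
    have hS : (S h).card ≤ Nat.card {g : H // IsConj h g} := by
      rw [← Nat.card_eq_finsetCard]
      refine Nat.card_le_card_of_injective (fun g => ⟨g.1, ?_⟩) fun g g' e => Subtype.ext (congrArg (fun z : {g : H // IsConj h g} => z.1) e)
      obtain ⟨x, hx⟩ := isConj_iff.1 (Finset.mem_filter.1 g.2).2
      obtain ⟨w, -, y, -, -, hy⟩ := hfus h g x hx
      exact isConj_iff.2 ⟨y, hy⟩
    have hC : cX h ≤ Nat.card ↥(V ⊓ Subgroup.centralizer ({(h : X)} : Set X)) *
        Nat.card (Subgroup.centralizer ({h} : Set H)) := by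
      rw [← Nat.card_prod]
      have key : ∀ x : Subgroup.centralizer ({v * (h : X)} : Set X), ∃ z :
          ↥(V ⊓ Subgroup.centralizer ({(h : X)} : Set X)) × Subgroup.centralizer ({h} : Set H),
          (z.1 : X) * ((z.2 : H) : X) = x := by
        intro x
        obtain ⟨w, hw, g, hxw, hwh, hg⟩ := hfus h h x
          (mul_inv_eq_iff_eq_mul.2 (Subgroup.mem_centralizer_singleton_iff.1 x.2))
        exact ⟨(⟨w, hw, Subgroup.mem_centralizer_singleton_iff.2 hwh.eq⟩,
          ⟨g, Subgroup.mem_centralizer_singleton_iff.2 (mul_inv_eq_iff_eq_mul.1 hg)⟩), hxw.symm⟩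
      choose z hz using key
      exact Nat.card_le_card_of_injective z fun x y e => Subtype.ext (by rw [← hz, ← hz, e])
    calc (S h).card * cX h
        ≤ Nat.card {g : H // IsConj h g} *
          (Nat.card ↥(V ⊓ Subgroup.centralizer ({(h : X)} : Set X)) *
            Nat.card (Subgroup.centralizer ({h} : Set H))) := Nat.mul_le_mul hS hC
      _ = _ := by rw [← card_conj_mul_card_centralizer h]; ring
  have hUV2 : ∀ h : H, Nat.card U * Nat.card ↥(V ⊓ Subgroup.centralizer ({(h : X)} : Set X)) ≤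
      Nat.card V * cU h := by
    intro h
    set C := Subgroup.centralizer ({(h : X)} : Set X)
    have e1 : Nat.card ↥(U ⊓ C) * C.relIndex U = Nat.card U := by
      rw [← Subgroup.inf_relIndex_left U C, ← Subgroup.relIndex_bot_left,
        ← Subgroup.relIndex_bot_left U]
      exact Subgroup.relIndex_mul_relIndex _ _ _ bot_le inf_le_left
    have e2 : Nat.card ↥(V ⊓ C) * C.relIndex V = Nat.card V := by
      rw [← Subgroup.inf_relIndex_left V C, ← Subgroup.relIndex_bot_left,
        ← Subgroup.relIndex_bot_left V]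
      exact Subgroup.relIndex_mul_relIndex _ _ _ bot_le inf_le_left
    have e3 : C.relIndex U ≤ C.relIndex V :=
      Subgroup.relIndex_le_of_le_right hUV Subgroup.index_ne_zero_of_finite
    calc Nat.card U * Nat.card ↥(V ⊓ C)
        = Nat.card ↥(U ⊓ C) * Nat.card ↥(V ⊓ C) * C.relIndex U := by rw [← e1]; ring
      _ ≤ Nat.card ↥(U ⊓ C) * Nat.card ↥(V ⊓ C) * C.relIndex V := Nat.mul_le_mul_left _ e3
      _ = _ := by rw [← e2]; ring
  let q : ℚ := ((Nat.card H : ℚ)⁻¹) ^ 2 *
    ∑ h : H, ((S h).card : ℚ) * (cX h) * (Nat.card U) / (cU h)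
  have hcU : ∀ h, 0 < cU h := fun h => Nat.card_pos
  have hsum : ∑ χ, a χ * conj (a χ) = (q : ℂ) := by
    simp only [a, map_mul, map_inv₀, map_natCast, map_sum, Finset.mul_sum, Finset.sum_mul]
    rw [Finset.sum_comm]
    simp only [q, Rat.cast_mul, Rat.cast_pow, Rat.cast_inv, Rat.cast_natCast, Rat.cast_sum,
      Rat.cast_div, Finset.mul_sum]
    rw [Finset.sum_congr rfl fun h _ => Finset.sum_comm, Finset.sum_comm]
    refine Finset.sum_congr rfl fun h _ => ?_
    have h1 : ∀ h' : H, ∑ χ : IrrCharacter X,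
        (Nat.card H : ℂ)⁻¹ * (δ h * (χ : X → ℂ) (v * h)) *
          ((Nat.card H : ℂ)⁻¹ * (conj (δ h') * conj ((χ : X → ℂ) (v * h')))) =
        (Nat.card H : ℂ)⁻¹ ^ 2 * (δ h * conj (δ h')) *
          if IsConj (v * (h : X)) (v * h') then (cX h : ℂ) else 0 := by
      intro h'
      rw [← sum_irr_mul_conj, Finset.mul_sum]
      exact Finset.sum_congr rfl fun χ _ => by ring
    rw [Finset.sum_congr rfl fun h' _ => h1 h']
    simp only [mul_ite, mul_zero, ← Finset.sum_filter]
    rw [Finset.sum_congr rfl fun h' (hh' : h' ∈ S h) => by rw [hSδ h h' hh'], Finset.sum_const,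
      nsmul_eq_mul, ← hδn h]
    have : (cU h : ℂ) ≠ 0 := Nat.cast_ne_zero.2 (hcU h).ne'
    field_simp
    ring
  have hq : (q : ℝ) ≤ Nat.card V := by
    have hH0' : (0 : ℝ) < Nat.card H := by exact_mod_cast Nat.card_pos
    have hle : ∀ h : H, ((S h).card : ℝ) * (cX h) * (Nat.card U) / (cU h) ≤
        (Nat.card H : ℝ) * Nat.card V := by
      intro h
      rw [div_le_iff₀ (by exact_mod_cast hcU h)]
      have h1 : (S h).card * cX h * Nat.card U ≤ Nat.card H * Nat.card V * cU h := by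
        calc (S h).card * cX h * Nat.card U
            ≤ Nat.card H * Nat.card ↥(V ⊓ Subgroup.centralizer ({(h : X)} : Set X)) * Nat.card U :=
              Nat.mul_le_mul_right _ (hcount h)
          _ = Nat.card H * (Nat.card U * Nat.card ↥(V ⊓ Subgroup.centralizer ({(h : X)} : Set X))) := by ring
          _ ≤ Nat.card H * (Nat.card V * cU h) := Nat.mul_le_mul_left _ (hUV2 h)
          _ = _ := by ring
      exact_mod_cast h1
    simp only [q, Rat.cast_mul, Rat.cast_pow, Rat.cast_inv, Rat.cast_natCast, Rat.cast_sum,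
      Rat.cast_div]
    calc _ ≤ ((Nat.card H : ℝ)⁻¹) ^ 2 * ∑ _h : H, (Nat.card H : ℝ) * Nat.card V :=
          mul_le_mul_of_nonneg_left (Finset.sum_le_sum fun h _ => hle h) (sq_nonneg _)
      _ = _ := by
        rw [Finset.sum_const, Finset.card_univ, ← Nat.card_eq_fintype_card, nsmul_eq_mul]
        field_simp
  have hfin := (card_le_of_cyclo hN0 a haint hane hamem q hsum).trans hq
  rw [← Nat.card_eq_fintype_card, card_irrCharacter] at hfin
  exact_mod_cast hfin

end Cfsg.Agent.S4959
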