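import Cfsg.Statements.S4964
import Cfsg.Agent.Lib.BlockQuotient78
import Cfsg.Agent.Lib.BlockContribQuot
import Cfsg.Agent.Lib.CoprimeAction
import Cfsg.Agent.Lib.PGroupsBasic

set_option autoImplicit false
open Cfsg

namespace Cfsg.Agent.S4964

/-- Let D be a normal p-subgroup of the finite group G, let D′ be its commutator subgroup (normal in G), and fix a maximal ideal M of the algebraic integers containing p. Then (i) two irreducible characters of G ⧸ D′ lie in the same p-block if and only if their inflations to G do, and (ii) every p-block of G contains the inflation of some irreducible character of G ⧸ D′; so inflation induces a bijection between the p-blocks of G ⧸ D′ and the p-blocks of G. -/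
theorem result {G : Type*} [Group G] [Finite G] (p : ℕ) [Fact p.Prime] (M : Ideal Cfsg.AlgInt) (hM : Cfsg.IsPModular p M) (D : Subgroup G) [D.Normal] (hD : IsPGroup p D) : (∀ χ ψ : Cfsg.IrrCharacter (G ⧸ ⁅D, D⁆), Cfsg.SameBlock M (χ : G ⧸ ⁅D, D⁆ → ℂ) (ψ : G ⧸ ⁅D, D⁆ → ℂ) ↔ Cfsg.SameBlock M ((χ : G ⧸ ⁅D, D⁆ → ℂ) ∘ QuotientGroup.mk) ((ψ : G ⧸ ⁅D, D⁆ → ℂ) ∘ QuotientGroup.mk)) ∧ ∀ B : Set (Cfsg.IrrCharacter G), Cfsg.IsPBlock M B → ∃ χ : Cfsg.IrrCharacter (G ⧸ ⁅D, D⁆), ∃ θ ∈ B, (θ : G → ℂ) = (χ : G ⧸ ⁅D, D⁆ → ℂ) ∘ QuotientGroup.mk := by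
  classical
  haveI : Fintype G := Fintype.ofFinite G
  haveI : Fintype (G ⧸ ⁅D, D⁆) := Fintype.ofFinite _
  set W := ⁅D, D⁆ with hWdef
  have hWD : W ≤ D := Subgroup.commutator_le_left D D
  have hWp : IsPGroup p W := hD.to_le hWD
  refine ⟨fun χ ψ => ⟨fun h => ?_, fun h => ?_⟩, fun B hB => ?_⟩
  · intro g
    have := BlockQuotient78.sameBlock_infl W hM h g
    rwa [show (BlockQuotient78.infl W χ : G → ℂ) = (χ : G ⧸ W → ℂ) ∘ QuotientGroup.mk from
        funext fun x => BlockQuotient78.infl_apply W χ x,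
      show (BlockQuotient78.infl W ψ : G → ℂ) = (ψ : G ⧸ W → ℂ) ∘ QuotientGroup.mk from
        funext fun x => BlockQuotient78.infl_apply W ψ x] at this
  · set π := QuotientGroup.mk' W
    haveI : (D.map π).Normal := Subgroup.Normal.map inferInstance π (QuotientGroup.mk'_surjective W)
    refine BlockTheoryNormal.sameBlock_of_regular hM fun q hq => ?_
    by_cases hc : q ∈ Subgroup.centralizer ((D.map π : Subgroup (G ⧸ W)) : Set (G ⧸ W))
    swap
    · exact BlockTheoryLocalRing.ideal_sub hM
        (BlockNormalP81.centralChar_ideal hM _ (hD.map π) χ hc)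
        (BlockNormalP81.centralChar_ideal hM _ (hD.map π) ψ hc)
    obtain ⟨g, hg, rfl⟩ := BlockContribQuot.exists_regular_lift W hWp hM.1 q hq
    have hnorm : Subgroup.zpowers g ≤ Subgroup.normalizer (D : Set G) := by
      rw [Subgroup.normalizer_eq_top_iff.mpr inferInstance]; exact le_top
    have hgD : g ∈ Subgroup.centralizer (D : Set G) := by
      refine CoprimeAction.le_centralizer_of_frattini hnorm ?_ (fun a ha k hk => ?_)
        (Subgroup.mem_zpowers g)
      · rw [Nat.card_zpowers]
        obtain ⟨j, hj⟩ := IsPGroup.iff_card.mp (hD.to_subgroup (frattini D))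
        rw [hj]
        exact (((Fact.out : p.Prime).coprime_iff_not_dvd.mpr hg).symm).pow_right j
      · have hmem : a * k * a⁻¹ * k⁻¹ ∈ W := by
          obtain ⟨i, rfl⟩ := Subgroup.mem_zpowers_iff.mp ha
          have h1 : Commute (π g) (π k) :=
            (Subgroup.mem_centralizer_iff.mp hc (π k) (Subgroup.mem_map_of_mem π hk)).symm
          rw [← QuotientGroup.eq_one_iff]
          show π (g ^ i * k * (g ^ i)⁻¹ * k⁻¹) = 1
          rw [map_mul, map_mul, map_mul, map_inv, map_inv, map_zpow, (h1.zpow_left i).eq]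
          group
        have hW' : (commutator D).map D.subtype = W := by
          rw [commutator_def, Subgroup.map_commutator, ← MonoidHom.range_eq_map,
            Subgroup.range_subtype]
        exact Subgroup.map_mono (PGroupsBasic.commutator_le_frattini hD) (hW'.symm ▸ hmem)
    have hmult : BlockQuotient78.mult W g = 1 := by
      rw [BlockQuotient78.mult, Subgroup.relIndex_eq_one]
      intro c hc'
      have h1 : Commute (π c) (π g) := Subgroup.mem_centralizer_singleton_iff.mp hc'
      set w := g⁻¹ * (c * g * c⁻¹)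
      have hw : w ∈ W := by
        rw [← QuotientGroup.eq_one_iff]
        show π (g⁻¹ * (c * g * c⁻¹)) = 1
        rw [map_mul, map_mul, map_mul, map_inv, map_inv, h1.eq]
        group
      have hgw : Commute w g := Subgroup.mem_centralizer_iff.mp hgD w (hWD hw)
      obtain ⟨j, hj⟩ := IsPGroup.iff_orderOf.1 hWp ⟨w, hw⟩
      rw [← Subgroup.orderOf_coe] at hj
      have hcg : ¬ p ∣ orderOf (c * g * c⁻¹) := by
        rwa [show c * g * c⁻¹ = MulAut.conj c g from rfl, MulEquiv.orderOf_eq]
      have e : w * g = c * g * c⁻¹ := by rw [hgw.eq]; exact mul_inv_cancel_left g _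
      have hP1 : Cfsg.IsPPart p (c * g * c⁻¹) w := ⟨g, e, hgw, ⟨j, hj⟩, hg⟩
      have hP2 : Cfsg.IsPPart p (c * g * c⁻¹) 1 :=
        ⟨_, one_mul _, Commute.one_left _, ⟨0, by simp⟩, hcg⟩
      have hw1 : w = 1 := BlockTheoryIdem.pPart_unique hM.1 hP1 hP2
      rw [hw1, one_mul] at e
      refine Subgroup.mem_centralizer_singleton_iff.mpr ?_
      exact (mul_inv_eq_iff_eq_mul.mp e.symm)
    have := h g
    rw [show (χ : G ⧸ W → ℂ) ∘ QuotientGroup.mk = (BlockQuotient78.infl W χ : G → ℂ) from
        (funext fun x => BlockQuotient78.infl_apply W χ x).symm,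
      show (ψ : G ⧸ W → ℂ) ∘ QuotientGroup.mk = (BlockQuotient78.infl W ψ : G → ℂ) from
        (funext fun x => BlockQuotient78.infl_apply W ψ x).symm,
      BlockQuotient78.centralChar_infl, BlockQuotient78.centralChar_infl, hmult,
      Nat.cast_one, one_mul, one_mul] at this
    exact this
  · obtain ⟨θ, hθ, htriv⟩ := BlockNormalP81.exists_trivial_on hM hB W hWp
    obtain ⟨χ, hχ⟩ := CharKernel.exists_quot_irr W θ htriv
    exact ⟨χ, θ, hθ, funext hχ⟩

end Cfsg.Agent.S4964
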