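import Cfsg.Prelude.Def_Characters
import Mathlib

set_option autoImplicit false

namespace Cfsg.Agent.S4965

theorem lift_comm {X : Type*} [Group X] (V : Subgroup X) [V.Normal]
    (hab : ∀ a ∈ V, ∀ b ∈ V, a * b = b * a) (φ : X ⧸ V →* MulAut ↥V)
    (hφ : ∀ (x : X) (v : ↥V), ((φ (QuotientGroup.mk x) v : ↥V) : X) = x * v * x⁻¹)
    (a b : X) (u w : ↥V) (h : Commute a b) (h' : Commute ((u : X) * a) ((w : X) * b)) :
    Commute (⟨u, (a : X ⧸ V)⟩ : SemidirectProduct ↥V (X ⧸ V) φ) ⟨w, (b : X ⧸ V)⟩ := by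
  have hq : (a : X ⧸ V) * b = b * a := by
    rw [← QuotientGroup.mk_mul, ← QuotientGroup.mk_mul, h.eq]
  refine SemidirectProduct.ext (Subtype.ext ?_) ?_
  · simp only [SemidirectProduct.mul_left, Subgroup.coe_mul, hφ]
    have e : (u : X) * (a * w * a⁻¹) * (a * b) = (w : X) * (b * u * b⁻¹) * (b * a) := by
      have := h'.eq
      calc (u : X) * (a * w * a⁻¹) * (a * b) = (u * a) * (w * b) := by group
        _ = (w * b) * (u * a) := this
        _ = _ := by group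
    rw [h.eq] at e
    exact mul_right_cancel e
  · exact hq

theorem result {X : Type*} [Group X] [Finite X] (V : Subgroup X) [V.Normal] (hab : ∀ a ∈ V, ∀ b ∈ V, a * b = b * a) (φ : X ⧸ V →* MulAut ↥V) (hφ : ∀ (x : X) (v : ↥V), ((φ (QuotientGroup.mk x) v : ↥V) : X) = x * v * x⁻¹) : Nat.card (ConjClasses X) ≤ Nat.card (ConjClasses (SemidirectProduct ↥V (X ⧸ V) φ)) := by
  classical
  haveI : Finite (SemidirectProduct ↥V (X ⧸ V) φ) := Finite.of_equiv _ SemidirectProduct.equivProd.symm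
  have hcard : Nat.card (SemidirectProduct ↥V (X ⧸ V) φ) = Nat.card X := by
    rw [SemidirectProduct.card, Subgroup.card_eq_card_quotient_mul_card_subgroup V, mul_comm]
  -- a section: commuting lifts of a pair
  let P : X ⧸ V → X ⧸ V → X × X → Prop := fun s t p => Commute p.1 p.2 ∧ (p.1 : X ⧸ V) = s ∧ (p.2 : X ⧸ V) = t
  let σ : X ⧸ V → X ⧸ V → X × X := fun s t => if h : ∃ p, P s t p then h.choose else (1, 1)
  have hσ : ∀ x y : X, Commute x y → P x y (σ x y) := by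
    intro x y hxy
    have hex : ∃ p, P (x : X ⧸ V) y p := ⟨(x, y), hxy, rfl, rfl⟩
    simp only [σ, dif_pos hex]
    exact hex.choose_spec
  have hmem : ∀ x a : X, (a : X ⧸ V) = x → x * a⁻¹ ∈ V := by
    intro x a h
    have := (QuotientGroup.eq (s := V)).1 h
    have h2 := Subgroup.Normal.mem_comm (inferInstance : V.Normal) this
    exact h2
  let f : {p : X × X // Commute p.1 p.2} →
      {p : SemidirectProduct ↥V (X ⧸ V) φ × SemidirectProduct ↥V (X ⧸ V) φ // Commute p.1 p.2} :=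
    fun p => ⟨(⟨⟨p.1.1 * (σ p.1.1 p.1.2).1⁻¹, hmem _ _ (hσ _ _ p.2).2.1⟩, (p.1.1 : X ⧸ V)⟩,
      ⟨⟨p.1.2 * (σ p.1.1 p.1.2).2⁻¹, hmem _ _ (hσ _ _ p.2).2.2⟩, (p.1.2 : X ⧸ V)⟩), by
      obtain ⟨hc, h1, h2⟩ := hσ _ _ p.2
      have := lift_comm V hab φ hφ _ _ ⟨p.1.1 * (σ p.1.1 p.1.2).1⁻¹, hmem _ _ h1⟩
        ⟨p.1.2 * (σ p.1.1 p.1.2).2⁻¹, hmem _ _ h2⟩ hc (by simpa using p.2)
      rw [h1, h2] at this
      exact this⟩
  have hinj : Function.Injective f := by
    rintro ⟨⟨x, y⟩, h⟩ ⟨⟨x', y'⟩, h'⟩ he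
    have e1 := congrArg (fun q => q.1.1.left.1) he
    have e2 := congrArg (fun q => q.1.2.left.1) he
    have r1 := congrArg (fun q => q.1.1.right) he
    have r2 := congrArg (fun q => q.1.2.right) he
    simp only [f] at e1 e2 r1 r2
    rw [r1, r2] at e1 e2
    exact Subtype.ext (Prod.ext (mul_right_cancel e1) (mul_right_cancel e2))
  have := Nat.card_le_card_of_injective f hinj
  rw [card_comm_eq_card_conjClasses_mul_card, card_comm_eq_card_conjClasses_mul_card, hcard] at this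
  exact Nat.le_of_mul_le_mul_right this Nat.card_pos

end Cfsg.Agent.S4965
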