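import Cfsg.Statements.S4967
-- import your own Cfsg.Agent.* helpers here

set_option autoImplicit false
open Cfsg

namespace Cfsg.Agent.S4967

theorem core {F : Type*} [Field F] [Fintype F] {H : Type*} [CommGroup H] [Finite H] {V : Type*}
    [AddCommGroup V] [Module F V] [FiniteDimensional F V] [Nontrivial V] (ρ : Representation F H V)
    (hfaith : Function.Injective ρ)
    (hirr : ∀ U : Submodule F V, (∀ h : H, ∀ u ∈ U, ρ h u ∈ U) → U = ⊥ ∨ U = ⊤) :
    ((∃ B : LinearMap.BilinForm F V, B.Nondegenerate ∧ ∀ h : H, ∀ x y : V, B (ρ h x) (ρ h y) = B x y) →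
      (Module.finrank F V = 1 → Nat.card H ≤ 2) ∧ (2 ≤ Module.finrank F V →
        Even (Module.finrank F V) ∧ Nat.card H ∣ Fintype.card F ^ (Module.finrank F V / 2) + 1)) ∧
    ((Even (Module.finrank F V) ∧ Nat.card H ∣ Fintype.card F ^ (Module.finrank F V / 2) + 1) →
      ∃ B : LinearMap.BilinForm F V, B.Nondegenerate ∧ ∀ h : H, ∀ x y : V, B (ρ h x) (ρ h y) = B x y) := by
  classical
  let K : Subalgebra F (Module.End F V) := Algebra.adjoin F (Set.range ρ)
  have hcomm : ∀ h, ∀ a ∈ K, ρ h * a = a * ρ h := by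
    intro h a ha
    induction ha using Algebra.adjoin_induction with
    | mem x hx => obtain ⟨g, rfl⟩ := hx; rw [← map_mul, ← map_mul, mul_comm]
    | algebraMap r => exact (Algebra.commutes r (ρ h)).symm
    | add x y _ _ hx hy => rw [mul_add, add_mul, hx, hy]
    | mul x y _ _ hx hy => rw [← mul_assoc, hx, mul_assoc, hy, mul_assoc]
  have hKc : ∀ a ∈ K, ∀ b ∈ K, a * b = b * a := by
    intro a ha b hb
    induction hb using Algebra.adjoin_induction with
    | mem x hx => obtain ⟨g, rfl⟩ := hx; exact (hcomm g a ha).symm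
    | algebraMap r => exact (Algebra.commutes r a).symm
    | add x y _ _ hx hy => rw [mul_add, add_mul, hx, hy]
    | mul x y _ _ hx hy => rw [← mul_assoc, hx, mul_assoc, hy, mul_assoc]
  have hker : ∀ a ∈ K, a ≠ 0 → Function.Injective a := by
    intro a ha ha0
    rcases hirr (LinearMap.ker a) (fun h u hu => by
      rw [LinearMap.mem_ker] at hu ⊢
      rw [← Module.End.mul_apply, ← hcomm h a ha, Module.End.mul_apply, hu, map_zero]) with h | h
    · exact LinearMap.ker_eq_bot.1 h
    · exact absurd (LinearMap.ker_eq_top.1 h) ha0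
  obtain ⟨v₀, hv₀⟩ := exists_ne (0 : V)
  letI hCR : CommRing ↥K := { (inferInstance : Ring ↥K) with
    mul_comm := fun a b => Subtype.ext (hKc a a.2 b b.2) }
  haveI : Nontrivial ↥K := ⟨⟨0, 1, fun h => hv₀ (by
    simpa using (LinearMap.congr_fun (congrArg Subtype.val h) v₀).symm)⟩⟩
  haveI : NoZeroDivisors ↥K := ⟨fun {a b} hab => by
    by_contra hc
    push Not at hc
    apply hc.2
    apply Subtype.ext
    ext v
    apply hker a a.2 (fun h => hc.1 (Subtype.ext h))
    have := LinearMap.congr_fun (congrArg Subtype.val hab) v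
    simpa using this⟩
  haveI : IsDomain ↥K := NoZeroDivisors.to_isDomain _
  haveI : Module.Finite F ↥K := Module.Finite.of_injective K.val.toLinearMap Subtype.val_injective
  haveI : Finite ↥K := Module.finite_of_finite F
  letI hK : Field ↥K := (Finite.isField_of_domain ↥K).toField
  letI : Algebra F ↥K := K.algebra
  let ev : ↥K →ₗ[F] V :=
    { toFun := fun a => (a : Module.End F V) v₀
      map_add' := fun a b => rfl
      map_smul' := fun c a => rfl }
  have hev_inj : Function.Injective ev := by
    rw [← LinearMap.ker_eq_bot, LinearMap.ker_eq_bot']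
    intro a ha
    by_contra ha0
    exact hv₀ (hker a a.2 (fun h => ha0 (Subtype.ext h)) (by rw [map_zero]; exact ha))
  let z : H → ↥K := fun h => ⟨ρ h, Algebra.subset_adjoin ⟨h, rfl⟩⟩
  have hev_surj : Function.Surjective ev := by
    rw [← LinearMap.range_eq_top]
    rcases hirr (LinearMap.range ev) (fun h u hu => by
      obtain ⟨a, rfl⟩ := hu
      exact ⟨z h * a, rfl⟩) with h | h
    · exfalso
      have h1 : ev 1 ∈ LinearMap.range ev := ⟨1, rfl⟩
      rw [h, Submodule.mem_bot] at h1
      exact hv₀ (by simpa [ev] using h1)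
    · exact h
  let e : ↥K ≃ₗ[F] V := LinearEquiv.ofBijective ev ⟨hev_inj, hev_surj⟩
  have hn : Module.finrank F ↥K = Module.finrank F V := e.finrank_eq
  have he : ∀ h (a : ↥K), ρ h (e a) = e (z h * a) := fun h a => rfl
  let zh : H →* ↥K :=
    { toFun := z, map_one' := Subtype.ext (map_one ρ), map_mul' := fun a b => Subtype.ext (map_mul ρ a b) }
  have zinj : Function.Injective zh := fun a b h => hfaith (congrArg Subtype.val h)
  haveI : IsCyclic H := isCyclic_of_injective_ringHom zh zinj
  obtain ⟨g, hg⟩ := IsCyclic.exists_generator (α := H)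
  have hcard : Nat.card H = orderOf (z g) := by
    have h1 : orderOf (zh g) = orderOf g := orderOf_injective zh zinj g
    rw [show z g = zh g from rfl, h1, orderOf_eq_card_of_forall_mem_zpowers hg]
  set σ := FiniteField.frobeniusAlgEquivOfAlgebraic F ↥K with hσ
  have hσp : ∀ (j : ℕ) (x : ↥K), (σ ^ j) x = x ^ (Fintype.card F ^ j) := by
    intro j x
    rw [AlgEquiv.coe_pow, hσ, FiniteField.coe_frobeniusAlgEquivOfAlgebraic_iterate]
  have hgen : ∀ φ : ↥K →ₐ[F] ↥K, (∀ h, φ (z h) = z h) → ∀ x, φ x = x := by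
    intro φ hφ x
    have : ∀ a, ∀ ha : a ∈ K, φ ⟨a, ha⟩ = ⟨a, ha⟩ := by
      intro a ha
      induction ha using Algebra.adjoin_induction with
      | mem y hy => obtain ⟨h, rfl⟩ := hy; exact hφ h
      | algebraMap r => exact φ.commutes r
      | add y w hy hw ihy ihw =>
        rw [show (⟨y + w, _⟩ : ↥K) = ⟨y, hy⟩ + ⟨w, hw⟩ from rfl, map_add, ihy, ihw]
      | mul y w hy hw ihy ihw =>
        rw [show (⟨y * w, _⟩ : ↥K) = ⟨y, hy⟩ * ⟨w, hw⟩ from rfl, map_mul, ihy, ihw]
    exact this x.1 x.2
  constructor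
  · rintro ⟨B, hB, hinv⟩
    have hadj : ∀ a, ∀ ha : a ∈ K, ∃ b : ↥K, ∀ x y, B (a x) y = B x ((b : Module.End F V) y) := by
      intro a ha
      induction ha using Algebra.adjoin_induction with
      | mem y hy =>
        obtain ⟨h, rfl⟩ := hy
        refine ⟨z h⁻¹, fun x y => ?_⟩
        rw [← hinv h x ((z h⁻¹ : Module.End F V) y)]
        congr 1
        show y = ρ h (ρ h⁻¹ y)
        rw [← Module.End.mul_apply, ← map_mul, mul_inv_cancel, map_one, Module.End.one_apply]
      | algebraMap r => exact ⟨algebraMap F ↥K r, fun x y => by simp [Algebra.algebraMap_eq_smul_one]⟩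
      | add y w _ _ hy hw =>
        obtain ⟨b, hb⟩ := hy; obtain ⟨c, hc⟩ := hw
        exact ⟨b + c, fun x t => by simp [hb, hc]⟩
      | mul y w _ _ hy hw =>
        obtain ⟨b, hb⟩ := hy; obtain ⟨c, hc⟩ := hw
        exact ⟨c * b, fun x t => by simp [hb, hc]⟩
    choose τ hτ using fun a : ↥K => hadj a a.2
    have huniq : ∀ a b : ↥K, (∀ x y, B ((a : Module.End F V) x) y = B x ((b : Module.End F V) y)) →
        τ a = b := by
      intro a b hb
      apply Subtype.ext
      ext y
      rw [← sub_eq_zero]
      refine hB.2 _ fun x => ?_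
      rw [map_sub, ← hτ, ← hb, sub_self]
    let φ : ↥K →ₐ[F] ↥K :=
      { toFun := τ
        map_one' := huniq _ _ fun x y => by simp
        map_mul' := fun a b => huniq _ _ fun x y => by
          rw [mul_comm (τ a) (τ b)]; simp [hτ]
        map_zero' := huniq _ _ fun x y => by simp
        map_add' := fun a b => huniq _ _ fun x y => by simp [hτ]
        commutes' := fun r => huniq _ _ fun x y => by simp [Algebra.algebraMap_eq_smul_one] }
    have hτz : ∀ h, φ (z h) = z h⁻¹ := fun h => huniq _ _ fun x y => by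
      rw [← hinv h x ((z h⁻¹ : Module.End F V) y)]
      congr 1
      show y = ρ h (ρ h⁻¹ y)
      rw [← Module.End.mul_apply, ← map_mul, mul_inv_cancel, map_one, Module.End.one_apply]
    have hφbij : Function.Bijective φ := Finite.injective_iff_bijective.1 φ.toRingHom.injective
    obtain ⟨⟨j, hj⟩, hje⟩ := (FiniteField.bijective_frobeniusAlgEquivOfAlgebraic_pow F ↥K).2
      (AlgEquiv.ofBijective φ hφbij)
    have hzj : ∀ h, z h⁻¹ = z h ^ (Fintype.card F ^ j) := fun h => by
      rw [← hσp, ← hτz]; exact (AlgEquiv.congr_fun hje (z h)).symm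
    have hdvd : Nat.card H ∣ Fintype.card F ^ j + 1 := by
      rw [hcard, orderOf_dvd_iff_pow_eq_one, pow_succ, ← hzj,
        show z g⁻¹ * z g = zh (g⁻¹ * g) from (map_mul zh _ _).symm, inv_mul_cancel, map_one]
    have hord : Module.finrank F ↥K ∣ 2 * j := by
      rw [← FiniteField.orderOf_frobeniusAlgEquivOfAlgebraic, orderOf_dvd_iff_pow_eq_one]
      apply AlgEquiv.ext
      intro x
      refine (hgen ((σ ^ (2 * j) : ↥K ≃ₐ[F] ↥K) : ↥K →ₐ[F] ↥K) (fun h => ?_) x).trans rfl
      show (σ ^ (2 * j)) (z h) = z h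
      rw [hσp, two_mul, pow_add, pow_mul, ← hzj, ← hzj, inv_inv]
    rw [hn] at hj hord
    refine ⟨fun h1 => ?_, fun h2 => ?_⟩
    · obtain rfl : j = 0 := by omega
      rw [pow_zero] at hdvd
      exact Nat.le_of_dvd (by norm_num) hdvd
    · rcases Nat.eq_zero_or_pos j with rfl | hj0
      · exfalso
        have hfix : ∀ x : ↥K, (σ ^ 1) x = x := by
          refine hgen ((σ ^ 1 : ↥K ≃ₐ[F] ↥K) : ↥K →ₐ[F] ↥K) fun h => ?_
          show (σ ^ 1) (z h) = z h
          have h2 : z h ^ 2 = 1 := by
            have := hzj h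
            rw [pow_zero, pow_one] at this
            rw [sq]
            nth_rw 1 [← this]
            rw [show z h⁻¹ * z h = zh (h⁻¹ * h) from (map_mul zh _ _).symm, inv_mul_cancel, map_one]
          rw [hσp, pow_one]
          rcases sq_eq_one_iff.1 h2 with h3 | h3
          · rw [h3, one_pow]
          · rw [h3, show (-1 : ↥K) = algebraMap F ↥K (-1) by simp, ← map_pow, FiniteField.pow_card]
        have h1 : orderOf σ ∣ 1 := by
          rw [orderOf_dvd_iff_pow_eq_one]
          exact AlgEquiv.ext hfix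
        rw [hσ, FiniteField.orderOf_frobeniusAlgEquivOfAlgebraic, hn, Nat.dvd_one] at h1
        omega
      · obtain ⟨c, hc⟩ := hord
        have hc1 : c = 1 := by
          rcases Nat.lt_trichotomy c 1 with h | h | h
          · interval_cases c; omega
          · exact h
          · nlinarith
        subst hc1
        rw [mul_one] at hc
        refine ⟨⟨j, by omega⟩, ?_⟩
        rwa [show Module.finrank F V / 2 = j by omega]
  · rintro ⟨-, hdvd⟩
    set m := Module.finrank F V / 2 with hm
    have hσz : ∀ h, z h * (σ ^ m) (z h) = 1 := by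
      intro h
      rw [hσp, ← pow_succ']
      obtain ⟨k, hk⟩ := hdvd
      have : z h ^ Nat.card H = 1 := by
        rw [show z h ^ Nat.card H = zh (h ^ Nat.card H) from (map_pow zh h _).symm, pow_card_eq_one', map_one]
      rw [hk, pow_mul, this, one_pow]
    obtain ⟨lam, hlam⟩ : ∃ lam : ↥K →ₗ[F] F, lam 1 ≠ 0 := by
      by_contra hc
      push Not at hc
      exact one_ne_zero ((Module.forall_dual_apply_eq_zero_iff F (1 : ↥K)).1 hc)
    refine ⟨LinearMap.mk₂ F (fun x y => lam (e.symm x * (σ ^ m) (e.symm y))) ?_ ?_ ?_ ?_, ⟨?_, ?_⟩, ?_⟩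
    · intro a b c; simp [add_mul]
    · intro r a b; simp
    · intro a b c; simp [mul_add]
    · intro r a b; simp
    · intro x hx
      by_contra hx0
      have hx1 : e.symm x ≠ 0 := fun h => hx0 (e.symm.map_eq_zero_iff.1 h)
      have h := hx (e ((σ ^ m).symm (e.symm x)⁻¹))
      simp only [LinearMap.mk₂_apply, LinearEquiv.symm_apply_apply] at h
      rw [AlgEquiv.apply_symm_apply, mul_inv_cancel₀ hx1] at h
      exact hlam h
    · intro y hy
      by_contra hy0
      have hy1 : (σ ^ m) (e.symm y) ≠ 0 := fun h =>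
        hy0 (e.symm.map_eq_zero_iff.1 ((map_eq_zero_iff _ (σ ^ m).injective).1 h))
      have h := hy (e ((σ ^ m) (e.symm y))⁻¹)
      simp only [LinearMap.mk₂_apply, LinearEquiv.symm_apply_apply] at h
      rw [inv_mul_cancel₀ hy1] at h
      exact hlam h
    · intro h x y
      have hx : e.symm (ρ h x) = z h * e.symm x := by
        rw [LinearEquiv.symm_apply_eq, ← he, LinearEquiv.apply_symm_apply]
      have hy : e.symm (ρ h y) = z h * e.symm y := by
        rw [LinearEquiv.symm_apply_eq, ← he, LinearEquiv.apply_symm_apply]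
      simp only [LinearMap.mk₂_apply, hx, hy, map_mul]
      congr 1
      calc z h * e.symm x * ((σ ^ m) (z h) * (σ ^ m) (e.symm y))
          = (z h * (σ ^ m) (z h)) * (e.symm x * (σ ^ m) (e.symm y)) := by ring
        _ = _ := by rw [hσz, one_mul]


/-- Let F be a finite field with r elements and of characteristic p, H a finite abelian group of order prime to p, and V a faithful irreducible representation of H over F of dimension n (faithful: distinct elements act differently; irreducible: the only H-invariant subspaces are 0 and V). Call V self-dual when it carries a nondegenerate H-invariant bilinear form. If n = 1 and V is self-dual then H has order at most 2. If n ≥ 2 then V is self-dual if and only if n is even and the order of H divides r^(n/2) + 1. -/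
theorem result {F : Type*} [Field F] [Fintype F] (p : ℕ) [Fact p.Prime] [CharP F p] {H : Type*} [CommGroup H] [Finite H] (hcop : ¬ p ∣ Nat.card H) {V : Type*} [AddCommGroup V] [Module F V] [FiniteDimensional F V] (ρ : Representation F H V) (hfaith : Function.Injective ρ) (hirr : ∀ U : Submodule F V, (∀ h : H, ∀ u ∈ U, ρ h u ∈ U) → U = ⊥ ∨ U = ⊤) : (Module.finrank F V = 1 → (∃ B : LinearMap.BilinForm F V, B.Nondegenerate ∧ ∀ h : H, ∀ x y : V, B (ρ h x) (ρ h y) = B x y) → Nat.card H ≤ 2) ∧ (2 ≤ Module.finrank F V → ((∃ B : LinearMap.BilinForm F V, B.Nondegenerate ∧ ∀ h : H, ∀ x y : V, B (ρ h x) (ρ h y) = B x y) ↔ (Even (Module.finrank F V) ∧ Nat.card H ∣ Fintype.card F ^ (Module.finrank F V / 2) + 1))) := by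
  by_cases hV : Nontrivial V
  · obtain ⟨h1, h2⟩ := core ρ hfaith hirr
    exact ⟨fun hn hB => (h1 hB).1 hn, fun hn => ⟨fun hB => (h1 hB).2 hn, h2⟩⟩
  · rw [not_nontrivial_iff_subsingleton] at hV
    have : Module.finrank F V = 0 := Module.finrank_zero_of_subsingleton
    exact ⟨fun h => by omega, fun h => by omega⟩

end Cfsg.Agent.S4967
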