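import Cfsg.Statements.S4989
import Cfsg.Agent.Lib.CharGaloisMean
-- import your own Cfsg.Agent.* helpers here

set_option autoImplicit false
open Cfsg

namespace Cfsg.Agent.S4989

/-- Let H be a subgroup of the finite group G and χ an irreducible complex character of G. Then the inner product of the restriction of χ to H with itself, (1/#H)·Σ_{h ∈ H} |χ(h)|², is at most 1 + #(Z ∖ H)/#H, where Z is the set of zeros of χ in G. -/
theorem result {G : Type*} [Group G] [Finite G] (H : Subgroup G) (χ : Cfsg.IrrCharacter G) : (Nat.card ↥H : ℝ)⁻¹ * ∑ᶠ h : ↥H, ‖(χ : G → ℂ) h‖ ^ 2 ≤ 1 + (Set.ncard ({x : G | (χ : G → ℂ) x = 0} \ (H : Set G)) : ℝ) / (Nat.card ↥H : ℝ) := by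
  classical
  haveI := Fintype.ofFinite G
  rw [finsum_eq_sum_of_fintype]
  set ψ := (χ : G → ℂ) with hψ
  have hirr : Cfsg.IsIrrCharacter G ψ := χ.2
  have hsum : ∑ g, ‖ψ g‖ ^ 2 = (Nat.card G : ℝ) := by
    have h := CharBasicOrth.classInner_self_re ψ
    rw [CharBasicOrth.classInner_irr_self hirr, Complex.one_re] at h
    have hG : (Nat.card G : ℝ) ≠ 0 := Nat.cast_ne_zero.2 Nat.card_pos.ne'
    field_simp at h
    linarith
  let f : G → ℝ := fun g => if g ∈ H then 0 else ‖ψ g‖ ^ 2
  let e : G → ℝ := fun g => if g ∈ H then 0 else if ψ g = 0 then 0 else 1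
  have hfe : ∑ g, e g ≤ ∑ g, f g := by
    rw [← CharGaloisMean.card_gens_sum e, ← CharGaloisMean.card_gens_sum f]
    refine Finset.sum_le_sum fun B _ => ?_
    by_cases hB : B ≤ H
    · refine (Finset.sum_congr rfl fun a ha => ?_).le
      have haH : a ∈ H := hB (by rw [← CharBasicCyclic.mem_gens.1 ha]; exact Subgroup.mem_zpowers a)
      simp [e, f, haH]
    have hout : ∀ a ∈ CharBasicCyclic.gens B, a ∉ H := fun a ha haH => hB (by
      rw [← CharBasicCyclic.mem_gens.1 ha, Subgroup.zpowers_le]; exact haH)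
    by_cases hz : ∀ a ∈ CharBasicCyclic.gens B, ψ a = 0
    · refine (Finset.sum_congr rfl fun a ha => ?_).le
      simp [e, f, hout a ha, hz a ha]
    push Not at hz
    obtain ⟨g, hg, hg0⟩ := hz
    have hgB := CharBasicCyclic.mem_gens.1 hg
    have := Cfsg.Agent.S4574.sum_gens_ge g (CharBasic.isCharacter_of_isIrrCharacter hirr) hg0
    rw [hgB] at this
    refine le_trans ?_ (this.trans_eq (Finset.sum_congr rfl fun a ha => ?_))
    · rw [← nsmul_one, ← Finset.sum_const]
      refine Finset.sum_le_sum fun a ha => ?_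
      simp only [e]; split_ifs <;> norm_num
    · simp [f, hout a ha]
  have hsplit : ∑ g, f g + ∑ h : ↥H, ‖ψ h‖ ^ 2 = ∑ g, ‖ψ g‖ ^ 2 := by
    rw [← Finset.sum_subtype (Finset.univ.filter fun g => g ∈ H) (fun g => by simp) (fun g => ‖ψ g‖ ^ 2),
      Finset.sum_filter, ← Finset.sum_add_distrib]
    refine Finset.sum_congr rfl fun g _ => ?_
    simp only [f]; split_ifs <;> simp
  have hone : ∑ g, e g + (Nat.card H : ℝ) + ((Set.ncard ({x : G | ψ x = 0} \ (H : Set G)) : ℕ) : ℝ) =
      (Nat.card G : ℝ) := by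
    have h1 : (Nat.card H : ℝ) = ∑ g : G, (if g ∈ H then (1 : ℝ) else 0) := by
      rw [Finset.sum_boole, Nat.card_eq_fintype_card, Fintype.card_subtype]
    have h2 : ((Set.ncard ({x : G | ψ x = 0} \ (H : Set G)) : ℕ) : ℝ) =
        ∑ g : G, (if g ∈ H then (0 : ℝ) else if ψ g = 0 then 1 else 0) := by
      rw [Set.ncard_eq_toFinset_card']
      rw [Finset.sum_congr rfl fun g _ => (show (if g ∈ H then (0 : ℝ) else if ψ g = 0 then 1 else 0)
        = if (ψ g = 0 ∧ g ∉ H) then 1 else 0 by split_ifs <;> simp_all)]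
      rw [Finset.sum_boole]
      congr 2
      ext g; simp
    rw [h1, h2, Nat.card_eq_fintype_card, ← Finset.sum_add_distrib, ← Finset.sum_add_distrib]
    rw [← Finset.card_univ, ← nsmul_one (Finset.univ : Finset G).card, ← Finset.sum_const]
    refine Finset.sum_congr rfl fun g _ => ?_
    simp only [e]; split_ifs <;> simp
  have hH : (0 : ℝ) < (Nat.card H : ℝ) := Nat.cast_pos.2 Nat.card_pos
  rw [inv_mul_le_iff₀ hH, mul_add, mul_one, mul_div_cancel₀ _ hH.ne']
  linarith

end Cfsg.Agent.S4989
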