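import Cfsg.Statements.S4993
import Cfsg.Agent.Lib.PrimitiveMetanilp87
import Cfsg.Agent.Lib.ComponentsFitting

set_option autoImplicit false
open Cfsg Cfsg.Agent

namespace Cfsg.Agent.S4993

/-- Let G be a group of odd order whose order has exactly two prime divisors and whose quotient by its Fitting subgroup is nilpotent (G is metanilpotent), and let χ be a primitive irreducible complex character of G (not induced from a character of any proper subgroup). Then χ(1) divides the size of some conjugacy class of G. -/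
theorem result {G : Type*} [Group G] [Fintype G] (hodd : Odd (Nat.card G)) (h2 : (Nat.card G).primeFactors.card = 2) [hF : (Cfsg.fittingSubgroup G).Normal] (hmeta : Group.IsNilpotent (G ⧸ Cfsg.fittingSubgroup G)) (χ : Cfsg.IrrCharacter G) (hprim : ¬ ∃ (H : Subgroup G), H ≠ ⊤ ∧ ∃ θ : ↥H → ℂ, Cfsg.IsCharacter ↥H θ ∧ Cfsg.indFun H θ = (χ : G → ℂ)) : ∃ g : G, Cfsg.charDegree (χ : G → ℂ) ∣ (Subgroup.centralizer ({g} : Set G)).index := by
  classical
  obtain ⟨p, q, hpq, hset⟩ := Finset.card_eq_two.1 h2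
  haveI : Fact p.Prime := ⟨Nat.prime_of_mem_primeFactors (hset ▸ Finset.mem_insert_self p {q})⟩
  haveI : Fact q.Prime :=
    ⟨Nat.prime_of_mem_primeFactors (hset ▸ Finset.mem_insert_of_mem (Finset.mem_singleton_self q))⟩
  let K := CharKernel.irrKer χ
  haveI : K.Normal := CharKernel.irrKer_normal χ
  haveI : Fintype (G ⧸ K) := Fintype.ofFinite _
  obtain ⟨ψ, hψ⟩ := CharKernel.exists_quot_irr K χ fun n hn => hn
  have hf : ∀ x : G ⧸ K, (ψ : G ⧸ K → ℂ) x = (ψ : G ⧸ K → ℂ) 1 → x = 1 := by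
    intro x hx
    obtain ⟨g, rfl⟩ := QuotientGroup.mk_surjective x
    rw [QuotientGroup.eq_one_iff]
    refine CharKernel.mem_irrKer.2 ?_
    rw [hψ, hψ, hx]
    rfl
  let F : Subgroup (G ⧸ K) := (Cfsg.fittingSubgroup G).map (QuotientGroup.mk' K)
  haveI : F.Normal := hF.map _ (QuotientGroup.mk'_surjective K)
  haveI : Group.IsNilpotent (Cfsg.fittingSubgroup G) :=
    ComponentsFitting.fittingSubgroup_isNilpotent
  have hFnil : Group.IsNilpotent F := Group.nilpotent_of_surjective _
    ((QuotientGroup.mk' K).subgroupMap_surjective (Cfsg.fittingSubgroup G))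
  let π : G →* (G ⧸ K) ⧸ F := (QuotientGroup.mk' F).comp (QuotientGroup.mk' K)
  have hle : Cfsg.fittingSubgroup G ≤ π.ker := fun x hx =>
    (QuotientGroup.eq_one_iff (QuotientGroup.mk' K x)).2 (Subgroup.mem_map_of_mem _ hx)
  haveI := hmeta
  have hQ : Group.IsNilpotent ((G ⧸ K) ⧸ F) := Group.nilpotent_of_surjective
    (QuotientGroup.lift (Cfsg.fittingSubgroup G) π hle)
    (QuotientGroup.lift_surjective_of_surjective _ _
      (fun y => by
        obtain ⟨z, rfl⟩ := QuotientGroup.mk'_surjective F y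
        obtain ⟨g, rfl⟩ := QuotientGroup.mk'_surjective K z
        exact ⟨g, rfl⟩) hle)
  have hpr : ∀ r, r.Prime → r ∣ Nat.card (G ⧸ K) → r = p ∨ r = q := by
    intro r hr hd
    have h : r ∈ (Nat.card G).primeFactors :=
      Nat.mem_primeFactors.2 ⟨hr, hd.trans (Subgroup.card_quotient_dvd_card K), Nat.card_pos.ne'⟩
    rw [hset] at h
    simpa using h
  obtain ⟨x, hx⟩ := PrimitiveMetanilp87.faithful_main ψ.2
    (PrimitiveMetanilp87.prim_of_quot hprim K hψ) hf hpq hpr F hFnil hQ
    (CharAverage.charDegree_dvd_card ψ)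
  obtain ⟨g, rfl⟩ := QuotientGroup.mk_surjective x
  refine ⟨g, dvd_trans ?_ (hx.trans (PrimitiveMetanilp87.centralizer_index_quot K g))⟩
  rw [Cfsg.charDegree, Cfsg.charDegree, hψ 1]
  exact dvd_rfl

end Cfsg.Agent.S4993
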