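import Cfsg.Statements.S4996
import Cfsg.Agent.Lib.CharGaloisMean
import Cfsg.Agent.Lib.CharBasicLinear
-- import your own Cfsg.Agent.* helpers here

set_option autoImplicit false
open Cfsg
open scoped ComplexConjugate

namespace Cfsg.Agent.S4996

/-- Let N be a normal subgroup of the finite group G and χ an irreducible complex character of G. Then the restriction of χ to N is not irreducible if and only if χ vanishes on some whole coset Nx of N in G. -/
theorem result {G : Type*} [Group G] [Finite G] (N : Subgroup G) [N.Normal] (χ : Cfsg.IrrCharacter G) : ¬ Cfsg.IsIrrCharacter ↥N (fun n : ↥N => (χ : G → ℂ) n) ↔ ∃ x : G, ∀ n : ↥N, (χ : G → ℂ) ((n : G) * x) = 0 := by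
  classical
  haveI := Fintype.ofFinite G
  set ψ := (χ : G → ℂ) with hψ
  have hirr : Cfsg.IsIrrCharacter G ψ := χ.2
  have hch := CharBasic.isCharacter_of_isIrrCharacter hirr
  let φ : ↥N → ℂ := fun n => ψ n
  have hφ : Cfsg.IsCharacter ↥N φ := CharBasic.isCharacter_comap N.subtype hch
  let f : G → ℂ := fun x => (Nat.card N : ℂ)⁻¹ * ∑ n : N, ψ ((n : G) * x) * conj (ψ ((n : G) * x))
  have hf : Cfsg.IsCharacter G f := CharGaloisMean.isCharacter_average N
    (CharBasicDecomp.isCharacter_mul hch (CharBasicDecomp.isCharacter_conj hch))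
  have hfr : ∀ x, f x = (((Nat.card N : ℝ)⁻¹ * ∑ n : N, ‖ψ ((n : G) * x)‖ ^ 2 : ℝ) : ℂ) := fun x => by
    simp [f, Complex.mul_conj']
  have hf1 : f 1 = Cfsg.classInner φ φ := by simp [f, φ, Cfsg.classInner]
  have hzero : ∀ x, f x = 0 ↔ ∀ n : N, ψ ((n : G) * x) = 0 := by
    intro x
    rw [hfr, Complex.ofReal_eq_zero, mul_eq_zero, inv_eq_zero, Nat.cast_eq_zero,
      or_iff_right Nat.card_pos.ne', Finset.sum_eq_zero_iff_of_nonneg (fun _ _ => sq_nonneg _)]
    simp
  constructor
  · intro hred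
    by_contra hno
    push Not at hno
    have hne : ∀ x, f x ≠ 0 := fun x hx => by
      obtain ⟨n, hn⟩ := hno x
      exact hn ((hzero x).1 hx n)
    obtain ⟨m, hm⟩ := CharBasic.isCharacter_apply_one hf
    have hm0 : m ≠ 0 := fun h => hne 1 (by rw [hm, h, Nat.cast_zero])
    have hm1 : m ≠ 1 := fun h => hred (CharBasicDecomp.isIrrCharacter_iff.2 ⟨hφ, by
      rw [← hf1, hm, h, Nat.cast_one]⟩)
    have hm2 : (2 : ℝ) ≤ ‖f 1‖ := by
      rw [hm, Complex.norm_natCast]; exact_mod_cast (by omega : 2 ≤ m)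
    have htot : ∑ x : G, ‖f x‖ = (Nat.card G : ℝ) := by
      have h0 : ∑ g, ‖ψ g‖ ^ 2 = (Nat.card G : ℝ) := by
        have h := CharBasicOrth.classInner_self_re ψ
        rw [CharBasicOrth.classInner_irr_self hirr, Complex.one_re] at h
        have hG : (Nat.card G : ℝ) ≠ 0 := Nat.cast_ne_zero.2 Nat.card_pos.ne'
        field_simp at h
        linarith
      have h1 : ∀ x, ‖f x‖ = (Nat.card N : ℝ)⁻¹ * ∑ n : N, ‖ψ ((n : G) * x)‖ ^ 2 := fun x => by
        rw [hfr, Complex.norm_real, Real.norm_of_nonneg (by positivity)]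
      simp only [h1, ← Finset.mul_sum]
      rw [Finset.sum_comm]
      have h2 : ∀ n : N, ∑ x : G, ‖ψ ((n : G) * x)‖ ^ 2 = (Nat.card G : ℝ) := fun n => by
        rw [← h0]
        exact Fintype.sum_equiv (Equiv.mulLeft (n : G)) _ _ fun x => rfl
      simp only [h2, Finset.sum_const, Finset.card_univ, nsmul_eq_mul]
      rw [← mul_assoc, ← Nat.card_eq_fintype_card, inv_mul_cancel₀, one_mul]
      exact Nat.cast_ne_zero.2 Nat.card_pos.ne'
    have hlt : ∑ x : G, (1 : ℝ) < ∑ x : G, ‖f x‖ := by
      rw [← CharGaloisMean.card_gens_sum (fun _ : G => (1 : ℝ)),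
        ← CharGaloisMean.card_gens_sum fun x => ‖f x‖]
      refine Finset.sum_lt_sum (fun B _ => ?_) ⟨⊥, Finset.mem_univ _, ?_⟩
      · rcases (CharBasicCyclic.gens B).eq_empty_or_nonempty with h | ⟨g, hg⟩
        · simp [h]
        · have h := CharGaloisMean.sum_gens_norm_ge g hf hne
          rw [CharBasicCyclic.mem_gens.1 hg] at h
          simpa using h
      · have : CharBasicCyclic.gens (⊥ : Subgroup G) = {1} := by
          ext a; simp [CharBasicCyclic.mem_gens, Subgroup.zpowers_eq_bot]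
        rw [this, Finset.sum_singleton, Finset.sum_singleton]
        linarith
    rw [htot, Finset.sum_const, Finset.card_univ, nsmul_eq_mul, mul_one,
      ← Nat.card_eq_fintype_card] at hlt
    exact lt_irrefl _ hlt
  · rintro ⟨x, hx⟩ hN
    have h1 : f 1 = 1 := by rw [hf1]; exact CharBasicOrth.classInner_irr_self hN
    obtain ⟨lam, hlam⟩ := CharBasicLinear.exists_hom_of_apply_one_eq_one hf h1
    have h0 := (hzero x).2 hx
    have : f x = (lam x : ℂ) := by
      first | exact congrFun hlam x | exact (congrFun hlam x).symm | exact hlam x | exact (hlam x).symm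
    exact (lam x).ne_zero (this ▸ h0)

end Cfsg.Agent.S4996
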