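import Cfsg.Statements.S4997
import Cfsg.Agent.S4850

set_option autoImplicit false
open Cfsg

namespace Cfsg.Agent.S4997

/-- Let p be an odd prime and G a finite solvable group with exactly one conjugacy class consisting of vanishing elements (elements at which some irreducible complex character is zero) of order divisible by p. Let P be a Sylow p-subgroup of G. Then the order of P is at most p times the order of the largest normal p-subgroup of G. -/
theorem result {G : Type*} [Group G] [Finite G] (hsolv : Group.IsSolvable G) (p : ℕ) [Fact p.Prime] (hp : p ≠ 2) (h1 : Set.ncard {C : ConjClasses G | (∀ g ∈ C.carrier, ∃ χ : Cfsg.IrrCharacter G, (χ : G → ℂ) g = 0) ∧ ∃ g ∈ C.carrier, p ∣ orderOf g} = 1) (P : Sylow p G) : Nat.card ↥(P : Subgroup G) ≤ p * Nat.card ↥(Cfsg.pCore p G) := by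
  obtain ⟨C0, hC0⟩ := Set.ncard_eq_one.1 h1
  obtain ⟨g0, rfl⟩ := ConjClasses.mk_surjective C0
  have hb : ∀ g : G, p ∣ orderOf g → Vanish9.Van g → orderOf g = orderOf g0 := by
    rintro g hg ⟨χ, hχ⟩
    have hmem : ConjClasses.mk g ∈ ({ConjClasses.mk g0} : Set (ConjClasses G)) := by
      rw [← hC0]
      refine ⟨fun y hy => ⟨χ, ?_⟩, g, ConjClasses.mem_carrier_mk, hg⟩
      have hconj : IsConj g y := (ConjClasses.mk_eq_mk_iff_isConj.1
        (ConjClasses.mem_carrier_iff_mk_eq.1 hy)).symm
      obtain ⟨s, hs⟩ := isConj_iff.1 hconj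
      rw [← hs, CharBasic.isClassFunction_of_isCharacter (CharBasic.isCharacter_of_isIrrCharacter χ.2)]
      exact hχ
    obtain ⟨s, hs⟩ := isConj_iff.1 (ConjClasses.mk_eq_mk_iff_isConj.1 hmem)
    rw [← hs]
    exact (MulEquiv.orderOf_eq (MulAut.conj s) g).symm
  have hP := S4850.card_map_le p _ hb P
  refine le_trans ?_ (Nat.mul_le_mul_right _ hP)
  have hker : (QuotientGroup.mk' (Cfsg.pCore p G)).ker = Cfsg.pCore p G := QuotientGroup.ker_mk' _
  calc Nat.card ↥(P : Subgroup G) ≤ Nat.card ((P : Subgroup G).map (QuotientGroup.mk' (Cfsg.pCore p G)))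
        * Nat.card ((QuotientGroup.mk' (Cfsg.pCore p G)).ker) := by
        set f := (QuotientGroup.mk' (Cfsg.pCore p G)).comp (P : Subgroup G).subtype
        rw [Subgroup.card_eq_card_quotient_mul_card_subgroup f.ker,
          Nat.card_congr (QuotientGroup.quotientKerEquivRange f).toEquiv, MonoidHom.range_comp,
          Subgroup.range_subtype]
        refine Nat.mul_le_mul_left _ (Nat.card_le_card_of_injective
          (fun x => ⟨((x : ↥(P : Subgroup G)) : G), x.2⟩) ?_)
        intro x y hxy
        exact Subtype.ext (Subtype.ext (congrArg Subtype.val hxy :))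
    _ = _ := by rw [hker]

end Cfsg.Agent.S4997
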