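import Cfsg.Statements.S5001
import Cfsg.Agent.Lib.BlockTheoryHeight
import Cfsg.Agent.Lib.CharBasicDecomp
-- import your own Cfsg.Agent.* helpers here

set_option autoImplicit false
open Cfsg

namespace Cfsg.Agent.S5001

open Cfsg.Agent.BlockTheoryLocalRing Cfsg.Agent.BlockTheoryDefect Cfsg.Agent.CharBasic
open Cfsg.Agent.CharBasicDecomp

/-- A unit value at an element commuting with a subgroup yields a constituent of degree prime
to `p` on which a central element acts by the given scalar. -/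
theorem exists_linear {G : Type*} [Group G] [Finite G] {p : ℕ} [Fact p.Prime]
    {M : Ideal Cfsg.AlgInt} (hM : Cfsg.IsPModular p M) {χ : G → ℂ}
    (hχ : Cfsg.IsCharacter G χ) (D : Subgroup G) (hD : IsPGroup p D) {y : G}
    (hy : ∀ d ∈ D, Commute d y) (hval : ¬ Cfsg.MemLocalIdeal M (χ y))
    (Z : Subgroup G) (hZc : Z ≤ Subgroup.center G) (hZD : Z ≤ D) (lam : ↥Z →* ℂˣ)
    (hover : ∀ z : ↥Z, χ z = χ 1 * (lam z : ℂ)) :
    ∃ μ : ↥D →* ℂˣ, ∀ z : ↥Z, μ ⟨(z : G), hZD z.2⟩ = lam z := by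
  classical
  have hcomm : ∀ (d : D) (c : Subgroup.zpowers y), Commute (D.subtype d) ((Subgroup.zpowers y).subtype c) := by
    intro d c
    obtain ⟨k, hk⟩ := Subgroup.mem_zpowers_iff.1 c.2
    rw [Subgroup.subtype_apply, Subgroup.subtype_apply, ← hk]
    exact (hy d d.2).zpow_right k
  set φ := MonoidHom.noncommCoprod D.subtype (Subgroup.zpowers y).subtype hcomm with hφ
  haveI : Fintype (↥D × ↥(Subgroup.zpowers y)) := Fintype.ofFinite _
  obtain ⟨m, -, hsum⟩ := exists_mult (isCharacter_comap φ hχ)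
  have happ : ∀ u, χ (φ u) = ∑ θ, (m θ : ℂ) * (θ : ↥D × ↥(Subgroup.zpowers y) → ℂ) u := by
    intro u
    have := congrFun hsum u
    simpa [Finset.sum_apply] using this
  choose n ρ hirr hchar using fun θ : Cfsg.IrrCharacter (↥D × ↥(Subgroup.zpowers y)) => θ.2
  have hdeg : ∀ θ : Cfsg.IrrCharacter (↥D × ↥(Subgroup.zpowers y)),
      (θ : ↥D × ↥(Subgroup.zpowers y) → ℂ) 1 = n θ := fun θ => by
    rw [← hchar θ, Representation.char_one]; simp
  have hcen : ∀ (θ : Cfsg.IrrCharacter (↥D × ↥(Subgroup.zpowers y))) u,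
      u ∈ Subgroup.center (↥D × ↥(Subgroup.zpowers y)) → ∃ c : ℂ,
        ρ θ u = c • LinearMap.id ∧ IsIntegral ℤ c ∧ ‖c‖ = 1 ∧
        (∀ k : ℕ, u ^ k = 1 → c ^ k = 1) ∧
        (θ : ↥D × ↥(Subgroup.zpowers y) → ℂ) u = (n θ : ℂ) * c := by
    intro θ u hu
    haveI := hirr θ
    haveI := nontrivial_of_irreducible (ρ θ)
    obtain ⟨c, hc⟩ := exists_scalar_of_mem_center (ρ θ) hu
    have hpow : ∀ k : ℕ, u ^ k = 1 → c ^ k = 1 := by
      intro k hk
      have h1 : (c • LinearMap.id : Module.End ℂ (Fin (n θ) → ℂ)) ^ k = 1 := by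
        rw [← hc, ← map_pow, hk, map_one]
      rw [← Module.End.one_eq_id, smul_pow, one_pow] at h1
      obtain ⟨v, hv⟩ := exists_ne (0 : Fin (n θ) → ℂ)
      have h2 : c ^ k • v = (1 : ℂ) • v := by simpa using LinearMap.congr_fun h1 v
      exact smul_left_injective ℂ hv h2
    have hpos : 0 < orderOf u := (isOfFinOrder_of_finite u).orderOf_pos
    have ho := hpow _ (pow_orderOf_eq_one u)
    refine ⟨c, hc, IsIntegral.of_pow hpos (by rw [ho]; exact isIntegral_one),
      Complex.norm_eq_one_of_pow_eq_one ho hpos.ne', hpow, ?_⟩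
    rw [← hchar θ, Representation.character, hc, map_smul, LinearMap.trace_id, smul_eq_mul]
    simp [mul_comm]
  have hye : ((1, ⟨y, Subgroup.mem_zpowers y⟩) : ↥D × ↥(Subgroup.zpowers y)) ∈
      Subgroup.center (↥D × ↥(Subgroup.zpowers y)) := by
    refine Subgroup.mem_center_iff.2 fun u => Prod.ext (by simp) ?_
    obtain ⟨k, hk⟩ := Subgroup.mem_zpowers_iff.1 u.2.2
    refine Subtype.ext ?_
    show (u.2 : G) * y = y * (u.2 : G)
    rw [← hk]
    exact ((Commute.refl y).zpow_left k).eq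
  choose w hw using fun θ => hcen θ _ hye
  obtain ⟨θ, hθm, hθp⟩ : ∃ θ, m θ ≠ 0 ∧ ¬ p ∣ n θ := by
    by_contra hno
    push Not at hno
    apply hval
    have he := happ (1, ⟨y, Subgroup.mem_zpowers y⟩)
    simp only [hφ, MonoidHom.noncommCoprod_apply, map_one, one_mul, Subgroup.subtype_apply] at he
    rw [he, show (∑ θ, (m θ : ℂ) * (θ : ↥D × ↥(Subgroup.zpowers y) → ℂ)
        (1, ⟨y, Subgroup.mem_zpowers y⟩)) =
        (p : ℂ) * ∑ θ, (m θ : ℂ) * ((n θ / p : ℕ) : ℂ) * w θ by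
      rw [Finset.mul_sum]
      refine Finset.sum_congr rfl fun θ _ => ?_
      rcases eq_or_ne (m θ) 0 with h | h
      · simp [h]
      · obtain ⟨j, hj⟩ := hno θ h
        rw [(hw θ).2.2.2.2, hj, Nat.mul_div_cancel_left j (Fact.out : p.Prime).pos]
        push_cast; ring]
    refine ideal_mul_right hM ((natCast_mem_iff hM).2 dvd_rfl) (of_isIntegral hM ?_)
    refine IsIntegral.sum _ fun θ _ => ?_
    exact ((isIntegral_natCast _).mul (isIntegral_natCast _)).mul (hw θ).2.1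
  obtain ⟨k, hk⟩ := IsPGroup.iff_card.1 hD
  have hcop : Nat.Coprime (n θ) (Nat.card D) := by
    rw [hk]
    exact Nat.Coprime.pow_right _ ((Fact.out : p.Prime).coprime_iff_not_dvd.2 hθp).symm
  haveI : NeZero (Nat.card D) := ⟨Nat.card_pos.ne'⟩
  set s := ((n θ : ZMod (Nat.card D))⁻¹).val with hs
  have hns : n θ * s ≡ 1 [MOD Nat.card D] := by
    rw [← ZMod.natCast_eq_natCast_iff, Nat.cast_mul, hs, ZMod.natCast_zmod_val,
      ZMod.coe_mul_inv_eq_one _ hcop, Nat.cast_one]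
  let σ : ↥D →* Module.End ℂ (Fin (n θ) → ℂ) :=
    (ρ θ).comp (MonoidHom.inl ↥D ↥(Subgroup.zpowers y))
  refine ⟨(((LinearMap.det).comp σ).toHomUnits) ^ s, fun z => Units.ext ?_⟩
  have hze : ∀ z : ↥Z, ((⟨(z : G), hZD z.2⟩, 1) : ↥D × ↥(Subgroup.zpowers y)) ∈
      Subgroup.center (↥D × ↥(Subgroup.zpowers y)) := fun z =>
    Subgroup.mem_center_iff.2 fun u => Prod.ext
      (Subtype.ext (Subgroup.mem_center_iff.1 (hZc z.2) (u.1 : G))) (by simp)
  choose c hc using fun θ => hcen θ _ (hze z)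
  have hz := happ (⟨(z : G), hZD z.2⟩, 1)
  simp only [hφ, MonoidHom.noncommCoprod_apply, map_one, mul_one, Subgroup.subtype_apply] at hz
  have h1 := happ 1
  rw [map_one] at h1
  have hl1 : ‖(lam z : ℂ)‖ = 1 := CharBasicDecomp.norm_linear lam z
  have hcl : c θ = (lam z : ℂ) := by
    have hle : ∀ ψ ∈ (Finset.univ : Finset (Cfsg.IrrCharacter (↥D × ↥(Subgroup.zpowers y)))),
        ((m ψ : ℝ) * n ψ) * (c ψ * starRingEnd ℂ (lam z : ℂ)).re ≤ (m ψ : ℝ) * n ψ := by
      intro ψ _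
      refine mul_le_of_le_one_right (by positivity) ((Complex.re_le_norm _).trans ?_)
      simp [(hc ψ).2.2.1, hl1]
    have hconj : (lam z : ℂ) * starRingEnd ℂ (lam z : ℂ) = 1 := by
      rw [Complex.mul_conj', hl1]; simp
    have hC : ∑ ψ, ((m ψ : ℂ) * n ψ) * (c ψ * starRingEnd ℂ (lam z : ℂ)) =
        ∑ ψ, (m ψ : ℂ) * n ψ := by
      calc _ = χ z * starRingEnd ℂ (lam z : ℂ) := by
            rw [hz, Finset.sum_mul]
            refine Finset.sum_congr rfl fun ψ _ => ?_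
            rw [(hc ψ).2.2.2.2]; ring
        _ = χ 1 := by rw [hover z, mul_assoc, hconj, mul_one]
        _ = _ := by rw [h1]; simp [hdeg]
    have hR : ∑ ψ, ((m ψ : ℝ) * n ψ) * (c ψ * starRingEnd ℂ (lam z : ℂ)).re =
        ∑ ψ, (m ψ : ℝ) * n ψ := by
      have h := congrArg Complex.re hC
      simpa [Complex.re_sum] using h
    have h := (Finset.sum_eq_sum_iff_of_le hle).1 hR θ (Finset.mem_univ _)
    have hpos : (m θ : ℝ) * n θ ≠ 0 := by
      refine mul_ne_zero (Nat.cast_ne_zero.2 hθm) (Nat.cast_ne_zero.2 fun h0 => hθp ?_)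
      rw [h0]; exact dvd_zero p
    have hre : (c θ * starRingEnd ℂ (lam z : ℂ)).re = 1 :=
      mul_left_cancel₀ hpos (by rw [h, mul_one])
    have hnorm : ‖c θ * starRingEnd ℂ (lam z : ℂ)‖ = 1 := by simp [(hc θ).2.2.1, hl1]
    have heq : c θ * starRingEnd ℂ (lam z : ℂ) = 1 := by
      have h8 := Complex.nonneg_iff.1 (Complex.re_eq_norm.1 (hre.trans hnorm.symm))
      exact Complex.ext (by simp [hre]) (by simp [← h8.2])
    calc c θ = c θ * ((lam z : ℂ) * starRingEnd ℂ (lam z : ℂ)) := by rw [hconj, mul_one]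
      _ = lam z := by rw [mul_left_comm, heq, mul_one]
  have hdet : LinearMap.det (σ ⟨(z : G), hZD z.2⟩) = (lam z : ℂ) ^ n θ := by
    show LinearMap.det (ρ θ (⟨(z : G), hZD z.2⟩, 1)) = _
    rw [(hc θ).1, LinearMap.det_smul, LinearMap.det_id, mul_one, hcl]
    simp
  have hcard : ((lam z : ℂ)) ^ Nat.card D = 1 := by
    rw [← hcl]
    refine (hc θ).2.2.2.1 _ (Prod.ext ?_ (one_pow _))
    exact pow_card_eq_one'
  rw [MonoidHom.pow_apply, Units.val_pow_eq_pow_val, MonoidHom.coe_toHomUnits,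
    MonoidHom.comp_apply, hdet, ← pow_mul, pow_eq_pow_mod _ hcard, hns,
    ← pow_eq_pow_mod _ hcard, pow_one]


/-- Let p be a prime, G a finite group and B a p-block of G (relative to a maximal ideal M of the algebraic integers containing p) with defect group D. Let Z be a central p-subgroup of G contained in D and λ a linear character of Z (a homomorphism to the nonzero complex numbers). Say an irreducible character χ of G lies over λ when χ(z) = χ(1)λ(z) for all z ∈ Z. If some irreducible character in B lying over λ has height zero, then λ extends to a linear character of D. -/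
theorem result {G : Type*} [Group G] [Finite G] (p : ℕ) [Fact p.Prime] (M : Ideal Cfsg.AlgInt) (hM : Cfsg.IsPModular p M) (B : Set (Cfsg.IrrCharacter G)) (hB : Cfsg.IsPBlock M B) (D : Subgroup G) (hD : Cfsg.IsDefectGroup p M B D) (Z : Subgroup G) (hZc : Z ≤ Subgroup.center G) (hZp : IsPGroup p ↥Z) (hZD : Z ≤ D) (lam : ↥Z →* ℂˣ) (χ : Cfsg.IrrCharacter G) (hχ : χ ∈ B) (hover : (∀ z : ↥Z, (χ : G → ℂ) z = (χ : G → ℂ) 1 * (lam z : ℂ))) (h0 : Cfsg.blockHeight p B (χ : G → ℂ) = 0) : (∃ μ : ↥D →* ℂˣ, ∀ z : ↥Z, μ ⟨(z : G), hZD z.2⟩ = lam z) := by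
  obtain ⟨y, hy, S, rfl⟩ := hD
  have hval := BlockTheoryHeight.apply_mul_not_ideal hM hB hy S (one_mem _) hχ h0
  rw [one_mul] at hval
  exact exists_linear hM (CharBasic.isCharacter_of_isIrrCharacter χ.2) _ (isPGroup_sylowIn S)
    (fun d hd => Subgroup.mem_centralizer_singleton_iff.mp (sylowIn_le S hd))
    hval Z hZc hZD lam hover

end Cfsg.Agent.S5001
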