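import Cfsg.Statements.S5011
-- import your own Cfsg.Agent.* helpers here

set_option autoImplicit false
open Cfsg

namespace Cfsg.Agent.S5011

/-- Let G be a finite non-abelian simple group and ρ an irreducible complex representation of G on a space of dimension greater than one (irreducible in the sense that the only subspaces invariant under every ρ(x) are 0 and the whole space). Then for every non-identity element g of G, the centralizer of g does not act irreducibly: there is a non-zero proper subspace invariant under ρ(c) for every c commuting with g. -/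
theorem result {G : Type*} [Group G] [Finite G] [IsSimpleGroup G]
    (hG : ¬ IsMulCommutative G) {V : Type*} [AddCommGroup V] [Module ℂ V] [FiniteDimensional ℂ V]
    (ρ : Representation ℂ G V)
    (hirr : ∀ W : Submodule ℂ V, (∀ x : G, ∀ v ∈ W, ρ x v ∈ W) → W = ⊥ ∨ W = ⊤)
    (hdim : 1 < Module.finrank ℂ V) (g : G) (hg : g ≠ 1) :
    ∃ W : Submodule ℂ V, W ≠ ⊥ ∧ W ≠ ⊤ ∧ ∀ c ∈ Subgroup.centralizer ({g} : Set G), ∀ v ∈ W, ρ c v ∈ W := by
  by_contra hne
  have hirrC : ∀ W : Submodule ℂ V,
      (∀ c ∈ Subgroup.centralizer ({g} : Set G), ∀ v ∈ W, ρ c v ∈ W) → W = ⊥ ∨ W = ⊤ := by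
    intro W hW
    by_contra h
    push Not at h
    exact hne ⟨W, h.1, h.2, hW⟩
  haveI : Nontrivial V := Module.nontrivial_of_finrank_pos (R := ℂ) (by omega)
  obtain ⟨μ, hμ⟩ := Module.End.exists_eigenvalue (ρ g)
  have htop : Module.End.eigenspace (ρ g) μ = ⊤ := by
    have h1 : ∀ c ∈ Subgroup.centralizer ({g} : Set G), ∀ v ∈ Module.End.eigenspace (ρ g) μ,
        ρ c v ∈ Module.End.eigenspace (ρ g) μ := by
      intro c hc v hv
      rw [Module.End.mem_eigenspace_iff] at hv ⊢
      have hcomm : g * c = c * g := Subgroup.mem_centralizer_iff.1 hc g rfl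
      calc ρ g (ρ c v) = ρ (g * c) v := by rw [map_mul]; rfl
        _ = ρ c (ρ g v) := by rw [hcomm, map_mul]; rfl
        _ = μ • ρ c v := by rw [hv, map_smul]
    exact (hirrC _ h1).resolve_left hμ
  let K : Subgroup G :=
    { carrier := {x | ∃ a : ℂ, ∀ v, ρ x v = a • v}
      one_mem' := ⟨1, fun v => by simp⟩
      mul_mem' := by
        rintro x y ⟨a, ha⟩ ⟨b, hb⟩
        refine ⟨a * b, fun v => ?_⟩
        rw [map_mul, Module.End.mul_apply, hb, map_smul, ha, smul_smul, mul_comm]
      inv_mem' := by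
        rintro x ⟨a, ha⟩
        refine ⟨a⁻¹, fun v => ?_⟩
        have h1 : ∀ w, ρ x (ρ x⁻¹ w) = w := fun w => by
          rw [← Module.End.mul_apply, ← map_mul, mul_inv_cancel, map_one, Module.End.one_apply]
        have ha0 : a ≠ 0 := by
          rintro rfl
          obtain ⟨w, hw⟩ := exists_ne (0 : V)
          exact hw (by rw [← h1 w, ha, zero_smul])
        have h2 := h1 v
        rw [ha] at h2
        rw [eq_inv_smul_iff₀ ha0, h2] }
  haveI hn : K.Normal := by
    refine ⟨fun x hx y => ?_⟩
    obtain ⟨a, ha⟩ := hx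
    refine ⟨a, fun v => ?_⟩
    rw [map_mul, map_mul, Module.End.mul_apply, Module.End.mul_apply, ha, map_smul,
      ← Module.End.mul_apply, ← map_mul, mul_inv_cancel, map_one, Module.End.one_apply]
  have hgK : g ∈ K := ⟨μ, fun v => Module.End.mem_eigenspace_iff.1 (htop.symm ▸ Submodule.mem_top)⟩
  rcases hn.eq_bot_or_eq_top with h | h
  · rw [h, Subgroup.mem_bot] at hgK
    exact hg hgK
  obtain ⟨w, hw⟩ := exists_ne (0 : V)
  rcases hirr (ℂ ∙ w) (fun x v hv => by
    obtain ⟨a, ha⟩ := (h.symm ▸ Subgroup.mem_top x : x ∈ K)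
    rw [ha]; exact Submodule.smul_mem _ _ hv) with h3 | h3
  · exact hw (Submodule.span_singleton_eq_bot.1 h3)
  · have h4 := finrank_span_singleton (K := ℂ) hw
    rw [h3, finrank_top] at h4
    omega

end Cfsg.Agent.S5011
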