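import Cfsg.Statements.S5012
import Cfsg.Agent.Lib.Radical42All
import Cfsg.Agent.Lib.BlockPrincipal81

set_option autoImplicit false
open Cfsg

namespace Cfsg.Agent.S5012

/-- Let G be a finite simple group of Lie type in characteristic p. Then every p-block of G has defect zero or full defect: its defect is 0 or the exponent of p in the order of G (its defect groups are trivial or Sylow p-subgroups). -/
theorem result {G : Type*} [Group G] [Finite G] (p : ℕ) [Fact p.Prime] (hG : Cfsg.IsLieTypeChar p G) (M : Ideal Cfsg.AlgInt) (hM : Cfsg.IsPModular p M) (B : Set (Cfsg.IrrCharacter G)) (hB : Cfsg.IsPBlock M B) : Cfsg.blockDefect p B = 0 ∨ Cfsg.blockDefect p B = (Nat.card G).factorization p := by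
  by_cases hB0 : blockDefect p B = 0
  · exact Or.inl hB0
  refine Or.inr ?_
  let B₀ : Set (IrrCharacter G) := principalBlock M G
  have hB₀ : IsPBlock M B₀ := Agent.BlockPrincipal81.isPBlock_principal
  have hd : blockDefect p B₀ = (Nat.card G).factorization p := by
    have hmem : (0 : ℕ) ∈ (fun χ : IrrCharacter G => (charDegree (χ : G → ℂ)).factorization p) '' B₀ :=
      ⟨Agent.BlockPrincipal81.oneChar G, Agent.BlockPrincipal81.oneChar_mem hM,
        by simp [Agent.BlockPrincipal81.oneChar, charDegree]⟩
    rw [blockDefect, Nat.sInf_eq_zero.2 (Or.inl hmem), Nat.sub_zero]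
  by_cases h0 : (Nat.card G).factorization p = 0
  · exact absurd (by rw [blockDefect, h0, Nat.zero_sub]) hB0
  rw [Agent.DefiningBlocksGeneric.eq_of_positive (Agent.Radical42All.hasRadicals hG) hM hB hB₀ hB0 (hd ▸ h0), hd]

end Cfsg.Agent.S5012
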