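import Cfsg.Statements.S5015
import Cfsg.Agent.Lib.RankOne
-- import your own Cfsg.Agent.* helpers here

set_option autoImplicit false
open Cfsg

namespace Cfsg.Agent.S5015

/-- Let a group Y act doubly transitively on a set Ω with at least three points, and suppose that the stabilizer of a point α contains a nilpotent subgroup A, normalized by that stabilizer, which acts regularly on the points other than α. Then for any y in Y moving α, the subgroups A and y A y⁻¹ are the unipotent subgroups of a rank one group, and the normal closure of A in Y (the subgroup generated by all conjugates of A) is generated by A and y A y⁻¹ alone. -/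
theorem result {Y Ω : Type*} [Group Y] [MulAction Y Ω]
    (h2 : MulAction.IsMultiplyPretransitive Y Ω 2) (hΩ : 3 ≤ ENat.card Ω) (α : Ω) (A : Subgroup Y)
    (hA : A ≤ MulAction.stabilizer Y α) (hAn : ∀ y ∈ MulAction.stabilizer Y α, Cfsg.conjBy A y = A)
    (hnil : Group.IsNilpotent A) (hreg : ∀ β γ : Ω, β ≠ α → γ ≠ α → ∃! a : Y, a ∈ A ∧ a • β = γ)
    (y : Y) (hy : y ∉ MulAction.stabilizer Y α) :
    Cfsg.IsRankOnePair A (Cfsg.conjBy A y) ∧ Subgroup.normalClosure (A : Set Y) = A ⊔ Cfsg.conjBy A y := by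
  classical
  have hgen : ∀ β : Ω, ∃ g : Y, g • α = β := by
    haveI := h2
    haveI : MulAction.IsPretransitive Y Ω := MulAction.isPretransitive_of_is_two_pretransitive
    exact fun β => MulAction.exists_smul_eq Y α β
  have hwd : ∀ g g' : Y, g • α = g' • α → conjBy A g = conjBy A g' := by
    intro g g' he
    have hs : g⁻¹ * g' ∈ MulAction.stabilizer Y α := by
      rw [MulAction.mem_stabilizer_iff, mul_smul, ← he, inv_smul_smul]
    rw [← mul_inv_cancel_left g g', ← RankOne.conjBy_mul A g, hAn _ hs]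
  have hfix : ∀ a ∈ A, a • α = α := fun a ha => MulAction.mem_stabilizer_iff.1 (hA ha)
  have hyα : y • α ≠ α := fun hc => hy (MulAction.mem_stabilizer_iff.2 hc)
  set β := y • α with hβ
  have hBfix : ∀ b ∈ conjBy A y, b • β = β := by
    intro b hb
    rw [RankOne.mem_conjBy] at hb
    have := hfix _ hb
    rw [mul_smul, mul_smul, inv_smul_eq_iff] at this
    exact this
  have hBtrans : ∀ γ δ : Ω, γ ≠ β → δ ≠ β → ∃ b ∈ conjBy A y, b • γ = δ := by
    intro γ δ hγ hδ
    have h' : ∀ ε : Ω, ε ≠ β → y⁻¹ • ε ≠ α := fun ε hε hc => hε (inv_smul_eq_iff.1 hc)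
    obtain ⟨a, ⟨ha, he⟩, -⟩ := hreg _ _ (h' γ hγ) (h' δ hδ)
    refine ⟨y * a * y⁻¹, ?_, ?_⟩
    · rw [RankOne.mem_conjBy]; simpa [mul_assoc] using ha
    · rw [mul_smul, mul_smul, he, smul_inv_smul]
  have hfree : ∀ a ∈ A, ∀ γ : Ω, γ ≠ α → a • γ = γ → a = 1 := fun a ha γ hγ he =>
    (hreg γ γ hγ hγ).unique ⟨ha, he⟩ ⟨A.one_mem, one_smul Y γ⟩
  obtain ⟨γ, hγα, hγβ⟩ : ∃ γ : Ω, γ ≠ α ∧ γ ≠ β := by
    by_contra hc
    push Not at hc
    have hsub : (Set.univ : Set Ω) ⊆ {α, β} := fun x _ => by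
      by_cases hx : x = α
      · exact Or.inl hx
      · exact Or.inr (hc x hx)
    have h3 := hΩ.trans ((Set.encard_univ Ω).symm.le.trans (Set.encard_le_encard hsub))
    rw [Set.encard_pair hyα.symm] at h3
    exact absurd h3 (by norm_num)
  refine ⟨⟨?_, hnil, RankOne.isNilpotent_conjBy y hnil, ?_, ?_⟩, ?_⟩
  · intro hc
    obtain ⟨b, hb, hbe⟩ := hBtrans α γ hyα.symm hγβ
    rw [← hc] at hb
    rw [hfix b hb] at hbe
    exact hγα hbe.symm
  · intro a ha ha1
    have hne : a⁻¹ • β ≠ β := fun hc => ha1 (inv_eq_one.1 (hfree _ (inv_mem ha) β hyα hc))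
    obtain ⟨b, hb, hbe⟩ := hBtrans α (a⁻¹ • β) hyα.symm hne
    refine ⟨b⁻¹, inv_mem hb, ?_, ?_⟩
    · intro hc
      rw [inv_eq_one] at hc
      rw [hc, one_smul] at hbe
      have h4 : a • α = β := by rw [hbe, smul_inv_smul]
      rw [hfix a ha] at h4
      exact hyα h4.symm
    · rw [inv_inv, RankOne.conjBy_mul]
      exact hwd _ _ (by rw [hbe, mul_smul])
  · intro b hb hb1
    have hne : b⁻¹ • α ≠ α := by
      intro hc
      apply hb1
      rw [RankOne.mem_conjBy] at hb
      have h4 : (y⁻¹ * b * y) • (y⁻¹ • α) = y⁻¹ • α := by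
        rw [mul_smul, mul_smul, smul_inv_smul]
        exact congrArg (fun ω => y⁻¹ • ω) (inv_smul_eq_iff.1 hc).symm
      have h5 := hfree _ hb _ (fun hc' => hyα (inv_smul_eq_iff.1 hc').symm) h4
      rwa [mul_eq_one_iff_eq_inv, inv_mul_eq_iff_eq_mul, mul_inv_cancel] at h5
    obtain ⟨a, ⟨ha, he⟩, -⟩ := hreg β (b⁻¹ • α) hyα hne
    refine ⟨a⁻¹, inv_mem ha, ?_, ?_⟩
    · intro hc
      rw [inv_eq_one] at hc
      rw [hc, one_smul] at he
      have h4 : b • β = α := by rw [he, smul_inv_smul]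
      rw [hBfix b hb] at h4
      exact hyα h4
    · rw [inv_inv, RankOne.conjBy_mul]
      exact hwd _ _ (by rw [mul_smul]; exact he)
  · refine le_antisymm ?_ (sup_le Subgroup.le_normalClosure ?_)
    · rw [Subgroup.normalClosure, Subgroup.closure_le]
      intro x hx
      obtain ⟨a, ha, hconj⟩ := Group.mem_conjugatesOfSet_iff.1 hx
      obtain ⟨g, rfl⟩ := isConj_iff.1 hconj
      have hmem : g * a * g⁻¹ ∈ conjBy A g := by
        rw [RankOne.mem_conjBy]; simpa [mul_assoc] using ha
      by_cases hg : g • α = α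
      · rw [hwd g 1 (by rw [hg, one_smul]), RankOne.conjBy_one] at hmem
        exact Subgroup.mem_sup_left hmem
      · obtain ⟨c, ⟨hc, hce⟩, -⟩ := hreg β (g • α) hyα hg
        rw [hwd g (c * y) (by rw [mul_smul]; exact hce.symm), RankOne.mem_conjBy] at hmem
        have h6 : c⁻¹ * (g * a * g⁻¹) * c ∈ conjBy A y := by
          rw [RankOne.mem_conjBy]; simpa [mul_assoc] using hmem
        have h7 := mul_mem (mul_mem (Subgroup.mem_sup_left (T := conjBy A y) hc)
          (Subgroup.mem_sup_right (S := A) h6)) (inv_mem (Subgroup.mem_sup_left (T := conjBy A y) hc))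
        simpa [mul_assoc] using h7
    · intro x hx
      rw [RankOne.mem_conjBy] at hx
      have := (Subgroup.normalClosure_normal (s := (A : Set Y))).conj_mem _
        (Subgroup.le_normalClosure hx) y
      simpa [mul_assoc] using this

end Cfsg.Agent.S5015
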