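import Cfsg.Statements.S5016
import Cfsg.Agent.Lib.RankOne
-- import your own Cfsg.Agent.* helpers here

set_option autoImplicit false
open Cfsg

namespace Cfsg.Agent.S5016

section Aux

variable {k : Type*} [Field k]

def lowT (x : k) : Matrix.SpecialLinearGroup (Fin 2) k :=
  ⟨!![1, 0; x, 1], by simp [Matrix.det_fin_two]⟩

def upT (x : k) : Matrix.SpecialLinearGroup (Fin 2) k :=
  ⟨!![1, x; 0, 1], by simp [Matrix.det_fin_two]⟩

@[simp] lemma coe_lowT (x : k) :
    ((lowT x : Matrix.SpecialLinearGroup (Fin 2) k) : Matrix (Fin 2) (Fin 2) k) = !![1, 0; x, 1] := rfl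

@[simp] lemma coe_upT (x : k) :
    ((upT x : Matrix.SpecialLinearGroup (Fin 2) k) : Matrix (Fin 2) (Fin 2) k) = !![1, x; 0, 1] := rfl

lemma lowT_mul (x y : k) : lowT x * lowT y = lowT (x + y) := by
  apply Subtype.ext; simp [Matrix.SpecialLinearGroup.coe_mul, Matrix.mul_fin_two]

lemma upT_mul (x y : k) : upT x * upT y = upT (x + y) := by
  apply Subtype.ext; simp [Matrix.SpecialLinearGroup.coe_mul, Matrix.mul_fin_two, add_comm]

lemma lowT_zero : lowT (0 : k) = 1 := by apply Subtype.ext; simp [lowT, Matrix.one_fin_two]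

lemma upT_zero : upT (0 : k) = 1 := by apply Subtype.ext; simp [upT, Matrix.one_fin_two]

lemma lowT_inv (x : k) : (lowT x)⁻¹ = lowT (-x) := by
  rw [inv_eq_iff_mul_eq_one, lowT_mul, add_neg_cancel, lowT_zero]

lemma upT_inv (x : k) : (upT x)⁻¹ = upT (-x) := by
  rw [inv_eq_iff_mul_eq_one, upT_mul, add_neg_cancel, upT_zero]

lemma mem_lower (g : Matrix.SpecialLinearGroup (Fin 2) k) :
    g ∈ Cfsg.lowerUnipotentSL2 k ↔ ∃ x, g = lowT x := by
  constructor
  · intro hg
    induction hg using Subgroup.closure_induction with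
    | mem g hg =>
      refine ⟨(g : Matrix (Fin 2) (Fin 2) k) 1 0, Subtype.ext ?_⟩
      obtain ⟨h1, h2, h3⟩ := hg
      ext i j; fin_cases i <;> fin_cases j <;> simp [lowT, h1, h2, h3]
    | one => exact ⟨0, lowT_zero.symm⟩
    | mul a b _ _ ha hb => obtain ⟨x, rfl⟩ := ha; obtain ⟨y, rfl⟩ := hb; exact ⟨x + y, lowT_mul x y⟩
    | inv a _ ha => obtain ⟨x, rfl⟩ := ha; exact ⟨-x, lowT_inv x⟩
  · rintro ⟨x, rfl⟩
    exact Subgroup.subset_closure ⟨by simp [lowT], by simp [lowT], by simp [lowT]⟩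

lemma mem_upper (g : Matrix.SpecialLinearGroup (Fin 2) k) :
    g ∈ Cfsg.upperUnipotentSL2 k ↔ ∃ x, g = upT x := by
  constructor
  · intro hg
    induction hg using Subgroup.closure_induction with
    | mem g hg =>
      refine ⟨(g : Matrix (Fin 2) (Fin 2) k) 0 1, Subtype.ext ?_⟩
      obtain ⟨h1, h2, h3⟩ := hg
      ext i j; fin_cases i <;> fin_cases j <;> simp [upT, h1, h2, h3]
    | one => exact ⟨0, upT_zero.symm⟩
    | mul a b _ _ ha hb => obtain ⟨x, rfl⟩ := ha; obtain ⟨y, rfl⟩ := hb; exact ⟨x + y, upT_mul x y⟩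
    | inv a _ ha => obtain ⟨x, rfl⟩ := ha; exact ⟨-x, upT_inv x⟩
  · rintro ⟨x, rfl⟩
    exact Subgroup.subset_closure ⟨by simp [upT], by simp [upT], by simp [upT]⟩

lemma swap_mul (x t : k) (hx : x ≠ 0) :
    lowT x * upT (-x⁻¹) * lowT t = upT (-t / (x * x)) * (lowT x * upT (-x⁻¹)) := by
  apply Subtype.ext
  simp [Matrix.SpecialLinearGroup.coe_mul, Matrix.mul_fin_two]
  all_goals field_simp
  all_goals simp

lemma conj_lower (x : k) (hx : x ≠ 0) :
    Cfsg.conjBy (Cfsg.lowerUnipotentSL2 k) (lowT x * upT (-x⁻¹)) = Cfsg.upperUnipotentSL2 k := by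
  ext g
  constructor
  · rintro ⟨a, ha, rfl⟩
    obtain ⟨t, rfl⟩ := (mem_lower a).1 ha
    refine (mem_upper _).2 ⟨-t / (x * x), ?_⟩
    simp only [MulEquiv.coe_toMonoidHom, MulAut.conj_apply]
    rw [swap_mul x t hx, mul_inv_cancel_right]
  · intro hg
    obtain ⟨s, rfl⟩ := (mem_upper g).1 hg
    refine ⟨lowT (-s * (x * x)), (mem_lower _).2 ⟨_, rfl⟩, ?_⟩
    simp only [MulEquiv.coe_toMonoidHom, MulAut.conj_apply]
    rw [swap_mul x _ hx, mul_inv_cancel_right]
    congr 1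
    field_simp

lemma cond_eq (x : k) (hx : x ≠ 0) :
    Cfsg.conjBy (Cfsg.lowerUnipotentSL2 k) (upT x⁻¹)⁻¹ =
      Cfsg.conjBy (Cfsg.upperUnipotentSL2 k) (lowT x)⁻¹ := by
  rw [← conj_lower x hx, RankOne.conjBy_mul, inv_mul_cancel_left, upT_inv]

lemma sl_generated (g : Matrix.SpecialLinearGroup (Fin 2) k)
    (hc : (g : Matrix (Fin 2) (Fin 2) k) 1 0 ≠ 0) :
    g ∈ Cfsg.lowerUnipotentSL2 k ⊔ Cfsg.upperUnipotentSL2 k := by
  set a := (g : Matrix (Fin 2) (Fin 2) k) 0 0 with ha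
  set b := (g : Matrix (Fin 2) (Fin 2) k) 0 1 with hb
  set c := (g : Matrix (Fin 2) (Fin 2) k) 1 0 with hcd
  set d := (g : Matrix (Fin 2) (Fin 2) k) 1 1 with hd
  have hdet : a * d - b * c = 1 := by
    rw [ha, hb, hcd, hd, ← Matrix.det_fin_two, g.det_coe]
  have he : g = upT ((a - 1) / c) * lowT c * upT ((d - 1) / c) := by
    apply Subtype.ext
    rw [Matrix.eta_fin_two (g : Matrix (Fin 2) (Fin 2) k)]
    rw [← ha, ← hb, ← hcd, ← hd]
    simp [Matrix.SpecialLinearGroup.coe_mul, Matrix.mul_fin_two]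
    all_goals field_simp
    all_goals grind
  rw [he]
  exact mul_mem (mul_mem (Subgroup.mem_sup_right ((mem_upper _).2 ⟨_, rfl⟩))
    (Subgroup.mem_sup_left ((mem_lower _).2 ⟨_, rfl⟩))) (Subgroup.mem_sup_right ((mem_upper _).2 ⟨_, rfl⟩))

end Aux

/-- For any field k, the special linear group SL₂(k) is a special rank one group with abelian unipotent subgroups, the unipotent subgroups being the group of lower unitriangular matrices and the group of upper unitriangular matrices. -/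
theorem result (k : Type*) [Field k] :
    Cfsg.IsRankOneGroup (Matrix.SpecialLinearGroup (Fin 2) k) (Cfsg.lowerUnipotentSL2 k) (Cfsg.upperUnipotentSL2 k) ∧
    Cfsg.IsSpecialRankOnePair (Cfsg.lowerUnipotentSL2 k) (Cfsg.upperUnipotentSL2 k) ∧
    Cfsg.HasAbelianUnipotents (Cfsg.lowerUnipotentSL2 k) (Cfsg.upperUnipotentSL2 k) := by
  have hlab : IsMulCommutative (Cfsg.lowerUnipotentSL2 k) := ⟨⟨fun a b => by
    obtain ⟨x, hx⟩ := (mem_lower _).1 a.2
    obtain ⟨y, hy⟩ := (mem_lower _).1 b.2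
    apply Subtype.ext
    rw [Subgroup.coe_mul, Subgroup.coe_mul, hx, hy, lowT_mul, lowT_mul, add_comm]⟩⟩
  have huab : IsMulCommutative (Cfsg.upperUnipotentSL2 k) := ⟨⟨fun a b => by
    obtain ⟨x, hx⟩ := (mem_upper _).1 a.2
    obtain ⟨y, hy⟩ := (mem_upper _).1 b.2
    apply Subtype.ext
    rw [Subgroup.coe_mul, Subgroup.coe_mul, hx, hy, upT_mul, upT_mul, add_comm]⟩⟩
  have hnil : ∀ H : Subgroup (Matrix.SpecialLinearGroup (Fin 2) k), IsMulCommutative H → Group.IsNilpotent H :=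
    fun H hH => @CommGroup.isNilpotent H { (inferInstance : Group H) with mul_comm := hH.is_comm.comm }
  have hp : Cfsg.IsRankOnePair (Cfsg.lowerUnipotentSL2 k) (Cfsg.upperUnipotentSL2 k) := by
    refine ⟨?_, hnil _ hlab, hnil _ huab, ?_, ?_⟩
    · intro he
      have h1 : lowT (1 : k) ∈ Cfsg.upperUnipotentSL2 k := he ▸ (mem_lower _).2 ⟨1, rfl⟩
      obtain ⟨s, hs⟩ := (mem_upper _).1 h1
      have := congrArg (fun g : Matrix.SpecialLinearGroup (Fin 2) k => (g : Matrix (Fin 2) (Fin 2) k) 1 0) hs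
      simp [lowT, upT] at this
    · intro a ha ha1
      obtain ⟨x, rfl⟩ := (mem_lower _).1 ha
      have hx : x ≠ 0 := fun h0 => ha1 (by rw [h0, lowT_zero])
      refine ⟨upT x⁻¹, (mem_upper _).2 ⟨_, rfl⟩, ?_, cond_eq x hx⟩
      intro h1
      have := congrArg (fun g : Matrix.SpecialLinearGroup (Fin 2) k => (g : Matrix (Fin 2) (Fin 2) k) 0 1) h1
      simp [upT, hx] at this
    · intro b hb hb1
      obtain ⟨y, rfl⟩ := (mem_upper _).1 hb
      have hy : y ≠ 0 := fun h0 => hb1 (by rw [h0, upT_zero])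
      refine ⟨lowT y⁻¹, (mem_lower _).2 ⟨_, rfl⟩, ?_, ?_⟩
      · intro h1
        have := congrArg (fun g : Matrix.SpecialLinearGroup (Fin 2) k => (g : Matrix (Fin 2) (Fin 2) k) 1 0) h1
        simp [lowT, hy] at this
      · have := cond_eq y⁻¹ (inv_ne_zero hy)
        rw [inv_inv] at this
        exact this.symm
  refine ⟨⟨?_, hp⟩, ⟨hp, ?_⟩, hlab, huab⟩
  · rw [eq_top_iff]
    intro g _
    by_cases hc : (g : Matrix (Fin 2) (Fin 2) k) 1 0 = 0
    · have hd : (g : Matrix (Fin 2) (Fin 2) k) 1 1 ≠ 0 := by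
        intro hd
        have := g.det_coe
        rw [Matrix.det_fin_two, hc, hd] at this
        simp at this
      have h1 : g * lowT 1 ∈ Cfsg.lowerUnipotentSL2 k ⊔ Cfsg.upperUnipotentSL2 k := sl_generated _ (by
        rw [Matrix.SpecialLinearGroup.coe_mul]
        simp [lowT, Matrix.mul_apply, Fin.sum_univ_two, hc, hd])
      have h2 := mul_mem h1 (inv_mem (Subgroup.mem_sup_left (T := Cfsg.upperUnipotentSL2 k)
        ((mem_lower (lowT (1 : k))).2 ⟨1, rfl⟩)))
      rwa [mul_inv_cancel_right] at h2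
    · exact sl_generated g hc
  · intro a ha ha1 b hb hb1 he
    obtain ⟨x, rfl⟩ := (mem_lower _).1 ha
    have hx : x ≠ 0 := fun h0 => ha1 (by rw [h0, lowT_zero])
    rw [RankOne.partner_unique hp hb ((mem_upper _).2 ⟨x⁻¹, rfl⟩) (he.trans (cond_eq x hx).symm)]
    rw [upT_inv, lowT_inv]
    apply Subtype.ext
    simp [Matrix.SpecialLinearGroup.coe_mul, Matrix.mul_fin_two]
    all_goals field_simp
    all_goals grind

end Cfsg.Agent.S5016
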