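import Cfsg.Statements.S5017
import Cfsg.Agent.Lib.RankOne
-- import your own Cfsg.Agent.* helpers here

set_option autoImplicit false
open Cfsg

namespace Cfsg.Agent.S5017

/-- Let X be a rank one group with unipotent subgroups A and B and N a normal subgroup of X. Then either X = N A or N lies in the centre of X. Consequently a perfect rank one group is quasisimple. -/
theorem result {X : Type*} [Group X] {A B : Subgroup X} (h : Cfsg.IsRankOneGroup X A B) :
    (∀ N : Subgroup X, N.Normal → N ⊔ A = ⊤ ∨ N ≤ Subgroup.center X) ∧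
    (Group.IsPerfect X → Cfsg.IsQuasisimple X) := by
  obtain ⟨htop, hp⟩ := h
  have hd : ∀ N : Subgroup X, N.Normal → N ⊔ A = ⊤ ∨ N ≤ Subgroup.center X := by
    intro N hN
    have hconj : ∀ x : X, conjBy N x = N := fun x =>
      RankOne.conjBy_eq_self_iff.2 (by rw [Subgroup.normalizer_eq_top]; trivial)
    rcases RankOne.normal_dichotomy hp (fun x _ => hconj x) (htop.symm ▸ le_top) with h1 | h1
    · left; rw [htop] at h1; exact top_le_iff.1 h1
    · right
      intro n hn
      exact Subgroup.mem_center_iff.2 fun x => (h1 n hn x (htop.symm ▸ Subgroup.mem_top x)).symm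
  refine ⟨hd, fun hperf => ⟨hperf, ?_⟩⟩
  have hnil := hp.nilpotent_left
  have key : ∀ N : Subgroup X, N.Normal → N ⊔ A = ⊤ → N = ⊤ := by
    intro N hN hNA
    have hsurj : Function.Surjective ((QuotientGroup.mk' N).comp A.subtype) := by
      intro q
      obtain ⟨x, rfl⟩ := QuotientGroup.mk'_surjective N q
      obtain ⟨n, hn, a, ha, rfl⟩ := Subgroup.mem_sup_of_normal_left.1 (hNA.symm ▸ Subgroup.mem_top x)
      refine ⟨⟨a, ha⟩, ?_⟩
      simp [(QuotientGroup.eq_one_iff n).2 hn]
    haveI hq : Group.IsNilpotent (X ⧸ N) := Group.nilpotent_of_surjective _ hsurj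
    obtain ⟨n, hn⟩ := Subgroup.nilpotent_iff_lowerCentralSeries.1 hq
    have hcomm : commutator (X ⧸ N) = ⊤ := by
      rw [commutator_def, ← Subgroup.map_top_of_surjective (QuotientGroup.mk' N)
        (QuotientGroup.mk'_surjective N), ← Subgroup.map_commutator, ← commutator_def,
        hperf.commutator_eq_top]
    have hall : ∀ k, Subgroup.lowerCentralSeries (⊤ : Subgroup (X ⧸ N)) k = ⊤ := by
      intro k
      induction k with
      | zero => exact Subgroup.lowerCentralSeries_zero _
      | succ k ih => rw [Subgroup.lowerCentralSeries_succ, ih, ← commutator_def, hcomm]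
    rw [hall n] at hn
    rw [eq_top_iff]
    intro x _
    exact (QuotientGroup.eq_one_iff x).1
      (Subgroup.mem_bot.1 (hn ▸ Subgroup.mem_top (QuotientGroup.mk' N x)))
  haveI : Nontrivial (X ⧸ Subgroup.center X) := by
    rw [QuotientGroup.nontrivial_iff]
    intro hc
    refine RankOne.not_le_normalizer hp fun x _ => ?_
    have hxc : x ∈ Subgroup.center X := hc ▸ Subgroup.mem_top x
    exact Subgroup.center_le_normalizer _ hxc
  refine ⟨fun H hH => ?_⟩
  have hmap : (H.comap (QuotientGroup.mk' (Subgroup.center X))).map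
      (QuotientGroup.mk' (Subgroup.center X)) = H :=
    Subgroup.map_comap_eq_self_of_surjective (QuotientGroup.mk'_surjective _) H
  rcases hd _ (hH.comap (QuotientGroup.mk' (Subgroup.center X))) with h1 | h1
  · right
    rw [← hmap, key _ (hH.comap _) h1]
    exact Subgroup.map_top_of_surjective _ (QuotientGroup.mk'_surjective _)
  · left
    rw [← hmap, Subgroup.map_eq_bot_iff, QuotientGroup.ker_mk']
    exact h1

end Cfsg.Agent.S5017
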