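import Cfsg.Statements.S5018
import Cfsg.Agent.Lib.RankOne
-- import your own Cfsg.Agent.* helpers here

set_option autoImplicit false
open Cfsg

namespace Cfsg.Agent.S5018

/-- A rank one group is not nilpotent, and its second centre equals its centre. -/
theorem result {X : Type*} [Group X] {A B : Subgroup X} (h : Cfsg.IsRankOneGroup X A B) :
    Subgroup.upperCentralSeries X 2 = Subgroup.center X ∧ ¬ Group.IsNilpotent X := by
  obtain ⟨htop, hp⟩ := h
  have hgen : ∀ k, A ⊔ Subgroup.upperCentralSeries X k = ⊤ → A = ⊤ := by
    intro k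
    induction k with
    | zero => intro h1; rwa [Subgroup.upperCentralSeries_zero, sup_bot_eq] at h1
    | succ k ih =>
      intro h1
      apply ih
      set K := A ⊔ Subgroup.upperCentralSeries X k with hK
      have hnorm : Subgroup.upperCentralSeries X (k + 1) ≤ Subgroup.normalizer (K : Set X) := by
        intro z hz
        rw [← RankOne.conjBy_eq_self_iff]
        have hsub : ∀ z ∈ Subgroup.upperCentralSeries X (k + 1), conjBy K z ≤ K := by
          intro z hz x hx
          rw [RankOne.mem_conjBy] at hx
          have h2 := (Subgroup.mem_upperCentralSeries_succ_iff.1 hz) (z⁻¹ * x * z)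
          have h4 := mul_mem ((le_sup_right : _ ≤ K) h2) hx
          simpa [mul_assoc, commutatorElement_def] using h4
        refine le_antisymm (hsub z hz) ?_
        intro x hx
        have h5 := hsub z⁻¹ (inv_mem hz) (RankOne.mem_conjBy.2 (show z⁻¹⁻¹ * (z⁻¹ * x * z) * z⁻¹ ∈ K by
          simpa [mul_assoc] using hx))
        exact RankOne.mem_conjBy.2 h5
      have hle : (⊤ : Subgroup X) ≤ Subgroup.normalizer (K : Set X) := by
        rw [← h1]
        exact sup_le (le_sup_left.trans Subgroup.le_normalizer) hnorm
      haveI hKn : K.Normal := Subgroup.normalizer_eq_top_iff.1 (top_le_iff.1 hle)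
      have hconj : ∀ x : X, conjBy K x = K := fun x =>
        RankOne.conjBy_eq_self_iff.2 (hle (Subgroup.mem_top x))
      rw [eq_top_iff, ← htop]
      refine sup_le le_sup_left ?_
      obtain ⟨x, -, hx⟩ := RankOne.right_mem_unipotents hp
      rw [hx, ← hconj x]
      exact Subgroup.map_mono le_sup_left
  have hAne : A ≠ ⊤ := fun hA => RankOne.not_le_normalizer hp
    (fun x _ => Subgroup.le_normalizer (hA.symm ▸ Subgroup.mem_top x))
  have hnn : ¬ Group.IsNilpotent X := by
    intro hn
    obtain ⟨n, hn'⟩ := hn.nilpotent'
    exact hAne (hgen n (by rw [hn', sup_top_eq]))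
  refine ⟨le_antisymm ?_ ?_, hnn⟩
  · have hnorm : (Subgroup.upperCentralSeries X 2).Normal := inferInstance
    rcases RankOne.normal_dichotomy hp (N := Subgroup.upperCentralSeries X 2)
      (fun x _ => RankOne.conjBy_eq_self_iff.2 (by rw [Subgroup.normalizer_eq_top]; trivial))
      (htop.symm ▸ le_top) with h1 | h1
    · exact absurd (hgen 2 (top_le_iff.1 (by rw [sup_comm, ← htop]; exact h1))) hAne
    · intro z hz
      exact Subgroup.mem_center_iff.2 fun x => (h1 z hz x (htop.symm ▸ Subgroup.mem_top x)).symm
  · rw [← Subgroup.upperCentralSeries_one]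
    exact Subgroup.upperCentralSeries_mono X (by omega)

end Cfsg.Agent.S5018
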