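import Cfsg.Statements.S5019
import Cfsg.Agent.Lib.RankOneQuad
-- import your own Cfsg.Agent.* helpers here

set_option autoImplicit false
open Cfsg

namespace Cfsg.Agent.S5019

/-- Let X be a rank one group with abelian unipotent subgroups A and B, and suppose X acts on an abelian group N (written additively) in such a way that A acts quadratically, meaning a' • (a • n − n) = a • n − n for all a, a' in A and n in N, while X as a whole does not: y • (x • n − n) ≠ x • n − n for some x, y in X and n in N. Then X is a special rank one group. -/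
theorem result {X : Type*} [Group X] {A B : Subgroup X} (h : Cfsg.IsRankOneGroup X A B)
    (hab : Cfsg.HasAbelianUnipotents A B) {N : Type*} [AddCommGroup N] [DistribMulAction X N]
    (hq : ∀ a ∈ A, ∀ a' ∈ A, ∀ n : N, a' • (a • n - n) = a • n - n)
    (hX : ∃ x y : X, ∃ n : N, y • (x • n - n) ≠ x • n - n) : Cfsg.IsSpecialRankOnePair A B := by
  refine ⟨h.2, fun a ha _ b hb _ he => ?_⟩
  have hqB := RankOneQuad.isQuad_right h hq
  have hu : a * b⁻¹ * a * b * a⁻¹ * b ∈ B := by
    have h3 : b⁻¹ * a * b ∈ conjBy A b⁻¹ := by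
      rw [RankOne.mem_conjBy]; simpa [mul_assoc] using ha
    rw [he, RankOne.mem_conjBy, inv_inv] at h3
    simpa [mul_assoc] using mul_mem h3 hb
  suffices hu1 : a * b⁻¹ * a * b * a⁻¹ * b = 1 by
    calc b⁻¹ * a * b = a⁻¹ * (a * b⁻¹ * a * b * a⁻¹ * b) * b⁻¹ * a := by group
      _ = a⁻¹ * b⁻¹ * a := by rw [hu1]; group
  refine RankOne.eq_one_of_normalizes (RankOnePair_symm h.2) hu (RankOne.conjBy_eq_self_iff.2
    (Subgroup.center_le_normalizer _ (RankOneQuad.kernel_central h hq hX fun m hm => ?_)))
  -- it suffices to treat `[N,A]` and `[N,B]`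
  set u := a * b⁻¹ * a * b * a⁻¹ * b with hudef
  obtain ⟨p, hp, q, hqm, rfl⟩ := AddSubgroup.mem_sup.1 hm
  have fix := fun (x : X) (z : N) (hz : z ∈ RankOneQuad.meetSub N A B) => RankOneQuad.fixed_meet h hq x hz
  have hA : u • p - p ∈ RankOneQuad.meetSub N A B := by
    have hwB := RankOneQuad.sub_mem_commSub (N := N) hb p
    set w := b • p - p with hw
    obtain ⟨z, hz, hdef⟩ : ∃ z ∈ RankOneQuad.meetSub N A B, a • w - w = p + z :=
      ⟨_, RankOneQuad.partner_identity h hq hb ha he hp, by rw [← hw]; abel⟩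
    have hap : ∀ a' ∈ A, a' • p = p := fun a' ha' => RankOneQuad.fixed_commSub hq ha' hp
    have s1 : b • p = p + w := by rw [hw]; abel
    have s4 : a • w = p + w + z := by
      have h9 := sub_eq_iff_eq_add.1 hdef
      rw [h9]; abel
    have s2 : a⁻¹ • (p + w) = w - z := by
      rw [inv_smul_eq_iff, smul_sub, s4, fix a z hz]; abel
    have hbw : b • w = w := RankOneQuad.fixed_commSub hqB hb hwB
    have s3 : b • (w - z) = w - z := by rw [smul_sub, hbw, fix b z hz]
    have s4' : a • (w - z) = p + w := by rw [smul_sub, s4, fix a z hz]; abel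
    have s5 : b⁻¹ • (p + w) = p := by rw [inv_smul_eq_iff, s1]
    rw [hudef, mul_smul, mul_smul, mul_smul, mul_smul, mul_smul, s1, s2, s3, s4', s5, hap a ha, sub_self]
    exact zero_mem _
  have hB : u • q - q ∈ RankOneQuad.meetSub N A B := by
    have hq2 : RankOneQuad.IsQuad N B := hqB
    have hvA := RankOneQuad.sub_mem_commSub (N := N) ha q
    set v := a • q - q with hv
    obtain ⟨z, hz, hdef⟩ : ∃ z ∈ RankOneQuad.meetSub N A B, b • v - v = q + z := by
      refine ⟨b • v - v - q, ?_, by abel⟩
      have := RankOneQuad.partner_identity (RankOneQuad.isRankOneGroup_symm h) hq2 (a := b) (b := a)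
        ha hb he.symm hqm
      rw [← hv] at this
      exact ⟨this.2, this.1⟩
    have hbq : b • q = q := RankOneQuad.fixed_commSub hqB hb hqm
    have hav : a • v = v := RankOneQuad.fixed_commSub hq ha hvA
    have s0 : a • q = q + v := by rw [hv]; abel
    have s1 : a⁻¹ • q = q - v := by rw [inv_smul_eq_iff, smul_sub, s0, hav]; abel
    have s2 : b • (q - v) = -v - z := by
      rw [smul_sub, hbq, sub_eq_iff_eq_add.1 hdef]; abel
    have s3 : a • (-v - z) = -v - z := by rw [smul_sub, smul_neg, hav, fix a z hz]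
    have s4 : b⁻¹ • (-v - z) = q - v := by rw [inv_smul_eq_iff, s2]
    have s5 : a • (q - v) = q := by rw [smul_sub, s0, hav]; abel
    rw [hudef, mul_smul, mul_smul, mul_smul, mul_smul, mul_smul, hbq, s1, s2, s3, s4, s5, sub_self]
    exact zero_mem _
  rw [smul_add, add_sub_add_comm]
  exact add_mem hA hB

end Cfsg.Agent.S5019
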