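import Cfsg.Statements.S5020
import Cfsg.Agent.Lib.RankOneSL2
import Cfsg.Agent.Lib.RootSubQuasi
import Cfsg.Agent.Lib.ComponentsBasic
-- import your own Cfsg.Agent.* helpers here

set_option autoImplicit false
open Cfsg

namespace Cfsg.Agent.S5020

/-- Let X be a special rank one group with abelian unipotent subgroups A and B, and H = N(A) ∩ N(B) its diagonal subgroup. Then either A has at most three elements and X is isomorphic to SL₂(2), SL₂(3) or PSL₂(3); or X = X' A with the commutator subgroup X' quasisimple and the commutator subgroup ⁅A, H⁆ having more than three elements. -/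
theorem result {X : Type*} [Group X] {A B : Subgroup X} (h : Cfsg.IsRankOneGroup X A B)
    (hs : Cfsg.IsSpecialRankOnePair A B) (hab : Cfsg.HasAbelianUnipotents A B) :
    (ENat.card A ≤ 3 ∧ (Nonempty (X ≃* Matrix.SpecialLinearGroup (Fin 2) (ZMod 2)) ∨
        Nonempty (X ≃* Matrix.SpecialLinearGroup (Fin 2) (ZMod 3)) ∨
        Nonempty (X ≃* Matrix.ProjectiveSpecialLinearGroup (Fin 2) (ZMod 3)))) ∨
    (commutator X ⊔ A = ⊤ ∧ Cfsg.IsQuasisimple (commutator X) ∧
      3 < ENat.card ↥(⁅A, Cfsg.rankOneDiagonal A B⁆ : Subgroup X)) := by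
  by_cases hcard : 3 < ENat.card A
  · refine Or.inr ?_
    have hperf : commutator X = ⊤ := by
      rw [eq_top_iff, commutator_def]
      have := RankOnePerfect.sup_le_commutator hs hab.1 hcard
      rwa [h.1] at this
    refine ⟨by rw [hperf, top_sup_eq], ?_, ?_⟩
    · haveI : Nontrivial X := by
        obtain ⟨a, -, ha⟩ := (Subgroup.bot_or_exists_ne_one A).resolve_left (RankOne.left_ne_bot h.2)
        exact nontrivial_of_ne a 1 ha
      rw [hperf]
      refine ComponentsBasic.isQuasisimple_of_mulEquiv Subgroup.topEquiv.symm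
        (ComponentsBasic.isQuasisimple_of_normal_le_center ⟨hperf⟩ inferInstance fun N hN => ?_)
      have hN' : ∀ x ∈ A ⊔ B, conjBy N x = N := fun x _ =>
        RankOne.conjBy_eq_self_iff.2 (by simp [Subgroup.normalizer_eq_top])
      rcases RankOne.normal_dichotomy h.2 hN' (h.1.symm ▸ le_top) with h1 | h1
      · refine Or.inr ?_
        rw [h.1, top_le_iff] at h1
        rw [eq_top_iff, ← hperf, commutator_def, ← h1]
        exact RootSubQuasi.com_le (RankOne.commutator_eq_bot_of_comm fun x hx y hy =>
          congrArg Subtype.val (hab.1.is_comm.comm ⟨x, hx⟩ ⟨y, hy⟩))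
      · refine Or.inl fun n hn => Subgroup.mem_center_iff.2 fun g => ?_
        exact (h1 n hn g (h.1.symm ▸ Subgroup.mem_top g)).symm
    · exact lt_of_lt_of_le hcard (ENat.card_le_card_of_injective
        (Subgroup.inclusion_injective (RankOnePerfect.le_commutator_diag hs hab.1 hcard)))
  refine Or.inl ⟨not_lt.1 hcard, ?_⟩
  have hA0 := RankOne.left_ne_bot h.2
  haveI : Finite A := ENat.card_lt_top.1 (lt_of_le_of_lt (not_lt.1 hcard) (ENat.natCast_lt_top 3))
  have hA3 : Nat.card A ≤ 3 := by
    have := not_lt.1 hcard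
    rw [ENat.card_eq_coe_natCard] at this
    exact_mod_cast this
  haveI : Nontrivial A := (Subgroup.nontrivial_iff_ne_bot A).2 hA0
  have hA2 : 1 < Nat.card A := Finite.one_lt_card
  have hprime : (Nat.card A).Prime := by interval_cases (Nat.card A) <;> norm_num
  haveI : Fact (Nat.card A).Prime := ⟨hprime⟩
  have helem : IsElementaryAbelian (Nat.card A) A := ⟨hab.1, fun a ha => by
    have := congrArg Subtype.val (pow_card_eq_one' (x := (⟨a, ha⟩ : A)))
    exact (SubmonoidClass.coe_pow _ _).symm.trans this⟩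
  obtain ⟨a, ha, ha1⟩ := (Subgroup.bot_or_exists_ne_one A).resolve_left hA0
  obtain ⟨b, hp⟩ := RankOneSpecial.exists_partner' h.2 ha ha1
  have hgen : ∀ (C : Subgroup X), Nat.card C = Nat.card A → ∀ c ∈ C, c ≠ 1 → Subgroup.zpowers c = C := by
    intro C hC c hc hc1
    haveI : Finite C := Nat.finite_of_card_ne_zero (by rw [hC]; omega)
    refine Subgroup.eq_of_le_of_card_ge (by rwa [Subgroup.zpowers_le]) ?_
    rw [Nat.card_zpowers, hC]
    refine le_of_eq (orderOf_eq_prime ?_ hc1).symm
    have := congrArg Subtype.val (pow_card_eq_one' (x := (⟨c, hc⟩ : C)))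
    rw [← hC]; exact (SubmonoidClass.coe_pow _ _).symm.trans this
  have hBcard : Nat.card B = Nat.card A := by
    obtain ⟨x, -, hx⟩ := RankOne.right_mem_unipotents h.2
    rw [hx]
    exact (Nat.card_congr (A.equivMapOfInjective _ (MulAut.conj x).injective).toEquiv).symm
  have htop : Subgroup.closure ({a, b} : Set X) = ⊤ := by
    rw [eq_top_iff, ← h.1, ← hgen A rfl a ha ha1, ← hgen B hBcard b hp.mem_right hp.right_ne]
    refine sup_le ?_ ?_ <;> rw [Subgroup.zpowers_le] <;> apply Subgroup.subset_closure <;> simp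
  have key : ∀ (q : ℕ) (_ : Fact q.Prime), IsElementaryAbelian q A →
      Nonempty (X ≃* Matrix.SpecialLinearGroup (Fin 2) (ZMod q)) ∨
      Nonempty (X ≃* Matrix.ProjectiveSpecialLinearGroup (Fin 2) (ZMod q)) := by
    intro q _ hq
    let e : X ≃* ↥(Subgroup.closure ({a, b} : Set X)) :=
      Subgroup.topEquiv.symm.trans (MulEquiv.subgroupCongr htop.symm)
    rcases RankOneSL2.closure_pair_iso hs hq hp with he | he
    · exact Or.inl (he.map fun e' => e.trans e')
    · exact Or.inr (he.map fun e' => e.trans e')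
  rcases (show Nat.card A = 2 ∨ Nat.card A = 3 by omega) with hc | hc
  · rw [hc] at helem
    rcases key 2 ⟨Nat.prime_two⟩ helem with he | he
    · exact Or.inl he
    · haveI : Fact (Nat.Prime 2) := ⟨Nat.prime_two⟩
      have hbot : Subgroup.center (Matrix.SpecialLinearGroup (Fin 2) (ZMod 2)) = ⊥ := by
        rw [eq_bot_iff]
        intro z hz
        obtain ⟨r, hr, hrz⟩ := Matrix.SpecialLinearGroup.mem_center_iff.1 hz
        have hr1 : r = 1 := by
          rw [Fintype.card_fin, sq_eq_one_iff, ZMod.neg_eq_self_mod_two] at hr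
          exact hr.elim id id
        exact Subgroup.mem_bot.2 (Subtype.ext (by rw [← hrz, hr1]; simp))
      exact Or.inl (he.map fun e => e.trans ((QuotientGroup.quotientMulEquivOfEq hbot).trans QuotientGroup.quotientBot))
  · rw [hc] at helem
    rcases key 3 ⟨Nat.prime_three⟩ helem with he | he
    · exact Or.inr (Or.inl he)
    · exact Or.inr (Or.inr he)

end Cfsg.Agent.S5020
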