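import Cfsg.Statements.S5021
import Cfsg.Agent.Lib.RankOneSpecial
-- import your own Cfsg.Agent.* helpers here

set_option autoImplicit false
open Cfsg

namespace Cfsg.Agent.S5021

/-- In a special rank one group with abelian unipotent subgroups A and B, either A is an elementary abelian p-group for some prime p, or A is torsion-free and divisible (every element of A has an n-th root in A for every positive n). -/
theorem result {X : Type*} [Group X] {A B : Subgroup X} (h : Cfsg.IsRankOneGroup X A B)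
    (hs : Cfsg.IsSpecialRankOnePair A B) (hab : Cfsg.HasAbelianUnipotents A B) :
    (∃ p : ℕ, p.Prime ∧ Cfsg.IsElementaryAbelian p A) ∨
    ((∀ a ∈ A, a ≠ 1 → ¬ IsOfFinOrder a) ∧ ∀ a ∈ A, ∀ n : ℕ, 0 < n → ∃ c ∈ A, c ^ n = a) := by
  classical
  by_cases htor : ∃ j, 0 < j ∧ ∃ x ∈ A, x ≠ 1 ∧ x ^ j = 1
  · left
    set p := Nat.find htor with hpdef
    obtain ⟨hp0, z, hz, hz1, hzp⟩ := Nat.find_spec htor
    rw [← hpdef] at hp0 hzp
    have hmin : ∀ j, 0 < j → j < p → ∀ x ∈ A, x ≠ 1 → x ^ j ≠ 1 := fun j h1 h2 x hx hx1 h0 =>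
      Nat.find_min htor h2 ⟨h1, x, hx, hx1, h0⟩
    have hp1 : 1 < p := by
      rcases Nat.lt_or_ge 1 p with h1 | h1
      · exact h1
      · exact absurd (by rwa [show p = 1 by omega, pow_one] at hzp) hz1
    have hprime : p.Prime := by
      rw [Nat.prime_def_lt]
      refine ⟨hp1, fun m hm hdvd => ?_⟩
      by_contra hm1
      obtain ⟨l, hl⟩ := hdvd
      have hm0 : 0 < m := Nat.pos_of_ne_zero fun h0 => by rw [h0] at hl; omega
      have hl0 : 0 < l := Nat.pos_of_ne_zero fun h0 => by rw [h0] at hl; omega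
      have hllt : l < p := by
        rw [hl]
        exact lt_mul_of_one_lt_left hl0 (by omega)
      by_cases hzm : z ^ m = 1
      · exact hmin m hm0 hm z hz hz1 hzm
      · exact hmin l hl0 hllt (z ^ m) (pow_mem hz m) hzm (by rw [← pow_mul, ← hl]; exact hzp)
    refine ⟨p, hprime, hab.1, fun x hx => ?_⟩
    by_contra hxp
    obtain ⟨hP, -⟩ := RankOneSpecial.powerLaw hs p (by omega) hmin
    have hxz : (x * z) ^ p = x ^ p := by
      have hc : Commute x z := by
        have := hab.1.is_comm.comm (⟨x, hx⟩ : A) ⟨z, hz⟩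
        exact congrArg Subtype.val this
      rw [hc.mul_pow, hzp, mul_one]
    have hx1 : x ≠ 1 := fun h0 => hxp (by rw [h0, one_pow])
    have hxz1 : x * z ≠ 1 := fun h0 => hxp (by rw [← hxz, h0, one_pow])
    obtain ⟨b, hb⟩ := RankOneSpecial.exists_partner' h.2 hx hx1
    obtain ⟨b', hb'⟩ := RankOneSpecial.exists_partner' h.2 (mul_mem hx hz) hxz1
    obtain ⟨d, hd⟩ := RankOneSpecial.exists_partner' h.2 (pow_mem hx p) hxp
    have e1 := hP x b d hb hxp hd
    have e2 := hP (x * z) b' d hb' (hxz.symm ▸ hxp) (hxz.symm ▸ hd)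
    rw [← e2, e1] at hb'
    exact hz1 (mul_eq_left.1 (hb'.unique_left h.2 hb))
  · right
    push Not at htor
    refine ⟨fun a ha ha1 hfin => ?_, fun a ha n hn => ?_⟩
    · obtain ⟨j, hj, hje⟩ := isOfFinOrder_iff_pow_eq_one.1 hfin
      exact htor j hj a ha ha1 hje
    · rcases eq_or_ne a 1 with rfl | ha1
      · exact ⟨1, one_mem A, one_pow n⟩
      obtain ⟨-, hQ⟩ := RankOneSpecial.powerLaw hs n hn (fun j hj _ x hx hx1 => htor j hj x hx hx1)
      obtain ⟨b, hb⟩ := RankOneSpecial.exists_partner' h.2 ha ha1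
      have hbn : b ^ n ≠ 1 := fun h0 =>
        htor n hn a ha ha1 ((RankOneSpecial.pow_eq_one_iff' hs hb n).2 h0)
      obtain ⟨r, hr⟩ := RankOneSpecial.exists_partner_right h.2 (pow_mem hb.mem_right n) hbn
      exact ⟨r, hr.mem_left, hQ b a r hb.symm hbn hr.symm⟩

end Cfsg.Agent.S5021
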