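import Cfsg.Statements.S5023
import Cfsg.Agent.Lib.RankOneQuad
-- import your own Cfsg.Agent.* helpers here

set_option autoImplicit false
open Cfsg

namespace Cfsg.Agent.S5023

/-- Let X be a rank one group with unipotent subgroups A and B that acts faithfully on an abelian group V (written additively) with A acting quadratically: a' • (a • v − v) = a • v − v for all a, a' in A and v in V. Then A is either torsion-free or an elementary abelian p-group for some prime p. -/
theorem result {X : Type*} [Group X] {A B : Subgroup X} (h : Cfsg.IsRankOneGroup X A B)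
    {V : Type*} [AddCommGroup V] [DistribMulAction X V] (hf : ∀ x : X, (∀ v : V, x • v = v) → x = 1)
    (hq : ∀ a ∈ A, ∀ a' ∈ A, ∀ v : V, a' • (a • v - v) = a • v - v) :
    (∀ a ∈ A, a ≠ 1 → ¬ IsOfFinOrder a) ∨ ∃ p : ℕ, p.Prime ∧ Cfsg.IsElementaryAbelian p A := by
  have hN : ∀ x : X, x ∈ A → ∀ y ∈ A, x * y = y * x := by
    intro x hx y hy
    have hkey : ∀ v : V, (x * y) • v = (y * x) • v := fun v =>
      sub_left_injective (by
        show (x * y) • v - v = (y * x) • v - v
        rw [RankOneQuad.quad_add hq hx hy, RankOneQuad.quad_add hq hy hx, add_comm])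
    exact inv_mul_eq_one.1 (hf _ fun v => by rw [mul_smul, inv_smul_eq_iff, hkey]) |>.symm.symm
  have hnq : ∃ x y : X, ∃ n : V, y • (x • n - n) ≠ x • n - n := by
    by_contra hc
    push Not at hc
    have hcomm : ∀ x y : X, x * y = y * x := by
      intro x y
      have hqT : RankOneQuad.IsQuad V (⊤ : Subgroup X) := fun a _ a' _ n => hc a a' n
      refine inv_mul_eq_one.1 (hf _ fun v => ?_)
      rw [mul_smul, inv_smul_eq_iff]
      refine sub_left_injective (show (y * x) • v - v = (x * y) • v - v from ?_)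
      rw [RankOneQuad.quad_add hqT (Subgroup.mem_top _) (Subgroup.mem_top _),
        RankOneQuad.quad_add hqT (Subgroup.mem_top _) (Subgroup.mem_top _), add_comm]
    refine RankOne.commutator_ne_bot h.2 (RankOne.commutator_eq_bot_of_comm fun a _ b _ => hcomm a b)
  by_cases htf : ∀ a ∈ A, a ≠ 1 → ¬ IsOfFinOrder a
  · exact Or.inl htf
  right
  push Not at htf
  obtain ⟨a, ha, ha1, hfin⟩ := htf
  obtain ⟨p, hp, hdvd⟩ := Nat.exists_prime_and_dvd (show orderOf a ≠ 1 by rwa [Ne, orderOf_eq_one_iff])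
  refine ⟨p, hp, ⟨⟨fun x y => Subtype.ext (hN x x.2 y y.2)⟩⟩, ?_⟩
  set a₀ := a ^ (orderOf a / p) with ha₀def
  have ha₀ : a₀ ∈ A := pow_mem ha _
  have ha₀p : orderOf a₀ = p := orderOf_pow_orderOf_div hfin.orderOf_pos.ne' hdvd
  have ha₀1 : a₀ ≠ 1 := fun h0 => hp.ne_one (by rw [← ha₀p, h0, orderOf_one])
  obtain ⟨b₀, hb₀, -, he⟩ := h.2.cond_left a₀ ha₀ ha₀1
  have fix := fun (x : X) (z : V) (hz : z ∈ RankOneQuad.meetSub V A B) => RankOneQuad.fixed_meet h hq x hz
  have hpU : ∀ u ∈ RankOneQuad.commSub V A, p • u ∈ RankOneQuad.meetSub V A B := by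
    intro u hu
    have h1 := RankOneQuad.partner_identity h hq hb₀ ha₀ he hu
    have h2 : p • (a₀ • (b₀ • u - u) - (b₀ • u - u)) = 0 := by
      rw [← RankOneQuad.quad_pow hq ha₀, ← ha₀p, pow_orderOf_eq_one, one_smul, sub_self]
    have h3 := AddSubgroup.nsmul_mem _ h1 p
    rw [smul_sub, h2, zero_sub] at h3
    simpa using neg_mem h3
  intro x hx
  have hc : x ^ p ∈ Subgroup.center X := by
    refine RankOneQuad.kernel_central h hq hnq fun m _ => ?_
    rw [RankOneQuad.quad_pow hq hx]
    exact hpU _ (RankOneQuad.sub_mem_commSub hx m)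
  exact RankOne.eq_one_of_normalizes h.2 (pow_mem hx p)
    (RankOne.conjBy_eq_self_iff.2 (Subgroup.center_le_normalizer _ hc))

end Cfsg.Agent.S5023
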