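import Cfsg.Statements.S5024
import Cfsg.Agent.Lib.RootSub
-- import your own Cfsg.Agent.* helpers here

set_option autoImplicit false
open Cfsg

namespace Cfsg.Agent.S5024

/-- Let S be a set of abstract root subgroups of G, A and C members of S, B a rank one partner of A in S and D a rank one partner of C in S. If the rank one group ⟨A, B⟩ is contained in ⟨C, D⟩ then the two coincide, and C and D are conjugates of A inside ⟨A, B⟩. -/
theorem result {G : Type*} [Group G] {S : Set (Subgroup G)} (hS : Cfsg.IsRootSubgroupSet S)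
    {A B C D : Subgroup G} (hA : A ∈ S) (hC : C ∈ S) (hB : B ∈ Cfsg.rankOnePartners S A) (hD : D ∈ Cfsg.rankOnePartners S C)
    (hle : A ⊔ B ≤ C ⊔ D) : A ⊔ B = C ⊔ D ∧ C ∈ Cfsg.unipotentSubgroups A B ∧ D ∈ Cfsg.unipotentSubgroups A B := by
  obtain ⟨hBS, hAB⟩ := hB
  obtain ⟨hDS, hCD⟩ := hD
  have key : ∀ {P Q : Subgroup G}, P ∈ S → IsRankOnePair P Q → P ≤ C ⊔ D → Q ≤ C ⊔ D →
      P ∈ unipotentSubgroups C D := by
    intro P Q hP hPQ hPle hQle
    refine (RootSub.mem_unipotents_of_le hS hP hC hDS hCD hPle).resolve_right fun hc => ?_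
    refine RankOne.commutator_ne_bot hPQ (le_bot_iff.1 ?_)
    rw [← hc]; exact Subgroup.commutator_mono le_rfl hQle
  have hAm := key hA hAB (le_sup_left.trans hle) (le_sup_right.trans hle)
  have hBm := key hBS (RankOnePair_symm hAB) (le_sup_right.trans hle) (le_sup_left.trans hle)
  have heq := RankOne.sup_eq_of_mem_unipotents hCD hAm hBm hAB.ne
  refine ⟨heq, ?_⟩
  obtain ⟨x, hx, hAx⟩ := hAm
  have hCm : C ∈ unipotentSubgroups A B :=
    ⟨x⁻¹, heq ▸ inv_mem hx, by rw [hAx, RankOne.conjBy_inv_conjBy]⟩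
  refine ⟨hCm, ?_⟩
  obtain ⟨y, hy, hDy⟩ := RankOne.right_mem_unipotents hCD
  rw [hDy]
  exact RankOne.conjBy_mem_unipotents hCm (heq ▸ hy)

end Cfsg.Agent.S5024
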