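import Cfsg.Statements.S5026
import Cfsg.Agent.Lib.RootSub
-- import your own Cfsg.Agent.* helpers here

set_option autoImplicit false
open Cfsg

namespace Cfsg.Agent.S5026

/-- Let S be a degenerate set of abstract root subgroups of G (a set of abstract transvection groups) and let a, b be commuting non-identity elements of members of S with a b ≠ 1. Then the members of S centralizing a b are exactly those centralizing both a and b. -/
theorem result {G : Type*} [Group G] {S : Set (Subgroup G)} (hS : Cfsg.IsRootSubgroupSet S) (hdeg : Cfsg.IsDegenerateRootSet S)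
    {a b : G} (ha : a ∈ Cfsg.rootElements S) (hb : b ∈ Cfsg.rootElements S) (hab : a * b = b * a) (hab1 : a * b ≠ 1) :
    Cfsg.centralizingMembers S (Subgroup.zpowers (a * b)) =
      Cfsg.centralizingMembers S (Subgroup.zpowers a) ∩ Cfsg.centralizingMembers S (Subgroup.zpowers b) := by
  obtain ⟨ha1, A, hA, haA⟩ := ha
  obtain ⟨hb1, B, hB, hbB⟩ := hb
  have hzc : ∀ {E : Subgroup G} {x : G}, E ≤ Subgroup.centralizer (Subgroup.zpowers x : Set G) ↔
      ∀ e ∈ E, e * x = x * e := by
    intro E x
    constructor
    · intro h e he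
      exact (Subgroup.mem_centralizer_iff.1 (h he) x (Subgroup.mem_zpowers x)).symm
    · intro h e he
      refine Subgroup.mem_centralizer_iff.2 fun y hy => ?_
      obtain ⟨n, rfl⟩ := Subgroup.mem_zpowers_iff.1 hy
      exact ((show Commute e x from h e he).zpow_right n).eq.symm
  ext E
  simp only [centralizingMembers, Set.mem_setOf_eq, Set.mem_inter_iff, hzc]
  constructor
  · rintro ⟨hE, hEab⟩
    suffices hh : ∀ e ∈ E, e * a = a * e from ⟨⟨hE, hh⟩, hE, fun e he => by
      have h2 := hEab e he
      rw [← mul_assoc, hh e he, mul_assoc, mul_assoc] at h2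
      exact mul_left_cancel h2⟩
    rcases eq_or_ne A B with hAB | hAB
    · have hc : ⁅A, E⁆ = ⊥ := RootSub.commute_of_elem hS hA hE
        (A.mul_mem haA (hAB ▸ hbB)) hab1 fun e he => (hEab e he).symm
      intro e he
      exact (RootSub.elem_comm hc haA he).symm
    have hABc : ⁅A, B⁆ = ⊥ := by
      rcases hS.pair A hA B hB with hc | hc | hc
      · exact hc
      · exfalso
        have hne : conjBy B a ≠ B := fun hh => ha1 (RankOne.eq_one_of_normalizes hc haA hh)
        have hbb : b ∈ conjBy B a := by
          rw [RankOne.mem_conjBy, mul_assoc, ← hab, inv_mul_cancel_left]; exact hbB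
        have h3 := RankOne.inf_eq_bot (RankOne.isRankOnePair_of_mem_unipotents hc
          (RankOne.conjBy_mem_unipotents (RankOne.right_mem_unipotents hc) (Subgroup.mem_sup_left haA))
          (RankOne.right_mem_unipotents hc) hne)
        exact hb1 (Subgroup.mem_bot.1 (h3 ▸ Subgroup.mem_inf.2 ⟨hbb, hbB⟩))
      · exact absurd hc (hdeg A hA B hB)
    by_contra hh
    have hEa : IsRankOnePair E A := by
      rcases hS.pair E hE A hA with hc | hc | hc
      · exact absurd (fun e he => RootSub.elem_comm hc he haA) hh
      · exact hc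
      · exact absurd hc (hdeg E hE A hA)
    have hEb : IsRankOnePair E B := by
      rcases hS.pair E hE B hB with hc | hc | hc
      · refine absurd (fun e he => ?_) hh
        have h2 := hEab e he
        have h3 := RootSub.elem_comm hc he hbB
        rw [mul_assoc a b e, ← h3, ← mul_assoc, ← mul_assoc] at h2
        exact mul_right_cancel h2
      · exact hc
      · exact absurd hc (hdeg E hE B hB)
    have hfix : conjBy E (a * b) = E := RankOne.conjBy_eq_self_iff.2
      (Subgroup.centralizer_le_normalizer _ (Subgroup.mem_centralizer_iff.2 fun e he => hEab e he))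
    obtain ⟨e1, he1, -, h1⟩ := hEa.cond_right a⁻¹ (inv_mem haA) (inv_ne_one.2 ha1)
    obtain ⟨e2, he2, -, h2⟩ := hEb.cond_right b hbB hb1
    rw [inv_inv] at h1
    have hE' : conjBy E a = conjBy E b⁻¹ := by
      conv_rhs => rw [← hfix, hab, ← RankOne.conjBy_mul, RankOne.conjBy_inv_conjBy]
    have h3 : conjBy B e2⁻¹ = conjBy A e1⁻¹ := h2.trans (hE'.symm.trans h1.symm)
    have hBm : B ∈ unipotentSubgroups E A := by
      have h4 : B = conjBy (conjBy A e1⁻¹) e2 := by rw [← h3, RankOne.conjBy_conjBy_inv]
      rw [h4]
      exact RankOne.conjBy_mem_unipotents (RankOne.conjBy_mem_unipotents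
        (RankOne.right_mem_unipotents hEa) (Subgroup.mem_sup_left (inv_mem he1)))
        (Subgroup.mem_sup_left he2)
    exact RankOne.commutator_ne_bot (RankOne.isRankOnePair_of_mem_unipotents hEa
      (RankOne.right_mem_unipotents hEa) hBm hAB) hABc
  · rintro ⟨⟨hE, hEa⟩, -, hEb⟩
    exact ⟨hE, fun e he => by rw [← mul_assoc, hEa e he, mul_assoc, hEb e he, ← mul_assoc]⟩

end Cfsg.Agent.S5026
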