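import Cfsg.Statements.S5027
import Cfsg.Agent.Lib.RootSub
-- import your own Cfsg.Agent.* helpers here

set_option autoImplicit false
open Cfsg

namespace Cfsg.Agent.S5027

/-- Let S be a set of abstract root subgroups of G such that every member of S has a rank one partner in S (the graph of rank one pairs on S has no isolated vertex). Then the second centre of G equals its centre. -/
theorem result {G : Type*} [Group G] {S : Set (Subgroup G)} (hS : Cfsg.IsRootSubgroupSet S)
    (hF : ∀ A ∈ S, ¬ Cfsg.IsIsolatedIn (Cfsg.FAdj S) S A) : Subgroup.upperCentralSeries G 2 = Subgroup.center G := by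
  refine le_antisymm ?_ ?_
  · intro z hz
    rw [Subgroup.mem_upperCentralSeries_succ_iff] at hz
    simp only [Subgroup.upperCentralSeries_one] at hz
    have hle : (⨆ A ∈ S, A) ≤ Subgroup.centralizer ({z} : Set G) := by
      refine iSup₂_le fun A hA a ha => Subgroup.mem_centralizer_iff.2 fun w hw => ?_
      rw [Set.mem_singleton_iff.1 hw]
      by_cases ha1 : a = 1
      · simp [ha1]
      obtain ⟨B, hB, hp⟩ := RootSub.exists_partner (hF A hA) hA
      have hc : z * a * z⁻¹ * a⁻¹ ∈ Subgroup.center G := by
        simpa [commutatorElement_def] using hz a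
      by_contra hne
      have hc1 : z * a * z⁻¹ * a⁻¹ ≠ 1 := fun h1 => hne (by
        rw [mul_inv_eq_one, mul_inv_eq_iff_eq_mul] at h1; exact h1)
      refine RootSub.not_root_of_centralizes hS hA hB hp
        (Subgroup.center_le_centralizer _ hc) hc1 ha ha1 (hS.conj_mem A hA z) ?_
      rw [inv_mul_cancel_right, RankOne.mem_conjBy]
      simpa [mul_assoc] using ha
    rw [Subgroup.mem_center_iff]
    intro g
    exact (Subgroup.mem_centralizer_iff.1 (hle (hS.generates.symm ▸ Subgroup.mem_top g)) z rfl).symm
  · rw [← Subgroup.upperCentralSeries_one]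
    exact Subgroup.upperCentralSeries_mono G (by omega)

end Cfsg.Agent.S5027
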