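import Cfsg.Statements.S5030
import Cfsg.Agent.Lib.RootSubLine
-- import your own Cfsg.Agent.* helpers here

set_option autoImplicit false
open Cfsg
open scoped commutatorElement

namespace Cfsg.Agent.S5030

section Aux

open RankOne RootSub RootSubLine

variable {G : Type*} [Group G] {S : Set (Subgroup G)}

/-- Commutators of generated subgroups land in a subgroup normalized by them. -/
theorem commutator_le_of_gens {s t : Set G} {M : Subgroup G}
    (hs : Subgroup.closure s ≤ Subgroup.normalizer (M : Set G))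
    (ht : Subgroup.closure t ≤ Subgroup.normalizer (M : Set G))
    (hgen : ∀ x ∈ s, ∀ y ∈ t, x * y * x⁻¹ * y⁻¹ ∈ M) :
    ⁅Subgroup.closure s, Subgroup.closure t⁆ ≤ M := by
  have conj : ∀ {g m : G}, g ∈ Subgroup.normalizer (M : Set G) → m ∈ M → g * m * g⁻¹ ∈ M :=
    fun hg hm => (Subgroup.mem_normalizer_iff.1 hg _).1 hm
  have h1 : ∀ x ∈ s, ∀ y ∈ Subgroup.closure t, x * y * x⁻¹ * y⁻¹ ∈ M := by
    intro x hx y hy
    induction hy using Subgroup.closure_induction with
    | mem z hz => exact hgen x hx z hz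
    | one => simp
    | mul u v hu _ ihu ihv =>
      have := mul_mem ihu (conj (ht hu) ihv)
      simpa [mul_assoc] using this
    | inv u hu ihu =>
      have := inv_mem (conj (ht (inv_mem hu)) ihu)
      simpa [mul_assoc] using this
  rw [Subgroup.commutator_le]
  intro x hx y hy
  rw [commutatorElement_def]
  induction hx using Subgroup.closure_induction with
  | mem z hz => exact h1 z hz y hy
  | one => simp
  | mul u v hu _ ihu ihv =>
    have := mul_mem (conj (hs hu) ihv) ihu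
    simpa [mul_assoc] using this
  | inv u hu ihu =>
    have := inv_mem (conj (hs (inv_mem hu)) ihu)
    simpa [mul_assoc] using this

theorem sup_eq_closure' (A B : Subgroup G) : A ⊔ B = Subgroup.closure ((A : Set G) ∪ B) :=
  Subgroup.sup_eq_closure A B

theorem commutator_sup_left_eq_bot {A B C : Subgroup G} (h1 : ⁅A, C⁆ = ⊥) (h2 : ⁅B, C⁆ = ⊥) :
    ⁅A ⊔ B, C⁆ = ⊥ := by
  rw [Subgroup.commutator_eq_bot_iff_le_centralizer] at h1 h2 ⊢
  exact sup_le h1 h2

theorem commutator_sup_right_eq_bot {A B C : Subgroup G} (h1 : ⁅C, A⁆ = ⊥) (h2 : ⁅C, B⁆ = ⊥) :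
    ⁅C, A ⊔ B⁆ = ⊥ := by
  rw [Subgroup.commutator_comm] at h1 h2 ⊢
  exact commutator_sup_left_eq_bot h1 h2

theorem commutator_mono_bot {A A' B B' : Subgroup G} (hA : A ≤ A') (hB : B ≤ B')
    (h : ⁅A', B'⁆ = ⊥) : ⁅A, B⁆ = ⊥ :=
  le_bot_iff.1 (h ▸ Subgroup.commutator_mono hA hB)

theorem comm_of_bot {A : Subgroup G} (h : ⁅A, A⁆ = ⊥) : IsMulCommutative ↥A :=
  ⟨⟨fun x y => Subtype.ext (elem_comm h x.2 y.2)⟩⟩

theorem pair_derived_le (hS : IsRootSubgroupSet S) {P R : Subgroup G} (hP : P ∈ S) (hR : R ∈ S)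
    (h : RootCommutatorCase S P R) : ⁅P ⊔ R, P ⊔ R⁆ ≤ ⁅P, R⁆ := by
  have hn : P ⊔ R ≤ Subgroup.normalizer ((⁅P, R⁆ : Subgroup G) : Set G) := by
    refine le_trans ?_ (Subgroup.centralizer_le_normalizer _)
    intro x hx
    exact Subgroup.mem_centralizer_iff.2 fun c hc => h.2.1 c hc x hx
  rw [sup_eq_closure'] at hn ⊢
  refine commutator_le_of_gens hn hn ?_
  rintro x (hx | hx) y (hy | hy)
  · rw [comm_of_mem hS hP hx hy]; simp
  · exact Subgroup.commutator_mem_commutator hx hy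
  · have := inv_mem (Subgroup.commutator_mem_commutator (H₁ := P) (H₂ := R) hy hx)
    simpa [commutatorElement_def, mul_assoc] using this
  · rw [comm_of_mem hS hR hx hy]; simp

theorem not_rankOne_X (hS : IsRootSubgroupSet S) {A B C : Subgroup G} (hA : A ∈ S) (hC : C ∈ S)
    (hB : B ∈ S) (h2 : RootCommutatorCase S C B) (hAC : ⁅A, C⁆ = ⊥) {b : G} (hb : b ∈ B)
    (hb1 : b ≠ 1) : ¬ IsRankOnePair A (conjBy C b⁻¹) := by
  intro hp
  obtain ⟨c, hc, hc1⟩ := exists_ne_one hS hC
  have hcx : b⁻¹ * c * b ∈ conjBy C b⁻¹ := by rw [mem_conjBy]; simpa [mul_assoc] using hc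
  have hle : A ⊔ conjBy C b⁻¹ ≤ Subgroup.centralizer ({c⁻¹} : Set G) := by
    refine sup_le (fun y hy => ?_) (fun y hy => ?_)
    · refine Subgroup.mem_centralizer_iff.2 fun z hz => ?_
      rw [Set.mem_singleton_iff.1 hz]
      exact (elem_comm hAC hy (inv_mem hc)).symm
    · refine Subgroup.mem_centralizer_iff.2 fun z hz => ?_
      rw [Set.mem_singleton_iff.1 hz]
      exact (elem_comm (rc_conj_commute hS hC (rc_symm h2) (inv_mem hb)) hy (inv_mem hc)).symm
  refine not_root_of_centralizes hS (hS.conj_mem C hC b⁻¹) hA (RankOnePair_symm hp)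
    (z := c⁻¹) ?_ (inv_ne_one.2 hc1) hcx ?_ h2.1 ?_
  · refine Subgroup.mem_centralizer_iff.2 fun y hy => ?_
    rw [sup_comm] at hy
    exact (Subgroup.mem_centralizer_iff.1 (hle hy) _ rfl).symm
  · intro h0
    exact hc1 (by
      calc c = b * (b⁻¹ * c * b) * b⁻¹ := by group
        _ = 1 := by rw [h0]; group)
  · have := Subgroup.commutator_mem_commutator (inv_mem hc) (inv_mem hb)
    simpa [commutatorElement_def, mul_assoc] using this

theorem commute_X (hS : IsRootSubgroupSet S) {A B C : Subgroup G} (hA : A ∈ S) (hB : B ∈ S)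
    (hC : C ∈ S) (h1 : RootCommutatorCase S A B) (h2 : RootCommutatorCase S B C)
    (hAC : ⁅A, C⁆ = ⊥) {b : G} (hb : b ∈ B) (hb1 : b ≠ 1)
    (hX : ⁅A, conjBy C b⁻¹⁆ = ⊥) : ⁅conjBy A b⁻¹, C⁆ = ⊥ := by
  have hAQ : ⁅A, ⁅B, C⁆⁆ = ⊥ := by
    refine commutator_eq_bot_of_comm fun a ha q hq => ?_
    obtain ⟨c, hc, rfl⟩ := rc_surj h2 (inv_mem hb) (inv_ne_one.2 hb1) hq
    have k1 : Commute a (b⁻¹ * c * b⁻¹⁻¹) :=
      elem_comm hX ha (by rw [mem_conjBy]; simpa [mul_assoc] using hc)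
    have k2 : Commute a c := elem_comm hAC ha hc
    exact (k1.mul_right k2.inv_right).eq
  have hPC : ⁅⁅A, B⁆, C⁆ = ⊥ := by
    refine Subgroup.commutator_commutator_eq_bot_of_rotate ?_ ?_
    · rw [Subgroup.commutator_comm]; exact hAQ
    · rw [Subgroup.commutator_comm C A, hAC, Subgroup.commutator_bot_left]
  exact commutator_mono_bot (conj_le_line h1 (inv_mem hb)) le_rfl
    (commutator_sup_left_eq_bot hAC hPC)

theorem pair_sup (hS : IsRootSubgroupSet S) {A B : Subgroup G} (h : RootCommutatorCase S A B)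
    {b : G} (hb : b ∈ B) (hb1 : b ≠ 1) : A ⊔ conjBy A b⁻¹ = A ⊔ ⁅A, B⁆ := by
  refine le_antisymm (sup_le le_sup_left (conj_le_line h (inv_mem hb))) (sup_le le_sup_left ?_)
  intro p hp
  obtain ⟨x, hx, rfl⟩ := rc_surj (rc_symm h) (inv_mem hb) (inv_ne_one.2 hb1)
    (Subgroup.commutator_comm A B ▸ hp)
  refine mul_mem (Subgroup.mem_sup_right ?_) (inv_mem (Subgroup.mem_sup_left hx))
  rw [mem_conjBy]; simpa [mul_assoc] using hx

end Aux


/-- Let S be a set of abstract root subgroups of G and A, B, C ∈ S with ⁅A, B⁆ ∈ S and ⁅B, C⁆ ∈ S, where A and C are different and commute. For a non-identity b ∈ B put X = ⟨A, b⁻¹ C b⟩ and Y = ⟨b⁻¹ A b, C⟩ and R = ⟨A, B, C⟩. Then X and Y are either both abelian or both nilpotent of class exactly two; X and Y commute elementwise; XY is normal in R with R = (XY) B; and R is nilpotent. -/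
theorem result {G : Type*} [Group G] {S : Set (Subgroup G)} (hS : Cfsg.IsRootSubgroupSet S)
    {A B C : Subgroup G} (hA : A ∈ S) (hB : B ∈ S) (hC : C ∈ S) (hAB : ⁅A, B⁆ ∈ S) (hBC : ⁅B, C⁆ ∈ S)
    (hAC : C ∈ Cfsg.commutingPartners S A)
    {b : G} (hb : b ∈ B) (hb1 : b ≠ 1) :
    ((IsMulCommutative ↥(A ⊔ Cfsg.conjBy C b⁻¹) ∧ IsMulCommutative ↥(Cfsg.conjBy A b⁻¹ ⊔ C)) ∨
      ((¬ IsMulCommutative ↥(A ⊔ Cfsg.conjBy C b⁻¹) ∧
          ⁅⁅A ⊔ Cfsg.conjBy C b⁻¹, A ⊔ Cfsg.conjBy C b⁻¹⁆, A ⊔ Cfsg.conjBy C b⁻¹⁆ = ⊥) ∧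
        (¬ IsMulCommutative ↥(Cfsg.conjBy A b⁻¹ ⊔ C) ∧
          ⁅⁅Cfsg.conjBy A b⁻¹ ⊔ C, Cfsg.conjBy A b⁻¹ ⊔ C⁆, Cfsg.conjBy A b⁻¹ ⊔ C⁆ = ⊥))) ∧
    ⁅A ⊔ Cfsg.conjBy C b⁻¹, Cfsg.conjBy A b⁻¹ ⊔ C⁆ = ⊥ ∧
    (∀ r ∈ A ⊔ B ⊔ C, Cfsg.conjBy ((A ⊔ Cfsg.conjBy C b⁻¹) ⊔ (Cfsg.conjBy A b⁻¹ ⊔ C)) r =
      (A ⊔ Cfsg.conjBy C b⁻¹) ⊔ (Cfsg.conjBy A b⁻¹ ⊔ C)) ∧
    ((A ⊔ Cfsg.conjBy C b⁻¹) ⊔ (Cfsg.conjBy A b⁻¹ ⊔ C)) ⊔ B = A ⊔ B ⊔ C ∧
    Group.IsNilpotent ↥(A ⊔ B ⊔ C) := by
  obtain ⟨-, -, hAC⟩ := hAC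
  have h1 := RootSub.rc_of_commutator_mem hS hA hB hAB
  have h2 := RootSub.rc_of_commutator_mem hS hB hC hBC
  have h2' := RootSub.rc_symm h2
  have hCA : ⁅C, A⁆ = ⊥ := by rw [Subgroup.commutator_comm]; exact hAC
  set A' := conjBy A b⁻¹ with hA'def
  set C' := conjBy C b⁻¹ with hC'def
  set P := ⁅A, B⁆ with hPdef
  set Q := ⁅B, C⁆ with hQdef
  have hQ' : ⁅C, B⁆ = Q := Subgroup.commutator_comm _ _
  have hAA' : ⁅A, A'⁆ = ⊥ := by
    rw [Subgroup.commutator_comm]
    exact RootSub.rc_conj_commute hS hA (RootSub.rc_symm h1) (inv_mem hb)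
  have hC'C : ⁅C', C⁆ = ⊥ := RootSub.rc_conj_commute hS hC h2 (inv_mem hb)
  have hC'A' : ⁅C', A'⁆ = ⊥ := RankOne.commutator_conjBy_eq_bot hCA
  have hXY : ⁅A ⊔ C', A' ⊔ C⁆ = ⊥ :=
    commutator_sup_left_eq_bot (commutator_sup_right_eq_bot hAA' hAC)
      (commutator_sup_right_eq_bot hC'A' hC'C)
  have hnX : ¬ IsRankOnePair A C' := not_rankOne_X hS hA hC hB h2' hAC hb hb1
  have hnY : ¬ IsRankOnePair A' C := fun h =>
    not_rankOne_X hS hC hA hB h1 hCA hb hb1 (RankOnePair_symm h)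
  have hX0 : RootCommutatorCase S A C' ∨ ⁅A, C'⁆ = ⊥ := by
    rcases hS.pair A hA C' (hS.conj_mem C hC _) with h | h | h
    · exact Or.inr h
    · exact absurd h hnX
    · exact Or.inl h
  have hY0 : RootCommutatorCase S A' C ∨ ⁅A', C⁆ = ⊥ := by
    rcases hS.pair A' (hS.conj_mem A hA _) C hC with h | h | h
    · exact Or.inr h
    · exact absurd h hnY
    · exact Or.inl h
  have hiff : ⁅A, C'⁆ = ⊥ ↔ ⁅A', C⁆ = ⊥ := by
    constructor
    · exact commute_X hS hA hB hC h1 h2 hAC hb hb1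
    · intro h
      rw [Subgroup.commutator_comm]
      exact commute_X hS hC hB hA h2' (RootSub.rc_symm h1) hCA hb hb1
        (by rw [Subgroup.commutator_comm]; exact h)
  have hselfA := RootSub.commutator_self hS hA
  have hselfC := RootSub.commutator_self hS hC
  have hselfA' := RootSub.commutator_self hS (hS.conj_mem A hA b⁻¹)
  have hselfC' := RootSub.commutator_self hS (hS.conj_mem C hC b⁻¹)
  have habl : ∀ {U V : Subgroup G}, ⁅U, U⁆ = ⊥ → ⁅V, V⁆ = ⊥ → ⁅U, V⁆ = ⊥ →
      ⁅U ⊔ V, U ⊔ V⁆ = ⊥ := fun hU hV hUV => commutator_sup_left_eq_bot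
        (commutator_sup_right_eq_bot hU hUV)
        (commutator_sup_right_eq_bot (by rw [Subgroup.commutator_comm]; exact hUV) hV)
  have hcl : ∀ {U V : Subgroup G}, U ∈ S → V ∈ S → RootCommutatorCase S U V →
      ¬ IsMulCommutative ↥(U ⊔ V) ∧ ⁅⁅U ⊔ V, U ⊔ V⁆, U ⊔ V⁆ = ⊥ := by
    intro U V hU hV h
    refine ⟨fun hc => RootSub.rc_ne_bot hS h (RankOne.commutator_eq_bot_of_comm fun u hu v hv => ?_), ?_⟩
    · exact congrArg Subtype.val (hc.is_comm.comm ⟨u, Subgroup.mem_sup_left hu⟩ ⟨v, Subgroup.mem_sup_right hv⟩)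
    · exact le_bot_iff.1 (le_trans (Subgroup.commutator_mono (pair_derived_le hS hU hV h) le_rfl)
        (le_of_eq (commutator_sup_right_eq_bot (RootSub.rc_comm_left h) (RootSub.rc_comm_right h))))
  have hA'S : A' ∈ S := hS.conj_mem A hA _
  have hC'S : C' ∈ S := hS.conj_mem C hC _
  have hNsup : (A ⊔ C') ⊔ (A' ⊔ C) = (A ⊔ P) ⊔ (C ⊔ Q) := by
    have e1 := pair_sup hS h1 hb hb1
    have e2 := pair_sup hS h2' hb hb1
    rw [hQ'] at e2
    rw [← hA'def, ← hPdef] at e1
    rw [← hC'def] at e2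
    rw [← e1, ← e2]
    ac_rfl
  refine ⟨?_, hXY, ?_, ?_, ?_⟩
  · rcases hX0 with hX | hX
    · rcases hY0 with hY | hY
      · exact Or.inr ⟨hcl hA hC'S hX, hcl hA'S hC hY⟩
      · exact absurd (hiff.2 hY) (RootSub.rc_ne_bot hS hX)
    · exact Or.inl ⟨comm_of_bot (habl hselfA hselfC' hX), comm_of_bot (habl hselfA' hselfC (hiff.1 hX))⟩
  · intro r hr
    rw [RankOne.conjBy_eq_self_iff]
    refine (sup_le (sup_le ?_ ?_) ?_ : A ⊔ B ⊔ C ≤ Subgroup.normalizer
      (((A ⊔ C') ⊔ (A' ⊔ C) : Subgroup G) : Set G)) hr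
    · exact (le_sup_left.trans le_sup_left).trans Subgroup.le_normalizer
    · intro y hy
      rw [← RankOne.conjBy_eq_self_iff, hNsup]
      have hle : ∀ y ∈ B, conjBy ((A ⊔ P) ⊔ (C ⊔ Q)) y ≤ (A ⊔ P) ⊔ (C ⊔ Q) := by
        intro y hy
        have e1 := RootSubLine.conj_le_line h1 hy
        have e2 := RootSubLine.fixed_line h1 hy
        have e3 := RootSubLine.conj_le_line h2' hy
        have e4 := RootSubLine.fixed_line h2' hy
        rw [hQ'] at e3 e4
        simp only [RankOne.conjBy_sup]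
        exact sup_le (le_sup_of_le_left (sup_le e1 (e2.le.trans le_sup_right)))
          (le_sup_of_le_right (sup_le e3 (e4.le.trans le_sup_right)))
      refine le_antisymm (hle y hy) ?_
      have h3 := Subgroup.map_mono (f := (MulAut.conj y).toMonoidHom) (hle y⁻¹ (inv_mem hy))
      change conjBy (conjBy _ y⁻¹) y ≤ _ at h3
      rwa [RankOne.conjBy_conjBy_inv] at h3
    · exact (le_sup_right.trans le_sup_right).trans Subgroup.le_normalizer
  · rw [hNsup]
    have hP : P ≤ A ⊔ B ⊔ C := Subgroup.commutator_le.2 fun x hx y hy => by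
      have k1 : x ∈ A ⊔ B ⊔ C := Subgroup.mem_sup_left (Subgroup.mem_sup_left hx)
      have k2 : y ∈ A ⊔ B ⊔ C := Subgroup.mem_sup_left (Subgroup.mem_sup_right hy)
      exact mul_mem (mul_mem (mul_mem k1 k2) (inv_mem k1)) (inv_mem k2)
    have hQ : Q ≤ A ⊔ B ⊔ C := Subgroup.commutator_le.2 fun x hx y hy => by
      have k1 : x ∈ A ⊔ B ⊔ C := Subgroup.mem_sup_left (Subgroup.mem_sup_right hx)
      have k2 : y ∈ A ⊔ B ⊔ C := Subgroup.mem_sup_right hy
      exact mul_mem (mul_mem (mul_mem k1 k2) (inv_mem k1)) (inv_mem k2)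
    refine le_antisymm (sup_le (sup_le (sup_le ?_ hP) (sup_le le_sup_right hQ))
      (le_sup_right.trans le_sup_left)) (sup_le (sup_le ?_ le_sup_right) ?_)
    · exact le_sup_left.trans le_sup_left
    · exact (le_sup_left.trans le_sup_left).trans le_sup_left
    · exact (le_sup_left.trans le_sup_right).trans le_sup_left
  · set R := A ⊔ B ⊔ C with hR
    set N := (A ⊔ C') ⊔ (A' ⊔ C) with hN
    set K2 := ⁅A, C'⁆ ⊔ ⁅A', C⁆ with hK2
    set K3 := ⁅P, Q⁆ with hK3
    set K1 := P ⊔ Q ⊔ K2 with hK1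
    have hPN : P ≤ N := by rw [hNsup]; exact le_sup_right.trans le_sup_left
    have hQN : Q ≤ N := by rw [hNsup]; exact le_sup_right.trans le_sup_right
    have hAN : A ≤ N := le_sup_left.trans le_sup_left
    have hCN : C ≤ N := le_sup_right.trans le_sup_right
    have hYX : ⁅A' ⊔ C, A ⊔ C'⁆ = ⊥ := by rw [Subgroup.commutator_comm]; exact hXY
    have hWN : ⁅K2, N⁆ = ⊥ := by
      have cW : ∀ {U V M : Subgroup G}, RootCommutatorCase S U V ∨ ⁅U, V⁆ = ⊥ →
          ⁅U ⊔ V, M⁆ = ⊥ → ⁅⁅U, V⁆, (U ⊔ V) ⊔ M⁆ = ⊥ := by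
        intro U V M h hM
        rcases h with h | h
        · refine commutator_sup_right_eq_bot (commutator_sup_right_eq_bot
            (RootSub.rc_comm_left h) (RootSub.rc_comm_right h)) ?_
          refine commutator_mono_bot (Subgroup.commutator_le.2 fun x hx y hy => ?_) le_rfl hM
          exact mul_mem (mul_mem (mul_mem (Subgroup.mem_sup_left hx) (Subgroup.mem_sup_right hy))
            (inv_mem (Subgroup.mem_sup_left hx))) (inv_mem (Subgroup.mem_sup_right hy))
        · rw [h, Subgroup.commutator_bot_left]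
      refine commutator_sup_left_eq_bot (cW hX0 hXY) ?_
      rw [hN, sup_comm]
      exact cW hY0 hYX
    have hNK2 : ⁅N, N⁆ ≤ K2 := by
      have hcl' : N = Subgroup.closure (((A : Set G) ∪ C') ∪ ((A' : Set G) ∪ C)) := by
        rw [Subgroup.closure_union, Subgroup.closure_union, Subgroup.closure_union,
          Subgroup.closure_eq, Subgroup.closure_eq, Subgroup.closure_eq, Subgroup.closure_eq]
      have hnorm : N ≤ Subgroup.normalizer (K2 : Set G) := by
        refine le_trans ?_ (Subgroup.centralizer_le_normalizer _)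
        refine Subgroup.commutator_eq_bot_iff_le_centralizer.1 ?_
        rw [Subgroup.commutator_comm]; exact hWN
      rw [hcl'] at hnorm ⊢
      refine commutator_le_of_gens hnorm hnorm ?_
      have e0 : ∀ {U V : Subgroup G}, ⁅U, V⁆ = ⊥ → ∀ {x y : G}, x ∈ U → y ∈ V →
          x * y * x⁻¹ * y⁻¹ ∈ K2 := fun h x y hx hy => by
        rw [RootSub.elem_comm h hx hy]; simp
      rintro x ((hx | hx) | (hx | hx)) y ((hy | hy) | (hy | hy))
      · exact e0 hselfA hx hy
      · exact Subgroup.mem_sup_left (Subgroup.commutator_mem_commutator hx hy)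
      · exact e0 hAA' hx hy
      · exact e0 hAC hx hy
      · refine Subgroup.mem_sup_left ?_
        rw [Subgroup.commutator_comm]; exact Subgroup.commutator_mem_commutator hx hy
      · exact e0 hselfC' hx hy
      · exact e0 hC'A' hx hy
      · exact e0 hC'C hx hy
      · exact e0 (Subgroup.commutator_comm A A' ▸ hAA') hx hy
      · exact e0 (Subgroup.commutator_comm C' A' ▸ hC'A') hx hy
      · exact e0 hselfA' hx hy
      · exact Subgroup.mem_sup_right (Subgroup.commutator_mem_commutator hx hy)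
      · exact e0 hCA hx hy
      · exact e0 (Subgroup.commutator_comm C' C ▸ hC'C) hx hy
      · refine Subgroup.mem_sup_right ?_
        rw [Subgroup.commutator_comm]; exact Subgroup.commutator_mem_commutator hx hy
      · exact e0 hselfC hx hy
    have hK3K2 : K3 ≤ K2 := (Subgroup.commutator_mono hPN hQN).trans hNK2
    have hRcl : R = Subgroup.closure (((A : Set G) ∪ B) ∪ C) := by
      rw [Subgroup.closure_union, Subgroup.closure_union, Subgroup.closure_eq, Subgroup.closure_eq,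
        Subgroup.closure_eq]
    have hcomm : ∀ {U : Subgroup G}, (∀ u ∈ U, ∀ r ∈ ((A : Set G) ∪ B) ∪ C, u * r = r * u) →
        ⁅U, R⁆ = ⊥ := by
      intro U h
      rw [hRcl, Subgroup.commutator_eq_bot_iff_le_centralizer]
      intro u hu
      rw [Subgroup.centralizer_closure]
      exact Subgroup.mem_centralizer_iff.2 fun r hr => (h u hu r hr).symm
    have hPB : ⁅B, P⁆ = ⊥ := by rw [Subgroup.commutator_comm]; exact RootSub.rc_comm_right h1
    have hBQ : ⁅B, Q⁆ = ⊥ := by rw [Subgroup.commutator_comm]; exact RootSub.rc_comm_left h2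
    have h3 : ⁅K3, R⁆ = ⊥ := by
      refine hcomm fun u hu r hr => ?_
      rcases hr with (hr | hr) | hr
      · exact RootSub.elem_comm hWN (hK3K2 hu) (hAN hr)
      · have hle : K3 ≤ Subgroup.centralizer ({r} : Set G) := by
          refine Subgroup.commutator_le.2 fun p hp q hq => Subgroup.mem_centralizer_iff.2 fun z hz => ?_
          rw [Set.mem_singleton_iff.1 hz]
          have k1 : Commute r p := RootSub.elem_comm hPB hr hp
          have k2 : Commute r q := RootSub.elem_comm hBQ hr hq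
          exact (((k1.mul_right k2).mul_right k1.inv_right).mul_right k2.inv_right).eq
        exact (Subgroup.mem_centralizer_iff.1 (hle hu) r rfl).symm
      · exact RootSub.elem_comm hWN (hK3K2 hu) (hCN hr)
    have normOfLe : ∀ {U : Subgroup G}, ⁅U, R⁆ ≤ U → R ≤ Subgroup.normalizer (U : Set G) := by
      intro U h
      have hsub : ∀ r ∈ R, conjBy U r ≤ U := by
        intro r hr x hx
        rw [RankOne.mem_conjBy] at hx
        have h4 := mul_mem hx (h (Subgroup.commutator_mem_commutator (inv_mem hx) (inv_mem hr)))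
        have h5 := mul_mem h4 (one_mem U)
        have h6 : r * (r⁻¹ * x * r) * r⁻¹ * (r⁻¹ * x * r)⁻¹ ∈ U := by
          have := inv_mem (h (Subgroup.commutator_mem_commutator hx hr))
          simpa [commutatorElement_def, mul_assoc] using this
        simpa [mul_assoc] using mul_mem h6 hx
      intro r hr
      rw [← RankOne.conjBy_eq_self_iff]
      refine le_antisymm (hsub r hr) ?_
      have h6 := Subgroup.map_mono (f := (MulAut.conj r).toMonoidHom) (hsub r⁻¹ (inv_mem hr))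
      change conjBy (conjBy _ r⁻¹) r ≤ _ at h6
      rwa [RankOne.conjBy_conjBy_inv] at h6
    have h2k : ⁅K2, R⁆ ≤ K3 := by
      have hKnorm : R ≤ Subgroup.normalizer (K3 : Set G) := normOfLe (h3.le.trans bot_le)
      have hcl2 : K2 = Subgroup.closure ({g | ∃ a ∈ A, ∃ c ∈ C', ⁅a, c⁆ = g} ∪
          {g | ∃ a ∈ A', ∃ c ∈ C, ⁅a, c⁆ = g}) := by
        rw [Subgroup.closure_union]; rfl
      have hK2R : K2 ≤ Subgroup.normalizer (K3 : Set G) := by
        refine le_trans (le_trans ?_ (show N ≤ R from ?_)) hKnorm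
        · refine sup_le (Subgroup.commutator_le.2 fun x hx y hy => ?_) (Subgroup.commutator_le.2 fun x hx y hy => ?_)
          · have k1 : x ∈ N := hAN hx
            have k2 : y ∈ N := (le_sup_right.trans le_sup_left : C' ≤ N) hy
            exact mul_mem (mul_mem (mul_mem k1 k2) (inv_mem k1)) (inv_mem k2)
          · have k1 : x ∈ N := (le_sup_left.trans le_sup_right : A' ≤ N) hx
            have k2 : y ∈ N := hCN hy
            exact mul_mem (mul_mem (mul_mem k1 k2) (inv_mem k1)) (inv_mem k2)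
        · have hbR : b ∈ R := Subgroup.mem_sup_left (Subgroup.mem_sup_right hb)
          have hcR : ∀ U : Subgroup G, U ≤ R → conjBy U b⁻¹ ≤ R := fun U hU x hx => by
            rw [RankOne.mem_conjBy, inv_inv] at hx
            simpa [mul_assoc] using mul_mem (mul_mem (inv_mem hbR) (hU hx)) hbR
          exact sup_le (sup_le (le_sup_left.trans le_sup_left) (hcR C le_sup_right))
            (sup_le (hcR A (le_sup_left.trans le_sup_left)) le_sup_right)
      rw [hcl2] at hK2R ⊢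
      rw [hRcl] at hKnorm ⊢
      refine commutator_le_of_gens hK2R hKnorm ?_
      intro w hw r hr
      have hwK : w ∈ K2 := hcl2.symm ▸ Subgroup.subset_closure hw
      have triv : ∀ r ∈ N, w * r * w⁻¹ * r⁻¹ ∈ K3 := fun r hr => by
        rw [RootSub.elem_comm hWN hwK hr]; simp
      rcases hr with (hr | hr) | hr
      · exact triv r (hAN hr)
      · -- `w` is a commutator `[u,v]` with `u` in `A·P` and `v` in `C·Q`
        have main : ∀ u ∈ A ⊔ P, ∀ v ∈ C ⊔ Q, r * ⁅u, v⁆ * r⁻¹ * ⁅u, v⁆⁻¹ ∈ K3 := by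
          intro u hu v hv
          obtain ⟨a, ha, p, hp, rfl⟩ := RootSubLine.mem_sup_of_commute (RootSubLine.rc_comm_left' h1) hu
          obtain ⟨c, hc, q, hq, rfl⟩ := RootSubLine.mem_sup_of_commute
            (show ⁅C, Q⁆ = ⊥ by rw [Subgroup.commutator_comm]; exact RootSub.rc_comm_right h2) hv
          have hp' : r * a * r⁻¹ * a⁻¹ ∈ P := by
            rw [hPdef, Subgroup.commutator_comm]; exact Subgroup.commutator_mem_commutator hr ha
          have hq' : r * c * r⁻¹ * c⁻¹ ∈ Q := Subgroup.commutator_mem_commutator hr hc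
          have cen : ∀ {x y z : G}, x ∈ N → y ∈ N → z ∈ N → Commute z ⁅x, y⁆ := fun hx hy hz =>
            (RootSub.elem_comm hWN (hNK2 (Subgroup.commutator_mem_commutator hx hy)) hz).symm
          have exl : ∀ {x y z : G}, x ∈ N → y ∈ N → z ∈ N → ⁅x * y, z⁆ = ⁅x, z⁆ * ⁅y, z⁆ := by
            intro x y z hx hy hz
            calc ⁅x * y, z⁆ = x * ⁅y, z⁆ * (z * x⁻¹ * z⁻¹) := by simp only [commutatorElement_def]; group
              _ = ⁅y, z⁆ * x * (z * x⁻¹ * z⁻¹) := by rw [(cen hy hz hx).eq]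
              _ = ⁅y, z⁆ * ⁅x, z⁆ := by simp only [commutatorElement_def]; group
              _ = ⁅x, z⁆ * ⁅y, z⁆ := RootSub.elem_comm hWN
                (hNK2 (Subgroup.commutator_mem_commutator hy hz))
                (mul_mem (mul_mem (mul_mem hx hz) (inv_mem hx)) (inv_mem hz))
          have exr : ∀ {x y z : G}, x ∈ N → y ∈ N → z ∈ N → ⁅x, y * z⁆ = ⁅x, y⁆ * ⁅x, z⁆ := by
            intro x y z hx hy hz
            calc ⁅x, y * z⁆ = ⁅x, y⁆ * (y * ⁅x, z⁆) * y⁻¹ := by simp only [commutatorElement_def]; group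
              _ = ⁅x, y⁆ * (⁅x, z⁆ * y) * y⁻¹ := by rw [(cen hx hz hy).eq]
              _ = ⁅x, y⁆ * ⁅x, z⁆ := by group
          have one_ac : ∀ {x y : G}, x ∈ A → y ∈ C → ⁅x, y⁆ = 1 := fun hx hy => by
            rw [commutatorElement_eq_one_iff_mul_comm]; exact RootSub.elem_comm hAC hx hy
          have e : ∀ {x p₀ y q₀ : G}, x ∈ A → p₀ ∈ P → y ∈ C → q₀ ∈ Q →
              ⁅x * p₀, y * q₀⁆ = ⁅x, q₀⁆ * (⁅p₀, y⁆ * ⁅p₀, q₀⁆) := by
            intro x p₀ y q₀ hx hp₀ hy hq₀
            rw [exl (hAN hx) (hPN hp₀) (mul_mem (hCN hy) (hQN hq₀)),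
              exr (hAN hx) (hCN hy) (hQN hq₀), exr (hPN hp₀) (hCN hy) (hQN hq₀), one_ac hx hy, one_mul]
          have hrp : r * (a * p) * r⁻¹ = a * ((r * a * r⁻¹ * a⁻¹) * p) := by
            rw [← mul_assoc a, RootSub.elem_comm (RootSubLine.rc_comm_left' h1) ha hp',
              inv_mul_cancel_right]
            have : r * p = p * r := RootSub.elem_comm hPB hr hp
            calc r * (a * p) * r⁻¹ = r * a * r⁻¹ * (r * p) * r⁻¹ := by group
              _ = r * a * r⁻¹ * p := by rw [this]; group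
          have hrq : r * (c * q) * r⁻¹ = c * ((r * c * r⁻¹ * c⁻¹) * q) := by
            have hCQ : ⁅Q, C⁆ = ⊥ := RootSub.rc_comm_right h2
            rw [← mul_assoc c, ← RootSub.elem_comm hCQ hq' hc, inv_mul_cancel_right]
            have : r * q = q * r := RootSub.elem_comm hBQ hr hq
            calc r * (c * q) * r⁻¹ = r * c * r⁻¹ * (r * q) * r⁻¹ := by group
              _ = r * c * r⁻¹ * q := by rw [this]; group
          have hconj : r * ⁅a * p, c * q⁆ * r⁻¹ = ⁅r * (a * p) * r⁻¹, r * (c * q) * r⁻¹⁆ := by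
            simp only [commutatorElement_def]; group
          set p₁ := r * a * r⁻¹ * a⁻¹ with hp₁
          set q₁ := r * c * r⁻¹ * c⁻¹ with hq₁
          rw [hconj, hrp, hrq, e ha (mul_mem hp' hp) hc (mul_mem hq' hq), e ha hp hc hq]
          -- `[a,q₁][p₁,c]` is trivial: `a` and `c` commute
          have hz : ⁅a, q₁⁆ * (⁅p₁, c⁆ * ⁅p₁, q₁⁆) = 1 := by
            have h7 := e ha hp' hc hq'
            rw [← h7]
            have k1 : r * a * r⁻¹ = a * p₁ := by
              rw [RootSub.elem_comm (RootSubLine.rc_comm_left' h1) ha hp', hp₁]; group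
            have k2 : r * c * r⁻¹ = c * q₁ := by
              rw [← RootSub.elem_comm (RootSub.rc_comm_right h2) hq' hc, hq₁]; group
            rw [← k1, ← k2]
            calc ⁅r * a * r⁻¹, r * c * r⁻¹⁆ = r * ⁅a, c⁆ * r⁻¹ := by
                  simp only [commutatorElement_def]; group
              _ = 1 := by rw [one_ac ha hc]; group
          rw [exr (hAN ha) (hQN hq') (hQN hq), exl (hPN hp') (hPN hp) (hCN hc),
            exl (hPN hp') (hPN hp) (mul_mem (hQN hq') (hQN hq)),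
            exr (hPN hp') (hQN hq') (hQN hq), exr (hPN hp) (hQN hq') (hQN hq)]
          have z1 : ⁅p₁, q⁆ ∈ K3 := Subgroup.commutator_mem_commutator hp' hq
          have z2 : ⁅p, q₁⁆ ∈ K3 := Subgroup.commutator_mem_commutator hp hq'
          have key : ⁅a, q₁⁆ * ⁅a, q⁆ * (⁅p₁, c⁆ * ⁅p, c⁆ * (⁅p₁, q₁⁆ * ⁅p₁, q⁆ * (⁅p, q₁⁆ * ⁅p, q⁆))) *
              (⁅a, q⁆ * (⁅p, c⁆ * ⁅p, q⁆))⁻¹ = ⁅p₁, q⁆ * ⁅p, q₁⁆ := by
            set s1 := ⁅a, q₁⁆
            set s2 := ⁅a, q⁆
            set s3 := ⁅p₁, c⁆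
            set s4 := ⁅p, c⁆
            set s5 := ⁅p₁, q₁⁆
            set s6 := ⁅p₁, q⁆
            set s7 := ⁅p, q₁⁆
            set s8 := ⁅p, q⁆
            have m : ∀ {x y : G}, x ∈ N → y ∈ N → ⁅x, y⁆ ∈ N := fun hx hy =>
              mul_mem (mul_mem (mul_mem hx hy) (inv_mem hx)) (inv_mem hy)
            have c23 : Commute s2 s3 := cen (hPN hp') (hCN hc) (m (hAN ha) (hQN hq))
            have c24 : Commute s2 s5 := cen (hPN hp') (hQN hq') (m (hAN ha) (hQN hq))
            have c45 : Commute s4 s5 := cen (hPN hp') (hQN hq') (m (hPN hp) (hCN hc))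
            have c46 : Commute s4 (s6 * s7) :=
              (cen (hPN hp') (hQN hq) (m (hPN hp) (hCN hc))).mul_right
                (cen (hPN hp) (hQN hq') (m (hPN hp) (hCN hc)))
            have c26 : Commute s2 (s6 * s7) :=
              (cen (hPN hp') (hQN hq) (m (hAN ha) (hQN hq))).mul_right
                (cen (hPN hp) (hQN hq') (m (hAN ha) (hQN hq)))
            calc s1 * s2 * (s3 * s4 * (s5 * s6 * (s7 * s8))) * (s2 * (s4 * s8))⁻¹
                = s1 * (s2 * s3) * (s4 * s5) * (s6 * s7) * s4⁻¹ * s2⁻¹ := by group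
              _ = s1 * (s3 * s2) * (s5 * s4) * (s6 * s7) * s4⁻¹ * s2⁻¹ := by rw [c23.eq, c45.eq]
              _ = s1 * s3 * (s2 * s5) * (s4 * (s6 * s7)) * s4⁻¹ * s2⁻¹ := by group
              _ = s1 * s3 * (s5 * s2) * ((s6 * s7) * s4) * s4⁻¹ * s2⁻¹ := by rw [c24.eq, c46.eq]
              _ = s1 * (s3 * s5) * (s2 * (s6 * s7)) * s2⁻¹ := by group
              _ = s1 * (s3 * s5) * ((s6 * s7) * s2) * s2⁻¹ := by rw [c26.eq]
              _ = (s1 * (s3 * s5)) * (s6 * s7) := by group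
              _ = s6 * s7 := by rw [hz, one_mul]
          rw [key]
          exact mul_mem z1 z2
        have hAP : A' ≤ A ⊔ P := RootSubLine.conj_le_line h1 (inv_mem hb)
        have hCQ : C' ≤ C ⊔ Q := hQ' ▸ RootSubLine.conj_le_line h2' (inv_mem hb)
        rcases hw with ⟨u, hu, v, hv, rfl⟩ | ⟨u, hu, v, hv, rfl⟩
        · have := inv_mem (main u (Subgroup.mem_sup_left hu) v (hCQ hv))
          simpa [mul_assoc] using this
        · have := inv_mem (main u (hAP hu) v (Subgroup.mem_sup_left hv))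
          simpa [mul_assoc] using this
      · exact triv r (hCN hr)
    have h1k : ⁅K1, R⁆ ≤ K2 := by
      have hnorm : R ≤ Subgroup.normalizer (K2 : Set G) := normOfLe (h2k.trans hK3K2)
      have hcl1 : K1 = Subgroup.closure (((P : Set G) ∪ Q) ∪ K2) := by
        rw [Subgroup.closure_union, Subgroup.closure_union, Subgroup.closure_eq, Subgroup.closure_eq,
          Subgroup.closure_eq]
      have hK1R : K1 ≤ Subgroup.normalizer (K2 : Set G) := by
        refine sup_le (sup_le ?_ ?_) Subgroup.le_normalizer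
        · intro p hp
          rw [← RankOne.conjBy_eq_self_iff, RankOne.conjBy_eq_self_iff]
          exact Subgroup.centralizer_le_normalizer _ (Subgroup.mem_centralizer_iff.2 fun k hk =>
            RootSub.elem_comm hWN hk (hPN hp))
        · intro p hp
          exact Subgroup.centralizer_le_normalizer _ (Subgroup.mem_centralizer_iff.2 fun k hk =>
            RootSub.elem_comm hWN hk (hQN hp))
      rw [hRcl] at hnorm
      rw [hcl1] at hK1R ⊢
      rw [hRcl]
      refine commutator_le_of_gens hK1R hnorm ?_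
      have inN : ∀ {x y : G}, x ∈ N → y ∈ N → x * y * x⁻¹ * y⁻¹ ∈ K2 := fun hx hy =>
        hNK2 (Subgroup.commutator_mem_commutator hx hy)
      rintro x ((hx | hx) | hx) r ((hr | hr) | hr)
      · exact inN (hPN hx) (hAN hr)
      · rw [← RootSub.elem_comm hPB hr hx]; simp
      · exact inN (hPN hx) (hCN hr)
      · exact inN (hQN hx) (hAN hr)
      · rw [← RootSub.elem_comm hBQ hr hx]; simp
      · exact inN (hQN hx) (hCN hr)
      · rw [RootSub.elem_comm hWN hx (hAN hr)]; simp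
      · refine hK3K2 (h2k ?_)
        exact Subgroup.commutator_mem_commutator hx (Subgroup.mem_sup_left (Subgroup.mem_sup_right hr))
      · rw [RootSub.elem_comm hWN hx (hCN hr)]; simp
    have h0k : ⁅R, R⁆ ≤ K1 := by
      have hnorm : R ≤ Subgroup.normalizer (K1 : Set G) := normOfLe (h1k.trans le_sup_right)
      rw [hRcl] at hnorm ⊢
      refine commutator_le_of_gens hnorm hnorm ?_
      have triv : ∀ {U V : Subgroup G}, ⁅U, V⁆ = ⊥ → ∀ {x y : G}, x ∈ U → y ∈ V →
          x * y * x⁻¹ * y⁻¹ ∈ K1 := fun h x y hx hy => by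
        rw [RootSub.elem_comm h hx hy]; simp
      have hPK : P ≤ K1 := le_sup_left.trans le_sup_left
      have hQK : Q ≤ K1 := le_sup_right.trans le_sup_left
      rintro x ((hx | hx) | hx) y ((hy | hy) | hy)
      · exact triv hselfA hx hy
      · exact hPK (Subgroup.commutator_mem_commutator hx hy)
      · exact triv hAC hx hy
      · refine hPK ?_
        rw [hPdef, Subgroup.commutator_comm]; exact Subgroup.commutator_mem_commutator hx hy
      · exact triv (RootSub.commutator_self hS hB) hx hy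
      · exact hQK (Subgroup.commutator_mem_commutator hx hy)
      · exact triv hCA hx hy
      · refine hQK ?_
        rw [hQdef, Subgroup.commutator_comm]; exact Subgroup.commutator_mem_commutator hx hy
      · exact triv hselfC hx hy
    refine Subgroup.nilpotent_iff_lowerCentralSeries.2 ⟨4, ?_⟩
    have hm : ∀ U : Subgroup ↥R, (⁅U, (⊤ : Subgroup ↥R)⁆).map R.subtype = ⁅U.map R.subtype, R⁆ := by
      intro U
      rw [Subgroup.map_commutator, ← MonoidHom.range_eq_map, Subgroup.range_subtype]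
    have l1 : (Subgroup.lowerCentralSeries (⊤ : Subgroup ↥R) 1).map R.subtype ≤ K1 := by
      rw [Subgroup.lowerCentralSeries_succ, Subgroup.lowerCentralSeries_zero, hm,
        ← MonoidHom.range_eq_map, Subgroup.range_subtype]
      exact h0k
    have l2 : (Subgroup.lowerCentralSeries (⊤ : Subgroup ↥R) 2).map R.subtype ≤ K2 := by
      rw [Subgroup.lowerCentralSeries_succ, hm]
      exact (Subgroup.commutator_mono l1 le_rfl).trans h1k
    have l3 : (Subgroup.lowerCentralSeries (⊤ : Subgroup ↥R) 3).map R.subtype ≤ K3 := by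
      rw [Subgroup.lowerCentralSeries_succ, hm]
      exact (Subgroup.commutator_mono l2 le_rfl).trans h2k
    have l4 : (Subgroup.lowerCentralSeries (⊤ : Subgroup ↥R) 4).map R.subtype ≤ ⊥ := by
      rw [Subgroup.lowerCentralSeries_succ, hm]
      exact (Subgroup.commutator_mono l3 le_rfl).trans h3.le
    exact (Subgroup.map_eq_bot_iff_of_injective _ R.subtype_injective).1 (le_bot_iff.1 l4)

end Cfsg.Agent.S5030
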