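import Cfsg.Statements.S5034
import Cfsg.Agent.Lib.RootSubConn
-- import your own Cfsg.Agent.* helpers here

set_option autoImplicit false
open Cfsg

namespace Cfsg.Agent.S5034

/-- Let S be a non-degenerate class of abstract root subgroups of G, A ∈ S and B a rank one partner of A. Then some line partner C of A has ⁅B, C⁆ ∈ S, and the rank one pair A, B is special. -/
theorem result {G : Type*} [Group G] {S : Set (Subgroup G)} (hS : Cfsg.IsRootSubgroupClass S) (hnd : Cfsg.IsNondegenerateRootSet S)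
    {A B : Subgroup G} (hA : A ∈ S) (hB : B ∈ Cfsg.rankOnePartners S A) :
    (∃ C ∈ Cfsg.linePartners S A, C ∈ Cfsg.commutatorPartners S B) ∧ Cfsg.IsSpecialRankOnePair A B := by
  obtain ⟨hB, hAB⟩ := hB
  obtain ⟨-, hp0, A₀, hA₀, E, hE, hrc⟩ := hnd
  obtain ⟨g, hg⟩ := hS.2.2 _ hrc.1 A hA
  have hl : RootSubConn.IsLine S A (conjBy A₀ g) := by
    rw [hg]; exact RootSubConn.isLine_conjBy hS.1 (RootSubConn.isLine_of_rc hS.1 hA₀ hrc).symm g
  obtain ⟨M, hM, hMle, hMA, hMB⟩ := RootSubConn.exists_nonpartner hS.1 hB hAB hl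
  obtain ⟨hrcF, heF⟩ := RootSubConn.line_structure hS.1 hB hAB hl hM hMle hMA hMB
  refine ⟨⟨M, ⟨⟨hM, hMA, RootSubConn.members_commute hS.1 hl le_sup_left hMle⟩, ?_⟩,
    hM, ?_⟩, hAB, ?_⟩
  · have := RootSubLine.partition_line hS.1 hA hB hAB hrcF
    rwa [heF] at this
  · rw [Subgroup.commutator_comm]; exact hMB.1
  intro a ha ha1 b hb hb1 he
  set F := ⁅M, B⁆ with hF
  have h1 := RootSub.rc_symm hrcF
  have hFA : ⁅F, A⁆ = M := by rw [Subgroup.commutator_comm]; exact heF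
  have hBM : ⁅B, M⁆ = F := Subgroup.commutator_comm _ _
  have h2 : RootCommutatorCase S B ⁅F, A⁆ := by rw [hFA]; exact RootSub.rc_symm hMB
  have hDC : ⁅B, ⁅F, A⁆⁆ = F := by rw [hFA]; exact hBM
  have hset := (RootSubLine.fix_transport hS.1 h1 h2 hDC
    (Subgroup.mem_sup_right (S := A) (inv_mem hb)) (Subgroup.mem_sup_left (inv_mem ha))).1 he
  rw [hFA] at hset
  have hinf : ∀ x, x ∈ F → x ∈ M → x = 1 := fun x hx hx' => by
    have := RootSubLine.inf_line_eq_bot hS.1 h1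
    rw [hFA] at this
    exact Subgroup.mem_bot.1 (this ▸ Subgroup.mem_inf.2 ⟨hx, hx'⟩)
  have hα : ∀ f ∈ F, a * f * a⁻¹ * f⁻¹ ∈ M := fun f hf => by
    rw [← heF]; exact Subgroup.commutator_mem_commutator ha hf
  have hβ : ∀ m ∈ M, b * m * b⁻¹ * m⁻¹ ∈ F := fun m hm => by
    rw [← hBM]; exact Subgroup.commutator_mem_commutator hb hm
  have hαβ : ∀ m ∈ M, a * (b * m * b⁻¹ * m⁻¹) * a⁻¹ * (b * m * b⁻¹ * m⁻¹)⁻¹ = m := by
    intro m hm
    have hm' : b⁻¹ * m * b ∈ conjBy M b⁻¹ := by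
      rw [RankOne.mem_conjBy]; simpa [mul_assoc] using hm
    rw [hset, RankOne.mem_conjBy, inv_inv] at hm'
    set f := a * (b⁻¹ * m * b) * a⁻¹ with hfdef
    set t := b * m * b⁻¹ * m⁻¹ with ht
    have htb : Commute b t := (RootSub.elem_comm (RootSub.rc_comm_right hMB) (hβ m hm) hb).symm
    have htm : Commute t m := RootSub.elem_comm (RootSub.rc_comm_left hMB) (hβ m hm) hm
    have e1 : b⁻¹ * m * b = t⁻¹ * m := by
      have h6 : b * (t⁻¹ * m) * b⁻¹ = m := by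
        calc b * (t⁻¹ * m) * b⁻¹ = (b * t⁻¹) * m * b⁻¹ := by group
          _ = (t⁻¹ * b) * m * b⁻¹ := by rw [htb.inv_right.eq]
          _ = t⁻¹ * (t * m) := by rw [ht]; group
          _ = m := by group
      calc b⁻¹ * m * b = b⁻¹ * (b * (t⁻¹ * m) * b⁻¹) * b := by rw [h6]
        _ = t⁻¹ * m := by group
    have ham : Commute a m := RootSub.elem_comm (RootSubConn.members_commute hS.1 hl le_sup_left hMle) ha hm
    have e2 : f = (a * t * a⁻¹ * t⁻¹)⁻¹ * m * t⁻¹ := by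
      have hum : Commute (a * t * a⁻¹ * t⁻¹)⁻¹ m :=
        (show Commute (a * t * a⁻¹ * t⁻¹) m from
          RootSub.comm_of_mem hS.1 hM (hα _ (hβ m hm)) hm).inv_left
      calc f = (a * t⁻¹ * a⁻¹) * (a * m * a⁻¹) := by rw [hfdef, e1]; group
        _ = (a * t⁻¹ * a⁻¹) * m := by rw [ham.eq]; group
        _ = t⁻¹ * (a * t * a⁻¹ * t⁻¹)⁻¹ * m := by group
        _ = t⁻¹ * ((a * t * a⁻¹ * t⁻¹)⁻¹ * m) := by group
        _ = ((a * t * a⁻¹ * t⁻¹)⁻¹ * m) * t⁻¹ :=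
          RootSub.elem_comm (RootSub.rc_comm_left hMB) (inv_mem (hβ m hm))
            (mul_mem (inv_mem (hα _ (hβ m hm))) hm)
    have hfF : (a * t * a⁻¹ * t⁻¹)⁻¹ * m ∈ F := by
      have := mul_mem hm' (hβ m hm)
      rw [e2, inv_mul_cancel_right] at this
      exact this
    exact inv_mul_eq_one.1 (hinf _ hfF (mul_mem (inv_mem (hα _ (hβ m hm))) hm))
  have hu : a * b⁻¹ * a * b * a⁻¹ * b ∈ B := by
    have h3 : b⁻¹ * a * b ∈ conjBy A b⁻¹ := by
      rw [RankOne.mem_conjBy]; simpa [mul_assoc] using ha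
    rw [he, RankOne.mem_conjBy, inv_inv] at h3
    simpa [mul_assoc] using mul_mem h3 hb
  have hu1 : a * b⁻¹ * a * b * a⁻¹ * b = 1 := by
    refine RootSub.rc_inj_left hS.1 (RootSub.rc_symm hMB) hu fun m hm => ?_
    set t := b * m * b⁻¹ * m⁻¹ with ht
    have htF := hβ m hm
    have htb : Commute b t := (RootSub.elem_comm (RootSub.rc_comm_right hMB) htF hb).symm
    have htm : Commute t m := RootSub.elem_comm (RootSub.rc_comm_left hMB) htF hm
    have ham : Commute a m := RootSub.elem_comm (RootSubConn.members_commute hS.1 hl le_sup_left hMle) ha hm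
    have s1 : b * m * b⁻¹ = t * m := by rw [ht]; group
    have s2 : a⁻¹ * (t * m) * a = t := by
      have := hαβ m hm
      calc a⁻¹ * (t * m) * a = a⁻¹ * (m * t) * a := by rw [htm.eq]
        _ = a⁻¹ * ((a * t * a⁻¹ * t⁻¹) * t) * a := by rw [this]
        _ = t := by group
    have s4 : a * t * a⁻¹ = m * t := by
      have := hαβ m hm
      calc a * t * a⁻¹ = (a * t * a⁻¹ * t⁻¹) * t := by group
        _ = m * t := by rw [this]
    have s5 : b⁻¹ * (m * t) * b = m := by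
      calc b⁻¹ * (m * t) * b = b⁻¹ * (t * m) * b := by rw [htm.eq]
        _ = b⁻¹ * (b * m * b⁻¹) * b := by rw [s1]
        _ = m := by group
    have hconj : (a * b⁻¹ * a * b * a⁻¹ * b) * m * (a * b⁻¹ * a * b * a⁻¹ * b)⁻¹ = m := by
      calc (a * b⁻¹ * a * b * a⁻¹ * b) * m * (a * b⁻¹ * a * b * a⁻¹ * b)⁻¹
          = a * (b⁻¹ * (a * (b * (a⁻¹ * (b * m * b⁻¹) * a) * b⁻¹) * a⁻¹) * b) * a⁻¹ := by group
        _ = a * m * a⁻¹ := by rw [s1, s2, htb.eq, mul_inv_cancel_right, s4, s5]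
        _ = m := by rw [ham.eq, mul_inv_cancel_right]
    rwa [mul_inv_eq_iff_eq_mul] at hconj
  calc b⁻¹ * a * b = a⁻¹ * (a * b⁻¹ * a * b * a⁻¹ * b) * b⁻¹ * a := by group
    _ = a⁻¹ * b⁻¹ * a := by rw [hu1]; group

end Cfsg.Agent.S5034
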