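import Cfsg.Statements.S5035
import Cfsg.Agent.Lib.RootSubConn
-- import your own Cfsg.Agent.* helpers here

set_option autoImplicit false
open Cfsg

namespace Cfsg.Agent.S5035

/-- Let S be a set of abstract root subgroups of G whose graph of rank one pairs is connected, and f a homomorphism from G onto a group H. Then either the images of the members of S form a set of abstract root subgroups of H whose graph of rank one pairs is again connected, or H equals the image of a member of S. -/
theorem result {G H : Type*} [Group G] [Group H] {S : Set (Subgroup G)} (hS : Cfsg.IsRootSubgroupSet S)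
    (hc : Cfsg.IsConnectedFamily (Cfsg.FAdj S) S) (f : G →* H) (hf : Function.Surjective f) :
    (Cfsg.IsRootSubgroupSet ((fun A : Subgroup G => A.map f) '' S) ∧
      Cfsg.IsConnectedFamily (Cfsg.FAdj ((fun A : Subgroup G => A.map f) '' S)) ((fun A : Subgroup G => A.map f) '' S)) ∨
    ∃ A ∈ S, A.map f = ⊤ := by
  by_cases hk : ∃ A ∈ S, ∃ x ∈ A, x ≠ 1 ∧ f x = 1
  · obtain ⟨A, hA, hker⟩ := hk
    right
    refine ⟨A, hA, ?_⟩
    have main : ∀ B, Relation.ReflTransGen (FAdj S) A B →
        B ∈ S ∧ B.map f = A.map f ∧ ∃ x ∈ B, x ≠ 1 ∧ f x = 1 := by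
      intro B hB
      induction hB with
      | refl => exact ⟨hA, rfl, hker⟩
      | @tail B C _ h ih =>
        obtain ⟨hBS, hBA, b, hb, hb1, hfb⟩ := ih
        obtain ⟨c, hc, -, he⟩ := h.2.2.cond_left b hb hb1
        -- `C` is the conjugate of `B` by `b * c⁻¹`
        have hC : C = conjBy B (b * c⁻¹) := by
          rw [← RankOne.conjBy_mul, he, RankOne.conjBy_conjBy_inv]
        have him : C.map f = (conjBy B c⁻¹).map f := by
          rw [he]
          ext y
          constructor
          · rintro ⟨w, hw, rfl⟩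
            refine ⟨b⁻¹ * w * b, ?_, by simp [hfb]⟩
            exact RankOne.mem_conjBy.2 (show b⁻¹⁻¹ * (b⁻¹ * w * b) * b⁻¹ ∈ C by
              simpa [mul_assoc] using hw)
          · rintro ⟨w, hw, rfl⟩
            exact ⟨b⁻¹⁻¹ * w * b⁻¹, RankOne.mem_conjBy.1 hw, by simp [hfb]⟩
        have hBC : B.map f = C.map f := by
          ext y
          constructor
          · rintro ⟨u, hu, rfl⟩
            have hm : f (c⁻¹ * u * c) ∈ C.map f := by
              rw [him]
              refine ⟨_, RankOne.mem_conjBy.2 ?_, rfl⟩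
              simpa [mul_assoc] using hu
            obtain ⟨w, hw, hwe⟩ := hm
            refine ⟨c * w * c⁻¹, mul_mem (mul_mem hc hw) (inv_mem hc), ?_⟩
            rw [map_mul, map_mul, hwe]; simp [mul_assoc]
          · rintro ⟨w, hw, rfl⟩
            have hm : f (c⁻¹ * w * c) ∈ (conjBy B c⁻¹).map f := by
              rw [← him]; exact ⟨_, mul_mem (mul_mem (inv_mem hc) hw) hc, rfl⟩
            obtain ⟨v, hv, hve⟩ := hm
            rw [SetLike.mem_coe, RankOne.mem_conjBy, inv_inv] at hv
            refine ⟨_, hv, ?_⟩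
            rw [map_mul, map_mul, hve]; simp [mul_assoc]
        refine ⟨h.2.1, hBC.symm.trans hBA, (b * c⁻¹) * b * (b * c⁻¹)⁻¹, ?_, ?_, by simp [hfb]⟩
        · rw [hC, RankOne.mem_conjBy]; simpa [mul_assoc] using hb
        · intro h0; exact hb1 (conj_eq_one_iff.1 h0)
    have hall : ∀ B ∈ S, B.map f = A.map f := fun B hB => (main B (hc A hA B hB)).2.1
    rw [eq_top_iff, ← Subgroup.map_top_of_surjective f hf, ← hS.generates]
    simp only [Subgroup.map_iSup]
    exact iSup₂_le fun B hB => (hall B hB).le
  · push Not at hk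
    left
    have hinj : ∀ A ∈ S, ∀ x ∈ A, f x = 1 → x = 1 := fun A hA x hx h => by
      by_contra h1; exact hk A hA x hx h1 h
    have hconj : ∀ (A : Subgroup G) (g : G), (conjBy A g).map f = conjBy (A.map f) (f g) := by
      intro A g
      simp only [conjBy, Subgroup.map_map]
      congr 1
      ext x; simp
    have hcomm : ∀ A ∈ S, IsMulCommutative ↥(A.map f) := fun A hA => ⟨⟨by
      rintro ⟨x, u, hu, rfl⟩ ⟨y, v, hv, rfl⟩
      exact Subtype.ext (by
        show f u * f v = f v * f u
        rw [← map_mul, ← map_mul, RootSub.comm_of_mem hS hA hu hv])⟩⟩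
    have hnil : ∀ A ∈ S, Group.IsNilpotent ↥(A.map f) := fun A hA =>
      @CommGroup.isNilpotent _ { (inferInstance : Group ↥(A.map f)) with mul_comm := (hcomm A hA).is_comm.comm }
    have hne : ∀ A ∈ S, A.map f ≠ ⊥ := fun A hA h => hS.ne_bot A hA <| by
      rw [eq_bot_iff]
      intro x hx
      exact Subgroup.mem_bot.2 (hinj A hA x hx (Subgroup.mem_bot.1 (h ▸ Subgroup.mem_map_of_mem f hx)))
    have hpair : ∀ A ∈ S, ∀ B ∈ S, IsRankOnePair A B → A.map f ≠ B.map f →
        IsRankOnePair (A.map f) (B.map f) := by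
      intro A hA B hB h hne'
      have key : ∀ {P Q : Subgroup G}, Q ∈ S → RankOneCondition P Q →
          RankOneCondition (P.map f) (Q.map f) := by
        rintro P Q hQ hPQ - ⟨a, ha, rfl⟩ ha1
        obtain ⟨q, hq, hq1, he⟩ := hPQ a ha (fun h0 => ha1 (by rw [h0, map_one]))
        refine ⟨f q, Subgroup.mem_map_of_mem f hq, fun h0 => hq1 (hinj Q hQ q hq h0), ?_⟩
        rw [← map_inv, ← map_inv, ← hconj, ← hconj, he]
      exact ⟨hne', hnil A hA, hnil B hB, key hB h.cond_left, key hA h.cond_right⟩
    refine ⟨⟨?_, ?_, ?_, ?_, ?_⟩, ?_⟩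
    · rintro - ⟨A, hA, rfl⟩; exact hcomm A hA
    · rintro - ⟨A, hA, rfl⟩; exact hne A hA
    · rw [iSup_image, eq_top_iff, ← Subgroup.map_top_of_surjective f hf, ← hS.generates]
      simp only [Subgroup.map_iSup]; exact le_rfl
    · rintro - ⟨A, hA, rfl⟩ h
      obtain ⟨g, rfl⟩ := hf h
      exact ⟨conjBy A g, hS.conj_mem A hA g, hconj A g⟩
    · rintro - ⟨A, hA, rfl⟩ - ⟨B, hB, rfl⟩
      simp only
      by_cases heq : A.map f = B.map f
      · left
        rw [← heq]
        refine RankOne.commutator_eq_bot_of_comm fun x hx y hy => ?_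
        exact congrArg Subtype.val ((hcomm A hA).is_comm.comm ⟨x, hx⟩ ⟨y, hy⟩)
      rcases hS.pair A hA B hB with h | h | h
      · left; rw [← Subgroup.map_commutator, h, Subgroup.map_bot]
      · exact Or.inr (Or.inl (hpair A hA B hB h heq))
      · right; right
        refine ⟨⟨_, h.1, Subgroup.map_commutator A B f⟩, ?_, ?_, ?_⟩
        · rw [← Subgroup.map_commutator, ← Subgroup.map_sup]
          rintro - ⟨c, hc, rfl⟩ - ⟨x, hx, rfl⟩
          rw [← map_mul, ← map_mul, h.2.1 c hc x hx]
        · rintro - ⟨a, ha, rfl⟩ ha1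
          rw [← Subgroup.map_commutator, ← h.2.2.1 a ha (fun h0 => ha1 (by rw [h0, map_one])),
            MonoidHom.map_closure, ← Set.image_comp, Subgroup.coe_map, ← Set.image_comp]
          congr 1
          exact Set.image_congr fun b _ => by simp
        · rintro - ⟨b, hb, rfl⟩ hb1
          rw [← Subgroup.map_commutator, ← h.2.2.2 b hb (fun h0 => hb1 (by rw [h0, map_one])),
            MonoidHom.map_closure, ← Set.image_comp, Subgroup.coe_map, ← Set.image_comp]
          congr 1
          exact Set.image_congr fun a _ => by simp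
    · rintro - ⟨A, hA, rfl⟩ - ⟨B, hB, rfl⟩
      have main : ∀ B, Relation.ReflTransGen (FAdj S) A B → Relation.ReflTransGen
          (FAdj ((fun A : Subgroup G => A.map f) '' S)) (A.map f) (B.map f) := by
        intro B hB
        induction hB with
        | refl => exact Relation.ReflTransGen.refl
        | @tail B C _ h ih =>
          by_cases heq : B.map f = C.map f
          · rw [← heq]; exact ih
          · exact ih.tail ⟨⟨B, h.1, rfl⟩, ⟨C, h.2.1, rfl⟩, hpair B h.1 C h.2.1 h.2.2 heq⟩
      exact main B (hc A hA B hB)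

end Cfsg.Agent.S5035
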