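import Cfsg.Statements.S5037
import Cfsg.Agent.Lib.RootSubConn
-- import your own Cfsg.Agent.* helpers here

set_option autoImplicit false
open Cfsg

namespace Cfsg.Agent.S5037

/-- Let S be a class of abstract root subgroups of G that is either degenerate or non-degenerate (so either the commutator case never occurs, or all three cases occur), and A ≠ C members of S. If every member of S commuting with A commutes with C, then A and C have the same commuting members of S; and if every rank one partner of A is a rank one partner of C, then A and C commute and have the same rank one partners. -/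
theorem result {G : Type*} [Group G] {S : Set (Subgroup G)} (hS : Cfsg.IsRootSubgroupClass S)
    (hdn : Cfsg.IsDegenerateRootSet S ∨ Cfsg.IsNondegenerateRootSet S)
    {A C : Subgroup G} (hA : A ∈ S) (hC : C ∈ S) (hAC : A ≠ C) :
    (Cfsg.centralizingMembers S A ⊆ Cfsg.centralizingMembers S C →
      Cfsg.centralizingMembers S A = Cfsg.centralizingMembers S C) ∧
    (Cfsg.rankOnePartners S A ⊆ Cfsg.rankOnePartners S C →
      ⁅A, C⁆ = ⊥ ∧ Cfsg.rankOnePartners S A = Cfsg.rankOnePartners S C) := by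
  obtain ⟨hroot, hclass⟩ := hS
  by_cases hp0 : ∃ P ∈ S, ∃ Q ∈ S, IsRankOnePair P Q
  swap
  · have hdeg : IsDegenerateRootSet S := hdn.resolve_right fun h => hp0 h.2.1
    have hall : ∀ P ∈ S, ∀ Q ∈ S, ⁅P, Q⁆ = ⊥ := by
      intro P hP Q hQ
      rcases hroot.pair P hP Q hQ with h | h | h
      · exact h
      · exact absurd ⟨P, hP, Q, hQ, h⟩ hp0
      · exact absurd h (hdeg P hP Q hQ)
    refine ⟨fun _ => ?_, fun _ => ⟨hall A hA C hC, ?_⟩⟩
    · ext E
      exact ⟨fun h => ⟨h.1, RankOne.le_centralizer_of_commutator_eq_bot (hall E h.1 C hC)⟩,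
        fun h => ⟨h.1, RankOne.le_centralizer_of_commutator_eq_bot (hall E h.1 A hA)⟩⟩
    · ext E
      exact ⟨fun h => absurd ⟨A, hA, E, h.1, h.2⟩ hp0, fun h => absurd ⟨C, hC, E, h.1, h.2⟩ hp0⟩
  have partner : ∀ {P : Subgroup G}, P ∈ S → ∃ D ∈ S, IsRankOnePair P D := fun hP =>
    RootSubConn.class_partner ⟨hroot, hclass⟩ hp0 hP
  -- two commuting members with a common partner: `g` moves `A` to `C` and `C` to `A^ε`
  have dual : ∀ {D₀ : Subgroup G}, D₀ ∈ S → IsRankOnePair A D₀ → IsRankOnePair C D₀ → ⁅A, C⁆ = ⊥ →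
      ∃ g : G, ∃ ε ∈ D₀, conjBy A g = C ∧ conjBy C g = conjBy A ε := by
    intro D₀ hD₀ hpA hpC hc
    obtain ⟨d, hd, hd1⟩ := RootSub.exists_ne_one hroot hD₀
    obtain ⟨α, hα, hα1, heα⟩ := hpA.cond_right d hd hd1
    obtain ⟨γ, hγ, hγ1, heγ⟩ := hpC.cond_right d hd hd1
    obtain ⟨δ', hδ', -, heδ'⟩ := hpC.cond_left γ⁻¹ (inv_mem hγ) (inv_ne_one.2 hγ1)
    obtain ⟨ds, hds, -, heds⟩ := hpA.cond_left α⁻¹ (inv_mem hα) (inv_ne_one.2 hα1)
    rw [inv_inv] at heδ' heds
    refine ⟨δ' * γ * (α * d⁻¹), δ' * ds⁻¹, mul_mem hδ' (inv_mem hds), ?_, ?_⟩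
    · rw [← RankOne.conjBy_mul A (δ' * γ), ← RankOne.conjBy_mul A α d⁻¹, ← heα,
        RankOne.conjBy_conjBy_inv, ← RankOne.conjBy_mul, ← heδ', RankOne.conjBy_conjBy_inv]
    · have hcomm : γ * (α * γ⁻¹) = α := by
        rw [← mul_assoc, ← RootSub.elem_comm hc hα hγ, mul_inv_cancel_right]
      rw [← RankOne.conjBy_mul C (δ' * γ), ← RankOne.conjBy_mul C α d⁻¹, ← heγ,
        RankOne.conjBy_mul D₀ α, RankOne.conjBy_mul, mul_assoc, hcomm, ← RankOne.conjBy_mul,
        ← heds, RankOne.conjBy_mul]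
  constructor
  · intro hsub
    have hcAC : ⁅A, C⁆ = ⊥ := Subgroup.commutator_eq_bot_iff_le_centralizer.2
      (hsub ⟨hA, RankOne.le_centralizer_of_commutator_eq_bot (RootSub.commutator_self hroot hA)⟩).2
    obtain ⟨D₀, hD₀, hpC⟩ := partner hC
    have hpA : IsRankOnePair A D₀ := by
      rcases hroot.pair A hA D₀ hD₀ with h | h | h
      · exfalso
        refine RankOne.commutator_ne_bot hpC ?_
        rw [Subgroup.commutator_comm] at h ⊢
        exact Subgroup.commutator_eq_bot_iff_le_centralizer.2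
          (hsub ⟨hD₀, RankOne.le_centralizer_of_commutator_eq_bot h⟩).2
      · exact h
      · exfalso
        obtain ⟨a, ha, ha1⟩ := RootSub.exists_ne_one hroot hA
        obtain ⟨d, hd, hd1⟩ := RootSub.exists_ne_one hroot hD₀
        have hWC : ⁅⁅A, D₀⁆, C⁆ = ⊥ := Subgroup.commutator_eq_bot_iff_le_centralizer.2
          (hsub ⟨h.1, RankOne.le_centralizer_of_commutator_eq_bot (RootSub.rc_comm_left h)⟩).2
        have hw : a * d * a⁻¹ * d⁻¹ ∈ ⁅A, D₀⁆ := Subgroup.commutator_mem_commutator ha hd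
        by_cases hw1 : a * d * a⁻¹ * d⁻¹ = 1
        · rw [mul_inv_eq_one, mul_inv_eq_iff_eq_mul] at hw1
          exact hd1 (RootSub.rc_inj hroot hA (Classical.choose_spec (partner hA)).1
            (Classical.choose_spec (partner hA)).2 h ha ha1 hd hw1)
        refine RootSub.not_root_of_centralizes hroot hD₀ hC (RankOnePair_symm hpC)
          (z := a * d * a⁻¹ * d⁻¹) ?_ hw1 hd hd1 (hroot.conj_mem D₀ hD₀ a) ?_
        · have hle : D₀ ⊔ C ≤ Subgroup.centralizer ({a * d * a⁻¹ * d⁻¹} : Set G) := by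
            refine sup_le (fun y hy => ?_) (fun y hy => ?_) <;>
              refine Subgroup.mem_centralizer_iff.2 fun w hw' => ?_ <;>
              rw [Set.mem_singleton_iff.1 hw']
            · exact RootSub.elem_comm (RootSub.rc_comm_right h) hw hy
            · exact RootSub.elem_comm hWC hw hy
          exact Subgroup.mem_centralizer_iff.2 fun y hy =>
            (Subgroup.mem_centralizer_iff.1 (hle hy) _ rfl).symm
        · rw [inv_mul_cancel_right, RankOne.mem_conjBy]; simpa [mul_assoc] using hd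
    obtain ⟨g, ε, hε, hgA, hgC⟩ := dual hD₀ hpA hpC hcAC
    have move : ∀ {X Y : Subgroup G} (x : G), centralizingMembers S X ⊆ centralizingMembers S Y →
        centralizingMembers S (conjBy X x) ⊆ centralizingMembers S (conjBy Y x) := by
      intro X Y x hXY E hE
      have h5 : conjBy E x⁻¹ ∈ centralizingMembers S X := by
        refine ⟨hroot.conj_mem E hE.1 _, RankOne.le_centralizer_of_commutator_eq_bot ?_⟩
        have h8 := RankOne.commutator_conjBy_eq_bot (g := x⁻¹)
          (Subgroup.commutator_eq_bot_iff_le_centralizer.2 hE.2)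
        rwa [RankOne.conjBy_inv_conjBy] at h8
      have h6 := RankOne.commutator_conjBy_eq_bot (g := x)
        (Subgroup.commutator_eq_bot_iff_le_centralizer.2 (hXY h5).2)
      rw [RankOne.conjBy_conjBy_inv] at h6
      exact ⟨hE.1, RankOne.le_centralizer_of_commutator_eq_bot h6⟩
    have h1 := move g hsub
    rw [hgA, hgC] at h1
    by_cases hε1 : ε = 1
    · rw [hε1, RankOne.conjBy_one] at h1
      exact hsub.antisymm h1
    exfalso
    have h2 := move ε⁻¹ h1
    rw [RankOne.conjBy_inv_conjBy] at h2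
    have h3 := hsub (h2 ⟨hroot.conj_mem C hC ε⁻¹, RankOne.le_centralizer_of_commutator_eq_bot
      (RootSub.commutator_self hroot (hroot.conj_mem C hC _))⟩)
    exact RankOne.commutator_ne_bot (RootSubConn.pair_conj_ne (RankOnePair_symm hpC) (inv_mem hε)
      (inv_ne_one.2 hε1)) (Subgroup.commutator_eq_bot_iff_le_centralizer.2 h3.2)
  · intro hsub
    have hcAC : ⁅A, C⁆ = ⊥ := by
      rcases hroot.pair A hA C hC with h | h | h
      · exact h
      · exact absurd (hsub ⟨hC, h⟩).2 fun h0 => h0.ne rfl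
      · exfalso
        obtain ⟨DA, hDA, hpA⟩ := partner hA
        obtain ⟨DC, hDC, hpC⟩ := partner hC
        obtain ⟨DW, hDW, hpW⟩ := partner h.1
        have hl := RootSubConn.isLine_of_rc hroot hA h
        obtain ⟨M₀, hM₀, hM₀le, hM₀W, hM₀D⟩ := RootSubConn.exists_nonpartner hroot hDW hpW hl.symm
        obtain ⟨h1, he1⟩ := RootSubConn.line_structure hroot hDW hpW hl.symm hM₀ hM₀le hM₀W hM₀D
        have hMm : M₀ ∈ membersIn S (A ⊔ ⁅A, C⁆) := ⟨hM₀, by rw [sup_comm] at hM₀le; exact hM₀le⟩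
        rw [RootSubLine.members_line hroot hA hDA hpA h] at hMm
        rcases hMm with ⟨c₀, hc₀, hMe⟩ | hMe
        swap
        · exact hM₀W (Set.mem_singleton_iff.1 hMe)
        simp only at hMe
        set E := conjBy ⁅M₀, DW⁆ c₀⁻¹ with hE
        have hWE : RootCommutatorCase S ⁅A, C⁆ E := by
          have := RootSub.rc_conjBy hroot h1 c₀⁻¹
          rwa [RootSubLine.fixed_line h (inv_mem hc₀)] at this
        have hWEA : ⁅⁅A, C⁆, E⁆ = A := by
          rw [hE]
          nth_rw 1 [← RootSubLine.fixed_line h (inv_mem hc₀)]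
          rw [RankOne.commutator_conjBy, he1, ← hMe, RankOne.conjBy_inv_conjBy]
        -- a partner of `A` that is also a partner of `[A,C]`
        obtain ⟨D, hD, hAD, hWD⟩ : ∃ D ∈ S, IsRankOnePair A D ∧ IsRankOnePair ⁅A, C⁆ D := by
          obtain ⟨M, hM, hMle, hMA, hMD⟩ := RootSubConn.exists_nonpartner hroot hDA hpA hl
          by_cases hWM : ⁅A, C⁆ = M
          swap
          · exact ⟨DA, hDA, hpA, RootSubConn.nonpartner_unique hroot hDA hpA hl hDW hpW hM hMle hMA
              hMD h.1 le_sup_right hWM⟩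
          obtain ⟨e, he, he1'⟩ := RootSub.exists_ne_one hroot (hroot.conj_mem _ hM₀D.1 c₀⁻¹)
          rw [← hE] at he
          have hPle : conjBy ⁅A, C⁆ e⁻¹ ≤ A ⊔ ⁅A, C⁆ := by
            have h9 := RootSubLine.conj_le_line hWE (inv_mem he)
            rw [hWEA, sup_comm] at h9
            exact h9
          have h10 := RootSubConn.nonpartner_unique hroot hDA hpA hl hDW hpW hM hMle hMA hMD
            (hroot.conj_mem _ h.1 e⁻¹) hPle (fun h0 => RootSubConn.conj_ne_self hroot hWE (inv_mem he)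
              (inv_ne_one.2 he1') (h0.trans hWM.symm))
          refine ⟨conjBy DA e, hroot.conj_mem _ hDA e, ?_, ?_⟩
          · have h11 := RankOne.isRankOnePair_conjBy hpA e
            have h12 := RootSubLine.fixed_line hWE he
            rw [hWEA] at h12
            rwa [h12] at h11
          · have h11 := RankOne.isRankOnePair_conjBy h10 e
            rwa [RankOne.conjBy_conjBy_inv] at h11
        have hl2 := RootSubConn.isLine_of_rc hroot hC (RootSub.rc_symm h)
        rw [Subgroup.commutator_comm C A] at hl2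
        obtain ⟨M', hM', hM'le, hM'W, hM'D⟩ := RootSubConn.exists_nonpartner hroot hD hWD hl2.symm
        have hMm' : M' ∈ membersIn S (C ⊔ ⁅C, A⁆) := ⟨hM', by
          rw [Subgroup.commutator_comm C A, sup_comm]; exact hM'le⟩
        rw [RootSubLine.members_line hroot hC hDC hpC (RootSub.rc_symm h)] at hMm'
        rcases hMm' with ⟨a₀, ha₀, hMe'⟩ | hMe'
        · simp only at hMe'
          have hAD' := RankOne.isRankOnePair_conjBy hAD a₀⁻¹
          rw [RankOne.conjBy_of_mem (inv_mem ha₀)] at hAD'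
          have hCD' := RootSub.rc_conjBy hroot hM'D a₀⁻¹
          rw [← hMe', RankOne.conjBy_inv_conjBy] at hCD'
          exact RootSub.rc_not_rankOne hroot (hroot.conj_mem D hD a₀⁻¹) hCD'
            (hsub ⟨hroot.conj_mem D hD a₀⁻¹, hAD'⟩).2
        · rw [Set.mem_singleton_iff, Subgroup.commutator_comm C A] at hMe'
          exact hM'W hMe'
    refine ⟨hcAC, hsub.antisymm ?_⟩
    obtain ⟨D₀, hD₀, hpA⟩ := partner hA
    have hpC := (hsub ⟨hD₀, hpA⟩).2
    obtain ⟨g, ε, hε, hgA, hgC⟩ := dual hD₀ hpA hpC hcAC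
    have move : ∀ {X Y : Subgroup G} (x : G), rankOnePartners S X ⊆ rankOnePartners S Y →
        rankOnePartners S (conjBy X x) ⊆ rankOnePartners S (conjBy Y x) := by
      intro X Y x hXY E hE
      have h5 := RankOne.isRankOnePair_conjBy hE.2 x⁻¹
      rw [RankOne.conjBy_inv_conjBy] at h5
      have h6 := RankOne.isRankOnePair_conjBy (hXY ⟨hroot.conj_mem E hE.1 _, h5⟩).2 x
      rw [RankOne.conjBy_conjBy_inv] at h6
      exact ⟨hE.1, h6⟩
    have h1 := move g hsub
    rw [hgA, hgC] at h1
    by_cases hε1 : ε = 1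
    · rw [hε1, RankOne.conjBy_one] at h1
      exact h1
    exfalso
    have h2 := move ε⁻¹ h1
    rw [RankOne.conjBy_inv_conjBy] at h2
    exact RankOne.commutator_ne_bot (h2 ⟨hC, RootSubConn.pair_conj_ne (RankOnePair_symm hpC)
      (inv_mem hε) (inv_ne_one.2 hε1)⟩).2 hcAC

end Cfsg.Agent.S5037
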