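import Cfsg.Statements.S5038
import Cfsg.Agent.Lib.RootSubConn
-- import your own Cfsg.Agent.* helpers here

set_option autoImplicit false
open Cfsg

namespace Cfsg.Agent.S5038

/-- Let S be a set of abstract root subgroups of G in which every member has a rank one partner, A ∈ S and B a line partner of A. Then the subgroup generated by the members of S normalizing AB permutes the members of S inside AB doubly transitively by conjugation. -/
theorem result {G : Type*} [Group G] {S : Set (Subgroup G)} (hS : Cfsg.IsRootSubgroupSet S)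
    (hF : ∀ A ∈ S, ¬ Cfsg.IsIsolatedIn (Cfsg.FAdj S) S A) {A B : Subgroup G} (hA : A ∈ S) (hB : B ∈ Cfsg.linePartners S A) :
    ∀ C₁ ∈ Cfsg.membersIn S (A ⊔ B), ∀ C₂ ∈ Cfsg.membersIn S (A ⊔ B), ∀ D₁ ∈ Cfsg.membersIn S (A ⊔ B),
      ∀ D₂ ∈ Cfsg.membersIn S (A ⊔ B), C₁ ≠ C₂ → D₁ ≠ D₂ →
        ∃ x ∈ ⨆ E ∈ Cfsg.normalizingMembers S (A ⊔ B), E, Cfsg.conjBy C₁ x = D₁ ∧ Cfsg.conjBy C₂ x = D₂ := by
  set N := A ⊔ B with hN
  have hl := RootSubConn.isLine_of_linePartners hA hB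
  obtain ⟨D, hD, hp⟩ := RootSub.exists_partner (hF A hA) hA
  obtain ⟨DB, hDB, hpB⟩ := RootSub.exists_partner (hF B hl.right_mem) hl.right_mem
  obtain ⟨M, hM, hMle, hMA, hMD⟩ := RootSubConn.exists_nonpartner hS hD hp hl
  obtain ⟨h1, he1⟩ := RootSubConn.line_structure hS hD hp hl hM hMle hMA hMD
  have hNeq : N = A ⊔ M := RootSubConn.line_eq hS hD hp hl hDB hpB hM hMle hMA hMD
  set F := ⁅M, D⁆ with hFdef
  set H := ⨆ E ∈ normalizingMembers S N, E with hHdef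
  have hHN : ∀ x ∈ H, conjBy N x = N := fun x hx => RankOne.conjBy_eq_self_iff.2
    ((iSup₂_le fun E hE => hE.2 : H ≤ Subgroup.normalizer (N : Set G)) hx)
  have hHm : ∀ x ∈ H, ∀ E ∈ membersIn S N, conjBy E x ∈ membersIn S N := fun x hx E hE =>
    ⟨hS.conj_mem E hE.1 x, by rw [← hHN x hx]; exact Subgroup.map_mono hE.2⟩
  -- a member acting on a line `P ⊔ Q` by `[P,E] = Q` normalizes it
  have hnorm : ∀ {P E : Subgroup G}, RootCommutatorCase S P E → N = P ⊔ ⁅P, E⁆ → E ∈ S →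
      E ∈ normalizingMembers S N := by
    intro P E h hNPE hE
    refine ⟨hE, fun e he => ?_⟩
    have hle : ∀ e ∈ E, conjBy N e ≤ N := by
      intro e he
      rw [hNPE, RankOne.conjBy_sup, RootSubLine.fixed_line h he]
      exact sup_le (RootSubLine.conj_le_line h he) le_sup_right
    rw [← RankOne.conjBy_eq_self_iff]
    refine le_antisymm (hle e he) ?_
    have h3 := Subgroup.map_mono (f := (MulAut.conj e).toMonoidHom) (hle e⁻¹ (inv_mem he))
    change conjBy (conjBy _ e⁻¹) e ≤ _ at h3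
    rwa [RankOne.conjBy_conjBy_inv] at h3
  have hFH : F ≤ H := le_iSup₂_of_le F (hnorm h1 (by rw [he1]; exact hNeq) hMD.1) le_rfl
  have hMm : M ∈ membersIn S N := ⟨hM, hMle⟩
  have hmem : ∀ E ∈ membersIn S N, E ≠ M → ∃ f ∈ F, E = conjBy A f := by
    intro E hE hne
    rw [hNeq, ← he1, RootSubLine.members_line hS hA hD hp h1] at hE
    rcases hE with ⟨f, hf, rfl⟩ | hE
    · exact ⟨f, hf, rfl⟩
    · exact absurd ((Set.mem_singleton_iff.1 hE).trans he1) hne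
  -- move `M` away
  obtain ⟨g, hgH, hgM⟩ : ∃ g ∈ H, conjBy M g ≠ M := by
    have hl' : RootSubConn.IsLine S M A := by
      have := RootSubConn.isLine_of_rc hS hA h1
      rw [he1] at this
      exact this.symm
    obtain ⟨D', hD', hp'⟩ := RootSub.exists_partner (hF M hM) hM
    obtain ⟨M', hM', hMle', hM'ne, hMD'⟩ := RootSubConn.exists_nonpartner hS hD' hp' hl'
    obtain ⟨h2, he2⟩ := RootSubConn.line_structure hS hD' hp' hl' hM' hMle' hM'ne hMD'
    have hN2 : M ⊔ A = M ⊔ M' := RootSubConn.line_eq hS hD' hp' hl' hD hp hM' hMle' hM'ne hMD'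
    have hF'H : ⁅M', D'⁆ ≤ H := le_iSup₂_of_le _
      (hnorm h2 (by rw [he2, hNeq, ← hN2, sup_comm]) hMD'.1) le_rfl
    obtain ⟨e, he, he1'⟩ := RootSub.exists_ne_one hS hMD'.1
    exact ⟨e, hF'H he, RootSubConn.conj_ne_self hS h2 he he1'⟩
  have hAM : ∀ E ∈ membersIn S N, E ≠ M → ∃ x ∈ H, conjBy M x = M ∧ conjBy E x = A := by
    intro E hE hne
    obtain ⟨f, hf, rfl⟩ := hmem E hE hne
    refine ⟨f⁻¹, inv_mem (hFH hf), RankOne.conjBy_eq_self_iff.2 ?_, RankOne.conjBy_inv_conjBy A f⟩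
    exact Subgroup.centralizer_le_normalizer _
      (RankOne.le_centralizer_of_commutator_eq_bot (RootSub.rc_comm_left hMD) (inv_mem hf))
  have htoM : ∀ E ∈ membersIn S N, ∃ x ∈ H, conjBy E x = M := by
    intro E hE
    by_cases hne : E = M
    · exact ⟨1, one_mem H, by rw [RankOne.conjBy_one, hne]⟩
    obtain ⟨x, hx, -, hxE⟩ := hAM E hE hne
    obtain ⟨y, hy, -, hyE⟩ := hAM _ (hHm g hgH M hMm) hgM
    refine ⟨g⁻¹ * (y⁻¹ * x), mul_mem (inv_mem hgH) (mul_mem (inv_mem hy) hx), ?_⟩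
    rw [← RankOne.conjBy_mul, ← RankOne.conjBy_mul, hxE, ← hyE, RankOne.conjBy_inv_conjBy,
      RankOne.conjBy_inv_conjBy]
  have hpair : ∀ C₁ ∈ membersIn S N, ∀ C₂ ∈ membersIn S N, C₁ ≠ C₂ →
      ∃ x ∈ H, conjBy C₁ x = M ∧ conjBy C₂ x = A := by
    intro C₁ h₁ C₂ h₂ hne
    obtain ⟨x, hx, hxe⟩ := htoM C₁ h₁
    obtain ⟨y, hy, hyM, hye⟩ := hAM _ (hHm x hx C₂ h₂) (by
      rw [← hxe]
      exact fun h => hne (RankOne.conjBy_injective x h).symm)
    exact ⟨y * x, mul_mem hy hx, by rw [← RankOne.conjBy_mul, hxe, hyM],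
      by rw [← RankOne.conjBy_mul, hye]⟩
  intro C₁ h₁ C₂ h₂ D₁ k₁ D₂ k₂ hC hD'
  obtain ⟨x, hx, hx1, hx2⟩ := hpair C₁ h₁ C₂ h₂ hC
  obtain ⟨y, hy, hy1, hy2⟩ := hpair D₁ k₁ D₂ k₂ hD'
  refine ⟨y⁻¹ * x, mul_mem (inv_mem hy) hx, ?_, ?_⟩
  · rw [← RankOne.conjBy_mul, hx1, ← hy1, RankOne.conjBy_inv_conjBy]
  · rw [← RankOne.conjBy_mul, hx2, ← hy2, RankOne.conjBy_inv_conjBy]

end Cfsg.Agent.S5038
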