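import Cfsg.Statements.S5039
import Cfsg.Agent.Lib.RootSubSpecial
import Cfsg.Agent.S5034
import Cfsg.Agent.S5016
-- import your own Cfsg.Agent.* helpers here

set_option autoImplicit false
universe u
open Cfsg

namespace Cfsg.Agent.S5039

theorem exists_avoid {G : Type*} [Group G] {M : Subgroup G} (h : 4 < ENat.card M) (s : Finset G)
    (hs : s.card ≤ 4) : ∃ x, x ∈ M ∧ x ∉ s := by
  by_contra hc
  push Not at hc
  have h1 : ENat.card M ≤ ENat.card {x // x ∈ s} :=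
    ENat.card_le_card_of_injective (f := fun x : M => (⟨x.1, hc x.1 x.2⟩ : {x // x ∈ s}))
      (fun x y hxy => Subtype.ext (congrArg (fun z : {x // x ∈ s} => z.1) hxy))
  rw [ENat.card_eq_coe_fintype_card (α := {x // x ∈ s}), Fintype.card_coe] at h1
  exact absurd (h.trans_le (h1.trans (by exact_mod_cast hs))) (lt_irrefl _)

theorem image_eq {k G : Type*} [Field k] [Group G] {A : Subgroup G}
    {U : Subgroup (Matrix.SpecialLinearGroup (Fin 2) k)}
    (φ : Matrix.SpecialLinearGroup (Fin 2) k →* G)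
    (hker : φ.ker ≤ Subgroup.center (Matrix.SpecialLinearGroup (Fin 2) k))
    (hk : 3 < ENat.card k) (hle : U.map φ ≤ A) (hA : ENat.card A ≤ 4)
    (t : k → Matrix.SpecialLinearGroup (Fin 2) k) (ht : ∀ x, t x ∈ U) (htinj : Function.Injective t)
    (hU : ∀ u ∈ U, u ∈ Subgroup.center (Matrix.SpecialLinearGroup (Fin 2) k) → u = 1) :
    A = U.map φ ∧ ∀ u ∈ U, φ u = 1 → u = 1 := by
  have hinj : ∀ u ∈ U, φ u = 1 → u = 1 := fun u hu h => hU u hu (hker h)
  refine ⟨?_, hinj⟩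
  have hfi : Function.Injective (fun x : k => (⟨φ (t x), ⟨t x, ht x, rfl⟩⟩ : U.map φ)) := by
    intro x y h
    apply htinj
    have h' : φ (t x) = φ (t y) := congrArg Subtype.val h
    exact mul_inv_eq_one.1 (hinj _ (mul_mem (ht x) (inv_mem (ht y)))
      (by rw [map_mul, map_inv, h', mul_inv_cancel]))
  have h4 : 4 ≤ ENat.card (U.map φ) :=
    le_trans (Order.add_one_le_of_lt hk) (ENat.card_le_card_of_injective hfi)
  haveI : Finite A := ENat.card_lt_top.1 (lt_of_le_of_lt hA (ENat.natCast_lt_top 4))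
  haveI : Finite (U.map φ) := Finite.of_injective _ (Subgroup.inclusion_injective hle)
  refine (Subgroup.eq_of_le_of_card_ge hle ?_).symm
  rw [ENat.card_eq_coe_natCard] at h4 hA
  have h4' : 4 ≤ Nat.card (U.map φ) := by exact_mod_cast h4
  have hA' : Nat.card A ≤ 4 := by exact_mod_cast hA
  omega


/-- Let S be a class of abstract root subgroups of G containing two different commuting members. Suppose that, in case S is degenerate and every element of every member of S has order at most 3, the following holds: for every A ∈ S and every rank one partner B of A there are subgroups A₀ ≤ A and B₀ ≤ B generating an image of SL₂(k) with central kernel, k a field with at least four elements, A₀ and B₀ being the images of the unitriangular subgroups. Then every rank one pair A, B in S is special. -/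
theorem result {G : Type u} [Group G] {S : Set (Subgroup G)} (hS : Cfsg.IsRootSubgroupClass S)
    (hcomm : ∃ A ∈ S, ∃ C ∈ S, A ≠ C ∧ ⁅A, C⁆ = ⊥)
    (hH : Cfsg.IsDegenerateRootSet S → (∀ A ∈ S, ∀ a ∈ A, 0 < orderOf a ∧ orderOf a ≤ 3) →
      ∀ A ∈ S, ∀ B ∈ Cfsg.rankOnePartners S A, ∃ A₀ B₀ : Subgroup G, A₀ ≤ A ∧ B₀ ≤ B ∧
        ∃ (k : Type u) (_ : Field k), 3 < ENat.card k ∧ Cfsg.IsPSL2PairOver k A₀ B₀)
    {A B : Subgroup G} (hA : A ∈ S) (hB : B ∈ Cfsg.rankOnePartners S A) : Cfsg.IsSpecialRankOnePair A B := by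
  obtain ⟨hB, hp⟩ := hB
  by_cases hd : IsDegenerateRootSet S
  swap
  · simp only [IsDegenerateRootSet, not_forall, not_not, exists_prop] at hd
    obtain ⟨P, hP, Q, hQ, hrc⟩ := hd
    obtain ⟨A₁, hA₁, C₁, hC₁, hne, hcc⟩ := hcomm
    exact (S5034.result hS ⟨⟨A₁, hA₁, C₁, hC₁, hne, hcc⟩, ⟨A, hA, B, hB, hp⟩,
      ⟨P, hP, Q, hQ, hrc⟩⟩ hA ⟨hB, hp⟩).2
  have hpair : ∀ P ∈ S, ∀ Q ∈ S, ⁅P, Q⁆ ≠ ⊥ → IsRankOnePair P Q := by
    intro P hP Q hQ h
    rcases hS.1.pair P hP Q hQ with h' | h' | h'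
    · exact absurd h' h
    · exact h'
    · exact absurd h' (hd P hP Q hQ)
  by_cases h1 : ∃ D ∈ S, D ≠ A ∧ ⁅A, D⁆ = ⊥ ∧ ⁅B, D⁆ ≠ ⊥
  · obtain ⟨D, hD, hDA, hAD, hBD⟩ := h1
    exact RootSubSpecial.special_of_triangle hS.1 hA hB hD hDA.symm hAD hp
      (RankOnePair_symm (hpair B hB D hD hBD))
  push Not at h1
  obtain ⟨C₀, hC₀, hC₀A, hC₀c⟩ : ∃ C ∈ S, C ≠ A ∧ ⁅A, C⁆ = ⊥ := by
    obtain ⟨A₁, hA₁, C₁, hC₁, hne, hcc⟩ := hcomm
    obtain ⟨g, rfl⟩ := hS.2.2 A₁ hA₁ A hA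
    exact ⟨conjBy C₁ g, hS.1.conj_mem _ hC₁ g, fun h => hne (RankOne.conjBy_injective g h).symm,
      RankOne.commutator_conjBy_eq_bot hcc⟩
  obtain ⟨C, hC, hCA, hAC, M, hM, hpCM, hpAM⟩ : ∃ C ∈ S, C ≠ A ∧ ⁅A, C⁆ = ⊥ ∧
      ∃ M ∈ S, IsRankOnePair C M ∧ IsRankOnePair A M := by
    by_contra hc
    push Not at hc
    have hpath := RootSubConn.class_connected hS ⟨A, hA, B, hB, hp⟩ C₀ hC₀ A hA
    have hinv : ∀ X, Relation.ReflTransGen (FAdj S) C₀ X → X ≠ A ∧ ⁅A, X⁆ = ⊥ := by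
      intro X hX
      induction hX with
      | refl => exact ⟨hC₀A, hC₀c⟩
      | @tail Y Z _ h ih =>
        obtain ⟨hY, hZ, hYZ⟩ := h
        refine ⟨fun h0 => ?_, ?_⟩
        · rw [h0] at hYZ
          refine RankOne.commutator_ne_bot hYZ ?_
          rw [Subgroup.commutator_comm]; exact ih.2
        · by_contra h0
          exact hc Y hY ih.1 ih.2 Z hZ hYZ (hpair A hA Z hZ h0)
    exact (hinv A hpath).1 rfl
  have key : ∀ m β δ : G, m ∈ M → m ≠ 1 → β ∈ M → δ ∈ M → β ≠ 1 → δ ≠ 1 → β * δ ≠ 1 →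
      β ≠ m → δ ≠ m → β * δ ≠ m → False := by
    intro m β δ hm hm1 hβ hδ e1 e2 e3 e4 e5 e6
    obtain ⟨a, ha⟩ := RankOneSpecial.exists_partner_right hpAM hm hm1
    obtain ⟨c, hc⟩ := RankOneSpecial.exists_partner_right hpCM hm hm1
    have T : RootSubSpecial.Triangle S C A M c a m :=
      ⟨hC, hA, hM, hCA, by rw [Subgroup.commutator_comm]; exact hAC, hpCM, hpAM, hc, ha⟩
    exact RootSubSpecial.no_twin hS.1 T hp h1 hβ hδ e1 e2 e3 e4 e5 e6
  by_cases hex : ∃ x ∈ M, x ≠ 1 ∧ x * x ≠ 1 ∧ x * x * x ≠ 1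
  · obtain ⟨x, hx, hx1, hx2, hx3⟩ := hex
    refine (key x x⁻¹ x⁻¹ hx hx1 (inv_mem hx) (inv_mem hx) (inv_ne_one.2 hx1) (inv_ne_one.2 hx1)
      ?_ ?_ ?_ ?_).elim
    · rwa [← mul_inv_rev, ne_eq, inv_eq_one]
    · exact fun h => hx2 (by rw [mul_eq_one_iff_eq_inv]; exact h.symm)
    · exact fun h => hx2 (by rw [mul_eq_one_iff_eq_inv]; exact h.symm)
    · exact fun h => hx3 (by rw [mul_eq_one_iff_inv_eq, mul_inv_rev]; exact h)
  push Not at hex
  by_cases hbig : 4 < ENat.card M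
  · classical
    exfalso
    obtain ⟨m, hm, hm1⟩ := RootSub.exists_ne_one hS.1 hM
    obtain ⟨β, hβ⟩ := exists_avoid hbig ({1, m} : Finset G) ((Finset.card_le_two).trans (by norm_num))
    obtain ⟨δ, hδ⟩ := exists_avoid hbig ({1, m, β⁻¹, β⁻¹ * m} : Finset G) Finset.card_le_four
    simp only [Finset.mem_insert, Finset.mem_singleton, not_or] at hβ hδ
    exact key m β δ hm hm1 hβ.1 hδ.1 hβ.2.1 hδ.2.1
      (fun h => hδ.2.2.2.1 (eq_inv_of_mul_eq_one_right h)) hβ.2.2 hδ.2.2.1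
      (fun h => hδ.2.2.2.2 (by rw [← h, inv_mul_cancel_left]))
  have hord : ∀ X ∈ S, ∀ x ∈ X, 0 < orderOf x ∧ orderOf x ≤ 3 := by
    intro X hX x hx
    obtain ⟨g, rfl⟩ := hS.2.2 M hM X hX
    obtain ⟨y, hy, rfl⟩ := hx
    have he : orderOf ((MulAut.conj g).toMonoidHom y) = orderOf y :=
      orderOf_injective _ (MulAut.conj g).injective y
    rw [he]
    obtain ⟨n, hn0, hn3, hn⟩ : ∃ n, 0 < n ∧ n ≤ 3 ∧ y ^ n = 1 := by
      by_cases h : y = 1
      · exact ⟨1, by norm_num, by norm_num, by rw [h, one_pow]⟩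
      by_cases h2 : y * y = 1
      · exact ⟨2, by norm_num, by norm_num, by rw [sq]; exact h2⟩
      · exact ⟨3, by norm_num, le_rfl, by rw [pow_three, ← mul_assoc]; exact hex y hy h h2⟩
    exact ⟨orderOf_pos_iff.2 (isOfFinOrder_iff_pow_eq_one.2 ⟨n, hn0, hn⟩),
      (orderOf_le_of_pow_eq_one hn0 hn).trans hn3⟩
  obtain ⟨A₀, B₀, hA₀, hB₀, k, hk, hk3, φ, hrange, hker, hU, hL⟩ := hH hd hord A hA B ⟨hB, hp⟩
  have hle4 : ∀ X ∈ S, ENat.card X ≤ 4 := by
    intro X hX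
    obtain ⟨g, rfl⟩ := hS.2.2 M hM X hX
    rw [← ENat.card_congr ((M.equivMapOfInjective _ (MulAut.conj g).injective).toEquiv)]
    exact not_lt.1 hbig
  obtain ⟨hA', hinjU⟩ := image_eq φ hker hk3 (le_of_eq_of_le hU hA₀) (hle4 A hA) S5016.upT
    (fun x => (S5016.mem_upper _).2 ⟨x, rfl⟩)
    (fun x y h => by simpa [S5016.upT] using congrArg (fun g : Matrix.SpecialLinearGroup (Fin 2) k => (g : Matrix (Fin 2) (Fin 2) k) 0 1) h)
    (fun u hu hc => RankOne.eq_one_of_centralizes (RankOnePair_symm (S5016.result k).1.2) hu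
      fun l _ => (Subgroup.mem_center_iff.1 hc l).symm)
  obtain ⟨hB', hinjL⟩ := image_eq φ hker hk3 (le_of_eq_of_le hL hB₀) (hle4 B hB) S5016.lowT
    (fun x => (S5016.mem_lower _).2 ⟨x, rfl⟩)
    (fun x y h => by simpa [S5016.lowT] using congrArg (fun g : Matrix.SpecialLinearGroup (Fin 2) k => (g : Matrix (Fin 2) (Fin 2) k) 1 0) h)
    (fun u hu hc => RankOne.eq_one_of_centralizes (S5016.result k).1.2 hu
      fun l _ => (Subgroup.mem_center_iff.1 hc l).symm)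
  subst hA' hB'
  have hsl := RankOneSpecial.special_symm (S5016.result k).2.1
  refine ⟨hp, ?_⟩
  rintro a ⟨u, hu, rfl⟩ ha1 b hb hb1 he
  have hu1 : u ≠ 1 := fun h => ha1 (by rw [h, map_one])
  obtain ⟨l, hl, hl1, hle⟩ := hsl.1.cond_left u hu hu1
  have hmap : ∀ (H : Subgroup (Matrix.SpecialLinearGroup (Fin 2) k)) (g),
      (conjBy H g).map φ = conjBy (H.map φ) (φ g) := by
    intro H g
    rw [conjBy, conjBy, Subgroup.map_map, Subgroup.map_map]
    congr 1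
    ext x
    simp
  have hle' := congrArg (Subgroup.map φ) hle
  rw [hmap, hmap, map_inv, map_inv] at hle'
  have hbl : b = φ l := RankOne.partner_unique hp hb ⟨l, hl, rfl⟩ (he.trans hle'.symm)
  rw [hbl, ← map_inv, ← map_inv, ← map_mul, ← map_mul, ← map_mul, ← map_mul,
    hsl.2 u hu hu1 l hl hl1 hle]

end Cfsg.Agent.S5039
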