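import Cfsg.Statements.S5040
import Cfsg.Agent.Lib.RootSubConn
-- import your own Cfsg.Agent.* helpers here

set_option autoImplicit false
open Cfsg

namespace Cfsg.Agent.S5040

/-- Let S be a non-degenerate class of abstract root subgroups of G and Δ a weak TI-subset of S. Then the members of Δ commute with one another elementwise. -/
theorem result {G : Type*} [Group G] {S : Set (Subgroup G)} (hS : Cfsg.IsRootSubgroupClass S) (hnd : Cfsg.IsNondegenerateRootSet S)
    {Δ : Set (Subgroup G)} (hΔ : Cfsg.IsWeakTISubset S Δ) : Cfsg.IsAbelianFamily Δ := by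
  obtain ⟨hΔS, -, hne, hti⟩ := hΔ
  obtain ⟨hroot, hclass⟩ := hS
  obtain ⟨-, hp0, A₀, hA₀, E₀, hE₀, hrc₀⟩ := hnd
  have partner : ∀ {P : Subgroup G}, P ∈ S → ∃ D ∈ S, IsRankOnePair P D := fun hP =>
    RootSubConn.class_partner ⟨hroot, hclass⟩ hp0 hP
  let K : Subgroup G :=
    { carrier := {g | (fun U => conjBy U g) '' Δ = Δ}
      one_mem' := by simp [RankOne.conjBy_one]
      mul_mem' := by
        intro x y (hx : _ = _) (hy : _ = _)
        show _ = _
        conv_rhs => rw [← hx, ← hy]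
        rw [Set.image_image]
        exact Set.image_congr fun U _ => (RankOne.conjBy_mul U x y).symm
      inv_mem' := by
        intro x (hx : _ = _)
        show _ = _
        conv_lhs => rw [← hx]
        rw [Set.image_image]
        simp only [RankOne.conjBy_inv_conjBy, Set.image_id'] }
  have hKmem : ∀ {g : G}, g ∈ K → ∀ {U : Subgroup G}, U ∈ Δ → conjBy U g ∈ Δ := fun hg U hU =>
    (show _ = Δ from hg) ▸ Set.mem_image_of_mem _ hU
  have hcK : ∀ {E U : Subgroup G}, E ∈ S → U ∈ Δ → ⁅E, U⁆ = ⊥ → E ≤ K := by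
    intro E U hE hU hc e he
    rcases eq_or_ne e 1 with rfl | he1
    · exact K.one_mem
    refine (hti e ⟨he1, E, hE, he⟩).resolve_right fun hd => ?_
    exact Set.disjoint_left.1 hd ⟨U, hU, RankOne.conjBy_eq_self_iff.2
      (Subgroup.centralizer_le_normalizer _ (RankOne.le_centralizer_of_commutator_eq_bot hc he))⟩ hU
  have hsK : ∀ {U : Subgroup G}, U ∈ Δ → U ≤ K := fun hU =>
    hcK (hΔS hU) hU (RootSub.commutator_self hroot (hΔS hU))
  -- every line partner of a member of `Δ` with a partner in `Δ` is again such a member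
  have hline : ∀ {A C B : Subgroup G}, A ∈ Δ → C ∈ Δ → IsRankOnePair A C →
      RootSubConn.IsLine S A B → B ∈ Δ ∧ ∃ C' ∈ Δ, IsRankOnePair B C' := by
    intro A C B hA hC hAC hl
    obtain ⟨DB, hDB, hpB⟩ := partner hl.right_mem
    obtain ⟨M, hM, hMle, hMA, hMC⟩ := RootSubConn.exists_nonpartner hroot (hΔS hC) hAC hl
    obtain ⟨h1, he1⟩ := RootSubConn.line_structure hroot (hΔS hC) hAC hl hM hMle hMA hMC
    have hNeq := RootSubConn.line_eq hroot (hΔS hC) hAC hl hDB hpB hM hMle hMA hMC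
    have hFK : ⁅M, C⁆ ≤ K := hcK hMC.1 hC (RootSub.rc_comm_right hMC)
    have hmem : ∀ P ∈ membersIn S (A ⊔ ⁅A, ⁅M, C⁆⁆), P ≠ M → P ∈ Δ ∧ ∃ C' ∈ Δ, IsRankOnePair P C' := by
      intro P hP hPM
      rw [RootSubLine.members_line hroot (hΔS hA) (hΔS hC) hAC h1] at hP
      rcases hP with ⟨f, hf, rfl⟩ | hP
      · exact ⟨hKmem (hFK hf) hA, conjBy C f, hKmem (hFK hf) hC, RankOne.isRankOnePair_conjBy hAC f⟩
      · exact absurd ((Set.mem_singleton_iff.1 hP).trans he1) hPM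
    have hBm : B ∈ membersIn S (A ⊔ ⁅A, ⁅M, C⁆⁆) :=
      ⟨hl.right_mem, by rw [he1, ← hNeq]; exact le_sup_right⟩
    by_cases hBM : B = M
    swap
    · exact hmem B hBm hBM
    subst hBM
    obtain ⟨M', hM', hMle', hM'ne, hMD'⟩ := RootSubConn.exists_nonpartner hroot hDB hpB hl.symm
    obtain ⟨h2, he2⟩ := RootSubConn.line_structure hroot hDB hpB hl.symm hM' hMle' hM'ne hMD'
    have hM'N : M' ∈ membersIn S (A ⊔ ⁅A, ⁅B, C⁆⁆) :=
      ⟨hM', by rw [he1]; rw [sup_comm] at hMle'; exact hMle'⟩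
    obtain ⟨hM'Δ, -⟩ := hmem M' hM'N hM'ne
    have hEK : ⁅M', DB⁆ ≤ K := hcK hMD'.1 hM'Δ (RootSub.rc_comm_left hMD')
    obtain ⟨e, he, he1'⟩ := RootSub.exists_ne_one hroot hMD'.1
    have hne' := RootSubConn.conj_ne_self hroot h2 he he1'
    have hPle : conjBy B e ≤ A ⊔ ⁅A, ⁅B, C⁆⁆ := by
      rw [he1, sup_comm A B]
      refine (RootSubLine.conj_le_line h2 he).trans ?_
      rw [he2]
      exact sup_le le_sup_left hMle'
    obtain ⟨hPΔ, C', hC', hpC'⟩ := hmem _ ⟨hroot.conj_mem B hl.right_mem e, hPle⟩ hne'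
    refine ⟨?_, conjBy C' e⁻¹, hKmem (inv_mem (hEK he)) hC', ?_⟩
    · have h5 := hKmem (inv_mem (hEK he)) hPΔ
      rwa [RankOne.conjBy_inv_conjBy] at h5
    · have h5 := RankOne.isRankOnePair_conjBy hpC' e⁻¹
      rwa [RankOne.conjBy_inv_conjBy] at h5
  have main : ∀ {A C : Subgroup G}, A ∈ Δ → C ∈ Δ → ¬ IsRankOnePair A C := by
    intro A C hA hC hAC
    apply hne
    have step : ∀ {P : Subgroup G}, P ∈ Δ → (∃ Q ∈ Δ, IsRankOnePair P Q) → ∀ {D : Subgroup G}, D ∈ S →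
        IsRankOnePair P D → D ∈ Δ := by
      rintro P hP ⟨Q, hQ, hPQ⟩ D hD hPD
      obtain ⟨g, hg⟩ := hclass.2 _ hrc₀.1 P (hΔS hP)
      have hl : RootSubConn.IsLine S P (conjBy A₀ g) := by
        rw [hg]; exact RootSubConn.isLine_conjBy hroot (RootSubConn.isLine_of_rc hroot hA₀ hrc₀).symm g
      obtain ⟨M, hM, hMle, hMP, hMD⟩ := RootSubConn.exists_nonpartner hroot hD hPD hl
      obtain ⟨h1, he1⟩ := RootSubConn.line_structure hroot hD hPD hl hM hMle hMP hMD
      have hl1 := RootSubConn.isLine_of_rc hroot (hΔS hP) h1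
      rw [he1] at hl1
      obtain ⟨hMΔ, Q', hQ', hMQ'⟩ := hline hP hQ hPQ hl1
      obtain ⟨hFΔ, -⟩ := hline hMΔ hQ' hMQ' (RootSubConn.isLine_of_rc hroot hM hMD)
      have hDK : D ≤ K := hcK hD hFΔ (by
        rw [Subgroup.commutator_comm]; exact RootSub.rc_comm_right hMD)
      obtain ⟨x, hx, hDx⟩ := RankOne.right_mem_unipotents hPD
      rw [hDx]
      exact hKmem ((sup_le (hsK hP) hDK : P ⊔ D ≤ K) hx) hP
    have hall : ∀ B, Relation.ReflTransGen (FAdj S) A B → B ∈ Δ ∧ ∃ Q ∈ Δ, IsRankOnePair B Q := by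
      intro B hB
      induction hB with
      | refl => exact ⟨hA, C, hC, hAC⟩
      | @tail B D _ h ih => exact ⟨step ih.1 ih.2 h.2.1 h.2.2, B, ih.1, RankOnePair_symm h.2.2⟩
    exact Set.Subset.antisymm hΔS fun B hB =>
      (hall B (RootSubConn.class_connected ⟨hroot, hclass⟩ hp0 A (hΔS hA) B hB)).1
  intro A hA C hC a ha c hc
  rcases hroot.pair A (hΔS hA) C (hΔS hC) with h | h | h
  · exact RootSub.elem_comm h ha hc
  · exact absurd h (main hA hC)
  · exfalso
    obtain ⟨D, hD, hp⟩ := partner h.1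
    have hl := (RootSubConn.isLine_of_rc hroot (hΔS hA) h).symm
    obtain ⟨DA, hDA, hpA⟩ := partner (hΔS hA)
    obtain ⟨M, hM, hMle, hMW, hMD⟩ := RootSubConn.exists_nonpartner hroot hD hp hl
    obtain ⟨h1, he1⟩ := RootSubConn.line_structure hroot hD hp hl hM hMle hMW hMD
    -- `M` is a conjugate of `A` under `C`
    have hMm : M ∈ membersIn S (A ⊔ ⁅A, C⁆) := ⟨hM, by rw [sup_comm] at hMle; exact hMle⟩
    rw [RootSubLine.members_line hroot (hΔS hA) hDA hpA h] at hMm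
    rcases hMm with ⟨c₀, hc₀, hMe⟩ | hMe
    swap
    · exact hMW (Set.mem_singleton_iff.1 hMe)
    simp only at hMe
    set E := conjBy ⁅M, D⁆ c₀⁻¹ with hE
    have hES : E ∈ S := hroot.conj_mem _ hMD.1 _
    have hWE : RootCommutatorCase S ⁅A, C⁆ E := by
      have := RootSub.rc_conjBy hroot h1 c₀⁻¹
      rwa [RootSubLine.fixed_line h (inv_mem hc₀)] at this
    have hWEA : ⁅⁅A, C⁆, E⁆ = A := by
      rw [hE]
      nth_rw 1 [← RootSubLine.fixed_line h (inv_mem hc₀)]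
      rw [RankOne.commutator_conjBy, he1, ← hMe, RankOne.conjBy_inv_conjBy]
    have hEA : ⁅E, ⁅A, C⁆⁆ = A := by rw [Subgroup.commutator_comm]; exact hWEA
    have hCE := RootSubLine.pair_opposite hroot h (RootSub.rc_symm hWE) hEA (hΔS hC) hES
    have hEK : E ≤ K := hcK hES hA (by
      rw [Subgroup.commutator_comm]
      have h7 := RootSub.rc_comm_right hWE
      rwa [hWEA] at h7)
    obtain ⟨x, hx, hEx⟩ := RankOne.right_mem_unipotents hCE
    exact main hC (hEx ▸ hKmem ((sup_le (hsK hC) hEK : C ⊔ E ≤ K) hx) hC) hCE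

end Cfsg.Agent.S5040
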