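import Cfsg.Statements.S5045
import Cfsg.Agent.Lib.RootInvolComp
-- import your own Cfsg.Agent.* helpers here

set_option autoImplicit false
open Cfsg

namespace Cfsg.Agent.S5045

/-- Let G be a finite group generated by a set D of root involutions, and W the set of members of D whose product with every other member of D has even order or is trivial (the isolated vertices of the odd-order-product graph on D). Then W is conjugation-invariant and generates a normal 2-subgroup of G meeting D in exactly W; the commutator of two members of D lying in different connected components of that graph, each with more than one member, lies in the subgroup generated by W; and for a in such a component, every member of D commuting with a, different from a and with product with a in D, lies in that component or in W. -/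
theorem result {G : Type*} [Group G] [Finite G] {D : Set G} (hD : Cfsg.IsRootInvolutionSet D) :
    (∀ w ∈ {w | Cfsg.IsIsolatedElem (Cfsg.OddAdj D) D w}, ∀ g : G, g * w * g⁻¹ ∈ {w | Cfsg.IsIsolatedElem (Cfsg.OddAdj D) D w}) ∧
    (Subgroup.closure {w | Cfsg.IsIsolatedElem (Cfsg.OddAdj D) D w}).Normal ∧
    IsPGroup 2 ↥(Subgroup.closure {w | Cfsg.IsIsolatedElem (Cfsg.OddAdj D) D w}) ∧
    (Subgroup.closure {w | Cfsg.IsIsolatedElem (Cfsg.OddAdj D) D w} : Set G) ∩ D = {w | Cfsg.IsIsolatedElem (Cfsg.OddAdj D) D w} ∧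
    (∀ a ∈ D, ∀ b ∈ D, (∃ a' ∈ Cfsg.elemComponentOf (Cfsg.OddAdj D) D a, a' ≠ a) →
      (∃ b' ∈ Cfsg.elemComponentOf (Cfsg.OddAdj D) D b, b' ≠ b) →
      Cfsg.elemComponentOf (Cfsg.OddAdj D) D a ≠ Cfsg.elemComponentOf (Cfsg.OddAdj D) D b →
        a * b * a⁻¹ * b⁻¹ ∈ Subgroup.closure {w | Cfsg.IsIsolatedElem (Cfsg.OddAdj D) D w}) ∧
    (∀ a ∈ D, (∃ a' ∈ Cfsg.elemComponentOf (Cfsg.OddAdj D) D a, a' ≠ a) →
      Cfsg.productPartners D a ⊆ Cfsg.elemComponentOf (Cfsg.OddAdj D) D a ∪ {w | Cfsg.IsIsolatedElem (Cfsg.OddAdj D) D w}) := by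
  refine ⟨fun w hw g => RootInvolComp.isolated_conj hD hw g, RootInvolComp.normal_closure_isolated hD,
    RootInvolComp.isPGroup_closure_isolated hD, RootInvolComp.closure_isolated_inter hD, ?_, ?_⟩
  · intro a ha b hb ha2 hb2 hne
    obtain ⟨f, hf⟩ := RootInvolComp.exists_adj ha2
    obtain ⟨f', hf'⟩ := RootInvolComp.exists_adj hb2
    rw [RootInvol.inv_eq hD ha, RootInvol.inv_eq hD hb,
      show a * b * a * b = (a * b) ^ 2 by rw [pow_two, ← mul_assoc]]
    rcases RootInvol.cases3 hD ha hb with h | ⟨h, hne', -⟩ | ⟨h, -⟩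
    · rw [(show Commute a b from h).mul_pow, pow_two, pow_two, RootInvol.mul_self hD ha,
        RootInvol.mul_self hD hb, one_mul]
      exact one_mem _
    · exact absurd (RootInvolComp.comp_eq (Relation.ReflTransGen.single ⟨ha, hb, hne', h⟩)) hne
    obtain ⟨ht, hat, hbt, hat', hbt', hatD, hbtD, -⟩ := RootInvol.four_facts hD ha hb h
    have hta : (a * b) ^ 2 ≠ a := by
      intro h0
      rw [h0, RootInvol.mul_self hD ha] at hatD
      exact RootInvol.ne_one hD hatD rfl
    have htb : (a * b) ^ 2 ≠ b := by
      intro h0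
      rw [h0, RootInvol.mul_self hD hb] at hbtD
      exact RootInvol.ne_one hD hbtD rfl
    rcases RootInvolComp.line_component hD hf ⟨⟨ht, hat.symm, hta⟩, hat ▸ hatD⟩ with h1 | h1
    · rcases RootInvolComp.line_component hD hf' ⟨⟨ht, hbt.symm, htb⟩, hbt ▸ hbtD⟩ with h2 | h2
      · exact absurd (RootInvolComp.comp_eq (h1.2.trans (RootInvolComp.reach_symm h2.2))) hne
      · exact Subgroup.subset_closure h2
    · exact Subgroup.subset_closure h1
  · intro a ha ha2 b hb
    obtain ⟨f, hf⟩ := RootInvolComp.exists_adj ha2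
    exact RootInvolComp.line_component hD hf hb

end Cfsg.Agent.S5045
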