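import Cfsg.Statements.S5046
import Cfsg.Agent.Lib.RootInvolLines87

set_option autoImplicit false
open Cfsg

namespace Cfsg.Agent.S5046


/-- Let G be a finite group generated by a set D of root involutions whose odd-order-product graph is connected, and d ∈ D. Then the members e of D with the same commuting members as d are exactly those for which the union of the commuting members of d and the members whose product with d has order 4 equals the corresponding union for e. -/
theorem result {G : Type*} [Group G] [Finite G] {D : Set G} (hD : Cfsg.IsRootInvolutionSet D)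
    (hc : Cfsg.IsConnectedSet (Cfsg.OddAdj D) D) {d : G} (hd : d ∈ D) :
    Cfsg.sameCommutingClass D d =
      {e | e ∈ D ∧ Cfsg.commutingMembers D d ∪ Cfsg.fourPartners D d = Cfsg.commutingMembers D e ∪ Cfsg.fourPartners D e} := by
  have key : ∀ u ∈ D, ∀ x, x ∈ Cfsg.commutingMembers D u ∪ Cfsg.fourPartners D u ↔ x ∈ D ∧ x ∉ Cfsg.oddPartners D u := by
    intro u hu x
    constructor
    · rintro (⟨hx, hxu⟩ | ⟨hx, h4⟩)
      · exact ⟨hx, fun ho => RootInvolLines87.odd_ne hD hu ho hxu.symm⟩
      · exact ⟨hx, fun ho => RootInvolLines87.not_four_of_odd ho h4⟩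
    · rintro ⟨hx, hno⟩
      by_cases hxu : x * u = u * x
      · exact Or.inl ⟨hx, hxu⟩
      · exact Or.inr (RootInvolLines87.four_cases hD hu hx (fun w => hxu w.symm) hno)
  ext e
  constructor
  · rintro ⟨he, h⟩
    refine ⟨he, Set.ext fun x => ?_⟩
    rw [key d hd, key e he, RootInvolLines87.odd_eq_of_class hD hd he h]
  · rintro ⟨he, h⟩
    refine ⟨he, RootInvolLines87.class_of_odd_eq hD hc hd he (Set.ext fun x => ?_)⟩
    by_cases hx : x ∈ D
    · have h1 := Set.ext_iff.1 h x
      rw [key d hd, key e he] at h1
      simp only [hx, true_and] at h1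
      exact not_iff_not.1 h1
    · exact ⟨fun w => absurd w.1 hx, fun w => absurd w.1 hx⟩

end Cfsg.Agent.S5046
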