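import Cfsg.Statements.S5048
import Cfsg.Agent.Lib.RootInvolComp
-- import your own Cfsg.Agent.* helpers here

set_option autoImplicit false
open Cfsg

namespace Cfsg.Agent.S5048

open RootInvol Cfsg.Agent.RootInvolComp

variable {G : Type*} [Group G] [Finite G] {D : Set G}

theorem conj_of_reach (hD : IsRootInvolutionSet D) {a b : G}
    (h : Relation.ReflTransGen (OddAdj D) a b) : ∃ g : G, g * a * g⁻¹ = b := by
  induction h with
  | refl => exact ⟨1, by simp⟩
  | tail _ h ih =>
    obtain ⟨g, hg⟩ := ih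
    obtain ⟨k, -, hk⟩ := odd_conj hD h.1 h.2.1 h.2.2.2
    refine ⟨k * g, ?_⟩
    rw [← hk, ← hg]; group

/-- A proper normal subgroup contains no product of odd order of two conjugate members. -/
theorem no_odd (hD : IsRootInvolutionSet D) (N : Subgroup G) [N.Normal] (hND : ∀ d ∈ D, d ∉ N)
    {a b e : G} (ha : a ∈ D) (hb : b ∈ D) (hab : a * b = b * a) (hc : a * b ∈ D)
    (he : e ∈ D) (hae : a * e ∈ N) (ho : Odd (orderOf (a * e))) : e = a := by
  by_contra hne
  have aa := mul_self hD ha
  have bb := mul_self hD hb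
  have hab' : a * (a * b) = b := by rw [← mul_assoc, aa, one_mul]
  have hba' : (a * b) * a = b := by rw [hab, mul_assoc, aa, mul_one]
  -- a member of the line with odd product with `e` forces a member into `N`
  have kill : ∀ x ∈ D, a * x = x * a → a * x ∈ D → Odd (orderOf (x * e)) → False := by
    intro x hx hax haxD hodd
    have h1 : a * x * (a * x) = 1 := mul_self hD haxD
    obtain ⟨j, hj⟩ := hodd
    have h2 : ((x * e) ^ 2) ∈ N := by
      have h3 : (QuotientGroup.mk' N) (x * e) = (QuotientGroup.mk' N) (x * a) := by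
        rw [QuotientGroup.mk'_eq_mk']
        refine ⟨(x * e)⁻¹ * (x * a), ?_, by group⟩
        have h4 : (x * e)⁻¹ * (x * a) = e * a := by
          rw [mul_inv_rev, inv_eq hD he, inv_eq hD hx, mul_assoc, ← mul_assoc x x a, mul_self hD hx, one_mul]
        rw [h4, show e * a = (a * e)⁻¹ by rw [mul_inv_rev, inv_eq hD he, inv_eq hD ha]]
        exact N.inv_mem hae
      rw [← QuotientGroup.eq_one_iff, ← QuotientGroup.mk'_apply, map_pow, h3, ← map_pow,
        QuotientGroup.mk'_apply, QuotientGroup.eq_one_iff, pow_two, ← hax, h1]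
      exact N.one_mem
    have h5 : x * e ∈ N := by
      have h6 : x * e = ((x * e) ^ 2) ^ (j + 1) := by
        rw [← pow_mul, show 2 * (j + 1) = orderOf (x * e) + 1 by omega, pow_succ,
          pow_orderOf_eq_one, one_mul]
      rw [h6]; exact N.pow_mem h2 _
    apply hND _ haxD
    have h7 : a * x = (a * e) * (x * e)⁻¹ := by
      rw [mul_inv_rev, inv_eq hD hx, inv_eq hD he, ← mul_assoc (a * e) e x, mul_assoc a e e,
        mul_self hD he, mul_one]
    rw [h7]; exact N.mul_mem hae (N.inv_mem h5)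
  have hcomm : ∀ x ∈ D, a * x = x * a → a * x ∈ D → e * x = x * e → False := by
    intro x hx hax haxD hex
    refine hne (not_odd_of_line hD hx ha hax.symm (hax ▸ haxD) he hex ?_)
    rw [orderOf_swap]; exact ho
  rcases cases3 hD hb he with h | ⟨h, -, -⟩ | ⟨h, -⟩
  · exact hcomm b hb hab hc h.symm
  · exact kill b hb hab hc h
  rcases cases3 hD hc he with h' | ⟨h', -, -⟩ | ⟨h', -⟩
  · exact hcomm (a * b) hc (by rw [hab', hba']) (by rw [hab']; exact hb) h'.symm
  · exact kill (a * b) hc (by rw [hab', hba']) (by rw [hab']; exact hb) h'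
  · refine not_both_four' hD hb hc he ?_ ?_ h h' ?_
    · rw [← mul_assoc, ← hab]
    · rw [← mul_assoc, ← hab, mul_assoc, bb, mul_one]; exact ha
    · rwa [← mul_assoc b a b, ← hab, mul_assoc a b b, bb, mul_one]

/-- `[N, d]` is a `2`-group when `N` is a proper normal subgroup. -/
theorem comm_mem_pCore (hD : IsRootInvolutionSet D) (N : Subgroup G) [N.Normal] (hND : ∀ d ∈ D, d ∉ N)
    (hline : ∀ a ∈ D, ∃ b ∈ D, a * b = b * a ∧ a * b ∈ D) {d : G} (hd : d ∈ D) {n : G} (hn : n ∈ N) :
    d * n * d⁻¹ * n⁻¹ ∈ Cfsg.pCore 2 G := by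
  haveI : Fact (Nat.Prime 2) := ⟨Nat.prime_two⟩
  let H : Subgroup G := N ⊔ Subgroup.zpowers d
  have hdH : d ∈ H := (le_sup_right : _ ≤ H) (Subgroup.mem_zpowers d)
  let d' : H := ⟨d, hdH⟩
  have hord : orderOf d' = 2 := by rw [← Subgroup.orderOf_coe]; exact hD.orderOf_eq d hd
  obtain ⟨M, hM, hMp, hle⟩ := BaerSuzuki.exists_normal_pGroup_of_pairs (p := 2) (Subgroup.zpowers d')
    (IsPGroup.of_card (n := 1) (by rw [Nat.card_zpowers, hord, pow_one])) fun g => by
      have hmap : (Subgroup.zpowers d').map (MulAut.conj g).toMonoidHom =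
          Subgroup.zpowers (g * d' * g⁻¹) := by
        rw [MonoidHom.map_zpowers]; simp
      rw [hmap, show Subgroup.zpowers d' ⊔ Subgroup.zpowers (g * d' * g⁻¹) =
        Subgroup.closure ({d', g * d' * g⁻¹} : Set H) by
          rw [Subgroup.zpowers_eq_closure, Subgroup.zpowers_eq_closure, ← Subgroup.closure_union]; rfl]
      obtain ⟨m, hm, k, hk, hg⟩ := Subgroup.mem_sup_of_normal_left.1 g.2
      have hkd : k * d * k⁻¹ = d := by
        obtain ⟨i, rfl⟩ := Subgroup.mem_zpowers_iff.1 hk
        rw [(Commute.refl d).zpow_left i |>.eq, mul_inv_cancel_right]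
      have he' : (g : G) * d * (g : G)⁻¹ = m * d * m⁻¹ := by
        rw [← hg, mul_inv_rev, show m * k * d * (k⁻¹ * m⁻¹) = m * (k * d * k⁻¹) * m⁻¹ by group, hkd]
      have heD : (g : G) * d * (g : G)⁻¹ ∈ D := hD.conj_mem d hd g
      have hval : ((g * d' * g⁻¹ : H) : G) = (g : G) * d * (g : G)⁻¹ := rfl
      have hv2 : orderOf (g * d' * g⁻¹) = 2 := by
        rw [← Subgroup.orderOf_coe, hval]; exact hD.orderOf_eq _ heD
      rcases eq_or_ne d' (g * d' * g⁻¹) with he | he
      · rw [← he, Set.pair_eq_singleton, ← Subgroup.zpowers_eq_closure]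
        exact IsPGroup.of_card (n := 1) (by rw [Nat.card_zpowers, hord, pow_one])
      · obtain ⟨e⟩ := TwoInvolutions.nonempty_mulEquiv_dihedral hord hv2 he
        have hne : d ≠ (g : G) * d * (g : G)⁻¹ := fun h => he (Subtype.ext h)
        have ho : orderOf (d' * (g * d' * g⁻¹)) = orderOf (d * ((g : G) * d * (g : G)⁻¹)) := by
          rw [← Subgroup.orderOf_coe]; rfl
        have hn : orderOf (d' * (g * d' * g⁻¹)) = 2 ∨ orderOf (d' * (g * d' * g⁻¹)) = 4 := by
          rw [ho]
          rcases cases3 hD hd heD with h | ⟨h, -, -⟩ | ⟨h, -⟩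
          · refine Or.inl (orderOf_eq_prime ?_ fun h1 => hne ?_)
            · rw [(show Commute d ((g : G) * d * (g : G)⁻¹) from h).mul_pow, pow_two, pow_two,
                mul_self hD hd, mul_self hD heD, one_mul]
            · rw [← inv_eq hD heD]; exact eq_inv_of_mul_eq_one_left h1
          · exfalso
            obtain ⟨b, hb, hab, hc⟩ := hline d hd
            refine hne (no_odd hD N hND hd hb hab hc heD ?_ h).symm
            rw [he', show d * (m * d * m⁻¹) = (d * m * d⁻¹) * (d * d) * m⁻¹ by group, mul_self hD hd,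
              mul_one]
            exact N.mul_mem ((inferInstance : N.Normal).conj_mem m hm d) (N.inv_mem hm)
          · exact Or.inr h
        rcases hn with hn | hn <;> rw [hn] at e
        · exact IsPGroup.of_card (n := 2) (by rw [Nat.card_congr e.toEquiv, DihedralGroup.nat_card]; norm_num)
        · exact IsPGroup.of_card (n := 3) (by rw [Nat.card_congr e.toEquiv, DihedralGroup.nat_card]; norm_num)
  haveI := hM
  have hdM : d' ∈ M := hle (Subgroup.mem_zpowers d')
  let ι : N →* H := Subgroup.inclusion (le_sup_left : N ≤ H)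
  haveI hMN : (M.comap ι).Normal := hM.comap ι
  have hMNp : IsPGroup 2 ↥(M.comap ι) := hMp.comap_of_injective ι (Subgroup.inclusion_injective _)
  have hcN : d * n * d⁻¹ * n⁻¹ ∈ N :=
    N.mul_mem ((inferInstance : N.Normal).conj_mem n hn d) (N.inv_mem hn)
  have hcM : (⟨_, hcN⟩ : N) ∈ M.comap ι := by
    rw [Subgroup.mem_comap]
    have h1 : d' * ((ι ⟨n, hn⟩) * d'⁻¹ * (ι ⟨n, hn⟩)⁻¹) ∈ M :=
      M.mul_mem hdM (hM.conj_mem _ (M.inv_mem hdM) _)
    convert h1 using 1
    exact Subtype.ext (by simp [ι, d', mul_assoc])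
  haveI : (Cfsg.pCore 2 N).Characteristic := HallCore.pCore_characteristic 2 N
  exact HallCore.le_pCore (N := (Cfsg.pCore 2 N).map N.subtype)
    ((HallCore.isPGroup_pCore 2 N).map N.subtype) ⟨_, HallCore.le_pCore hMNp hcM, rfl⟩

/-- Let G be a finite group generated by a set D of root involutions whose odd-order-product graph is connected, with some product of two different commuting members of D again in D. Then the largest solvable normal subgroup of G is the preimage of the centre of G/O₂(G), and the quotient of G by it is a simple group. -/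
theorem result {G : Type*} [Group G] [Finite G] {D : Set G} (hD : Cfsg.IsRootInvolutionSet D)
    (hc : Cfsg.IsConnectedSet (Cfsg.OddAdj D) D) (hDD : (D ∩ Cfsg.commutingProducts D).Nonempty) :
    Cfsg.solvableRadical G = Cfsg.twoZCore G ∧ IsSimpleGroup (G ⧸ Cfsg.twoZCore G) := by

  obtain ⟨x₀, hx₀, a₀, ha₀, b₀, hb₀, hcom, hne, hx⟩ := hDD
  subst hx
  have hclass : ∀ a ∈ D, ∀ b ∈ D, ∃ g : G, g * a * g⁻¹ = b := fun a ha b hb =>
    conj_of_reach hD (hc a ha b hb)
  have hline : ∀ a ∈ D, ∃ b ∈ D, a * b = b * a ∧ a * b ∈ D := by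
    intro a ha
    obtain ⟨g, rfl⟩ := hclass a₀ ha₀ a ha
    refine ⟨g * b₀ * g⁻¹, hD.conj_mem b₀ hb₀ g, ?_, ?_⟩
    · rw [show g * a₀ * g⁻¹ * (g * b₀ * g⁻¹) = g * (a₀ * b₀) * g⁻¹ by group, hcom]; group
    · rw [show g * a₀ * g⁻¹ * (g * b₀ * g⁻¹) = g * (a₀ * b₀) * g⁻¹ by group]
      exact hD.conj_mem _ hx₀ g
  have hND : ∀ N : Subgroup G, N.Normal → N ≠ ⊤ → ∀ d ∈ D, d ∉ N := by
    intro N hN hNt d hd hdN
    refine hNt (top_le_iff.1 (hD.generates ▸ (Subgroup.closure_le N).2 fun e he => ?_))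
    obtain ⟨g, rfl⟩ := hclass d hd e he
    exact hN.conj_mem d hdN g
  have hperf : commutator G = ⊤ := by
    by_contra hne'
    have h := hND _ inferInstance hne'
    obtain ⟨g, hg⟩ := hclass a₀ ha₀ b₀ hb₀
    apply h _ hx₀
    rw [← Abelianization.ker_of, MonoidHom.mem_ker, map_mul, ← hg, map_mul, map_mul, map_inv,
      mul_comm (Abelianization.of g), mul_assoc, mul_inv_cancel, mul_one, ← map_mul, mul_self hD ha₀, map_one]
  have hcore : ∀ N : Subgroup G, N.Normal → N ≠ ⊤ → N ≤ Cfsg.twoZCore G := by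
    intro N hN hNt n hn
    haveI := hN
    rw [Cfsg.twoZCore, Subgroup.mem_comap, Subgroup.mem_center_iff]
    intro q
    obtain ⟨g, rfl⟩ := QuotientGroup.mk'_surjective (Cfsg.pCore 2 G) q
    have hle : Subgroup.closure D ≤
        (Subgroup.centralizer {QuotientGroup.mk' (Cfsg.pCore 2 G) n}).comap (QuotientGroup.mk' (Cfsg.pCore 2 G)) := by
      refine (Subgroup.closure_le _).2 fun d hd => ?_
      rw [SetLike.mem_coe, Subgroup.mem_comap, Subgroup.mem_centralizer_singleton_iff]
      have h := comm_mem_pCore hD N (hND N hN hNt) hline hd hn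
      rw [← QuotientGroup.eq_one_iff, ← QuotientGroup.mk'_apply, map_mul, map_mul, map_mul, map_inv,
        map_inv, mul_inv_eq_one, mul_inv_eq_iff_eq_mul] at h
      exact h
    rw [hD.generates] at hle
    exact Subgroup.mem_centralizer_singleton_iff.1 (hle (Subgroup.mem_top g))
  haveI : Nontrivial G := ⟨a₀, 1, ne_one hD ha₀⟩
  have hsolT : Group.IsSolvable ↥(Cfsg.twoZCore G) := by
    haveI : Fact (Nat.Prime 2) := ⟨Nat.prime_two⟩
    haveI : Group.IsNilpotent ↥(Cfsg.pCore 2 G) := (HallCore.isPGroup_pCore 2 G).isNilpotent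
    have hOT : Cfsg.pCore 2 G ≤ Cfsg.twoZCore G := by
      intro x hx
      rw [Cfsg.twoZCore, Subgroup.mem_comap, QuotientGroup.mk'_apply, (QuotientGroup.eq_one_iff x).2 hx]
      exact Subgroup.one_mem _
    let f : ↥(Cfsg.twoZCore G) →* ↥(Subgroup.center (G ⧸ Cfsg.pCore 2 G)) :=
      ((QuotientGroup.mk' (Cfsg.pCore 2 G)).comp (Cfsg.twoZCore G).subtype).codRestrict _ fun x => x.2
    haveI : Group.IsSolvable ↥(Subgroup.center (G ⧸ Cfsg.pCore 2 G)) :=
      isSolvable_of_comm fun a b => Subtype.ext (Subgroup.mem_center_iff.1 b.2 a)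
    refine solvable_of_ker_le_range (Subgroup.inclusion hOT) f ?_
    intro x hx
    rw [MonoidHom.mem_ker] at hx
    have h1 : QuotientGroup.mk' (Cfsg.pCore 2 G) (x : G) = 1 := congrArg Subtype.val hx
    exact ⟨⟨x, (QuotientGroup.eq_one_iff (x : G)).1 h1⟩, rfl⟩
  have hns : ¬ Group.IsSolvable G := fun h => by
    have := IsSolvable.commutator_lt_top_of_nontrivial G
    exact this.ne hperf
  have hTne : Cfsg.twoZCore G ≠ ⊤ := by
    intro h
    rw [h] at hsolT
    exact hns (solvable_of_surjective (f := (Subgroup.topEquiv (G := G)).toMonoidHom)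
      (Subgroup.topEquiv (G := G)).surjective)
  refine ⟨le_antisymm (sSup_le fun N hN => hcore N hN.1 fun h => ?_)
    (le_sSup ⟨inferInstance, hsolT⟩), ?_⟩
  · have h2 := hN.2
    rw [h] at h2
    exact hns (solvable_of_surjective (f := (Subgroup.topEquiv (G := G)).toMonoidHom)
      (Subgroup.topEquiv (G := G)).surjective)
  · haveI : Nontrivial (G ⧸ Cfsg.twoZCore G) := by
      rw [← not_subsingleton_iff_nontrivial]
      intro h
      exact hTne (QuotientGroup.subsingleton_iff.1 h)
    refine ⟨fun K hK => ?_⟩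
    by_cases hKt : K.comap (QuotientGroup.mk' (Cfsg.twoZCore G)) = ⊤
    · right
      rw [← Subgroup.map_comap_eq_self_of_surjective (QuotientGroup.mk'_surjective _) K, hKt,
        Subgroup.map_top_of_surjective _ (QuotientGroup.mk'_surjective _)]
    · left
      rw [← Subgroup.map_comap_eq_self_of_surjective (QuotientGroup.mk'_surjective _) K, eq_bot_iff]
      rintro _ ⟨x, hx, rfl⟩
      exact (QuotientGroup.eq_one_iff x).2 (hcore _ (hK.comap _) hKt hx)

end Cfsg.Agent.S5048
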