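import Cfsg.Statements.S5049
import Cfsg.Agent.Lib.HallCore

set_option autoImplicit false
open Cfsg

namespace Cfsg.Agent.S5049

theorem key_comm {G : Type*} [Group G] [Finite G] {D : Set G} (hD : Cfsg.IsOddTranspositionSet D)
    {a e : G} (ha : a ∈ D) (he : e ∈ D) (hea : e * a = a * e) {q : G} (hq : q ∈ Cfsg.pCore 2 G) :
    e * (q * a * q⁻¹) = q * a * q⁻¹ * e := by
  haveI : (Cfsg.pCore 2 G).Normal := Cfsg.Agent.HallCore.pCore_normal 2 G
  set a' := q * a * q⁻¹ with ha'
  have ha'D : a' ∈ D := hD.1.conj_mem a ha q
  have inv_of : ∀ d ∈ D, d * d = 1 := fun d hd => by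
    rw [← pow_two, ← hD.1.orderOf_eq d hd]; exact pow_orderOf_eq_one d
  let π := QuotientGroup.mk' (Cfsg.pCore 2 G)
  have hπq : π q = 1 := (QuotientGroup.eq_one_iff _).2 hq
  have hsq : (e * a') ^ 2 ∈ Cfsg.pCore 2 G := by
    apply (QuotientGroup.eq_one_iff _).1
    show π ((e * a') ^ 2) = 1
    have h : π a' = π a := by rw [ha']; simp [hπq]
    rw [map_pow, map_mul, h, ← map_mul, ← map_pow]
    have : (e * a) ^ 2 = 1 := by
      rw [(show Commute e a from hea).mul_pow, pow_two, pow_two, inv_of e he, inv_of a ha, one_mul]
    rw [this, map_one]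
  obtain ⟨k, hk⟩ := Cfsg.Agent.HallCore.isPGroup_pCore 2 G ⟨(e * a') ^ 2, hsq⟩
  have hk' : (e * a') ^ (2 ^ (k + 1)) = 1 := by
    have := congrArg Subtype.val hk
    rw [pow_succ', pow_mul]
    simpa using this
  rcases hD.1.pair e he a' ha'D with h | h | h
  · exact h
  · have hcop : Nat.Coprime (orderOf (e * a')) (2 ^ (k + 1)) :=
      (Nat.Coprime.pow_right _ (Nat.coprime_two_right.2 h))
    have h1 : orderOf (e * a') = 1 :=
      Nat.Coprime.eq_one_of_dvd hcop (orderOf_dvd_of_pow_eq_one hk')
    have h2 : e * a' = 1 := orderOf_eq_one_iff.1 h1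
    have : a' = e := by
      calc a' = e * e * a' := by rw [inv_of e he, one_mul]
        _ = e := by rw [mul_assoc, h2, mul_one]
    rw [this]
  · exact absurd h.1 (hD.2 e he a' ha'D)

/-- Let G be a finite group generated by a set D of odd transpositions (root involutions with no product of order 4), Q = O₂(G), and for a ∈ D let Q_a be the commutator subgroup of Q with a. Then every member of D commuting with a centralizes Q_a; and for b ∈ D with ab of odd order greater than 1, the centralizer of ab in Q is the intersection of the centralizers of a and b in Q. -/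
theorem result {G : Type*} [Group G] [Finite G] {D : Set G} (hD : Cfsg.IsOddTranspositionSet D) {a : G} (ha : a ∈ D) :
    (∀ e ∈ Cfsg.commutingMembers D a, ∀ q ∈ ⁅Cfsg.pCore 2 G, Subgroup.zpowers a⁆, e * q = q * e) ∧
    (∀ b ∈ Cfsg.oddPartners D a,
      Cfsg.pCore 2 G ⊓ Subgroup.centralizer {a * b} = Cfsg.pCore 2 G ⊓ Subgroup.centralizer {a} ⊓ Subgroup.centralizer {b}) := by
  have inv_of : ∀ d ∈ D, d * d = 1 := fun d hd => by
    rw [← pow_two, ← hD.1.orderOf_eq d hd]; exact pow_orderOf_eq_one d
  refine ⟨fun e he => ?_, fun b hb => ?_⟩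
  · have hsub : ⁅Cfsg.pCore 2 G, Subgroup.zpowers a⁆ ≤ Subgroup.centralizer {e} := by
      rw [Subgroup.commutator_le]
      intro q hq y hy
      obtain ⟨n, rfl⟩ := Subgroup.mem_zpowers_iff.1 hy
      rw [Subgroup.mem_centralizer_singleton_iff]
      have h1 : Commute e (q * a * q⁻¹) := key_comm hD ha he.1 he.2 hq
      have h2 : Commute e a := he.2
      have h3 := ((h1.zpow_right n).mul_right (h2.zpow_right n).inv_right)
      rw [conj_zpow] at h3
      rw [commutatorElement_def]
      exact h3.eq.symm
    intro q hq
    exact (Subgroup.mem_centralizer_singleton_iff.1 (hsub hq)).symm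
  · obtain ⟨hbD, hne, hodd⟩ := hb
    apply le_antisymm
    · rintro q ⟨hq, hqab⟩
      have hqab' : q * (a * b) = a * b * q := Subgroup.mem_centralizer_singleton_iff.1 hqab
      set x := q * a * q⁻¹ with hx
      set y := q * b * q⁻¹ with hy
      have hxa : a * x = x * a := key_comm hD ha ha rfl hq
      have hyb : b * y = y * b := key_comm hD hbD hbD rfl hq
      have hxy : x * y = a * b := by
        have : x * y = q * (a * b) * q⁻¹ := by rw [hx, hy]; group
        rw [this, hqab', mul_inv_cancel_right]
      have hxD : x ∈ D := hD.1.conj_mem a ha q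
      obtain ⟨t, ht⟩ : ∃ t, t = a * x := ⟨_, rfl⟩
      have hxt : x = a * t := by rw [ht, ← mul_assoc, inv_of a ha, one_mul]
      have hat : Commute a t := ht ▸ (Commute.refl a).mul_right hxa
      have hyt : y = t * b := by
        calc y = x * x * y := by rw [inv_of x hxD, one_mul]
          _ = x * a * b := by rw [mul_assoc x x y, hxy, ← mul_assoc]
          _ = t * b := by rw [ht, hxa]
      have hbt : Commute b t := by
        have h := hyb
        rw [hyt, mul_assoc t b b, inv_of b hbD, mul_one] at h
        show b * t = t * b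
        calc b * t = b * t * (b * b) := by rw [inv_of b hbD, mul_one]
          _ = b * (t * b) * b := by group
          _ = t * b := by rw [h]
      have hyt2 : y = b * t := by rw [hyt, hbt.eq]
      have htsq : t * t = 1 := by
        calc t * t = a * (x * a) * x := by rw [ht]; group
          _ = a * a * (x * x) := by rw [← hxa]; group
          _ = 1 := by rw [inv_of a ha, inv_of x hxD, one_mul]
      have ht1 : t = 1 := by
        by_contra htne
        have hord : orderOf t = 2 := orderOf_eq_prime (by rw [pow_two]; exact htsq) htne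
        have habne : orderOf (a * b) ≠ 1 := by
          intro h
          rw [orderOf_eq_one_iff] at h
          apply hne
          calc b = a * a * b := by rw [inv_of a ha, one_mul]
            _ = a := by rw [mul_assoc, h, mul_one]
        have hct : Commute (a * b) t := (hat.symm.mul_right hbt.symm).symm
        have hxb : orderOf (x * b) = orderOf (a * b) * 2 := by
          have : x * b = a * b * t := by rw [hxt, mul_assoc, ← hbt.eq, mul_assoc]
          rw [this, hct.orderOf_mul_eq_mul_orderOf_of_coprime (by rw [hord]; exact Nat.coprime_two_right.2 hodd), hord]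
        have hpos : 0 < orderOf (a * b) := orderOf_pos _
        rcases hD.1.pair x hxD b hbD with h | h | h
        · have hd : orderOf (x * b) ∣ 2 := orderOf_dvd_of_pow_eq_one (by
            rw [(show Commute x b from h).mul_pow, pow_two, pow_two, inv_of x hxD, inv_of b hbD, one_mul])
          have := Nat.le_of_dvd two_pos hd
          omega
        · rw [hxb] at h
          exact (Nat.not_odd_iff_even.2 (even_two.mul_left _)) h
        · exact hD.2 x hxD b hbD h.1
      have hxa' : x = a := by rw [hxt, ht1, mul_one]
      have hyb' : y = b := by rw [hyt, ht1, one_mul]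
      refine ⟨⟨hq, Subgroup.mem_centralizer_singleton_iff.2 ?_⟩, Subgroup.mem_centralizer_singleton_iff.2 ?_⟩
      · calc q * a = x * q := by rw [hx]; group
          _ = a * q := by rw [hxa']
      · calc q * b = y * q := by rw [hy]; group
          _ = b * q := by rw [hyb']
    · rintro q ⟨⟨hq, hqa⟩, hqb⟩
      refine ⟨hq, Subgroup.mem_centralizer_singleton_iff.2 ?_⟩
      have h1 : Commute q a := Subgroup.mem_centralizer_singleton_iff.1 hqa
      have h2 : Commute q b := Subgroup.mem_centralizer_singleton_iff.1 hqb
      exact (h1.mul_right h2).eq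

end Cfsg.Agent.S5049
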