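import Cfsg.Statements.S5057
-- import your own Cfsg.Agent.* helpers here

set_option autoImplicit false
open Cfsg

namespace Cfsg.Agent.S5057

open Equiv in
theorem ord6 : ∀ g : Perm (Fin 6), Perm.sign g = 1 → g ^ 3 = 1 ∨ g ^ 4 = 1 ∨ g ^ 5 = 1 := by
  decide +kernel

open Equiv in
theorem conj6 : ∀ g : Perm (Fin 6), Perm.sign g = 1 → g * g = 1 → g ≠ 1 →
    ∃ h : Perm (Fin 6), h * (swap 0 1 * swap 2 3) * h⁻¹ = g := by
  decide +kernel

theorem ord_cases (g : ↥(alternatingGroup (Fin 6))) :
    orderOf g = 1 ∨ orderOf g = 2 ∨ orderOf g = 3 ∨ orderOf g = 4 ∨ orderOf g = 5 := by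
  have h := ord6 g.1 (Equiv.Perm.mem_alternatingGroup.1 g.2)
  rw [← Subgroup.orderOf_coe g]
  rcases h with h | h | h
  · have := (Nat.dvd_prime Nat.prime_three).1 (orderOf_dvd_of_pow_eq_one h); omega
  · have h4 : orderOf (g : Equiv.Perm (Fin 6)) ∈ Nat.divisors 4 :=
      Nat.mem_divisors.2 ⟨orderOf_dvd_of_pow_eq_one h, by norm_num⟩
    have hd : Nat.divisors 4 = {1, 2, 4} := by decide
    rw [hd] at h4
    simp only [Finset.mem_insert, Finset.mem_singleton] at h4
    omega
  · have := (Nat.dvd_prime Nat.prime_five).1 (orderOf_dvd_of_pow_eq_one h); omega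

open Equiv in
theorem conj_invol (a : ↥(alternatingGroup (Fin 6))) (ha : orderOf a = 2) :
    ∃ h : ↥(alternatingGroup (Fin 6)), (h : Perm (Fin 6)) * (swap 0 1 * swap 2 3) * (h : Perm (Fin 6))⁻¹ = (a : Perm (Fin 6)) := by
  have h2 : (a : Perm (Fin 6)) * a = 1 := by
    have h := pow_orderOf_eq_one a
    rw [ha, pow_two] at h
    exact congrArg Subtype.val h
  have h1 : (a : Perm (Fin 6)) ≠ 1 := fun h => by
    have : a = 1 := Subtype.ext h
    rw [this, orderOf_one] at ha
    omega
  obtain ⟨h, hh⟩ := conj6 a.1 (Equiv.Perm.mem_alternatingGroup.1 a.2) h2 h1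
  rcases Int.units_eq_one_or (Perm.sign h) with hs | hs
  · exact ⟨⟨h, Equiv.Perm.mem_alternatingGroup.2 hs⟩, hh⟩
  · refine ⟨⟨h * swap 0 1, Equiv.Perm.mem_alternatingGroup.2 ?_⟩, ?_⟩
    · rw [Perm.sign_mul, hs, Perm.sign_swap (by decide)]; rfl
    · show h * swap 0 1 * (swap 0 1 * swap 2 3) * (h * swap 0 1)⁻¹ = (a : Perm (Fin 6))
      have hc : (swap 0 1 : Perm (Fin 6)) * (swap 0 1 * swap 2 3) * (swap 0 1)⁻¹ = swap 0 1 * swap 2 3 := by decide
      rw [← hh, mul_inv_rev]
      calc h * swap 0 1 * (swap 0 1 * swap 2 3) * ((swap 0 1)⁻¹ * h⁻¹)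
          = h * (swap 0 1 * (swap 0 1 * swap 2 3) * (swap 0 1)⁻¹) * h⁻¹ := by simp only [mul_assoc]
        _ = _ := by rw [hc]

open Equiv in
theorem invol_mem : (swap 0 1 * swap 2 3 : Perm (Fin 6)) ∈ alternatingGroup (Fin 6) := by
  rw [Equiv.Perm.mem_alternatingGroup, Perm.sign_mul, Perm.sign_swap (by decide), Perm.sign_swap (by decide)]; rfl

/-- The involutions of the alternating group of degree 6 form a class of root involutions (a single conjugacy class of involutions generating the group, any two of which commute, have product of odd order, or have product of order 4 whose square is again an involution of the class), and the product of any two of them has order at most 5. -/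
theorem result :
    Cfsg.IsRootInvolutionClass {g : ↥(alternatingGroup (Fin 6)) | orderOf g = 2} ∧
    ∀ d ∈ {g : ↥(alternatingGroup (Fin 6)) | orderOf g = 2}, ∀ e ∈ {g : ↥(alternatingGroup (Fin 6)) | orderOf g = 2},
      orderOf (d * e) ≤ 5 := by
  set D : Set ↥(alternatingGroup (Fin 6)) := {g | orderOf g = 2} with hD
  have hconjmem : ∀ d ∈ D, ∀ g : ↥(alternatingGroup (Fin 6)), g * d * g⁻¹ ∈ D := fun d hd g => by
    show orderOf (g * d * g⁻¹) = 2
    rw [← MulAut.conj_apply, MulEquiv.orderOf_eq]; exact hd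
  set g₀ : ↥(alternatingGroup (Fin 6)) := ⟨_, invol_mem⟩ with hg0
  have hg₀ : g₀ ∈ D := by
    show orderOf g₀ = 2
    apply orderOf_eq_prime
    · apply Subtype.ext; show ((g₀ : Equiv.Perm (Fin 6)) ^ 2 = 1); rw [hg0]; decide
    · intro h; exact absurd (congrArg Subtype.val h) (by rw [hg0]; decide)
  refine ⟨⟨⟨fun d hd => hd, ?_, hconjmem, ?_⟩, ⟨g₀, hg₀⟩, ?_⟩, ?_⟩
  · haveI := alternatingGroup.isSimpleGroup (α := Fin 6) (by simp)
    haveI hN : (Subgroup.closure D).Normal := by
      constructor
      intro n hn g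
      induction hn using Subgroup.closure_induction with
      | mem y hy => exact Subgroup.subset_closure (hconjmem y hy g)
      | one => simp
      | mul a b _ _ ha hb => simpa [mul_assoc] using mul_mem ha hb
      | inv a _ ha => simpa [mul_assoc] using inv_mem ha
    rcases hN.eq_bot_or_eq_top with h | h
    · exfalso
      have := Subgroup.subset_closure (k := D) hg₀
      rw [h, SetLike.mem_coe, Subgroup.mem_bot] at this
      have h2 : orderOf g₀ = 2 := hg₀
      rw [this, orderOf_one] at h2
      omega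
    · exact h
  · intro a ha b hb
    rcases ord_cases (a * b) with h | h | h | h | h
    · right; left; rw [h]; exact odd_one
    · left
      have ha' : a * a = 1 := by rw [← pow_two]; exact ha ▸ pow_orderOf_eq_one a
      have hb' : b * b = 1 := by rw [← pow_two]; exact hb ▸ pow_orderOf_eq_one b
      have hab : a * b * (a * b) = 1 := by rw [← pow_two]; exact h ▸ pow_orderOf_eq_one (a * b)
      calc a * b = a * (a * b * (a * b)) * b := by rw [hab, mul_one]
        _ = a * a * (b * a) * (b * b) := by simp only [mul_assoc]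
        _ = b * a := by rw [ha', hb', one_mul, mul_one]
    · right; left; rw [h]; decide
    · right; right
      refine ⟨h, ?_⟩
      show orderOf ((a * b) ^ 2) = 2
      rw [orderOf_pow, h]; rfl
    · right; left; rw [h]; decide
  · intro a ha b hb
    obtain ⟨h, hh⟩ := conj_invol a ha
    obtain ⟨k, hk⟩ := conj_invol b hb
    refine ⟨k * h⁻¹, Subtype.ext ?_⟩
    show (b : Equiv.Perm (Fin 6)) = k.1 * h.1⁻¹ * a.1 * (k.1 * h.1⁻¹)⁻¹
    rw [← hh, ← hk, mul_inv_rev]
    group
  · intro d hd e he
    rcases ord_cases (d * e) with h | h | h | h | h <;> omega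

end Cfsg.Agent.S5057
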