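import Cfsg.Statements.S5059
-- import your own Cfsg.Agent.* helpers here

set_option autoImplicit false
universe u
open Cfsg

namespace Cfsg.Agent.S5059

section
variable {k : Type*} [Field k] {M : Type*} [AddCommGroup M] [Module k M] [FiniteDimensional k M]
  {G : Subgroup (LinearMap.GeneralLinearGroup k M)} {σ : LinearMap.GeneralLinearGroup k M}

/-- The nilpotent part `g - 1`. -/
abbrev nil (g : LinearMap.GeneralLinearGroup k M) : M →ₗ[k] M := (g : M →ₗ[k] M) - 1

omit [FiniteDimensional k M] in
theorem range_le_ker {g : LinearMap.GeneralLinearGroup k M} (hg : Cfsg.IsQuadraticOn g) :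
    LinearMap.range (nil g) ≤ LinearMap.ker (nil g) := by
  rintro _ ⟨x, rfl⟩
  simpa [LinearMap.mem_ker] using LinearMap.congr_fun hg.1 x

omit [FiniteDimensional k M] in
theorem nil_mul {σ τ τ' : LinearMap.GeneralLinearGroup k M}
    (hτ : τ ∈ Cfsg.sameActionClass G σ) (hτ' : τ' ∈ Cfsg.sameActionClass G σ) :
    nil τ * nil τ' = 0 := by
  have h : LinearMap.range (nil τ') ≤ LinearMap.ker (nil τ) := by
    change LinearMap.range ((τ' : M →ₗ[k] M) - 1) ≤ LinearMap.ker ((τ : M →ₗ[k] M) - 1)
    rw [hτ'.2.2, ← hτ.2.2]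
    exact range_le_ker hτ.1.1.2.1
  refine LinearMap.ext fun x => ?_
  exact LinearMap.mem_ker.1 (h (LinearMap.mem_range_self _ x))

omit [FiniteDimensional k M] in
theorem coe_mul_eq {σ τ τ' : LinearMap.GeneralLinearGroup k M}
    (hτ : τ ∈ Cfsg.sameActionClass G σ) (hτ' : τ' ∈ Cfsg.sameActionClass G σ) :
    ((τ * τ' : LinearMap.GeneralLinearGroup k M) : M →ₗ[k] M) = 1 + (nil τ + nil τ') := by
  have h := nil_mul hτ hτ'
  rw [Units.val_mul]
  calc (τ : M →ₗ[k] M) * (τ' : M →ₗ[k] M) = (1 + nil τ) * (1 + nil τ') := by simp [nil]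
    _ = 1 + (nil τ + nil τ') + nil τ * nil τ' := by noncomm_ring
    _ = _ := by rw [h, add_zero]

omit [FiniteDimensional k M] in
theorem commute_class {σ τ τ' : LinearMap.GeneralLinearGroup k M}
    (hτ : τ ∈ Cfsg.sameActionClass G σ) (hτ' : τ' ∈ Cfsg.sameActionClass G σ) :
    τ * τ' = τ' * τ := by
  apply Units.ext
  rw [coe_mul_eq hτ hτ', coe_mul_eq hτ' hτ, add_comm (nil τ)]

/-- An element of `G` whose nilpotent part is a nonzero map with range and kernel bounded as for
`σ`, and whose scalar family is in `G`, is in the class of `σ`. -/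
theorem mem_class {σ τ : LinearMap.GeneralLinearGroup k M} (hσ : σ ∈ Cfsg.minimalQuadraticElements G)
    (hG : τ ∈ G) (hne : nil τ ≠ 0) (hsc : Cfsg.scalarFamily τ ⊆ (G : Set (LinearMap.GeneralLinearGroup k M)))
    (hr : LinearMap.range (nil τ) ≤ LinearMap.range (nil σ))
    (hk : LinearMap.ker (nil σ) ≤ LinearMap.ker (nil τ)) : τ ∈ Cfsg.sameActionClass G σ := by
  have hq : Cfsg.IsQuadraticOn τ := by
    refine ⟨LinearMap.ext fun x => ?_, hne⟩
    exact LinearMap.mem_ker.1 (hk (range_le_ker hσ.1.2.1 (hr (LinearMap.mem_range_self _ x))))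
  have hτQ : τ ∈ Cfsg.quadraticElements G := ⟨hG, hq, hsc⟩
  have hle : Module.finrank k (LinearMap.range (nil σ)) ≤ Module.finrank k (LinearMap.range (nil τ)) :=
    hσ.2 τ hτQ
  have hReq := Submodule.eq_of_le_of_finrank_le hr hle
  have hrank : Cfsg.commutatorRank τ = Cfsg.commutatorRank σ := by
    show Module.finrank k (LinearMap.range (nil τ)) = Module.finrank k (LinearMap.range (nil σ))
    rw [hReq]
  refine ⟨⟨hτQ, fun ρ hρ => ?_⟩, ?_, hReq⟩
  · rw [hrank]; exact hσ.2 ρ hρ
  · refine (Submodule.eq_of_le_of_finrank_le hk ?_).symm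
    have h1 := LinearMap.finrank_range_add_finrank_ker (nil σ)
    have h2 := LinearMap.finrank_range_add_finrank_ker (nil τ)
    omega

theorem mul_mem_class {σ τ τ' : LinearMap.GeneralLinearGroup k M} (hσ : σ ∈ Cfsg.minimalQuadraticElements G)
    (hτ : τ ∈ Cfsg.sameActionClass G σ) (hτ' : τ' ∈ Cfsg.sameActionClass G σ) :
    τ * τ' ∈ Cfsg.sameActionClass G σ ∪ {1} := by
  by_cases h1 : τ * τ' = 1
  · exact Or.inr h1
  left
  have hn : nil (τ * τ') = nil τ + nil τ' := by
    simp only [nil]; rw [coe_mul_eq hτ hτ']; simp [nil]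
  refine mem_class hσ (mul_mem hτ.1.1.1 hτ'.1.1.1) ?_ ?_ ?_ ?_
  · intro h
    apply h1
    apply Units.ext
    rw [← sub_eq_zero]
    simpa [nil] using h
  · rintro ρ ⟨c, hc⟩
    obtain ⟨ha0, -, hfa⟩ := hτ.1.1
    obtain ⟨hb0, -, hfb⟩ := hτ'.1.1
    have hz : nil τ * nil τ' = 0 := nil_mul hτ hτ'
    have hsq : nil τ * nil τ = 0 := hτ.1.1.2.1.1
    have hsq' : nil τ' * nil τ' = 0 := hτ'.1.1.2.1.1
    let mk : (f : M →ₗ[k] M) → f * f = 0 → LinearMap.GeneralLinearGroup k M := fun f hf =>
      ⟨1 + f, 1 - f, by simp [mul_sub, add_mul, hf], by simp [mul_add, sub_mul, hf]⟩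
    have ha : mk (c • nil τ) (by simp [hsq]) ∈ G := hfa ⟨c, rfl⟩
    have hb : mk (c • nil τ') (by simp [hsq']) ∈ G := hfb ⟨c, rfl⟩
    have : ρ = mk (c • nil τ) (by simp [hsq]) * mk (c • nil τ') (by simp [hsq']) := by
      apply Units.ext
      show (ρ : M →ₗ[k] M) = (1 + c • nil τ) * (1 + c • nil τ')
      rw [hc, coe_mul_eq hτ hτ', add_sub_cancel_left]
      simp [mul_add, add_mul, hz, add_assoc, smul_add]
    rw [this]
    exact mul_mem ha hb
  · rw [hn]
    rintro _ ⟨x, rfl⟩
    rw [LinearMap.add_apply]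
    refine add_mem ?_ ?_
    · have := LinearMap.mem_range_self (nil τ) x
      simpa only [nil, hτ.2.2] using this
    · have := LinearMap.mem_range_self (nil τ') x
      simpa only [nil, hτ'.2.2] using this
  · rw [hn]
    intro x hx
    have hx1 : x ∈ LinearMap.ker (nil τ) := by simpa only [nil, hτ.2.1] using hx
    have hx2 : x ∈ LinearMap.ker (nil τ') := by simpa only [nil, hτ'.2.1] using hx
    rw [LinearMap.mem_ker, LinearMap.add_apply, LinearMap.mem_ker.1 hx1, LinearMap.mem_ker.1 hx2, add_zero]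

theorem inv_mem_class {σ τ : LinearMap.GeneralLinearGroup k M} (hσ : σ ∈ Cfsg.minimalQuadraticElements G)
    (hτ : τ ∈ Cfsg.sameActionClass G σ) : τ⁻¹ ∈ Cfsg.sameActionClass G σ := by
  have hsq : nil τ * nil τ = 0 := hτ.1.1.2.1.1
  have hv : ((τ⁻¹ : LinearMap.GeneralLinearGroup k M) : M →ₗ[k] M) = 1 - nil τ := by
    refine Units.inv_eq_of_mul_eq_one_right ?_
    calc (τ : M →ₗ[k] M) * (1 - nil τ) = (1 + nil τ) * (1 - nil τ) := by simp [nil]
      _ = 1 - nil τ * nil τ := by noncomm_ring
      _ = 1 := by rw [hsq, sub_zero]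
  have hn : nil τ⁻¹ = - nil τ := by
    simp only [nil]; rw [hv]; simp [nil]
  refine mem_class hσ (inv_mem hτ.1.1.1) ?_ ?_ ?_ ?_
  · rw [hn, neg_ne_zero]; exact hτ.1.1.2.1.2
  · rintro ρ ⟨c, hc⟩
    refine hτ.1.1.2.2 ⟨-c, ?_⟩
    rw [hc]
    have : ((τ⁻¹ : LinearMap.GeneralLinearGroup k M) : M →ₗ[k] M) - 1 = - nil τ := hn
    rw [this, smul_neg, neg_smul]
  · rw [hn, LinearMap.range_neg]; exact (le_of_eq hτ.2.2)
  · rw [hn]
    intro x hx
    have hx1 : x ∈ LinearMap.ker (nil τ) := by simpa only [nil, hτ.2.1] using hx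
    rw [LinearMap.mem_ker, LinearMap.neg_apply, LinearMap.mem_ker.1 hx1, neg_zero]

theorem subgroup_eq {σ : LinearMap.GeneralLinearGroup k M} (hσ : σ ∈ Cfsg.minimalQuadraticElements G) :
    (Cfsg.sameActionSubgroup G σ : Set (LinearMap.GeneralLinearGroup k M)) =
      Cfsg.sameActionClass G σ ∪ {1} := by
  refine Set.Subset.antisymm (fun x hx => ?_) ?_
  · induction hx using Subgroup.closure_induction with
    | mem y hy => exact Or.inl hy
    | one => exact Or.inr rfl
    | mul a b _ _ ha hb =>
      rcases ha with ha | rfl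
      · rcases hb with hb | rfl
        · exact mul_mem_class hσ ha hb
        · rw [mul_one]; exact Or.inl ha
      · rwa [one_mul]
    | inv a _ ha =>
      rcases ha with ha | rfl
      · exact Or.inl (inv_mem_class hσ ha)
      · rw [inv_one]; exact Or.inr rfl
  · rintro x (hx | rfl)
    · exact Subgroup.subset_closure hx
    · exact one_mem _

end

/-- Let k be a field of characteristic not 2 with k not of order 3, M a finite-dimensional k-vector space and G ≤ GL(M) such that (G, M) is a quadratic pair (M irreducible for G, and G generated by its quadratically acting elements σ whose scalar family 1 + c(σ − 1), c ∈ k, lies in G). Write 𝒬_d for the quadratic elements of G of minimal commutator rank, E(σ) for the subgroup generated by the members of 𝒬_d with the same fixed space and commutator space as σ, and Σ for the set of these subgroups. Then for σ ∈ 𝒬_d the subgroup E(σ) consists exactly of those members together with the identity, it is abelian, and if k has prime characteristic p every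 element of E(σ) has order dividing p. -/
theorem result {k : Type u} [Field k] (hk2 : ringChar k ≠ 2) (hk3 : Nat.card k ≠ 3)
    {M : Type u} [AddCommGroup M] [Module k M] [FiniteDimensional k M]
    {G : Subgroup (LinearMap.GeneralLinearGroup k M)} (hG : Cfsg.IsQuadraticPair G)
    {σ : LinearMap.GeneralLinearGroup k M} (hσ : σ ∈ Cfsg.minimalQuadraticElements G) :
    (Cfsg.sameActionSubgroup G σ : Set (LinearMap.GeneralLinearGroup k M)) = Cfsg.sameActionClass G σ ∪ {1} ∧
    IsMulCommutative ↥(Cfsg.sameActionSubgroup G σ) ∧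
    (∀ p : ℕ, p.Prime → ringChar k = p → ∀ x ∈ Cfsg.sameActionSubgroup G σ, x ^ p = 1) := by
  refine ⟨subgroup_eq hσ, Subgroup.isMulCommutative_closure fun a ha b hb => commute_class ha hb, ?_⟩
  intro p hp hchar x hx
  have hx' : x ∈ Cfsg.sameActionClass G σ ∪ {1} := by rw [← subgroup_eq hσ]; exact hx
  rcases hx' with hx' | rfl
  · have hsq : nil x * nil x = 0 := hx'.1.1.2.1.1
    have key : ∀ n : ℕ, ((x ^ n : LinearMap.GeneralLinearGroup k M) : M →ₗ[k] M) = 1 + (n : k) • nil x := by
      intro n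
      induction n with
      | zero => simp
      | succ n ih =>
        rw [pow_succ, Units.val_mul, ih]
        calc (1 + (n : k) • nil x) * (x : M →ₗ[k] M) = (1 + (n : k) • nil x) * (1 + nil x) := by simp [nil]
          _ = _ := by
            revert hsq
            generalize nil x = a
            intro hsq
            rw [mul_add, mul_one, add_mul, one_mul, smul_mul_assoc, hsq, smul_zero, add_zero,
              Nat.cast_succ, add_smul, one_smul]
            abel
    apply Units.ext
    rw [key p]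
    have : (p : k) = 0 := by rw [← hchar]; exact ringChar.Nat.cast_ringChar
    simp [this]
  · exact one_pow p

end Cfsg.Agent.S5059
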