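import Cfsg.Statements.S5060
import Cfsg.Agent.Lib.QuadPairCore
import Cfsg.Agent.Lib.PSLSimple

set_option autoImplicit false
open Cfsg

namespace Cfsg.Agent.S5060

open Polynomial Cfsg.Agent.QuadPairSL2 Cfsg.Agent.QuadPairRed Cfsg.Agent.QuadPairWord
open scoped MatrixGroups

theorem up_mem_of_infinite {k : Type*} [Field k] [Infinite k] (hk2 : (2 : k) ≠ 0) (hk3 : Nat.card k ≠ 3)
    {f : k[X]} (hdeg : 0 < f.natDegree) (hc0 : f.coeff 0 ≠ 0) (ρ : k[X]) :
    up (AdjoinRoot.mk f ρ) ∈ dick k (AdjoinRoot.root f) := by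
  obtain ⟨u, hu0, hu1⟩ := QuadPairCore.exists_unit_sq_ne_one hk2 hk3
  set w := (C ((1 - u * u)⁻¹) * ρ) % f
  obtain ⟨P, hP⟩ := exists_pair f hdeg hc0 w ((natDegree_mod_lt _ hdeg.ne').le)
  set S := AdjoinRoot f
  have hmem : ∀ P', P' = P ∨ P' = P + w → up (AdjoinRoot.mk f P') *
      dg (Units.map (algebraMap k S : k →* S) (Units.mk0 u hu0)) * up (-AdjoinRoot.mk f P') ∈
      dick k (AdjoinRoot.root f) := by
    intro P' hP'
    obtain ⟨g, hg, δ, h10, h00⟩ := hP P' hP'
    have hgS : Matrix.SpecialLinearGroup.map (AdjoinRoot.mkₐ f).toRingHom g ∈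
        dick k (AdjoinRoot.root f) := by
      rw [← show (AdjoinRoot.mkₐ f) (X : k[X]) = AdjoinRoot.root f from AdjoinRoot.mk_X, ← map_dick]
      exact Subgroup.mem_map_of_mem _ hg
    refine conj_dg_mem k hgS δ ?_ ?_ _
    · show AdjoinRoot.mk f (g.1 1 0) = algebraMap k S δ
      rw [← sub_eq_zero, AdjoinRoot.algebraMap_eq, ← AdjoinRoot.mk_C, ← map_sub, AdjoinRoot.mk_eq_zero]
      exact h10
    · show AdjoinRoot.mk f (g.1 0 0) = algebraMap k S δ * AdjoinRoot.mk f P'
      rw [h00, map_mul, AdjoinRoot.mk_C]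
      rfl
  have h := mul_mem (hmem _ (Or.inr rfl)) (inv_mem (hmem _ (Or.inl rfl)))
  convert h using 1
  simp only [_root_.mul_inv_rev, up_inv, neg_neg]
  rw [show ∀ A B C' D E : SL(2, S), A * D * B * (C' * (D⁻¹ * E)) = A * (D * (B * C') * D⁻¹) * E from
    fun A B C' D E => by group, up_mul, dg_conj_up, up_mul, up_mul]
  congr 1
  have hw : AdjoinRoot.mk f w = algebraMap k S ((1 - u * u)⁻¹) * AdjoinRoot.mk f ρ := by
    rw [show w = C ((1 - u * u)⁻¹) * ρ - f * ((C ((1 - u * u)⁻¹) * ρ) / f) from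
      eq_sub_of_add_eq (by rw [add_comm]; exact EuclideanDomain.div_add_mod _ f), map_sub,
      map_mul _ f, AdjoinRoot.mk_self, zero_mul, sub_zero, map_mul, AdjoinRoot.mk_C]
    rfl
  have h1 : algebraMap k S ((1 - u * u)⁻¹) * algebraMap k S (1 - u * u) = 1 := by
    rw [← map_mul, inv_mul_cancel₀ (fun h0 => hu1 (by linear_combination -h0)), map_one]
  simp only [map_add, hw, Units.coe_map, MonoidHom.coe_coe, Units.val_mk0, map_sub, map_mul,
    map_one] at h1 ⊢
  linear_combination -AdjoinRoot.mk f ρ * h1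

section
variable {F : Type*} [Field F]

theorem flip_det (s : F) (hs : s ≠ 0) (g : SL(2, F)) :
    !![g.1 1 1, g.1 1 0 / s; s * g.1 0 1, g.1 0 0].det = 1 := by
  rw [Matrix.det_fin_two_of, show g.1 1 0 / s * (s * g.1 0 1) = g.1 1 0 * g.1 0 1 by field_simp]
  linear_combination QuadPairSL2.det_eq g

/-- The value of the conjugation by `!![0, 1; s, 0]`. -/
def flipFun (s : F) (hs : s ≠ 0) (g : SL(2, F)) : SL(2, F) :=
  ⟨!![g.1 1 1, g.1 1 0 / s; s * g.1 0 1, g.1 0 0], flip_det s hs g⟩

@[simp] theorem flipFun_00 (s : F) (hs : s ≠ 0) (g : SL(2, F)) : (flipFun s hs g).1 0 0 = g.1 1 1 := rfl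
@[simp] theorem flipFun_01 (s : F) (hs : s ≠ 0) (g : SL(2, F)) : (flipFun s hs g).1 0 1 = g.1 1 0 / s := rfl
@[simp] theorem flipFun_10 (s : F) (hs : s ≠ 0) (g : SL(2, F)) : (flipFun s hs g).1 1 0 = s * g.1 0 1 := rfl
@[simp] theorem flipFun_11 (s : F) (hs : s ≠ 0) (g : SL(2, F)) : (flipFun s hs g).1 1 1 = g.1 0 0 := rfl

/-- Conjugation by `!![0, 1; s, 0]`. -/
def flipHom (s : F) (hs : s ≠ 0) : SL(2, F) →* SL(2, F) :=
  MonoidHom.mk' (flipFun s hs)
    (fun g h => by
      apply sl_ext <;>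
        simp only [QuadPairSL2.mul_apply, flipFun_00, flipFun_01, flipFun_10, flipFun_11] <;>
        field_simp <;> ring)

theorem flipHom_apply (s : F) (hs : s ≠ 0) (g : SL(2, F)) : flipHom s hs g = flipFun s hs g := rfl

theorem dick_eq_top_field {k : Type*} [Field k] [Algebra k F] (hk2 : (2 : k) ≠ 0) (hk3 : Nat.card k ≠ 3)
    {s : F} (hs : s ≠ 0) (halg : IsAlgebraic k s) (hgen : Algebra.adjoin k ({s} : Set F) = ⊤) :
    dick k s = ⊤ := by
  have hs_int : IsIntegral k s := halg.isIntegral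
  haveI : FiniteDimensional k F := ⟨by
    have := hs_int.fg_adjoin_singleton
    rwa [hgen, Algebra.top_toSubmodule] at this⟩
  rcases finite_or_infinite k with hfin | hinf
  · haveI : Finite F := Module.finite_of_finite k
    exact QuadPairDickson.dick_eq_top hk2 hk3 hs hgen
  set f := minpoly k s
  have hf0 : f.coeff 0 ≠ 0 := fun h => hs ((minpoly.coeff_zero_eq_zero hs_int).1 h)
  let π : AdjoinRoot f →ₐ[k] F := AdjoinRoot.liftAlgHom f (Algebra.ofId k F) s (minpoly.aeval k s)
  have hroot : π (AdjoinRoot.root f) = s := AdjoinRoot.liftAlgHom_root _ _ _ _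
  have hupall : ∀ x : F, up x ∈ dick k s := by
    intro x
    obtain ⟨p, hp⟩ : x ∈ (aeval s : k[X] →ₐ[k] F).range := by
      rw [← Algebra.adjoin_singleton_eq_range_aeval, hgen]; exact Algebra.mem_top
    have h := Subgroup.mem_map_of_mem (Matrix.SpecialLinearGroup.map (n := Fin 2) π.toRingHom)
      (up_mem_of_infinite hk2 hk3 (minpoly.natDegree_pos hs_int) hf0 p)
    rw [map_dick, hroot, map_up] at h
    convert h using 2
    show x = π (AdjoinRoot.mk f p)
    rw [← AdjoinRoot.aeval_eq, ← aeval_algHom_apply, hroot]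
    exact hp.symm
  have hloall : ∀ x : F, lo x ∈ dick k s := by
    intro x
    have hle : dick k s ≤ (dick k s).comap (flipHom s hs) := by
      conv_lhs => rw [dick]
      rw [Subgroup.closure_le]
      rintro g (⟨c, rfl⟩ | ⟨c, rfl⟩)
      · show flipHom s hs (up (algebraMap k F c)) ∈ dick k s
        have : flipHom s hs (up (algebraMap k F c)) = lo (algebraMap k F c * s) := by
          apply sl_ext <;> simp [flipHom_apply, mul_comm]
        rw [this]; exact lo_mem_dick k s c
      · show flipHom s hs (lo (algebraMap k F c * s)) ∈ dick k s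
        have : flipHom s hs (lo (algebraMap k F c * s)) = up (algebraMap k F c) := by
          apply sl_ext <;> simp [flipHom_apply, hs]
        rw [this]; exact up_mem_dick k s c
    have h : flipHom s hs (up (x / s)) ∈ dick k s := hle (hupall _)
    convert h using 1
    apply sl_ext <;> simp [flipHom_apply, mul_div_cancel₀ x hs]
  refine PSLSimple.eq_top_of_transvection_mem _ fun i j hij c => ?_
  fin_cases i <;> fin_cases j <;> first | exact absurd rfl hij | skip
  · convert hupall c using 1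
    apply QuadPairSL2.sl_ext <;> simp [Matrix.SpecialLinearGroup.transvection, Matrix.transvection]
  · convert hloall c using 1
    apply QuadPairSL2.sl_ext <;> simp [Matrix.SpecialLinearGroup.transvection, Matrix.transvection]

end


/-- Let k ⊆ K be fields with the characteristic of k not 2 and k not of order 3, and let α ∈ K be a non-zero element algebraic over k. Then the subgroup of SL₂(K) generated by the upper unitriangular matrices with entry c and the lower unitriangular matrices with entry cα, c ranging over k, is exactly the group of matrices of SL₂(K) with all entries in k(α). -/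
theorem result {k K : Type*} [Field k] [Field K] [Algebra k K] (hk2 : ringChar k ≠ 2) (hk3 : Nat.card k ≠ 3)
    (α : K) (hα : IsAlgebraic k α) (hα0 : α ≠ 0) :
    (Subgroup.closure ({g : Matrix.SpecialLinearGroup (Fin 2) K | ∃ c : k, (g : Matrix (Fin 2) (Fin 2) K) = !![1, algebraMap k K c; 0, 1]} ∪
        {g : Matrix.SpecialLinearGroup (Fin 2) K | ∃ c : k, (g : Matrix (Fin 2) (Fin 2) K) = !![1, 0; algebraMap k K c * α, 1]}) :
      Set (Matrix.SpecialLinearGroup (Fin 2) K)) =
    {g : Matrix.SpecialLinearGroup (Fin 2) K | ∀ i j : Fin 2, (g : Matrix (Fin 2) (Fin 2) K) i j ∈ IntermediateField.adjoin k ({α} : Set K)} := by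
  have h2 : (2 : k) ≠ 0 := Ring.two_ne_zero hk2
  set F := IntermediateField.adjoin k ({α} : Set K)
  set s : F := ⟨α, IntermediateField.mem_adjoin_simple_self k α⟩
  have hs : s ≠ 0 := fun h => hα0 (congrArg Subtype.val h)
  have halg : IsAlgebraic k s := (isAlgebraic_algHom_iff F.val F.val.injective).1 hα
  have hgen : Algebra.adjoin k ({s} : Set F) = ⊤ := by
    have hadj : Algebra.adjoin k ({α} : Set K) = F.toSubalgebra :=
      (IntermediateField.adjoin_simple_toSubalgebra_of_isAlgebraic hα).symm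
    apply Subalgebra.map_injective (f := F.val) F.val.injective
    rw [AlgHom.map_adjoin, Set.image_singleton, Algebra.map_top, IntermediateField.range_val]
    exact hadj
  have htop := dick_eq_top_field h2 hk3 hs halg hgen
  have himg : Subgroup.closure ({g : Matrix.SpecialLinearGroup (Fin 2) K | ∃ c : k, (g : Matrix (Fin 2) (Fin 2) K) = !![1, algebraMap k K c; 0, 1]} ∪
      {g : Matrix.SpecialLinearGroup (Fin 2) K | ∃ c : k, (g : Matrix (Fin 2) (Fin 2) K) = !![1, 0; algebraMap k K c * α, 1]}) =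
      (QuadPairSL2.dick k s).map (Matrix.SpecialLinearGroup.map (n := Fin 2) F.val.toRingHom) := by
    rw [QuadPairSL2.map_dick, QuadPairSL2.dick]
    congr 1
    ext g
    simp only [Set.mem_union, Set.mem_ofPred_eq, Set.mem_range]
    constructor
    · rintro (⟨c, hc⟩ | ⟨c, hc⟩)
      · exact Or.inl ⟨c, Subtype.ext hc.symm⟩
      · exact Or.inr ⟨c, Subtype.ext hc.symm⟩
    · rintro (⟨c, rfl⟩ | ⟨c, rfl⟩)
      · exact Or.inl ⟨c, rfl⟩
      · exact Or.inr ⟨c, rfl⟩
  rw [himg, htop, ← MonoidHom.range_eq_map]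
  ext g
  simp only [SetLike.mem_coe, MonoidHom.mem_range, Set.mem_ofPred_eq]
  constructor
  · rintro ⟨h, rfl⟩ i j
    exact (h.1 i j).2
  · intro hg
    refine ⟨⟨Matrix.of fun i j => (⟨_, hg i j⟩ : F), Subtype.ext ?_⟩, Subtype.ext (Matrix.ext fun i j => rfl)⟩
    show F.val (Matrix.det (Matrix.of fun i j => (⟨_, hg i j⟩ : F) : Matrix (Fin 2) (Fin 2) F)) = F.val 1
    rw [AlgHom.map_det, map_one]
    exact g.2

end Cfsg.Agent.S5060
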