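import Cfsg.Statements.S5067
-- import your own Cfsg.Agent.* helpers here

set_option autoImplicit false
open Cfsg

namespace Cfsg.Agent.S5067

open scoped commutatorElement

open Subgroup in
theorem class_normalClosure_lt {P : Type*} [Group P] [Group.IsNilpotent P]
    (hna : ¬ IsMulCommutative P) {E : Subgroup P} (hE : IsMulCommutative ↥E) :
    Group.nilpotencyClass ↥(Subgroup.normalClosure (E : Set P)) < Group.nilpotencyClass P := by
  set N : Subgroup P := Subgroup.normalClosure (E : Set P) with hN
  set γ : ℕ → Subgroup P := fun n => (⊤ : Subgroup P).lowerCentralSeries n with hγ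
  haveI : (γ 2).Normal := inferInstanceAs ((⊤ : Subgroup P).lowerCentralSeries 2).Normal
  let π := QuotientGroup.mk' (γ 2)
  have hcent : ∀ x ∈ γ 1, ∀ y : P, π x * π y = π y * π x := by
    intro x hx y
    rw [← commutatorElement_eq_one_iff_mul_comm, ← map_commutatorElement]
    exact (QuotientGroup.eq_one_iff _).2 (commutator_mem_commutator hx (mem_top y))
  have hNle : N ≤ Subgroup.closure ((E : Set P) ∪ (γ 1 : Set P)) := by
    haveI : (Subgroup.closure ((E : Set P) ∪ (γ 1 : Set P))).Normal := by
      constructor
      intro n hn g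
      have h1 : g * n * g⁻¹ * n⁻¹ ∈ γ 1 := commutator_mem_commutator (mem_top g) (mem_top n)
      have := mul_mem (subset_closure (Set.mem_union_right (E : Set P) h1)) hn
      simpa [mul_assoc] using this
    exact normalClosure_le_normal (fun x hx => subset_closure (Or.inl hx))
  have hcomm : ∀ a ∈ N, ∀ b ∈ N, π a * π b = π b * π a := by
    intro a ha b hb
    have key : ∀ x ∈ ((E : Set P) ∪ (γ 1 : Set P)), ∀ y ∈ ((E : Set P) ∪ (γ 1 : Set P)),
        π x * π y = π y * π x := by
      rintro x (hx | hx) y (hy | hy)
      · have : x * y = y * x := congrArg Subtype.val (hE.is_comm.comm ⟨x, hx⟩ ⟨y, hy⟩)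
        rw [← map_mul, ← map_mul, this]
      · exact (hcent y hy x).symm
      · exact hcent x hx y
      · exact hcent x hx y
    have ha' := hNle ha
    have hb' := hNle hb
    clear ha hb
    induction ha', hb' using closure_induction₂ with
    | mem x y hx hy => exact key x hx y hy
    | one_left x _ => simp
    | one_right x _ => simp
    | mul_left x y z _ _ _ h1 h2 => rw [map_mul, mul_assoc, h2, ← mul_assoc, h1, mul_assoc]
    | mul_right x y z _ _ _ h1 h2 => rw [map_mul, ← mul_assoc, h1, mul_assoc, h2, ← mul_assoc]
    | inv_left x y _ _ h => rw [map_inv]; exact (Commute.inv_left h : _)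
    | inv_right x y _ _ h => rw [map_inv]; exact (Commute.inv_right h : _)
  have hstep : ∀ i, N.lowerCentralSeries (i + 1) ≤ γ (i + 2) := by
    intro i
    induction i with
    | zero =>
      rw [Subgroup.lowerCentralSeries_succ, Subgroup.lowerCentralSeries_zero, commutator_le]
      intro a ha b hb
      apply (QuotientGroup.eq_one_iff _).1
      show π ⁅a, b⁆ = 1
      rw [map_commutatorElement, commutatorElement_eq_one_iff_mul_comm]
      exact hcomm a ha b hb
    | succ i ih => exact commutator_mono ih le_top
  have hc : 2 ≤ Group.nilpotencyClass P := by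
    by_contra hlt
    have h := (Subgroup.lowerCentralSeries_eq_bot_iff_nilpotencyClass_le (G := P) (n := 1)).2 (by omega)
    apply hna
    refine ⟨⟨fun a b => ?_⟩⟩
    rw [← commutatorElement_eq_one_iff_mul_comm]
    have : ⁅a, b⁆ ∈ (⊤ : Subgroup P).lowerCentralSeries 1 :=
      commutator_mem_commutator (mem_top a) (mem_top b)
    rwa [h, mem_bot] at this
  obtain ⟨c, hc'⟩ := Nat.exists_eq_add_of_le hc
  have hbot : N.lowerCentralSeries (c + 1) = ⊥ := by
    rw [eq_bot_iff]
    refine (hstep c).trans ?_
    have h := Subgroup.lowerCentralSeries_nilpotencyClass (G := P)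
    rw [hc', Nat.add_comm] at h
    exact h.le
  have h2 : (⊤ : Subgroup ↥N).lowerCentralSeries (c + 1) = ⊥ := by
    rw [← map_subtype_inj, Subgroup.map_bot, top_subtype_lowerCentralSeries, hbot]
  have h3 := (Subgroup.lowerCentralSeries_eq_bot_iff_nilpotencyClass_le (G := ↥N) (n := c + 1)).1 h2
  omega

/-- Let P be a non-abelian nilpotent p-group (every element of p-power order; P possibly infinite) generated by two abelian subgroups E and F. Then the normal closure of E in P, and likewise that of F, has nilpotency class strictly smaller than that of P. -/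
theorem result {P : Type*} [Group P] {p : ℕ} [Fact p.Prime] (hP : IsPGroup p P) [Group.IsNilpotent P]
    (hna : ¬ IsMulCommutative P) {E F : Subgroup P} (hE : IsMulCommutative ↥E) (hF : IsMulCommutative ↥F) (hgen : E ⊔ F = ⊤) :
    Group.nilpotencyClass ↥(Subgroup.normalClosure (E : Set P)) < Group.nilpotencyClass P ∧
    Group.nilpotencyClass ↥(Subgroup.normalClosure (F : Set P)) < Group.nilpotencyClass P := by
  exact ⟨class_normalClosure_lt hna hE, class_normalClosure_lt hna hF⟩

end Cfsg.Agent.S5067
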