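import Cfsg.Statements.S5073
import Cfsg.Agent.Lib.QuadPairCommute

set_option autoImplicit false
universe u
open Cfsg

namespace Cfsg.Agent.S5073


/-- Let k be a field of characteristic not 2 with k not of order 3, M a finite-dimensional k-vector space and G ≤ GL(M) such that (G, M) is a quadratic pair (M irreducible for G, and G generated by its quadratically acting elements σ whose scalar family 1 + c(σ − 1), c ∈ k, lies in G). Write 𝒬_d for the quadratic elements of G of minimal commutator rank, E(σ) for the subgroup generated by the members of 𝒬_d with the same fixed space and commutator space as σ, and Σ for the set of these subgroups. Let E, F ∈ Σ. If some non-identity element of E commutes with some non-identity element of F, or some non-identity element of E normalizes F, then E and F commute elementwise. -/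
theorem result {k : Type u} [Field k] (hk2 : ringChar k ≠ 2) (hk3 : Nat.card k ≠ 3)
    {M : Type u} [AddCommGroup M] [Module k M] [FiniteDimensional k M]
    {G : Subgroup (LinearMap.GeneralLinearGroup k M)} (hG : Cfsg.IsQuadraticPair G)
    {E F : Subgroup (LinearMap.GeneralLinearGroup k M)} (hE : E ∈ Cfsg.quadraticRootSubgroups G) (hF : F ∈ Cfsg.quadraticRootSubgroups G)
    (h : (∃ e ∈ E, e ≠ 1 ∧ ∃ f ∈ F, f ≠ 1 ∧ e * f = f * e) ∨ E ⊓ Subgroup.normalizer (F : Set (LinearMap.GeneralLinearGroup k M)) ≠ ⊥) :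
    ⁅E, F⁆ = ⊥ := by
  have h2' := QuadPairCommute.two_ne_zero_of_ringChar hk2
  obtain ⟨a, ha, rfl⟩ := QuadPairTheory.mem_roots.1 hE
  obtain ⟨b, hb, rfl⟩ := QuadPairTheory.mem_roots.1 hF
  have key : ∀ {g}, g ∈ QuadPairTheory.E G ha.1.1 → g ≠ 1 →
      ∃ h : QuadPairTheory.IsMin G (QuadPairTheory.nl g),
        QuadPairTheory.E G h.1.1 = QuadPairTheory.E G ha.1.1 := fun {g} hg hg1 =>
    ⟨(QuadPairTheory.cls_spaces ha (QuadPairTheory.mem_E.1 hg)
      fun e => hg1 (QuadPairTheory.nl_eq_zero.1 e)).1,
      QuadPairTheory.E_eq_of_mem ha (QuadPairTheory.mem_E.1 hg) fun e => hg1 (QuadPairTheory.nl_eq_zero.1 e)⟩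
  rcases h with ⟨e, he, he1, f, hf, hf1, hef⟩ | hne
  · obtain ⟨hp, hpE⟩ := key he he1
    have hq0 : QuadPairTheory.nl f ≠ 0 := fun h => hf1 (QuadPairTheory.nl_eq_zero.1 h)
    have hq := (QuadPairTheory.cls_spaces hb (QuadPairTheory.mem_E.1 hf) hq0).1
    rw [← hpE, ← QuadPairTheory.E_eq_of_mem hb (QuadPairTheory.mem_E.1 hf) hq0]
    exact QuadPairCommute.commutator_eq_bot_of_nl h2' hk3 hp hq (QuadPairCommute.nl_comm hef)
  · obtain ⟨e, he, he1⟩ : ∃ e ∈ QuadPairTheory.E G ha.1.1 ⊓
        Subgroup.normalizer (QuadPairTheory.E G hb.1.1 : Set (LinearMap.GeneralLinearGroup k M)), e ≠ 1 := by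
      by_contra hc
      push Not at hc
      exact hne ((Subgroup.eq_bot_iff_forall _).2 hc)
    obtain ⟨hp, hpE⟩ := key he.1 he1
    rw [← hpE]
    refine QuadPairCommute.commutator_eq_bot_of_nl h2' hk3 hp hb
      (QuadPairCommute.comm_of_normalizes h2' hk3 hp hb ?_)
    have : QuadPairTheory.unitOf (QuadPairTheory.nl e) hp.1.1 = e := Units.ext (by simp [QuadPairTheory.nl])
    rw [this]
    exact he.2

end Cfsg.Agent.S5073
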