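import Cfsg.Statements.S5075
import Mathlib
import Cfsg.Agent.Lib.McLaughlinSplit


set_option autoImplicit false
open Cfsg

namespace Cfsg.Agent.S5075

open Module in
theorem isTv_of_order {p : ℕ} [Fact p.Prime] {V : Type*} [AddCommGroup V] [Module (ZMod p) V] [Finite V]
    (t : V ≃ₗ[ZMod p] V) (ho : orderOf t = p)
    (hk : finrank (ZMod p) ↥(LinearMap.ker ((t : V →ₗ[ZMod p] V) - LinearMap.id)) + 1 = finrank (ZMod p) V) :
    McLaughlinSplit.IsTv t := by
  set N : V →ₗ[ZMod p] V := (t : V →ₗ[ZMod p] V) - LinearMap.id with hN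
  have hr : finrank (ZMod p) (LinearMap.range N) = 1 := by
    have := N.finrank_range_add_finrank_ker
    omega
  obtain ⟨⟨a, ha⟩, ha0, hspan⟩ := finrank_eq_one_iff'.mp hr
  have ha0' : a ≠ 0 := fun e => ha0 (Subtype.ext e)
  let c : LinearMap.range N ≃ₗ[ZMod p] ZMod p :=
    (LinearEquiv.ofBijective ((LinearMap.id (R := ZMod p) (M := ZMod p)).smulRight (⟨a, ha⟩ : LinearMap.range N))
      ⟨fun u v h => smul_left_injective (ZMod p) ha0 h, fun w => hspan w⟩).symm
  let φ : V →ₗ[ZMod p] ZMod p := c.toLinearMap ∘ₗ N.rangeRestrict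
  have hφ : ∀ x, φ x • a = N x := by
    intro x
    have := c.symm_apply_apply (N.rangeRestrict x)
    exact congrArg Subtype.val this
  have het : ∀ x, t x = x + φ x • a := fun x => by
    rw [hφ x, hN]
    simp
  have hpow : ∀ n : ℕ, (t ^ n) a = (1 + φ a) ^ n • a := by
    intro n
    induction n with
    | zero => simp
    | succ n ih =>
      rw [pow_succ', LinearEquiv.mul_apply, ih, map_smul, het, smul_add, smul_smul, pow_succ, ← add_smul]
      congr 1
      ring
  have hp1 := hpow p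
  have ht1 : t ^ p = 1 := by
    calc t ^ p = t ^ orderOf t := by rw [ho]
      _ = 1 := pow_orderOf_eq_one t
  rw [ht1, ZMod.pow_card] at hp1
  have hφa : φ a = 0 := by
    have h : φ a • a = 0 := by
      rw [add_smul, one_smul] at hp1
      simpa using hp1.symm
    exact (smul_eq_zero.mp h).resolve_right ha0'
  refine ⟨a, φ, ha0', fun e => ?_, hφa, het⟩
  have : t = 1 := LinearEquiv.ext fun x => by rw [het x, e]; simp
  rw [this, orderOf_one] at ho
  exact (Fact.out : p.Prime).ne_one ho.symm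

open Module in
theorem split_main {p : ℕ} [Fact p.Prime] {V : Type*} [AddCommGroup V] [Module (ZMod p) V]
    {H : Subgroup (V ≃ₗ[ZMod p] V)} {n : ℕ} {W W' : Fin n → Submodule (ZMod p) V}
    {L : Fin n → Subgroup (V ≃ₗ[ZMod p] V)} (D : McLaughlinSplit.Dec H W W' L) :
    let U : Fin (n + 1) → Submodule (ZMod p) V := Fin.cons (⨅ j, W' j) W
    DirectSum.IsInternal U ∧
      (∀ h ∈ H, ∀ i, (U i).map (h : V →ₗ[ZMod p] V) = U i) ∧
      (∀ j, L j ≤ H ∧ ((L j).subgroupOf H).Normal) ∧ ⨆ j, L j = H ∧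
      (∀ j, L j ⊓ (⨆ j' ∈ {j' : Fin n | j' ≠ j}, L j') = ⊥) ∧
      (∀ j j', j ≠ j' → ∀ a ∈ L j, ∀ b ∈ L j', a * b = b * a) ∧
      (∀ j, ∀ h ∈ L j, ∀ i : Fin (n + 1), i ≠ j.succ → ∀ v ∈ U i, h v = v) ∧
      (∀ j, ∃ ρ : ↥(L j) →* (↥(W j) ≃ₗ[ZMod p] ↥(W j)),
        (∀ (h : ↥(L j)) (v : ↥(W j)), ((ρ h v : ↥(W j)) : V) = (h : V ≃ₗ[ZMod p] V) (v : V)) ∧
        ((ρ.range : Set (↥(W j) ≃ₗ[ZMod p] ↥(W j))) =
            {f : ↥(W j) ≃ₗ[ZMod p] ↥(W j) | LinearMap.det (f : ↥(W j) →ₗ[ZMod p] ↥(W j)) = 1} ∨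
          ∃ B : LinearMap.BilinForm (ZMod p) ↥(W j), B.IsAlt ∧ B.Nondegenerate ∧
            (ρ.range : Set (↥(W j) ≃ₗ[ZMod p] ↥(W j))) =
              {f : ↥(W j) ≃ₗ[ZMod p] ↥(W j) | ∀ x y, B (f x) (f y) = B x y})) := by
  intro U
  have hU0 : U 0 = ⨅ j, W' j := rfl
  have hUs : ∀ j : Fin n, U j.succ = W j := fun j => Fin.cons_succ _ _ j
  let π : Fin n → (V →ₗ[ZMod p] V) := fun j => (W j).projection (W' j) (D.compl j)
  have hπW : ∀ j, ∀ w ∈ W j, π j w = w := fun j w hw => Submodule.projection_apply_of_mem_left _ hw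
  have hπW' : ∀ j, ∀ y ∈ W' j, π j y = 0 := fun j y hy => (Submodule.projection_apply_eq_zero_iff _).mpr hy
  have hsum : ∀ v : V, v - ∑ j, π j v ∈ ⨅ j, W' j := by
    intro v
    rw [Submodule.mem_iInf]
    intro i
    rw [← Submodule.projection_apply_eq_zero_iff (D.compl i)]
    show π i (v - ∑ j, π j v) = 0
    rw [map_sub, map_sum, Finset.sum_eq_single i]
    · rw [hπW i _ (Submodule.projection_apply_mem _ v), sub_self]
    · intro j _ hji
      exact hπW' i _ (D.sep j i hji (Submodule.projection_apply_mem _ v))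
    · simp
  have hfix : ∀ j, ∀ h ∈ L j, ∀ i : Fin (n + 1), i ≠ j.succ → ∀ v ∈ U i, h v = v := by
    intro j h hh i hij v hv
    induction i using Fin.cases with
    | zero => exact (D.le j hh).1 v (Submodule.mem_iInf W' |>.mp (hU0 ▸ hv) j)
    | succ i => exact (D.le j hh).1 v (D.sep i j (fun e => hij (by rw [e])) (hUs i ▸ hv))
  have htop : ⨆ i, U i = ⊤ := by
    rw [eq_top_iff]
    intro v _
    rw [← sub_add_cancel v (∑ j, π j v)]
    exact Submodule.add_mem _ (Submodule.mem_iSup_of_mem 0 (hU0 ▸ hsum v)) (Submodule.sum_mem _ fun j _ =>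
      Submodule.mem_iSup_of_mem j.succ (hUs j ▸ Submodule.projection_apply_mem _ v))
  have hindep : iSupIndep U := by
    rw [iSupIndep_def]
    intro i
    induction i using Fin.cases with
    | zero =>
      rw [hU0, Submodule.disjoint_def]
      intro v hv hv'
      have hE : ∀ z ∈ (⨆ (j) (_ : j ≠ (0 : Fin (n + 1))), U j), z = ∑ j, π j z := by
        intro z hz
        have hle : (⨆ (j) (_ : j ≠ (0 : Fin (n + 1))), U j) ≤ LinearMap.ker (LinearMap.id - ∑ j, π j) := by
          refine iSup₂_le fun i hi => ?_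
          induction i using Fin.cases with
          | zero => exact absurd rfl hi
          | succ i =>
            rw [hUs]
            intro w hw
            rw [LinearMap.mem_ker, LinearMap.sub_apply, LinearMap.id_apply, LinearMap.sum_apply,
              Finset.sum_eq_single i (fun j _ hj => hπW' j w (D.sep i j (Ne.symm hj) hw)) (by simp),
              hπW i w hw, sub_self]
        simpa [sub_eq_zero] using hle hz
      rw [hE v hv']
      exact Finset.sum_eq_zero fun j _ => hπW' j v (Submodule.mem_iInf W' |>.mp hv j)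
    | succ j =>
      rw [hUs]
      refine (D.compl j).disjoint.mono_right (iSup₂_le fun i hi => ?_)
      induction i using Fin.cases with
      | zero => exact hU0 ▸ iInf_le W' j
      | succ i => exact hUs i ▸ D.sep i j (fun e => hi (by rw [e]))
  have hcomm : ∀ j j', j ≠ j' → ∀ a ∈ L j, ∀ b ∈ L j', a * b = b * a := by
    intro j j' hne a ha b hb
    have hle : (⊤ : Submodule (ZMod p) V) ≤ LinearMap.ker
        ((↑(a * b) : V →ₗ[ZMod p] V) - (↑(b * a) : V →ₗ[ZMod p] V)) := by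
      rw [← htop]
      refine iSup_le fun i => ?_
      intro v hv
      rw [LinearMap.mem_ker, LinearMap.sub_apply, sub_eq_zero]
      show a (b v) = b (a v)
      by_cases hij : i = j.succ
      · subst hij
        have hij' : j.succ ≠ j'.succ := fun e => hne (Fin.succ_injective _ e)
        rw [hfix j' b hb _ hij' v hv,
          hfix j' b hb _ hij' (a v) (hUs j ▸ McLaughlinSplit.supp_maps (D.le j ha) (hUs j ▸ hv))]
      · rw [hfix j a ha _ hij v hv]
        by_cases hij' : i = j'.succ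
        · subst hij'
          exact hfix j a ha _ hij (b v) (hUs j' ▸ McLaughlinSplit.supp_maps (D.le j' hb) (hUs j' ▸ hv))
        · rw [hfix j' b hb _ hij' v hv, hfix j a ha _ hij v hv]
    ext v
    have := hle (Submodule.mem_top (x := v))
    rwa [LinearMap.mem_ker, LinearMap.sub_apply, sub_eq_zero] at this
  have hinvU : ∀ h ∈ H, ∀ i, ∀ v ∈ U i, h v ∈ U i ∧ (h⁻¹ : V ≃ₗ[ZMod p] V) v ∈ U i := by
    intro h hh i
    let K : Subgroup (V ≃ₗ[ZMod p] V) :=
      { carrier := {g | ∀ v ∈ U i, g v ∈ U i ∧ (g⁻¹ : V ≃ₗ[ZMod p] V) v ∈ U i}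
        one_mem' := fun v hv => ⟨hv, by simpa using hv⟩
        mul_mem' := fun {a b} ha hb v hv => ⟨(ha _ (hb v hv).1).1, by
          rw [mul_inv_rev]; exact (hb _ (ha v hv).2).2⟩
        inv_mem' := fun {a} ha v hv => ⟨(ha v hv).2, by rw [inv_inv]; exact (ha v hv).1⟩ }
    have hHK : H ≤ K := by
      rw [← D.gen]
      refine iSup_le fun j g hg v hv => ?_
      by_cases hij : i = j.succ
      · subst hij
        exact ⟨hUs j ▸ McLaughlinSplit.supp_maps (D.le j hg) (hUs j ▸ hv),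
          hUs j ▸ McLaughlinSplit.supp_maps (Subgroup.inv_mem _ (D.le j hg)) (hUs j ▸ hv)⟩
      · exact ⟨by rw [hfix j g hg i hij v hv]; exact hv,
          by rw [hfix j g⁻¹ (inv_mem hg) i hij v hv]; exact hv⟩
    exact hHK hh
  refine ⟨DirectSum.isInternal_submodule_of_iSupIndep_of_iSup_eq_top hindep htop, fun h hh i => ?_,
    fun j => ⟨D.gen ▸ le_iSup L j, ?_⟩, D.gen, fun j => ?_, hcomm, hfix, fun j => ?_⟩
  · refine le_antisymm ?_ fun v hv => ⟨(h⁻¹ : V ≃ₗ[ZMod p] V) v, (hinvU h hh i v hv).2, ?_⟩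
    · rintro _ ⟨v, hv, rfl⟩
      exact (hinvU h hh i v hv).1
    · show h ((h⁻¹ : V ≃ₗ[ZMod p] V) v) = v
      rw [← LinearEquiv.mul_apply, mul_inv_cancel]
      rfl
  · have hn : H ≤ Subgroup.normalizer ((L j : Subgroup (V ≃ₗ[ZMod p] V)) : Set (V ≃ₗ[ZMod p] V)) := by
      rw [← D.gen]
      refine iSup_le fun j' => ?_
      by_cases hjj : j' = j
      · subst hjj
        exact Subgroup.le_normalizer
      · intro g hg
        rw [Subgroup.mem_normalizer_iff]
        intro x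
        constructor
        · intro hx
          rw [hcomm j' j hjj g hg x hx]
          simpa using hx
        · intro hx
          have e : g * x * g⁻¹ = x := by
            have h2 := hcomm j' j hjj g hg _ hx
            exact mul_left_cancel (a := g) (h2.trans (by group : g * x * g⁻¹ * g = g * x))
          rwa [e] at hx
    constructor
    intro x hx g
    rw [Subgroup.mem_subgroupOf] at hx ⊢
    simpa using (Subgroup.mem_normalizer_iff.mp (hn g.2) x).mp hx
  · rw [eq_bot_iff]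
    intro x hx
    have hle : (⨆ j' ∈ {j' : Fin n | j' ≠ j}, L j') ≤ McLaughlinSplit.supp (W' j) (W j) := by
      refine iSup₂_le fun j' hj' g hg => ⟨fun w hw => ?_, fun v => ?_⟩
      · exact (D.le j' hg).1 w (D.sep j j' (Ne.symm hj') hw)
      · exact D.sep j' j hj' ((D.le j' hg).2 v)
    rw [Subgroup.mem_bot]
    exact McLaughlinSplit.supp_inf (D.compl j) (D.le j hx.1) (hle hx.2)
  · refine ⟨McLaughlinSplit.res.comp (Subgroup.inclusion (D.le j)), fun h v => rfl, ?_⟩
    have hrange : ∀ f : ↥(W j) ≃ₗ[ZMod p] ↥(W j),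
        f ∈ (McLaughlinSplit.res.comp (Subgroup.inclusion (D.le j))).range ↔
          ∃ k ∈ L j, ∀ w : ↥(W j), (f w : V) = k w := by
      intro f
      constructor
      · rintro ⟨k, rfl⟩
        exact ⟨k, k.2, fun w => rfl⟩
      · rintro ⟨k, hk, e⟩
        exact ⟨⟨k, hk⟩, LinearEquiv.ext fun w => Subtype.ext (e w).symm⟩
    rcases D.classical j with h | ⟨B, hB, hB', h⟩
    · exact .inl (Set.ext fun f => (hrange f).trans (h f))
    · exact .inr ⟨B, hB, hB', Set.ext fun f => (hrange f).trans (h f)⟩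


/-- Let p be an odd prime, V a finite-dimensional vector space over the field with p elements, and H a group of linear automorphisms of V generated by transvections (elements of order p fixing a hyperplane pointwise) and having no nontrivial normal p-subgroup. Then for some n ≥ 1 there are a decomposition V = V₀ ⊕ V₁ ⊕ ⋯ ⊕ Vₙ into H-invariant subspaces and a decomposition of H as the internal direct product of normal subgroups H₁, …, Hₙ such that Hⱼ acts trivially on every Vᵢ with i ≠ j, and Hⱼ induces on Vⱼ exactly the special linear group of Vⱼ or exactly the isometry group of a non-degenerate alternating form on Vⱼ. -/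
theorem result {p : ℕ} [Fact p.Prime] (hp : Odd p) {V : Type*} [AddCommGroup V] [Module (ZMod p) V] [Finite V]
    (H : Subgroup (V ≃ₗ[ZMod p] V)) (T : Set (V ≃ₗ[ZMod p] V)) (hHT : H = Subgroup.closure T)
    (hT : ∀ t ∈ T, orderOf t = p ∧
      Module.finrank (ZMod p) ↥(LinearMap.ker ((t : V →ₗ[ZMod p] V) - LinearMap.id)) + 1 =
        Module.finrank (ZMod p) V)
    (hOp : Cfsg.pCore p ↥H = ⊥) :
    ∃ (n : ℕ) (W : Fin (n + 1) → Submodule (ZMod p) V) (K : Fin n → Subgroup (V ≃ₗ[ZMod p] V)),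
      1 ≤ n ∧ DirectSum.IsInternal W ∧
      (∀ h ∈ H, ∀ i, (W i).map (h : V →ₗ[ZMod p] V) = W i) ∧
      (∀ j, K j ≤ H ∧ ((K j).subgroupOf H).Normal) ∧ ⨆ j, K j = H ∧
      (∀ j, K j ⊓ (⨆ j' ∈ {j' : Fin n | j' ≠ j}, K j') = ⊥) ∧
      (∀ j j', j ≠ j' → ∀ a ∈ K j, ∀ b ∈ K j', a * b = b * a) ∧
      (∀ j, ∀ h ∈ K j, ∀ i : Fin (n + 1), i ≠ j.succ → ∀ v ∈ W i, h v = v) ∧
      (∀ j, ∃ ρ : ↥(K j) →* (↥(W j.succ) ≃ₗ[ZMod p] ↥(W j.succ)),
        (∀ (h : ↥(K j)) (v : ↥(W j.succ)), ((ρ h v : ↥(W j.succ)) : V) = (h : V ≃ₗ[ZMod p] V) (v : V)) ∧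
        ((ρ.range : Set (↥(W j.succ) ≃ₗ[ZMod p] ↥(W j.succ))) =
            {f : ↥(W j.succ) ≃ₗ[ZMod p] ↥(W j.succ) | LinearMap.det (f : ↥(W j.succ) →ₗ[ZMod p] ↥(W j.succ)) = 1} ∨
          ∃ B : LinearMap.BilinForm (ZMod p) ↥(W j.succ), B.IsAlt ∧ B.Nondegenerate ∧
            (ρ.range : Set (↥(W j.succ) ≃ₗ[ZMod p] ↥(W j.succ))) = {f : ↥(W j.succ) ≃ₗ[ZMod p] ↥(W j.succ) | ∀ x y, B (f x) (f y) = B x y})) := by
  have hT' : ∀ t ∈ T, McLaughlinSplit.IsTv t := fun t ht => isTv_of_order t (hT t ht).1 (hT t ht).2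
  obtain ⟨n, hn, W, W', L, D⟩ := McLaughlinSplit.exists_dec hp T hT' (hHT ▸ hOp)
  rw [← hHT] at D
  obtain ⟨h1, h2, h3, h4, h5, h6, h7, h8⟩ := split_main D
  refine ⟨n, Fin.cons (⨅ j, W' j) W, L, hn, h1, h2, h3, h4, h5, h6, h7, fun j => ?_⟩
  exact h8 j

end Cfsg.Agent.S5075
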