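import Cfsg.Statements.S5078
import Cfsg.Agent.Lib.FusionSysBasic

set_option autoImplicit false
open Cfsg

namespace Cfsg.Agent.S5078

open Cfsg.Agent.FusionSysBasic in
theorem aux {Ω : Type*} [Group Ω] {S : Subgroup Ω} [Finite S] {F : Cfsg.FusionSystem S} {P : Subgroup Ω}
    (hP : F.IsReceptive P) {Q : Subgroup Ω} (hQ : F.IsConj P Q) :
    Nat.card (Cfsg.FusionSystem.centralizerIn S Q) ≤ Nat.card (Cfsg.FusionSystem.centralizerIn S P) := by
  obtain ⟨hPS, hrec⟩ := receptive_iff.1 hP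
  obtain ⟨f, hf, him⟩ := isConj_iff.1 (Cfsg.Agent.FusionSysBasic.isConj_symm hQ)
  obtain ⟨f', hf', hag⟩ := hrec Q f (Cfsg.FusionSystem.centralizerIn S Q) hf him inf_le_left
    (fun g hg => (centralizerIn_le_normalizerIn hg).2)
    (fun g hg => ⟨1, S.one_mem, fun x hx => by
      rw [(mem_centralizerIn.1 hg).2 x hx, cj_one]⟩)
  have hmem : ∀ c ∈ Cfsg.FusionSystem.centralizerIn S Q, f' c ∈ Cfsg.FusionSystem.centralizerIn S P := by
    intro c hc
    have hc' : c ∈ Q ⊔ Cfsg.FusionSystem.centralizerIn S Q := Subgroup.mem_sup_right hc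
    refine mem_centralizerIn.2 ⟨hf'.apply_mem hc', fun y hy => ?_⟩
    rw [← him] at hy
    obtain ⟨x, hx, rfl⟩ := hf.mem_im.1 hy
    rw [← hag x hx, ← hf'.map_cj hc' (Subgroup.mem_sup_left hx), (mem_centralizerIn.1 hc).2 x hx]
  haveI : Finite (Cfsg.FusionSystem.centralizerIn S P) := finite_of_le inf_le_left
  refine Nat.card_le_card_of_injective (fun c => ⟨f' c, hmem c c.2⟩) fun a b hab => ?_
  exact Subtype.ext (hf'.injOn (Subgroup.mem_sup_right a.2) (Subgroup.mem_sup_right b.2)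
    (congrArg Subtype.val hab))

/-- In any fusion system over a finite subgroup S, a receptive subgroup is fully centralized. -/
theorem result {Ω : Type*} [Group Ω] {S : Subgroup Ω} [Finite S] (F : Cfsg.FusionSystem S) (P : Subgroup Ω) (hP : F.IsReceptive P) : F.IsFullyCentralized P := by
  exact ⟨hP.1, fun Q hQ => aux hP hQ⟩

end Cfsg.Agent.S5078
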