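import Cfsg.Statements.S5081
import Cfsg.Agent.Lib.FusionSysAlperin

set_option autoImplicit false
open Cfsg

namespace Cfsg.Agent.S5081

/-- Let F be a saturated fusion system over a finite p-group S, P a proper subgroup of S that is fully normalized, and H the subgroup of Aut_F(P) generated by the automorphisms that extend to maps of the system defined on strictly larger subgroups of S. Then either P is not essential and H is all of Aut_F(P), or P is essential and the image of H in Out_F(P) = Aut_F(P)/Inn(P) is strongly p-embedded there. -/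
theorem result {Ω : Type*} [Group Ω] {S : Subgroup Ω} [Finite S] (p : ℕ) [Fact p.Prime] (hS : IsPGroup p S) (F : Cfsg.FusionSystem S) (hF : F.IsSaturated p) (P : Subgroup Ω) (hPS : P < S) (hPn : F.IsFullyNormalized P) (H : Subgroup (MulAut P)) (hH : H = Subgroup.closure {α : MulAut P | ∃ (Q : Subgroup Ω) (hPQ : P < Q) (φ : Q →* Ω), φ ∈ F.Hom Q ∧ ∀ x : P, φ (Subgroup.inclusion hPQ.le x) = α x}) : (¬ F.IsEssential p P ∧ H = F.autGroup P) ∨ (F.IsEssential p P ∧ ∃ _ : ((Cfsg.Inn P).subgroupOf (F.autGroup P)).Normal, Cfsg.IsStronglyPEmbedded p ((H.subgroupOf (F.autGroup P)).map (QuotientGroup.mk' ((Cfsg.Inn P).subgroupOf (F.autGroup P))))) := by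
  subst hH
  have heq : {α : MulAut P | ∃ (Q : Subgroup Ω) (hPQ : P < Q) (φ : Q →* Ω), φ ∈ F.Hom Q ∧
      ∀ x : P, φ (Subgroup.inclusion hPQ.le x) = α x} = {α | Cfsg.Agent.FusionSysAlperin.Extends F α} := by
    ext α
    constructor
    · rintro ⟨Q, hPQ, φ, hφ, he⟩
      refine ⟨Q, hPQ, Cfsg.Agent.FusionSysBasic.toFun φ, Cfsg.Agent.FusionSysBasic.mor_toFun hφ, fun x hx => ?_⟩
      rw [Cfsg.Agent.FusionSysBasic.toFun_apply φ (hPQ.le hx), Cfsg.Agent.FusionSysBasic.afun_apply α hx]
      exact he ⟨x, hx⟩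
    · rintro ⟨Q, hPQ, f, ⟨φ, hφ, he⟩, hf⟩
      refine ⟨Q, hPQ, φ, hφ, fun x => ?_⟩
      rw [he, ← Cfsg.Agent.FusionSysBasic.afun_coe]
      exact hf x x.2
  rw [heq]
  have hle : Subgroup.closure {α | Cfsg.Agent.FusionSysAlperin.Extends F α} ≤ F.autGroup P :=
    (Subgroup.closure_le _).mpr fun α hα => hα.mem_autGroup
  by_cases hH : Subgroup.closure {α | Cfsg.Agent.FusionSysAlperin.Extends F α} = F.autGroup P
  · exact Or.inl ⟨fun h => Cfsg.Agent.FusionSysAlperin.essential_exists_not_extends hS hF h hH.ge, hH⟩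
  · exact Or.inr (Cfsg.Agent.FusionSysAlperin.essential_of_ne hS hF hPS hPn hle hH fun α hα => Subgroup.subset_closure hα)

end Cfsg.Agent.S5081
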