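import Cfsg.Statements.S5085
import Cfsg.Agent.Lib.FusionSysBasic

set_option autoImplicit false
open Cfsg

namespace Cfsg.Agent.S5085

open Cfsg.Agent.FusionSysBasic in
theorem aux {Ω : Type*} [Group Ω] {S : Subgroup Ω} {F : Cfsg.FusionSystem S} {Q U : Subgroup Ω}
    (hQ : F.IsNormal Q) (hUQ : U ≤ Q) (hU : (U.subgroupOf Q).Characteristic) : F.IsNormal U := by
  refine ⟨hUQ.trans hQ.1, fun P φ hφ => ?_⟩
  obtain ⟨ψ, hψ, hag, hmap⟩ := hQ.2 P φ hφ
  have hle : P ⊔ U ≤ P ⊔ Q := sup_le_sup_left hUQ P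
  obtain ⟨χ, hχ, hχe⟩ := (mor_toFun hψ).restrict_to hle
  refine ⟨χ, hχ, fun x => ?_, ?_⟩
  · rw [hχe, ← hag x]
    exact toFun_apply ψ _
  · have hm : ∀ x : Q, ψ (Subgroup.inclusion le_sup_right x) ∈ Q := fun x => by
      have hx : ψ (Subgroup.inclusion le_sup_right x) ∈ (Q.subgroupOf (P ⊔ Q)).map ψ :=
        ⟨_, x.2, rfl⟩
      rwa [hmap] at hx
    let e₀ : Q →* Q := (ψ.comp (Subgroup.inclusion le_sup_right)).codRestrict Q hm
    have hinj : Function.Injective e₀ := fun a b h => by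
      have := F.injective_of_mem hψ (congrArg Subtype.val h : ψ _ = ψ _)
      exact Subgroup.inclusion_injective _ this
    have hsurj : Function.Surjective e₀ := by
      rintro ⟨y, hy⟩
      rw [← hmap] at hy
      obtain ⟨⟨z, hz⟩, hzQ, hzy⟩ := hy
      exact ⟨⟨z, hzQ⟩, Subtype.ext hzy⟩
    let e : Q ≃* Q := MulEquiv.ofBijective e₀ ⟨hinj, hsurj⟩
    have hfix := Subgroup.characteristic_iff_map_eq.1 hU e
    have key : ∀ (u : Ω) (hu : u ∈ U), χ ⟨u, Subgroup.mem_sup_right hu⟩ = ((e ⟨u, hUQ hu⟩ : Q) : Ω) := by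
      intro u hu
      rw [hχe, toFun_apply ψ (hle (Subgroup.mem_sup_right hu))]
      rfl
    ext y
    constructor
    · rintro ⟨⟨u, hu'⟩, hu, rfl⟩
      rw [key u hu]
      have : e ⟨u, hUQ hu⟩ ∈ (U.subgroupOf Q).map e.toMonoidHom := ⟨⟨u, hUQ hu⟩, hu, rfl⟩
      rw [hfix] at this
      exact this
    · intro hy
      have : (⟨y, hUQ hy⟩ : Q) ∈ (U.subgroupOf Q).map e.toMonoidHom := by rw [hfix]; exact hy
      obtain ⟨⟨u, hu'⟩, hu, he⟩ := this
      refine ⟨⟨u, Subgroup.mem_sup_right hu⟩, hu, ?_⟩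
      rw [key u hu]
      exact congrArg Subtype.val he

/-- In any fusion system, a characteristic subgroup of a subgroup that is normal in the system is itself normal in the system. -/
theorem result {Ω : Type*} [Group Ω] {S : Subgroup Ω} (F : Cfsg.FusionSystem S) (Q U : Subgroup Ω) (hQ : F.IsNormal Q) (hUQ : U ≤ Q) (hU : (U.subgroupOf Q).Characteristic) : F.IsNormal U := by
  exact aux hQ hUQ hU

end Cfsg.Agent.S5085
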