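import Cfsg.Statements.S5087
import Cfsg.Agent.Lib.FusionSysNormal

set_option autoImplicit false
open Cfsg

namespace Cfsg.Agent.S5087

/-- In a saturated fusion system over a finite p-group S, a subgroup Q is normal in the system if and only if every subgroup P that equals S or is essential contains Q and every element of Aut_F(P) maps Q onto itself. -/
theorem result {Ω : Type*} [Group Ω] {S : Subgroup Ω} [Finite S] (p : ℕ) [Fact p.Prime] (hS : IsPGroup p S) (F : Cfsg.FusionSystem S) (hF : F.IsSaturated p) (Q : Subgroup Ω) : F.IsNormal Q ↔ ∀ P : Subgroup Ω, (P = S ∨ F.IsEssential p P) → (Q ≤ P ∧ ∀ α ∈ F.autGroup P, (Q.subgroupOf P).map α.toMonoidHom = Q.subgroupOf P) := by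
  constructor
  · intro h P hP
    have hPS : P ≤ S := by
      rcases hP with rfl | hP
      · exact le_rfl
      · exact hP.1.1
    have hQP : Q ≤ P := by
      rcases hP with rfl | hP
      · exact h.1
      · exact Cfsg.Agent.FusionSysNormal.normal_le_centric_radical hS h hP.1 (Cfsg.Agent.FusionSysAlperin.radical_of_essential hS hP)
    refine ⟨hQP, fun α hα => ?_⟩
    haveI := Cfsg.Agent.FusionSysBasic.finite_of_le hPS
    refine Subgroup.eq_of_le_of_card_ge ?_
      (le_of_eq (Nat.card_congr (Subgroup.equivMapOfInjective _ _ α.injective).toEquiv))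
    rintro _ ⟨x, hx, rfl⟩
    have := Cfsg.Agent.FusionSysNormal.normal_invariant h ((Cfsg.Agent.FusionSysBasic.mem_autGroup hPS).mp hα) x.2 (show (x : Ω) ∈ Q from hx)
    rwa [Cfsg.Agent.FusionSysBasic.afun_coe] at this
  · intro h
    refine Cfsg.Agent.FusionSysNormal.isNormal_of_le_autGroup hS hF fun P hP => ⟨(h P hP).1, fun α hα x hx => ?_⟩
    have hm : α.toMonoidHom ⟨x, (h P hP).1 hx⟩ ∈ Q.subgroupOf P := by
      exact ((h P hP).2 α hα).le (Subgroup.mem_map_of_mem _ (show (⟨x, (h P hP).1 hx⟩ : P) ∈ Q.subgroupOf P from hx))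
    rw [Cfsg.Agent.FusionSysBasic.afun_apply α ((h P hP).1 hx)]
    exact hm

end Cfsg.Agent.S5087
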