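import Cfsg.Statements.S5088
import Cfsg.Agent.Lib.FusionSysChain

set_option autoImplicit false
open Cfsg

namespace Cfsg.Agent.S5088

/-- In a saturated fusion system over a finite p-group, a subgroup Q is normal in the system if and only if there is a chain of subgroups 1 = Q₀ ≤ Q₁ ≤ ⋯ ≤ Qₙ = Q such that each Qᵢ with i ≥ 1 is strongly closed in the system and [Q, Qᵢ] ≤ Qᵢ₋₁. -/
theorem result {Ω : Type*} [Group Ω] {S : Subgroup Ω} [Finite S] (p : ℕ) [Fact p.Prime] (hS : IsPGroup p S) (F : Cfsg.FusionSystem S) (hF : F.IsSaturated p) (Q : Subgroup Ω) : F.IsNormal Q ↔ ∃ (n : ℕ) (Qs : Fin (n + 1) → Subgroup Ω), Qs 0 = ⊥ ∧ Qs (Fin.last n) = Q ∧ Monotone Qs ∧ ∀ i : Fin n, F.StronglyClosed (Qs i.succ) ∧ ⁅Q, Qs i.succ⁆ ≤ Qs (Fin.castSucc i) := by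
  constructor
  · intro h
    obtain ⟨n, X, h0, hn, hmono, hX, hc⟩ := Cfsg.Agent.FusionSysChain.exists_chain_of_normal hS h
    exact ⟨n, fun i => X i, h0, hn, fun a b hab => hmono hab,
      fun i => ⟨Cfsg.Agent.FusionSysNormal.stronglyClosed_of_normal (hX _), hc i⟩⟩
  · rintro ⟨n, Qs, h0, hn, hmono, hc⟩
    obtain _ | m := n
    · have : Q = ⊥ := by rw [← hn]; exact h0
      exact this ▸ Cfsg.Agent.FusionSysNormal.normal_bot
    · refine Cfsg.Agent.FusionSysChain.isNormal_of_chain hS hF (n := m + 1) (fun i => Qs ⟨min i (m + 1), by omega⟩)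
        ?_ ?_ ?_ (fun i _ => hmono (Fin.mk_le_mk.mpr (by omega))) (fun i hi => ?_) (fun i hi => ?_)
      · simpa using h0
      · convert hn using 2
        exact Fin.ext (by simp)
      · have := (hc (Fin.last m)).1
        convert this using 1
        exact hn.symm
      · have e : (⟨min (i + 1) (m + 1), by omega⟩ : Fin (m + 1 + 1)) = (⟨i, hi⟩ : Fin (m + 1)).succ :=
          Fin.ext (show min (i + 1) (m + 1) = i + 1 by omega)
        show F.StronglyClosed (Qs _)
        rw [e]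
        exact (hc _).1
      · have e : (⟨min (i + 1) (m + 1), by omega⟩ : Fin (m + 1 + 1)) = (⟨i, hi⟩ : Fin (m + 1)).succ :=
          Fin.ext (show min (i + 1) (m + 1) = i + 1 by omega)
        have e' : (⟨min i (m + 1), by omega⟩ : Fin (m + 1 + 1)) = (⟨i, hi⟩ : Fin (m + 1)).castSucc :=
          Fin.ext (show min i (m + 1) = i by omega)
        show ⁅Q, Qs _⁆ ≤ Qs _
        rw [e, e']
        exact (hc _).2

end Cfsg.Agent.S5088
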