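import Cfsg.Statements.S5093
import Cfsg.Agent.Lib.FusionFocal
import Cfsg.Agent.Lib.FusionSysGroup
import Cfsg.Agent.Lib.TransferTate

set_option autoImplicit false
open Cfsg

namespace Cfsg.Agent.S5093

/-- Hyperfocal subgroup Theorem: for a finite group G with Sylow p-subgroup S, the hyperfocal subgroup of the fusion system of G on S equals S ∩ O^p(G), where O^p(G) is the subgroup generated by the elements of order prime to p. -/
theorem result {G : Type*} [Group G] [Finite G] (p : ℕ) [Fact p.Prime] (S : Sylow p G) : (Cfsg.groupFusionSystem (S : Subgroup G)).hyperfocalSubgroup p = (S : Subgroup G) ⊓ Cfsg.pResidual p G := by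
  classical
  set F := Cfsg.groupFusionSystem (S : Subgroup G) with hFdef
  have hF : F.IsSaturated p := FusionSysGroup.saturated_group S
  have hle : F.hyperfocalSubgroup p ≤ (S : Subgroup G) ⊓ Cfsg.pResidual p G := by
    refine (Subgroup.closure_le _).2 ?_
    rintro _ ⟨P, α, x, hP, hα, rfl⟩
    refine ⟨(S : Subgroup G).mul_mem ((S : Subgroup G).inv_mem (hP x.2)) (hP ((α : MulAut P) x).2),
      ?_⟩
    let K : Subgroup (F.autGroup P) :=
      { carrier := {β | ∃ k ∈ Cfsg.pResidual p G, ∀ z : P,
          (((β : MulAut P) z : P) : G) = k * z * k⁻¹}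
        one_mem' := ⟨1, one_mem _, fun z => by simp⟩
        mul_mem' := fun {a b} ⟨k, hk, he⟩ ⟨l, hl, he'⟩ => ⟨k * l, mul_mem hk hl, fun z => by
          show (((a : MulAut P) ((b : MulAut P) z) : P) : G) = _
          rw [he, he']; group⟩
        inv_mem' := fun {a} ⟨k, hk, he⟩ => ⟨k⁻¹, inv_mem hk, fun z => by
          have h1 := he ((a : MulAut P)⁻¹ z)
          rw [show (a : MulAut P) ((a : MulAut P)⁻¹ z) = z from MulEquiv.apply_symm_apply _ _] at h1
          show (((a : MulAut P)⁻¹ z : P) : G) = _
          rw [h1]; group⟩ }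
    obtain ⟨k, hk, he⟩ : α ∈ K := by
      revert hα
      suffices Cfsg.pResidual p (F.autGroup P) ≤ K from fun hα => this hα
      rw [TransferPResidual.pResidual_le_iff_coprime]
      intro β hβ
      obtain ⟨-, g, hg, -⟩ := FusionSysGroup.mor_group_iff.mp
        ((FusionSysBasic.mem_autGroup hP).mp β.2)
      obtain ⟨n, hn⟩ := TransferPResidual.exists_pow_mem_pResidual (p := p) g
      obtain ⟨i, hi⟩ := exists_pow_eq_self_of_coprime (x := β) (n := p ^ n)
        ((hβ.pow_right n).symm)
      have hpow : ∀ (m : ℕ) (z : P), ((((β : MulAut P) ^ m) z : P) : G) =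
          g ^ m * z * (g ^ m)⁻¹ := by
        intro m
        induction m with
        | zero => intro z; simp
        | succ m ih =>
          intro z
          rw [pow_succ', MulAut.mul_apply, pow_succ', ← FusionSysBasic.afun_coe,
            hg _ (((β : MulAut P) ^ m) z).2, FusionSysBasic.cj_apply, ih]
          group
      have hmem : β ^ (p ^ n) ∈ K := ⟨g ^ (p ^ n), hn, fun z => by
        rw [SubmonoidClass.coe_pow]; exact hpow _ z⟩
      exact hi ▸ pow_mem hmem i
    rw [he x]
    have h1 := (inferInstance : (Cfsg.pResidual p G).Normal).conj_mem k hk (x : G)⁻¹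
    have := mul_mem h1 (inv_mem hk)
    simpa [mul_assoc] using this
  refine le_antisymm hle ?_
  by_contra hne
  obtain ⟨M, hMn, hMi, hRM, hMT⟩ := TransferTate.exists_maximal_of_lt S
    (R := F.hyperfocalSubgroup p) (fun s hs => FusionSysBasic.mem_normalizer_of_cj_le
      (hle.trans inf_le_left) fun x hx => FusionInduct88.cj_mem_hyperfocal hs hx)
    (lt_of_le_of_ne hle fun e => hne e.ge)
  haveI := hMn
  refine hMT ?_
  have hfoc : (S : Subgroup G).focalSubgroup ≤ F.focalSubgroup := by
    rw [Subgroup.focalSubgroup, Subgroup.closure_le]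
    rintro _ ⟨hxu, x, hx, u, rfl⟩
    have hux : u * x⁻¹ * u⁻¹ ∈ (S : Subgroup G) := by
      have := mul_mem (inv_mem hx) hxu
      simpa [commutatorElement_def, mul_assoc] using this
    have hm : FusionSysBasic.Mor F (Subgroup.zpowers x⁻¹) (FusionSysBasic.cj u) := by
      refine FusionSysGroup.mor_group_iff.mpr
        ⟨Subgroup.zpowers_le.mpr (inv_mem hx), u, fun _ _ => rfl, ?_⟩
      intro y hy
      obtain ⟨j, rfl⟩ := Subgroup.mem_zpowers_iff.mp hy
      rw [FusionSysBasic.cj_apply, ← conj_zpow]
      exact zpow_mem hux j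
    have := FusionFocal.gen_mem_focal hm (Subgroup.mem_zpowers x⁻¹)
    simpa [FusionSysBasic.cj_apply, commutatorElement_def, mul_assoc] using this
  intro t ht
  rw [Subgroup.mem_subgroupOf] at ht
  have h1 := hfoc (TransferPResidual.inf_pResidual_le_focal S ht)
  rw [FusionFocal.focal_eq S.isPGroup' hF] at h1
  have hle2 : F.hyperfocalSubgroup p ⊔ ⁅(S : Subgroup G), (S : Subgroup G)⁆ ≤
      M.map (S : Subgroup G).subtype := by
    refine sup_le (fun y hy => ⟨⟨y, (hle hy).1⟩, hRM hy, rfl⟩) ?_
    rw [← Subgroup.map_subtype_commutator]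
    refine Subgroup.map_mono ?_
    haveI : IsCyclic ((S : Subgroup G) ⧸ M) := isCyclic_of_prime_card (p := p) hMi
    letI : CommGroup ((S : Subgroup G) ⧸ M) := IsCyclic.commGroup
    exact Subgroup.Normal.quotient_commutative_iff_commutator_le.mp inferInstance
  obtain ⟨y, hy, e⟩ := hle2 h1
  rwa [← (S : Subgroup G).subtype_injective e]

end Cfsg.Agent.S5093
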