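import Cfsg.Statements.S5094
import Cfsg.Agent.Lib.ZStarFusion

set_option autoImplicit false
open Cfsg

namespace Cfsg.Agent.S5094

/-- Glauberman's Z*-Theorem in fusion language: for a finite group G with Sylow 2-subgroup S, the centre of the fusion system of G on S is the set of elements of S whose image in G/O(G) is central, O(G) being the largest normal subgroup of odd order. -/
theorem result {G : Type*} [Group G] [Finite G] (S : Sylow 2 G) : (Cfsg.groupFusionSystem (S : Subgroup G)).center = (S : Subgroup G) ⊓ (Subgroup.center (G ⧸ Cfsg.oddCore G)).comap (QuotientGroup.mk' (Cfsg.oddCore G)) := by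
  have : Fact (Nat.Prime 2) := ⟨Nat.prime_two⟩
  have hOn : (Cfsg.pPrimeCore 2 G).Normal := Cfsg.Agent.HallCore.pPrimeCore_normal 2 G
  have hodd := Cfsg.Agent.ZStarTheorem.odd_card_pPrimeCore (G := G)
  apply le_antisymm
  · refine sSup_le ?_
    rintro Q ⟨hQS, hQ⟩ q hq
    refine ⟨hQS hq, Cfsg.Agent.ZStarFusion.mk_mem_center S (hQS hq) fun j g hg => ?_⟩
    have hy : q ^ j ∈ Q := pow_mem hq j
    set y := q ^ j
    have hP : Subgroup.zpowers y ≤ (S : Subgroup G) := Subgroup.zpowers_le.2 (hQS hy)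
    have hmap : Subgroup.zpowers y ≤ (S : Subgroup G).comap (MulAut.conj g).toMonoidHom :=
      Subgroup.zpowers_le.2 hg
    obtain ⟨ψ, -, hl, hr⟩ := hQ (Subgroup.zpowers y) (Cfsg.conjHom _ g)
      ⟨hP, fun x => hmap x.2, g, fun _ => rfl⟩
    exact (hl ⟨y, Subgroup.mem_zpowers y⟩).symm.trans (hr ⟨y, hy⟩)
  · set Z := (S : Subgroup G) ⊓
      (Subgroup.center (G ⧸ Cfsg.oddCore G)).comap (QuotientGroup.mk' (Cfsg.oddCore G)) with hZ
    have hcom : ∀ z ∈ Z, ∀ g : G, g * z * g⁻¹ * z⁻¹ ∈ Cfsg.pPrimeCore 2 G := by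
      intro z hz g
      rw [← QuotientGroup.eq_one_iff]
      simp only [QuotientGroup.mk_mul, QuotientGroup.mk_inv]
      have hcc : (g : G ⧸ Cfsg.pPrimeCore 2 G) * (z : G ⧸ Cfsg.pPrimeCore 2 G) = z * g :=
        Subgroup.mem_center_iff.1 hz.2 _
      rw [hcc]
      simp
    have hint : ∀ x ∈ Cfsg.pPrimeCore 2 G, x ∈ (S : Subgroup G) → x = 1 := by
      intro x hx hxS
      obtain ⟨k, hk⟩ := (IsPGroup.iff_orderOf.1 S.isPGroup') ⟨x, hxS⟩
      rw [Subgroup.orderOf_mk] at hk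
      rw [← orderOf_eq_one_iff]
      exact hk.trans (((Nat.coprime_two_left.2
        (hodd.of_dvd_nat (Subgroup.orderOf_dvd_natCard _ hx))).pow_left k).eq_one_of_dvd hk.symm.dvd)
    have hSC : (S : Subgroup G) ≤ Subgroup.centralizer (Z : Set G) := by
      intro s hs
      refine Subgroup.mem_centralizer_iff.2 fun z hz => ?_
      have := hint _ (hcom z hz s) (mul_mem (mul_mem (mul_mem hs hz.1) (inv_mem hs)) (inv_mem hz.1))
      rw [mul_inv_eq_one, mul_inv_eq_iff_eq_mul] at this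
      exact this.symm
    refine le_sSup ⟨inf_le_left, ?_⟩
    rintro P φ ⟨hPS, hφS, g, hg⟩
    obtain ⟨o, ho, hoz⟩ := Cfsg.Agent.ZStarFusion.exists_conj_of_congr hodd
      (S.isPGroup'.to_le (inf_le_left : Z ≤ _)) 1 g
      (fun x _ => by rw [Subgroup.normalizer_eq_top]; trivial)
      (fun x hx => by simpa using hcom x hx g)
    set c := o⁻¹ * g with hc
    have hcC : c ∈ Subgroup.centralizer (Z : Set G) := by
      refine Subgroup.mem_centralizer_iff.2 fun z hz => ?_
      have h1 := hoz z hz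
      rw [one_mul, inv_one, mul_one] at h1
      calc z * c = o⁻¹ * (o * z * o⁻¹) * g := by rw [hc]; group
        _ = o⁻¹ * (g * z * g⁻¹) * g := by rw [h1]
        _ = c * z := by rw [hc]; group
    have hxC : ∀ x ∈ P, c * x * c⁻¹ ∈ Subgroup.centralizer (Z : Set G) := fun x hx =>
      mul_mem (mul_mem hcC (hSC (hPS hx))) (inv_mem hcC)
    obtain ⟨m, hm, hmx⟩ := Cfsg.Agent.ZStarFusion.exists_conj_of_congr
      (M := Cfsg.pPrimeCore 2 G ⊓ Subgroup.centralizer (Z : Set G))
      (hodd.of_dvd_nat (Subgroup.card_dvd_of_le inf_le_left))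
      (S.isPGroup'.to_le hPS) c g
      (fun x hx => Subgroup.mem_normalizer_iff.2 fun y => by
        set u := c * x * c⁻¹
        have hu := hxC x hx
        refine ⟨fun hy => Subgroup.mem_inf.2 ⟨hOn.conj_mem y (Subgroup.mem_inf.1 hy).1 u,
          mul_mem (mul_mem hu (Subgroup.mem_inf.1 hy).2) (inv_mem hu)⟩, fun hy => ?_⟩
        have e : y = u⁻¹ * (u * y * u⁻¹) * u⁻¹⁻¹ := by group
        rw [e]
        exact Subgroup.mem_inf.2 ⟨hOn.conj_mem _ (Subgroup.mem_inf.1 hy).1 u⁻¹,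
          mul_mem (mul_mem (inv_mem hu) (Subgroup.mem_inf.1 hy).2) (inv_mem (inv_mem hu))⟩)
      (fun x hx => by
        refine Subgroup.mem_inf.2 ⟨?_, mul_mem ?_ (inv_mem (hxC x hx))⟩
        · have e : g = o * c := by rw [hc, mul_inv_cancel_left]
          rw [e]
          have h := mul_mem ho (hOn.conj_mem _ (inv_mem ho) (c * x * c⁻¹))
          show o * c * x * (o * c)⁻¹ * (c * x * c⁻¹)⁻¹ ∈ Cfsg.pPrimeCore 2 G
          rwa [show o * c * x * (o * c)⁻¹ * (c * x * c⁻¹)⁻¹ =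
            o * (c * x * c⁻¹ * o⁻¹ * (c * x * c⁻¹)⁻¹) by group]
        · have := hφS ⟨x, hx⟩
          rw [hg] at this
          exact hSC this)
    have hfix : ∀ z ∈ Z, (m * c) * z * (m * c)⁻¹ = z := by
      intro z hz
      rw [mul_inv_eq_iff_eq_mul]
      exact (Subgroup.mem_centralizer_iff.1 (mul_mem (Subgroup.mem_inf.1 hm).2 hcC) z hz).symm
    have hag : ∀ x ∈ P, (m * c) * x * (m * c)⁻¹ = g * x * g⁻¹ := by
      intro x hx
      rw [← hmx x hx]; group
    have hle : P ⊔ Z ≤ (S : Subgroup G).comap (MulAut.conj (m * c)).toMonoidHom := by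
      refine sup_le (fun x hx => ?_) fun z hz => ?_
      · show (m * c) * x * (m * c)⁻¹ ∈ (S : Subgroup G)
        rw [hag x hx, ← hg ⟨x, hx⟩]; exact hφS _
      · show (m * c) * z * (m * c)⁻¹ ∈ (S : Subgroup G)
        rw [hfix z hz]; exact hz.1
    exact ⟨Cfsg.conjHom _ (m * c), ⟨sup_le hPS inf_le_left, fun x => hle x.2, m * c, fun _ => rfl⟩,
      fun x => (hag x x.2).trans (hg x).symm, fun z => hfix z z.2⟩

end Cfsg.Agent.S5094
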