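import Cfsg.Statements.S5095
import Cfsg.Agent.Lib.FusionSysBasic
import Cfsg.Agent.Lib.FusionSysSaturated

set_option autoImplicit false
open Cfsg

namespace Cfsg.Agent.S5095

section
variable {Ω : Type*} [Group Ω] {S : Subgroup Ω} [Finite S] {p : ℕ} [Fact p.Prime] {F : Cfsg.FusionSystem S}

open Cfsg Cfsg.Agent.FusionSysBasic

omit [Fact p.Prime] in
theorem centric_le {Q N : Subgroup Ω} (hQ : F.IsCentric Q) (hQN : Q ≤ N) (hNS : N ≤ S) : F.IsCentric N := by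
  refine ⟨hNS, fun M hM => ?_⟩
  obtain ⟨h, hh, him⟩ := isConj_iff.1 hM
  intro c hc
  obtain ⟨hcS, hcc⟩ := mem_centralizerIn.1 hc
  have hconj : F.IsConj Q (im Q h) := isConj_iff.2 ⟨h, hh.restrict_to hQN, rfl⟩
  have hle : im Q h ≤ M := him ▸ im_mono hQN
  exact hle (hQ.2 _ hconj (mem_centralizerIn.2 ⟨hcS, fun x hx => hcc x (hle hx)⟩))

theorem step (hS : IsPGroup p S) (hF : F.IsSaturated p) {N Q : Subgroup Ω} (hQN : Q ≤ N) (hNn : N ≤ Subgroup.normalizer (Q : Set Ω))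
    (hQ : F.IsCentric Q) {f f' : Ω → Ω} (hf : Mor F N f) (hf' : Mor F N f') (h : ∀ x ∈ Q, f x = f' x) :
    ∃ z ∈ Q, (∀ x ∈ Q, cj z x = x) ∧ ∀ y ∈ N, f' y = f (cj z y) := by
  have hNS := hf.le
  haveI : Finite N := finite_of_le hNS
  -- the correction term
  have hw : ∀ x ∈ N, ∃ q ∈ Q, (∀ y ∈ Q, cj q y = y) ∧ f' x = f (x * q) := by
    intro x hx
    have hxn := hNn hx
    have hc : (f x)⁻¹ * f' x ∈ Cfsg.FusionSystem.centralizerIn S (im Q f) := by
      refine mem_centralizerIn.2 ⟨mul_mem (inv_mem (hf.apply_mem hx)) (hf'.apply_mem hx), fun w hw => ?_⟩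
      obtain ⟨y, hy, rfl⟩ := (hf.restrict_to hQN).mem_im.1 hw
      have h2 : f' (cj x y) = f (cj x y) := (h _ (cj_mem_of_normalizer hxn hy)).symm
      rw [hf'.map_cj hx (hQN hy), hf.map_cj hx (hQN hy), ← h y hy] at h2
      rw [← cj_cj, h2, cj_inv_cj]
    have hconj : F.IsConj Q (im Q f) := isConj_iff.2 ⟨f, hf.restrict_to hQN, rfl⟩
    obtain ⟨q, hq, hqe⟩ := (hf.restrict_to hQN).mem_im.1 (hQ.2 _ hconj hc)
    refine ⟨q, hq, fun y hy => ?_, ?_⟩
    · apply (hf.restrict_to hQN).injOn (cj_mem_of_normalizer (Subgroup.le_normalizer hq) hy) hy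
      rw [hf.map_cj (hQN hq) (hQN hy), hqe]
      exact (mem_centralizerIn.1 hc).2 _ (apply_mem_im hy)
    · rw [hf.map_mul hx (hQN hq), hqe, mul_inv_cancel_left]
  have himle : ∀ x ∈ N, f' x ∈ im N f := by
    intro x hx
    obtain ⟨q, hq, -, he⟩ := hw x hx
    rw [he]; exact apply_mem_im (mul_mem hx (hQN hq))
  obtain ⟨fi, hfi, hfi1, hfi2, hfi3⟩ := hf.exists_inv
  have hg : Mor F N (fi ∘ f') := hf'.comp hfi himle
  have hgx : ∀ x ∈ N, (fi ∘ f') x ∈ N := fun x hx => hfi3 _ (himle x hx)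
  obtain ⟨α, hα, hαe⟩ := hg.exists_aut (hg.im_self hgx)
  have hαf : ∀ x ∈ N, f' x = f (afun α x) := fun x hx => by
    rw [hαe x hx]; exact (hfi2 _ (himle x hx)).symm
  have hαQ : ∀ x ∈ Q, afun α x = x := fun x hx =>
    hf.injOn (afun_mem α (hQN hx)) (hQN hx) (by rw [← hαf x (hQN hx), h x hx])
  have hαw : ∀ x ∈ N, ∃ q ∈ Q, afun α x = x * q := fun x hx => by
    obtain ⟨q, hq, -, he⟩ := hw x hx
    exact ⟨q, hq, hf.injOn (afun_mem α hx) (mul_mem hx (hQN hq)) (by rw [← hαf x hx, he])⟩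
  have hQp : IsPGroup p Q := hS.to_le hQ.1
  haveI : Finite Q := finite_of_le hQ.1
  obtain ⟨k, hk⟩ := IsPGroup.iff_card.1 hQp
  have hαk : α ^ (p ^ k) = 1 := by
    apply afun_ext
    intro x hx
    obtain ⟨q, hq, he⟩ := hαw x hx
    have hpow : ∀ n : ℕ, afun (α ^ n) x = x * q ^ n := by
      intro n
      induction n with
      | zero => rw [pow_zero, pow_zero, mul_one, afun_one hx]
      | succ n ih =>
        rw [pow_succ', afun_mul _ _ hx, ih]
        have hqn : q ^ n ∈ Q := pow_mem hq n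
        obtain ⟨φ, -, hφe⟩ := (mem_autGroup hNS).1 hα
        have := φ.map_mul ⟨x, hx⟩ ⟨q ^ n, hQN hqn⟩
        rw [hφe, hφe, hφe] at this
        simp only [Subgroup.coe_mul] at this
        rw [this, he, hαQ _ hqn, mul_assoc, ← pow_succ']
    have hq1 : q ^ (p ^ k) = 1 := by
      have := congrArg Subtype.val (pow_card_eq_one' (G := Q) (x := ⟨q, hq⟩))
      rwa [hk] at this
    rw [hpow, hq1, mul_one, afun_one hx]
  obtain ⟨N', hN', hN'a, -⟩ := hF N hNS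
  obtain ⟨χ, hχ, hχi⟩ := isConj_iff.1 hN'
  have hN'S : N' ≤ S := hN'a.1
  haveI : Finite (F.autGroup N') := finite_autGroup N'
  set α' := hχ.transport hχi α with hα'
  have hα'mem : α' ∈ F.autGroup N' := hχ.transport_mem hχi hα
  have hK : IsPGroup p (Subgroup.zpowers α') := by
    rintro ⟨y, m, rfl⟩
    refine ⟨k, Subtype.ext ?_⟩
    show (α' ^ m) ^ (p ^ k) = 1
    rw [← zpow_natCast, zpow_comm, zpow_natCast, ← map_pow, hαk, map_one, one_zpow]
  obtain ⟨β, hβ, hβK⟩ := Cfsg.Agent.FusionSysSaturated.sylIn_absorb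
    (show Cfsg.Agent.FusionSysSaturated.SylIn p (Cfsg.autInducedBy S N') (F.autGroup N') from hN'a.2) hK
    (Subgroup.zpowers_le.2 hα'mem)
  obtain ⟨s, hsS, -, hse⟩ := mem_autInducedBy.1 (hβK α' (Subgroup.mem_zpowers α'))
  have hβm : Mor F (im N χ) (afun β) := by rw [hχi]; exact (mem_autGroup hN'S).1 hβ
  have hγ : Mor F N (afun β ∘ χ) := hχ.comp_im hβm
  have hγN : ∀ x ∈ N, (afun β ∘ χ) x ∈ N' := fun x hx => afun_mem β (hχi ▸ apply_mem_im hx)
  have key : ∀ x ∈ N, (afun β ∘ χ) (afun α x) = cj s ((afun β ∘ χ) x) := by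
    intro x hx
    have hx' : χ x ∈ N' := hχi ▸ apply_mem_im hx
    rw [← hse _ (hγN x hx)]
    show afun β (χ (afun α x)) = afun (β * α' * β⁻¹) (afun β (χ x))
    rw [afun_mul _ _ (afun_mem β hx'), afun_inv_apply β hx', afun_mul _ _ hx', hα',
      hχ.afun_transport hχi α hx]
  have hγQ := hγ.restrict_to hQN
  have hconj : F.IsConj Q (im Q (afun β ∘ χ)) := isConj_iff.2 ⟨_, hγQ, rfl⟩
  have hs : s ∈ Cfsg.FusionSystem.centralizerIn S (im Q (afun β ∘ χ)) := by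
    refine mem_centralizerIn.2 ⟨hsS, fun w hw => ?_⟩
    obtain ⟨x, hx, rfl⟩ := hγQ.mem_im.1 hw
    rw [← key x (hQN hx), hαQ x hx]
  obtain ⟨z, hz, hze⟩ := hγQ.mem_im.1 (hQ.2 _ hconj hs)
  have hcjN : ∀ x ∈ N, cj z x ∈ N := fun x hx => mul_mem (mul_mem (hQN hz) hx) (inv_mem (hQN hz))
  have hαz : ∀ x ∈ N, afun α x = cj z x := fun x hx =>
    hγ.injOn (afun_mem α hx) (hcjN x hx) (by rw [key x hx, hγ.map_cj (hQN hz) hx, hze])
  exact ⟨z, hz, fun x hx => by rw [← hαz x (hQN hx), hαQ x hx], fun y hy => by rw [hαf y hy, hαz y hy]⟩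

theorem main (hS : IsPGroup p S) (hF : F.IsSaturated p) :
    ∀ (n : ℕ) (P Q : Subgroup Ω), Nat.card P - Nat.card Q ≤ n → Q ≤ P → F.IsCentric Q →
      ∀ f f' : Ω → Ω, Mor F P f → Mor F P f' → (∀ x ∈ Q, f x = f' x) →
      ∃ z ∈ Q, (∀ x ∈ Q, cj z x = x) ∧ ∀ y ∈ P, f' y = f (cj z y) := by
  intro n
  induction n with
  | zero =>
    intro P Q hn hQP hQ f f' hf hf' h
    have heq : Q = P := eq_of_le_of_card_ge hf.le hQP (Nat.sub_eq_zero_iff_le.1 (Nat.le_zero.1 hn))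
    exact ⟨1, one_mem Q, fun x _ => cj_one x, fun y hy => by rw [cj_one, h y (heq ▸ hy)]⟩
  | succ n ih =>
    intro P Q hn hQP hQ f f' hf hf' h
    by_cases heq : Q = P
    · exact ⟨1, one_mem Q, fun x _ => cj_one x, fun y hy => by rw [cj_one, h y (heq ▸ hy)]⟩
    haveI : Finite P := finite_of_le hf.le
    set N := P ⊓ Subgroup.normalizer (Q : Set Ω) with hN
    have hQN : Q ≤ N := le_inf hQP Subgroup.le_normalizer
    have hlt : Nat.card Q < Nat.card N := by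
      by_contra hc
      have heN : Q = N := eq_of_le_of_card_ge (inf_le_left.trans hf.le) hQN (not_lt.1 hc)
      haveI : Group.IsNilpotent P := (hS.to_le hf.le).isNilpotent
      have hlt' : Q.subgroupOf P < ⊤ := lt_top_iff_ne_top.2 fun ht => heq (le_antisymm hQP (Subgroup.subgroupOf_eq_top.1 ht))
      have hnc := normalizerCondition_of_isNilpotent _ hlt'
      obtain ⟨x, hx, hx'⟩ := SetLike.exists_of_lt hnc
      apply hx'
      have hxN : (x : Ω) ∈ N := by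
        refine ⟨x.2, mem_normalizer_of_cj_le hQ.1 fun y hy => ?_⟩
        exact (Subgroup.mem_normalizer_iff.1 hx ⟨y, hQP hy⟩).1 hy
      rw [← heN] at hxN
      exact hxN
    obtain ⟨z, hz, hzc, hze⟩ := step hS hF hQN inf_le_right hQ (hf.restrict_to inf_le_left)
      (hf'.restrict_to inf_le_left) h
    have hzP : ∀ x ∈ P, cj z x ∈ P := fun x hx => mul_mem (mul_mem (hQP hz) hx) (inv_mem (hQP hz))
    have hf2 : Mor F P (f ∘ cj z) := (mor_cj hf.le (hQ.1 hz)).comp hf hzP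
    have hNcent := centric_le hQ hQN (inf_le_left.trans hf.le)
    have hNP : Nat.card P - Nat.card N ≤ n := by omega
    obtain ⟨w, hw, hwc, hwe⟩ := ih P N hNP inf_le_left hNcent (f ∘ cj z) f' hf2 hf'
      (fun x hx => (hze x hx).symm)
    have hwQ : w ∈ Q := hQ.2 Q (isConj_refl hQ.1)
      (mem_centralizerIn.2 ⟨hf.le hw.1, fun x hx => hwc x (hQN hx)⟩)
    refine ⟨z * w, mul_mem hz hwQ, fun x hx => by rw [← cj_cj, hwc x (hQN hx), hzc x hx], fun y hy => ?_⟩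
    rw [hwe y hy, ← cj_cj]
    rfl

end

/-- In a saturated fusion system over a finite p-group S: if Q ≤ P ≤ S with Q centric, and two maps of the system with source P agree on Q, then they differ by an inner automorphism of P induced by an element of the centre of Q. -/
theorem result {Ω : Type*} [Group Ω] {S : Subgroup Ω} [Finite S] (p : ℕ) [Fact p.Prime] (hS : IsPGroup p S) (F : Cfsg.FusionSystem S) (hF : F.IsSaturated p) (P Q : Subgroup Ω) (hQP : Q ≤ P) (hQ : F.IsCentric Q) (φ φ' : P →* Ω) (hφ : φ ∈ F.Hom P) (hφ' : φ' ∈ F.Hom P) (h : ∀ x : P, (x : Ω) ∈ Q → φ x = φ' x) : ∃ z : P, (z : Ω) ∈ Q ∧ (z : Ω) ∈ Subgroup.centralizer (Q : Set Ω) ∧ ∀ y : P, φ' y = φ (z * y * z⁻¹) := by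
  obtain ⟨z, hz, hzc, hze⟩ := main hS hF _ P Q le_rfl hQP hQ _ _
    (Cfsg.Agent.FusionSysBasic.mor_toFun hφ) (Cfsg.Agent.FusionSysBasic.mor_toFun hφ')
    (fun x hx => by
      rw [Cfsg.Agent.FusionSysBasic.toFun_apply φ (hQP hx), Cfsg.Agent.FusionSysBasic.toFun_apply φ' (hQP hx)]
      exact h ⟨x, hQP hx⟩ hx)
  refine ⟨⟨z, hQP hz⟩, hz, Subgroup.mem_centralizer_iff.2 fun x hx => (mul_inv_eq_iff_eq_mul.1 (hzc x hx)).symm, fun y => ?_⟩
  have h2 := hze y y.2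
  rw [Cfsg.Agent.FusionSysBasic.toFun_coe] at h2
  rw [h2]
  exact Cfsg.Agent.FusionSysBasic.toFun_coe φ (⟨z, hQP hz⟩ * y * ⟨z, hQP hz⟩⁻¹)

end Cfsg.Agent.S5095
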