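import Cfsg.Statements.S5102
-- import your own Cfsg.Agent.* helpers here

set_option autoImplicit false
open Cfsg

namespace Cfsg.Agent.S5102

theorem aux {G : Type*} [Group G] [Finite G] {p : ℕ} [Fact p.Prime] (S : Sylow p G) (R : Subgroup G) [R.Normal]
    (hR : IsPGroup p R) : (Cfsg.groupFusionSystem (S : Subgroup G)).IsNormal R := by
  have hRS : R ≤ (S : Subgroup G) := by
    obtain ⟨T, hT⟩ := hR.exists_le_sylow
    obtain ⟨g, rfl⟩ := MulAction.exists_smul_eq G T S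
    intro r hr
    rw [Sylow.smul_def]
    refine ⟨g⁻¹ * r * g, hT ?_, ?_⟩
    · have := ‹R.Normal›.conj_mem r hr g⁻¹
      rwa [inv_inv] at this
    · simp [mul_assoc]
  refine ⟨hRS, ?_⟩
  rintro P φ ⟨hPS, hφS, g, hg⟩
  have hg' : ∀ x : ↥(P ⊔ R), g * (x : G) * g⁻¹ ∈ (S : Subgroup G) := by
    rintro ⟨x, hx⟩
    have h : P ⊔ R ≤ (S : Subgroup G).comap (MulAut.conj g).toMonoidHom := by
      refine sup_le (fun y hy => ?_) (fun y hy => hRS (‹R.Normal›.conj_mem y hy g))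
      show g * y * g⁻¹ ∈ (S : Subgroup G)
      rw [← hg ⟨y, hy⟩]
      exact hφS ⟨y, hy⟩
    exact h hx
  refine ⟨Cfsg.conjHom (P ⊔ R) g, ⟨sup_le hPS hRS, hg', g, fun x => rfl⟩, fun x => (hg x).symm, ?_⟩
  ext y
  constructor
  · rintro ⟨⟨x, hx⟩, hxR, rfl⟩
    exact ‹R.Normal›.conj_mem x hxR g
  · intro hy
    have h : g⁻¹ * y * g ∈ R := by simpa using ‹R.Normal›.conj_mem y hy g⁻¹
    refine ⟨⟨g⁻¹ * y * g, Subgroup.mem_sup_right h⟩, h, ?_⟩
    show g * (g⁻¹ * y * g) * g⁻¹ = y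
    group

/-- A normal p-subgroup of a finite group G is normal in the fusion system of G on a Sylow p-subgroup. -/
theorem result {G : Type*} [Group G] [Finite G] (p : ℕ) [Fact p.Prime] (S : Sylow p G) (R : Subgroup G) [R.Normal] (hR : IsPGroup p R) : (Cfsg.groupFusionSystem (S : Subgroup G)).IsNormal R := by
  exact aux S R hR

end Cfsg.Agent.S5102
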