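import Cfsg.Statements.S5104
import Cfsg.Agent.Lib.FusionSysBasic

set_option autoImplicit false
open Cfsg

namespace Cfsg.Agent.S5104

open Cfsg.Agent.FusionSysBasic in
theorem aux {Ω : Type*} [Group Ω] {S : Subgroup Ω} [Finite S] {F : Cfsg.FusionSystem S} {U : Subgroup Ω}
    (hU : F.IsFullyCentralized U) (hC : Cfsg.FusionSystem.centralizerIn S U ≤ U) : F.IsCentric U := by
  refine ⟨hU.1, fun Q hQ => ?_⟩
  obtain ⟨f, hf, him⟩ := isConj_iff.1 hQ
  have hmem : ∀ c ∈ Cfsg.FusionSystem.centralizerIn S U, f c ∈ Cfsg.FusionSystem.centralizerIn S Q ⊓ Q := by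
    intro c hc
    refine ⟨mem_centralizerIn.2 ⟨hf.apply_mem (hC hc), fun y hy => ?_⟩, him ▸ apply_mem_im (hC hc)⟩
    rw [← him] at hy
    obtain ⟨x, hx, rfl⟩ := hf.mem_im.1 hy
    rw [← hf.map_cj (hC hc) hx, (mem_centralizerIn.1 hc).2 x hx]
  have hle : Cfsg.FusionSystem.centralizerIn S Q ⊓ Q ≤ Cfsg.FusionSystem.centralizerIn S Q := inf_le_left
  haveI : Finite ↥(Cfsg.FusionSystem.centralizerIn S Q ⊓ Q) := finite_of_le (inf_le_left.trans inf_le_left)
  have hcard : Nat.card (Cfsg.FusionSystem.centralizerIn S U) ≤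
      Nat.card ↥(Cfsg.FusionSystem.centralizerIn S Q ⊓ Q) :=
    Nat.card_le_card_of_injective (fun c => ⟨f c, hmem c c.2⟩) fun a b hab =>
      Subtype.ext (hf.injOn (hC a.2) (hC b.2) (congrArg Subtype.val hab))
  have heq := eq_of_le_of_card_ge (inf_le_left : Cfsg.FusionSystem.centralizerIn S Q ≤ S) hle ((hU.2 Q hQ).trans hcard)
  intro y hy
  have h2 : y ∈ Cfsg.FusionSystem.centralizerIn S Q ⊓ Q := heq.symm.le hy
  exact h2.2

/-- In a saturated fusion system over a finite p-group S, a fully centralized subgroup U with C_S(U) ≤ U is centric. -/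
theorem result {Ω : Type*} [Group Ω] {S : Subgroup Ω} [Finite S] (p : ℕ) [Fact p.Prime] (hS : IsPGroup p S) (F : Cfsg.FusionSystem S) (hF : F.IsSaturated p) (U : Subgroup Ω) (hU : F.IsFullyCentralized U) (hC : Cfsg.FusionSystem.centralizerIn S U ≤ U) : F.IsCentric U := by
  exact aux hU hC

end Cfsg.Agent.S5104
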