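import Cfsg.Statements.S5105
import Cfsg.Agent.Lib.HallCore

set_option autoImplicit false
open Cfsg

namespace Cfsg.Agent.S5105

/-- A derivation into an abelian normal `p`-subgroup that vanishes on a Sylow subgroup is inner. -/
theorem inner_of_fix {G : Type*} [Group G] [Finite G] {p : ℕ} [Fact p.Prime] (T : Sylow p G) (ψ : G ≃* G)
    (A : Subgroup G) [hAn : A.Normal] (hAc : ∀ a ∈ A, ∀ b ∈ A, a * b = b * a) (hAp : IsPGroup p A)
    (hfix : ∀ x ∈ (T : Subgroup G), ψ x = x) (hA : ∀ g, g⁻¹ * ψ g ∈ A) :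
    ∃ a ∈ A, ∀ g, ψ g = a * g * a⁻¹ := by
  classical
  letI : CommGroup ↥A :=
    { (inferInstance : Group ↥A) with mul_comm := fun a b => Subtype.ext (hAc a a.2 b b.2) }
  let conjA : G → (↥A →* ↥A) := fun g =>
    { toFun := fun a => ⟨g⁻¹ * a * g, by simpa using hAn.conj_mem a a.2 g⁻¹⟩
      map_one' := Subtype.ext (by simp)
      map_mul' := fun a b => Subtype.ext (by simp [mul_assoc]) }
  let c : G → ↥A := fun g => ⟨g⁻¹ * ψ g, hA g⟩
  have hc : ∀ g h, c (g * h) = conjA h (c g) * c h := fun g h => by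
    apply Subtype.ext
    show (g * h)⁻¹ * ψ (g * h) = h⁻¹ * (g⁻¹ * ψ g) * h * (h⁻¹ * ψ h)
    rw [map_mul]; group
  let d : G ⧸ (T : Subgroup G) → ↥A := Quotient.lift (fun h => c h⁻¹) (by
    intro a b hab
    have h' : a⁻¹ * b ∈ (T : Subgroup G) := QuotientGroup.leftRel_apply.1 hab
    apply Subtype.ext
    show (a⁻¹)⁻¹ * ψ a⁻¹ = (b⁻¹)⁻¹ * ψ b⁻¹
    have e : b⁻¹ = (a⁻¹ * b)⁻¹ * a⁻¹ := by group
    rw [e, map_mul, hfix _ (inv_mem h')]
    group)
  have hd : ∀ (g : G) (q : G ⧸ (T : Subgroup G)), d (g⁻¹ • q) = conjA g (d q) * c g := by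
    intro g q
    induction q using QuotientGroup.induction_on with
    | _ h =>
      show c (g⁻¹ * h)⁻¹ = conjA g (c h⁻¹) * c g
      rw [mul_inv_rev, inv_inv, hc]
  haveI : Fintype (G ⧸ (T : Subgroup G)) := Fintype.ofFinite _
  set P : ↥A := ∏ q, d q with hP
  have hsum : ∀ g, P = conjA g P * c g ^ Fintype.card (G ⧸ (T : Subgroup G)) := by
    intro g
    conv_lhs => rw [hP, ← Equiv.prod_comp (MulAction.toPerm g⁻¹) d]
    simp only [MulAction.toPerm_apply, hd, Finset.prod_mul_distrib, Finset.prod_const, Finset.card_univ, hP, map_prod]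
  have hcop : (Nat.card ↥A).Coprime (Fintype.card (G ⧸ (T : Subgroup G))) := by
    obtain ⟨k, hk⟩ := IsPGroup.iff_card.1 hAp
    rw [hk, ← Nat.card_eq_fintype_card]
    refine Nat.Coprime.pow_left _ ((Nat.Prime.coprime_iff_not_dvd Fact.out).2 ?_)
    exact T.not_dvd_index
  obtain ⟨b, hb⟩ := (powCoprime hcop).surjective P
  refine ⟨(b⁻¹ : ↥A), Subtype.coe_prop _, fun g => ?_⟩
  have hb' : b ^ Fintype.card (G ⧸ (T : Subgroup G)) = P := hb
  have h := hsum g
  rw [← hb', map_pow, ← mul_pow] at h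
  have h2 : b = conjA g b * c g := (powCoprime hcop).injective h
  have h3 : (b : G) = g⁻¹ * b * g * (g⁻¹ * ψ g) := congrArg Subtype.val h2
  calc ψ g = g * (g⁻¹ * b * g)⁻¹ * (g⁻¹ * b * g * (g⁻¹ * ψ g)) := by group
    _ = g * (g⁻¹ * b * g)⁻¹ * b := by rw [← h3]
    _ = _ := by rw [InvMemClass.coe_inv]; group

/-- Model Theorem, rigidity: if G is a model of a constrained fusion system over a finite p-group S (through ι : S → G), then every automorphism of G fixing ι(S) elementwise is conjugation by ι(z) for some z in the centre of S. -/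
theorem result {Ω : Type*} [Group Ω] {S : Subgroup Ω} [Finite S] (p : ℕ) [Fact p.Prime] (hS : IsPGroup p S) (F : Cfsg.FusionSystem S) (hF : F.IsConstrained p) {G : Type*} [Group G] (ι : S →* G) (hG : F.IsModel p G ι) (ψ : G ≃* G) (hψ : ∀ x : S, ψ (ι x) = ι x) : ∃ z : S, z ∈ Subgroup.center S ∧ ∀ g : G, ψ g = ι z * g * (ι z)⁻¹ := by
  obtain ⟨hfin, ⟨hinj, -⟩, ⟨T, hT⟩, hC⟩ := hG
  haveI := hfin
  haveI := Cfsg.Agent.HallCore.pCore_normal p G
  set Q := Cfsg.pCore p G with hQ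
  have hQT : Q ≤ (T : Subgroup G) := Cfsg.Agent.HallCore.pCore_le_sylow T
  have hfix : ∀ x ∈ (T : Subgroup G), ψ x = x := by
    intro x hx
    rw [hT] at hx
    obtain ⟨y, rfl⟩ := hx
    exact hψ y
  have hA : ∀ g, g⁻¹ * ψ g ∈ Subgroup.centralizer (Q : Set G) := by
    intro g
    rw [Subgroup.mem_centralizer_iff]
    intro q hq
    have h1 : g * q * g⁻¹ ∈ Q := Subgroup.Normal.conj_mem inferInstance q hq g
    have h2 := hfix _ (hQT h1)
    rw [map_mul, map_mul, map_inv, hfix q (hQT hq)] at h2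
    calc q * (g⁻¹ * ψ g) = g⁻¹ * (g * q * g⁻¹) * ψ g := by group
      _ = g⁻¹ * (ψ g * q * (ψ g)⁻¹) * ψ g := by rw [h2]
      _ = g⁻¹ * ψ g * q := by group
  obtain ⟨a, ha, hag⟩ := inner_of_fix T ψ (Subgroup.centralizer (Q : Set G))
    (fun a ha b hb => (Subgroup.mem_centralizer_iff.1 hb a (hC ha)))
    ((Cfsg.Agent.HallCore.isPGroup_pCore p G).to_le hC) hfix hA
  have haT : a ∈ ι.range := hT ▸ hQT (hC ha)
  obtain ⟨z, rfl⟩ := haT
  refine ⟨z, Subgroup.mem_center_iff.2 fun x => hinj ?_, hag⟩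
  have h := hψ x
  rw [hag] at h
  rw [map_mul, map_mul]
  calc ι x * ι z = ι z * ι x * (ι z)⁻¹ * ι z := by rw [h]
    _ = ι z * ι x := by group

end Cfsg.Agent.S5105
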