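import Cfsg.Statements.S5107
import Cfsg.Agent.Lib.FusionSysChain
import Cfsg.Agent.Lib.FusionSysGroup

set_option autoImplicit false
open Cfsg

namespace Cfsg.Agent.S5107

/-- If a Sylow p-subgroup S of a finite group G has nilpotency class at most two and its centre is strongly closed in S with respect to G, then every map of the fusion system of G on S is conjugation by an element of N_G(S), and S is the largest subgroup normal in that fusion system. -/
theorem result {G : Type*} [Group G] [Finite G] (p : ℕ) [Fact p.Prime] (S : Sylow p G) (hcl : ⁅(S : Subgroup G), (S : Subgroup G)⁆ ≤ (S : Subgroup G) ⊓ Subgroup.centralizer ((S : Subgroup G) : Set G)) (hZ : Cfsg.IsStronglyClosed ((S : Subgroup G) ⊓ Subgroup.centralizer ((S : Subgroup G) : Set G)) (S : Subgroup G)) : (∀ (P : Subgroup G) (φ : P →* G), φ ∈ (Cfsg.groupFusionSystem (S : Subgroup G)).Hom P → ∃ g ∈ Subgroup.normalizer ((S : Subgroup G) : Set G), ∀ x : P, φ x = g * (x : G) * g⁻¹) ∧ (Cfsg.groupFusionSystem (S : Subgroup G)).core = S := by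
  classical
  set F := Cfsg.groupFusionSystem (S : Subgroup G)
  set Z := (S : Subgroup G) ⊓ Subgroup.centralizer ((S : Subgroup G) : Set G) with hZdef
  have hSS : F.StronglyClosed (S : Subgroup G) :=
    FusionSysNormal.stronglyClosed_iff.2 ⟨le_rfl, fun P f hP hf x hx => FusionSysBasic.Mor.apply_mem hf hx⟩
  have hZc : F.StronglyClosed Z := FusionSysNormal.stronglyClosed_iff.2 ⟨hZ.1, fun P f hP hf x hx => by
    obtain ⟨hPS, g, hg, hgS⟩ := FusionSysGroup.mor_group_iff.1 hf
    rw [hg x hx]
    have h1 := hgS x hx
    simp only [FusionSysBasic.cj_apply] at h1 ⊢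
    exact hZ.2 x (hP hx) g h1⟩
  have hN : F.IsNormal (S : Subgroup G) := by
    refine FusionSysChain.isNormal_of_chain S.2 (FusionSysGroup.saturated_group S) (n := 2)
      (fun i => if i = 0 then ⊥ else if i = 1 then Z else (S : Subgroup G)) rfl rfl hSS
      (fun i hi => ?_) (fun i hi => ?_) (fun i hi => ?_)
    · interval_cases i
      · simp
      · simpa using hZ.1
    · interval_cases i
      · simpa using hZc
      · simpa using hSS
    · interval_cases i
      · simp only [Nat.zero_add, ↓reduceIte, one_ne_zero]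
        refine Subgroup.commutator_le.2 fun a ha b hb => ?_
        rw [Subgroup.mem_bot, commutatorElement_eq_one_iff_mul_comm]
        exact (Subgroup.mem_centralizer_iff.1 hb.2 a ha)
      · simpa using hcl
  refine ⟨fun P φ hφ => ?_, ?_⟩
  · obtain ⟨f', hf', hag, him⟩ := (FusionSysNormal.isNormal_iff.1 hN).2 P _ (FusionSysBasic.mor_toFun hφ)
    obtain ⟨-, g, hg, hgS⟩ := FusionSysGroup.mor_group_iff.1 hf'
    refine ⟨g, ?_, fun x => ?_⟩
    · rw [Subgroup.mem_normalizer_iff_map_conj_eq]
      refine Subgroup.eq_of_le_of_card_ge ?_ ?_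
      · rintro _ ⟨y, hy, rfl⟩
        simpa [FusionSysBasic.cj_apply] using hgS y (le_sup_right (α := Subgroup G) hy)
      · exact (Subgroup.card_map_of_injective (MulAut.conj g).injective).ge
    · have h1 := hag x x.2
      rw [hg x (le_sup_left (α := Subgroup G) x.2), FusionSysBasic.toFun_coe] at h1
      simpa [FusionSysBasic.cj_apply] using h1.symm
  · exact le_antisymm (sSup_le fun Q hQ => hQ.1) (FusionSysNormal.le_core hN)

end Cfsg.Agent.S5107
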