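import Cfsg.Statements.S5110
import Cfsg.Agent.Lib.FusionSaturationCriterion9
import Cfsg.Agent.Lib.FusCentric
import Cfsg.Agent.Lib.HallCore

set_option autoImplicit false
open Cfsg Cfsg.FusionSystem Cfsg.Agent.FusionSysBasic Cfsg.Agent.FusionSysSaturated Cfsg.Agent.FusionSaturationCriterion9

namespace Cfsg.Agent.S5110

variable {Ω : Type*} [Group Ω] {S : Subgroup Ω} [Finite S] {F : Cfsg.FusionSystem S} {p : ℕ}

omit [Finite S] in
theorem map_not_mem {P Q : Subgroup Ω} (hQS : Q ≤ S) {Φ : Ω → Ω}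
    (hΦ : Mor F (normalizerIn S Q) Φ) (him : im Q Φ = P) {g : Ω} (hg : g ∈ normalizerIn S Q)
    (hgQ : g ∉ Q) : Φ g ∉ P := by
  intro h
  obtain ⟨x, hx, he⟩ := (hΦ.restrict_to (le_normalizerIn hQS)).mem_im.mp (him.symm ▸ h)
  exact hgQ (hΦ.injOn (le_normalizerIn hQS hx) hg he ▸ hx)

theorem class_of_not_centric [Fact p.Prime] (hS : IsPGroup p S) {Ph : Subgroup Ω}
    (hPh : F.IsFullyNormalized Ph) (habove : SatAbove F p (Nat.card Ph))
    (hgen : ∀ (Q : Subgroup Ω) (f : Ω → Ω), F.IsConj Ph Q → Mor F Q f → Gen F Q f)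
    (hc : ¬ F.IsCentric Ph) : F.IsFullyAutomized p Ph ∧ F.IsReceptive Ph := by
  obtain ⟨Q, hQ, hQc⟩ : ∃ Q, F.IsConj Ph Q ∧ ¬ centralizerIn S Q ≤ Q := by
    by_contra h
    push_neg at h
    exact hc ⟨hPh.1, h⟩
  obtain ⟨c, hcC, hcQ⟩ := SetLike.not_le_iff_exists.mp hQc
  obtain ⟨Φ, hΦ, hΦm, him⟩ := movable_of_conj hS hPh habove hgen hQ
  have hQS := isConj_right_le hQ
  have hcN : c ∈ normalizerIn S Q := centralizerIn_le_normalizerIn hcC
  have hmem : Φ c ∈ kSub S (Inn Ph) := by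
    refine mem_kSub.mpr ⟨hΦm c hcN, 1, one_mem _, fun y hy => ?_⟩
    obtain ⟨x, hx, rfl⟩ := (hΦ.restrict_to (le_normalizerIn hQS)).mem_im.mp (him.symm ▸ hy)
    rw [afun_one hy, ← hΦ.map_cj hcN (le_normalizerIn hQS hx), (mem_centralizerIn.mp hcC).2 x hx]
  have hnorm : ∀ a ∈ F.autGroup Ph, ∀ o ∈ Inn Ph, a * o * a⁻¹ ∈ Inn Ph := by
    rintro a - _ ⟨g, rfl⟩
    exact ⟨a g, MulEquiv.ext fun x => by simp⟩
  have hO : IsPGroup p (Inn Ph) :=
    (isPGroup_autInducedBy hS Ph).to_le (inn_le_autInducedBy hPh.1)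
  exact saturated_class hS hPh habove hgen hnorm le_rfl hO
    (lt_of_le_of_ne (le_kSub hPh.1 le_rfl) fun e =>
      map_not_mem hQS hΦ him hcN hcQ (e.symm ▸ hmem))

theorem class_of_star [Fact p.Prime] (hS : IsPGroup p S) {Ph Q : Subgroup Ω}
    (hPh : F.IsFullyNormalized Ph) (habove : SatAbove F p (Nat.card Ph))
    (hgen : ∀ (Q : Subgroup Ω) (f : Ω → Ω), F.IsConj Ph Q → Mor F Q f → Gen F Q f)
    (hQ : F.IsConj Ph Q)
    (hne : ¬ (Cfsg.autInducedBy S Q ⊓
      (Cfsg.pCore p ↥(F.autGroup Q)).map (F.autGroup Q).subtype ≤ Cfsg.Inn Q)) :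
    F.IsFullyAutomized p Ph ∧ F.IsReceptive Ph := by
  obtain ⟨α, ⟨hαS, hαO⟩, hαi⟩ := SetLike.not_le_iff_exists.mp hne
  obtain ⟨g, hg, hgn, hge⟩ := mem_autInducedBy.mp hαS
  have hQS := isConj_right_le hQ
  have hgN : g ∈ normalizerIn S Q := ⟨hg, hgn⟩
  have hgQ : g ∉ Q := fun h => hαi (by
    rw [← autInducedBy_self]
    exact mem_autInducedBy.mpr ⟨g, h, hgn, hge⟩)
  obtain ⟨Φ, hΦ, hΦm, him⟩ := movable_of_conj hS hPh habove hgen hQ
  have hr := hΦ.restrict_to (le_normalizerIn hQS)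
  haveI := finite_autGroup (F := F) Q
  haveI := finite_autGroup (F := F) Ph
  let ψ : F.autGroup Q →* F.autGroup Ph :=
    ((hr.transport him).toMonoidHom.comp (F.autGroup Q).subtype).codRestrict _
      fun a => hr.transport_mem him a.2
  have hψ : Function.Surjective ψ := by
    rintro ⟨b, hb⟩
    rw [← hr.map_transport him] at hb
    obtain ⟨a, ha, rfl⟩ := hb
    exact ⟨⟨a, ha⟩, rfl⟩
  set O := (Cfsg.pCore p ↥(F.autGroup Ph)).map (F.autGroup Ph).subtype with hOdef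
  have hαO' : hr.transport him α ∈ O := by
    obtain ⟨a, ha, rfl⟩ := hαO
    haveI : ((Cfsg.pCore p ↥(F.autGroup Q)).map ψ).Normal :=
      (inferInstance : (Cfsg.pCore p ↥(F.autGroup Q)).Normal).map ψ hψ
    exact ⟨ψ a, HallCore.le_pCore ((HallCore.isPGroup_pCore p _).map ψ)
      (Subgroup.mem_map_of_mem ψ ha), rfl⟩
  have hinn : Inn Ph ≤ O := by
    intro i hi
    haveI : ((Inn Ph).subgroupOf (F.autGroup Ph)).Normal := FusionSysAlperin.inn_normal F Ph
    exact ⟨⟨i, inn_le_autGroup hPh.1 hi⟩, HallCore.le_pCore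
      (((isPGroup_autInducedBy hS Ph).to_le (inn_le_autInducedBy hPh.1)).of_equiv
        (Subgroup.subgroupOfEquivOfLe (inn_le_autGroup hPh.1)).symm) hi, rfl⟩
  have hnorm : ∀ a ∈ F.autGroup Ph, ∀ o ∈ O, a * o * a⁻¹ ∈ O := by
    rintro a ha _ ⟨o, ho, rfl⟩
    exact ⟨(⟨a, ha⟩ : F.autGroup Ph) * o * (⟨a, ha⟩ : F.autGroup Ph)⁻¹,
      (inferInstance : (Cfsg.pCore p ↥(F.autGroup Ph)).Normal).conj_mem o ho _, rfl⟩
  have hO : IsPGroup p O := (HallCore.isPGroup_pCore p _).map _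
  have hmem : Φ g ∈ kSub S O := by
    refine mem_kSub.mpr ⟨hΦm g hgN, _, hαO', fun y hy => ?_⟩
    obtain ⟨x, hx, rfl⟩ := hr.mem_im.mp (him.symm ▸ hy)
    rw [hr.afun_transport him α hx, hge x hx, hΦ.map_cj hgN (le_normalizerIn hQS hx)]
  exact saturated_class hS hPh habove hgen hnorm hinn hO
    (lt_of_le_of_ne (le_kSub hPh.1 hinn) fun e =>
      map_not_mem hQS hΦ him hgN hgQ (e.symm ▸ hmem))

/-- Saturation criterion: let F be a fusion system over a finite p-group S and H a family of subgroups of S closed under conjugacy in F, such that every conjugacy class inside H contains a fully automized receptive member, F is the smallest fusion system over S containing all its maps with source in H, and every centric subgroup outside H is conjugate in F to some P for which Aut_S(P) ∩ O_p(Aut_F(P)) is not contained in Inn(P). Then F is saturated. -/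
theorem result {Ω : Type*} [Group Ω] {S : Subgroup Ω} [Finite S] (p : ℕ) [Fact p.Prime] (hS : IsPGroup p S) (F : Cfsg.FusionSystem S) (ℋ : Set (Subgroup Ω)) (hℋS : ∀ P ∈ ℋ, P ≤ S) (hℋconj : ∀ P ∈ ℋ, ∀ Q, F.IsConj P Q → Q ∈ ℋ) (hsat : ∀ P ∈ ℋ, ∃ Q, F.IsConj P Q ∧ F.IsFullyAutomized p Q ∧ F.IsReceptive Q) (hgen : ∀ E : Cfsg.FusionSystem S, (∀ P ∈ ℋ, F.Hom P ⊆ E.Hom P) → F ≤ E) (hstar : ∀ P : Subgroup Ω, F.IsCentric P → P ∉ ℋ → ∃ Q, F.IsConj P Q ∧ ¬ (Cfsg.autInducedBy S Q ⊓ (Cfsg.pCore p ↥(F.autGroup Q)).map (F.autGroup Q).subtype ≤ Cfsg.Inn Q)) : F.IsSaturated p := by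
  suffices h : ∀ n, ∀ P : Subgroup Ω, P ≤ S → Nat.card S - Nat.card P = n →
      ∃ Q, F.IsConj P Q ∧ F.IsFullyAutomized p Q ∧ F.IsReceptive Q from
    fun P hP => h _ P hP rfl
  intro n
  induction n using Nat.strong_induction_on with
  | _ n ih =>
  intro P hP hn
  by_cases hPℋ : P ∈ ℋ
  · exact hsat P hPℋ
  have hlt : P < S := lt_of_le_of_ne hP fun e => by
    subst e
    obtain ⟨Q, hQ, hne⟩ := hstar _ FusCentric.centric_top hPℋ
    obtain rfl := isConj_self_eq hQ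
    exact hne (inf_le_left.trans (autInducedBy_self _).le)
  obtain ⟨Ph, hconj, hPh⟩ := exists_fullyNormalized (F := F) hP
  have hcard : Nat.card Ph = Nat.card P := isConj_card (isConj_symm hconj)
  have habove : SatAbove F p (Nat.card Ph) := by
    intro R hR hlt'
    have : Nat.card R ≤ Nat.card S := Subgroup.card_le_of_le hR
    exact ih _ (by omega) R hR rfl
  have hltPh : Ph < S := lt_of_le_of_ne hPh.1 fun e => by
    have := card_lt_of_lt le_rfl hlt
    rw [e] at hcard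
    omega
  have hgen' : ∀ (Q : Subgroup Ω) (f : Ω → Ω), F.IsConj Ph Q → Mor F Q f → Gen F Q f :=
    fun Q f hQ hf => gen_of_mor hltPh
      (fun R hR hc => hPℋ (hℋconj R hR P (isConj_symm (isConj_trans hconj hc)))) hgen hQ hf
  refine ⟨Ph, hconj, ?_⟩
  by_cases hc : F.IsCentric Ph
  · obtain ⟨Q, hQ, hne⟩ := hstar Ph hc fun h => hPℋ (hℋconj Ph h P (isConj_symm hconj))
    exact class_of_star hS hPh habove hgen' hQ hne
  · exact class_of_not_centric hS hPh habove hgen' hc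

end Cfsg.Agent.S5110
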