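import Cfsg.Statements.S5112
import Cfsg.Agent.Lib.FusionSysSaturated

set_option autoImplicit false
open Cfsg

namespace Cfsg.Agent.S5112

theorem units_pow {b : ℕ} (hb : 0 < b) (u : (ZMod (2 ^ b))ˣ) : u ^ (2 ^ (b - 1)) = 1 := by
  have h := ZMod.pow_totient u
  rw [Nat.totient_prime_pow Nat.prime_two hb] at h
  simpa using h

theorem dihedral_aut {b : ℕ} (hb : 2 ≤ b) (α : MulAut (DihedralGroup (2 ^ b))) :
    ∃ k, α ^ (2 ^ k) = 1 := by
  have hm : 4 ≤ 2 ^ b := le_trans (by norm_num) (Nat.pow_le_pow_right two_pos hb)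
  haveI : NeZero (2 ^ b) := ⟨by omega⟩
  have hex : ∀ β : MulAut (DihedralGroup (2 ^ b)), ∃ i, β (DihedralGroup.r 1) = DihedralGroup.r i := by
    intro β
    cases h : β (DihedralGroup.r 1) with
    | r i => exact ⟨i, rfl⟩
    | sr i =>
      have h1 := MulEquiv.orderOf_eq β (DihedralGroup.r 1)
      rw [h, DihedralGroup.orderOf_r_one, DihedralGroup.orderOf_sr] at h1
      omega
  have hr : ∀ β : MulAut (DihedralGroup (2 ^ b)), ∀ i, β (DihedralGroup.r 1) = DihedralGroup.r i →
      ∀ k, β (DihedralGroup.r k) = DihedralGroup.r (i * k) := by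
    intro β i hi k
    rw [← ZMod.natCast_zmod_val k, ← DihedralGroup.r_one_pow, map_pow, hi, DihedralGroup.r_pow]
  obtain ⟨i, hi⟩ := hex α
  obtain ⟨j, hj⟩ := hex α⁻¹
  have hu : i * j = 1 := by
    have := hr α i hi j
    rw [← hj, MulAut.apply_inv_self] at this
    exact (DihedralGroup.r.inj this).symm
  let u : (ZMod (2 ^ b))ˣ := ⟨i, j, hu, by rw [mul_comm, hu]⟩
  have hpow : ∀ (t : ℕ) k, (α ^ t) (DihedralGroup.r k) = DihedralGroup.r (i ^ t * k) := by
    intro t
    induction t with
    | zero => intro k; simp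
    | succ t ih => intro k; rw [pow_succ', MulAut.mul_apply, ih, hr α i hi, pow_succ', mul_assoc]
  set β := α ^ (2 ^ (b - 1)) with hβ
  have hβr : ∀ k, β (DihedralGroup.r k) = DihedralGroup.r k := by
    intro k
    rw [hβ, hpow]
    have := congrArg Units.val (units_pow (by omega) u)
    rw [Units.val_pow_eq_pow_val, Units.val_one] at this
    rw [show i ^ (2 ^ (b - 1)) = 1 from this, one_mul]
  obtain ⟨c, hc⟩ : ∃ c, β (DihedralGroup.sr 0) = DihedralGroup.sr c := by
    cases h : β (DihedralGroup.sr 0) with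
    | sr c => exact ⟨c, rfl⟩
    | r c => exact absurd (β.injective (h.trans (hβr c).symm)) (fun e => by cases e)
  have hs : ∀ k, β (DihedralGroup.sr k) = DihedralGroup.sr (c + k) := by
    intro k
    have : (DihedralGroup.sr k : DihedralGroup (2 ^ b)) = DihedralGroup.sr 0 * DihedralGroup.r k := by
      rw [DihedralGroup.sr_mul_r, zero_add]
    rw [this, map_mul, hc, hβr, DihedralGroup.sr_mul_r]
  have hs' : ∀ (t : ℕ) k, (β ^ t) (DihedralGroup.sr k) = DihedralGroup.sr ((t : ZMod (2 ^ b)) * c + k) := by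
    intro t
    induction t with
    | zero => intro k; simp
    | succ t ih => intro k; rw [pow_succ', MulAut.mul_apply, ih, hs]; congr 1; push_cast; ring
  have hr' : ∀ (t : ℕ) k, (β ^ t) (DihedralGroup.r k) = DihedralGroup.r k := by
    intro t
    induction t with
    | zero => intro k; simp
    | succ t ih => intro k; rw [pow_succ', MulAut.mul_apply, ih, hβr]
  refine ⟨b - 1 + b, MulEquiv.ext fun x => ?_⟩
  rw [pow_add, pow_mul, ← hβ]
  cases x with
  | r k => rw [hr']; rfl
  | sr k => rw [hs', ZMod.natCast_self, zero_mul, zero_add]; rfl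

theorem quaternion_aut {b : ℕ} (hb : 2 ≤ b) (α : MulAut (QuaternionGroup (2 ^ b))) :
    ∃ k, α ^ (2 ^ k) = 1 := by
  have hm : 4 ≤ 2 ^ b := le_trans (by norm_num) (Nat.pow_le_pow_right two_pos hb)
  haveI : NeZero (2 ^ b) := ⟨by omega⟩
  have h2b : 2 * 2 ^ b = 2 ^ (b + 1) := (pow_succ' 2 b).symm
  haveI : NeZero (2 * 2 ^ b) := ⟨by omega⟩
  have hex : ∀ β : MulAut (QuaternionGroup (2 ^ b)), ∃ i, β (QuaternionGroup.a 1) = QuaternionGroup.a i := by
    intro β
    cases h : β (QuaternionGroup.a 1) with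
    | a i => exact ⟨i, rfl⟩
    | xa i =>
      have h1 := MulEquiv.orderOf_eq β (QuaternionGroup.a 1)
      rw [h, QuaternionGroup.orderOf_a_one, QuaternionGroup.orderOf_xa] at h1
      omega
  have hr : ∀ β : MulAut (QuaternionGroup (2 ^ b)), ∀ i, β (QuaternionGroup.a 1) = QuaternionGroup.a i →
      ∀ k, β (QuaternionGroup.a k) = QuaternionGroup.a (i * k) := by
    intro β i hi k
    have hp : ∀ n : ℕ, (QuaternionGroup.a i : QuaternionGroup (2 ^ b)) ^ n = QuaternionGroup.a (i * (n : ZMod (2 * 2 ^ b))) := by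
      intro n
      induction n with
      | zero => rw [pow_zero, Nat.cast_zero, mul_zero]; rfl
      | succ n ih => rw [pow_succ, ih, QuaternionGroup.a_mul_a, Nat.cast_succ, mul_add, mul_one]
    rw [← ZMod.natCast_zmod_val k, ← QuaternionGroup.a_one_pow, map_pow, hi, hp]
  obtain ⟨i, hi⟩ := hex α
  obtain ⟨j, hj⟩ := hex α⁻¹
  have hu : i * j = 1 := by
    have := hr α i hi j
    rw [← hj, MulAut.apply_inv_self] at this
    exact (QuaternionGroup.a.inj this).symm
  let u : (ZMod (2 * 2 ^ b))ˣ := ⟨i, j, hu, (_root_.mul_comm j i).trans hu⟩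
  have hpow : ∀ (t : ℕ) k, (α ^ t) (QuaternionGroup.a k) = QuaternionGroup.a (i ^ t * k) := by
    intro t
    induction t with
    | zero => intro k; simp
    | succ t ih => intro k; rw [pow_succ', MulAut.mul_apply, ih, hr α i hi, pow_succ', mul_assoc]
  have hone : i ^ (2 ^ b) = 1 := by
    have h := ZMod.pow_totient u
    have ht : Nat.totient (2 * 2 ^ b) = 2 ^ b := by
      rw [h2b, Nat.totient_prime_pow Nat.prime_two (Nat.succ_pos b)]; simp
    have h' := congrArg Units.val h
    rw [Units.val_pow_eq_pow_val, Units.val_one, ht] at h'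
    exact h'
  set β := α ^ (2 ^ b) with hβ
  have hβr : ∀ k, β (QuaternionGroup.a k) = QuaternionGroup.a k := by
    intro k
    rw [hβ, hpow, hone, one_mul]
  obtain ⟨c, hc⟩ : ∃ c, β (QuaternionGroup.xa 0) = QuaternionGroup.xa c := by
    cases h : β (QuaternionGroup.xa 0) with
    | xa c => exact ⟨c, rfl⟩
    | a c => exact absurd (β.injective (h.trans (hβr c).symm)) (fun e => by cases e)
  have hs : ∀ k, β (QuaternionGroup.xa k) = QuaternionGroup.xa (c + k) := by
    intro k
    have : (QuaternionGroup.xa k : QuaternionGroup (2 ^ b)) = QuaternionGroup.xa 0 * QuaternionGroup.a k := by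
      rw [QuaternionGroup.xa_mul_a, zero_add]
    rw [this, map_mul, hc, hβr, QuaternionGroup.xa_mul_a]
  have hs' : ∀ (t : ℕ) k, (β ^ t) (QuaternionGroup.xa k) = QuaternionGroup.xa ((t : ZMod (2 * 2 ^ b)) * c + k) := by
    intro t
    induction t with
    | zero => intro k; simp
    | succ t ih => intro k; rw [pow_succ', MulAut.mul_apply, ih, hs]; congr 1; push_cast; ring
  have hr' : ∀ (t : ℕ) k, (β ^ t) (QuaternionGroup.a k) = QuaternionGroup.a k := by
    intro t
    induction t with
    | zero => intro k; simp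
    | succ t ih => intro k; rw [pow_succ', MulAut.mul_apply, ih, hβr]
  refine ⟨b + (b + 1), MulEquiv.ext fun x => ?_⟩
  rw [pow_add, pow_mul, ← hβ, ← h2b]
  cases x with
  | a k => rw [hr']; rfl
  | xa k => rw [hs', ZMod.natCast_self, zero_mul, zero_add]; rfl

theorem isPGroup_aut {Ω : Type*} [Group Ω] {S : Subgroup Ω} (n : ℕ) (hn : 4 ≤ n)
    (hshape : Nonempty (S ≃* DihedralGroup (2 ^ (n - 1))) ∨ Nonempty (S ≃* QuaternionGroup (2 ^ (n - 2)))) :
    IsPGroup 2 (MulAut S) := by
  intro α
  rcases hshape with ⟨⟨e⟩⟩ | ⟨⟨e⟩⟩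
  · obtain ⟨k, hk⟩ := dihedral_aut (b := n - 1) (by omega) (MulAut.congr e α)
    exact ⟨k, (MulAut.congr e).injective (by rw [map_pow, hk, map_one])⟩
  · obtain ⟨k, hk⟩ := quaternion_aut (b := n - 2) (by omega) (MulAut.congr e α)
    exact ⟨k, (MulAut.congr e).injective (by rw [map_pow, hk, map_one])⟩

/-- If S is a dihedral or generalized quaternion 2-group of order at least 16, then in every saturated fusion system over S (at the prime 2) the automorphism group Aut_F(S) consists of the inner automorphisms of S. -/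
theorem result {Ω : Type*} [Group Ω] {S : Subgroup Ω} [Finite S] (n : ℕ) (hn : 4 ≤ n) (hshape : Nonempty (S ≃* DihedralGroup (2 ^ (n - 1))) ∨ Nonempty (S ≃* QuaternionGroup (2 ^ (n - 2)))) (F : Cfsg.FusionSystem S) (hF : F.IsSaturated 2) : F.autGroup S = Cfsg.Inn S := by
  haveI := Cfsg.Agent.FusionSysBasic.finite_autGroup (F := F) S
  obtain ⟨-, R, hR⟩ := Cfsg.Agent.FusionSysSaturated.fullyAutomized_of_saturated_self (F := F) hF
  have hp : IsPGroup 2 (F.autGroup S) := (isPGroup_aut n hn hshape).to_subgroup _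
  have htop : (R : Subgroup (F.autGroup S)) = ⊤ := by
    have h2 : IsPGroup 2 (⊤ : Subgroup (F.autGroup S)) := hp.of_equiv Subgroup.topEquiv.symm
    exact (R.is_maximal' h2 le_top).symm
  rw [htop, Cfsg.Agent.FusionSysBasic.autInducedBy_self] at hR
  refine le_antisymm (fun α hα => ?_) (Cfsg.Agent.FusionSysBasic.inn_le_autGroup le_rfl)
  have h : (⟨α, hα⟩ : F.autGroup S) ∈ (⊤ : Subgroup (F.autGroup S)) := Subgroup.mem_top _
  rw [hR] at h
  exact h

end Cfsg.Agent.S5112
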