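import Cfsg.Statements.S5114
import Cfsg.Agent.Lib.FusionPrimeIndex90
-- import your own Cfsg.Agent.* helpers here

set_option autoImplicit false
open Cfsg

namespace Cfsg.Agent.S5114

open Cfsg.FusionSystem Cfsg.Agent.FusionSysBasic Cfsg.Agent.FusionSysSaturated
open Cfsg.Agent.FusionPrimeIndex90

/-- Let F be a saturated fusion system over a finite p-group S and E a fusion system over S contained in F. If Aut_E(P) contains the subgroup of Aut_F(P) generated by its elements of p-power order for every subgroup P that is centric in F, then the same holds for every subgroup of S (E has index prime to p in F), every map of F with source a subgroup P of S is an element of Aut_F(S) composed with a map of E, and a subgroup is centric in E exactly when it is centric in F. -/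
theorem result {Ω : Type*} [Group Ω] {S : Subgroup Ω} [Finite S] (p : ℕ) [Fact p.Prime] (hS : IsPGroup p S) (F : Cfsg.FusionSystem S) (hF : F.IsSaturated p) (E : Cfsg.FusionSystem S) (hEF : E.IsSubsystemOf F) (h : ∀ P : Subgroup Ω, F.IsCentric P → (Subgroup.closure {α : ↥(F.autGroup P) | ∃ k : ℕ, orderOf α = p ^ k}).map (F.autGroup P).subtype ≤ E.autGroup P) : E.HasPrimeToPIndexIn F p ∧ (∀ (P : Subgroup Ω) (φ : P →* Ω), φ ∈ F.Hom P → ∃ α ∈ F.autGroup S, ∃ φ₀ ∈ E.Hom P, ∀ (x : P) (hx : φ₀ x ∈ S), φ x = ((α ⟨φ₀ x, hx⟩ : S) : Ω)) ∧ ∀ P : Subgroup Ω, E.IsCentric P ↔ F.IsCentric P := by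
  have hp' : ∀ P : Subgroup Ω, F.IsCentric P → ∀ m ∈ F.autGroup P,
      (∃ k, orderOf m = p ^ k) → m ∈ E.autGroup P := fun P hP m hm ⟨k, hk⟩ =>
    h P hP ⟨⟨m, hm⟩, Subgroup.subset_closure ⟨k, by rw [Subgroup.orderOf_mk, hk]⟩, rfl⟩
  have fac : ∀ {P : Subgroup Ω} {f : Ω → Ω}, Mor F P f → Factor hEF P f :=
    fun hf => factor hS hF hEF hp' hf
  refine ⟨⟨hEF, fun P hP => ?_⟩, fun P φ hφ => ?_, fun P => ⟨fun hc => ?_, fun hc => ?_⟩⟩
  · rw [Subgroup.map_le_iff_le_comap, Subgroup.closure_le]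
    rintro ⟨γ, hγ⟩ ⟨k, hk⟩
    rw [Subgroup.orderOf_mk] at hk
    show γ ∈ E.autGroup P
    obtain ⟨Q, hPQ, hQ⟩ := exists_fullyNormalized (F := F) hP
    obtain ⟨φ, hφ, hφQ⟩ := FusionSysBasic.isConj_iff.1 hPQ
    haveI := finite_autGroup (F := F) Q
    obtain ⟨a, ha, haR⟩ := sylIn_absorb
      (K := (Subgroup.zpowers γ).map (hφ.transport hφQ).toMonoidHom)
      (fullyAutomized_of_fullyNormalized hS hF hQ).2
      ((IsPGroup.of_card (n := k) (by rw [Nat.card_zpowers, hk])).map _)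
      (hφ.map_transport hφQ ▸ Subgroup.map_mono (Subgroup.zpowers_le.mpr hγ))
    obtain ⟨g, hg, -, hge⟩ := mem_autInducedBy.1
      (haR _ ⟨γ, Subgroup.mem_zpowers γ, rfl⟩)
    have hf : Mor F P (afun a ∘ φ) := hφ.comp ((mem_autGroup hQ.1).1 ha)
      fun x hx => hφQ ▸ apply_mem_im hx
    obtain ⟨α, hα, e, he, hfe⟩ := fac hf
    obtain ⟨ei, hei, heie, -, -⟩ := he.exists_inv
    have hαm := (mem_autGroup le_rfl).1 (inv_mem hα)
    have hhS : afun α⁻¹ g ∈ S := afun_mem _ hg
    have key : ∀ x ∈ P, cj (afun α⁻¹ g) (e x) = e (afun γ x) := by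
      intro x hx
      have hxQ : φ x ∈ Q := hφQ ▸ apply_mem_im hx
      have h1 : cj g ((afun a ∘ φ) x) = (afun a ∘ φ) (afun γ x) := by
        show cj g (afun a (φ x)) = afun a (φ (afun γ x))
        rw [← hge _ (afun_mem a hxQ)]
        show afun (a * hφ.transport hφQ γ * a⁻¹) (afun a (φ x)) = _
        rw [afun_mul _ _ (afun_mem a hxQ), afun_inv_apply a hxQ, afun_mul _ _ hxQ,
          hφ.afun_transport hφQ _ hx]
      rw [hfe x hx, hfe _ (afun_mem γ hx)] at h1
      have h2 := congrArg (afun α⁻¹) h1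
      rwa [hαm.map_cj hg (afun_mem α (he.apply_mem hx)), afun_inv_apply α (he.apply_mem hx),
        afun_inv_apply α (he.apply_mem (afun_mem γ hx))] at h2
    refine mem_autGroup_of_mor ((((stableSub_le he).comp ((mor_cj (F := E) le_rfl hhS).restrict_to
      he.im_le) (fun x hx => apply_mem_im hx)).comp (stableSub_le hei) (fun x hx => ?_)).congr
      fun x hx => ?_)
    · show cj _ (e x) ∈ _
      rw [key x hx]
      exact apply_mem_im (afun_mem γ hx)
    · show ei (cj _ (e x)) = _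
      rw [key x hx, heie _ (afun_mem γ hx)]
  · obtain ⟨α, hα, e, he, hfe⟩ := fac (mor_toFun hφ)
    obtain ⟨φ₀, hφ₀, he₀⟩ := stableSub_le he
    refine ⟨α, hα, φ₀, hφ₀, fun x hx => ?_⟩
    rw [← toFun_coe φ x, hfe x x.2, afun_apply α (he.apply_mem x.2)]
    simp only [he₀]
  · refine ⟨hc.1, fun R hR => ?_⟩
    obtain ⟨f, hf, rfl⟩ := FusionSysBasic.isConj_iff.1 hR
    obtain ⟨α, hα, e, he, hfe⟩ := fac hf
    have h1 := hc.2 _ (FusionSysBasic.isConj_iff.2 ⟨e, stableSub_le he, rfl⟩)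
    have hαm := (mem_autGroup le_rfl).1 (inv_mem hα)
    intro c hcC
    rw [mem_centralizerIn] at hcC
    have h2 : afun α⁻¹ c ∈ centralizerIn S (im P e) := by
      refine mem_centralizerIn.2 ⟨afun_mem _ hcC.1, fun y hy => ?_⟩
      obtain ⟨x, hx, rfl⟩ := he.mem_im.1 hy
      have h3 := congrArg (afun α⁻¹) (hcC.2 _ (apply_mem_im hx))
      rwa [hαm.map_cj hcC.1 (hf.apply_mem hx), hfe x hx,
        afun_inv_apply α (he.apply_mem hx)] at h3
    obtain ⟨x, hx, hxe⟩ := he.mem_im.1 (h1 h2)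
    rw [← afun_apply_inv α hcC.1, ← hxe, ← hfe x hx]
    exact apply_mem_im hx
  · exact FusCentric.centric_mono (fun Q => hEF Q) hc

end Cfsg.Agent.S5114
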