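import Mathlib
import Cfsg.Statements.S5125
import Cfsg.Agent.Lib.FusionSysChain

set_option autoImplicit false
open Cfsg

namespace Cfsg.Agent.S5125

section
open scoped commutatorElement
open Cfsg.FusionSystem Cfsg.Agent.FusionSysBasic Cfsg.Agent.FusionSysSaturated
  Cfsg.Agent.FusionSysNormal Cfsg.Agent.FusionSysChain

variable {Ω : Type*} [Group Ω] {S : Subgroup Ω} [Finite S] {p : ℕ} [Fact p.Prime]
  {F : Cfsg.FusionSystem S}

theorem normal_of_data (hS : IsPGroup p S) (hF : F.IsSaturated p) {Q Q₁ : Subgroup Ω}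
    (hQ : F.StronglyClosed Q) (hQ₁Q : Q₁ ≤ Q) (hQ₁ : F.IsNormal Q₁) (hab : ⁅Q, Q⁆ ≤ Q₁)
    (hAut : IsPGroup p ↥(F.autGroup Q₁)) : F.IsNormal Q := by
  have hQ₁S := hQ₁.1
  haveI := finite_of_le hQ₁S
  haveI := finite_autGroup (F := F) Q₁
  let A := F.autGroup Q₁
  let G := Q₁ ⋊[A.subtype] A
  haveI : Finite G := Finite.of_equiv _ (SemidirectProduct.equivProd).symm
  have hG : IsPGroup p G := by
    obtain ⟨a, ha⟩ := IsPGroup.iff_card.1 (hS.to_le hQ₁S)
    obtain ⟨b, hb⟩ := IsPGroup.iff_card.1 hAut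
    refine IsPGroup.of_card (n := a + b) ?_
    rw [Nat.card_congr (SemidirectProduct.equivProd : G ≃ _), Nat.card_prod, ha, hb, pow_add]
  haveI := hG.isNilpotent
  obtain ⟨n, hn⟩ := Group.IsNilpotent.nilpotent (G := G)
  let Y : ℕ → Subgroup Ω := fun i =>
    ((Subgroup.upperCentralSeries G i).comap SemidirectProduct.inl).map Q₁.subtype
  have hYQ : ∀ i, Y i ≤ Q₁ := fun i => Subgroup.map_subtype_le _
  have hY0 : Y 0 = ⊥ := by
    refine (Subgroup.eq_bot_iff_forall _).2 ?_
    rintro _ ⟨y, hy, rfl⟩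
    have : SemidirectProduct.inl y = (1 : G) := by simpa using hy
    have hy1 : y = 1 := SemidirectProduct.inl_injective (this.trans (map_one _).symm)
    simp [hy1]
  have hYn : Y n = Q₁ := by
    refine le_antisymm (hYQ n) fun y hy => ⟨⟨y, hy⟩, ?_, rfl⟩
    show SemidirectProduct.inl _ ∈ Subgroup.upperCentralSeries G n
    rw [hn]; trivial
  have hinv : ∀ i, ∀ α ∈ A, ∀ y ∈ Y i, afun α y ∈ Y i := by
    rintro i α hα _ ⟨y, hy, rfl⟩
    refine ⟨α y, ?_, (afun_coe α y).symm⟩
    show SemidirectProduct.inl _ ∈ Subgroup.upperCentralSeries G i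
    have := (inferInstance : (Subgroup.upperCentralSeries G i).Normal).conj_mem _ hy
      (SemidirectProduct.inr ⟨α, hα⟩)
    rwa [← map_inv, ← SemidirectProduct.inl_aut] at this
  have hstep : ∀ i, ∀ α ∈ A, ∀ y ∈ Y (i + 1), afun α y * y⁻¹ ∈ Y i := by
    rintro i α hα _ ⟨y, hy, rfl⟩
    refine ⟨α y * y⁻¹, ?_, ?_⟩
    · show SemidirectProduct.inl _ ∈ Subgroup.upperCentralSeries G i
      have h1 := Subgroup.mem_upperCentralSeries_succ_iff.1 hy (SemidirectProduct.inr ⟨α, hα⟩)
      rw [map_mul, map_inv, show (α y : Q₁) = (A.subtype ⟨α, hα⟩) y from rfl,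
        SemidirectProduct.inl_aut, map_inv, ← inv_mem_iff]
      simpa [commutatorElement_def, mul_assoc] using h1
    · show ((α y * y⁻¹ : Q₁) : Ω) = _
      rw [Subgroup.coe_mul, ← afun_coe α y]; rfl
  have hcl : ∀ i, F.StronglyClosed (Y i) := fun i => stronglyClosed_iff.2
    ⟨(hYQ i).trans hQ₁S, fun P f hP hf x hx => by
      obtain ⟨f', hf', hag, him⟩ := (isNormal_iff.1 hQ₁).2 P f hf
      rw [sup_eq_right.2 (hP.trans (hYQ i))] at hf'
      obtain ⟨α, hα, he⟩ := hf'.exists_aut him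
      rw [← hag x hx, ← he x (hYQ i (hP hx))]
      exact hinv i α hα x (hP hx)⟩
  refine isNormal_of_chain hS hF (n := n + 1) (fun i => if i ≤ n then Y i else Q)
    (by simp [hY0]) (by simp) hQ (fun i hi => ?_) (fun i hi => ?_) (fun i hi => ?_)
  · have hi' : i ≤ n := by omega
    by_cases h : i + 1 ≤ n
    · simp only [hi', h, if_true]
      exact Subgroup.map_mono (Subgroup.comap_mono (Subgroup.upperCentralSeries_mono G (Nat.le_succ i)))
    · simp only [hi', h, if_true, if_false]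
      exact (hYQ i).trans hQ₁Q
  · by_cases h : i + 1 ≤ n
    · simp only [h, if_true]; exact hcl _
    · simp only [h, if_false]; exact hQ
  · have hi' : i ≤ n := by omega
    by_cases h : i + 1 ≤ n
    · simp only [hi', h, if_true]
      refine Subgroup.commutator_le.2 fun a ha y hy => ?_
      have hnm : a ∈ Subgroup.normalizer (Q₁ : Set Ω) := mem_normalizer_of_cj_le hQ₁S fun z hz =>
        cj_mem_of_stronglyClosed (stronglyClosed_of_normal hQ₁) (hQ.1 ha) hz
      have hmem : nHom S Q₁ ⟨a, hQ.1 ha, hnm⟩ ∈ A :=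
        autInducedBy_le hQ₁S ((autInducedBy_eq_range S Q₁).ge ⟨_, rfl⟩)
      have := hstep i _ hmem y hy
      rw [afun_nHom _ (hYQ _ hy)] at this
      rw [commutatorElement_def]
      exact this
    · have : i = n := by omega
      subst this
      simp only [le_refl, h, if_true, if_false, hYn]
      exact hab

end

/-- Let F be a saturated fusion system over a finite p-group S and Q a subgroup strongly closed in F. If Q has a subgroup Q₁ that is normal in F, with Q/Q₁ abelian and Aut_F(Q₁) a p-group, then Q is normal in F. -/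
theorem result {Ω : Type*} [Group Ω] {S : Subgroup Ω} [Finite S] (p : ℕ) [Fact p.Prime] (hS : IsPGroup p S) (F : Cfsg.FusionSystem S) (hF : F.IsSaturated p) (Q Q₁ : Subgroup Ω) (hQ : F.StronglyClosed Q) (hQ₁Q : Q₁ ≤ Q) (hQ₁ : F.IsNormal Q₁) (hab : ⁅Q, Q⁆ ≤ Q₁) (hAut : IsPGroup p ↥(F.autGroup Q₁)) : F.IsNormal Q := by
  exact normal_of_data hS hF hQ hQ₁Q hQ₁ hab hAut

end Cfsg.Agent.S5125
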