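import Mathlib
import Cfsg.Statements.S5126
import Cfsg.Agent.Lib.FusionSysNormalizer
import Cfsg.Agent.Lib.FusionSysNormal
import Cfsg.Agent.Lib.FusionRealized87

set_option autoImplicit false
open Cfsg

namespace Cfsg.Agent.S5126

section
open Cfsg.FusionSystem Cfsg.Agent.FusionSysBasic Cfsg.Agent.FusionSysSaturated
  Cfsg.Agent.FusionSysNormal Cfsg.Agent.FusionSysAlperin Cfsg.Agent.FusionRealized87

variable {Ω : Type*} [Group Ω] {S : Subgroup Ω} [Finite S] {p : ℕ} [Fact p.Prime]
  {F : Cfsg.FusionSystem S}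

theorem constrained_and_core (hS : IsPGroup p S) (hF : F.IsSaturated p) {R : Subgroup Ω}
    (hRn : F.IsFullyNormalized R) (hRc : F.IsCentric R) (hRr : F.IsRadical p R)
    {E : Cfsg.FusionSystem (normalizerIn S R)} (hE : F.IsNormalizerSystem R E)
    {G : Type*} [Group G] (ι : ↥(normalizerIn S R) →* G) :
    E.IsConstrained p ∧ (E.IsModel p G ι →
      (Cfsg.pCore p G : Subgroup G) = (R.subgroupOf (normalizerIn S R)).map ι) := by
  haveI := finite_normalizerIn (S := S) R
  have hRS := hRc.1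
  have hRT : R ≤ normalizerIn S R := le_normalizerIn hRS
  have hnorm : E.IsNormal R := by
    refine isNormal_iff.2 ⟨hRT, fun P f hf => ?_⟩
    obtain ⟨hfF, hP, hfT, f', hf', hag, him⟩ := (mor_normalizerSystem_iff hE).1 hf
    refine ⟨f', (mor_normalizerSystem_iff hE).2 ⟨hf', sup_le hP hRT, fun x hx => ?_, f',
      hf'.restrict_to (sup_le le_rfl le_sup_right), fun _ _ => rfl, him⟩, hag, him⟩
    exact mor_sup_induction hf' (fun a ha => (hag a ha).symm ▸ hfT a ha)
      (fun b hb => hRT (him.le (apply_mem_im hb))) hx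
  have hcl := stronglyClosed_of_normal hnorm
  have hcen : E.IsCentric R := by
    refine ⟨hRT, fun Q hQ => ?_⟩
    obtain ⟨f, hf, rfl⟩ := FusionSysBasic.isConj_iff.1 hQ
    rw [hf.im_self fun x hx => stronglyClosed_invariant hcl hf hx hx]
    intro c hc
    obtain ⟨hcT, hcc⟩ := mem_centralizerIn.1 hc
    exact centralizerIn_le_of_centric hRc (mem_centralizerIn.2 ⟨hcT.1, hcc⟩)
  have hsat := FusionSysNormalizer.normalizerSystem_saturated hS hF hRn hE
  refine ⟨⟨hsat, R, hnorm, hcen⟩, ?_⟩
  rintro ⟨hfin, hR0, ⟨T, hT⟩, hC⟩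
  haveI := hfin
  haveI := HallCore.pCore_normal p G
  set O : Subgroup G := Cfsg.pCore p G with hO
  have hOle : O ≤ ι.range := hT ▸ HallCore.pCore_le_sylow T
  set K := downS ι O with hK
  have hKn : E.IsNormal K := normal_downS hR0 hOle
  have hT' : IsPGroup p (normalizerIn S R) := hS.to_le inf_le_left
  have haut : E.autGroup R = F.autGroup R := by
    ext α
    rw [mem_autGroup hRT, mem_autGroup hRS, mor_normalizerSystem_iff hE]
    refine ⟨fun h => h.1, fun h => ⟨h, hRT, fun x hx => hRT (afun_mem α hx), afun α, ?_,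
      fun _ _ => rfl, im_afun α⟩⟩
    rw [sup_idem]; exact h
  have hrad : E.IsRadical p R := ⟨hRT, by rw [haut]; exact hRr.2⟩
  have hKR : K ≤ R := normal_le_centric_radical hT' hKn hcen hrad
  have hOR : O ≤ upS ι R := by
    rw [← upS_downS ι hOle]
    exact fun y hy => by
      obtain ⟨x, hx, hxT, rfl⟩ := (mem_upS ι).1 hy
      exact up_mem_upS ι hRT (hKR hx)
  -- every element of `G` normalizes the image of `R`
  have hnor : ∀ g : G, ∀ y ∈ upS ι R, cj g y ∈ upS ι R := by
    intro g
    have hin : ∀ x ∈ K, cj g (up ι x) ∈ ι.range := fun x hx =>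
      hOle ((inferInstance : O.Normal).conj_mem _ ((mem_downS ι).1 hx).2 g)
    obtain ⟨f', hf', hag, him⟩ := (isNormal_iff.1 hnorm).2 K _ (mor_of_conj hR0 hKn.1 hin)
    obtain ⟨-, -, h, hh⟩ := (mor_iff hR0).1 hf'
    have hh' : ∀ y ∈ upS ι R, cj h y ∈ upS ι R := by
      intro y hy
      obtain ⟨x, hx, -, rfl⟩ := (mem_upS ι).1 hy
      rw [← hh x (Subgroup.mem_sup_right hx)]
      exact up_mem_upS ι hRT (him.le (apply_mem_im hx))
    have hu : h⁻¹ * g ∈ O := by
      refine hC (Subgroup.mem_centralizer_iff.2 fun y hy => ?_)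
      obtain ⟨x, hx, -, rfl⟩ := (mem_upS ι).1 (show y ∈ upS ι K by rw [upS_downS ι hOle]; exact hy)
      have h1 := hh x (Subgroup.mem_sup_left hx)
      rw [hag x hx, up_down ι (hin x hx)] at h1
      have h2 : cj (h⁻¹ * g) (up ι x) = up ι x := by rw [← cj_cj, h1, cj_inv_cj]
      rw [cj_apply, mul_inv_eq_iff_eq_mul] at h2
      exact h2.symm
    intro y hy
    have hu' := hOR hu
    rw [show g = h * (h⁻¹ * g) from (mul_inv_cancel_left h g).symm, ← cj_cj]
    refine hh' _ ?_
    exact (upS ι R).mul_mem ((upS ι R).mul_mem hu' hy) ((upS ι R).inv_mem hu')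
  refine le_antisymm hOR ?_
  have hN : (upS ι R).Normal := ⟨fun n hn g => hnor g n hn⟩
  exact le_sSup ⟨hN, ((hS.to_le hRS).of_equiv (Subgroup.subgroupOfEquivOfLe hRT).symm).map ι⟩

end

/-- In a saturated fusion system over a finite p-group S, the normalizer system of a fully normalized, centric, radical subgroup R is constrained, and in every model of that normalizer system the largest normal p-subgroup is the image of R. -/
theorem result {Ω : Type*} [Group Ω] {S : Subgroup Ω} [Finite S] (p : ℕ) [Fact p.Prime] (hS : IsPGroup p S) (F : Cfsg.FusionSystem S) (hF : F.IsSaturated p) (R : Subgroup Ω) (hRn : F.IsFullyNormalized R) (hRc : F.IsCentric R) (hRr : F.IsRadical p R) (E : Cfsg.FusionSystem (Cfsg.FusionSystem.normalizerIn S R)) (hE : F.IsNormalizerSystem R E) {G : Type*} [Group G] (ι : ↥(Cfsg.FusionSystem.normalizerIn S R) →* G) : E.IsConstrained p ∧ (E.IsModel p G ι → (Cfsg.pCore p G : Subgroup G) = (R.subgroupOf (Cfsg.FusionSystem.normalizerIn S R)).map ι) := by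
  exact constrained_and_core hS hF hRn hRc hRr hE ι

end Cfsg.Agent.S5126
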