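import Mathlib
import Cfsg.Statements.S5128
import Cfsg.Agent.Lib.FusionPuig
import Cfsg.Agent.Lib.FusionSysNormal

set_option autoImplicit false
open Cfsg

namespace Cfsg.Agent.S5128

/-- In a saturated fusion system over a finite p-group S, the product of two strongly closed subgroups is strongly closed. -/
theorem result {Ω : Type*} [Group Ω] {S : Subgroup Ω} [Finite S] (p : ℕ) [Fact p.Prime] (hS : IsPGroup p S) (F : Cfsg.FusionSystem S) (hF : F.IsSaturated p) (T₁ T₂ : Subgroup Ω) (h₁ : F.StronglyClosed T₁) (h₂ : F.StronglyClosed T₂) : F.StronglyClosed (T₁ ⊔ T₂) := by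
  open Cfsg.FusionSystem Cfsg.Agent.FusionSysBasic in
  refine (FusionSysNormal.stronglyClosed_iff).2 ⟨sup_le h₁.1 h₂.1, fun P f hP hf x hx => ?_⟩
  obtain ⟨f', hf', hc⟩ := FusionPuig.exists_map_mod hS hF h₁ hf
  obtain ⟨u, hu, t, ht, rfl⟩ := FusionPuig.exists_mul_of_mem_sup h₁ h₂.1
    (show x ∈ T₂ ⊔ T₁ from sup_comm T₁ T₂ ▸ hP hx)
  have htP : t ∈ P ⊔ T₁ := Subgroup.mem_sup_right ht
  have huP : u ∈ P ⊔ T₁ := by
    have := Subgroup.mul_mem _ (Subgroup.mem_sup_left hx : u * t ∈ P ⊔ T₁) (Subgroup.inv_mem _ htP)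
    rwa [mul_inv_cancel_right] at this
  have h3 : f' (u * t) ∈ T₁ ⊔ T₂ := by
    rw [hf'.map_mul huP htP]
    exact Subgroup.mul_mem _
      (Subgroup.mem_sup_right (FusionSysNormal.stronglyClosed_invariant h₂ hf' huP hu))
      (Subgroup.mem_sup_left (FusionSysNormal.stronglyClosed_invariant h₁ hf' htP ht))
  have h4 := Subgroup.mul_mem _ h3 (Subgroup.inv_mem _ (Subgroup.mem_sup_left (T := T₂) (hc _ hx)))
  simpa [FusionPuig.Cong] using h4

end Cfsg.Agent.S5128
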