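import Mathlib
import Cfsg.Statements.S5130
import Cfsg.Agent.S5119
import Cfsg.Agent.Lib.FusionSysNormal
import Cfsg.Agent.Lib.FusionSysGroup

set_option autoImplicit false
open Cfsg

namespace Cfsg.Agent.S5130

section
open Cfsg.FusionSystem Cfsg.Agent.FusionSysBasic Cfsg.Agent.FusionSysSaturated Cfsg.Agent.FusionKit88

theorem invariant_of {Ω : Type*} [Group Ω] {S T : Subgroup Ω} {F : Cfsg.FusionSystem S}
    {E : Cfsg.FusionSystem T} (hsub : E.IsSubsystemOf F) (hcl : F.StronglyClosed T)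
    (hinv : S5119.Inv F E)
    (hfr : ∀ (P : Subgroup Ω) (f : Ω → Ω), P ≤ T → Mor F P f → S5119.Good F E P f) :
    E.IsInvariantIn F := by
  refine ⟨hsub, hcl, fun P hPT φ hφ α hα => ?_, fun P hPT φ hφ => ?_⟩
  · obtain ⟨k, hk, ek⟩ := hinv P _ (mor_toFun hφ) α hα
    rw [← S5119.map_eq_im hPT (T.subtype.comp α.toMonoidHom) (g := afun α)
      (fun x => (afun_coe α x).symm)] at hk
    obtain ⟨χ, hχ, eχ⟩ := hk
    refine ⟨χ, hχ, fun x hφx hαx => ?_⟩
    rw [eχ]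
    show k ((α ⟨x, hPT x.2⟩ : T) : Ω) = _
    rw [← afun_apply α (hPT x.2), ek x x.2, toFun_coe φ x, afun_apply α hφx]
  · obtain ⟨α, hα, g₀, ⟨φ₀, hφ₀, e₀⟩, e⟩ := hfr P _ hPT (mor_toFun hφ)
    refine ⟨α, hα, φ₀, hφ₀, fun x hx => ?_⟩
    rw [← toFun_coe φ x, e x x.2, ← afun_apply α hx, e₀]

variable {Ω : Type*} [Group Ω] {S S₁ S₂ : Subgroup Ω} {F : Cfsg.FusionSystem S} {p : ℕ}

theorem prod_symm (h : Cfsg.IsInternalDirectProduct S₁ S₂ S) :
    Cfsg.IsInternalDirectProduct S₂ S₁ S :=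
  ⟨h.2.1, h.1, fun a ha b hb => (h.2.2.1 b hb a ha).symm, inf_comm S₁ S₂ ▸ h.2.2.2.1,
    sup_comm S₁ S₂ ▸ h.2.2.2.2⟩

theorem cj_fix (h : Cfsg.IsInternalDirectProduct S₁ S₂ S) {a b : Ω} (ha : a ∈ S₁) (hb : b ∈ S₂) :
    cj a b = b := by
  rw [cj_apply, h.2.2.1 a ha b hb, mul_inv_cancel_right]

theorem le_centralizerIn (h : Cfsg.IsInternalDirectProduct S₁ S₂ S) {P : Subgroup Ω} (hP : P ≤ S₁) :
    S₂ ≤ centralizerIn S P :=
  fun b hb => mem_centralizerIn.2 ⟨h.2.1 hb, fun x hx => cj_fix (prod_symm h) hb (hP hx)⟩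

theorem exists_mul (h : Cfsg.IsInternalDirectProduct S₁ S₂ S) {P : Subgroup Ω} (hP : P ≤ S₁) {x : Ω}
    (hx : x ∈ P ⊔ S₂) : ∃ a ∈ P, ∃ b ∈ S₂, a * b = x := by
  have hn : P ≤ Subgroup.normalizer (S₂ : Set Ω) := fun a ha => by
    rw [Subgroup.mem_normalizer_iff]
    intro y
    constructor
    · intro hy
      show cj a y ∈ S₂
      rw [cj_fix h (hP ha) hy]; exact hy
    · intro hy
      have h1 : cj a⁻¹ (cj a y) = cj a y := cj_fix h (hP (P.inv_mem ha)) hy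
      rw [cj_inv_cj] at h1
      rw [h1]; exact hy
  have h1 : x ∈ ((P ⊔ S₂ : Subgroup Ω) : Set Ω) := hx
  rw [Subgroup.coe_mul_of_left_le_normalizer_right P S₂ hn] at h1
  obtain ⟨a, ha, b, hb, e⟩ := Set.mem_mul.1 h1
  exact ⟨a, ha, b, hb, e⟩

theorem im_S2 [Finite S] (h₂ : F.StronglyClosed S₂) {P : Subgroup Ω} {f : Ω → Ω}
    (hf : Mor F (P ⊔ S₂) f) : im S₂ f = S₂ :=
  (hf.restrict_to le_sup_right).im_self fun _ hb =>
    closed_apply' h₂ hf (Subgroup.mem_sup_right hb) hb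

variable [Finite S] [Fact p.Prime] (hS : IsPGroup p S) (hF : F.IsSaturated p)
  (hd : Cfsg.IsInternalDirectProduct S₁ S₂ S) (h₁ : F.StronglyClosed S₁) (h₂ : F.StronglyClosed S₂)

include hS hF hd h₁ h₂ in
theorem extend_map {P : Subgroup Ω} {f : Ω → Ω} (hP : P ≤ S₁) (hf : Mor F P f) :
    ∃ f', Mor F (P ⊔ S₂) f' ∧ ∀ x ∈ P, f' x = f x := by
  have hQ1 : im P f ≤ S₁ := im_le_iff.2 fun x hx => closed_apply h₁ hf hP hx
  obtain ⟨R, hQR, hR⟩ := exists_fullyNormalized (F := F) hf.im_le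
  obtain ⟨χ, hχ, -, himχ⟩ := exists_map_to_fullyNormalized hS hF hR hQR
  have hQ2 : im P f ⊔ S₂ ≤ normalizerIn S (im P f) :=
    sup_le (le_normalizerIn hf.im_le) ((le_centralizerIn hd hQ1).trans centralizerIn_le_normalizerIn)
  have hχ' := hχ.restrict_to hQ2
  obtain ⟨g, hg, hgχ, -, -⟩ := hχ'.exists_inv
  rw [FusionSysNormal.im_sup hχ', himχ, im_S2 h₂ hχ'] at hg
  have hc : Mor F P (χ ∘ f) :=
    hf.comp (hχ.restrict_to (le_normalizerIn hf.im_le)) fun _ hx => apply_mem_im hx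
  obtain ⟨h, hh, hag, -⟩ := exists_extension_centralizer (receptive_of_fullyNormalized hS hF hR) hc
    (by rw [← hf.im_comp, himχ])
  have hh' := hh.restrict_to (sup_le le_sup_left ((le_centralizerIn hd hP).trans le_sup_right) :
    P ⊔ S₂ ≤ P ⊔ centralizerIn S P)
  refine ⟨g ∘ h, hh'.comp hg fun x hx => ?_, fun x hx => ?_⟩
  · refine mor_sup_induction hh' (fun a ha => Subgroup.mem_sup_left ?_)
      (fun b hb => Subgroup.mem_sup_right (closed_apply' h₂ hh' (Subgroup.mem_sup_right hb) hb)) hx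
    rw [hag a ha, ← himχ]
    exact apply_mem_im (apply_mem_im ha)
  · rw [Function.comp_apply, hag x hx, Function.comp_apply,
      hgχ _ (Subgroup.mem_sup_left (apply_mem_im hx))]

include hd in
theorem autInducedBy_eq {P : Subgroup Ω} (hP : P ≤ S₁) :
    Cfsg.autInducedBy S P = Cfsg.autInducedBy S₁ P := by
  refine le_antisymm (fun α hα => ?_) (autInducedBy_mono hd.1 P)
  obtain ⟨g, hg, hgn, hge⟩ := mem_autInducedBy.1 hα
  obtain ⟨a, ha, b, hb, rfl⟩ := exists_mul hd le_rfl (show g ∈ S₁ ⊔ S₂ from hd.2.2.2.2.symm ▸ hg)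
  have hbx : ∀ x ∈ P, cj b x = x := fun x hx => cj_fix (prod_symm hd) hb (hP hx)
  have hbn : b ∈ Subgroup.normalizer (P : Set Ω) :=
    mem_normalizer_of_cj_le (hP.trans hd.1) fun x hx => (hbx x hx).symm ▸ hx
  refine mem_autInducedBy.2 ⟨a, ha, ?_, fun x hx => ?_⟩
  · simpa using Subgroup.mul_mem _ hgn (Subgroup.inv_mem _ hbn)
  · rw [hge x hx, ← cj_cj, hbx x hx]

/-- Maps of the system over `S₁` fixing `S₂`. -/
def Fix (F : Cfsg.FusionSystem S) (S₂ P : Subgroup Ω) (f : Ω → Ω) : Prop :=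
  ∃ f', Mor F (P ⊔ S₂) f' ∧ (∀ x ∈ P, f' x = f x) ∧ ∀ b ∈ S₂, f' b = b

variable (R R' : Cfsg.FusionSystem S₁) (hR : ∀ P : Subgroup Ω, P ≤ S₁ → R.Hom P = F.Hom P)
  (hR' : ∀ P : Subgroup Ω, P ≤ S₁ → R'.Hom P = F.centralizerHom S₂ P)

include hR h₁ in
theorem mor_R {P : Subgroup Ω} {f : Ω → Ω} : Mor R P f ↔ P ≤ S₁ ∧ Mor F P f := by
  constructor
  · intro h
    obtain ⟨φ, hφ, he⟩ := id h
    exact ⟨h.le, φ, hR P h.le ▸ hφ, he⟩
  · rintro ⟨hP, φ, hφ, he⟩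
    exact ⟨φ, (hR P hP).symm ▸ hφ, he⟩

include hR' hd h₁ in
theorem mor_R' {P : Subgroup Ω} {f : Ω → Ω} : Mor R' P f ↔ P ≤ S₁ ∧ Fix F S₂ P f := by
  constructor
  · intro h
    obtain ⟨φ, hφ, he⟩ := id h
    rw [hR' P h.le] at hφ
    obtain ⟨-, -, -, hex⟩ := hφ
    exact ⟨h.le, (FusionSysNormal.ext_central_iff he).1 hex⟩
  · rintro ⟨hP, f', hf', hag, hfix⟩
    obtain ⟨φ, hφ, he⟩ := (hf'.restrict_to le_sup_left).congr hag
    have hcen : S₁ ≤ centralizerIn S S₂ := le_centralizerIn (prod_symm hd) le_rfl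
    refine ⟨φ, ?_, he⟩
    rw [hR' P hP]
    exact ⟨hφ, hP.trans hcen, fun x => hcen (he x ▸ closed_apply h₁ ((hf'.restrict_to le_sup_left).congr hag) hP x.2),
      (FusionSysNormal.ext_central_iff he).2 ⟨f', hf', hag, hfix⟩⟩

include hS hF hd h₁ h₂ hR' in
theorem frattini {P : Subgroup Ω} {f : Ω → Ω} (hP : P ≤ S₁) (hf : Mor F P f) :
    S5119.Good F R' P f := by
  obtain ⟨f', hf', hag⟩ := extend_map hS hF hd h₁ h₂ hP hf
  obtain ⟨b, hb, hbe⟩ := extend_map hS hF (prod_symm hd) h₂ h₁ le_rfl (hf'.restrict_to le_sup_right)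
  obtain ⟨r, hr, hrb, hbr, -⟩ := hb.exists_inv
  have him : im (S₂ ⊔ S₁) b = S₂ ⊔ S₁ := by
    rw [FusionSysNormal.im_sup hb, im_S2 h₁ hb,
      (hb.restrict_to le_sup_left).im_self fun x hx =>
        closed_apply' h₂ hb (Subgroup.mem_sup_left hx) hx]
  rw [him] at hr
  obtain ⟨α, hα, hαe⟩ := (hb.restrict_to (le_sup_right : S₁ ≤ S₂ ⊔ S₁)).exists_aut (im_S2 h₁ hb)
  have htop : ∀ x ∈ P ⊔ S₂, f' x ∈ S₂ ⊔ S₁ := fun x hx => by
    rw [sup_comm, hd.2.2.2.2]; exact hf'.apply_mem hx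
  refine ⟨α, hα, r ∘ f', (mor_R' hd h₁ R' hR').2 ⟨hP, r ∘ f', hf'.comp hr htop, fun _ _ => rfl, fun x hx => ?_⟩,
    fun x hx => ?_⟩
  · show r (f' x) = x
    rw [← hbe x hx]
    exact hrb x (Subgroup.mem_sup_left hx)
  · have hfx : f' x ∈ S₂ ⊔ S₁ := htop x (Subgroup.mem_sup_left hx)
    have h1 : r (f' x) ∈ S₁ := closed_apply' h₁ hr hfx
      (closed_apply' h₁ hf' (Subgroup.mem_sup_left hx) (hP hx))
    show f x = afun α (r (f' x))
    rw [hαe _ h1, hbr _ (him.symm ▸ hfx), hag x hx]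

include hS hF hd h₁ h₂ hR' in
theorem inv_R' : S5119.Inv F R' := by
  intro P f hf a ha
  obtain ⟨hP, f', hf', hag, hfix⟩ := (mor_R' hd h₁ R' hR').1 hf
  obtain ⟨b, hb, hbe⟩ := extend_map hS hF hd h₁ h₂ le_rfl ((mem_autGroup hd.1).1 ha)
  have hPS : P ⊔ S₂ ≤ S₁ ⊔ S₂ := sup_le_sup_right hP _
  have hb' := hb.restrict_to hPS
  obtain ⟨r, hr, hrb, -, hrP⟩ := hb'.exists_inv
  have him : im (P ⊔ S₂) b = im P (afun a) ⊔ S₂ := by
    rw [FusionSysNormal.im_sup hb', im_S2 h₂ hb, im_congr fun x hx => hbe x (hP hx)]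
  have hk : Mor F (im (P ⊔ S₂) b) (b ∘ f' ∘ r) :=
    (hr.comp hf' hrP).comp hb fun x _ => by
      rw [hd.2.2.2.2]; exact hf'.apply_mem (hrP x ‹_›)
  rw [him] at hk
  refine ⟨b ∘ f' ∘ r, (mor_R' hd h₁ R' hR').2 ⟨im_le_iff.2 fun x hx => afun_mem a (hP hx), _, hk,
    fun _ _ => rfl, fun x hx => ?_⟩, fun x hx => ?_⟩
  · obtain ⟨y, hy, rfl⟩ := (hb'.restrict_to le_sup_right).mem_im.1 ((im_S2 h₂ hb).symm ▸ hx)
    show b (f' (r (b y))) = b y
    rw [hrb y (Subgroup.mem_sup_right hy), hfix y hy]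
  · show b (f' (r (afun a x))) = afun a (f x)
    rw [← hbe x (hP hx), hrb x (Subgroup.mem_sup_left hx), hag x hx, hbe _ (hf.apply_mem hx)]

include hd in
theorem inf_sup_eq {P : Subgroup Ω} (hP : P ≤ S₁) : (P ⊔ S₂) ⊓ S₁ = P := by
  refine le_antisymm (fun x hx => ?_) (le_inf le_sup_left hP)
  obtain ⟨a, ha, b, hb, rfl⟩ := exists_mul hd hP hx.1
  have hb1 : b ∈ S₁ := by simpa using S₁.mul_mem (S₁.inv_mem (hP ha)) hx.2
  have hbot : b ∈ S₁ ⊓ S₂ := ⟨hb1, hb⟩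
  rw [hd.2.2.2.1, Subgroup.mem_bot] at hbot
  rw [hbot, mul_one]; exact ha

include hd h₁ h₂ in
theorem fullyNormalized_sup {P : Subgroup Ω} (hP : P ≤ S₁) (hfn : F.IsFullyNormalized P) :
    F.IsFullyNormalized (P ⊔ S₂) := by
  refine ⟨sup_le hfn.1 hd.2.1, fun Q hQ => ?_⟩
  obtain ⟨g, hg, rfl⟩ := FusionSysBasic.isConj_iff.1 hQ
  rw [FusionSysNormal.im_sup hg, im_S2 h₂ hg]
  have hP'' : im P g ≤ S₁ := im_le_iff.2 fun x hx => closed_apply h₁ (hg.restrict_to le_sup_left) hP hx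
  have h1 : Nat.card (normalizerIn S (im P g ⊔ S₂)) ≤ Nat.card (normalizerIn S (im P g)) := by
    haveI := finite_normalizerIn (S := S) (im P g)
    refine Subgroup.card_le_of_le fun n hn => ⟨hn.1, mem_normalizer_of_cj_le
      (hP''.trans hd.1) fun y hy => ?_⟩
    rw [← inf_sup_eq hd hP'']
    exact ⟨cj_mem_of_normalizer hn.2 (Subgroup.mem_sup_left hy),
      closed_apply' h₁ (mor_cj (P := S₁) hd.1 hn.1) (hP'' hy) (hP'' hy)⟩
  have h2 : Nat.card (normalizerIn S P) ≤ Nat.card (normalizerIn S (P ⊔ S₂)) := by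
    haveI := finite_normalizerIn (S := S) (P ⊔ S₂)
    refine Subgroup.card_le_of_le fun n hn => ⟨hn.1, mem_normalizer_of_cj_le
      (sup_le hfn.1 hd.2.1) fun y hy => ?_⟩
    exact mor_sup_induction (mor_cj (F := F) (sup_le hfn.1 hd.2.1) hn.1)
      (fun a ha => Subgroup.mem_sup_left (cj_mem_of_normalizer hn.2 ha))
      (fun b hb => Subgroup.mem_sup_right (closed_apply' h₂ (mor_cj (P := S₂) hd.2.1 hn.1) hb hb)) hy
  exact h1.trans ((hfn.2 _ (FusionSysBasic.isConj_iff.2 ⟨g, hg.restrict_to le_sup_left, rfl⟩)).trans h2)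

include hd hR h₁ hS hF in
theorem saturated_R : R.IsSaturated p := by
  intro P hP
  obtain ⟨Q, hPQ, hQ⟩ := exists_fullyNormalized (F := F) (hP.trans hd.1)
  obtain ⟨f, hf, rfl⟩ := FusionSysBasic.isConj_iff.1 hPQ
  have hQ1 : im P f ≤ S₁ := im_le_iff.2 fun x hx => closed_apply h₁ hf hP hx
  have hA : R.autGroup (im P f) = F.autGroup (im P f) := by
    ext α
    rw [mem_autGroup hQ1, mem_autGroup hf.im_le, mor_R h₁ R hR, and_iff_right hQ1]
  refine ⟨im P f, FusionSysBasic.isConj_iff.2 ⟨f, (mor_R h₁ R hR).2 ⟨hP, hf⟩, rfl⟩,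
    ⟨hQ1, ?_⟩, receptive_iff.2 ⟨hQ1, ?_⟩⟩
  · have := (fullyAutomized_of_fullyNormalized hS hF hQ).2
    rw [hA, ← autInducedBy_eq hd hQ1]
    exact this
  · intro P' g N hg him hNS hNn hN
    obtain ⟨g', hg', hag⟩ := (receptive_iff.1 (receptive_of_fullyNormalized hS hF hQ)).2 P' g N
      ((mor_R h₁ R hR).1 hg).2 him (hNS.trans hd.1) hNn
      fun n hn => let ⟨h, hh, e⟩ := hN n hn; ⟨h, hd.1 hh, e⟩
    exact ⟨g', (mor_R h₁ R hR).2 ⟨sup_le hg.le hNS, hg'⟩, hag⟩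

include hS hF hd h₁ h₂ hR' in
theorem saturated_R' : R'.IsSaturated p := by
  intro P hP
  obtain ⟨Q, hPQ, hQ⟩ := exists_fullyNormalized (F := F) (hP.trans hd.1)
  obtain ⟨f, hf, rfl⟩ := FusionSysBasic.isConj_iff.1 hPQ
  obtain ⟨α, hα, f₀, hf₀, he⟩ := frattini hS hF hd h₁ h₂ R' hR' hP hf
  have hP'1 : im P f₀ ≤ S₁ := hf₀.im_le
  have him : im (im P f₀) (afun α) = im P f := by
    rw [hf₀.im_comp]; exact im_congr fun x hx => (he x hx).symm
  -- the image is still fully normalized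
  obtain ⟨b, hb, hbe⟩ := extend_map hS hF hd h₁ h₂ le_rfl ((mem_autGroup hd.1).1 (inv_mem hα))
  rw [hd.2.2.2.2] at hb
  have hQ1 : im P f ≤ S₁ := im_le_iff.2 fun x hx => closed_apply h₁ hf hP hx
  have himb : im (im P f) b = im P f₀ := by
    rw [im_congr fun x hx => hbe x (hQ1 hx), ← him,
      ((mem_autGroup hd.1).1 hα |>.restrict_to hP'1).im_comp]
    exact (im_congr fun x hx => afun_inv_apply α (hP'1 hx)).trans (im_id _)
  have hfn : F.IsFullyNormalized (im P f₀) := by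
    refine ⟨hP'1.trans hd.1, fun Q' hQ' => ?_⟩
    refine (hQ.2 Q' (isConj_trans (FusionSysBasic.isConj_iff.2
      ⟨b, hb.restrict_to hQ.1, himb⟩) hQ')).trans ?_
    exact card_le_of_mor (hb.restrict_to inf_le_left) inf_le_left fun n hn =>
      mor_normalizer_mem (hb.restrict_to inf_le_left) hQ.1 himb hn
  have hsub : R'.autGroup (im P f₀) ≤ F.autGroup (im P f₀) := by
    intro β hβ
    obtain ⟨-, g, hg, hag, -⟩ := (mor_R' hd h₁ R' hR').1 ((mem_autGroup hP'1).1 hβ)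
    exact (mem_autGroup (hP'1.trans hd.1)).2 ((hg.restrict_to le_sup_left).congr hag)
  refine ⟨im P f₀, FusionSysBasic.isConj_iff.2 ⟨f₀, hf₀, rfl⟩, ⟨hP'1, ?_⟩, receptive_iff.2 ⟨hP'1, ?_⟩⟩
  · obtain ⟨T, hT⟩ := (fullyAutomized_of_fullyNormalized hS hF hfn).2
    rw [autInducedBy_eq hd hP'1] at hT
    have hle : (T : Subgroup (F.autGroup (im P f₀))) ≤
        (R'.autGroup (im P f₀)).subgroupOf (F.autGroup (im P f₀)) :=
      hT ▸ fun x hx => autInducedBy_le hP'1 hx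
    have hsyl : SylIn p (Cfsg.autInducedBy S₁ (im P f₀)) (R'.autGroup (im P f₀)) := by
      haveI := finite_of_le hd.1
      haveI := finite_of_le (hP'1.trans hd.1)
      haveI := finite_autGroup (F := F) (im P f₀)
      rw [sylIn_iff_card (autInducedBy_le hP'1)]
      refine le_antisymm (FusionSysGroup.card_le_pow_factorization
        ((isPGroup_autInducedBy (hS.to_le hd.1) _)) (autInducedBy_le hP'1)) ?_
      rw [(sylIn_iff_card ((autInducedBy_mono hd.1 _).trans (autInducedBy_le (hP'1.trans hd.1)))).1 ⟨T, hT⟩]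
      exact Nat.pow_le_pow_right (Fact.out : p.Prime).pos
        ((Nat.factorization_le_iff_dvd Nat.card_pos.ne' Nat.card_pos.ne').2
          (Subgroup.card_dvd_of_le hsub) p)
    exact hsyl
  · intro P₁ g N hg himg hNS hNn hN
    obtain ⟨hP₁, g', hg', hag, hfix⟩ := (mor_R' hd h₁ R' hR').1 hg
    have himg' : im (P₁ ⊔ S₂) g' = im P f₀ ⊔ S₂ := by
      rw [FusionSysNormal.im_sup hg', im_S2 h₂ hg', im_congr hag, himg]
    obtain ⟨k, hk, hkag⟩ := (receptive_iff.1 (receptive_of_fullyNormalized hS hF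
      (fullyNormalized_sup hd h₁ h₂ hP'1 hfn))).2 (P₁ ⊔ S₂) g' N hg' himg' (hNS.trans hd.1)
      (fun n hn => mem_normalizer_of_cj_le (sup_le (hP₁.trans hd.1) hd.2.1) fun y hy => by
        obtain ⟨u, hu, w, hw, rfl⟩ := exists_mul hd hP₁ hy
        rw [show cj n (u * w) = cj n u * cj n w by simp [cj_apply, mul_assoc],
          cj_fix hd (hNS hn) hw]
        exact Subgroup.mul_mem _ (Subgroup.mem_sup_left (cj_mem_of_normalizer (hNn hn) hu))
          (Subgroup.mem_sup_right hw))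
      (fun n hn => by
        obtain ⟨h, hh, hhe⟩ := hN n hn
        refine ⟨h, hd.1 hh, fun y hy => ?_⟩
        obtain ⟨u, hu, w, hw, rfl⟩ := exists_mul hd hP₁ hy
        have hcu := cj_mem_of_normalizer (hNn hn) hu
        rw [show cj n (u * w) = cj n u * cj n w by simp [cj_apply, mul_assoc],
          cj_fix hd (hNS hn) hw, hg'.map_mul (Subgroup.mem_sup_left hcu) (Subgroup.mem_sup_right hw),
          hg'.map_mul (Subgroup.mem_sup_left hu) (Subgroup.mem_sup_right hw), hag _ hcu, hhe u hu,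
          hfix w hw, hag u hu,
          show cj h (g u * w) = cj h (g u) * cj h w by simp [cj_apply, mul_assoc],
          cj_fix hd hh hw])
    refine ⟨k, (mor_R' hd h₁ R' hR').2 ⟨sup_le hP₁ hNS, k, hk.restrict_to ?_, fun _ _ => rfl,
      fun w hw => ?_⟩, fun x hx => ?_⟩
    · exact sup_le (sup_le (le_sup_left.trans le_sup_left) le_sup_right) (le_sup_right.trans le_sup_left)
    · rw [hkag w (Subgroup.mem_sup_right hw), hfix w hw]
    · rw [hkag x (Subgroup.mem_sup_left hx), hag x hx]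

end

/-- Let F be a saturated fusion system over a finite p-group S that is the direct product of two subgroups S₁ and S₂, each strongly closed in F. Let R be the full subsystem of F over S₁ (all maps of F between subgroups of S₁) and R′ the subsystem over S₁ of those maps that extend to the subgroup generated with S₂ fixing S₂ elementwise. Then R and R′ are saturated, R′ is normal in F and in R, and R is weakly normal in F. -/
theorem result {Ω : Type*} [Group Ω] {S : Subgroup Ω} [Finite S] (p : ℕ) [Fact p.Prime] (hS : IsPGroup p S) (F : Cfsg.FusionSystem S) (hF : F.IsSaturated p) (S₁ S₂ : Subgroup Ω) (hprod : Cfsg.IsInternalDirectProduct S₁ S₂ S) (h₁ : F.StronglyClosed S₁) (h₂ : F.StronglyClosed S₂) (R R' : Cfsg.FusionSystem S₁) (hR : ∀ P : Subgroup Ω, P ≤ S₁ → R.Hom P = F.Hom P) (hR' : ∀ P : Subgroup Ω, P ≤ S₁ → R'.Hom P = F.centralizerHom S₂ P) : R.IsSaturated p ∧ R'.IsSaturated p ∧ R'.IsNormalIn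 F p ∧ R'.IsNormalIn R p ∧ R.IsWeaklyNormalIn F p := by
  open Cfsg.FusionSystem Cfsg.Agent.FusionSysBasic Cfsg.Agent.FusionKit88 in
  haveI : Finite S₁ := finite_of_le hprod.1
  have hsatR := saturated_R hS hF hprod h₁ R hR
  have hsatR' := saturated_R' hS hF hprod h₁ h₂ R' hR'
  have hRF : R.IsSubsystemOf F := fun P φ hφ => hR P (R.le_of_mem hφ).1 ▸ hφ
  have hR'F : R'.IsSubsystemOf F := fun P φ hφ => (hR' P (R'.le_of_mem hφ).1 ▸ hφ).1
  have hR'R : R'.IsSubsystemOf R := fun P φ hφ => (hR P (R'.le_of_mem hφ).1).symm ▸ hR'F P hφ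
  have hclR : R.StronglyClosed S₁ := ⟨le_rfl, fun P _ φ hφ x => (R.le_of_mem hφ).2 x⟩
  have hautRF : R.autGroup S₁ ≤ F.autGroup S₁ := fun α hα =>
    (mem_autGroup hprod.1).2 ((mor_R h₁ R hR).1 ((mem_autGroup le_rfl).1 hα)).2
  have hinvR' : S5119.Inv F R' := inv_R' hS hF hprod h₁ h₂ R' hR'
  have hfr := fun P f (hP : P ≤ S₁) hf => frattini hS hF hprod h₁ h₂ R' hR' (P := P) (f := f) hP hf
  have hext : ∀ α ∈ R'.autGroup S₁, ∃ f', Mor F (S₁ ⊔ S₂) f' ∧ (∀ x ∈ S₁, f' x = afun α x) ∧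
      ∀ w ∈ S₂, f' w = w :=
    fun α hα => ((mor_R' hprod h₁ R' hR').1 ((mem_autGroup le_rfl).1 hα)).2
  refine ⟨hsatR, hsatR', ⟨⟨hsatR', hF, invariant_of hR'F h₁ hinvR' hfr⟩, fun α hα => ?_⟩,
    ⟨⟨hsatR', hsatR, invariant_of hR'R hclR (fun P f hf a ha => hinvR' P f hf a (hautRF ha))
      fun P f hP hf => ?_⟩, fun α hα => ?_⟩, ⟨hsatR, hF, invariant_of hRF h₁ ?_ ?_⟩⟩
  · obtain ⟨f', hf', hag, hfix⟩ := hext α hα
    have hsup : S₁ ⊔ centralizerIn S S₁ = S₁ ⊔ S₂ := by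
      rw [hprod.2.2.2.2]
      refine le_antisymm (sup_le hprod.1 inf_le_left) ?_
      conv_lhs => rw [← hprod.2.2.2.2]
      exact sup_le_sup_left (le_centralizerIn hprod le_rfl) _
    have hf'' : Mor F (S₁ ⊔ centralizerIn S S₁) f' := hsup.symm ▸ hf'
    obtain ⟨β, hβ, hβe⟩ := hf''.exists_aut (hf''.im_self fun x hx => by
      rw [hsup, hprod.2.2.2.2]; exact hf''.apply_mem hx)
    refine ⟨β, hβ, fun x => ?_, fun c hc => ?_⟩
    · rw [← afun_coe β, ← afun_coe α]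
      exact (hβe _ (Subgroup.mem_sup_left x.2)).trans (hag x x.2)
    · rw [← afun_coe β, hβe _ c.2]
      obtain ⟨u, hu, w, hw, huw⟩ := exists_mul hprod le_rfl (hsup ▸ c.2 : (c : Ω) ∈ S₁ ⊔ S₂)
      rw [← huw, hf'.map_mul (Subgroup.mem_sup_left hu) (Subgroup.mem_sup_right hw), hfix w hw,
        hag u hu]
      have huz : ∀ y ∈ S₁, y * u = u * y := fun y hy => by
        have h2 : y * (u * w) = u * w * y := huw ▸ Subgroup.mem_centralizer_iff.1 hc.2 y hy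
        rw [mul_assoc u w y, ← hprod.2.2.1 y hy w hw, ← mul_assoc, ← mul_assoc] at h2
        exact mul_right_cancel h2
      have hmem : u⁻¹ * afun α u ∈ S₁ := S₁.mul_mem (S₁.inv_mem hu) (afun_mem α hu)
      have he : (u * w)⁻¹ * (afun α u * w) = u⁻¹ * afun α u := by
        calc (u * w)⁻¹ * (afun α u * w) = w⁻¹ * (u⁻¹ * afun α u * w) := by group
          _ = _ := by rw [hprod.2.2.1 _ hmem w hw, inv_mul_cancel_left]
      rw [he]
      refine ⟨hmem, Subgroup.mul_mem _ (Subgroup.inv_mem _ ?_) ?_⟩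
      · exact Subgroup.mem_centralizer_iff.2 huz
      · refine Subgroup.mem_centralizer_iff.2 fun y hy => ?_
        have h1 := congrArg (afun α) (huz _ (afun_mem α⁻¹ hy))
        rw [FusionSysNormal.afun_map_mul α (afun_mem _ hy) hu,
          FusionSysNormal.afun_map_mul α hu (afun_mem _ hy), afun_apply_inv α hy] at h1
        exact h1
  · obtain ⟨a, ha, g₀, hg₀, e⟩ := hfr P f hP ((mor_R h₁ R hR).1 hf).2
    exact ⟨a, (mem_autGroup le_rfl).2 ((mor_R h₁ R hR).2 ⟨le_rfl, (mem_autGroup hprod.1).1 ha⟩),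
      g₀, hg₀, e⟩
  · have hm : Mor R (S₁ ⊔ centralizerIn S₁ S₁) (afun α) :=
      sub_mor hR'R (sup_eq_left.2 (inf_le_left : centralizerIn S₁ S₁ ≤ S₁) |>.symm ▸
        (mem_autGroup le_rfl).1 hα)
    obtain ⟨β, hβ, hβe⟩ := hm.exists_aut (hm.im_self fun x hx =>
      Subgroup.mem_sup_left (hm.apply_mem hx))
    refine ⟨β, hβ, fun x => ?_, fun c hc => ?_⟩
    · rw [← afun_coe β, ← afun_coe α]
      exact hβe _ (Subgroup.mem_sup_left x.2)
    · rw [← afun_coe β, hβe _ c.2]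
      refine ⟨S₁.mul_mem (S₁.inv_mem hc.1) (afun_mem α hc.1),
        Subgroup.mul_mem _ (Subgroup.inv_mem _ hc.2) ?_⟩
      refine Subgroup.mem_centralizer_iff.2 fun y hy => ?_
      have h1 := congrArg (afun α) (Subgroup.mem_centralizer_iff.1 hc.2 _ (afun_mem α⁻¹ hy))
      rw [FusionSysNormal.afun_map_mul α (afun_mem _ hy) hc.1,
        FusionSysNormal.afun_map_mul α hc.1 (afun_mem _ hy), afun_apply_inv α hy] at h1
      exact h1
  · intro P f hf a ha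
    obtain ⟨hP, hfF⟩ := (mor_R h₁ R hR).1 hf
    have haF := (mem_autGroup hprod.1).1 ha
    obtain ⟨r, hr, hrf, -, hrP⟩ := (haF.restrict_to hP).exists_inv
    refine ⟨afun a ∘ f ∘ r, (mor_R h₁ R hR).2 ⟨im_le_iff.2 fun x hx => afun_mem a (hP hx),
      (hr.comp hfF hrP).comp haF fun x hx => closed_apply h₁ hfF hP (hrP x hx)⟩, fun x hx => ?_⟩
    show afun a (f (r (afun a x))) = _
    rw [hrf x hx]
  · intro P f hP hf
    exact S5119.good_of_E ((mor_R h₁ R hR).2 ⟨hP, hf⟩)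

end Cfsg.Agent.S5130
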