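import Mathlib
import Cfsg.Statements.S5135
import Cfsg.Agent.Lib.FusionSysSaturated
import Cfsg.Agent.Lib.SylowCount

set_option autoImplicit false
open Cfsg

namespace Cfsg.Agent.S5135

/-- Let G be a finite group, S a Sylow p-subgroup and H a normal subgroup of G. Then the fusion system of G/H on the image SH/H of S is the factor system of the fusion system of G on S modulo S ∩ H, read through the quotient map restricted to S: for each subgroup P' of SH/H, the conjugation maps by elements of G/H defined on P' with values in SH/H are exactly the homomorphisms induced by the conjugation maps by elements of G defined on the full preimage of P' in S with values in S. -/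
theorem result {G : Type*} [Group G] [Finite G] (p : ℕ) [Fact p.Prime] (S : Sylow p G) (H : Subgroup G) [H.Normal] : (Cfsg.groupFusionSystem (S : Subgroup G)).IsFactorSystem ((S : Subgroup G) ⊓ H) ((QuotientGroup.mk' H).comp (S : Subgroup G).subtype) (Cfsg.groupFusionSystem ((S : Subgroup G).map (QuotientGroup.mk' H))) := by
  classical
  open Cfsg.FusionSystem Cfsg.Agent.FusionSysSaturated in
  refine ⟨inf_le_left, fun s => ?_, ?_, fun P' φ' => ?_⟩
  · show QuotientGroup.mk' H (s : G) = 1 ↔ _
    rw [← MonoidHom.mem_ker, QuotientGroup.ker_mk', Subgroup.mem_inf, and_iff_right s.2]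
  · rw [MonoidHom.range_comp, Subgroup.range_subtype]
  set π := QuotientGroup.mk' H with hπ
  set θ := π.comp (S : Subgroup G).subtype with hθ
  set P : Subgroup G := Cfsg.FusionSystem.preimageAlong θ P' with hPdef
  have hPS : P ≤ (S : Subgroup G) := by
    rintro _ ⟨a, -, rfl⟩; exact a.2
  have hPmem : ∀ x ∈ P, π x ∈ P' := by
    rintro _ ⟨a, ha, rfl⟩; exact ha
  constructor
  · rintro ⟨hP', hS', gb, hg⟩
    obtain ⟨g, rfl⟩ := QuotientGroup.mk'_surjective H gb
    refine ⟨hP', ?_⟩
    set M : Subgroup G := φ'.range.comap π with hM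
    have hHM : H ≤ M := fun h hh => by
      show π h ∈ φ'.range
      rw [show π h = 1 from (QuotientGroup.eq_one_iff h).2 hh]; exact one_mem _
    set R : Subgroup G := (S : Subgroup G) ⊓ M with hR
    have hMR : M ≤ R ⊔ H := by
      intro y hy
      obtain ⟨x, hx⟩ := hy
      obtain ⟨s, hs, hsy⟩ : π y ∈ (S : Subgroup G).map π := by rw [← hx]; exact hS' x
      have h1 : s⁻¹ * y ∈ H := (QuotientGroup.eq).1 hsy
      have hsM : s ∈ M := ⟨x, hx.trans hsy.symm⟩
      have := mul_mem (Subgroup.mem_sup_left ⟨hs, hsM⟩ : s ∈ R ⊔ H) (Subgroup.mem_sup_right h1)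
      rwa [mul_inv_cancel_left] at this
    have hsyl : SylIn p R M := by
      have hndvd : ¬ p ∣ (R.subgroupOf M).index := by
        have e1 : R.relIndex M = ((S : Subgroup G) ⊓ H).relIndex H := by
          rw [show M = R ⊔ H from le_antisymm hMR (sup_le inf_le_right hHM),
            ← SylowCount.relIndex_eq_sup, ← Subgroup.inf_relIndex_right R H,
            show R ⊓ H = (S : Subgroup G) ⊓ H by rw [hR, inf_assoc, inf_eq_right.2 hHM]]
        show ¬ p ∣ R.relIndex M
        rw [e1]
        exact SylowCount.inf_normal_not_dvd S H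
      exact ⟨IsPGroup.toSylow ((S.2.to_le inf_le_left).of_equiv
        (Subgroup.subgroupOfEquivOfLe inf_le_right).symm) hndvd, rfl⟩
    set D : Subgroup G := P.map (MulAut.conj g).toMonoidHom with hD
    have hDM : D ≤ M := by
      rintro _ ⟨x, hx, rfl⟩
      refine ⟨⟨π x, hPmem x hx⟩, ?_⟩
      rw [hg]
      show π g * π x * (π g)⁻¹ = π (g * x * g⁻¹)
      rw [map_mul, map_mul, map_inv]
    obtain ⟨a, ha, haD⟩ := sylIn_absorb hsyl (K := D) ((S.2.to_le hPS).map _) hDM
    obtain ⟨s, hs, m, hm, rfl⟩ := Subgroup.mem_sup_of_normal_right.1 (hMR ha)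
    have hmem : ∀ x ∈ P, (m * g) * x * (m * g)⁻¹ ∈ (S : Subgroup G) := fun x hx => by
      have h1 := (haD _ ⟨x, hx, rfl⟩).1
      have h2 := (S : Subgroup G).mul_mem ((S : Subgroup G).mul_mem ((S : Subgroup G).inv_mem hs.1) h1) hs.1
      simpa [MulAut.conj_apply, mul_assoc] using h2
    refine ⟨Cfsg.conjHom P (m * g), ⟨hPS, fun x => hmem x x.2, m * g, fun x => rfl⟩,
      hPS, fun x => hmem x x.2, fun x => hPmem x x.2, fun x => ?_⟩
    rw [hg]
    show π g * π x * (π g)⁻¹ = π ((m * g) * x * (m * g)⁻¹)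
    have : π m = 1 := (QuotientGroup.eq_one_iff m).2 hm
    rw [map_mul, map_mul, map_inv, map_mul, this, one_mul]
  · rintro ⟨hP', φ, ⟨-, -, g, hg⟩, hP, hφS, hP'', he⟩
    have key : ∀ y : P', ∃ x : P, (⟨θ ⟨x, hP x.2⟩, hP'' x⟩ : P') = y := by
      rintro ⟨y, hy⟩
      obtain ⟨s, hs, e⟩ := hP' hy
      have hsP : s ∈ P := ⟨⟨s, hs⟩, show π s ∈ P' from e ▸ hy, rfl⟩
      exact ⟨⟨s, hsP⟩, Subtype.ext e⟩
    refine ⟨hP', fun y => ?_, π g, fun y => ?_⟩
    · obtain ⟨x, rfl⟩ := key y
      rw [he x]
      exact ⟨φ x, hφS x, rfl⟩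
    · obtain ⟨x, rfl⟩ := key y
      rw [he x]
      show π (φ x) = π g * π x * (π g)⁻¹
      rw [hg, map_mul, map_mul, map_inv]

end Cfsg.Agent.S5135
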