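import Mathlib
import Cfsg.Statements.S5137
import Cfsg.Agent.Lib.FusionSysSaturated
import Cfsg.Agent.Lib.FusionSysGroup

set_option autoImplicit false
open Cfsg

namespace Cfsg.Agent.S5137

section
open Cfsg.FusionSystem Cfsg.Agent.FusionSysBasic Cfsg.Agent.FusionSysSaturated

variable {Ω₁ Ω₂ : Type*} [Group Ω₁] [Group Ω₂] {S₁ : Subgroup Ω₁} {S₂ : Subgroup Ω₂}
  {F₁ : Cfsg.FusionSystem S₁} {F₂ : Cfsg.FusionSystem S₂} {E : Cfsg.FusionSystem (S₁.prod S₂)}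
  (hE : Cfsg.FusionSystem.IsProductSystem F₁ F₂ E)

/-- First projection of a subgroup. -/
abbrev P₁ (P : Subgroup (Ω₁ × Ω₂)) : Subgroup Ω₁ := P.map (MonoidHom.fst Ω₁ Ω₂)
/-- Second projection of a subgroup. -/
abbrev P₂ (P : Subgroup (Ω₁ × Ω₂)) : Subgroup Ω₂ := P.map (MonoidHom.snd Ω₁ Ω₂)

theorem fst_mem {P : Subgroup (Ω₁ × Ω₂)} {x : Ω₁ × Ω₂} (h : x ∈ P) : x.1 ∈ P₁ P := ⟨x, h, rfl⟩
theorem snd_mem {P : Subgroup (Ω₁ × Ω₂)} {x : Ω₁ × Ω₂} (h : x ∈ P) : x.2 ∈ P₂ P := ⟨x, h, rfl⟩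

include hE in
theorem mor_prod {P : Subgroup (Ω₁ × Ω₂)} {f : Ω₁ × Ω₂ → Ω₁ × Ω₂} :
    Mor E P f ↔ P ≤ S₁.prod S₂ ∧ ∃ f₁ f₂, Mor F₁ (P₁ P) f₁ ∧ Mor F₂ (P₂ P) f₂ ∧
      ∀ x ∈ P, f x = (f₁ x.1, f₂ x.2) := by
  constructor
  · rintro ⟨φ, hφ, he⟩
    obtain ⟨hP, φ₁, h₁, φ₂, h₂, e⟩ := (hE P φ).1 hφ
    refine ⟨hP, toFun φ₁, toFun φ₂, mor_toFun h₁, mor_toFun h₂, fun x hx => ?_⟩
    rw [← he ⟨x, hx⟩, e ⟨x, hx⟩ (fst_mem hx) (snd_mem hx), toFun_apply φ₁ (fst_mem hx),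
      toFun_apply φ₂ (snd_mem hx)]
  · rintro ⟨hP, f₁, f₂, ⟨φ₁, h₁, e₁⟩, ⟨φ₂, h₂, e₂⟩, e⟩
    let φ : P →* Ω₁ × Ω₂ := MonoidHom.prod
      (φ₁.comp ((MonoidHom.fst Ω₁ Ω₂).subgroupMap P)) (φ₂.comp ((MonoidHom.snd Ω₁ Ω₂).subgroupMap P))
    refine ⟨φ, (hE P φ).2 ⟨hP, φ₁, h₁, φ₂, h₂, fun x _ _ => rfl⟩, fun x => ?_⟩
    rw [e x x.2, ← e₁ ⟨_, fst_mem x.2⟩, ← e₂ ⟨_, snd_mem x.2⟩]
    rfl

/-- The coordinatewise action of a pair of automorphisms. -/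
noncomputable def act {Q₁ : Subgroup Ω₁} {Q₂ : Subgroup Ω₂} (a : MulAut Q₁ × MulAut Q₂)
    (x : Ω₁ × Ω₂) : Ω₁ × Ω₂ := (afun a.1 x.1, afun a.2 x.2)

theorem act_mul {Q₁ : Subgroup Ω₁} {Q₂ : Subgroup Ω₂} (a b : MulAut Q₁ × MulAut Q₂)
    {x : Ω₁ × Ω₂} (h₁ : x.1 ∈ Q₁) (h₂ : x.2 ∈ Q₂) : act (a * b) x = act a (act b x) := by
  simp only [act, Prod.fst_mul, Prod.snd_mul, afun_mul _ _ h₁, afun_mul _ _ h₂]

/-- Pairs of automorphisms stabilizing `P`. -/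
noncomputable def stab (F₁ : Cfsg.FusionSystem S₁) (F₂ : Cfsg.FusionSystem S₂) (Q₁ : Subgroup Ω₁)
    (Q₂ : Subgroup Ω₂) [Finite Q₁] [Finite Q₂] {P : Subgroup (Ω₁ × Ω₂)} (hP : P ≤ Q₁.prod Q₂) :
    Subgroup (MulAut Q₁ × MulAut Q₂) where
  carrier := {a | (a ∈ (F₁.autGroup Q₁).prod (F₂.autGroup Q₂)) ∧ ∀ x ∈ P, act a x ∈ P}
  one_mem' := ⟨one_mem _, fun x hx => by
    simpa [act, afun_one (hP hx).1, afun_one (hP hx).2] using hx⟩
  mul_mem' {a b} := fun ha hb => ⟨mul_mem ha.1 hb.1, fun x hx => by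
    rw [act_mul a b (hP hx).1 (hP hx).2]; exact ha.2 _ (hb.2 x hx)⟩
  inv_mem' {a} := fun ha => by
    have hpow : ∀ n : ℕ, a ^ n ∈ (F₁.autGroup Q₁).prod (F₂.autGroup Q₂) ∧
        ∀ x ∈ P, act (a ^ n) x ∈ P := by
      intro n
      induction n with
      | zero =>
        exact ⟨one_mem _, fun x hx => by
          simpa [act, afun_one (hP hx).1, afun_one (hP hx).2] using hx⟩
      | succ n ih =>
        refine ⟨pow_mem ha.1 _, fun x hx => ?_⟩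
        rw [pow_succ, act_mul _ _ (hP hx).1 (hP hx).2]
        exact ih.2 _ (ha.2 x hx)
    have e : a⁻¹ = a ^ (orderOf a - 1) := inv_eq_of_mul_eq_one_right (by
      rw [← pow_succ', Nat.sub_add_cancel (orderOf_pos a), pow_orderOf_eq_one])
    exact e ▸ hpow _

include hE in
theorem act_mor {Q₁ : Subgroup Ω₁} {Q₂ : Subgroup Ω₂} {P : Subgroup (Ω₁ × Ω₂)}
    (hP : P ≤ Q₁.prod Q₂) (hQ₁ : Q₁ ≤ S₁) (hQ₂ : Q₂ ≤ S₂) {a : MulAut Q₁ × MulAut Q₂}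
    (ha : a ∈ (F₁.autGroup Q₁).prod (F₂.autGroup Q₂)) : Mor E P (act a) :=
  (mor_prod hE).2 ⟨hP.trans (Subgroup.prod_mono hQ₁ hQ₂), afun a.1, afun a.2,
    ((mem_autGroup hQ₁).1 ha.1).restrict_to (by rintro _ ⟨x, hx, rfl⟩; exact (hP hx).1),
    ((mem_autGroup hQ₂).1 ha.2).restrict_to (by rintro _ ⟨x, hx, rfl⟩; exact (hP hx).2),
    fun _ _ => rfl⟩

include hE in
theorem proj_im {P : Subgroup (Ω₁ × Ω₂)} {f : Ω₁ × Ω₂ → Ω₁ × Ω₂} {f₁ : Ω₁ → Ω₁} {f₂ : Ω₂ → Ω₂}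
    (hf : Mor E P f) (h₁ : Mor F₁ (P₁ P) f₁) (h₂ : Mor F₂ (P₂ P) f₂)
    (e : ∀ x ∈ P, f x = (f₁ x.1, f₂ x.2)) :
    P₁ (im P f) = im (P₁ P) f₁ ∧ P₂ (im P f) = im (P₂ P) f₂ := by
  constructor
  · apply le_antisymm
    · rintro _ ⟨y, hy, rfl⟩
      obtain ⟨x, hx, rfl⟩ := hf.mem_im.1 hy
      rw [e x hx]; exact apply_mem_im (fst_mem hx)
    · rw [im_le_iff]
      rintro _ ⟨x, hx, rfl⟩
      exact ⟨f x, apply_mem_im hx, congrArg Prod.fst (e x hx)⟩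
  · apply le_antisymm
    · rintro _ ⟨y, hy, rfl⟩
      obtain ⟨x, hx, rfl⟩ := hf.mem_im.1 hy
      rw [e x hx]; exact apply_mem_im (snd_mem hx)
    · rw [im_le_iff]
      rintro _ ⟨x, hx, rfl⟩
      exact ⟨f x, apply_mem_im hx, congrArg Prod.snd (e x hx)⟩

variable [Finite S₁] [Finite S₂] {p : ℕ} [Fact p.Prime]

include hE in
theorem saturated_prod (h₁ : IsPGroup p S₁) (h₂ : IsPGroup p S₂) (hF₁ : F₁.IsSaturated p)
    (hF₂ : F₂.IsSaturated p) : E.IsSaturated p := by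
  haveI : Finite ↥(S₁.prod S₂) := Finite.of_equiv _ (Subgroup.prodEquiv S₁ S₂).symm.toEquiv
  intro P hP
  have hP₁ : P₁ P ≤ S₁ := by rintro _ ⟨x, hx, rfl⟩; exact (hP hx).1
  have hP₂ : P₂ P ≤ S₂ := by rintro _ ⟨x, hx, rfl⟩; exact (hP hx).2
  obtain ⟨Q₁, hPQ₁, hQ₁⟩ := exists_fullyNormalized (F := F₁) hP₁
  obtain ⟨Q₂, hPQ₂, hQ₂⟩ := exists_fullyNormalized (F := F₂) hP₂
  obtain ⟨g₁, hg₁, him₁⟩ := FusionSysBasic.isConj_iff.1 hPQ₁
  obtain ⟨g₂, hg₂, him₂⟩ := FusionSysBasic.isConj_iff.1 hPQ₂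
  haveI := finite_of_le hQ₁.1
  haveI := finite_of_le hQ₂.1
  have hg : Mor E P (fun x => (g₁ x.1, g₂ x.2)) :=
    (mor_prod hE).2 ⟨hP, g₁, g₂, hg₁, hg₂, fun _ _ => rfl⟩
  set P' := im P (fun x => (g₁ x.1, g₂ x.2)) with hP'
  have hP'Q : P' ≤ Q₁.prod Q₂ := im_le_iff.2 fun x hx =>
    ⟨him₁ ▸ apply_mem_im (fst_mem hx), him₂ ▸ apply_mem_im (snd_mem hx)⟩
  set A : Subgroup (MulAut Q₁ × MulAut Q₂) := (F₁.autGroup Q₁).prod (F₂.autGroup Q₂) with hA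
  set B : Subgroup (MulAut Q₁ × MulAut Q₂) :=
    (Cfsg.autInducedBy S₁ Q₁).prod (Cfsg.autInducedBy S₂ Q₂) with hB
  haveI := finite_autGroup (F := F₁) Q₁
  haveI := finite_autGroup (F := F₂) Q₂
  have hBA : B ≤ A := Subgroup.prod_mono (autInducedBy_le hQ₁.1) (autInducedBy_le hQ₂.1)
  have hBp : IsPGroup p B := by
    intro ⟨x, hx⟩
    obtain ⟨k, hk⟩ := isPGroup_autInducedBy h₁ Q₁ ⟨x.1, hx.1⟩
    obtain ⟨l, hl⟩ := isPGroup_autInducedBy h₂ Q₂ ⟨x.2, hx.2⟩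
    refine ⟨k + l, Subtype.ext (Prod.ext ?_ ?_)⟩
    · show x.1 ^ p ^ (k + l) = 1
      have := congrArg Subtype.val hk
      rw [pow_add, pow_mul, show x.1 ^ p ^ k = 1 from this, one_pow]
    · show x.2 ^ p ^ (k + l) = 1
      have := congrArg Subtype.val hl
      rw [add_comm, pow_add, pow_mul, show x.2 ^ p ^ l = 1 from this, one_pow]
  have hsyl : SylIn p B A := by
    haveI : Finite A := Finite.of_equiv _ (Subgroup.prodEquiv _ _).symm.toEquiv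
    rw [sylIn_iff_card hBA, hB, hA, Nat.card_congr (Subgroup.prodEquiv _ _).toEquiv,
      Nat.card_congr (Subgroup.prodEquiv (F₁.autGroup Q₁) (F₂.autGroup Q₂)).toEquiv, Nat.card_prod,
      Nat.card_prod,
      (sylIn_iff_card (autInducedBy_le hQ₁.1)).1 (fullyAutomized_of_fullyNormalized h₁ hF₁ hQ₁).2,
      (sylIn_iff_card (autInducedBy_le hQ₂.1)).1 (fullyAutomized_of_fullyNormalized h₂ hF₂ hQ₂).2,
      Nat.factorization_mul Nat.card_pos.ne' Nat.card_pos.ne', ← pow_add]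
    rfl
  set W := stab F₁ F₂ Q₁ Q₂ hP'Q with hW
  haveI : Finite A := Finite.of_equiv _ (Subgroup.prodEquiv _ _).symm.toEquiv
  obtain ⟨U⟩ : Nonempty (Sylow p W) := inferInstance
  obtain ⟨a, ha, haU⟩ := sylIn_absorb hsyl (K := (U : Subgroup W).map W.subtype) (U.isPGroup'.map _)
    (by rintro _ ⟨u, -, rfl⟩; exact u.2.1)
  have haM : Mor E P' (act a) := act_mor hE hP'Q hQ₁.1 hQ₂.1 ha
  set P'' := im P' (act a) with hP''
  have hP''Q : P'' ≤ Q₁.prod Q₂ := im_le_iff.2 fun x hx =>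
    ⟨afun_mem _ (hP'Q hx).1, afun_mem _ (hP'Q hx).2⟩
  have hP''S : P'' ≤ S₁.prod S₂ := haM.im_le
  have hproj : P₁ P'' = Q₁ ∧ P₂ P'' = Q₂ := by
    have h0 := proj_im hE hg hg₁ hg₂ fun _ _ => rfl
    have e1 : P₁ P' = Q₁ := h0.1.trans him₁
    have e2 : P₂ P' = Q₂ := h0.2.trans him₂
    have m1 : Mor F₁ (P₁ P') (afun a.1) := e1.symm ▸ (mem_autGroup hQ₁.1).1 ha.1
    have m2 : Mor F₂ (P₂ P') (afun a.2) := e2.symm ▸ (mem_autGroup hQ₂.1).1 ha.2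
    have h3 := proj_im hE haM m1 m2 fun _ _ => rfl
    rw [e1, e2, im_afun, im_afun] at h3
    exact h3
  refine ⟨P'', FusionSysBasic.isConj_iff.2 ⟨_, hg.comp_im haM, (hg.im_comp _).symm⟩,
    ⟨hP''S, ?_⟩, receptive_iff.2 ⟨hP''S, ?_⟩⟩
  · set W' := stab F₁ F₂ Q₁ Q₂ hP''Q with hW'
    haveI := finite_of_le hP''S
    have hval : ∀ w ∈ W', ∃ β ∈ E.autGroup P'', ∀ x ∈ P'', afun β x = act w x := fun w hw =>
      (act_mor hE hP''Q hQ₁.1 hQ₂.1 hw.1).exists_aut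
        ((act_mor hE hP''Q hQ₁.1 hQ₂.1 hw.1).im_self hw.2)
    choose ρ₀ hρA hρ using hval
    let ρ : W' →* E.autGroup P'' := MonoidHom.mk' (fun w => ⟨ρ₀ w w.2, hρA w w.2⟩) fun v w => by
      apply Subtype.ext
      refine afun_ext fun x hx => ?_
      show afun (ρ₀ (v * w : W') _) x = afun (ρ₀ v v.2 * ρ₀ w w.2) x
      rw [hρ _ _ x hx, afun_mul _ _ hx, hρ _ _ x hx, hρ _ _ _ (w.2.2 x hx), Subgroup.coe_mul,
        act_mul _ _ (hP''Q hx).1 (hP''Q hx).2]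
    have hρ' : ∀ (w : W'), ∀ x ∈ P'', afun (ρ w : MulAut P'') x = act (w : MulAut Q₁ × MulAut Q₂) x :=
      fun w x hx => hρ w.1 w.2 x hx
    have hsurj : Function.Surjective ρ := by
      rintro ⟨β, hβ⟩
      obtain ⟨-, f₁, f₂, hf₁, hf₂, e⟩ := (mor_prod hE).1 ((mem_autGroup hP''S).1 hβ)
      obtain ⟨h1, h2⟩ := proj_im hE ((mem_autGroup hP''S).1 hβ) hf₁ hf₂ e
      rw [im_afun] at h1 h2
      rw [hproj.1] at h1 hf₁
      rw [hproj.2] at h2 hf₂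
      obtain ⟨b₁, hb₁, he₁⟩ := hf₁.exists_aut h1.symm
      obtain ⟨b₂, hb₂, he₂⟩ := hf₂.exists_aut h2.symm
      have hact : ∀ x ∈ P'', act (b₁, b₂) x = afun β x := fun x hx => by
        rw [e x hx, act, he₁ _ (hP''Q hx).1, he₂ _ (hP''Q hx).2]
      refine ⟨⟨(b₁, b₂), ⟨hb₁, hb₂⟩, fun x hx => hact x hx ▸ afun_mem β hx⟩, Subtype.ext (afun_ext fun x hx => ?_)⟩
      exact (hρ' _ x hx).trans (hact x hx)
    have hsylW : SylIn p (B ⊓ W') W' := by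
      haveI : Finite W' := Finite.of_injective _ (Subgroup.inclusion_injective (fun w hw => hw.1 : W' ≤ A))
      haveI : Finite W := Finite.of_injective _ (Subgroup.inclusion_injective (fun w hw => hw.1 : W ≤ A))
      have hWW' : W.map (MulAut.conj a).toMonoidHom = W' := by
        ext w
        constructor
        · rintro ⟨v, hv, rfl⟩
          refine ⟨mul_mem (mul_mem ha hv.1) (inv_mem ha), fun x hx => ?_⟩
          obtain ⟨y, hy, rfl⟩ := haM.mem_im.1 hx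
          have h1 := (hP'Q hy).1
          have h2 := (hP'Q hy).2
          show act (a * v * a⁻¹) (act a y) ∈ P''
          rw [← act_mul _ _ h1 h2, inv_mul_cancel_right, act_mul _ _ h1 h2]
          exact apply_mem_im (hv.2 y hy)
        · intro hw
          refine ⟨a⁻¹ * w * a, ⟨mul_mem (mul_mem (inv_mem ha) hw.1) ha, fun x hx => ?_⟩, ?_⟩
          · have h1 := (hP'Q hx).1
            have h2 := (hP'Q hx).2
            obtain ⟨z, hz, ez⟩ := haM.mem_im.1 (hw.2 _ (apply_mem_im hx : act a x ∈ P''))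
            rw [act_mul _ _ h1 h2, act_mul _ _ (afun_mem _ h1) (afun_mem _ h2), ← ez,
              ← act_mul _ _ (hP'Q hz).1 (hP'Q hz).2, inv_mul_cancel]
            simpa [act, afun_one (hP'Q hz).1, afun_one (hP'Q hz).2] using hz
          · show a * (a⁻¹ * w * a) * a⁻¹ = w
            group
      rw [sylIn_iff_card inf_le_right]
      refine le_antisymm (FusionSysGroup.card_le_pow_factorization (hBp.to_le inf_le_left) inf_le_right) ?_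
      have hU' : ((U : Subgroup W).map W.subtype).map (MulAut.conj a).toMonoidHom ≤ B ⊓ W' := by
        rintro _ ⟨u, hu, rfl⟩
        refine ⟨haU u hu, hWW' ▸ ⟨u, ?_, rfl⟩⟩
        obtain ⟨v, -, rfl⟩ := hu
        exact v.2
      refine le_trans (le_of_eq ?_) (Subgroup.card_le_of_le hU')
      rw [Subgroup.card_map_of_injective (MulEquiv.injective _),
        Subgroup.card_map_of_injective Subtype.val_injective, U.card_eq_multiplicity, ← hWW',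
        Subgroup.card_map_of_injective (MulEquiv.injective _)]
    obtain ⟨T, hT⟩ := hsylW
    refine ⟨T.mapSurjective hsurj, ?_⟩
    rw [Sylow.coe_mapSurjective, hT]
    ext β
    constructor
    · rintro ⟨w, hw, rfl⟩
      obtain ⟨s, hs, -, hse⟩ := mem_autInducedBy.1 (hw.1.1 : (w : MulAut Q₁ × MulAut Q₂).1 ∈ Cfsg.autInducedBy S₁ Q₁)
      obtain ⟨t, ht, -, hte⟩ := mem_autInducedBy.1 (hw.1.2 : (w : MulAut Q₁ × MulAut Q₂).2 ∈ Cfsg.autInducedBy S₂ Q₂)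
      have he : ∀ x ∈ P'', afun (ρ w : MulAut P'') x = cj (s, t) x := fun x hx => by
        exact (hρ' w x hx).trans (Prod.ext (hse _ (hP''Q hx).1) (hte _ (hP''Q hx).2))
      exact mem_autInducedBy.2 ⟨(s, t), ⟨hs, ht⟩, mem_normalizer_of_cj_le hP''S fun x hx => he x hx ▸ afun_mem _ hx, he⟩
    · intro hβ
      obtain ⟨⟨s, t⟩, hst, hn, he⟩ := mem_autInducedBy.1 (hβ : (β : MulAut P'') ∈ Cfsg.autInducedBy (S₁.prod S₂) P'')
      have hn1 : s ∈ Subgroup.normalizer (Q₁ : Set Ω₁) := mem_normalizer_of_cj_le hQ₁.1 fun y hy => by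
        rw [← hproj.1] at hy ⊢
        obtain ⟨x, hx, rfl⟩ := hy
        exact ⟨cj (s, t) x, cj_mem_of_normalizer hn hx, rfl⟩
      have hn2 : t ∈ Subgroup.normalizer (Q₂ : Set Ω₂) := mem_normalizer_of_cj_le hQ₂.1 fun y hy => by
        rw [← hproj.2] at hy ⊢
        obtain ⟨x, hx, rfl⟩ := hy
        exact ⟨cj (s, t) x, cj_mem_of_normalizer hn hx, rfl⟩
      have hb1 : nHom S₁ Q₁ ⟨s, hst.1, hn1⟩ ∈ Cfsg.autInducedBy S₁ Q₁ := (autInducedBy_eq_range S₁ Q₁).ge ⟨_, rfl⟩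
      have hb2 : nHom S₂ Q₂ ⟨t, hst.2, hn2⟩ ∈ Cfsg.autInducedBy S₂ Q₂ := (autInducedBy_eq_range S₂ Q₂).ge ⟨_, rfl⟩
      have hact : ∀ x ∈ P'', act (nHom S₁ Q₁ ⟨s, hst.1, hn1⟩, nHom S₂ Q₂ ⟨t, hst.2, hn2⟩) x = cj (s, t) x :=
        fun x hx => by rw [act, afun_nHom _ (hP''Q hx).1, afun_nHom _ (hP''Q hx).2]; rfl
      refine ⟨⟨(nHom S₁ Q₁ ⟨s, hst.1, hn1⟩, nHom S₂ Q₂ ⟨t, hst.2, hn2⟩), ⟨autInducedBy_le hQ₁.1 hb1, autInducedBy_le hQ₂.1 hb2⟩,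
        fun x hx => hact x hx ▸ cj_mem_of_normalizer hn hx⟩, ⟨⟨hb1, hb2⟩, ⟨autInducedBy_le hQ₁.1 hb1, autInducedBy_le hQ₂.1 hb2⟩,
        fun x hx => hact x hx ▸ cj_mem_of_normalizer hn hx⟩, ?_⟩
      refine Subtype.ext (afun_ext fun x hx => ?_)
      exact ((hρ' _ x hx).trans (hact x hx)).trans (he x hx).symm
  · intro R f N hf him hNS hNn hN
    obtain ⟨hRS, f₁, f₂, hf₁, hf₂, e⟩ := (mor_prod hE).1 hf
    obtain ⟨p1, p2⟩ := proj_im hE hf hf₁ hf₂ e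
    rw [him, hproj.1] at p1
    rw [him, hproj.2] at p2
    obtain ⟨k₁, hk₁, a₁⟩ := (receptive_iff.1 (receptive_of_fullyNormalized h₁ hF₁ hQ₁)).2 (P₁ R) f₁
      (P₁ N) hf₁ p1.symm (by rintro _ ⟨n, hn, rfl⟩; exact (hNS hn).1)
      (by
        rintro _ ⟨n, hn, rfl⟩
        refine mem_normalizer_of_cj_le hf₁.le ?_
        rintro _ ⟨x, hx, rfl⟩
        exact ⟨cj n x, cj_mem_of_normalizer (hNn hn) hx, rfl⟩)
      (by
        rintro _ ⟨n, hn, rfl⟩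
        obtain ⟨h, hh, he⟩ := hN n hn
        refine ⟨h.1, hh.1, ?_⟩
        rintro _ ⟨x, hx, rfl⟩
        have := congrArg Prod.fst (he x hx)
        rw [e _ (cj_mem_of_normalizer (hNn hn) hx), cj_apply h (f x), e x hx] at this
        exact this)
    obtain ⟨k₂, hk₂, a₂⟩ := (receptive_iff.1 (receptive_of_fullyNormalized h₂ hF₂ hQ₂)).2 (P₂ R) f₂
      (P₂ N) hf₂ p2.symm (by rintro _ ⟨n, hn, rfl⟩; exact (hNS hn).2)
      (by
        rintro _ ⟨n, hn, rfl⟩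
        refine mem_normalizer_of_cj_le hf₂.le ?_
        rintro _ ⟨x, hx, rfl⟩
        exact ⟨cj n x, cj_mem_of_normalizer (hNn hn) hx, rfl⟩)
      (by
        rintro _ ⟨n, hn, rfl⟩
        obtain ⟨h, hh, he⟩ := hN n hn
        refine ⟨h.2, hh.2, ?_⟩
        rintro _ ⟨x, hx, rfl⟩
        have := congrArg Prod.snd (he x hx)
        rw [e _ (cj_mem_of_normalizer (hNn hn) hx), cj_apply h (f x), e x hx] at this
        exact this)
    refine ⟨fun x => (k₁ x.1, k₂ x.2), (mor_prod hE).2 ⟨sup_le hRS hNS, k₁, k₂,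
      hk₁.restrict_to (Subgroup.map_sup _ _ _).le, hk₂.restrict_to (Subgroup.map_sup _ _ _).le,
      fun _ _ => rfl⟩, fun x hx => ?_⟩
    show (k₁ x.1, k₂ x.2) = f x
    rw [e x hx, a₁ _ (fst_mem hx), a₂ _ (snd_mem hx)]

end

/-- Let F₁ and F₂ be saturated fusion systems over finite p-groups S₁ and S₂. Then their direct product (the fusion system over S₁ × S₂ whose maps are the restrictions of the product maps (φ₁, φ₂)) is saturated. -/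
theorem result {Ω₁ Ω₂ : Type*} [Group Ω₁] [Group Ω₂] {S₁ : Subgroup Ω₁} {S₂ : Subgroup Ω₂} [Finite S₁] [Finite S₂] (p : ℕ) [Fact p.Prime] (h₁ : IsPGroup p S₁) (h₂ : IsPGroup p S₂) (F₁ : Cfsg.FusionSystem S₁) (F₂ : Cfsg.FusionSystem S₂) (hF₁ : F₁.IsSaturated p) (hF₂ : F₂.IsSaturated p) (E : Cfsg.FusionSystem (S₁.prod S₂)) (hE : Cfsg.FusionSystem.IsProductSystem F₁ F₂ E) : E.IsSaturated p := by
  exact saturated_prod hE h₁ h₂ hF₁ hF₂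

end Cfsg.Agent.S5137
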