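import Cfsg.Statements.S5138
import Cfsg.Agent.Lib.FusionCPNormal
import Cfsg.Agent.Lib.FusionCompNormal
import Cfsg.Agent.Lib.FusionCentralizerOfNormal

set_option autoImplicit false
open Cfsg Cfsg.FusionSystem Cfsg.Agent.FusionSysBasic Cfsg.Agent.FusionSysNormal
open Cfsg.Agent.FusionKit88

namespace Cfsg.Agent.S5138

theorem valid_of_fix {Ω : Type*} [Group Ω] {S T X : Subgroup Ω} [Finite S] {p : ℕ} [Fact p.Prime]
    (hS : IsPGroup p S) {F : FusionSystem S} (hF : F.IsSaturated p) {M : FusionSystem T}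
    (hM : M.IsNormalIn F p) (hX : F.StronglyClosed X) (hc : ∀ t ∈ T, ∀ x ∈ X, t * x = x * t)
    (hfix : ∀ {P : Subgroup Ω} {f : Ω → Ω}, Mor M P f → ∀ x ∈ P, x ∈ X → f x = x) :
    FusionCentralizerSub.Valid F M X := by
  refine ⟨fun x hx => mem_centralizerIn.2 ⟨hX.1 hx, fun t ht => ?_⟩, fun P f hf => ?_⟩
  · rw [cj_apply, ← hc t ht x hx, mul_inv_cancel_right]
  obtain ⟨-, ψ, hψ, hψe, m, hm, hψX⟩ := FusionCompNormal.moves_in_centralizer hS hF hM hX hfix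
    (fun j hj x hx => hc x hx j hj.2) hf
  exact ⟨ψ, hψ, hψe, fun x hx => by rw [hψX x hx, cj_apply, hc m hm x hx, mul_inv_cancel_right]⟩

theorem fix_of_le_center {Ω : Type*} [Group Ω] {T : Subgroup Ω} [Finite T] {M : FusionSystem T}
    {J P : Subgroup Ω} (hJ : J ≤ M.center) {f : Ω → Ω} (hf : Mor M P f) {x : Ω} (hx : x ∈ P)
    (hxJ : x ∈ J) : f x = x := by
  obtain ⟨f', -, hfe, hfQ⟩ := (isCentral_iff.1 center_isCentral).2 P f hf
  rw [← hfe x hx, hfQ x (hJ hxJ)]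

/-- Let F be a saturated fusion system over a finite p-group S and E₁, E₂ normal subsystems over T₁, T₂ with [T₁, T₂] = 1. Then there is a normal subsystem of F over T₁T₂ which, if moreover T₁ ∩ T₂ lies in the centre of E₁ and in the centre of E₂, is a central product of E₁ and E₂ (the factor system of a direct product of E₁ and E₂ modulo a subgroup of its centre meeting both factors trivially). -/
theorem result {Ω : Type*} [Group Ω] {S : Subgroup Ω} [Finite S] (p : ℕ) [Fact p.Prime] (hS : IsPGroup p S) (F : Cfsg.FusionSystem S) (hF : F.IsSaturated p) {T₁ T₂ : Subgroup Ω} (E₁ : Cfsg.FusionSystem T₁) (E₂ : Cfsg.FusionSystem T₂) (hE₁ : E₁.IsNormalIn F p) (hE₂ : E₂.IsNormalIn F p) (hc : ⁅T₁, T₂⁆ = ⊥) : ∃ D : Cfsg.FusionSystem (T₁ ⊔ T₂), D.IsNormalIn F p ∧ (T₁ ⊓ T₂ ≤ E₁.center → T₁ ⊓ T₂ ≤ E₂.center → Cfsg.FusionSystem.IsCentralProductOf E₁ E₂ D) := by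
  have hcl1 : F.StronglyClosed T₁ := hE₁.1.2.2.2.1
  have hcl2 : F.StronglyClosed T₂ := hE₂.1.2.2.2.1
  haveI := finite_of_le hcl1.1
  haveI := finite_of_le hcl2.1
  have hcomm : ∀ a ∈ T₁, ∀ b ∈ T₂, a * b = b * a := fun a ha b hb =>
    (Subgroup.mem_centralizer_iff.1 (Subgroup.commutator_eq_bot_iff_le_centralizer.1 hc ha) b hb).symm
  by_cases hJ : T₁ ⊓ T₂ ≤ E₁.center ∧ T₁ ⊓ T₂ ≤ E₂.center
  · have h : FusionCPNormal.Com F E₁ E₂ p := ⟨hS, hF, hE₁, hE₂,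
      valid_of_fix hS hF hE₁ hcl2 hcomm fun {P f} hf x hx hxX =>
        fix_of_le_center hJ.1 hf hx ⟨hf.le hx, hxX⟩,
      valid_of_fix hS hF hE₂ hcl1 (fun a ha b hb => (hcomm b hb a ha).symm) fun {P f} hf x hx hxX =>
        fix_of_le_center hJ.2 hf hx ⟨hxX, hf.le hx⟩⟩
    obtain ⟨D, hD, hCP, hDs⟩ := h.exists_cp
    exact ⟨D, h.cp_normal hCP hDs, fun _ _ => hD⟩
  set J := T₁ ⊓ T₂ with hJdef
  have hab : ∀ a ∈ J, ∀ b ∈ J, a * b = b * a := fun a ha b hb => hcomm a ha.1 b hb.2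
  have hJcl : F.StronglyClosed J := stronglyClosed_iff.2 ⟨inf_le_left.trans hcl1.1,
    fun R g hR hg x hx => ⟨closed_apply' hcl1 hg hx (hR hx).1, closed_apply' hcl2 hg hx (hR hx).2⟩⟩
  have hJn : F.IsNormal J := FusionSysChain.isNormal_of_abelian hS hF
    ⟨⟨fun x y => Subtype.ext (hab x x.2 y y.2)⟩⟩ hJcl
  set C := centralizerSystem F J (stronglyClosed_of_normal hJn).1
  have hC := FusionCentralizerOfNormal.centralizerSystem_normal hS hF hJn hab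
  have hfixC : ∀ {P : Subgroup Ω} {f : Ω → Ω}, Mor C P f → ∀ x ∈ P, x ∈ J → f x = x := by
    intro P f hf x hx hxJ
    obtain ⟨-, -, -, ψ, -, hψe, hψJ⟩ :=
      (mor_centralizerSystem_iff (isCentralizerSystem_centralizerSystem J hJcl.1)).1 hf
    rw [← hψe x hx, hψJ x hxJ]
  have e1 : T₁ ⊓ centralizerIn S J = T₁ := inf_eq_left.2 fun a ha => mem_centralizerIn.2
    ⟨hcl1.1 ha, fun j hj => by rw [cj_apply, hcomm a ha j hj.2, mul_inv_cancel_right]⟩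
  have e2 : T₂ ⊓ centralizerIn S J = T₂ := inf_eq_left.2 fun a ha => mem_centralizerIn.2
    ⟨hcl2.1 ha, fun j hj => by rw [cj_apply, ← hcomm j hj.1 a ha, mul_inv_cancel_right]⟩
  obtain ⟨M₁, ⟨hM₁, -, hM₁C⟩, -⟩ := (⟨hS, hF, hE₁, hC⟩ : FusionMeet.Setup F E₁ C p).exists_meet
  obtain ⟨M₂, ⟨hM₂, -, hM₂C⟩, -⟩ := (⟨hS, hF, hE₂, hC⟩ : FusionMeet.Setup F E₂ C p).exists_meet
  have hc12 : ∀ a ∈ T₁ ⊓ centralizerIn S J, ∀ b ∈ T₂ ⊓ centralizerIn S J, a * b = b * a :=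
    fun a ha b hb => hcomm a ha.1 b hb.1
  have hf1 : ∀ {P : Subgroup Ω} {f : Ω → Ω}, Mor M₁ P f → ∀ x ∈ P,
      x ∈ T₂ ⊓ centralizerIn S J → f x = x := fun hf x hx hx2 =>
    hfixC (sub_mor hM₁C.1.2.2.1 hf) x hx ⟨(hf.le hx).1, hx2.1⟩
  have hf2 : ∀ {P : Subgroup Ω} {f : Ω → Ω}, Mor M₂ P f → ∀ x ∈ P,
      x ∈ T₁ ⊓ centralizerIn S J → f x = x := fun hf x hx hx2 =>
    hfixC (sub_mor hM₂C.1.2.2.1 hf) x hx ⟨hx2.1, (hf.le hx).1⟩
  have h : FusionCPNormal.Com F M₁ M₂ p := ⟨hS, hF, hM₁, hM₂,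
    valid_of_fix hS hF hM₁ hM₂.1.2.2.2.1 hc12 hf1,
    valid_of_fix hS hF hM₂ hM₁.1.2.2.2.1 (fun a ha b hb => (hc12 b hb a ha).symm) hf2⟩
  obtain ⟨D, -, hCP, hDs⟩ := h.exists_cp
  have hD := h.cp_normal hCP hDs
  have hU : (T₁ ⊓ centralizerIn S J) ⊔ (T₂ ⊓ centralizerIn S J) = T₁ ⊔ T₂ := by rw [e1, e2]
  clear h hCP hDs
  revert D
  rw [hU]
  intro D hD
  exact ⟨D, hD, fun h1 h2 => absurd ⟨h1, h2⟩ hJ⟩

end Cfsg.Agent.S5138
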