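import Cfsg.Statements.S5143
import Cfsg.Agent.Lib.FusionProductR5Main

set_option autoImplicit false
open Cfsg

namespace Cfsg.Agent.S5143

section
open Cfsg.FusionSystem Cfsg.Agent.FusionSysBasic Cfsg.Agent.FusionProductR5

variable {Ω : Type*} [Group Ω] {S R U T : Subgroup Ω}

theorem pPower_congr {p : ℕ} {D : Cfsg.FusionSystem R} {A : Cfsg.FusionSystem U}
    {B : Cfsg.FusionSystem T} (hUT : U = T) (h : ∀ P, A.Hom P = B.Hom P)
    (hi : A.HasPPowerIndexIn D p) : B.HasPPowerIndexIn D p := by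
  subst hUT
  exact FusionPPower.hom_ext h ▸ hi

end

/-- Let F be a saturated fusion system over a finite p-group S, E a normal subsystem over T, and R a subgroup with T ≤ R ≤ S. Then there is exactly one saturated subsystem D of F over R (exactly one family of map sets) whose p-residual subsystem is that of E: the hyperfocal subgroups of D and E coincide and the p-residual subsystems of D and of E have the same maps. -/
theorem result {Ω : Type*} [Group Ω] {S : Subgroup Ω} [Finite S] (p : ℕ) [Fact p.Prime] (hS : IsPGroup p S) (F : Cfsg.FusionSystem S) (hF : F.IsSaturated p) {T : Subgroup Ω} (E : Cfsg.FusionSystem T) (hE : E.IsNormalIn F p) (R : Subgroup Ω) (hTR : T ≤ R) (hRS : R ≤ S) : ∃ D : Cfsg.FusionSystem R, (D.IsSaturated p ∧ D.IsSubsystemOf F ∧ D.hyperfocalSubgroup p = E.hyperfocalSubgroup p ∧ ∀ (D₁ : Cfsg.FusionSystem (D.hyperfocalSubgroup p)) (E₁ : Cfsg.FusionSystem (E.hyperfocalSubgroup p)), D.IsPResidual p D₁ → E.IsPResidual p E₁ → ∀ P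 : Subgroup Ω, D₁.Hom P = E₁.Hom P) ∧ ∀ D' : Cfsg.FusionSystem R, D'.IsSaturated p → D'.IsSubsystemOf F → D'.hyperfocalSubgroup p = E.hyperfocalSubgroup p → (∀ (D₁ : Cfsg.FusionSystem (D'.hyperfocalSubgroup p)) (E₁ : Cfsg.FusionSystem (E.hyperfocalSubgroup p)), D'.IsPResidual p D₁ → E.IsPResidual p E₁ → ∀ P : Subgroup Ω, D₁.Hom P = E₁.Hom P) → ∀ P : Subgroup Ω, D'.Hom P = D.Hom P := by
  have hTS : T ≤ S := hTR.trans hRS
  haveI := FusionSysBasic.finite_of_le hTS
  haveI := FusionSysBasic.finite_of_le hRS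
  have hTp : IsPGroup p T := hS.to_le hTS
  have hRp : IsPGroup p R := hS.to_le hRS
  set H := E.hyperfocalSubgroup p with hH
  have hHT : H ≤ T := FusionPPower.hyperfocal_le E
  obtain ⟨E1, hs, hi⟩ := FusionPPowerIndex88.exists_pPower (Nat.card T) T E H le_rfl hTp hE.1.1
    hHT le_rfl
  have hset : FusionProductR5.Setup F E1 p := ⟨hS,
    FusionPResidualNormal5.normal_residual hS hE hs hi, FusionPPower.hyperfocal_eq hTp hi⟩
  obtain ⟨D, hD⟩ := hset.exists_product (hHT.trans hTR) hRS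
  refine ⟨D, ⟨hD.sat, hD.sub, hD.hyp, fun D₁ E₁ hD₁ hE₁ P => ?_⟩, fun D' hs' hsub' hhyp' hres P => ?_⟩
  · exact (FusionPPower.pPower_unique hRp hD₁.1 hs hD₁.2 hD.idx hD.hyp P).trans
      (FusionPPower.pPower_unique hTp hs hE₁.1 hi hE₁.2 rfl P)
  · obtain ⟨D1, hs1, hi1⟩ := FusionPPowerIndex88.exists_pPower (Nat.card R) R D'
      (D'.hyperfocalSubgroup p) le_rfl hRp hs' (FusionPPower.hyperfocal_le D') le_rfl
    have hD' : FusionProductR5.IsProd F E1 p D' := ⟨hs', hsub', hhyp',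
      pPower_congr hhyp' (fun Q => hres D1 E1 ⟨hs1, hi1⟩ ⟨hs, hi⟩ Q) hi1⟩
    exact Set.Subset.antisymm (hset.product_le hD' hD P) (hset.product_le hD hD' P)

end Cfsg.Agent.S5143
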