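import Cfsg.Statements.S5152
import Cfsg.Agent.Lib.FusionLocalComponent

set_option autoImplicit false
open Cfsg

namespace Cfsg.Agent.S5152

/-- Dichotomy for saturated fusion systems: a saturated fusion system over a finite p-group is of characteristic p-type (the normalizer system of every nontrivial fully normalized subgroup is constrained) or of component type (the centralizer system of some fully normalized subgroup of order p has a component). -/
theorem result {Ω : Type*} [Group Ω] {S : Subgroup Ω} [Finite S] (p : ℕ) [Fact p.Prime] (hS : IsPGroup p S) (F : Cfsg.FusionSystem S) (hF : F.IsSaturated p) : F.IsOfCharacteristicPType p ∨ F.IsOfComponentType p := by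
  open Cfsg.FusionSystem Cfsg.Agent.FusionSysBasic Cfsg.Agent.FusionSysSaturated
    Cfsg.Agent.FusionSysNormal Cfsg.Agent.FusionKit88 in
  refine or_iff_not_imp_left.2 fun hch => ?_
  obtain ⟨U, hU0, hUn, N, hN, hnc⟩ : ∃ U, U ≠ ⊥ ∧ F.IsFullyNormalized U ∧
      ∃ N : Cfsg.FusionSystem (normalizerIn S U), F.IsNormalizerSystem U N ∧ ¬ N.IsConstrained p := by
    by_contra h
    exact hch fun U h1 h2 N h3 => by_contra fun h4 => h ⟨U, h1, h2, N, h3, h4⟩
  have hAS : normalizerIn S U ≤ S := inf_le_left
  haveI := finite_of_le hAS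
  have hNs := FusionSysNormalizer.normalizerSystem_saturated hS hF hUn hN
  have hUA : U ≤ normalizerIn S U := le_normalizerIn hUn.1
  have hUcore : U ≤ N.core := le_core (FusionModelTools.normal_normalizerSystem hUn.1 hN)
  obtain ⟨z, hzU, hzo, hzc⟩ := CharPLocal.exists_orderOf_eq_centralized (p := p)
    (T := (⊤ : Subgroup ↥(normalizerIn S U))) (R := U.subgroupOf (normalizerIn S U))
    ((hS.to_le hAS).to_subgroup ⊤) le_top
    (fun g _ => by
      haveI : (U.subgroupOf (normalizerIn S U)).Normal :=
        Subgroup.normal_subgroupOf_iff_le_normalizer hUA |>.2 inf_le_right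
      rw [Subgroup.normalizer_eq_top_iff.2 this]
      trivial)
    (fun e => hU0 (by
      have h := congrArg (Subgroup.map (normalizerIn S U).subtype) e
      rwa [Subgroup.map_subgroupOf_eq_of_le hUA, Subgroup.map_bot] at h))
  set X := Subgroup.zpowers (z : Ω) with hXdef
  have hXU : X ≤ U := Subgroup.zpowers_le.2 hzU
  have hXc : ∀ x ∈ X, ∀ s ∈ normalizerIn S U, cj s x = x := by
    rintro _ ⟨k, rfl⟩ s hs
    have h1 : Commute s (z : Ω) := congrArg Subtype.val (hzc ⟨s, hs⟩ trivial)
    show cj s ((z : Ω) ^ k) = _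
    rw [cj_apply, (h1.zpow_right k).eq, mul_inv_cancel_right]
  have hXS : X ≤ S := hXU.trans hUn.1
  obtain ⟨X', hXX', hX'n⟩ := exists_fullyNormalized (F := F) hXS
  obtain ⟨f, hf, -, hfX⟩ := exists_map_to_fullyNormalized hS hF hX'n hXX'
  have hAX : normalizerIn S U ≤ normalizerIn S X := fun s hs =>
    ⟨hAS hs, mem_normalizer_of_cj_le hXS fun x hx => (hXc x hx s hs).symm ▸ hx⟩
  have hC : F.IsCentralizerSystem X' (centralizerSystem F X' hX'n.1) :=
    isCentralizerSystem_centralizerSystem X' hX'n.1
  refine ⟨X', ?_, hX'n, centralizerSystem F X' hX'n.1, hC, ?_⟩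
  · rw [← hfX, (hf.restrict_to (le_normalizerIn hXS)).card_im, hXdef, Nat.card_zpowers,
      Subgroup.orderOf_coe, hzo]
  have hCS : centralizerIn S X' ≤ S := inf_le_left
  haveI := finite_of_le hCS
  obtain ⟨T, C, hT, -⟩ := FusionComponentExists.exists_component (hS.to_le hCS)
    (FusionSysNormalizer.centralizerSystem_saturated hS hF
      (fullyCentralized_of_fullyNormalized hS hF hX'n) hC) fun hc =>
    FusionLocalComponent.not_constrained_centralizer (hS.to_le hAS) hNs hnc (hXU.trans hUcore)
      hXc (isCentralizerSystem_centralizerSystem X (hXU.trans hUA))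
      (FusionLocalComponent.constrained_centralizer_normalizer hS hUn hXU hXc hN
        (isCentralizerSystem_centralizerSystem X (hXU.trans hUA))
        (hf.restrict_to hAX) hfX hC hc)
  exact ⟨T, C, hT⟩

end Cfsg.Agent.S5152
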