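import Mathlib
import Cfsg.Statements.S5153
import Cfsg.Agent.Lib.FusionKit88

set_option autoImplicit false
open Cfsg

namespace Cfsg.Agent.S5153

open Cfsg.FusionSystem Cfsg.Agent.FusionKit88 in
theorem aux {Ω : Type*} [Group Ω] {T S : Subgroup Ω} {E : Cfsg.FusionSystem T}
    {F : Cfsg.FusionSystem S} {p : ℕ} (hE : E.IsSubnormalIn F p) : Fact p.Prime →
    Finite S → IsPGroup p S → F.IsSaturated p → ∀ P : Subgroup Ω, P ≤ T →
      F.IsFullyNormalized P → E.IsFullyNormalized P := by
  induction hE with
  | refl F p => exact fun _ _ _ _ _ _ h => h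
  | step h1 h2 ih =>
    intro hp hfin hS hF P hPT hP
    have hsub := h2.1.2.2.1
    have hcl := h2.1.2.2.2.1
    have hUS := hcl.1
    exact ih hp (FusionSysBasic.finite_of_le hUS) (hS.to_le hUS) h2.1.1 P hPT
      (fullyNormalized_sub hS hF hsub hcl (hPT.trans (subnormal_le h1)) hP)

/-- Let F be a saturated fusion system over a finite p-group S and E a subnormal subsystem of F over T. Then every subgroup of T that is fully normalized in F is fully normalized in E. -/
theorem result {Ω : Type*} [Group Ω] {S : Subgroup Ω} [Finite S] (p : ℕ) [Fact p.Prime] (hS : IsPGroup p S) (F : Cfsg.FusionSystem S) (hF : F.IsSaturated p) {T : Subgroup Ω} (E : Cfsg.FusionSystem T) (hE : E.IsSubnormalIn F p) (P : Subgroup Ω) (hPT : P ≤ T) (hP : F.IsFullyNormalized P) : E.IsFullyNormalized P := by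
  exact aux hE inferInstance inferInstance hS hF P hPT hP

end Cfsg.Agent.S5153
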