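import Cfsg.Agent.Lib.FusionSysBasic
import Cfsg.Agent.Lib.FusionSysSaturated
import Cfsg.Agent.Lib.FusionSysGroup

set_option autoImplicit false
open Cfsg

namespace Cfsg.Agent.S5160

open Cfsg.FusionSystem Cfsg.Agent.FusionSysBasic Cfsg.Agent.FusionSysSaturated
  Cfsg.Agent.FusionSysGroup

section Invariant

variable {G : Type*} [Group G] {S : Subgroup G} {E : FusionSystem S}

theorem mor_cj_inv {P : Subgroup G} {g : G} (h : Mor E P (cj g)) :
    Mor E (im P (cj g)) (cj g⁻¹) := by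
  obtain ⟨f, hf, hfg, -, -⟩ := h.exists_inv
  refine hf.congr fun y hy => ?_
  obtain ⟨x, hx, rfl⟩ := h.mem_im.mp hy
  rw [hfg x hx, cj_inv_cj]

theorem mor_cj_comp {P Q : Subgroup G} {a b : G} (ha : Mor E P (cj a)) (hb : Mor E Q (cj b))
    (h : ∀ x ∈ P, cj a x ∈ Q) : Mor E P (cj (b * a)) :=
  (ha.comp hb h).congr fun x _ => cj_cj b a x

variable (hinv : E.IsInvariantIn (groupFusionSystem S))

include hinv

theorem inv_mor {g m : G} (hg : g ∈ Subgroup.normalizer (S : Set G)) {P : Subgroup G}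
    (hm : Mor E P (cj m)) : Mor E (im P (cj g)) (cj (g * m * g⁻¹)) := by
  have hP : P ≤ S := hm.le
  obtain ⟨φ, hφ, he⟩ := id hm
  obtain ⟨α, hα, hαe⟩ : ∃ α ∈ (groupFusionSystem S).autGroup S, ∀ x ∈ S, afun α x = cj g x := by
    refine Mor.exists_aut (mor_group_iff.mpr ⟨le_rfl, g, fun _ _ => rfl, fun x hx => ?_⟩)
      (mem_normalizer_iff_im_cj.mp hg)
    exact cj_mem_of_normalizer hg hx
  obtain ⟨χ, hχ, hχe⟩ := hinv.2.2.1 P hP φ hφ α hα
  have himage : (P.subgroupOf S).map (S.subtype.comp α.toMonoidHom) = im P (cj g) := by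
    ext y
    rw [mem_im_cj, Subgroup.mem_map]
    constructor
    · rintro ⟨x, hx, rfl⟩
      have : ((α x : S) : G) = cj g x := by rw [← hαe x x.2, afun_coe]
      show cj g⁻¹ ((α x : S) : G) ∈ P
      rw [this, cj_inv_cj]
      exact hx
    · intro hy
      refine ⟨⟨_, hP hy⟩, hy, ?_⟩
      show ((α ⟨_, hP hy⟩ : S) : G) = y
      rw [← afun_apply α (hP hy), hαe _ (hP hy), cj_cj_inv]
  have hfun : Mor E ((P.subgroupOf S).map (S.subtype.comp α.toMonoidHom))
      (cj (g * m * g⁻¹)) := by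
    refine ⟨χ, hχ, ?_⟩
    rintro ⟨_, x, hx, rfl⟩
    have hxP : (x : G) ∈ P := hx
    have hmx : φ ⟨x, hxP⟩ ∈ S := (E.le_of_mem hφ).2 _
    have := hχe ⟨x, hxP⟩ hmx ⟨x, hx, rfl⟩
    refine this.trans ?_
    show ((α ⟨φ ⟨x, hxP⟩, hmx⟩ : S) : G) = cj (g * m * g⁻¹) ((α x : S) : G)
    rw [← afun_apply α hmx, ← afun_coe α x, hαe _ hmx, hαe _ x.2, he ⟨x, hxP⟩]
    simp only [cj_apply]; group
  rwa [himage] at hfun

theorem frattini {P : Subgroup G} (hP : P ≤ S) {k : G} (hk : ∀ x ∈ P, cj k x ∈ S) :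
    ∃ g ∈ Subgroup.normalizer (S : Set G), Mor E P (cj (g⁻¹ * k)) := by
  obtain ⟨φ, hφ, he⟩ : Mor (groupFusionSystem S) P (cj k) :=
    mor_group_iff.mpr ⟨hP, k, fun _ _ => rfl, hk⟩
  obtain ⟨α, hα, φ₀, hφ₀, he₀⟩ := hinv.2.2.2 P hP φ hφ
  rw [mem_autGroup_group le_rfl, mem_autInducedBy] at hα
  obtain ⟨g, -, hg, hgα⟩ := hα
  refine ⟨g, hg, φ₀, hφ₀, fun x => ?_⟩
  have hx : φ₀ x ∈ S := (E.le_of_mem hφ₀).2 x
  have := he₀ x hx
  rw [he, ← afun_apply α hx, hgα _ hx] at this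
  rw [← cj_cj, this, cj_inv_cj]

theorem conj_stable {R : Subgroup G} (hR : R ≤ S) {k x : G}
    (hk : k ∈ Subgroup.normalizer (R : Set G)) (hx : x ∈ Subgroup.normalizer (R : Set G))
    (hxE : Mor E R (cj x)) : Mor E R (cj (k * x * k⁻¹)) := by
  obtain ⟨g, hg, hm⟩ := frattini hinv hR (k := k) fun y hy => hR (cj_mem_of_normalizer hk hy)
  have hm' := mor_cj_inv hm
  have h1 : ∀ y ∈ im R (cj (g⁻¹ * k)), cj (g⁻¹ * k)⁻¹ y ∈ R := fun y hy => mem_im_cj.mp hy
  have h2 : Mor E (im R (cj (g⁻¹ * k))) (cj (x * (g⁻¹ * k)⁻¹)) := mor_cj_comp hm' hxE h1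
  have h3 : Mor E (im R (cj (g⁻¹ * k))) (cj (g⁻¹ * k * (x * (g⁻¹ * k)⁻¹))) :=
    mor_cj_comp h2 hm fun y hy => by
      rw [← cj_cj]; exact cj_mem_of_normalizer hx (h1 y hy)
  have h4 := inv_mor hinv hg h3
  have e1 : im (im R (cj (g⁻¹ * k))) (cj g) = R := by
    rw [im_im_cj, mul_inv_cancel_left]; exact mem_normalizer_iff_im_cj.mp hk
  have e2 : g * (g⁻¹ * k * (x * (g⁻¹ * k)⁻¹)) * g⁻¹ = k * x * k⁻¹ := by group
  rwa [e1, e2] at h4

end Invariant

section Main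

variable {G : Type*} [Group G] [Finite G] {p : ℕ} [Fact p.Prime]

/-- The elements of `N(R)` whose conjugation on `R` is a map of `E`. -/
def stab {S : Subgroup G} (E : FusionSystem S) {R : Subgroup G} (hR : R ≤ S) : Subgroup G where
  carrier := {x | x ∈ Subgroup.normalizer (R : Set G) ∧ Mor E R (cj x)}
  one_mem' := ⟨one_mem _, (mor_id hR).congr fun x _ => (cj_one x).symm⟩
  mul_mem' {a b} ha hb := ⟨mul_mem ha.1 hb.1,
    mor_cj_comp hb.2 ha.2 fun _ hx => cj_mem_of_normalizer hb.1 hx⟩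
  inv_mem' {a} ha := ⟨Subgroup.inv_mem _ ha.1, by
    have := mor_cj_inv ha.2
    rwa [mem_normalizer_iff_im_cj.mp ha.1] at this⟩

theorem pElements_mem {S : Sylow p G} {E : FusionSystem (S : Subgroup G)}
    (hinv : E.IsInvariantIn (groupFusionSystem (S : Subgroup G))) {R : Subgroup G}
    (hR : R ≤ (S : Subgroup G))
    (hn : (groupFusionSystem (S : Subgroup G)).IsFullyNormalized R) {a : G}
    (ha : a ∈ Subgroup.normalizer (R : Set G)) (hp : ∃ k : ℕ, orderOf a = p ^ k) :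
    a ∈ stab E hR := by
  have hsyl := (fullyNormalized_group_iff S hR).mp hn
  obtain ⟨k, hk⟩ := hp
  have hpg : IsPGroup p (Subgroup.zpowers a) :=
    IsPGroup.of_card (n := k) ((Nat.card_zpowers a).trans hk)
  obtain ⟨b, hb, hb'⟩ := sylIn_absorb hsyl hpg (Subgroup.zpowers_le.mpr ha)
  have h1 : b * a * b⁻¹ ∈ normalizerIn (S : Subgroup G) R := hb' a (Subgroup.mem_zpowers a)
  have h2 : Mor E R (cj (b * a * b⁻¹)) := mor_cj hR h1.1
  have h3 := conj_stable hinv hR (Subgroup.inv_mem _ hb) h1.2 h2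
  rw [show b⁻¹ * (b * a * b⁻¹) * b⁻¹⁻¹ = a by group] at h3
  exact ⟨ha, h3⟩

theorem centric_mono {S : Subgroup G} {F : FusionSystem S} {R P : Subgroup G}
    (hR : F.IsCentric R) (hRP : R ≤ P) (hP : P ≤ S) : F.IsCentric P := by
  refine ⟨hP, fun Q hQ => ?_⟩
  obtain ⟨f, hf, rfl⟩ := isConj_iff.mp hQ
  have h1 := hR.2 _ (isConj_iff.mpr ⟨f, hf.restrict_to hRP, rfl⟩)
  intro x hx
  exact im_mono hRP (h1 ⟨hx.1, Subgroup.centralizer_le (im_mono hRP) hx.2⟩)

theorem centric_fullyCentralized {S : Subgroup G} {F E : FusionSystem S} {R : Subgroup G}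
    (hsub : ∀ P, E.Hom P ⊆ F.Hom P) (hR : F.IsCentric R) : E.IsFullyCentralized R := by
  have hRC : centralizerIn S R ≤ R := hR.2 R (isConj_refl hR.1)
  refine ⟨hR.1, fun Q hQ => ?_⟩
  have hQF : F.IsConj R Q := by
    obtain ⟨φ, hφ, h⟩ := hQ
    exact ⟨φ, hsub _ hφ, h⟩
  obtain ⟨f, hf, rfl⟩ := isConj_iff.mp hQ
  have hf' := hf.restrict_to hRC
  rw [← hf'.card_im]
  refine Subgroup.card_le_of_le fun y hy => ?_
  obtain ⟨x, hx, rfl⟩ := hf.mem_im.mp (hR.2 _ hQF hy)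
  refine apply_mem_im (mem_centralizerIn.mpr ⟨hR.1 hx, fun z hz => ?_⟩)
  refine hf.injOn ?_ hz ?_
  · exact R.mul_mem (R.mul_mem hx hz) (R.inv_mem hx)
  · rw [hf.map_cj hx hz]
    exact (mem_centralizerIn.mp hy).2 _ (apply_mem_im hz)

theorem coprime_part {G : Type*} [Group G] [Finite G] {p : ℕ} [Fact p.Prime] {Z : Subgroup G}
    (hZ : IsPGroup p Z) {c : G} (hc : ∀ a : G, a ∈ Subgroup.zpowers c → (∃ k : ℕ, orderOf a = p ^ k) → a ∈ Z)
    (hcZ : ∀ z ∈ Z, Commute c z) :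
    ∃ z ∈ Z, ∀ n : G, n * c * n⁻¹ * c⁻¹ ∈ Z → c * n * c⁻¹ = z * n * z⁻¹ := by
  have hp : p.Prime := Fact.out
  obtain ⟨a, r, hr, hord⟩ :=
    Nat.exists_eq_pow_mul_and_not_dvd (orderOf_pos c).ne' p hp.ne_one
  have hcop : IsCoprime ((r : ℕ) : ℤ) ((p ^ a : ℕ) : ℤ) := by
    rw [Nat.isCoprime_iff_coprime]
    exact (Nat.Coprime.pow_right _ ((hp.coprime_iff_not_dvd.mpr hr).symm))
  obtain ⟨u, v, huv⟩ := hcop
  have h1 : c ^ ((u * r : ℤ)) ∈ Z := by
    refine hc _ ⟨_, rfl⟩ ?_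
    have : orderOf (c ^ (u * r : ℤ)) ∣ p ^ a := by
      refine orderOf_dvd_of_pow_eq_one ?_
      rw [← zpow_natCast, ← zpow_mul, show (u * r * ((p ^ a : ℕ) : ℤ)) = (orderOf c : ℤ) * u by
        rw [hord]; push_cast; ring, zpow_mul, zpow_natCast, pow_orderOf_eq_one, one_zpow]
    obtain ⟨k, -, hk⟩ := (Nat.dvd_prime_pow hp).mp this
    exact ⟨k, hk⟩
  refine ⟨_, h1, fun n hn => ?_⟩
  set d := c ^ ((v * (p ^ a : ℕ) : ℤ)) with hd
  have hcd : c = c ^ (u * r : ℤ) * d := by rw [hd, ← zpow_add, huv, zpow_one]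
  have hdr : d ^ r = 1 := by
    rw [hd, ← zpow_natCast, ← zpow_mul, show (v * ((p ^ a : ℕ) : ℤ) * r) = (orderOf c : ℤ) * v by
        rw [hord]; push_cast; ring, zpow_mul, zpow_natCast, pow_orderOf_eq_one, one_zpow]
  set e := n * c * n⁻¹ * c⁻¹ with he
  have hec : Commute c e := hcZ e hn
  have hne : n * d * n⁻¹ = e ^ (v * (p ^ a : ℕ) : ℤ) * d := by
    rw [hd, ← conj_zpow, ← hec.symm.mul_zpow, he]
    group
  have hek : e ^ (v * (p ^ a : ℕ) : ℤ) = 1 := by
    have hcomm : Commute (e ^ (v * (p ^ a : ℕ) : ℤ)) d := (hec.symm.zpow_zpow _ _)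
    have h2 : (e ^ (v * (p ^ a : ℕ) : ℤ)) ^ r = 1 := by
      have : (n * d * n⁻¹) ^ r = 1 := by rw [conj_pow, hdr, mul_one, mul_inv_cancel]
      rwa [hne, hcomm.mul_pow, hdr, mul_one] at this
    obtain ⟨k, hk⟩ := (IsPGroup.iff_orderOf.mp hZ) ⟨_, Z.zpow_mem hn (v * (p ^ a : ℕ) : ℤ)⟩
    rw [Subgroup.orderOf_mk] at hk
    refine orderOf_eq_one_iff.mp (Nat.eq_one_of_dvd_coprimes ?_ (dvd_of_eq hk) (orderOf_dvd_of_pow_eq_one h2))
    exact Nat.Coprime.pow_left _ (hp.coprime_iff_not_dvd.mpr hr)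
  have hnd : d * n * d⁻¹ = n := by
    rw [hek, one_mul] at hne
    calc d * n * d⁻¹ = (n * d * n⁻¹) * n * d⁻¹ := by rw [hne]
      _ = n := by group
  calc c * n * c⁻¹ = c ^ (u * r : ℤ) * (d * n * d⁻¹) * (c ^ (u * r : ℤ))⁻¹ := by
        conv_lhs => rw [hcd]
        group
    _ = _ := by rw [hnd]

theorem extend {S : Sylow p G} {E : FusionSystem (S : Subgroup G)}
    (hsat : E.IsSaturated p)
    (hsub : ∀ P, E.Hom P ⊆ (groupFusionSystem (S : Subgroup G)).Hom P) {g : G}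
    (hgS : g ∈ Subgroup.normalizer ((S : Subgroup G) : Set G)) :
    ∀ R : Subgroup G, (groupFusionSystem (S : Subgroup G)).IsCentric R →
      g ∈ Subgroup.normalizer (R : Set G) → Mor E R (cj g) → Mor E (S : Subgroup G) (cj g) := by
  intro R
  induction R using WellFoundedGT.induction with
  | ind R ih =>
  intro hR hgR hE
  by_cases hRS : R = (S : Subgroup G)
  · exact hRS ▸ hE
  set F := groupFusionSystem (S : Subgroup G) with hF
  set P := normalizerIn (S : Subgroup G) R with hP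
  have hlt : R < P := by
    haveI := S.2.isNilpotent
    refine lt_of_le_of_ne (le_normalizerIn hR.1) fun e => ?_
    have h1 : R.subgroupOf (S : Subgroup G) < ⊤ := by
      refine lt_top_iff_ne_top.mpr fun h => hRS (le_antisymm hR.1 ?_)
      rwa [Subgroup.subgroupOf_eq_top] at h
    obtain ⟨t, ht, htR⟩ := SetLike.exists_of_lt (normalizerCondition_of_isNilpotent _ h1)
    refine htR ?_
    have : (t : G) ∈ P := by
      refine ⟨t.2, mem_normalizer_of_cj_le hR.1 fun x hx => ?_⟩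
      exact (Subgroup.mem_normalizer_iff.mp ht ⟨x, hR.1 hx⟩).mp hx
    rw [← e] at this
    exact this
  have hgP : g ∈ Subgroup.normalizer (P : Set G) := by
    refine mem_normalizer_of_cj_le (S := (S : Subgroup G)) inf_le_left fun x hx => ⟨?_, ?_⟩
    · exact cj_mem_of_normalizer hgS hx.1
    · exact mul_mem (mul_mem hgR hx.2) (Subgroup.inv_mem _ hgR)
  -- extend over `P` inside `E`
  have hrec := receptive_of_fullyCentralized S.2 hsat (centric_fullyCentralized hsub hR)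
  obtain ⟨f', hf', hag⟩ := (receptive_iff.mp hrec).2 R (cj g) P hE
    (mem_normalizer_iff_im_cj.mp hgR) inf_le_left inf_le_right
    (fun n hn => ⟨cj g n, cj_mem_of_normalizer hgS hn.1, fun x _ => by simp only [cj_apply]; group⟩)
  have hfP : Mor E P f' := hf'.restrict_to le_sup_right
  obtain ⟨φ, hφ, hφe⟩ := hfP
  obtain ⟨-, h, hh, hhS⟩ := mor_group_iff.mp (⟨φ, hsub _ hφ, hφe⟩ : Mor F P f')
  replace hfP : Mor E P (cj h) := Mor.congr ⟨φ, hφ, hφe⟩ hh
  have hhg : ∀ x ∈ R, cj h x = cj g x := fun x hx => by rw [← hh x (hlt.le hx)]; exact hag x hx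
  set c := g⁻¹ * h with hc
  have hcR : ∀ x ∈ R, cj c x = x := fun x hx => by rw [hc, ← cj_cj, hhg x hx, cj_inv_cj]
  have hhR : h ∈ Subgroup.normalizer (R : Set G) := by
    refine mem_normalizer_of_cj_le hR.1 fun x hx => ?_
    rw [hhg x hx]; exact cj_mem_of_normalizer hgR hx
  have hcP : ∀ n ∈ P, cj c n ∈ P := by
    intro n hn
    rw [hc, ← cj_cj]
    exact cj_mem_of_normalizer (Subgroup.inv_mem _ hgP)
      ⟨hhS n hn, mul_mem (mul_mem hhR hn.2) (Subgroup.inv_mem _ hhR)⟩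
  set Z := centralizerIn (S : Subgroup G) R with hZ
  have hZR : Z ≤ R := hR.2 R (isConj_refl hR.1)
  have hcC : c ∈ Subgroup.centralizer (R : Set G) :=
    Subgroup.mem_centralizer_iff.mpr fun x hx => (mul_inv_eq_iff_eq_mul.mp (hcR x hx)).symm
  have hsylZ : SylIn p Z (Subgroup.centralizer (R : Set G)) :=
    (fullyCentralized_group_iff S hR.1).mp (centric_fullyCentralized (fun _ => le_rfl) hR)
  have hZcomm : ∀ b ∈ Subgroup.centralizer (R : Set G), ∀ z ∈ Z, Commute b z := fun b hb z hz =>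
    (Subgroup.mem_centralizer_iff.mp hb z (hZR hz)).symm
  obtain ⟨z, hz, hzc⟩ := coprime_part (p := p) (Z := Z) (S.2.to_le inf_le_left) (c := c)
    (fun a ha hpa => by
      obtain ⟨k, hk⟩ := hpa
      have haC : a ∈ Subgroup.centralizer (R : Set G) := Subgroup.zpowers_le.mpr hcC ha
      obtain ⟨b, hb, hb'⟩ := sylIn_absorb hsylZ
        (IsPGroup.of_card (n := k) ((Nat.card_zpowers a).trans hk)) (Subgroup.zpowers_le.mpr haC)
      have h1 := hb' a (Subgroup.mem_zpowers a)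
      have h2 := hZcomm b hb _ h1
      have : a = b * a * b⁻¹ := by
        have := h2.eq
        calc a = b⁻¹ * ((b * a * b⁻¹) * b) := by group
          _ = b⁻¹ * (b * (b * a * b⁻¹)) := by rw [this]
          _ = _ := by group
      rw [this]; exact h1)
    (hZcomm c hcC)
  have hcz : ∀ n ∈ P, cj c n = cj z n := by
    intro n hn
    refine hzc n ⟨?_, ?_⟩
    · have h1 : n * c * n⁻¹ * c⁻¹ = n * (cj c n)⁻¹ := by simp only [cj_apply]; group
      rw [h1]
      exact mul_mem hn.1 (Subgroup.inv_mem _ (hcP n hn).1)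
    · refine mul_mem ?_ (Subgroup.inv_mem _ hcC)
      refine Subgroup.mem_centralizer_iff.mpr fun x hx => ?_
      have hx' : n⁻¹ * x * n ∈ R := (Subgroup.mem_normalizer_iff''.mp hn.2 x).mp hx
      have := Subgroup.mem_centralizer_iff.mp hcC _ hx'
      calc x * (n * c * n⁻¹) = n * ((n⁻¹ * x * n) * c) * n⁻¹ := by group
        _ = n * (c * (n⁻¹ * x * n)) * n⁻¹ := by rw [this]
        _ = _ := by group
  have hzP : z ∈ P := hlt.le (hZR hz)
  have hPP : ∀ n ∈ P, cj z⁻¹ n ∈ P := fun n hn => P.mul_mem (P.mul_mem (P.inv_mem hzP) hn) (P.inv_mem (P.inv_mem hzP))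
  have hgE : Mor E P (cj g) := by
    refine (mor_cj_comp (mor_cj inf_le_left (Subgroup.inv_mem _ hzP.1) : Mor E P (cj z⁻¹)) hfP hPP).congr
      fun n hn => ?_
    calc cj (h * z⁻¹) n = cj g (cj c (cj z⁻¹ n)) := by simp only [hc, cj_apply]; group
      _ = cj g (cj z (cj z⁻¹ n)) := by rw [hcz _ (hPP n hn)]
      _ = cj g n := by rw [cj_cj_inv]
  exact ih P hlt (centric_mono hR hlt.le inf_le_left) hgP hgE

end Main

/-- Let G be a finite group with nontrivial Sylow p-subgroup S and F its fusion system on S. Suppose (a) no nontrivial proper subgroup of S is strongly closed in F, and (b) the automorphisms of S induced by G are generated by those induced, for R running over the fully normalized radical centric subgroups of F, by the subgroup of N_G(R) generated by its elements of p-power order. Then F is simple. -/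
theorem result {G : Type*} [Group G] [Finite G] (p : ℕ) [Fact p.Prime] (S : Sylow p G) (hS1 : (S : Subgroup G) ≠ ⊥) (ha : ∀ T : Subgroup G, (Cfsg.groupFusionSystem (S : Subgroup G)).StronglyClosed T → T = ⊥ ∨ T = (S : Subgroup G)) (hb : Cfsg.autInducedBy ⊤ (S : Subgroup G) = ⨆ (R : Subgroup G) (_ : (Cfsg.groupFusionSystem (S : Subgroup G)).IsFullyNormalized R ∧ (Cfsg.groupFusionSystem (S : Subgroup G)).IsRadical p R ∧ (Cfsg.groupFusionSystem (S : Subgroup G)).IsCentric R), Cfsg.autInducedBy (Subgroup.closure {g : G | g ∈ Subgroup.normalizer (R : Set G) ∧ ∃ k : ℕ, orderOf g = p ^ k}) (S : Subgroup G)) : (Cfsg.groupFusionSystem (S : Subgroup G)).IsSimple p := by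
  refine ⟨saturated_group S, hS1, fun T E hE => ?_⟩
  obtain ⟨⟨hsat, -, hinv⟩, -⟩ := hE
  rcases ha T hinv.2.1 with h | h
  · exact Or.inl h
  subst h
  refine Or.inr ⟨rfl, fun P => Set.Subset.antisymm (hinv.1 P) fun φ hφ => ?_⟩
  have hle : autInducedBy ⊤ (S : Subgroup G) ≤ E.autGroup (S : Subgroup G) := by
    rw [hb]
    refine iSup₂_le fun R hR α hα => ?_
    obtain ⟨g, hg, hgS, hgα⟩ := mem_autInducedBy.mp hα
    have hRS : R ≤ (S : Subgroup G) := hR.2.2.1
    have hgE : g ∈ stab E hRS := by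
      refine (Subgroup.closure_le _).mpr ?_ hg
      exact fun a ha' => pElements_mem hinv hRS hR.1 ha'.1 ha'.2
    exact mem_autGroup_of_mor ((extend hsat hinv.1 hgS R hR.2.2 hgE.1 hgE.2).congr
      fun x hx => (hgα x hx).symm)
  obtain ⟨hP, hφS, k, hk⟩ := id hφ
  have hkS : ∀ x ∈ P, cj k x ∈ (S : Subgroup G) := fun x hx => by
    have := hφS ⟨x, hx⟩
    rwa [hk] at this
  obtain ⟨g, hg, hm⟩ := frattini hinv hP hkS
  obtain ⟨α, hα, hαe⟩ : ∃ α ∈ autInducedBy ⊤ (S : Subgroup G), ∀ x ∈ (S : Subgroup G),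
      afun α x = cj g x := by
    refine ⟨nHom ⊤ (S : Subgroup G) ⟨g, Subgroup.mem_top g, hg⟩, ?_, fun x hx => afun_nHom _ hx⟩
    rw [autInducedBy_eq_range]
    exact ⟨_, rfl⟩
  have hgE : Mor E (S : Subgroup G) (cj g) :=
    ((mem_autGroup le_rfl).mp (hle hα)).congr hαe
  have hfin := mor_cj_comp hm hgE fun x hx => hm.apply_mem hx
  rw [mul_inv_cancel_left] at hfin
  exact (mor_iff_hom hk).mp hfin

end Cfsg.Agent.S5160
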