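import Cfsg.Statements.S5163
import Cfsg.Agent.Lib.PSLUnipotent
import Cfsg.Agent.Lib.FusionSimpleCrit

set_option autoImplicit false
open Cfsg

namespace Cfsg.Agent.S5163

open Matrix Matrix.SpecialLinearGroup Cfsg.Agent.PSLUnipotent Cfsg.Agent.FusionSimpleCrit
open scoped MatrixGroups

theorem mem_normalizer_of_conj_mem {G : Type*} [Group G] [Finite G] {H : Subgroup G} {g : G}
    (h : ∀ x ∈ H, g * x * g⁻¹ ∈ H) : g ∈ Subgroup.normalizer (H : Set G) := by
  refine Subgroup.mem_normalizer_iff.2 fun x => ⟨h x, fun hx => ?_⟩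
  have hle : H.map (MulAut.conj g).toMonoidHom ≤ H := by
    rintro _ ⟨y, hy, rfl⟩
    exact h y hy
  have he := Subgroup.eq_of_le_of_card_ge hle
    (le_of_eq (Nat.card_congr (H.equivMapOfInjective _ (MulAut.conj g).injective).toEquiv))
  have hx' : g * x * g⁻¹ ∈ H.map (MulAut.conj g).toMonoidHom := by rw [he]; exact hx
  obtain ⟨y, hy, hyx⟩ := hx'
  have : y = x := by simpa using hyx
  exact this ▸ hy

universe u v

variable {K : Type u} [Field K] [Finite K] {p : ℕ} [Fact p.Prime] [CharP K p] {n : ℕ}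

omit [Finite K] in
theorem transvection_pow {i j : Fin n} (hij : i ≠ j) (c : K) (m : ℕ) :
    (SpecialLinearGroup.transvection hij c) ^ m = SpecialLinearGroup.transvection hij (m * c) := by
  refine Subtype.ext ?_
  induction m with
  | zero => simp [SpecialLinearGroup.transvection_coe]
  | succ m ih =>
    rw [pow_succ, cmul, ih]
    simp [SpecialLinearGroup.transvection_coe, add_mul, mul_add, hij.symm, add_assoc,
      ← Matrix.single_add]

omit [Finite K] [Fact p.Prime] in
theorem transvection_pow_char {i j : Fin n} (hij : i ≠ j) (c : K) :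
    (SpecialLinearGroup.transvection hij c) ^ p = 1 := by
  rw [transvection_pow, CharP.cast_eq_zero, zero_mul]
  exact Subtype.ext (by simp [SpecialLinearGroup.transvection_coe])

omit [Fact p.Prime] [CharP K p] in
theorem diag_conj_mem_U {d u : SpecialLinearGroup (Fin n) K} {D : Fin n → K}
    (hd : d.1 = Matrix.diagonal D) (hu : u ∈ U K n) : d * u * d⁻¹ ∈ U K n := by
  have hD : ∀ i, D i ≠ 0 := by
    intro i h0
    have := d.2
    rw [hd, Matrix.det_diagonal, Finset.prod_eq_zero (Finset.mem_univ i) h0] at this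
    exact zero_ne_one this
  refine U_le ((U K n).comap (MulAut.conj d).toMonoidHom) (fun i j hij c => ?_) hu
  show d * SpecialLinearGroup.transvection hij.ne c * d⁻¹ ∈ U K n
  rw [show d * SpecialLinearGroup.transvection hij.ne c * d⁻¹ =
      SpecialLinearGroup.transvection hij.ne (D i * c / D j) from ?_]
  · exact transvection_mem_U hij _
  · rw [mul_inv_eq_iff_eq_mul]
    refine Subtype.ext ?_
    simp only [cmul, SpecialLinearGroup.transvection_coe, hd, add_mul, mul_add, one_mul, mul_one]
    congr 1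
    ext a b
    rw [Matrix.diagonal_mul, Matrix.mul_diagonal, Matrix.single_apply, Matrix.single_apply]
    by_cases h : i = a ∧ j = b
    · obtain ⟨rfl, rfl⟩ := h
      simp [hD j]
    · simp [h]

omit [Finite K] [Fact p.Prime] [CharP K p] in
theorem det_eq_one_center {c : K} (hc : c ^ n = 1) :
    (Matrix.scalar (Fin n) c).det = 1 := by
  simp [hc]

omit [Fact p.Prime] [CharP K p] in
theorem kernel_eq {G : Type*} [Group G] {φ : SpecialLinearGroup (Fin n) K →* G}
    (hker : ∀ x, φ x = 1 ↔ x ∈ Subgroup.center _) {x y : SpecialLinearGroup (Fin n) K}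
    (h : φ x = φ y) : ∃ c : K, y.1 = c • x.1 := by
  have hz : y * x⁻¹ ∈ Subgroup.center _ := (hker _).1 (by rw [map_mul, map_inv, h, mul_inv_cancel])
  obtain ⟨c, -, hc⟩ := Matrix.SpecialLinearGroup.mem_center_iff.1 hz
  refine ⟨c, ?_⟩
  conv_lhs => rw [show y = (y * x⁻¹) * x by group, cmul, ← hc]
  rw [Matrix.scalar_apply, ← Matrix.smul_eq_diagonal_mul]

variable (p) in
theorem core {G : Type v} [Group G] [Finite G] (hn : 3 ≤ n)
    (φ : SpecialLinearGroup (Fin n) K →* G) (hsur : Function.Surjective φ)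
    (hker : ∀ x, φ x = 1 ↔ x ∈ Subgroup.center _)
    (S : Sylow p G) (hS : (U K n).map φ = (S : Subgroup G)) :
    (groupFusionSystem (S : Subgroup G)).IsSimple p := by
  classical
  have : NeZero n := ⟨by omega⟩
  have hinj : ∀ x ∈ U K n, ∀ y ∈ U K n, φ x = φ y → x = y := by
    intro x hx y hy h
    obtain ⟨c, hc⟩ := kernel_eq hker h
    have h0 := congrFun (congrFun hc 0) 0
    rw [Matrix.smul_apply, hx.1, hy.1, smul_eq_mul, mul_one] at h0
    exact Subtype.ext (by rw [hc, ← h0, one_smul])
  have hconj : ∀ A : SpecialLinearGroup (Fin n) K, φ A ∈ Subgroup.normalizer ((S : Subgroup G) : Set G) →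
      ∀ u ∈ U K n, ∃ u' ∈ U K n, A * u = u' * A := by
    intro A hA u hu
    have h1 := (Subgroup.mem_normalizer_iff.1 hA (φ u)).1 (hS ▸ Subgroup.mem_map_of_mem φ hu)
    rw [← hS] at h1
    obtain ⟨u', hu', he⟩ := h1
    have he' : φ (u' * A) = φ (A * u) := by rw [map_mul, map_mul, he, inv_mul_cancel_right]
    obtain ⟨c, hc⟩ := kernel_eq hker he'
    exact ⟨u', hu', Subtype.ext (eq_of_conj_smul p hu hu' hc)⟩
  apply isSimple_of_closed_gen
  · intro h
    have h01 : (⟨0, by omega⟩ : Fin n) < ⟨1, by omega⟩ := Fin.lt_def.2 Nat.zero_lt_one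
    have := hinj _ (transvection_mem_U (F := K) h01 1) _
      (one_mem _) (by
        rw [map_one]
        have hm : φ (SpecialLinearGroup.transvection h01.ne (1 : K)) ∈ (S : Subgroup G) :=
          hS ▸ Subgroup.mem_map_of_mem φ (transvection_mem_U h01 1)
        rwa [h, Subgroup.mem_bot] at hm)
    have := congrArg (fun X : SpecialLinearGroup (Fin n) K => X.1 ⟨0, by omega⟩ ⟨1, by omega⟩) this
    simp [SpecialLinearGroup.transvection_coe] at this
  · intro T hT hne
    obtain ⟨z, hzT, hz1, hzS, hzc⟩ := exists_central_mem hT hne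
    rw [← hS] at hzS
    obtain ⟨A, hA, rfl⟩ := hzS
    have hcomm : ∀ u ∈ U K n, u * A = A * u := fun u hu =>
      hinj _ (mul_mem hu hA) _ (mul_mem hA hu) (by
        rw [map_mul, map_mul]; exact hzc _ (hS ▸ Subgroup.mem_map_of_mem φ hu))
    obtain ⟨i, j, hij, hne'⟩ : ∃ i j, i < j ∧ A.1 i j ≠ 0 := by
      by_contra! hall
      apply hz1
      rw [show A = 1 from ?_, map_one]
      refine Subtype.ext ?_
      ext a b
      rcases lt_trichotomy a b with h | rfl | h
      · simp [hall a b h, h.ne]
      · simp [hA.1 a]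
      · simp [hA.2 a b h, h.ne']
    have hAt : A = SpecialLinearGroup.transvection hij.ne (A.1 i j) := by
      refine Subtype.ext ?_
      ext a b
      rw [transvection_apply]
      rcases lt_trichotomy a b with h | rfl | h
      · rw [if_neg h.ne, zero_add]
        by_cases hab : i = a ∧ j = b
        · rw [if_pos hab, hab.1, hab.2]
        · rw [if_neg hab]
          by_contra h0
          obtain ⟨h1, h2⟩ := comm_U hA hcomm h h0
          obtain ⟨h3, h4⟩ := comm_U hA hcomm hij hne'
          exact hab ⟨Fin.ext (by omega), Fin.ext (by omega)⟩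
      · rw [if_pos rfl, if_neg (fun e => hij.ne (e.1.trans e.2.symm)), add_zero, hA.1]
      · rw [if_neg h.ne', if_neg, add_zero, hA.2 a b h]
        rintro ⟨rfl, rfl⟩
        exact absurd hij h.not_gt
    refine le_antisymm hT.1 ?_
    rw [← hS, Subgroup.map_le_iff_le_comap]
    refine U_le _ fun k l hkl c => ?_
    rw [Subgroup.mem_comap]
    by_cases hc : c = 0
    · rw [hc, show SpecialLinearGroup.transvection hkl.ne (0 : K) = 1 from
        Subtype.ext (by simp [SpecialLinearGroup.transvection_coe]), map_one]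
      exact one_mem _
    obtain ⟨g, hg⟩ := isConj_iff.1 (isConj_transvection hn hij.ne hkl.ne hne' hc)
    rw [← hAt] at hg
    have hm : φ g * φ A * (φ g)⁻¹ ∈ (S : Subgroup G) := by
      rw [← map_inv, ← map_mul, ← map_mul, hg]
      exact hS ▸ Subgroup.mem_map_of_mem φ (transvection_mem_U hkl c)
    have := mem_of_conj hT hzT hm
    rwa [← map_inv, ← map_mul, ← map_mul, hg] at this
  · intro g hg
    obtain ⟨A, rfl⟩ := hsur g
    have hg' : φ A⁻¹ ∈ Subgroup.normalizer ((S : Subgroup G) : Set G) := map_inv φ A ▸ inv_mem hg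
    have hup : ∀ i j, j < i → A.1 i j = 0 := upper_of_conj fun u hu => by
      obtain ⟨u', hu', he⟩ := hconj _ hg' u hu
      exact ⟨u', hu', by rw [inv_mul_eq_iff_eq_mul] at he; rw [he, mul_assoc]; simp⟩
    let D : Fin n → K := fun i => A.1 i i
    have hD : (Matrix.diagonal D).det = 1 := by
      rw [Matrix.det_diagonal, ← Matrix.det_of_isUpperTriangular (fun i j h => hup i j h)]
      exact A.2
    have hD0 : ∀ i, D i ≠ 0 := fun i h0 => by
      rw [Matrix.det_diagonal, Finset.prod_eq_zero (Finset.mem_univ i) h0] at hD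
      exact zero_ne_one hD
    have hu : IsUnitri (A.1 * Matrix.diagonal fun i => (D i)⁻¹) := by
      refine ⟨fun i => ?_, fun i j h => ?_⟩
      · rw [Matrix.mul_diagonal]; exact mul_inv_cancel₀ (hD0 i)
      · rw [Matrix.mul_diagonal, hup i j h, zero_mul]
    let u : SpecialLinearGroup (Fin n) K := ⟨_, isUnitri_det hu⟩
    let d : SpecialLinearGroup (Fin n) K := ⟨Matrix.diagonal D, hD⟩
    have hAud : A = u * d := by
      refine Subtype.ext ?_
      show A.1 = A.1 * Matrix.diagonal (fun i => (D i)⁻¹) * Matrix.diagonal D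
      rw [mul_assoc, Matrix.diagonal_mul_diagonal]
      simp [hD0]
    rw [hAud, map_mul]
    refine mul_mem (Subgroup.subset_closure (Or.inl (hS ▸ Subgroup.mem_map_of_mem φ hu))) ?_
    rw [show d = _ from diag_eq_diag2n_prod (⟨1, by omega⟩ : Fin n) D hD, ← Subgroup.mem_comap]
    refine Subgroup.noncommProd_mem _ _ fun i hi => ?_
    rw [Subgroup.mem_comap, dif_pos (Finset.mem_filter.1 hi).2]
    refine Subgroup.subset_closure (Or.inr (Or.inr ?_))
    have hi1 : i ≠ (⟨1, by omega⟩ : Fin n) := (Finset.mem_filter.1 hi).2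
    have hi1' : (i : ℕ) ≠ 1 := fun e => hi1 (Fin.ext e)
    obtain ⟨k, hk0, hkn, hk1, hk2⟩ : ∃ k : ℕ, 0 < k ∧ k < n ∧
        (k ≤ (i : ℕ) → k ≤ 1) ∧ (k ≤ 1 → k ≤ (i : ℕ)) := by
      by_cases h : (i : ℕ) = 0
      · exact ⟨n - 1, by omega, by omega, by omega, by omega⟩
      · exact ⟨1, by omega, by omega, by omega, by omega⟩
    have hRN : ∀ x ∈ P K k, φ x ∈ Subgroup.normalizer ((R K k).map φ : Set G) := by
      intro x hx
      refine mem_normalizer_of_conj_mem fun y hy => ?_
      obtain ⟨r, hr, rfl⟩ := hy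
      rw [← map_inv, ← map_mul, ← map_mul]
      exact Subgroup.mem_map_of_mem φ (conj_R hx hr)
    have htm : ∀ c : K, φ (SpecialLinearGroup.transvection hi1 c) ∈ Subgroup.closure
        {a : G | a ∈ Subgroup.normalizer ((R K k).map φ : Set G) ∧ ∃ m, orderOf a = p ^ m} :=
      fun c => by
      refine Subgroup.subset_closure ⟨hRN _ (transvection_mem_P hi1 hk1 c), ?_⟩
      obtain ⟨m, -, hm⟩ := (Nat.dvd_prime_pow (Fact.out : p.Prime) (m := 1)).1
        (show orderOf (φ (SpecialLinearGroup.transvection hi1 c)) ∣ p ^ 1 by rw [pow_one]; exact orderOf_dvd_of_pow_eq_one (by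
          rw [← map_pow, transvection_pow_char, map_one]))
      exact ⟨m, hm⟩
    have htm' : ∀ c : K, φ (SpecialLinearGroup.transvection hi1.symm c) ∈ Subgroup.closure
        {a : G | a ∈ Subgroup.normalizer ((R K k).map φ : Set G) ∧ ∃ m, orderOf a = p ^ m} :=
      fun c => by
      refine Subgroup.subset_closure ⟨hRN _ (transvection_mem_P hi1.symm hk2 c), ?_⟩
      obtain ⟨m, -, hm⟩ := (Nat.dvd_prime_pow (Fact.out : p.Prime) (m := 1)).1
        (show orderOf (φ (SpecialLinearGroup.transvection hi1.symm c)) ∣ p ^ 1 by rw [pow_one]; exact orderOf_dvd_of_pow_eq_one (by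
          rw [← map_pow, transvection_pow_char, map_one]))
      exact ⟨m, hm⟩
    refine ⟨mem_normalizer_of_conj_mem fun y hy => ?_, (R K k).map φ, ?_, ?_, ?_, ?_, ?_⟩
    · rw [← hS] at hy ⊢
      obtain ⟨v, hv, rfl⟩ := hy
      rw [← map_inv, ← map_mul, ← map_mul]
      exact Subgroup.mem_map_of_mem φ (diag_conj_mem_U (diag2n_coe _ _ _) hv)
    · rw [← hS]; exact Subgroup.map_mono (R_le_U k)
    · rw [← hS]
      rintro _ ⟨v, hv, rfl⟩
      exact hRN v (U_le_P k hv)
    · intro x hx
      obtain ⟨B, rfl⟩ := hsur x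
      have hBc : ∀ r ∈ R K k, r * B = B * r := fun r hr => by
        have h1 : φ (r * B) = φ (B * r) := by
          rw [map_mul, map_mul]
          exact Subgroup.mem_centralizer_iff.1 hx _ (Subgroup.mem_map_of_mem φ hr)
        obtain ⟨c, hc⟩ := kernel_eq hker h1
        exact (Subtype.ext (eq_of_conj_smul p (R_le_U k hr) (R_le_U k hr) hc)).symm
      obtain ⟨c, hc0, hc⟩ := center_mul_R_of_comm hk0 hkn hBc
      have hdiag : ∀ a : Fin n, B.1 a a = c := fun a => by
        rw [hc a a (by omega), Matrix.one_apply_eq, mul_one]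
      have hlow : ∀ a b : Fin n, b < a → B.1 a b = 0 := fun a b h => by
        rw [Fin.lt_def] at h
        rw [hc a b (by omega), Matrix.one_apply_ne (fun e => by subst e; omega), mul_zero]
      have hcn : c ^ n = 1 := by
        have := B.2
        rw [Matrix.det_of_isUpperTriangular (fun a b h => hlow a b h),
          Finset.prod_congr rfl (fun a _ => hdiag a)] at this
        simpa using this
      let z : SpecialLinearGroup (Fin n) K := ⟨Matrix.scalar (Fin n) c, det_eq_one_center hcn⟩
      have hz : z ∈ Subgroup.center _ :=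
        Matrix.SpecialLinearGroup.mem_center_iff.2 ⟨c, by simpa using hcn, rfl⟩
      refine ⟨z⁻¹ * B, fun a b hab => ?_, by rw [map_mul, map_inv, (hker z).2 hz, inv_one, one_mul]⟩
      have h1 : B.1 = c • (z⁻¹ * B).1 := by
        conv_lhs => rw [show B = z * (z⁻¹ * B) by group, cmul]
        show Matrix.scalar (Fin n) c * _ = _
        rw [Matrix.scalar_apply, ← Matrix.smul_eq_diagonal_mul]
      have h2 := hc a b hab
      rw [h1, Matrix.smul_apply, smul_eq_mul] at h2
      exact mul_left_cancel₀ hc0 h2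
    · rw [PSLSimple.diag2n_decompose]
      refine hRN _ (mul_mem (mul_mem (mul_mem (mul_mem (mul_mem ?_ ?_) ?_) ?_) ?_) ?_) <;>
        first
          | exact transvection_mem_P hi1 hk1 _
          | exact transvection_mem_P hi1.symm hk2 _
    · rw [PSLSimple.diag2n_decompose]
      simp only [map_mul]
      refine mul_mem (mul_mem (mul_mem (mul_mem (mul_mem ?_ ?_) ?_) ?_) ?_) ?_ <;>
        first
          | exact htm _
          | exact htm' _


/-- For a finite field K of characteristic p and n ≥ 3, the p-fusion system of the projective special linear group PSL_n(K) on a Sylow p-subgroup is simple. -/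
theorem result {K : Type*} [Field K] [Fintype K] (p : ℕ) [Fact p.Prime] [CharP K p] (n : ℕ) (hn : 3 ≤ n) (S : Sylow p (Matrix.ProjectiveSpecialLinearGroup (Fin n) K)) : (Cfsg.groupFusionSystem (S : Subgroup (Matrix.ProjectiveSpecialLinearGroup (Fin n) K))).IsSimple p := by
  classical
  have : NeZero n := ⟨by omega⟩
  let π : Matrix.SpecialLinearGroup (Fin n) K →* Matrix.ProjectiveSpecialLinearGroup (Fin n) K :=
    QuotientGroup.mk' _
  have hsurπ : Function.Surjective π := QuotientGroup.mk'_surjective _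
  have hkerπ : ∀ x, π x = 1 ↔ x ∈ Subgroup.center _ := fun x => QuotientGroup.eq_one_iff x
  have : Finite (Matrix.ProjectiveSpecialLinearGroup (Fin n) K) := Finite.of_surjective π hsurπ
  have hp : IsPGroup p ((U K n).map π) := (isPGroup_U (F := K) p).map π
  have hidx : ¬ p ∣ ((U K n).map π).index := by
    obtain ⟨b, hb, hcard⟩ := card_SL_factor (F := K) (n := n) p
    have h1 := (U K n).card_mul_index
    rw [hcard] at h1
    rw [← Nat.eq_of_mul_eq_mul_left Nat.card_pos h1] at hb
    exact fun hd => hb (hd.trans (Subgroup.index_map_dvd (U K n) hsurπ))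
  obtain ⟨g, hg⟩ := MulAction.exists_smul_eq (Matrix.ProjectiveSpecialLinearGroup (Fin n) K)
    (hp.toSylow hidx) S
  refine core p hn ((MulAut.conj g).toMonoidHom.comp π)
    (fun y => ?_) (fun x => ?_) S ?_
  · obtain ⟨x, hx⟩ := hsurπ (MulAut.conj g⁻¹ y)
    exact ⟨x, by rw [MonoidHom.comp_apply, hx]; simp [mul_assoc]⟩
  · rw [MonoidHom.comp_apply, MulEquiv.coe_toMonoidHom, map_eq_one_iff _ (MulAut.conj g).injective,
      hkerπ]
  · rw [← hg, ← Subgroup.map_map]
    rfl

end Cfsg.Agent.S5163
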