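import Mathlib
import Cfsg.Statements.S5164

set_option autoImplicit false
open Cfsg

namespace Cfsg.Agent.S5164

section
open Equiv Equiv.Perm

variable {p : ℕ} [hp : Fact p.Prime]

/-- The permutations `(i, x) ↦ (i + c, x + v i)` of `ZMod p × ZMod p`. -/
def wr (p : ℕ) : Subgroup (Perm (ZMod p × ZMod p)) where
  carrier := {σ | ∃ (c : ZMod p) (v : ZMod p → ZMod p), ∀ i x, σ (i, x) = (i + c, x + v i)}
  one_mem' := ⟨0, 0, fun i x => by simp⟩
  mul_mem' := by
    rintro σ τ ⟨c, v, hσ⟩ ⟨d, w, hτ⟩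
    refine ⟨d + c, fun i => w i + v (i + d), fun i x => ?_⟩
    rw [Perm.mul_apply, hτ, hσ, add_assoc, add_assoc]
  inv_mem' := by
    rintro σ ⟨c, v, hσ⟩
    refine ⟨-c, fun i => - v (i - c), fun i x => ?_⟩
    rw [Perm.inv_eq_iff_eq, hσ]
    simp [sub_eq_add_neg]

theorem wr_isPGroup (p : ℕ) [hp : Fact p.Prime] : IsPGroup p (wr p) := by
  rintro ⟨σ, c, v, hσ⟩
  have h1 : ∀ m : ℕ, ∃ w : ZMod p → ZMod p, ∀ i x, (σ ^ m) (i, x) = (i + m * c, x + w i) := by
    intro m
    induction m with
    | zero => exact ⟨0, fun i x => by simp⟩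
    | succ m ih =>
      obtain ⟨w, hw⟩ := ih
      refine ⟨fun i => v i + w (i + c), fun i x => ?_⟩
      rw [pow_succ, Perm.mul_apply, hσ, hw, add_assoc, add_assoc]
      push_cast
      ring_nf
  obtain ⟨w, hw⟩ := h1 p
  have h2 : ∀ m : ℕ, ∀ i x, ((σ ^ p) ^ m) (i, x) = (i, x + m * w i) := by
    intro m
    induction m with
    | zero => intro i x; simp
    | succ m ih =>
      intro i x
      rw [pow_succ, Perm.mul_apply, hw, ZMod.natCast_self, zero_mul, add_zero, ih]
      push_cast
      ring_nf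
  refine ⟨2, Subtype.ext (Equiv.ext fun y => ?_)⟩
  obtain ⟨i, x⟩ := y
  show (σ ^ p ^ 2) (i, x) = (i, x)
  rw [sq, pow_mul, h2, ZMod.natCast_self, zero_mul, add_zero]

theorem wr_noncomm (p : ℕ) [hp : Fact p.Prime] : ∃ a b : wr p, a * b ≠ b * a := by
  let a : Perm (ZMod p × ZMod p) := Equiv.prodCongr (Equiv.addRight (1 : ZMod p)) (Equiv.refl _)
  let b : Perm (ZMod p × ZMod p) :=
    ⟨fun y => (y.1, y.2 + if y.1 = 0 then 1 else 0), fun y => (y.1, y.2 - if y.1 = 0 then 1 else 0),
      fun y => by simp, fun y => by simp⟩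
  refine ⟨⟨a, 1, 0, fun i x => by simp [a]⟩, ⟨b, 0, fun i => if i = 0 then 1 else 0, fun i x => by simp [b]⟩,
    fun h => ?_⟩
  have h' := congrArg (fun σ : wr p => (σ : Perm (ZMod p × ZMod p)) (0, 0)) h
  simp [a, b] at h'

/-- Elements of odd order are even permutations. -/
theorem sign_eq_one_of_isPGroup {α : Type*} [Fintype α] [DecidableEq α] (hp2 : p ≠ 2)
    {G : Type*} [Group G] (hG : IsPGroup p G) (f : G →* Perm α) (g : G) : sign (f g) = 1 := by
  obtain ⟨k, hk⟩ := hG g
  have h := congrArg (fun y => sign (f y)) hk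
  simp only [map_pow, map_one] at h
  rcases Int.units_eq_one_or (sign (f g)) with h1 | h1
  · exact h1
  · rw [h1, Odd.neg_one_pow ((hp.out.odd_of_ne_two hp2).pow)] at h
    exact absurd h (by decide)

theorem sylow_card_le {n : ℕ} (hn : n < p ^ 2) (S : Sylow p (alternatingGroup (Fin n))) :
    Nat.card S ≤ p ^ (n / p) := by
  obtain ⟨k, hk⟩ := IsPGroup.iff_card.1 S.isPGroup'
  have hd : p ^ k ∣ n.factorial := by
    have h1 : Nat.card (Perm (Fin n)) = n.factorial := by rw [Nat.card_perm, Nat.card_fin]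
    rw [← hk, ← h1]
    exact dvd_trans (Subgroup.card_subgroup_dvd_card _) (Subgroup.card_subgroup_dvd_card _)
  rw [hk]
  refine Nat.pow_le_pow_right hp.out.pos ?_
  rw [padicValNat_dvd_iff_le (Nat.factorial_ne_zero n)] at hd
  refine hd.trans (le_of_eq ?_)
  have hlog : Nat.log p n < 2 := by
    rcases Nat.eq_zero_or_pos n with h | h
    · simp [h]
    · exact Nat.log_lt_of_lt_pow h.ne' hn
  rw [padicValNat_factorial hlog]
  simp

theorem comm_of_lt {n : ℕ} (hn : 6 ≤ n) (h : n < p ^ 2) (S : Sylow p (alternatingGroup (Fin n))) :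
    IsMulCommutative S := by
  have hp2 : p ≠ 2 := fun e => by subst e; omega
  set m := n / p with hm
  haveI : NeZero p := ⟨hp.out.ne_zero⟩
  obtain ⟨e⟩ : Nonempty (Fin m × ZMod p ↪ Fin n) := Function.Embedding.nonempty_of_card_le (by
    rw [Fintype.card_prod, Fintype.card_fin, Fintype.card_fin, ZMod.card]
    exact Nat.div_mul_le_self n p)
  let t : Multiplicative (Fin m → ZMod p) →* Perm (Fin m × ZMod p) :=
    MonoidHom.mk' (fun v => ⟨fun y => (y.1, v.toAdd y.1 + y.2), fun y => (y.1, -v.toAdd y.1 + y.2),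
      fun y => by simp, fun y => by simp⟩) fun u v => Equiv.ext fun y => by simp [add_assoc]
  let f : Multiplicative (Fin m → ZMod p) →* Perm (Fin n) := (viaEmbeddingHom e).comp t
  have hcard : Nat.card (Multiplicative (Fin m → ZMod p)) = p ^ m := by
    rw [Nat.card_congr Multiplicative.toAdd, Nat.card_pi]
    simp
  have hG : IsPGroup p (Multiplicative (Fin m → ZMod p)) := IsPGroup.of_card hcard
  have hinj : Function.Injective f := by
    refine (viaEmbeddingHom_injective e).comp fun u v huv => ?_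
    apply Multiplicative.toAdd.injective
    funext i
    have := congrArg (fun σ : Perm (Fin m × ZMod p) => (σ (i, 0)).2) huv
    simpa [t] using this
  let g : Multiplicative (Fin m → ZMod p) →* alternatingGroup (Fin n) :=
    f.codRestrict _ fun v => mem_alternatingGroup.2 (sign_eq_one_of_isPGroup hp2 hG f v)
  have hginj : Function.Injective g := fun u v huv => hinj (congrArg Subtype.val huv)
  have hr : IsPGroup p g.range := hG.of_equiv (MonoidHom.ofInjective hginj)
  obtain ⟨T, hT⟩ := hr.exists_le_sylow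
  have heq : g.range = T := Subgroup.eq_of_le_of_card_ge hT (by
    refine (sylow_card_le h T).trans (le_of_eq ?_)
    rw [← Nat.card_congr (MonoidHom.ofInjective hginj).toEquiv, hcard])
  have hcT : ∀ a b : T, a * b = b * a := by
    rintro ⟨a, ha⟩ ⟨b, hb⟩
    obtain ⟨u, rfl⟩ := heq.ge ha
    obtain ⟨v, rfl⟩ := heq.ge hb
    exact Subtype.ext (show g u * g v = g v * g u by rw [← map_mul, ← map_mul, mul_comm])
  refine IsMulCommutative.of_comm fun a b => ?_
  apply (S.equiv T).injective
  rw [map_mul, map_mul]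
  exact hcT _ _

theorem noncomm_of_hom {n : ℕ} {G : Type*} [Group G] (hG : IsPGroup p G) (hne : ∃ a b : G, a * b ≠ b * a)
    (g : G →* alternatingGroup (Fin n)) (hginj : Function.Injective g)
    (S : Sylow p (alternatingGroup (Fin n))) : ¬ IsMulCommutative S := by
  intro hS
  obtain ⟨T, hT⟩ := (hG.of_equiv (MonoidHom.ofInjective hginj)).exists_le_sylow
  obtain ⟨a, b, hab⟩ := hne
  refine hab (hginj ?_)
  have h := congrArg (fun y => ((S.equiv T y : T) : alternatingGroup (Fin n)))
    (isMulCommutative_iff.1 hS ((S.equiv T).symm ⟨g a, hT ⟨a, rfl⟩⟩) ((S.equiv T).symm ⟨g b, hT ⟨b, rfl⟩⟩))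
  simpa using h

theorem noncomm_of_ge {n : ℕ} (hn : 6 ≤ n) (h : p ^ 2 ≤ n) (S : Sylow p (alternatingGroup (Fin n))) :
    ¬ IsMulCommutative S := by
  haveI : NeZero p := ⟨hp.out.ne_zero⟩
  by_cases hp2 : p = 2
  · subst hp2
    let sgn : Perm (Fin 2) ≃* ℤˣ := MulEquiv.ofBijective sign (by decide)
    let τ : Perm (ZMod 2 × ZMod 2) →* Perm (Fin 2) := sgn.symm.toMonoidHom.comp sign
    obtain ⟨e⟩ : Nonempty ((ZMod 2 × ZMod 2) ⊕ Fin 2 ↪ Fin n) :=
      Function.Embedding.nonempty_of_card_le (by simpa using hn)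
    let f : wr 2 →* Perm (Fin n) := (viaEmbeddingHom e).comp
      ((sumCongrHom _ _).comp (((MonoidHom.id _).prod τ).comp (wr 2).subtype))
    have hev : ∀ w, sign (f w) = 1 := by
      intro w
      show sign (viaEmbedding (Perm.sumCongr (w : Perm (ZMod 2 × ZMod 2)) (τ w)) e) = 1
      rw [viaEmbedding, sign_extendDomain, sign_sumCongr]
      show sign (w : Perm (ZMod 2 × ZMod 2)) * sgn (sgn.symm (sign (w : Perm (ZMod 2 × ZMod 2)))) = 1
      rw [MulEquiv.apply_symm_apply, Int.units_mul_self]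
    refine noncomm_of_hom (wr_isPGroup 2) (wr_noncomm 2) (f.codRestrict _ fun w => mem_alternatingGroup.2 (hev w))
      (fun u v huv => ?_) S
    have h1 : ((MonoidHom.id _).prod τ) (u : Perm (ZMod 2 × ZMod 2)) = ((MonoidHom.id _).prod τ) v :=
      sumCongrHom_injective (viaEmbeddingHom_injective e (congrArg Subtype.val huv))
    exact Subtype.ext (congrArg Prod.fst h1)
  · obtain ⟨e⟩ : Nonempty (ZMod p × ZMod p ↪ Fin n) :=
      Function.Embedding.nonempty_of_card_le (by simpa [sq] using h)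
    let f : wr p →* Perm (Fin n) := (viaEmbeddingHom e).comp (wr p).subtype
    exact noncomm_of_hom (wr_isPGroup p) (wr_noncomm p)
      (f.codRestrict _ fun w => mem_alternatingGroup.2 (sign_eq_one_of_isPGroup hp2 (wr_isPGroup p) f w))
      (fun u v huv => Subtype.ext (viaEmbeddingHom_injective e (congrArg Subtype.val huv))) S

end

/-- For n ≥ 6 and a prime p, a nontrivial Sylow p-subgroup of the alternating group of degree n is abelian if and only if n < p². -/
theorem result (n p : ℕ) (hn : 6 ≤ n) [Fact p.Prime] (S : Sylow p (alternatingGroup (Fin n))) (hS : (S : Subgroup (alternatingGroup (Fin n))) ≠ ⊥) : IsMulCommutative S ↔ n < p ^ 2 := by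
  refine ⟨fun h => ?_, fun h => comm_of_lt hn h S⟩
  by_contra hc
  exact noncomm_of_ge hn (not_lt.1 hc) S h

end Cfsg.Agent.S5164
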