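import Cfsg.Statements.S5165
import Cfsg.Agent.Lib.AltFusionStab
import Cfsg.Agent.Lib.AltFusionTwo
import Cfsg.Agent.Lib.SylowTwoSymAlt

set_option autoImplicit false
open Cfsg

namespace Cfsg.Agent.S5165

open Equiv Equiv.Perm Cfsg.FusionSystem Cfsg.Agent.AltFusionModel Cfsg.Agent.AltFusionChunk
  Cfsg.Agent.FusionSysBasic Cfsg.Agent.FusionSysGroup

theorem exists_frame {n p : ℕ} [hp : Fact p.Prime] (hodd : p ≠ 2) (hnp : p ^ 2 ≤ n)
    (hb : n % p ≤ 1) (S : Sylow p (alternatingGroup (Fin n))) :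
    ∃ (ι : Fin (n / p) × ZMod p ↪ Fin n) (ε : ZMod p ↪ Fin (n / p)),
      (∀ u v, u ∉ Set.range ι → v ∉ Set.range ι → u = v) ∧
      (∀ b, Perm.viaEmbeddingHom ι (Tr (n / p) p b) ∈
        (S : Subgroup (alternatingGroup (Fin n))).map (alternatingGroup (Fin n)).subtype) ∧
      Perm.viaEmbeddingHom ι (Pp (n / p) p (sh ε)) ∈
        (S : Subgroup (alternatingGroup (Fin n))).map (alternatingGroup (Fin n)).subtype := by
  have hm : p ≤ n / p := (Nat.le_div_iff_mul_le hp.out.pos).2 (by rw [← pow_two]; exact hnp)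
  have hdm := Nat.div_add_mod n p
  set m := n / p with hmdef
  let ε : ZMod p ↪ Fin m :=
    (Fintype.equivFinOfCardEq (ZMod.card p)).toEmbedding.trans (Fin.castLEEmb hm)
  let e : Fin m × ZMod p ≃ Fin (p * m) := Fintype.equivFinOfCardEq (by
    rw [Fintype.card_prod, Fintype.card_fin, ZMod.card, mul_comm])
  let e₀ : Fin m × ZMod p ↪ Fin n := e.toEmbedding.trans (Fin.castLEEmb (by omega))
  have hcov₀ : ∀ u v, u ∉ Set.range e₀ → v ∉ Set.range e₀ → u = v := by
    have hval : ∀ u, u ∉ Set.range e₀ → p * m ≤ u.1 := by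
      intro u hu
      by_contra h
      exact hu ⟨e.symm ⟨u.1, by omega⟩, Fin.ext (by simp [e₀])⟩
    intro u v hu hv
    have := hval u hu
    have := hval v hv
    have := u.2
    have := v.2
    exact Fin.ext (by omega)
  have hH : IsPGroup p (Subgroup.zpowers (Pp m p (sh ε))) := by
    rintro ⟨y, hy⟩
    obtain ⟨j, rfl⟩ := Subgroup.mem_zpowers_iff.1 hy
    refine ⟨1, Subtype.ext ?_⟩
    show (Pp m p (sh ε) ^ j) ^ p ^ 1 = 1
    rw [pow_one, ← zpow_natCast, ← _root_.zpow_mul, mul_comm, _root_.zpow_mul, zpow_natCast,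
      ← map_pow, sh_pow, ZMod.natCast_self, Equiv.addLeft_zero,
      show Perm.viaEmbeddingHom ε (1 : Perm (ZMod p)) = 1 from map_one _, map_one, _root_.one_zpow]
  have hX : IsPGroup p ((Subgroup.zpowers (Pp m p (sh ε)) ⊔ (Tr m p).range).map
      (Perm.viaEmbeddingHom e₀)) := by
    refine (hH.to_sup_of_normal_right' isPGroup_Tr ?_).map _
    rw [Subgroup.zpowers_le]
    have := mono_normalizes (sh ε) (1 : Fin m → (ZMod p)ˣ) (1 : Multiplicative (Fin m → ZMod p))
    rwa [map_one, map_one, mul_one, mul_one] at this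
  set X := (Subgroup.zpowers (Pp m p (sh ε)) ⊔ (Tr m p).range).map (Perm.viaEmbeddingHom e₀)
  obtain ⟨g, hg⟩ := exists_cj_le S
    (hX.comap_of_injective (alternatingGroup (Fin n)).subtype Subtype.val_injective)
  refine ⟨e₀.trans (g : Perm (Fin n)).toEmbedding, ε, ?_, ?_⟩
  · intro u v hu hv
    have key : ∀ w, w ∉ Set.range (e₀.trans (g : Perm (Fin n)).toEmbedding) →
        (g : Perm (Fin n)).symm w ∉ Set.range e₀ := fun w hw ⟨z, hz⟩ => hw ⟨z, by
      show (g : Perm (Fin n)) (e₀ z) = w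
      rw [hz, Equiv.apply_symm_apply]⟩
    exact (g : Perm (Fin n)).symm.injective (hcov₀ _ _ (key u hu) (key v hv))
  have key : ∀ M, M ∈ Subgroup.zpowers (Pp m p (sh ε)) ⊔ (Tr m p).range →
      Perm.viaEmbeddingHom (e₀.trans (g : Perm (Fin n)).toEmbedding) M ∈
        (S : Subgroup (alternatingGroup (Fin n))).map (alternatingGroup (Fin n)).subtype := by
    intro M hM
    have hx : Perm.viaEmbeddingHom e₀ M ∈ X := Subgroup.mem_map_of_mem _ hM
    have hA := AltFusionClosed.pgroup_le_alt hodd hX hx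
    refine ⟨_, hg ⟨_, hA⟩ hx, ?_⟩
    rw [AltFusionStab.via_conj]
    rfl
  exact ⟨fun b => key _ (Subgroup.mem_sup_right ⟨b, rfl⟩),
    key _ (Subgroup.mem_sup_left (Subgroup.mem_zpowers _))⟩

theorem dvd_card {n p : ℕ} [hp : Fact p.Prime] (hn : 6 ≤ n) (hnp : p ^ 2 ≤ n) :
    p ∣ Nat.card (alternatingGroup (Fin n)) := by
  have : Nontrivial (Fin n) := Fin.nontrivial_iff_two_le.2 (by omega)
  have h := two_mul_nat_card_alternatingGroup (α := Fin n)
  rw [Nat.card_perm, Nat.card_fin] at h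
  by_cases h2 : p = 2
  · subst h2
    have h4 : 4 ∣ n.factorial := Nat.dvd_factorial (by norm_num) (by omega)
    omega
  · have hd : p ∣ n.factorial :=
      Nat.dvd_factorial hp.out.pos ((Nat.le_self_pow two_ne_zero p).trans hnp)
    rw [← h] at hd
    rcases hp.out.dvd_mul.1 hd with hd' | hd'
    · exact absurd ((Nat.prime_dvd_prime_iff_eq hp.out Nat.prime_two).1 hd') h2
    · exact hd'

/-- For n ≥ 6, a prime p with p² ≤ n, and n congruent to 0 or 1 modulo p, the p-fusion system of the alternating group of degree n on a Sylow p-subgroup is simple. -/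
theorem result (n p : ℕ) (hn : 6 ≤ n) [Fact p.Prime] (hnp : p ^ 2 ≤ n) (hb : n % p ≤ 1) (S : Sylow p (alternatingGroup (Fin n))) : (Cfsg.groupFusionSystem (S : Subgroup (alternatingGroup (Fin n)))).IsSimple p := by
  have hS1 := S.ne_bot_of_dvd_card (dvd_card hn hnp)
  by_cases h2 : p = 2
  · subst h2
    refine FusionSimpleExtend.isSimple_of_closed_stab hS1
      (fun T hT hne => AltFusionTwo.closed_top_two hT hne) fun E _ _ g hg => ?_
    rw [SylowTwoSymAlt.alternating_normalizer_eq (by rwa [Fintype.card_fin]) S] at hg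
    exact mor_cj le_rfl hg
  obtain ⟨ι, ε, hcov, hTr, hsh⟩ := exists_frame h2 hnp hb S
  have hm : 3 ≤ n / p := by
    have h3 := (Fact.out : p.Prime).two_le
    have := (Nat.le_div_iff_mul_le (Fact.out : p.Prime).pos).2 (show p * p ≤ n by rwa [← pow_two])
    omega
  exact FusionSimpleExtend.isSimple_of_closed_stab hS1
    (fun T hT hne => AltFusionClosed.closed_top hT ι h2 hm hcov hTr hne)
    fun E hsat hinv g hg => AltFusionStab.mor_normalizer ι ε hTr hsh hcov h2 hsat hinv hg

end Cfsg.Agent.S5165
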