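import Cfsg.Statements.S5166
import Cfsg.Agent.Lib.GolayM24
import Cfsg.Agent.Lib.FusionSimpleCrit

set_option autoImplicit false
open Cfsg
open scoped Pointwise

namespace Cfsg.Agent.S5166

open Cfsg.Agent.GolayBasic Cfsg.Agent.GolayPerm

/-! ### computing with encoded permutations -/

/-- image of a point number under a product of encoded permutations -/
def ev (L : List ℕ) (i : ℕ) : ℕ := L.foldr pimg i

theorem prod_apply (L : List ℕ) (hv : L.all valid = true) {i : ℕ} (hi : i < 24) :
    ev L i < 24 ∧ (L.map permOf).prod (pt i) = pt (ev L i) := by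
  induction L with
  | nil => exact ⟨hi, rfl⟩
  | cons P L ih =>
    rw [List.all_cons, Bool.and_eq_true] at hv
    obtain ⟨h1, h2⟩ := ih hv.2
    refine ⟨pimg_lt hv.1 h1, ?_⟩
    rw [List.map_cons, List.prod_cons, Equiv.Perm.mul_apply, h2, permOf_apply hv.1, pfun, idx_pt h1]
    rfl

/-- two products of encoded permutations agree -/
def agree (L M : List ℕ) : Bool :=
  L.all valid && M.all valid && pts.all fun i => ev L i == ev M i

theorem prod_eq_of_agree {L M : List ℕ} (h : agree L M = true) :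
    (L.map permOf).prod = (M.map permOf).prod := by
  simp only [agree, Bool.and_eq_true] at h
  obtain ⟨⟨hL, hM⟩, hp⟩ := h
  refine Equiv.ext fun p => ?_
  have h' := (List.all_eq_true.1 hp) (idx p) (mem_pts.2 (idx_lt p))
  rw [beq_iff_eq] at h'
  rw [← pt_idx p, (prod_apply L hL (idx_lt p)).2, (prod_apply M hM (idx_lt p)).2, h']

/-- the test for membership in the smallest Mathieu group -/
def inM11 (P : ℕ) : Bool := good P && (pmask P 340831 == 340831) && (pimg P 0 == 0)

theorem permOf_mem_M11 {P : ℕ} (h : inM11 P = true) : permOf P ∈ Spor.M11 := by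
  simp only [inM11, Bool.and_eq_true, beq_iff_eq] at h
  obtain ⟨⟨hg, hm⟩, h0⟩ := h
  have hv := valid_of_good hg
  refine ⟨GolayM24.mem_M12.2 ⟨permOf_mem_M24 hg, by rw [smul_mset hv, hm]⟩, ?_⟩
  show permOf P (some 0) = some 0
  rw [← GolayM24.pt_zero, permOf_apply hv, pfun, idx_pt (by norm_num : (0 : ℕ) < 24), h0]

def cr : ℕ := 233950865888990746377447415904013344
def ct : ℕ := 735500604421669808992593446508235808
def c1 : ℕ := 944576703234065857180591671912828960
def c2 : ℕ := 233233386906768391987032901617288256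

noncomputable def er : Spor.M11 := ⟨permOf cr, permOf_mem_M11 (by decide +kernel)⟩
noncomputable def et : Spor.M11 := ⟨permOf ct, permOf_mem_M11 (by decide +kernel)⟩
noncomputable def e1 : Spor.M11 := ⟨permOf c1, permOf_mem_M11 (by decide +kernel)⟩
noncomputable def e2 : Spor.M11 := ⟨permOf c2, permOf_mem_M11 (by decide +kernel)⟩

/-! ### the abstract argument -/

/-- The data of a semidihedral group of order 16 with one class of involutions. -/
structure Data {G : Type*} [Group G] (r t : G) : Prop where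
  r8 : r ^ 8 = 1
  r4 : r ^ 4 ≠ 1
  t2 : t ^ 2 = 1
  tr : t * r * t⁻¹ = r ^ 3
  conj1 : ∃ g : G, g * r ^ 4 * g⁻¹ = t
  conj2 : ∃ g : G, g * r ^ 2 * g⁻¹ = r * t

theorem Data.map {G H : Type*} [Group G] [Group H] (e : G ≃* H) {r t : G} (h : Data r t) :
    Data (e r) (e t) where
  r8 := by rw [← map_pow, h.r8, map_one]
  r4 := by rw [← map_pow]; exact fun h' => h.r4 (e.injective (h'.trans (map_one e).symm))
  t2 := by rw [← map_pow, h.t2, map_one]
  tr := by rw [← map_pow, ← map_inv, ← map_mul, ← map_mul, h.tr]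
  conj1 := by
    obtain ⟨g, hg⟩ := h.conj1
    exact ⟨e g, by rw [← map_pow, ← map_inv, ← map_mul, ← map_mul, hg]⟩
  conj2 := by
    obtain ⟨g, hg⟩ := h.conj2
    exact ⟨e g, by rw [← map_pow, ← map_inv, ← map_mul, ← map_mul, hg, map_mul]⟩

theorem data_M11 : Data er et where
  r8 := Subtype.ext (by
    simpa [er, pow_succ, mul_assoc] using prod_eq_of_agree (L := [cr,cr,cr,cr,cr,cr,cr,cr]) (M := [])
      (by decide +kernel))
  r4 h := by
    have h' := congrArg (fun x : Spor.M11 => x.1 (pt 4)) h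
    have hc := (prod_apply [cr,cr,cr,cr] (by decide +kernel) (i := 4) (by norm_num)).2
    simp [er, pow_succ, mul_assoc] at h' hc
    rw [hc] at h'
    have := congrArg idx h'
    rw [idx_pt (by decide +kernel), idx_pt (by norm_num)] at this
    exact absurd this (by decide +kernel)
  t2 := Subtype.ext (by
    simpa [et, pow_succ, mul_assoc] using prod_eq_of_agree (L := [ct,ct]) (M := [])
      (by decide +kernel))
  tr := mul_inv_eq_iff_eq_mul.2 (Subtype.ext (by
    simpa [er, et, pow_succ, mul_assoc] using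
      prod_eq_of_agree (L := [ct,cr]) (M := [cr,cr,cr,ct]) (by decide +kernel)))
  conj1 := ⟨e1, mul_inv_eq_iff_eq_mul.2 (Subtype.ext (by
    simpa [er, et, e1, pow_succ, mul_assoc] using
      prod_eq_of_agree (L := [c1,cr,cr,cr,cr]) (M := [ct,c1]) (by decide +kernel)))⟩
  conj2 := ⟨e2, mul_inv_eq_iff_eq_mul.2 (Subtype.ext (by
    simpa [er, et, e2, pow_succ, mul_assoc] using
      prod_eq_of_agree (L := [c2,cr,cr]) (M := [cr,ct,c2]) (by decide +kernel)))⟩

section

variable {G : Type*} [Group G] {r t : G}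

theorem Data.t_inv (h : Data r t) : t⁻¹ = t :=
  inv_eq_of_mul_eq_one_right (by rw [← pow_two]; exact h.t2)

theorem Data.orderOf_r (h : Data r t) : orderOf r = 8 :=
  orderOf_eq_prime_pow (p := 2) (n := 2) h.r4 h.r8

theorem Data.r_zpow_eq (h : Data r t) (i : ℤ) : r ^ i = 1 ↔ (8 : ℤ) ∣ i := by
  rw [← orderOf_dvd_iff_zpow_eq_one, h.orderOf_r]; norm_num

theorem Data.t_notMem (h : Data r t) : t ∉ Subgroup.zpowers r := by
  rintro ⟨i, rfl⟩
  have h1 := h.tr
  have : r ^ ((3 : ℕ) : ℤ) = r ^ (1 : ℤ) := by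
    rw [zpow_natCast, zpow_one, ← h1]; group
  rw [← mul_inv_eq_one, ← zpow_neg, ← zpow_add, h.r_zpow_eq] at this
  norm_num at this

theorem Data.conj_zpow (h : Data r t) (i : ℤ) : t * r ^ i = r ^ (3 * i) * t := by
  have h1 : t * r ^ i * t⁻¹ = r ^ (3 * i) := by
    rw [← _root_.conj_zpow, h.tr, ← zpow_natCast, ← zpow_mul]; norm_num
  exact mul_inv_eq_iff_eq_mul.1 h1

/-- the group generated by the data -/
theorem Data.exists_form (h : Data r t) {s : G} (hs : s ∈ Subgroup.closure ({r, t} : Set G)) :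
    ∃ i : ℤ, s = r ^ i ∨ s = r ^ i * t := by
  induction hs using Subgroup.closure_induction with
  | mem x hx =>
    rcases hx with rfl | rfl
    · exact ⟨1, Or.inl (zpow_one _).symm⟩
    · exact ⟨0, Or.inr (by rw [zpow_zero, one_mul])⟩
  | one => exact ⟨0, Or.inl (zpow_zero _).symm⟩
  | mul x y _ _ hx hy =>
    obtain ⟨i, rfl | rfl⟩ := hx <;> obtain ⟨j, rfl | rfl⟩ := hy
    · exact ⟨i + j, Or.inl (zpow_add r i j).symm⟩
    · exact ⟨i + j, Or.inr (by rw [zpow_add]; group)⟩
    · exact ⟨i + 3 * j, Or.inr (by rw [mul_assoc, h.conj_zpow, zpow_add]; group)⟩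
    · refine ⟨i + 3 * j, Or.inl ?_⟩
      rw [mul_assoc, ← mul_assoc t, h.conj_zpow, mul_assoc (r ^ (3 * j)), ← pow_two, h.t2,
        mul_one, zpow_add]
  | inv x _ hx =>
    obtain ⟨i, rfl | rfl⟩ := hx
    · exact ⟨-i, Or.inl (zpow_neg r i).symm⟩
    · exact ⟨3 * -i, Or.inr (by rw [mul_inv_rev, h.t_inv, ← zpow_neg, h.conj_zpow])⟩

theorem Data.central_eq (h : Data r t) {s : G} (hs : s ∈ Subgroup.closure ({r, t} : Set G))
    (hr : r * s = s * r) (ht : t * s = s * t) : s = 1 ∨ s = r ^ 4 := by
  obtain ⟨i, rfl | rfl⟩ := h.exists_form hs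
  · have h1 : r ^ (3 * i) = r ^ i := by
      rw [h.conj_zpow] at ht
      exact mul_right_cancel ht
    rw [← mul_inv_eq_one, ← zpow_neg, ← zpow_add, h.r_zpow_eq] at h1
    obtain ⟨k, hk⟩ := h1
    obtain ⟨m, rfl⟩ : ∃ m, i = 4 * m := ⟨k, by omega⟩
    rcases Int.even_or_odd m with ⟨n, rfl⟩ | ⟨n, rfl⟩
    · exact Or.inl ((h.r_zpow_eq _).2 ⟨n, by ring⟩)
    · refine Or.inr ?_
      rw [mul_add, zpow_add, (h.r_zpow_eq _).2 ⟨n, by ring⟩, one_mul, mul_one, ← zpow_natCast]
      norm_num
  · exfalso
    rw [mul_assoc, show t * r = r ^ (3 : ℤ) * t by simpa using h.conj_zpow 1, ← mul_assoc,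
      ← mul_assoc, ← zpow_add, ← zpow_one_add] at hr
    have h1 := mul_right_cancel hr
    rw [← mul_inv_eq_one, ← zpow_neg, ← zpow_add, h.r_zpow_eq] at h1
    omega

variable [Finite G] {S : Sylow 2 G}

open Cfsg.Agent.FusionSimpleCrit

theorem Data.closed_eq (h : Data r t) (hS : Subgroup.closure ({r, t} : Set G) = (S : Subgroup G))
    (T : Subgroup G) (hT : (groupFusionSystem (S : Subgroup G)).StronglyClosed T) (hne : T ≠ ⊥) :
    T = (S : Subgroup G) := by
  have hrS : r ∈ (S : Subgroup G) := hS ▸ Subgroup.subset_closure (Set.mem_insert _ _)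
  have htS : t ∈ (S : Subgroup G) :=
    hS ▸ Subgroup.subset_closure (Set.mem_insert_of_mem _ rfl)
  refine le_antisymm hT.1 ?_
  obtain ⟨z, hzT, hz1, hzS, hzc⟩ := exists_central_mem hT hne
  have hz : z = r ^ 4 := (h.central_eq (hS ▸ hzS) (hzc r hrS) (hzc t htS)).resolve_left hz1
  subst hz
  have htT : t ∈ T := by
    obtain ⟨g, hg⟩ := h.conj1
    have := mem_of_conj hT hzT (g := g) (hg ▸ htS)
    rwa [hg] at this
  have hr2 : r ^ 2 ∈ T := by
    have h1 : r * t * r⁻¹ * t ∈ T := T.mul_mem (conj_mem_of_mem hT htT hrS) htT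
    have h2 : r * t * r⁻¹ * t = (r ^ 2)⁻¹ := by
      have h3 := h.conj_zpow (-1)
      rw [zpow_neg_one] at h3
      rw [mul_assoc r, h3, ← mul_assoc, mul_assoc _ t t, ← pow_two, h.t2]
      group
    rw [h2] at h1
    exact T.inv_mem_iff.1 h1
  have hrt : r * t ∈ T := by
    obtain ⟨g, hg⟩ := h.conj2
    have := mem_of_conj hT hr2 (g := g) (hg ▸ (S : Subgroup G).mul_mem hrS htS)
    rwa [hg] at this
  rw [← hS, Subgroup.closure_le]
  rintro x (rfl | rfl)
  · simpa using T.mul_mem hrt (T.inv_mem htT)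
  · exact htT

theorem Data.normalizer_le (h : Data r t) (hS : Subgroup.closure ({r, t} : Set G) = (S : Subgroup G)) :
    Subgroup.normalizer ((S : Subgroup G) : Set G) ≤
      Subgroup.closure (((S : Subgroup G) : Set G) ∪ goodSet S) := by
  have hrS : r ∈ (S : Subgroup G) := hS ▸ Subgroup.subset_closure (Set.mem_insert _ _)
  have htS : t ∈ (S : Subgroup G) :=
    hS ▸ Subgroup.subset_closure (Set.mem_insert_of_mem _ rfl)
  intro g hg
  obtain ⟨a, m, hm, hgo⟩ : ∃ a m, Odd m ∧ orderOf g = 2 ^ a * m :=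
    Nat.exists_eq_two_pow_mul_odd (orderOf_pos g).ne'
  have hm0 : m ≠ 0 := hm.pos.ne'
  have hcop : Nat.Coprime m (2 ^ a) := (Nat.coprime_two_right.2 hm).pow_right a
  obtain ⟨u, v, huv⟩ : IsCoprime (m : ℤ) ((2 : ℤ) ^ a) := by
    have := Nat.isCoprime_iff_coprime.2 hcop
    exact_mod_cast this
  have hg1 : g = g ^ (u * m) * g ^ (v * 2 ^ a) := by
    rw [← zpow_add, huv, zpow_one]
  rw [hg1]
  refine Subgroup.mul_mem _ (Subgroup.subset_closure (Or.inl ?_)) (Subgroup.subset_closure (Or.inr (Or.inl ?_)))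
  · -- the part of two-power order lies in `S`
    set w := g ^ (u * m)
    have hwN : w ∈ Subgroup.normalizer ((S : Subgroup G) : Set G) := Subgroup.zpow_mem _ hg _
    have hw : w ^ 2 ^ a = 1 := by
      rw [← zpow_natCast, ← zpow_mul, ← orderOf_dvd_iff_zpow_eq_one, hgo]
      push_cast
      exact ⟨u, by ring⟩
    have hp : IsPGroup 2 ((S : Subgroup G) ⊔ Subgroup.zpowers w : Subgroup G) := by
      refine IsPGroup.to_sup_of_normal_left' S.2 ?_ (Subgroup.zpowers_le.2 hwN)
      obtain ⟨c, -, hc⟩ := (Nat.dvd_prime_pow Nat.prime_two).1 (orderOf_dvd_of_pow_eq_one hw)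
      exact IsPGroup.of_card (n := c) (by rw [Nat.card_zpowers, hc])
    have := S.3 hp le_sup_left
    exact this ▸ (le_sup_right : _ ≤ (S : Subgroup G) ⊔ Subgroup.zpowers w) (Subgroup.mem_zpowers w)
  · -- the part of odd order centralizes `S`
    set k := g ^ (v * 2 ^ a)
    have hkN : k ∈ Subgroup.normalizer ((S : Subgroup G) : Set G) := Subgroup.zpow_mem _ hg _
    have hk : k ^ m = 1 := by
      rw [← zpow_natCast, ← zpow_mul, ← orderOf_dvd_iff_zpow_eq_one, hgo]
      push_cast
      exact ⟨v, by ring⟩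
    have himg : ∀ x ∈ (S : Subgroup G), k * x * k⁻¹ ∈ Subgroup.closure ({r, t} : Set G) :=
      fun x hx => hS ▸ (Subgroup.mem_normalizer_iff.1 hkN x).1 hx
    have hkr : k * r * k⁻¹ = r := by
      obtain ⟨i, hi | hi⟩ := h.exists_form (himg r hrS)
      · -- an automorphism of odd order of a cyclic group of order eight
        have hn : ∀ n : ℕ, k ^ n * r * (k ^ n)⁻¹ = r ^ (i ^ n) := by
          intro n
          induction n with
          | zero => simp
          | succ n ih =>
            rw [pow_succ', pow_succ', mul_inv_rev, zpow_mul, ← hi,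
              show k * k ^ n * r * ((k ^ n)⁻¹ * k⁻¹) = k * (k ^ n * r * (k ^ n)⁻¹) * k⁻¹ by group,
              ih, ← _root_.conj_zpow]
        have hm1 := hn m
        rw [hk, one_mul, inv_one, mul_one] at hm1
        have h1 : r ^ (i ^ m - 1) = 1 := by rw [zpow_sub, ← hm1, zpow_one, mul_inv_cancel]
        rw [h.r_zpow_eq] at h1
        have hio : Odd i := by
          rcases Int.even_or_odd i with he | ho
          · exfalso
            have : Even (i ^ m) := he.pow_of_ne_zero hm0
            rw [even_iff_two_dvd] at this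
            omega
          · exact ho
        have hsq : (8 : ℤ) ∣ i ^ 2 - 1 := Int.eight_dvd_sq_sub_one_of_odd hio
        obtain ⟨q, rfl⟩ := hm
        have h2 : (8 : ℤ) ∣ i - 1 := by
          have h3 : (8 : ℤ) ∣ i * ((i ^ 2) ^ q - 1) :=
            dvd_mul_of_dvd_right (hsq.trans (sub_one_dvd_pow_sub_one _ q)) i
          have h4 : i - 1 = (i ^ (2 * q + 1) - 1) - i * ((i ^ 2) ^ q - 1) := by ring
          rw [h4]
          exact dvd_sub h1 h3
        rw [hi, ← mul_inv_eq_one, ← zpow_sub_one, h.r_zpow_eq]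
        exact h2
      · exfalso
        have h2 : (k * r * k⁻¹) ^ 4 = 1 := by
          rw [hi, show 4 = 2 * 2 from rfl, pow_mul, pow_two (r ^ i * t), mul_assoc,
            ← mul_assoc t, h.conj_zpow, mul_assoc (r ^ (3 * i)), ← pow_two, h.t2, mul_one,
            ← zpow_add, ← zpow_natCast, ← zpow_mul, h.r_zpow_eq]
          exact ⟨i, by push_cast; ring⟩
        rw [conj_pow] at h2
        exact h.r4 (conj_eq_one_iff.1 h2)
    have hkt : k * t * k⁻¹ = t := by
      obtain ⟨i, hi | hi⟩ := h.exists_form (himg t htS)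
      · exfalso
        refine h.t_notMem ⟨i, ?_⟩
        have h1 : k⁻¹ * r ^ i * k = r ^ i := by
          rw [show k⁻¹ * r ^ i * k = (k⁻¹ * r * k⁻¹⁻¹) ^ i by rw [_root_.conj_zpow, inv_inv],
            inv_inv, show k⁻¹ * r * k = r by nth_rewrite 1 [← hkr]; group]
        show r ^ i = t
        rw [← h1, ← hi]; group
      · have hn : ∀ n : ℕ, k ^ n * t * (k ^ n)⁻¹ = r ^ ((n : ℤ) * i) * t := by
          intro n
          induction n with
          | zero => simp
          | succ n ih =>
            rw [pow_succ', mul_inv_rev,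
              show k * k ^ n * t * ((k ^ n)⁻¹ * k⁻¹) = k * (k ^ n * t * (k ^ n)⁻¹) * k⁻¹ by group,
              ih, show k * (r ^ ((n : ℤ) * i) * t) * k⁻¹ =
                (k * r ^ ((n : ℤ) * i) * k⁻¹) * (k * t * k⁻¹) by group,
              ← _root_.conj_zpow, hkr, hi, ← mul_assoc, ← zpow_add]
            congr 2
            push_cast
            ring
        have hm1 := hn m
        rw [hk, one_mul, inv_one, mul_one] at hm1
        have h1 : r ^ ((m : ℤ) * i) = 1 := by
          have := mul_right_cancel (b := t) ((one_mul t).trans hm1)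
          exact this.symm
        rw [h.r_zpow_eq] at h1
        have h8 : Int.gcd 8 (m : ℤ) = 1 := by
          have : Nat.Coprime m (2 ^ 3) := (Nat.coprime_two_right.2 hm).pow_right 3
          simpa [Int.gcd, Nat.coprime_comm] using this
        have h2 : r ^ i = 1 :=
          (h.r_zpow_eq i).2 (Int.dvd_of_dvd_mul_right_of_gcd_one h1 h8)
        rw [hi, h2, one_mul]
    intro x hx
    have hx' : x ∈ Subgroup.closure ({r, t} : Set G) := hS ▸ hx
    have hle : Subgroup.closure ({r, t} : Set G) ≤ Subgroup.centralizer {k} := by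
      rw [Subgroup.closure_le]
      rintro y (rfl | rfl) <;> rw [SetLike.mem_coe, Subgroup.mem_centralizer_singleton_iff]
      · exact (mul_inv_eq_iff_eq_mul.1 hkr).symm
      · exact (mul_inv_eq_iff_eq_mul.1 hkt).symm
    exact Subgroup.mem_centralizer_singleton_iff.1 (hle hx')

theorem Data.isPGroup (h : Data r t) : Nat.card (Subgroup.closure ({r, t} : Set G)) = 16 := by
  have hrC : r ∈ Subgroup.closure ({r, t} : Set G) := Subgroup.subset_closure (Set.mem_insert _ _)
  have htC : t ∈ Subgroup.closure ({r, t} : Set G) :=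
    Subgroup.subset_closure (Set.mem_insert_of_mem _ rfl)
  let R : Subgroup (Subgroup.closure ({r, t} : Set G)) :=
    (Subgroup.zpowers r).subgroupOf _
  have hR : R.index = 2 := by
    rw [Subgroup.index_eq_two_iff]
    refine ⟨⟨t, htC⟩, fun b => ?_⟩
    obtain ⟨i, hb | hb⟩ := h.exists_form b.2
    · refine Or.inr ⟨?_, fun h' => h.t_notMem ?_⟩
      · show (b : G) ∈ Subgroup.zpowers r
        rw [hb]; exact ⟨i, rfl⟩
      · have h2 : (b : G) * t ∈ Subgroup.zpowers r := h'
        rw [hb] at h2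
        exact (Subgroup.mul_mem_cancel_left (Subgroup.zpowers r) (Subgroup.zpow_mem _ (Subgroup.mem_zpowers r) i)).1 h2
    · refine Or.inl ⟨?_, fun h' => h.t_notMem ?_⟩
      · show (b : G) * t ∈ Subgroup.zpowers r
        rw [hb, mul_assoc, ← pow_two, h.t2, mul_one]; exact ⟨i, rfl⟩
      · have h2 : (b : G) ∈ Subgroup.zpowers r := h'
        rw [hb] at h2
        exact (Subgroup.mul_mem_cancel_left (Subgroup.zpowers r) (Subgroup.zpow_mem _ (Subgroup.mem_zpowers r) i)).1 h2
  rw [← R.index_mul_card, hR, Nat.card_congr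
    (Subgroup.subgroupOfEquivOfLe (Subgroup.zpowers_le.2 hrC)).toEquiv, Nat.card_zpowers, h.orderOf_r]

end

/-- The 2-fusion system of the Mathieu group M₁₁ (as the explicit permutation group carved out of the automorphism group of the binary Golay code) on a Sylow 2-subgroup is simple: saturated, over a nontrivial 2-group, with no normal subsystem other than the trivial one and itself. -/
theorem result (S : Sylow 2 Cfsg.Spor.M11) : (Cfsg.groupFusionSystem (S : Subgroup Cfsg.Spor.M11)).IsSimple 2 := by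
  have : Fact (Nat.Prime 2) := ⟨Nat.prime_two⟩
  have hS16 : Nat.card S = 16 := by
    rw [S.card_eq_multiplicity, GolayM24.card_M11, show 7920 = 2 ^ 4 * 495 by norm_num,
      Nat.factorization_mul (by norm_num) (by norm_num), Finsupp.add_apply,
      Nat.Prime.factorization_pow (by norm_num), Finsupp.single_eq_same,
      Nat.factorization_eq_zero_of_not_dvd (by norm_num)]
    rfl
  obtain ⟨T, hT⟩ := (IsPGroup.of_card (n := 4) data_M11.isPGroup :
    IsPGroup 2 (Subgroup.closure ({er, et} : Set Spor.M11))).exists_le_sylow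
  obtain ⟨g, hg⟩ := MulAction.exists_smul_eq Spor.M11 T S
  have hc : Subgroup.closure ({MulAut.conj g er, MulAut.conj g et} : Set Spor.M11) =
      (S : Subgroup Spor.M11) := by
    have h1 : Subgroup.closure ({MulAut.conj g er, MulAut.conj g et} : Set Spor.M11) =
        (Subgroup.closure ({er, et} : Set Spor.M11)).map (MulAut.conj g).toMonoidHom := by
      rw [MonoidHom.map_closure, Set.image_pair]; rfl
    refine Subgroup.eq_of_le_of_card_ge ?_ ?_
    · rw [h1, ← hg]
      exact Subgroup.map_mono hT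
    · rw [(data_M11.map (MulAut.conj g)).isPGroup]
      exact hS16.le
  refine FusionSimpleCrit.isSimple_of_closed_gen (fun h => ?_)
    ((data_M11.map (MulAut.conj g)).closed_eq hc) ((data_M11.map (MulAut.conj g)).normalizer_le hc)
  rw [h, Subgroup.card_bot] at hS16
  exact absurd hS16 (by norm_num)

end Cfsg.Agent.S5166
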