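import Cfsg.Statements.S5167
import Cfsg.Agent.Lib.GolayM24
import Cfsg.Agent.Lib.SylowCert

set_option autoImplicit false
open Cfsg
open scoped Pointwise

namespace Cfsg.Agent.S5167

open Cfsg.Agent.GolayBasic Cfsg.Agent.GolayPerm Cfsg.Agent.SylowCert

/-- the membership test -/
def inG (c : ℕ) : Bool := good c && (pmask c 340831 == 340831)

theorem inG_spec (c : ℕ) (h : inG c = true) : valid c = true ∧ permOf c ∈ Spor.M12 := by
  simp only [inG, Bool.and_eq_true, beq_iff_eq] at h
  have hv := valid_of_good h.1
  exact ⟨hv, GolayM24.mem_M12.2 ⟨permOf_mem_M24 h.1, by rw [smul_mset hv, h.2]⟩⟩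

def lR : List ℕ := [232973522026681028205297395523846274,
  610961446608002731848341773020039424,
  601306940950349892175800839406424096]

def lF : List ℕ := [982053020811439388388970534477697441,
  435721440417085573312300790306769165,
  444738317977551238577238853718058016]

def wit : List (ℕ × ℕ) := [(984818244535754528103549039458486304, 222770150179063503966979538652039585),
  (984818244535754528103549039458486304, 443476593691430556999587792300803202),
  (984818244535754528103549039458486304, 601306940950349892175800839406424096)]

def data : List (ℕ × ℕ × ℕ) := [(327752, 340831, 4),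
  (13079, 340831, 8),
  (8406048, 16436384, 4),
  (8030336, 16436384, 8)]

def steps : List Step := [.conj 0 713433337452043927625615676340843814 601805285937836989228918724956267565,
  .conj 0 721337095905672184854814075200799105 442144707709661837449618424028400040,
  .conj 0 475407757944724529814654006133797064 975568990542510601383932054293655808,
  .mul 1 3,
  .mul 4 2,
  .conj 5 486999236853379512762875285281842278 591462140869736871416758657037312292,
  .mul 1 5,
  .mul 7 6,
  .mul 0 1,
  .mul 0 4,
  .mul 1 2,
  .mul 11 4,
  .mul 0 4,
  .mul 13 4,
  .mul 4 4]

theorem keeps : ∀ k ∈ Spor.M12, ∀ d ∈ data, k • mset d.2.1 = mset d.2.1 := by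
  intro k hk d hd
  have h := (GolayM24.mem_M12.1 hk).2
  simp only [data, List.mem_cons, List.not_mem_nil, or_false] at hd
  rcases hd with rfl | rfl | rfl | rfl
  · exact h
  · exact h
  all_goals
    show k • mset 16436384 = mset 16436384
    rw [show (16436384 : ℕ) = 16777215 ^^^ 340831 from rfl, mset_compl, Finset.compl_eq_univ_sdiff,
      Finset.smul_finset_sdiff, Finset.smul_finset_univ, h]

/-- The 2-fusion system of the Mathieu group M₁₂ (as the explicit permutation group carved out of the automorphism group of the binary Golay code) on a Sylow 2-subgroup is simple: saturated, over a nontrivial 2-group, with no normal subsystem other than the trivial one and itself. -/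
theorem result (S : Sylow 2 Cfsg.Spor.M12) : (Cfsg.groupFusionSystem (S : Subgroup Cfsg.Spor.M12)).IsSimple 2 := by
  exact isSimple_of_cert Spor.M12 inG inG_spec lR lF wit data 975639265381072135003295945605621005 steps 1485
    (by decide) (by rw [GolayM24.card_M12]; rfl) (by decide) (by decide +kernel) (by decide +kernel)
    (by decide +kernel) (by decide +kernel) (by decide +kernel) (by decide +kernel) keeps
    (by decide +kernel) (by decide +kernel) (by decide +kernel) S

end Cfsg.Agent.S5167
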