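import Cfsg.Statements.S5168
import Cfsg.Agent.Lib.GolayM24
import Cfsg.Agent.Lib.SylowCert

set_option autoImplicit false
open Cfsg
open scoped Pointwise

namespace Cfsg.Agent.S5168

open Cfsg.Agent.GolayBasic Cfsg.Agent.GolayPerm Cfsg.Agent.SylowCert

/-- the membership test -/
def inG (c : ℕ) : Bool := good c && (pimg c 23 == 23) && (pimg c 0 == 0)

theorem inG_spec (c : ℕ) (h : inG c = true) : valid c = true ∧ permOf c ∈ Spor.M22 := by
  simp only [inG, Bool.and_eq_true, beq_iff_eq] at h
  have hv := valid_of_good h.1.1
  refine ⟨hv, ⟨⟨permOf_mem_M24 h.1.1, ?_⟩, ?_⟩⟩
  · show permOf c (none : GolayPt) = (none : GolayPt)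
    rw [← GolayM24.pt_none, permOf_apply hv, pfun, idx_pt (by norm_num), h.1.2]
  · show permOf c (some 0 : GolayPt) = (some 0 : GolayPt)
    rw [← GolayM24.pt_zero, permOf_apply hv, pfun, idx_pt (by norm_num), h.2]

def lR : List ℕ := [980228189413286253709853921236793440,
  979611311044240935806381134320061472,
  974422238081544939122441376219924512]

def lF : List ℕ := [971797883355989335647205403628217600,
  984035383596644963503615728467170912,
  974338656214362718975024378963690560,
  960139612709388908960211975096961056]

def wit : List (ℕ × ℕ) := [(984818244535754528103549039458486304, 960112598251401380659290626417175808),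
  (984818244535754528103549039458486304, 979611311044240935806381134320061472),
  (984818244535754528103549039458486304, 974369861776609216504363625125883136),
  (984818244535754528103549039458486304, 957429229686635302097675403054360960)]

def data : List (ℕ × ℕ × ℕ) := [(8388609, 16777215, 1),
  (192, 16777215, 2),
  (204832, 16777215, 4),
  (8183582, 16777215, 16)]

def steps : List Step := [.conj 0 975597926760359719719718565671740864 971797883355989335647205403628217600,
  .conj 0 974387767195678004473445407028385024 960139612709388908960211975096961056,
  .conj 0 973175698378167440164457975713867200 974422238081544939122441376219924512,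
  .conj 0 982906460140166955418232558577101024 973945644914022110970435173357822304,
  .conj 0 957151839343079888959569579801645440 980228189413286253709853921236793440,
  .mul 0 1,
  .mul 6 3,
  .mul 7 4,
  .mul 5 2,
  .mul 9 5,
  .mul 0 5,
  .mul 11 2,
  .mul 12 5]

theorem keeps : ∀ k ∈ Spor.M22, ∀ d ∈ data, k • mset d.2.1 = mset d.2.1 := by
  intro k _ d hd
  simp only [data, List.mem_cons, List.not_mem_nil, or_false] at hd
  rcases hd with rfl | rfl | rfl | rfl <;> exact GolayM24.smul_keep_all k

/-- The 2-fusion system of the Mathieu group M₂₂ (as the explicit permutation group carved out of the automorphism group of the binary Golay code) on a Sylow 2-subgroup is simple: saturated, over a nontrivial 2-group, with no normal subsystem other than the trivial one and itself. -/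
theorem result (S : Sylow 2 Cfsg.Spor.M22) : (Cfsg.groupFusionSystem (S : Subgroup Cfsg.Spor.M22)).IsSimple 2 := by
  exact isSimple_of_cert Spor.M22 inG inG_spec lR lF wit data 973606461760135017242396451293777568 steps 3465
    (by decide) (by rw [GolayM24.card_M22]; rfl) (by decide) (by decide +kernel) (by decide +kernel)
    (by decide +kernel) (by decide +kernel) (by decide +kernel) (by decide +kernel) keeps
    (by decide +kernel) (by decide +kernel) (by decide +kernel) S

end Cfsg.Agent.S5168
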