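import Cfsg.Statements.S5169
import Cfsg.Agent.Lib.GolayM24
import Cfsg.Agent.Lib.SylowCert

set_option autoImplicit false
open Cfsg
open scoped Pointwise

namespace Cfsg.Agent.S5169

open Cfsg.Agent.GolayBasic Cfsg.Agent.GolayPerm Cfsg.Agent.SylowCert

/-- the membership test -/
def inG (c : ℕ) : Bool := good c && (pimg c 23 == 23)

theorem inG_spec (c : ℕ) (h : inG c = true) : valid c = true ∧ permOf c ∈ Spor.M23 := by
  simp only [inG, Bool.and_eq_true, beq_iff_eq] at h
  have hv := valid_of_good h.1
  refine ⟨hv, ⟨permOf_mem_M24 h.1, ?_⟩⟩
  · show permOf c (none : GolayPt) = (none : GolayPt)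
    rw [← GolayM24.pt_none, permOf_apply hv, pfun, idx_pt (by norm_num), h.2]

def lR : List ℕ := [975630392206473584587242292868448290,
  983108776731673233729990498252664864,
  983559493361839570066624664967418912]

def lF : List ℕ := [972264299160569982582538200341491748,
  984807939527704251955569935008568362,
  961040644920431140970404232040551459,
  969843205344968676316842558955299872]

def wit : List (ℕ × ℕ) := [(984818244535754528103549039458486304, 984105692476095140553887530639241251),
  (984818244535754528103549039458486304, 983108776731673233729990498252664864),
  (984818244535754528103549039458486304, 980681292678819160636624947894193186),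
  (984818244535754528103549039458486304, 975665437103901714383192784157289509)]

def data : List (ℕ × ℕ × ℕ) := [(8388610, 16777215, 1),
  (320, 16777215, 2),
  (409728, 16777215, 4),
  (7978557, 16777215, 16)]

def steps : List Step := [.conj 0 959912351352037060880570566967657036 959685684896634791571990565102506020,
  .conj 0 958001048613242614698407337307836046 969849825040533958167652483051361325,
  .conj 0 961289211512360518294034738494111958 969839512853889986589517803015899171,
  .conj 0 960174976850893148561944135207300674 967159118992448802536617728102782003,
  .conj 0 977464365510334452400813581828053450 959301744814060458140028599544791093,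
  .mul 0 1,
  .mul 6 4,
  .mul 1 2,
  .mul 8 5,
  .mul 0 1,
  .mul 10 3,
  .mul 11 1,
  .mul 2 3,
  .mul 13 1,
  .mul 1 2,
  .mul 15 1,
  .mul 16 2,
  .mul 0 2,
  .mul 18 3]

theorem keeps : ∀ k ∈ Spor.M23, ∀ d ∈ data, k • mset d.2.1 = mset d.2.1 := by
  intro k _ d hd
  simp only [data, List.mem_cons, List.not_mem_nil, or_false] at hd
  rcases hd with rfl | rfl | rfl | rfl <;> exact GolayM24.smul_keep_all k

/-- The 2-fusion system of the Mathieu group M₂₃ (as the explicit permutation group carved out of the automorphism group of the binary Golay code) on a Sylow 2-subgroup is simple: saturated, over a nontrivial 2-group, with no normal subsystem other than the trivial one and itself. -/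
theorem result (S : Sylow 2 Cfsg.Spor.M23) : (Cfsg.groupFusionSystem (S : Subgroup Cfsg.Spor.M23)).IsSimple 2 := by
  exact isSimple_of_cert Spor.M23 inG inG_spec lR lF wit data 969848598194701960872049658580877354 steps 79695
    (by decide) (by rw [GolayM24.card_M23]; rfl) (by decide) (by decide +kernel) (by decide +kernel)
    (by decide +kernel) (by decide +kernel) (by decide +kernel) (by decide +kernel) keeps
    (by decide +kernel) (by decide +kernel) (by decide +kernel) S

end Cfsg.Agent.S5169
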