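import Cfsg.Statements.S5170
import Cfsg.Agent.Lib.GolayM24
import Cfsg.Agent.Lib.SylowCert

set_option autoImplicit false
open Cfsg
open scoped Pointwise

namespace Cfsg.Agent.S5170

open Cfsg.Agent.GolayBasic Cfsg.Agent.GolayPerm Cfsg.Agent.SylowCert

/-- the membership test -/
def inG (c : ℕ) : Bool := good c

theorem inG_spec (c : ℕ) (h : inG c = true) : valid c = true ∧ permOf c ∈ M24 := by
  exact ⟨valid_of_good h, permOf_mem_M24 h⟩

def lR : List ℕ := [932893352180807258604641602500965416,
  361255600613258296657161290969614560,
  503213485686964636188203809109641248,
  444610170142328297188851916301502496]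

def lF : List ℕ := [525302303596031231340870580236893220,
  751158197311836801289214959402637347,
  419993663660976645549170993379606562,
  444251425365611141234062406644238624,
  776923195380475035964725589178419392,
  776944745964943124379264922831390752]

def wit : List (ℕ × ℕ) := [(984818244535754528103549039458486304, 358920588258682816158892133539036196),
  (984818244535754528103549039458486304, 527483929652261088093209921705838816),
  (984818244535754528103549039458486304, 143502725715749144120197657552893288),
  (984818244535754528103549039458486304, 586086070263843990082511714519812128),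
  (984818244535754528103549039458486304, 332962904436829423482227146662959139),
  (984818244535754528103549039458486304, 568602473632114253186457836902779104)]

def data : List (ℕ × ℕ × ℕ) := [(2296514, 16777215, 8),
  (14480701, 16777215, 16)]

def steps : List Step := [.conj 0 267594766034380677638353463914397859 418857848579314555344752220680771779,
  .conj 0 804328829604128030705908188199299223 416058875673201534704067029292354934,
  .conj 0 708393149480290286085973641443719272 984649647149968121315896139822762272,
  .conj 0 208318898060717908233441548797287025 984312441599065015478656696357847554,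
  .conj 0 967203957375191396992359595000447046 527084620096240232647540787652954784,
  .conj 0 841195933550490054169995418649330222 640825450621568986521586159790075950,
  .mul 3 4,
  .mul 7 1,
  .mul 8 6,
  .mul 9 5,
  .mul 2 5,
  .mul 11 2,
  .mul 1 2,
  .mul 13 4,
  .mul 14 5,
  .mul 2 3,
  .mul 16 5,
  .mul 17 2,
  .mul 18 5,
  .mul 5 6,
  .mul 20 5,
  .mul 21 6,
  .mul 3 4,
  .mul 23 2,
  .mul 24 4,
  .mul 1 5,
  .mul 26 2,
  .mul 27 5,
  .mul 2 5,
  .mul 29 2,
  .mul 30 5,
  .mul 1 5,
  .mul 32 1,
  .mul 33 5,
  .mul 0 1,
  .mul 35 5,
  .mul 36 2,
  .mul 37 5]

theorem keeps : ∀ k ∈ M24, ∀ d ∈ data, k • mset d.2.1 = mset d.2.1 := by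
  intro k _ d hd
  simp only [data, List.mem_cons, List.not_mem_nil, or_false] at hd
  rcases hd with rfl | rfl <;> exact GolayM24.smul_keep_all k

/-- The 2-fusion system of the Mathieu group M₂₄ (as the explicit permutation group of the 24 points preserving the binary Golay code) on a Sylow 2-subgroup is simple: saturated, over a nontrivial 2-group, with no normal subsystem other than the trivial one and itself. -/
theorem result (S : Sylow 2 Cfsg.M24) : (Cfsg.groupFusionSystem (S : Subgroup Cfsg.M24)).IsSimple 2 := by
  exact isSimple_of_cert M24 inG inG_spec lR lF wit data 793982468777982791973344842551590946 steps 239085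
    (by decide) (by rw [GolayM24.card_M24]; rfl) (by decide) (by decide +kernel) (by decide +kernel)
    (by decide +kernel) (by decide +kernel) (by decide +kernel) (by decide +kernel) keeps
    (by decide +kernel) (by decide +kernel) (by decide +kernel) S

end Cfsg.Agent.S5170
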