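import Cfsg.Statements.S5171
import Cfsg.Agent.Lib.FusionPSpSimple
-- import your own Cfsg.Agent.* helpers here

set_option autoImplicit false
open Cfsg

namespace Cfsg.Agent.S5171

open Cfsg.Agent

/-- For a finite field K of characteristic p and m ≥ 2, excluding the case m = 2 with K of two elements, the p-fusion system of the projective symplectic group PSp_{2m}(K) on a Sylow p-subgroup is simple. -/
theorem result {K : Type*} [Field K] [Fintype K] (p : ℕ) [Fact p.Prime] [CharP K p] (m : ℕ) (hm : 2 ≤ m) (hex : m = 2 → 3 ≤ Fintype.card K) (S : Sylow p (Cfsg.PSp m K)) : (Cfsg.groupFusionSystem (S : Subgroup (Cfsg.PSp m K))).IsSimple p := by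
  classical
  let π : Matrix.symplecticGroup (Fin m) K →* Cfsg.PSp m K := QuotientGroup.mk' _
  have hsurπ : Function.Surjective π := QuotientGroup.mk'_surjective _
  have hψπ : ∀ x, π x = 1 ↔ x ∈ Subgroup.center _ := fun x => QuotientGroup.eq_one_iff x
  have : Finite (Cfsg.PSp m K) := Finite.of_surjective π hsurπ
  have hU : IsPGroup p ((AutPSpTransv.unitri m K).map π) :=
    (AutPSpTransv.isPGroup_unitri (by omega) p).map π
  obtain ⟨S₀, hle⟩ := hU.exists_le_sylow
  have hS₀ := FusionPSpSimple.sylow_eq (p := p) π hψπ (by omega) hsurπ S₀ hle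
  obtain ⟨g, hg⟩ := MulAction.exists_smul_eq (Cfsg.PSp m K) S₀ S
  refine FusionPSpSimple.core ((MulAut.conj g).toMonoidHom.comp π) (fun x => ?_) hm hex
    (fun y => ?_) S ?_
  · rw [MonoidHom.comp_apply, MulEquiv.coe_toMonoidHom, map_eq_one_iff _ (MulAut.conj g).injective,
      hψπ]
  · obtain ⟨x, hx⟩ := hsurπ (MulAut.conj g⁻¹ y)
    exact ⟨x, by rw [MonoidHom.comp_apply, hx]; simp [mul_assoc]⟩
  · rw [← hg, ← Subgroup.map_map, hS₀]
    rfl

end Cfsg.Agent.S5171
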