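import Cfsg.Statements.S5172
import Cfsg.Agent.Lib.FusionPSUSimple
-- import your own Cfsg.Agent.* helpers here

set_option autoImplicit false
open Cfsg

namespace Cfsg.Agent.S5172

open Cfsg.Agent

/-- For a finite field K with q² elements of characteristic p and n ≥ 4, the p-fusion system of the projective special unitary group PSU_n(q) (realised over K) on a Sylow p-subgroup is simple. -/
theorem result {K : Type*} [Field K] [Fintype K] (p q : ℕ) [Fact p.Prime] [CharP K p] (hK : Fintype.card K = q ^ 2) (n : ℕ) (hn : 4 ≤ n) (S : Sylow p (Cfsg.PSU n K q)) : (Cfsg.groupFusionSystem (S : Subgroup (Cfsg.PSU n K q))).IsSimple p := by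
  classical
  obtain ⟨m, rfl⟩ : ∃ m, n = m + 2 + 2 := ⟨n - 4, by omega⟩
  let π : Cfsg.SU (m + 2 + 2) K q →* Cfsg.PSU (m + 2 + 2) K q := QuotientGroup.mk' _
  have hsurπ : Function.Surjective π := QuotientGroup.mk'_surjective _
  have hψπ : ∀ x, π x = 1 ↔ x ∈ Subgroup.center _ := fun x => QuotientGroup.eq_one_iff x
  have : Finite (Cfsg.PSU (m + 2 + 2) K q) := Finite.of_surjective π hsurπ
  obtain ⟨S₀⟩ : Nonempty (Sylow p (Cfsg.SU (m + 2 + 2) K q)) := inferInstance
  obtain ⟨g, hg⟩ := MulAction.exists_smul_eq (Cfsg.PSU (m + 2 + 2) K q) (S₀.mapSurjective hsurπ) S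
  refine FusionPSUSimple.core ((MulAut.conj g).toMonoidHom.comp π) (fun x => ?_) hK
    (fun y => ?_) S₀ S ?_
  · rw [MonoidHom.comp_apply, MulEquiv.coe_toMonoidHom, map_eq_one_iff _ (MulAut.conj g).injective,
      hψπ]
  · obtain ⟨x, hx⟩ := hsurπ (MulAut.conj g⁻¹ y)
    exact ⟨x, by rw [MonoidHom.comp_apply, hx]; simp [mul_assoc]⟩
  · rw [← hg, ← Subgroup.map_map]
    rfl

end Cfsg.Agent.S5172
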