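import Mathlib
import Cfsg.Statements.S5178
import Cfsg.Agent.Lib.FusionSysChain
import Cfsg.Agent.Lib.PGroupsBasic

set_option autoImplicit false
open Cfsg

universe u

namespace Cfsg.Agent.S5178

section
open scoped commutatorElement
open Cfsg.FusionSystem Cfsg.Agent.FusionSysBasic Cfsg.Agent.FusionSysSaturated
  Cfsg.Agent.FusionSysNormal Cfsg.Agent.FusionSysChain Cfsg.Agent.FusionSysAlperin

variable {Ω : Type*} [Group Ω] {S : Subgroup Ω} {p : ℕ} {F : Cfsg.FusionSystem S}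

/-- Commutators lie in a central subgroup `Z` of order `p`, which is properly contained in the
centre `C`. -/
structure Setup (p : ℕ) (S Z C : Subgroup Ω) : Prop where
  zc : Z ≤ C
  cs : C ≤ S
  central : ∀ c ∈ C, ∀ g ∈ S, g * c = c * g
  cmax : ∀ c ∈ S, (∀ g ∈ S, g * c = c * g) → c ∈ C
  comm : ∀ g ∈ S, ∀ h ∈ S, ⁅g, h⁆ ∈ Z
  card : Nat.card Z = p
  gen : ∃ a ∈ S, ∃ b ∈ S, ⁅a, b⁆ ≠ 1
  proper : ¬ C ≤ Z

variable {Z C : Subgroup Ω} (hD : Setup p S Z C) {P : Subgroup Ω}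

include hD in
theorem zs : Z ≤ S := hD.zc.trans hD.cs

include hD in
theorem eq_zpowers [Fact p.Prime] {z : Ω} (hz : z ∈ Z) (h1 : z ≠ 1) : Subgroup.zpowers z = Z := by
  haveI : Finite Z := Nat.finite_of_card_ne_zero (by rw [hD.card]; exact (Fact.out (p := p.Prime)).ne_zero)
  have ho : orderOf z = p :=
    PGroupsBasic.orderOf_eq_of_pow_eq_one (PGroupsBasic.pow_eq_one_of_card hD.card hz) h1
  refine Subgroup.eq_of_le_of_card_ge (Subgroup.zpowers_le.2 hz) ?_
  rw [Nat.card_zpowers, ho, hD.card]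

include hD in
theorem cj_central {g c : Ω} (hg : g ∈ S) (hc : c ∈ C) : cj g c = c := by
  rw [cj_apply, hD.central c hc g hg, mul_inv_cancel_right]

include hD in
theorem cj_step {g x : Ω} (hg : g ∈ S) (hx : x ∈ S) : x⁻¹ * cj g x ∈ Z := by
  rw [cj_div_eq]
  exact inv_mem (hD.comm g hg _ (inv_mem hx))

variable [Finite S] [Fact p.Prime]

/-- The relevant facts about an essential subgroup. -/
structure Ess (F : Cfsg.FusionSystem S) (p : ℕ) (Z C P : Subgroup Ω) (T : Subgroup (MulAut P)) :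
    Prop where
  le : P ≤ S
  cle : C ≤ P
  tle : T ≤ F.autGroup P
  syl : SylIn p T (F.autGroup P)
  step : ∀ t ∈ T, ∀ x ∈ P, x⁻¹ * afun t x ∈ Z
  fixC : ∀ t ∈ T, ∀ c ∈ C, afun t c = c
  nontriv : ∃ t ∈ T, t ≠ 1
  fixMem : ∀ y ∈ P, (∀ t ∈ T, afun t y = y) → y ∈ C

variable {T : Subgroup (MulAut P)}

omit [Finite S] [Fact p.Prime] in
theorem afun_pow_fix {t : MulAut P} {x : Ω} (hx : x ∈ P) (h : afun t x = x) (k : ℕ) :
    afun (t ^ k) x = x := by
  induction k with
  | zero => exact afun_one hx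
  | succ k ih => rw [pow_succ, afun_mul _ _ hx, h, ih]

omit [Finite S] [Fact p.Prime] in
theorem fix_zpowers {t : MulAut P} {a : Ω} (hm : Mor F P (afun t)) (ha : a ∈ P)
    (h : afun t a = a) {x : Ω} (hx : x ∈ Subgroup.zpowers a) : afun t x = x := by
  let K : Subgroup Ω :=
    { carrier := {x | x ∈ P ∧ afun t x = x}
      one_mem' := ⟨P.one_mem, hm.map_one⟩
      mul_mem' := fun {u v} hu hv => ⟨P.mul_mem hu.1 hv.1, by rw [afun_map_mul t hu.1 hv.1, hu.2, hv.2]⟩
      inv_mem' := fun {u} hu => ⟨P.inv_mem hu.1, by rw [hm.map_inv hu.1, hu.2]⟩ }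
  have hle : Subgroup.zpowers a ≤ K := Subgroup.zpowers_le.2 ⟨ha, h⟩
  exact (hle hx).2

include hD in
/-- No `p`-subgroup of `Aut_F(P)` contains nontrivial elements of two conjugates of `T` centred at
different subgroups. -/
theorem not_both (hE : Ess F p Z C P T) {α : MulAut P} (hα : α ∈ F.autGroup P) {z : Ω} (hz : z ∈ Z)
    (hmove : afun α z ∉ Z) {K : Subgroup (MulAut P)} (hKp : IsPGroup p K) (hKA : K ≤ F.autGroup P)
    {t t₁ : MulAut P} (ht : t ∈ T) (ht1 : t ≠ 1) (ht₁ : t₁ ∈ T) (ht₁1 : t₁ ≠ 1)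
    (htK : t ∈ K) (htK' : α * t₁ * α⁻¹ ∈ K) : False := by
  haveI := finite_autGroup (F := F) P
  obtain ⟨a, ha, hab⟩ := sylIn_absorb hE.syl hKp hKA
  have key : ∀ k ∈ K, ∀ x ∈ P, afun a (x⁻¹ * afun k x) ∈ Z := by
    intro k hk x hx
    have h := hE.step _ (hab k hk) _ (afun_mem a hx)
    rw [afun_mul _ _ (afun_mem a hx), afun_inv_apply a hx, afun_mul _ _ hx] at h
    rw [afun_map_mul a (P.inv_mem hx) (afun_mem k hx), ((mem_autGroup hE.le).1 ha).map_inv hx]
    exact h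
  have hzP : Z ≤ P := hD.zc.trans hE.cle
  -- `t` gives a generator of `Z`
  have ex : ∀ {s : MulAut P}, s ∈ T → s ≠ 1 → ∃ x ∈ P, x⁻¹ * afun s x ≠ 1 := by
    intro s _ hs
    by_contra hall
    simp only [not_exists, not_and, not_not] at hall
    exact hs (afun_ext fun x hx => by rw [afun_one hx]; exact (inv_mul_eq_one.1 (hall x hx)).symm)
  obtain ⟨x, hx, hx1⟩ := ex ht ht1
  obtain ⟨y, hy, hy1⟩ := ex ht₁ ht₁1
  set u := x⁻¹ * afun t x with hu
  have huZ : u ∈ Z := hE.step t ht x hx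
  have hau : afun a u ∈ Z := key t htK x hx
  have haZ : ∀ v ∈ Z, afun a v ∈ Z := by
    intro v hv
    rw [← eq_zpowers hD huZ hx1] at hv
    obtain ⟨k, rfl⟩ := hv
    have hm := (mem_autGroup hE.le).1 ha
    let K : Subgroup Ω :=
      { carrier := {x | x ∈ P ∧ afun a x ∈ Z}
        one_mem' := ⟨P.one_mem, by rw [hm.map_one]; exact one_mem _⟩
        mul_mem' := fun {u v} hu hv => ⟨P.mul_mem hu.1 hv.1, by rw [afun_map_mul a hu.1 hv.1]; exact mul_mem hu.2 hv.2⟩
        inv_mem' := fun {u} hu => ⟨P.inv_mem hu.1, by rw [hm.map_inv hu.1]; exact inv_mem hu.2⟩ }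
    exact (K.zpow_mem (⟨hzP huZ, hau⟩ : u ∈ K) k).2
  -- `afun a` preserves `Z`, hence also reflects it
  have haZ' : ∀ v ∈ P, afun a v ∈ Z → v ∈ Z := by
    intro v hv hav
    rw [← eq_zpowers hD hau (fun e => hx1 (((mem_autGroup hE.le).1 ha).eq_one_of_apply (hzP huZ) e))] at hav
    obtain ⟨k, hk⟩ := hav
    let w : Ω := u ^ k
    have hw : afun a w = (afun a u) ^ k := by
      rw [afun_apply a (hzP huZ), afun_apply a (P.zpow_mem (hzP huZ) k), ← Subgroup.coe_zpow,
        ← map_zpow]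
      rfl
    have : v = w := ((mem_autGroup hE.le).1 ha).injOn hv (P.zpow_mem (hzP huZ) k) (by rw [hw]; exact hk.symm)
    rw [this]; exact Z.zpow_mem huZ k
  -- the other element gives a generator of `α Z`
  have hyP := afun_mem α hy
  have hu' : (afun α y)⁻¹ * afun (α * t₁ * α⁻¹) (afun α y) = afun α (y⁻¹ * afun t₁ y) := by
    rw [afun_mul _ _ hyP, afun_inv_apply α hy, afun_mul _ _ hy,
      afun_map_mul α (P.inv_mem hy) (afun_mem t₁ hy), ((mem_autGroup hE.le).1 hα).map_inv hy]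
  have h2 := key _ htK' _ hyP
  rw [hu'] at h2
  have hv : y⁻¹ * afun t₁ y ∈ Z := hE.step t₁ ht₁ y hy
  have h3 : afun α (y⁻¹ * afun t₁ y) ∈ Z := haZ' _ (afun_mem α (hzP hv)) h2
  apply hmove
  rw [← eq_zpowers hD hv hy1] at hz
  obtain ⟨k, rfl⟩ := hz
  have : afun α ((y⁻¹ * afun t₁ y) ^ k) = (afun α (y⁻¹ * afun t₁ y)) ^ k := by
    rw [afun_apply α (hzP hv), afun_apply α (P.zpow_mem (hzP hv) k), ← Subgroup.coe_zpow, ← map_zpow]
    rfl
  rw [this]
  exact Z.zpow_mem h3 k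

omit [Finite S] [Fact p.Prime] in
theorem conj_step {α s : MulAut P} (hm : Mor F P (afun α)) {x : Ω} (hx : x ∈ P) :
    x⁻¹ * afun (α * s * α⁻¹) x = afun α ((afun α⁻¹ x)⁻¹ * afun s (afun α⁻¹ x)) := by
  have hy := afun_mem α⁻¹ hx
  rw [afun_map_mul α (P.inv_mem hy) (afun_mem s hy), hm.map_inv hy, afun_apply_inv α hx,
    afun_mul _ _ hx, afun_mul _ _ hy]

omit [Finite S] [Fact p.Prime] in
theorem afun_zpow {α : MulAut P} {x : Ω} (hx : x ∈ P) (k : ℤ) :
    afun α (x ^ k) = afun α x ^ k := by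
  rw [afun_apply α hx, afun_apply α (P.zpow_mem hx k), ← Subgroup.coe_zpow, ← map_zpow]
  rfl

include hD in
/-- A conjugate of `T` has a centre outside `C`. -/
theorem apply_notMem (hS : IsPGroup p S) (hE : Ess F p Z C P T) {α : MulAut P}
    (hα : α ∈ F.autGroup P) {z : Ω} (hz : z ∈ Z) (hmove : afun α z ∉ Z) : afun α z ∉ C := by
  intro hw
  have hzP : Z ≤ P := hD.zc.trans hE.cle
  have hz1 : z ≠ 1 := fun e => hmove (by rw [e, ((mem_autGroup hE.le).1 hα).map_one]; exact one_mem _)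
  set w := afun α z with hwdef
  have hw1 : w ≠ 1 := fun e => hz1 (((mem_autGroup hE.le).1 hα).eq_one_of_apply (hzP hz) e)
  obtain ⟨t, ht, ht1⟩ := hE.nontriv
  -- elements fixing `w` and stabilizing `C`
  let A : Subgroup (MulAut P) :=
    { carrier := {β | β ∈ F.autGroup P ∧ afun β w = w ∧ ∀ c ∈ C, (afun β c ∈ C ∧ afun β⁻¹ c ∈ C)}
      one_mem' := ⟨one_mem _, afun_one (hE.cle hw), fun c hc => by
        rw [inv_one, afun_one (hE.cle hc)]; exact ⟨hc, hc⟩⟩
      mul_mem' := fun {β γ} h h' => ⟨mul_mem h.1 h'.1, by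
        rw [afun_mul _ _ (hE.cle hw), h'.2.1, h.2.1], fun c hc => ⟨by
          rw [afun_mul _ _ (hE.cle hc)]; exact (h.2.2 _ (h'.2.2 c hc).1).1, by
          rw [mul_inv_rev, afun_mul _ _ (hE.cle hc)]; exact (h'.2.2 _ (h.2.2 c hc).2).2⟩⟩
      inv_mem' := fun {β} h => ⟨inv_mem h.1, by
        conv_lhs => rw [← h.2.1]
        exact afun_inv_apply β (hE.cle hw), fun c hc => ⟨(h.2.2 c hc).2, by
          rw [inv_inv]; exact (h.2.2 c hc).1⟩⟩ }
  let Y : ℕ → Subgroup Ω := fun i =>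
    match i with
    | 0 => ⊥
    | 1 => Subgroup.zpowers w
    | 2 => C
    | _ + 3 => P
  have hYP : ∀ i ≤ 3, Y i ≤ P := by
    intro i hi
    interval_cases i
    exacts [bot_le, Subgroup.zpowers_le.2 (hE.cle hw), hE.cle, le_rfl]
  have hinv : ∀ β ∈ A, ∀ i ≤ 3, ∀ y ∈ Y i, afun β y ∈ Y i := by
    intro β hβ i hi y hy
    interval_cases i
    · rw [show Y 0 = ⊥ from rfl, Subgroup.mem_bot] at hy ⊢
      rw [hy]; exact ((mem_autGroup hE.le).1 hβ.1).map_one
    · show afun β y ∈ Subgroup.zpowers w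
      rw [fix_zpowers ((mem_autGroup hE.le).1 hβ.1) (hE.cle hw) hβ.2.1 hy]; exact hy
    · exact (hβ.2.2 y hy).1
    · exact afun_mem β hy
  have hmono : ∀ i < 3, Y i ≤ Y (i + 1) := by
    intro i hi
    interval_cases i
    exacts [bot_le, Subgroup.zpowers_le.2 hw, hE.cle]
  have hK := isPGroup_stabGroup hS hE.le (A := A) (Y := Y) (n := 3) (hYP := hYP) (hinv := hinv)
    rfl rfl hmono
  have hW : ∀ x ∈ P, x⁻¹ * afun (α * t * α⁻¹) x ∈ Subgroup.zpowers w := by
    intro x hx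
    have hy := afun_mem α⁻¹ hx
    have h := hE.step t ht _ hy
    rw [conj_step ((mem_autGroup hE.le).1 hα) hx]
    rw [← eq_zpowers hD hz hz1] at h
    obtain ⟨k, hk⟩ := h
    refine ⟨k, ?_⟩
    show w ^ k = _
    rw [show (afun α⁻¹ x)⁻¹ * afun t (afun α⁻¹ x) = z ^ k from hk.symm, afun_zpow (hzP hz)]
  have hfw : afun (α * t * α⁻¹) w = w := by
    rw [afun_mul _ _ (hE.cle hw), hwdef, afun_inv_apply α (hzP hz), afun_mul _ _ (hzP hz),
      hE.fixC t ht z (hD.zc hz)]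
  have hWC : Subgroup.zpowers w ≤ C := Subgroup.zpowers_le.2 hw
  have hpres : ∀ c ∈ C, ∀ {s : MulAut P}, (∀ x ∈ P, x⁻¹ * afun s x ∈ C) → afun s c ∈ C :=
    fun c hc s h => by
      have := C.mul_mem hc (h c (hE.cle hc))
      rwa [mul_inv_cancel_left] at this
  have hstepinv : ∀ {s : MulAut P}, (∀ x ∈ P, x⁻¹ * afun s x ∈ C) → ∀ x ∈ P, x⁻¹ * afun s⁻¹ x ∈ C := by
    intro s h x hx
    have := C.inv_mem (h _ (afun_mem s⁻¹ hx))
    rwa [afun_apply_inv s hx, mul_inv_rev, inv_inv] at this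
  have htA : t ∈ A := ⟨hE.tle ht, hE.fixC t ht w hw, fun c hc =>
    ⟨(hE.fixC t ht c hc).symm ▸ hc, (hE.fixC t⁻¹ (inv_mem ht) c hc).symm ▸ hc⟩⟩
  have hsA : α * t * α⁻¹ ∈ A := ⟨mul_mem (mul_mem hα (hE.tle ht)) (inv_mem hα), hfw, fun c hc =>
    ⟨hpres c hc fun x hx => hWC (hW x hx),
      hpres c hc (hstepinv fun x hx => hWC (hW x hx))⟩⟩
  refine not_both hD hE hα hz hmove (K := stabGroup A Y 3 hYP hinv) hK (fun β hβ => hβ.1.1)
    ht ht1 ht ht1 ⟨htA, fun i hi y hy => ?_⟩ ⟨hsA, fun i hi y hy => ?_⟩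
  · interval_cases i
    · show y⁻¹ * afun t y ∈ (⊥ : Subgroup Ω)
      rw [hE.fixC t ht y (hWC hy), inv_mul_cancel]; exact one_mem _
    · show y⁻¹ * afun t y ∈ Subgroup.zpowers w
      rw [hE.fixC t ht y hy, inv_mul_cancel]; exact one_mem _
    · exact hD.zc (hE.step t ht y hy)
  · interval_cases i
    · show y⁻¹ * afun (α * t * α⁻¹) y ∈ (⊥ : Subgroup Ω)
      rw [fix_zpowers ((mem_autGroup hE.le).1 hsA.1) (hE.cle hw) hfw hy, inv_mul_cancel]; exact one_mem _
    · exact hW y (hE.cle hy)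
    · exact hWC (hW y hy)

include hD in
/-- An element of `T` fixing a point moved out of `Z` is trivial. -/
theorem eq_one_of_fix (hS : IsPGroup p S) (hE : Ess F p Z C P T) {α : MulAut P}
    (hα : α ∈ F.autGroup P) {z : Ω} (hz : z ∈ Z) (hmove : afun α z ∉ Z)
    (hab : ∀ a ∈ P, ∀ b ∈ P, a * b = b * a) {t : MulAut P} (ht : t ∈ T)
    (hfix : afun t (afun α z) = afun α z) : t = 1 := by
  by_contra ht1
  have hzP : Z ≤ P := hD.zc.trans hE.cle
  have hz1 : z ≠ 1 := fun e => hmove (by rw [e, ((mem_autGroup hE.le).1 hα).map_one]; exact one_mem _)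
  have hm := (mem_autGroup hE.le).1 hα
  haveI := finite_autGroup (F := F) P
  haveI : Finite T := Finite.of_injective _ (Subgroup.inclusion_injective hE.tle)
  have hTp : IsPGroup p T := by
    obtain ⟨U, hU⟩ := hE.syl
    exact (hU ▸ U.isPGroup' : IsPGroup p (T.subgroupOf (F.autGroup P))).of_equiv
      (Subgroup.subgroupOfEquivOfLe hE.tle)
  -- evaluation at a point of `P` is a homomorphism into `Z`
  let ev : ∀ v ∈ P, T →* Z := fun v hv =>
    MonoidHom.mk' (fun s => ⟨v⁻¹ * afun (s : MulAut P) v, hE.step _ s.2 v hv⟩) fun s r => Subtype.ext (by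
      show v⁻¹ * afun ((s : MulAut P) * (r : MulAut P)) v = v⁻¹ * afun (s : MulAut P) v * (v⁻¹ * afun (r : MulAut P) v)
      have hd := hE.step _ r.2 v hv
      have e : afun (r : MulAut P) v = v * (v⁻¹ * afun (r : MulAut P) v) := (mul_inv_cancel_left _ _).symm
      rw [afun_mul _ _ hv]
      conv_lhs => rw [e, afun_map_mul _ hv (hzP hd), hE.fixC _ s.2 _ (hD.zc hd)]
      rw [← mul_assoc])
  -- an element fixing the preimage of `z`
  have hv := afun_mem α⁻¹ (hzP hz)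
  have hT2 : p < Nat.card T := by
    haveI : Finite Z := Nat.finite_of_card_ne_zero (by rw [hD.card]; exact (Fact.out (p := p.Prime)).ne_zero)
    by_contra hle
    have hc : Nat.card T = p := by
      obtain ⟨k, hk⟩ := IsPGroup.iff_card.1 hTp
      have h1 : 1 < Nat.card T := by
        obtain ⟨s, hs, hs1⟩ := hE.nontriv
        haveI : Nontrivial T := ⟨⟨⟨s, hs⟩, 1, fun e => hs1 (congrArg Subtype.val e)⟩⟩
        exact Finite.one_lt_card
      have hk1 : k ≤ 1 := by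
        rw [not_lt, hk] at hle
        exact (Nat.pow_le_pow_iff_right (Fact.out (p := p.Prime)).one_lt).1 (hle.trans (pow_one p).ge)
      interval_cases k
      · rw [hk, pow_zero] at h1; exact absurd h1 (lt_irrefl _)
      · rw [hk, pow_one]
    -- `T = ⟨t⟩` fixes `α z`, which is then central
    have hTt : ∀ s ∈ T, afun s (afun α z) = afun α z := by
      intro s hs
      obtain ⟨k, hk'⟩ : (⟨s, hs⟩ : T) ∈ Subgroup.zpowers (⟨t, ht⟩ : T) := by
        rw [zpowers_eq_top_of_prime_card hc (fun e => ht1 (congrArg Subtype.val e))]; trivial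
      haveI := finite_of_le hE.le
      obtain ⟨n, hn⟩ := (isOfFinOrder_of_finite t).mem_powers_iff_mem_zpowers.2 ⟨k, rfl⟩
      have hs' : s = t ^ k := by
        have := congrArg Subtype.val hk'
        simpa using this.symm
      rw [hs', ← show t ^ n = t ^ k from hn]
      exact afun_pow_fix (afun_mem α (hzP hz)) hfix n
    exact apply_notMem hD hS hE hα hz hmove (hE.fixMem _ (afun_mem α (hzP hz)) hTt)
  obtain ⟨t₁, ht₁⟩ : ∃ s : T, s ≠ 1 ∧ ev _ hv s = 1 := by
    by_contra hall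
    simp only [not_exists, not_and] at hall
    have hinj : Function.Injective (ev _ hv) := (injective_iff_map_eq_one _).2 fun s hs => by
      by_contra h
      exact hall s h hs
    haveI : Finite Z := Nat.finite_of_card_ne_zero (by rw [hD.card]; exact (Fact.out (p := p.Prime)).ne_zero)
    have := Nat.card_le_card_of_injective _ hinj
    rw [hD.card] at this
    exact absurd this (Nat.not_le.2 hT2)
  have hfix₁ : afun (t₁ : MulAut P) (afun α⁻¹ z) = afun α⁻¹ z :=
    (inv_mul_eq_one.1 (congrArg Subtype.val ht₁.2)).symm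
  set t' := α * (t₁ : MulAut P) * α⁻¹ with ht'
  have ht'A : t' ∈ F.autGroup P := mul_mem (mul_mem hα (hE.tle t₁.2)) (inv_mem hα)
  have hfixz : afun t' z = z := by
    rw [ht', afun_mul _ _ (hzP hz), afun_mul _ _ hv, hfix₁, afun_apply_inv α (hzP hz)]
  have hcomm : t * t' = t' * t := by
    refine afun_ext fun x hx => ?_
    have hy := afun_mem α⁻¹ hx
    obtain ⟨k, hk⟩ : ∃ k : ℤ, x⁻¹ * afun t' x = (afun α z) ^ k := by
      have h := hE.step _ t₁.2 _ hy
      rw [← eq_zpowers hD hz hz1] at h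
      obtain ⟨k, hk⟩ := h
      refine ⟨k, ?_⟩
      rw [ht', conj_step hm hx,
        show (afun α⁻¹ x)⁻¹ * afun (t₁ : MulAut P) (afun α⁻¹ x) = z ^ k from hk.symm, afun_zpow (hzP hz)]
    have hwP := afun_mem α (hzP hz)
    have hdW : afun t (x⁻¹ * afun t' x) = x⁻¹ * afun t' x :=
      fix_zpowers ((mem_autGroup hE.le).1 (hE.tle ht)) hwP hfix ⟨k, hk.symm⟩
    have hdZ : afun t' (x⁻¹ * afun t x) = x⁻¹ * afun t x := by
      have hd := hE.step t ht x hx
      rw [← eq_zpowers hD hz hz1] at hd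
      exact fix_zpowers ((mem_autGroup hE.le).1 ht'A) (hzP hz) hfixz hd
    have h1 : x⁻¹ * afun t x ∈ P := P.mul_mem (P.inv_mem hx) (afun_mem t hx)
    have h2 : x⁻¹ * afun t' x ∈ P := P.mul_mem (P.inv_mem hx) (afun_mem t' hx)
    have e1 : afun t' x = x * (x⁻¹ * afun t' x) := (mul_inv_cancel_left _ _).symm
    have e2 : afun t x = x * (x⁻¹ * afun t x) := (mul_inv_cancel_left _ _).symm
    rw [afun_mul t t' hx, afun_mul t' t hx]
    calc afun t (afun t' x) = afun t x * (x⁻¹ * afun t' x) := by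
          conv_lhs => rw [e1]
          rw [afun_map_mul t hx h2, hdW]
      _ = afun t' x * (x⁻¹ * afun t x) := by
          have ha := afun_mem t hx
          have hb := afun_mem t' hx
          rw [← mul_assoc, ← mul_assoc, hab _ ha _ (P.inv_mem hx), hab _ hb _ (P.inv_mem hx),
            mul_assoc, mul_assoc, hab _ ha _ hb]
      _ = afun t' (afun t x) := by
          conv_rhs => rw [e2]
          rw [afun_map_mul t' hx h1, hdZ]
  have htp : ∀ s : MulAut P, (∃ k, s ^ p ^ k = 1) → IsPGroup p (Subgroup.zpowers s) := by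
    rintro s ⟨k, hk⟩
    obtain ⟨c, -, hc⟩ := (Nat.dvd_prime_pow (Fact.out (p := p.Prime))).1 (orderOf_dvd_of_pow_eq_one hk)
    exact IsPGroup.of_card (n := c) (by rw [Nat.card_zpowers, hc])
  have hpt : ∀ s : T, ∃ k, (s : MulAut P) ^ p ^ k = 1 := fun s =>
    (hTp s).imp fun k hk => congrArg Subtype.val hk
  have hpt' : ∃ k, t' ^ p ^ k = 1 := (hpt t₁).imp fun k hk => by
    rw [ht', conj_pow, hk, mul_one, mul_inv_cancel]
  refine not_both hD hE hα hz hmove (K := Subgroup.zpowers t ⊔ Subgroup.zpowers t')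
    (IsPGroup.to_sup_of_normal_right' (htp t (hpt ⟨t, ht⟩)) (htp t' hpt') ?_)
    (sup_le (Subgroup.zpowers_le.2 (hE.tle ht)) (Subgroup.zpowers_le.2 ht'A))
    ht ht1 t₁.2 (fun e => ht₁.1 (Subtype.ext e))
    (Subgroup.mem_sup_left (Subgroup.mem_zpowers t)) (Subgroup.mem_sup_right (Subgroup.mem_zpowers t'))
  refine Subgroup.zpowers_le.2 (Subgroup.mem_normalizer_iff.2 fun n => ?_)
  constructor
  · rintro ⟨k, rfl⟩
    refine ⟨k, ?_⟩
    show t' ^ k = t * t' ^ k * t⁻¹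
    rw [((show Commute t t' from hcomm).zpow_right k).eq, mul_inv_cancel_right]
  · rintro ⟨k, hk⟩
    refine ⟨k, ?_⟩
    have := ((show Commute t t' from hcomm).zpow_right k).eq
    have hk' : t' ^ k = t * n * t⁻¹ := hk
    calc t' ^ k = t⁻¹ * (t * t' ^ k) := (inv_mul_cancel_left _ _).symm
      _ = t⁻¹ * (t' ^ k * t) := by rw [this]
      _ = n := by rw [hk']; group

end

end Cfsg.Agent.S5178

namespace Cfsg.Agent.S5178

section
open scoped commutatorElement
open Cfsg.FusionSystem Cfsg.Agent.FusionSysBasic Cfsg.Agent.FusionSysSaturated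
  Cfsg.Agent.FusionSysNormal Cfsg.Agent.FusionSysChain Cfsg.Agent.FusionSysAlperin

variable {Ω : Type*} [Group Ω] {S : Subgroup Ω} [Finite S] {p : ℕ} [Fact p.Prime]
  {F : Cfsg.FusionSystem S} {Z C : Subgroup Ω} (hD : Setup p S Z C) {P : Subgroup Ω}

include hD in
theorem mkEss (hS : IsPGroup p S) (hF : F.IsSaturated p) (hP : F.IsEssential p P) :
    Ess F p Z C P (autInducedBy S P) ∧ normalizerIn S P = S := by
  have hPS := hP.1.1
  have hcen := centralizerIn_le_of_centric hP.1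
  have hCP : C ≤ P := fun c hc => hcen (mem_centralizerIn.2 ⟨hD.cs hc, fun x hx => by
    rw [cj_apply, ← hD.central c hc x (hPS hx), mul_inv_cancel_right]⟩)
  have hN : normalizerIn S P = S := by
    refine le_antisymm inf_le_left fun g hg => mem_normalizerIn.2 ⟨hg, ?_⟩
    refine mem_normalizer_of_cj_le hPS fun x hx => ?_
    have := P.mul_mem hx (hCP (hD.zc (cj_step hD hg (hPS hx))))
    rwa [mul_inv_cancel_left] at this
  refine ⟨⟨hPS, hCP, autInducedBy_le hPS, (fullyAutomized_of_fullyNormalized hS hF hP.2.1).2,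
    fun t ht x hx => ?_, fun t ht c hc => ?_, ?_, fun y hy h => ?_⟩, hN⟩
  · obtain ⟨g, hg, -, he⟩ := mem_autInducedBy.1 ht
    rw [he x hx]; exact cj_step hD hg (hPS hx)
  · obtain ⟨g, hg, -, he⟩ := mem_autInducedBy.1 ht
    rw [he c (hCP hc)]; exact cj_central hD hg hc
  · obtain ⟨g, hgS, hgP⟩ := SetLike.exists_of_lt (essential_lt hS hF hP)
    have hgn : g ∈ S ⊓ Subgroup.normalizer (P : Set Ω) := hN.ge hgS
    refine ⟨nHom S P ⟨g, hgn⟩, (autInducedBy_eq_range S P).ge ⟨_, rfl⟩, fun e => hgP (hcen ?_)⟩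
    refine mem_centralizerIn.2 ⟨hgS, fun x hx => ?_⟩
    have := afun_nHom (K := S) ⟨g, hgn⟩ hx
    rw [e, afun_one hx] at this
    exact this.symm
  · refine hD.cmax y (hPS hy) fun g hg => ?_
    have hgn : g ∈ S ⊓ Subgroup.normalizer (P : Set Ω) := hN.ge hg
    have := h _ ((autInducedBy_eq_range S P).ge ⟨⟨g, hgn⟩, rfl⟩)
    rw [afun_nHom (K := S) ⟨g, hgn⟩ hy, cj_apply, mul_inv_eq_iff_eq_mul] at this
    exact this

include hD in
theorem exists_move (hS : IsPGroup p S) (hF : F.IsSaturated p) (hP : F.IsEssential p P) :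
    ∃ α ∈ F.autGroup P, ∃ z ∈ Z, afun α z ∉ Z := by
  obtain ⟨hE, hN⟩ := mkEss hD hS hF hP
  by_contra hall
  simp only [not_exists, not_and, not_not] at hall
  have hlt := essential_lt hS hF hP
  have hZP : Z ≤ P := hD.zc.trans hE.cle
  let Y : ℕ → Subgroup Ω := fun i =>
    match i with
    | 0 => ⊥
    | 1 => Z
    | _ + 2 => P
  have hYP : ∀ i ≤ 2, Y i ≤ P := by
    intro i hi
    interval_cases i
    exacts [bot_le, hZP, le_rfl]
  have hinv : ∀ β ∈ F.autGroup P, ∀ i ≤ 2, ∀ y ∈ Y i, afun β y ∈ Y i := by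
    intro β hβ i hi y hy
    interval_cases i
    · rw [show Y 0 = ⊥ from rfl, Subgroup.mem_bot] at hy ⊢
      rw [hy]; exact ((mem_autGroup hE.le).1 hβ).map_one
    · exact hall β hβ y hy
    · exact afun_mem β hy
  refine hlt.not_ge (le_of_normal_pSubgroup hS hP.1 (radical_of_essential hS hP) le_rfl
    (fun x hx => Subgroup.le_normalizer (hE.le hx))
    (M := stabGroup (F.autGroup P) Y 2 hYP hinv) (fun α hα => hα.1)
    (isPGroup_stabGroup hS hE.le rfl rfl (fun i hi => by interval_cases i <;> [exact bot_le; exact hZP]))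
    (fun β hβ m hm => stabGroup_normal hβ hm) fun g _ => ?_)
  refine ⟨hE.tle ((autInducedBy_eq_range S P).ge ⟨g, rfl⟩), fun i hi y hy => ?_⟩
  rw [afun_nHom g (hYP (i + 1) hi hy)]
  interval_cases i
  · show y⁻¹ * cj (g : Ω) y ∈ (⊥ : Subgroup Ω)
    rw [cj_central hD g.2.1 (hD.zc hy), inv_mul_cancel]; exact one_mem _
  · exact cj_step hD g.2.1 (hE.le hy)

include hD in
theorem comm_of_move (hPS : P ≤ S) (hCP : C ≤ P) {α : MulAut P} (hα : α ∈ F.autGroup P) {z : Ω}
    (hz : z ∈ Z) (hmove : afun α z ∉ Z) : ∀ a ∈ P, ∀ b ∈ P, a * b = b * a := by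
  intro a ha b hb
  by_contra hne
  have hu1 : ⁅a, b⁆ ≠ 1 := fun e => hne (commutatorElement_eq_one_iff_mul_comm.1 e)
  have huZ := hD.comm a (hPS ha) b (hPS hb)
  have hm := (mem_autGroup hPS).1 hα
  rw [← eq_zpowers hD huZ hu1] at hz
  obtain ⟨k, rfl⟩ := hz
  apply hmove
  rw [afun_zpow (hCP (hD.zc huZ))]
  refine Z.zpow_mem ?_ k
  have hab : a * b ∈ P := P.mul_mem ha hb
  rw [commutatorElement_def, afun_map_mul α (P.mul_mem hab (P.inv_mem ha)) (P.inv_mem hb),
    afun_map_mul α hab (P.inv_mem ha), afun_map_mul α ha hb, hm.map_inv ha, hm.map_inv hb]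
  exact hD.comm _ (hPS (afun_mem α ha)) _ (hPS (afun_mem α hb))

/-- Automorphisms of `S` inverting `Z` and trivial on `C` modulo `Z`. -/
def Inv (F : Cfsg.FusionSystem S) (Z C : Subgroup Ω) (h : MulAut S) : Prop :=
  h ∈ F.autGroup S ∧ (∀ z ∈ Z, afun h z = z⁻¹) ∧ ∀ c ∈ C, c⁻¹ * afun h c ∈ Z

include hD in
/-- Two such automorphisms have the same fixed points in `C`. -/
theorem fix_unique (hS : IsPGroup p S) (hF : F.IsSaturated p) {h h' : MulAut S} (hh : Inv F Z C h)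
    (hh' : Inv F Z C h') {c : Ω} (hc : c ∈ C) (hfix : afun h c = c) : afun h' c = c := by
  set u := c⁻¹ * afun h' c with hu
  have huZ : u ∈ Z := hh'.2.2 c hc
  have hcS := hD.cs hc
  have huS : u ∈ S := hD.cs (hD.zc huZ)
  have he : afun h' c = c * u := (mul_inv_cancel_left _ _).symm
  have hg : afun (h * h') c = c * u⁻¹ := by
    rw [afun_mul _ _ hcS, he, afun_map_mul h hcS huS, hfix, hh.2.1 u huZ]
  have hgu : afun (h * h') u⁻¹ = u⁻¹ := by
    rw [afun_mul _ _ (S.inv_mem huS), hh'.2.1 _ (Z.inv_mem huZ), inv_inv, hh.2.1 u huZ]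
  have hpow : ∀ n : ℕ, afun ((h * h') ^ n) c = c * u⁻¹ ^ n := by
    intro n
    induction n with
    | zero => rw [pow_zero, afun_one hcS, pow_zero, mul_one]
    | succ n ih =>
      rw [pow_succ, afun_mul _ _ hcS, hg, afun_map_mul _ hcS (S.inv_mem huS), ih,
        afun_pow_fix (S.inv_mem huS) hgu n, mul_assoc, ← pow_succ]
  haveI := finite_autGroup (F := F) S
  have hgA : h * h' ∈ F.autGroup S := mul_mem hh.1 hh'.1
  set g : F.autGroup S := ⟨h * h', hgA⟩ with hgdef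
  set n := orderOf g with hn
  have hn0 : n ≠ 0 := (orderOf_pos g).ne'
  set m := n / p ^ n.factorization p with hm
  have hgm : ((h * h') ^ m) ^ p ^ n.factorization p = 1 := by
    rw [← pow_mul, hm, mul_comm, Nat.ordProj_mul_ordCompl_eq_self]
    exact congrArg Subtype.val (pow_orderOf_eq_one g)
  have hK : IsPGroup p (Subgroup.zpowers ((h * h') ^ m)) := by
    obtain ⟨e, -, he'⟩ := (Nat.dvd_prime_pow (Fact.out (p := p.Prime))).1 (orderOf_dvd_of_pow_eq_one hgm)
    exact IsPGroup.of_card (n := e) (by rw [Nat.card_zpowers, he'])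
  obtain ⟨a, ha, hab⟩ := sylIn_absorb (fullyAutomized_of_saturated_self hF).2 hK
    (Subgroup.zpowers_le.2 (pow_mem hgA m))
  obtain ⟨s, hs, -, hse⟩ := mem_autInducedBy.1 (hab _ (Subgroup.mem_zpowers _))
  have hfixm : afun ((h * h') ^ m) c = c := by
    have hma := (mem_autGroup le_rfl).1 ha
    have hy := afun_mem a hcS
    have h1 := hse _ hy
    rw [afun_mul _ _ hy, afun_inv_apply a hcS, afun_mul _ _ hcS] at h1
    have h2 : cj s (afun a c) = afun a c := by
      obtain ⟨s', hs', rfl⟩ : ∃ s' ∈ S, afun a s' = s := ⟨afun a⁻¹ s, afun_mem _ hs, afun_apply_inv a hs⟩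
      rw [← hma.map_cj hs' hcS, cj_central hD hs' hc]
    rw [h2] at h1
    exact hma.injOn (afun_mem _ hcS) hcS h1
  rw [hpow m, mul_eq_left] at hfixm
  have hcop : Nat.Coprime m p :=
    (Nat.coprime_ordCompl (Fact.out (p := p.Prime)) hn0).symm
  have hu1 : u = 1 := by
    rw [← inv_eq_one]
    have h1 : u⁻¹ ^ p = 1 := PGroupsBasic.pow_eq_one_of_card hD.card (Z.inv_mem huZ)
    rw [← pow_one u⁻¹, ← hcop.gcd_eq_one]
    exact pow_gcd_eq_one.2 ⟨hfixm, h1⟩
  rw [he, hu1, mul_one]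

include hD in
/-- Each automorphism moving `Z` gives such an automorphism of `S`. -/
theorem exists_inv_aut (hp : Odd p) (hS : IsPGroup p S) (hF : F.IsSaturated p)
    (hP : F.IsEssential p P) {α : MulAut P} (hα : α ∈ F.autGroup P) {z₀ : Ω} (hz₀ : z₀ ∈ Z)
    (hmove : afun α z₀ ∉ Z) :
    ∃ h : MulAut S, Inv F Z C h ∧ (∃ c ∈ C, c ≠ 1 ∧ afun h c = c) ∧
      ∀ c ∈ C, (afun h c = c ↔ afun α⁻¹ c ∈ C) := by
  obtain ⟨hE, hN⟩ := mkEss hD hS hF hP
  set T := autInducedBy S P with hTdef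
  have hab := comm_of_move hD hE.le hE.cle hα hz₀ hmove
  have hZP : Z ≤ P := hD.zc.trans hE.cle
  have hPS := hE.le
  haveI : Finite Z := Nat.finite_of_card_ne_zero (by rw [hD.card]; exact (Fact.out (p := p.Prime)).ne_zero)
  have hz1 : z₀ ≠ 1 := fun e => hmove (by rw [e, ((mem_autGroup hPS).1 hα).map_one]; exact one_mem _)
  have hm := (mem_autGroup hPS).1 hα
  set w := afun α z₀ with hw
  have hwP : w ∈ P := afun_mem α (hZP hz₀)
  obtain ⟨t, ht, ht1⟩ := hE.nontriv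
  -- choose the generator of `Z`
  set z := w⁻¹ * afun t w with hzdef
  have hz : z ∈ Z := hE.step t ht w hwP
  have htw : afun t w = w * z := (mul_inv_cancel_left _ _).symm
  clear_value z
  have hzne : z ≠ 1 := fun e => ht1 (eq_one_of_fix hD hS hE hα hz₀ hmove hab ht (by rw [htw, e, mul_one]))
  have htfix : ∀ c ∈ C, afun t c = c := hE.fixC t ht
  have htC : ∀ y ∈ P, afun t y = y → y ∈ C := by
    intro y hy h1
    refine hE.fixMem y hy fun s hs => ?_
    obtain ⟨k, hk⟩ : w⁻¹ * afun s w ∈ Subgroup.zpowers z := by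
      rw [eq_zpowers hD hz hzne]; exact hE.step s hs w hwP
    haveI := finite_of_le hPS
    obtain ⟨n, hn⟩ := (isOfFinOrder_iff_pow_eq_one.2 ⟨p, (Fact.out (p := p.Prime)).pos,
      PGroupsBasic.pow_eq_one_of_card hD.card hz⟩ : IsOfFinOrder z).mem_powers_iff_mem_zpowers.2 ⟨k, rfl⟩
    have hiter : ∀ n : ℕ, afun (t ^ n) w = w * z ^ n := by
      intro n
      induction n with
      | zero => rw [pow_zero, afun_one hwP, pow_zero, mul_one]
      | succ n ih =>
        rw [pow_succ, afun_mul _ _ hwP, htw, afun_map_mul _ hwP (hZP hz), ih,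
          afun_pow_fix (hZP hz) (htfix z (hD.zc hz)) n, mul_assoc, ← pow_succ]
    have hst : s = t ^ n := by
      have h2 : afun ((t ^ n)⁻¹ * s) w = w := by
        have : afun s w = afun (t ^ n) w := by
          rw [hiter n, show z ^ n = w⁻¹ * afun s w from hn.trans hk, mul_inv_cancel_left]
        rw [afun_mul _ _ hwP, this, afun_inv_apply _ hwP]
      have := eq_one_of_fix hD hS hE hα hz₀ hmove hab (mul_mem (inv_mem (pow_mem ht n)) hs) h2
      exact (inv_mul_eq_one.1 this).symm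
    rw [hst]
    exact afun_pow_fix hy h1 n
  -- the opposite element
  have hmove' : afun α⁻¹ z ∉ Z := by
    intro h1
    apply hmove
    have hne : afun α⁻¹ z ≠ 1 :=
      fun e => hzne (((mem_autGroup hPS).1 (inv_mem hα)).eq_one_of_apply (hZP hz) e)
    rw [← eq_zpowers hD h1 hne] at hz₀
    obtain ⟨k, hk⟩ := hz₀
    show afun α z₀ ∈ Z
    rw [show z₀ = afun α⁻¹ z ^ k from hk.symm, afun_zpow (afun_mem _ (hZP hz)), afun_apply_inv α (hZP hz)]
    exact Z.zpow_mem hz k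
  set t₁ := α * t * α⁻¹ with ht₁
  have ht₁A : t₁ ∈ F.autGroup P := mul_mem (mul_mem hα (hE.tle ht)) (inv_mem hα)
  have hW : ∀ x ∈ P, x⁻¹ * afun t₁ x ∈ Subgroup.zpowers w := by
    intro x hx
    have h := hE.step t ht _ (afun_mem α⁻¹ hx)
    rw [← eq_zpowers hD hz₀ hz1] at h
    obtain ⟨k, hk⟩ := h
    refine ⟨k, ?_⟩
    rw [ht₁, conj_step hm hx, show (afun α⁻¹ x)⁻¹ * afun t (afun α⁻¹ x) = z₀ ^ k from hk.symm,
      afun_zpow (hZP hz₀)]
  have ht₁w : afun t₁ w = w := by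
    rw [ht₁, afun_mul _ _ hwP, hw, afun_inv_apply α (hZP hz₀), afun_mul _ _ (hZP hz₀),
      htfix z₀ (hD.zc hz₀)]
  set d := z⁻¹ * afun t₁ z with hd
  have hdne : d ≠ 1 := by
    intro e
    have h1 : afun t₁ z = z := (inv_mul_eq_one.1 e).symm
    refine ht1 (eq_one_of_fix hD hS hE (inv_mem hα) hz hmove' hab ht ?_)
    have := congrArg (afun α⁻¹) h1
    rwa [ht₁, afun_mul _ _ (hZP hz), afun_mul _ _ (afun_mem α⁻¹ (hZP hz)),
      afun_inv_apply α (afun_mem t (afun_mem α⁻¹ (hZP hz)))] at this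
  -- a power taking `z` to `z * w⁻¹`
  have hwo : orderOf w = p := by
    refine PGroupsBasic.orderOf_eq_of_pow_eq_one ?_ fun e => hz1 (hm.eq_one_of_apply (hZP hz₀) e)
    show afun α z₀ ^ p = 1
    rw [← zpow_natCast, ← afun_zpow (hZP hz₀), zpow_natCast, PGroupsBasic.pow_eq_one_of_card hD.card hz₀,
      hm.map_one]
  obtain ⟨m, hm'⟩ : ∃ m : ℕ, d ^ m = w⁻¹ := by
    obtain ⟨k, hk⟩ := hW z (hZP hz)
    have hdw : d ∈ Subgroup.zpowers w := ⟨k, hk⟩
    have hd' : orderOf d = p := PGroupsBasic.orderOf_eq_of_pow_eq_one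
      (PGroupsBasic.pow_eq_one_of_card (H := Subgroup.zpowers w) (by rw [Nat.card_zpowers, hwo]) hdw) hdne
    haveI : Finite (Subgroup.zpowers w) := Nat.finite_of_card_ne_zero (by
      rw [Nat.card_zpowers, hwo]; exact (Fact.out (p := p.Prime)).ne_zero)
    have e : Subgroup.zpowers d = Subgroup.zpowers w := Subgroup.eq_of_le_of_card_ge
      (Subgroup.zpowers_le.2 hdw) (by rw [Nat.card_zpowers, Nat.card_zpowers, hd', hwo])
    obtain ⟨m, hm'⟩ := (isOfFinOrder_iff_pow_eq_one.2 ⟨p, (Fact.out (p := p.Prime)).pos,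
      hd' ▸ pow_orderOf_eq_one d⟩ : IsOfFinOrder d).mem_powers_iff_mem_zpowers.2
        (e.ge ((Subgroup.zpowers w).inv_mem (Subgroup.mem_zpowers w)))
    exact ⟨m, hm'⟩
  set t' := t₁ ^ m with ht'
  have ht'A : t' ∈ F.autGroup P := pow_mem ht₁A m
  have ht'w : afun t' w = w := afun_pow_fix hwP ht₁w m
  have ht'z : afun t' z = z * w⁻¹ := by
    have hdP : d ∈ P := P.mul_mem (P.inv_mem (hZP hz)) (afun_mem t₁ (hZP hz))
    have hfd : afun t₁ d = d := fix_zpowers ((mem_autGroup hPS).1 ht₁A) hwP ht₁w (hW z (hZP hz))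
    have hz1' : afun t₁ z = z * d := (mul_inv_cancel_left _ _).symm
    have hiter : ∀ n : ℕ, afun (t₁ ^ n) z = z * d ^ n := by
      intro n
      induction n with
      | zero => rw [pow_zero, afun_one (hZP hz), pow_zero, mul_one]
      | succ n ih =>
        rw [pow_succ, afun_mul _ _ (hZP hz), hz1', afun_map_mul _ (hZP hz) hdP, ih,
          afun_pow_fix hdP hfd n, mul_assoc, ← pow_succ]
    rw [ht', hiter, hm']
  have htz : afun t z = z := htfix z (hD.zc hz)
  have hinv : ∀ {s : MulAut P} {y : Ω}, s ∈ F.autGroup P → y ∈ P → afun s y⁻¹ = (afun s y)⁻¹ :=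
    fun hs hy => ((mem_autGroup hPS).1 hs).map_inv hy
  have hzw : z * w = w * z := (hab w hwP z (hZP hz)).symm
  set a := t * t' * t with hadef
  have haA : a ∈ F.autGroup P := mul_mem (mul_mem (hE.tle ht) ht'A) (hE.tle ht)
  have haz : afun a z = w⁻¹ := by
    rw [hadef, afun_mul _ _ (hZP hz), htz, afun_mul _ _ (hZP hz), ht'z,
      afun_map_mul t (hZP hz) (P.inv_mem hwP), htz, hinv (hE.tle ht) hwP, htw,
      mul_inv_rev, mul_inv_cancel_left]
  have haw : afun a w = z := by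
    rw [hadef, afun_mul _ _ hwP, htw, afun_mul _ _ (P.mul_mem hwP (hZP hz)),
      afun_map_mul t' hwP (hZP hz), ht'w, ht'z,
      ← mul_assoc, ← hzw, mul_inv_cancel_right, htz]
  set h₀ := a * a with hh₀
  have hh₀A : h₀ ∈ F.autGroup P := mul_mem haA haA
  have h₀z : afun h₀ z = z⁻¹ := by rw [hh₀, afun_mul _ _ (hZP hz), haz, hinv haA hwP, haw]
  have h₀w : afun h₀ w = w⁻¹ := by rw [hh₀, afun_mul _ _ hwP, haw, haz]
  have h₀fix : ∀ c ∈ C, afun t' c = c → afun h₀ c = c := by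
    intro c hc hc'
    have h1 : afun a c = c := by
      rw [hadef, afun_mul _ _ (hE.cle hc), htfix c hc, afun_mul _ _ (hE.cle hc), hc', htfix c hc]
    rw [hh₀, afun_mul _ _ (hE.cle hc), h1, h1]
  -- decomposition of `C`
  have hdec : ∀ c ∈ C, ∃ i : ℤ, afun t₁ (c * z ^ i) = c * z ^ i := by
    intro c hc
    obtain ⟨k, hk⟩ := hW c (hE.cle hc)
    have hk' : w ^ k = c⁻¹ * afun t₁ c := hk
    obtain ⟨i, hi⟩ : w ^ (-k) ∈ Subgroup.zpowers d := by
      have : w ∈ Subgroup.zpowers d := by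
        have h1 : w⁻¹ ∈ Subgroup.zpowers d := ⟨(m : ℤ), by show d ^ (m : ℤ) = _; rw [zpow_natCast, hm']⟩
        simpa using inv_mem h1
      exact (Subgroup.zpowers d).zpow_mem this _
    refine ⟨i, ?_⟩
    have hzi : z ^ i ∈ P := P.zpow_mem (hZP hz) i
    have hdP : d ∈ P := P.mul_mem (P.inv_mem (hZP hz)) (afun_mem t₁ (hZP hz))
    rw [afun_map_mul t₁ (hE.cle hc) hzi, afun_zpow (hZP hz), show afun t₁ c = c * w ^ k by
      rw [hk', mul_inv_cancel_left], show afun t₁ z = z * d from (mul_inv_cancel_left _ _).symm,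
      (show Commute z d from hab z (hZP hz) d hdP).mul_zpow, show d ^ i = w ^ (-k) from hi,
      mul_assoc, ← mul_assoc (w ^ k), hab _ (P.zpow_mem hwP k) _ hzi, mul_assoc, ← zpow_add,
      add_neg_cancel, zpow_zero, mul_one]
  have hfixC : ∀ c ∈ C, ∃ i : ℤ, afun h₀ (c * z ^ i) = c * z ^ i ∧ afun t₁ (c * z ^ i) = c * z ^ i := by
    intro c hc
    obtain ⟨i, hi⟩ := hdec c hc
    have hcz : c * z ^ i ∈ C := C.mul_mem hc (C.zpow_mem (hD.zc hz) i)
    exact ⟨i, h₀fix _ hcz (afun_pow_fix (hE.cle hcz) hi m), hi⟩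
  -- generation of `P`
  have hgenP : ∀ y ∈ P, ∃ i : ℤ, y * w ^ i ∈ C := by
    intro y hy
    obtain ⟨k, hk⟩ : y⁻¹ * afun t y ∈ Subgroup.zpowers z := by
      rw [eq_zpowers hD hz hzne]; exact hE.step t ht y hy
    have hk' : z ^ k = y⁻¹ * afun t y := hk
    refine ⟨-k, htC _ (P.mul_mem hy (P.zpow_mem hwP _)) ?_⟩
    rw [afun_map_mul t hy (P.zpow_mem hwP _), afun_zpow hwP, htw,
      (show Commute w z from hzw.symm).mul_zpow, show afun t y = y * z ^ k by rw [hk', mul_inv_cancel_left],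
      mul_assoc, ← mul_assoc (z ^ k), hab _ (P.zpow_mem (hZP hz) k) _ (P.zpow_mem hwP _), mul_assoc,
      ← zpow_add, add_neg_cancel, zpow_zero, mul_one]
  have h₀C : ∀ c ∈ C, c⁻¹ * afun h₀ c ∈ Z := by
    intro c hc
    obtain ⟨i, hi, -⟩ := hfixC c hc
    have hzi : z ^ i ∈ P := P.zpow_mem (hZP hz) i
    rw [afun_map_mul h₀ (hE.cle hc) hzi, afun_zpow (hZP hz), h₀z, ← eq_mul_inv_iff_mul_eq] at hi
    rw [hi, show c⁻¹ * (c * z ^ i * (z⁻¹ ^ i)⁻¹) = z ^ i * (z⁻¹ ^ i)⁻¹ by group]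
    exact Z.mul_mem (Z.zpow_mem hz i) (Z.inv_mem (Z.zpow_mem (Z.inv_mem hz) i))
  have hcomm : ∀ y ∈ P, afun h₀ (afun t y) = afun t (afun h₀ y) := by
    intro y hy
    obtain ⟨i, hi⟩ := hgenP y hy
    have hwi : w ^ (-i) ∈ P := P.zpow_mem hwP _
    have hy' : y = (y * w ^ i) * w ^ (-i) := by rw [mul_assoc, ← zpow_add, add_neg_cancel, zpow_zero, mul_one]
    have hciP := hE.cle hi
    have hhc : afun h₀ (y * w ^ i) ∈ C := by
      have := C.mul_mem hi (hD.zc (h₀C _ hi))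
      rwa [mul_inv_cancel_left] at this
    have hwi' : w⁻¹ ^ (-i) ∈ P := P.zpow_mem (P.inv_mem hwP) _
    rw [hy', afun_map_mul t hciP hwi, htfix _ hi, afun_map_mul h₀ hciP hwi,
      afun_map_mul h₀ hciP (afun_mem t hwi), afun_zpow hwP, afun_zpow (afun_mem t hwP), afun_zpow hwP, htw,
      afun_map_mul h₀ hwP (hZP hz), h₀w, h₀z, afun_map_mul t (hE.cle hhc) hwi',
      htfix _ hhc, afun_zpow (P.inv_mem hwP), hinv (hE.tle ht) hwP, htw, mul_inv_rev]
    rw [hab _ (P.inv_mem hwP) _ (P.inv_mem (hZP hz))]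
  -- extension to `S`
  have hPS' : S ≤ Subgroup.normalizer (P : Set Ω) := fun g hg => (hN.ge hg).2
  have hTgen : ∀ g ∈ S, ∀ x ∈ P, afun h₀ (cj g x) = cj g (afun h₀ x) := by
    intro g hg x hx
    have hgn : g ∈ S ⊓ Subgroup.normalizer (P : Set Ω) := ⟨hg, hPS' hg⟩
    set s := nHom S P ⟨g, hgn⟩
    have hs : s ∈ T := (autInducedBy_eq_range S P).ge ⟨_, rfl⟩
    obtain ⟨k, hk⟩ : ∃ k : ℕ, w⁻¹ * afun s w = z ^ k := by
      obtain ⟨k, hk⟩ := (isOfFinOrder_iff_pow_eq_one.2 ⟨p, (Fact.out (p := p.Prime)).pos,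
        PGroupsBasic.pow_eq_one_of_card hD.card hz⟩ : IsOfFinOrder z).mem_powers_iff_mem_zpowers.2
        ((eq_zpowers hD hz hzne).ge (hE.step s hs w hwP))
      exact ⟨k, hk.symm⟩
    have hiter : ∀ n : ℕ, afun (t ^ n) w = w * z ^ n := by
      intro n
      induction n with
      | zero => rw [pow_zero, afun_one hwP, pow_zero, mul_one]
      | succ n ih =>
        rw [pow_succ, afun_mul _ _ hwP, htw, afun_map_mul _ hwP (hZP hz), ih,
          afun_pow_fix (hZP hz) htz n, mul_assoc, ← pow_succ]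
    have hst : s = t ^ k := by
      have h2 : afun ((t ^ k)⁻¹ * s) w = w := by
        have : afun s w = afun (t ^ k) w := by rw [hiter k, ← hk, mul_inv_cancel_left]
        rw [afun_mul _ _ hwP, this, afun_inv_apply _ hwP]
      have := eq_one_of_fix hD hS hE hα hz₀ hmove hab (mul_mem (inv_mem (pow_mem ht k)) hs) h2
      exact (inv_mul_eq_one.1 this).symm
    have hpk : ∀ n : ℕ, ∀ y ∈ P, afun h₀ (afun (t ^ n) y) = afun (t ^ n) (afun h₀ y) := by
      intro n
      induction n with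
      | zero => intro y hy; rw [pow_zero, afun_one hy, afun_one (afun_mem _ hy)]
      | succ n ih =>
        intro y hy
        rw [pow_succ, afun_mul _ _ hy, afun_mul _ _ (afun_mem _ hy), ih _ (afun_mem t hy), hcomm y hy]
    have h := hpk k x hx
    rw [← hst, afun_nHom (K := S) ⟨g, hgn⟩ hx, afun_nHom (K := S) ⟨g, hgn⟩ (afun_mem h₀ hx)] at h
    exact h
  obtain ⟨f', hf', hag⟩ := (receptive_iff.1 (receptive_of_fullyNormalized hS hF hP.2.1)).2 P (afun h₀) S
    ((mem_autGroup hPS).1 hh₀A) (im_afun h₀) le_rfl hPS' fun g hg => ⟨g, hg, hTgen g hg⟩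
  rw [sup_eq_right.2 hPS] at hf'
  obtain ⟨h, hh, hhe⟩ := hf'.exists_aut (hf'.im_self fun x hx => hf'.apply_mem hx)
  have hag' : ∀ x ∈ P, afun h x = afun h₀ x := fun x hx => (hhe x (hPS hx)).trans (hag x hx)
  have hne2 : ∀ i : ℤ, (z⁻¹) ^ i = z ^ i → z ^ i = 1 := by
    intro i e
    have hp2 : Nat.Coprime 2 p := Nat.coprime_two_left.2 hp
    have h2 : (z ^ i) ^ 2 = 1 := by rw [sq]; nth_rewrite 1 [← e]; rw [inv_zpow, inv_mul_cancel]
    have hzp : (z ^ i) ^ p = 1 := PGroupsBasic.pow_eq_one_of_card hD.card (Z.zpow_mem hz i)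
    rw [← pow_one (z ^ i), ← hp2.gcd_eq_one]
    exact pow_gcd_eq_one.2 ⟨h2, hzp⟩
  refine ⟨h, ⟨hh, fun v hv => ?_, fun c hc => by rw [hag' c (hE.cle hc)]; exact h₀C c hc⟩, ?_,
    fun c hc => ?_⟩
  · rw [← eq_zpowers hD hz hzne] at hv
    obtain ⟨k, rfl⟩ := hv
    show afun h (z ^ k) = (z ^ k)⁻¹
    rw [hag' _ (P.zpow_mem (hZP hz) k), afun_zpow (hZP hz), h₀z, inv_zpow]
  · obtain ⟨c, hc, hcZ⟩ := SetLike.not_le_iff_exists.1 hD.proper
    obtain ⟨i, hi, -⟩ := hfixC c hc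
    refine ⟨c * z ^ i, C.mul_mem hc (C.zpow_mem (hD.zc hz) i), fun e => hcZ ?_, ?_⟩
    · rw [eq_inv_of_mul_eq_one_left e]; exact Z.inv_mem (Z.zpow_mem hz i)
    · rw [hag' _ (P.mul_mem (hE.cle hc) (P.zpow_mem (hZP hz) i))]; exact hi
  · rw [hag' c (hE.cle hc)]
    obtain ⟨i, hi, hi₁⟩ := hfixC c hc
    have hcP := hE.cle hc
    have hzi := P.zpow_mem (hZP hz) i
    constructor
    · intro hfix
      rw [afun_map_mul h₀ hcP hzi, hfix, afun_zpow (hZP hz), h₀z, mul_right_inj] at hi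
      rw [hne2 i hi, mul_one] at hi₁
      refine htC _ (afun_mem α⁻¹ hcP) ?_
      have := congrArg (afun α⁻¹) hi₁
      rwa [ht₁, afun_mul _ _ hcP, afun_mul _ _ (afun_mem α⁻¹ hcP),
        afun_inv_apply α (afun_mem t (afun_mem α⁻¹ hcP))] at this
    · intro hpre
      refine h₀fix c hc (afun_pow_fix hcP ?_ m)
      rw [ht₁, afun_mul _ _ hcP, afun_mul _ _ (afun_mem α⁻¹ hcP), htfix _ hpre, afun_apply_inv α hcP]


end

end Cfsg.Agent.S5178

namespace Cfsg.Agent.S5178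

section
open scoped commutatorElement
open Cfsg.FusionSystem Cfsg.Agent.FusionSysBasic Cfsg.Agent.FusionSysSaturated
  Cfsg.Agent.FusionSysNormal Cfsg.Agent.FusionSysChain Cfsg.Agent.FusionSysAlperin

variable {Ω : Type*} [Group Ω] {S : Subgroup Ω} [Finite S] {p : ℕ} [Fact p.Prime]
  {F : Cfsg.FusionSystem S} {Z C : Subgroup Ω} (hD : Setup p S Z C)

include hD in
theorem aut_Z {γ : MulAut S} (hγ : γ ∈ F.autGroup S) {v : Ω} (hv : v ∈ Z) : afun γ v ∈ Z := by
  obtain ⟨a, ha, b, hb, hne⟩ := hD.gen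
  have huZ := hD.comm a ha b hb
  rw [← eq_zpowers hD huZ hne] at hv
  obtain ⟨k, rfl⟩ := hv
  show afun γ (⁅a, b⁆ ^ k) ∈ Z
  rw [afun_zpow (hD.cs (hD.zc huZ))]
  refine Z.zpow_mem ?_ k
  have hm := (mem_autGroup le_rfl).1 hγ
  have hab : a * b ∈ S := S.mul_mem ha hb
  rw [commutatorElement_def, afun_map_mul γ (S.mul_mem hab (S.inv_mem ha)) (S.inv_mem hb),
    afun_map_mul γ hab (S.inv_mem ha), afun_map_mul γ ha hb, hm.map_inv ha, hm.map_inv hb]
  exact hD.comm _ (afun_mem γ ha) _ (afun_mem γ hb)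

include hD in
theorem aut_C {γ : MulAut S} (hγ : γ ∈ F.autGroup S) {c : Ω} (hc : c ∈ C) : afun γ c ∈ C := by
  have hcS := hD.cs hc
  refine hD.cmax _ (afun_mem γ hcS) fun g hg => ?_
  have hg' : afun γ⁻¹ g ∈ S := afun_mem _ hg
  conv_lhs => rw [← afun_apply_inv γ hg, ← afun_map_mul γ hg' hcS, hD.central c hc _ hg',
    afun_map_mul γ hcS hg', afun_apply_inv γ hg]

include hD in
theorem core_ne_bot (hp : Odd p) (hS : IsPGroup p S) (hF : F.IsSaturated p) : F.core ≠ ⊥ := by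
  intro hcore
  have hkey : ∀ {X : Subgroup Ω}, F.IsNormal X → ∀ x ∈ X, x = 1 := fun hX x hx =>
    Subgroup.mem_bot.1 (hcore.le (le_core hX hx))
  by_cases hess : ∃ P, F.IsEssential p P
  · obtain ⟨P₁, hP₁⟩ := hess
    obtain ⟨α₁, hα₁, z₁, hz₁, hmove₁⟩ := exists_move hD hS hF hP₁
    obtain ⟨h, hh, ⟨c₀, hc₀, hc₀1, hc₀fix⟩, -⟩ := exists_inv_aut hD hp hS hF hP₁ hα₁ hz₁ hmove₁
    have hm := (mem_autGroup le_rfl).1 hh.1
    let X : Subgroup Ω :=
      { carrier := {c | c ∈ C ∧ afun h c = c}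
        one_mem' := ⟨C.one_mem, hm.map_one⟩
        mul_mem' := fun {u v} hu hv => ⟨C.mul_mem hu.1 hv.1, by
          rw [afun_map_mul h (hD.cs hu.1) (hD.cs hv.1), hu.2, hv.2]⟩
        inv_mem' := fun {u} hu => ⟨C.inv_mem hu.1, by rw [hm.map_inv (hD.cs hu.1), hu.2]⟩ }
    refine hc₀1 (hkey (X := X) (isNormal_of_le_autGroup hS hF fun P hP => ?_) c₀ ⟨hc₀, hc₀fix⟩)
    rcases hP with rfl | hP
    · refine ⟨fun x hx => hD.cs hx.1, fun γ hγ x hx => ?_⟩
      refine ⟨aut_C hD hγ hx.1, ?_⟩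
      -- the conjugate automorphism has the same fixed points
      have hh' : Inv F Z C (γ⁻¹ * h * γ) := by
        refine ⟨mul_mem (mul_mem (inv_mem hγ) hh.1) hγ, fun v hv => ?_, fun c hc => ?_⟩
        · have hvP := hD.cs (hD.zc hv)
          rw [afun_mul _ _ hvP, afun_mul _ _ (afun_mem γ hvP), hh.2.1 _ (aut_Z hD hγ hv),
            ((mem_autGroup le_rfl).1 (inv_mem hγ)).map_inv (afun_mem γ hvP), afun_inv_apply γ hvP]
        · have hcP := hD.cs hc
          have h1 := hh.2.2 _ (aut_C hD hγ hc)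
          have h2 := aut_Z hD (inv_mem hγ) h1
          have hy := afun_mem γ hcP
          rw [afun_map_mul γ⁻¹ (Subgroup.inv_mem _ hy) (afun_mem h hy),
            ((mem_autGroup le_rfl).1 (inv_mem hγ)).map_inv hy, afun_inv_apply γ hcP] at h2
          rwa [afun_mul _ _ hcP, afun_mul _ _ hy]
      have hcP := hD.cs hx.1
      have h1 := fix_unique hD hS hF hh hh' hx.1 hx.2
      rw [afun_mul _ _ hcP, afun_mul _ _ (afun_mem γ hcP)] at h1
      have h2 := congrArg (afun γ) h1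
      rwa [afun_apply_inv γ (afun_mem h (afun_mem γ hcP))] at h2
    · obtain ⟨hE, -⟩ := mkEss hD hS hF hP
      refine ⟨fun x hx => hE.cle hx.1, ?_⟩
      have hmv : ∀ α ∈ F.autGroup P, (∃ z ∈ Z, afun α z ∉ Z) → ∀ x ∈ X, afun α⁻¹ x ∈ X := by
        rintro α hα ⟨z, hz, hmove⟩ x hx
        have hzP : Z ≤ P := hD.zc.trans hE.cle
        obtain ⟨h', hh', -, hiff⟩ := exists_inv_aut hD hp hS hF hP hα hz hmove
        have h1 := (hiff x hx.1).1 (fix_unique hD hS hF hh hh' hx.1 hx.2)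
        -- `α⁻¹` moves `Z` as well
        obtain ⟨z', hz', hmove'⟩ : ∃ z' ∈ Z, afun α⁻¹ z' ∉ Z := by
          by_contra hall
          simp only [not_exists, not_and, not_not] at hall
          apply hmove
          have hz1 : z ≠ 1 := fun e => hmove (by
            rw [e, ((mem_autGroup hE.le).1 hα).map_one]; exact one_mem _)
          have hne : afun α⁻¹ z ≠ 1 :=
            fun e => hz1 (((mem_autGroup hE.le).1 (inv_mem hα)).eq_one_of_apply (hzP hz) e)
          have hz'' := hz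
          rw [← eq_zpowers hD (hall z hz) hne] at hz''
          obtain ⟨k, hk⟩ := hz''
          rw [show z = afun α⁻¹ z ^ k from hk.symm, afun_zpow (afun_mem _ (hzP hz)), afun_apply_inv α (hzP hz)]
          exact Z.zpow_mem hz k
        obtain ⟨h'', hh'', -, hiff'⟩ := exists_inv_aut hD hp hS hF hP (inv_mem hα) hz' hmove'
        refine ⟨h1, fix_unique hD hS hF hh'' hh h1 ((hiff' _ h1).2 ?_)⟩
        rw [inv_inv, afun_apply_inv α (hE.cle hx.1)]
        exact hx.1
      obtain ⟨α, hα, z, hz, hmove⟩ := exists_move hD hS hF hP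
      intro γ hγ x hx
      by_cases hγZ : ∃ z ∈ Z, afun γ⁻¹ z ∉ Z
      · have := hmv γ⁻¹ (inv_mem hγ) hγZ x hx
        rwa [inv_inv] at this
      · simp only [not_exists, not_and, not_not] at hγZ
        have hzP : Z ≤ P := hD.zc.trans hE.cle
        have hx1 : x ∈ P := hE.cle hx.1
        -- both `α` and `α * γ⁻¹` move `Z`
        have h2 : ∃ z' ∈ Z, afun (α * γ⁻¹) z' ∉ Z := by
          by_contra hall
          simp only [not_exists, not_and, not_not] at hall
          apply hmove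
          have hz1 : z ≠ 1 := fun e => hmove (by
            rw [e, ((mem_autGroup hE.le).1 hα).map_one]; exact one_mem _)
          have hne : afun γ⁻¹ z ≠ 1 :=
            fun e => hz1 (((mem_autGroup hE.le).1 (inv_mem hγ)).eq_one_of_apply (hzP hz) e)
          have h3 := hall z hz
          rw [afun_mul _ _ (hzP hz)] at h3
          have hzγ := hz
          rw [← eq_zpowers hD (hγZ z hz) hne] at hzγ
          obtain ⟨k, hk⟩ := hzγ
          rw [show z = afun γ⁻¹ z ^ k from hk.symm, afun_zpow (afun_mem _ (hzP hz))]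
          exact Z.zpow_mem h3 k
        obtain ⟨z', hz', hmove'⟩ := h2
        have hA : α * γ⁻¹ ∈ F.autGroup P := mul_mem hα (inv_mem hγ)
        have h4 := hmv _ hA ⟨z', hz', hmove'⟩
        have h5 : afun α x ∈ X := by
          have hαZ : ∃ z' ∈ Z, afun α⁻¹ z' ∉ Z := by
            by_contra hall
            simp only [not_exists, not_and, not_not] at hall
            apply hmove
            have hz1 : z ≠ 1 := fun e => hmove (by
              rw [e, ((mem_autGroup hE.le).1 hα).map_one]; exact one_mem _)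
            have hne : afun α⁻¹ z ≠ 1 :=
              fun e => hz1 (((mem_autGroup hE.le).1 (inv_mem hα)).eq_one_of_apply (hzP hz) e)
            have hzz := hz
            rw [← eq_zpowers hD (hall z hz) hne] at hzz
            obtain ⟨k, hk⟩ := hzz
            rw [show z = afun α⁻¹ z ^ k from hk.symm, afun_zpow (afun_mem _ (hzP hz)), afun_apply_inv α (hzP hz)]
            exact Z.zpow_mem hz k
          have := hmv α⁻¹ (inv_mem hα) hαZ x hx
          rwa [inv_inv] at this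
        have h6 := h4 _ h5
        rw [mul_inv_rev, inv_inv, afun_mul _ _ (hE.cle h5.1), afun_inv_apply α hx1] at h6
        exact h6
  · obtain ⟨a, ha, b, hb, hne⟩ := hD.gen
    refine hne (hkey (X := S) (isNormal_of_le_autGroup hS hF fun P hP => ?_) _
      (hD.cs (hD.zc (hD.comm a ha b hb))))
    rcases hP with rfl | hP
    · exact ⟨le_rfl, fun α _ x hx => afun_mem α hx⟩
    · exact absurd ⟨P, hP⟩ hess

end

/-- Let p be an odd prime, S a finite p-group containing an extraspecial subgroup Q of index p, and F a saturated fusion system over S whose largest subgroup normal in F is trivial. Then the centre of S equals the centre of Q. -/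
theorem result {Ω : Type u} [Group Ω] {S : Subgroup Ω} [Finite S] (p : ℕ) [Fact p.Prime] (hp : Odd p) (hS : IsPGroup p S)
    (Q : Subgroup Ω) (hQS : Q ≤ S) (hQ : Cfsg.IsExtraspecial p ↥Q) (hQi : (Q.subgroupOf S).index = p)
    (F : Cfsg.FusionSystem S) (hF : F.IsSaturated p) (hO : F.core = ⊥) :
    S ⊓ Subgroup.centralizer (S : Set Ω) = Q ⊓ Subgroup.centralizer (Q : Set Ω) := by
  set Z := Q ⊓ Subgroup.centralizer (Q : Set Ω) with hZ
  set C := S ⊓ Subgroup.centralizer (S : Set Ω) with hC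
  have hZmap : Z = (Subgroup.center Q).map Q.subtype := by
    ext x
    constructor
    · rintro ⟨hxQ, hxc⟩
      exact ⟨⟨x, hxQ⟩, Subgroup.mem_center_iff.2 fun y =>
        Subtype.ext (Subgroup.mem_centralizer_iff.1 hxc y y.2), rfl⟩
    · rintro ⟨y, hy, rfl⟩
      exact ⟨y.2, Subgroup.mem_centralizer_iff.2 fun q hq =>
        congrArg Subtype.val (Subgroup.mem_center_iff.1 hy ⟨q, hq⟩)⟩
  have hZc : Nat.card Z = p := by
    rw [hZmap, Subgroup.card_map_of_injective Q.subtype_injective, hQ.2]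
  haveI hQn : (Q.subgroupOf S).Normal := PGroupsBasic.normal_of_index_eq hS hQi
  by_cases hle : C ≤ Q
  · refine le_antisymm (fun x hx => ⟨hle hx, Subgroup.mem_centralizer_iff.2 fun q hq =>
      Subgroup.mem_centralizer_iff.1 hx.2 q (hQS hq)⟩) fun x hx => ?_
    haveI : (Z.subgroupOf S).Normal := ⟨fun n hn g => by
      have hconj : ∀ q ∈ Q, ∀ g ∈ S, g * q * g⁻¹ ∈ Q := fun q hq g hg =>
        hQn.conj_mem ⟨q, hQS hq⟩ hq ⟨g, hg⟩
      refine ⟨hconj _ hn.1 _ g.2, Subgroup.mem_centralizer_iff.2 fun q hq => ?_⟩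
      have h1 := Subgroup.mem_centralizer_iff.1 hn.2 _ (hconj q hq _ (S.inv_mem g.2))
      rw [inv_inv] at h1
      show q * ((g : Ω) * n * (g : Ω)⁻¹) = (g : Ω) * n * (g : Ω)⁻¹ * q
      calc q * ((g : Ω) * n * (g : Ω)⁻¹) = (g : Ω) * (((g : Ω)⁻¹ * q * g) * n) * (g : Ω)⁻¹ := by group
        _ = (g : Ω) * ((n : Ω) * ((g : Ω)⁻¹ * q * g)) * (g : Ω)⁻¹ :=
            congrArg (fun e => (g : Ω) * e * (g : Ω)⁻¹) h1
        _ = _ := by group⟩
    have hcard : Nat.card (Z.subgroupOf S) = p := by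
      rw [Nat.card_congr (Subgroup.subgroupOfEquivOfLe (inf_le_left.trans hQS)).toEquiv, hZc]
    have hc := PGroupsBasic.le_center_of_card_eq_prime hS hcard (show (⟨x, hQS hx.1⟩ : S) ∈ Z.subgroupOf S from hx)
    exact ⟨hQS hx.1, Subgroup.mem_centralizer_iff.2 fun g hg =>
      congrArg Subtype.val (Subgroup.mem_center_iff.1 hc ⟨g, hg⟩)⟩
  exfalso
  have hcent : ∀ c ∈ C, ∀ g ∈ S, g * c = c * g := fun c hc g hg => Subgroup.mem_centralizer_iff.1 hc.2 g hg
  have hmul : ∀ g ∈ S, ∃ q ∈ Q, ∃ c ∈ C, q * c = g := by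
    intro g hg
    have htop : Q.subgroupOf S ⊔ C.subgroupOf S = ⊤ :=
      (PGroupsBasic.isCoatom_of_index_eq hQi).2 _ (lt_of_le_of_ne le_sup_left fun e => hle fun c hc => by
        have : (⟨c, hc.1⟩ : S) ∈ Q.subgroupOf S := e ▸ Subgroup.mem_sup_right (show (⟨c, hc.1⟩ : S) ∈ C.subgroupOf S from hc)
        exact this)
    have hg' : (⟨g, hg⟩ : S) ∈ Q.subgroupOf S ⊔ C.subgroupOf S := htop ▸ Subgroup.mem_top _
    rw [← SetLike.mem_coe, Subgroup.coe_mul_of_right_le_normalizer_left _ _ (by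
      rw [Subgroup.normalizer_eq_top]; exact le_top)] at hg'
    obtain ⟨q, hq, c, hc, e⟩ := Set.mem_mul.1 hg'
    exact ⟨q, hq, c, hc, congrArg Subtype.val e⟩
  have hD : Setup p S Z C := by
    refine ⟨fun x hx => ⟨hQS hx.1, Subgroup.mem_centralizer_iff.2 fun g hg => ?_⟩, inf_le_left, hcent,
      fun c hc h => ⟨hc, Subgroup.mem_centralizer_iff.2 h⟩, fun g hg h hh => ?_, hZc, ?_, fun h => hle (h.trans inf_le_left)⟩
    · obtain ⟨q, hq, c, hc, rfl⟩ := hmul g hg
      rw [mul_assoc, ← hcent c hc x (hQS hx.1), ← mul_assoc, Subgroup.mem_centralizer_iff.1 hx.2 q hq,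
        mul_assoc]
    · obtain ⟨q, hq, c, hc, rfl⟩ := hmul g hg
      obtain ⟨q', hq', c', hc', rfl⟩ := hmul h hh
      have h1 : ∀ x ∈ S, c * x = x * c := fun x hx => (hcent c hc x hx).symm
      have h2 : ∀ x ∈ S, c' * x = x * c' := fun x hx => (hcent c' hc' x hx).symm
      open scoped commutatorElement in
      have e : ⁅q * c, q' * c'⁆ = ⁅q, q'⁆ := by
        rw [commutatorElement_def, commutatorElement_def, mul_inv_rev, mul_inv_rev]
        calc q * c * (q' * c') * (c⁻¹ * q⁻¹) * (c'⁻¹ * q'⁻¹)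
            = q * (c * (q' * c')) * c⁻¹ * q⁻¹ * c'⁻¹ * q'⁻¹ := by group
          _ = q * ((q' * c') * c) * c⁻¹ * q⁻¹ * c'⁻¹ * q'⁻¹ := by rw [h1 _ (S.mul_mem (hQS hq') hc'.1)]
          _ = q * q' * (c' * q⁻¹) * c'⁻¹ * q'⁻¹ := by group
          _ = q * q' * (q⁻¹ * c') * c'⁻¹ * q'⁻¹ := by rw [h2 _ (S.inv_mem (hQS hq))]
          _ = _ := by group
      rw [e, hZmap]
      refine ⟨⁅(⟨q, hq⟩ : Q), ⟨q', hq'⟩⁆, ?_, rfl⟩
      rw [← hQ.1.2.2]
      exact Subgroup.commutator_mem_commutator (Subgroup.mem_top _) (Subgroup.mem_top _)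
    · by_contra hall
      simp only [not_exists, not_and, not_not] at hall
      have hbot : commutator Q = ⊥ := by
        rw [commutator_def, eq_bot_iff, Subgroup.commutator_le]
        intro a _ b _
        exact Subgroup.mem_bot.2 (Subtype.ext (hall a (hQS a.2) b (hQS b.2)))
      have h1 := hQ.2
      rw [← hQ.1.2.2, hbot, Subgroup.card_bot] at h1
      exact (Fact.out (p := p.Prime)).ne_one h1.symm
  exact core_ne_bot hD hp hS hF hO

end Cfsg.Agent.S5178
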