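import Cfsg.Statements.S5179
import Mathlib
import Cfsg.Agent.Lib.FusionSysAlperin
import Cfsg.Agent.Lib.PGroupsBasic
import Cfsg.Agent.S5326

set_option autoImplicit false
open Cfsg

namespace Cfsg.Agent.S5179

open scoped Pointwise commutatorElement

open Cfsg.FusionSystem Cfsg.Agent.FusionSysBasic Cfsg.Agent.FusionSysSaturated Cfsg.Agent.FusionSysAlperin

universe u

/-- In an extraspecial group, an abelian subgroup containing a centralizer has order at most `p ^ 2`. -/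
theorem card_le_of_centralizer_le {Q : Type*} [Group Q] [Finite Q] {p : ℕ} [hp : Fact p.Prime]
    (hQ : Cfsg.IsExtraspecial p Q) {E : Subgroup Q} (hE : IsMulCommutative E) (hne : E ≠ ⊤)
    {y : Q} (hy : Subgroup.centralizer ({y} : Set Q) ≤ E) : Nat.card Q ≤ p ^ 3 := by
  have hc : ∀ a b : Q, ⁅a, b⁆ ∈ Subgroup.center Q := fun a b => by
    rw [← hQ.1.2.2]
    exact Subgroup.commutator_mem_commutator (Subgroup.mem_top a) (Subgroup.mem_top b)
  let f : Q → (Q →* Subgroup.center Q) := fun t =>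
    { toFun := fun a => ⟨⁅a, t⁆, hc a t⟩
      map_one' := Subtype.ext (commutatorElement_one_left t)
      map_mul' := fun a b => Subtype.ext
        (Cfsg.Agent.PGroupsBasic.commutatorElement_mul_left_of_central (hc b t)) }
  have hker : ∀ t a : Q, a ∈ (f t).ker → a * t = t * a := fun t a ha =>
    commutatorElement_eq_one_iff_mul_comm.mp (congrArg Subtype.val (MonoidHom.mem_ker.mp ha))
  have hidx : E.index ≤ p := by
    have h1 : (f y).ker ≤ E := fun a ha =>
      hy (Subgroup.mem_centralizer_singleton_iff.mpr (hker y a ha))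
    refine (Nat.le_of_dvd (Nat.pos_of_ne_zero Subgroup.index_ne_zero_of_finite)
      (Subgroup.index_dvd_of_le h1)).trans ?_
    rw [Subgroup.index_ker, ← hQ.2]
    exact Subgroup.card_le_card_group _
  have hidx' : E.index = p := by
    obtain ⟨k, hk⟩ := hQ.1.1.index E
    have hk0 : k ≠ 0 := fun h => hne (Subgroup.index_eq_one.mp (hk.trans (by rw [h, pow_zero])))
    rw [hk]
    exact le_antisymm (hk ▸ hidx) (Nat.le_self_pow hk0 p)
  obtain ⟨q, hq⟩ : ∃ q, q ∉ E := by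
    by_contra h
    push Not at h
    exact hne (eq_top_iff.mpr fun a _ => h a)
  let g : E →* Subgroup.center Q := (f q).comp E.subtype
  have hgker : ∀ e : E, e ∈ g.ker → (e : Q) ∈ Subgroup.center Q := fun e he => by
    have htop : E ⊔ Subgroup.zpowers q = ⊤ :=
      (Cfsg.Agent.PGroupsBasic.isCoatom_of_index_eq hidx').2 _ (lt_of_le_of_ne le_sup_left fun h =>
        hq (h.ge (Subgroup.mem_sup_right (Subgroup.mem_zpowers q))))
    rw [Subgroup.mem_center_iff]
    intro t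
    have hle : E ⊔ Subgroup.zpowers q ≤ Subgroup.centralizer ({(e : Q)} : Set Q) :=
      sup_le (fun a ha => Subgroup.mem_centralizer_singleton_iff.mpr
        (Cfsg.Agent.PGroupsBasic.comm_of_isMulCommutative hE ha e.2))
        (Subgroup.zpowers_le.mpr (Subgroup.mem_centralizer_singleton_iff.mpr (hker q e he).symm))
    exact Subgroup.mem_centralizer_singleton_iff.mp (hle (htop ▸ Subgroup.mem_top t))
  have hk : Nat.card g.ker ≤ p := hQ.2 ▸ Nat.card_le_card_of_injective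
    (fun e : g.ker => (⟨((e : E) : Q), hgker e e.2⟩ : Subgroup.center Q))
    (fun a b h => Subtype.ext (Subtype.ext (congrArg (fun t : Subgroup.center Q => (t : Q)) h)))
  rw [← E.card_mul_index, hidx', ← g.ker.card_mul_index, Subgroup.index_ker, pow_succ, pow_two]
  exact Nat.mul_le_mul_right p (Nat.mul_le_mul hk (hQ.2 ▸ Subgroup.card_le_card_group _))

/-- Let p be an odd prime, S a finite p-group of order at least p⁶ containing an extraspecial subgroup Q of index p, and F a saturated fusion system over S whose largest subgroup normal in F is trivial. Then no proper subgroup of Q is essential in F: an essential subgroup of F contained in Q equals Q. -/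
theorem result {Ω : Type u} [Group Ω] {S : Subgroup Ω} [Finite S] (p : ℕ) [Fact p.Prime] (hp : Odd p) (hS : IsPGroup p S)
    (Q : Subgroup Ω) (hQS : Q ≤ S) (hQ : Cfsg.IsExtraspecial p ↥Q) (hQi : (Q.subgroupOf S).index = p)
    (h6 : p ^ 6 ≤ Nat.card S)
    (F : Cfsg.FusionSystem S) (hF : F.IsSaturated p) (hO : F.core = ⊥)
    (E : Subgroup Ω) (hEQ : E ≤ Q) (hE : F.IsEssential p E) : E = Q := by
  classical
  by_contra hne
  have hp2 : p ≠ 2 := by rintro rfl; exact absurd hp (by decide)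
  have hES := hE.1.1
  haveI := finite_of_le hES
  haveI := finite_of_le hQS
  haveI := finite_autGroup (F := F) E
  have hC := centralizerIn_le_of_centric hE.1
  let Z : Subgroup Ω := (Subgroup.center ↥Q).map Q.subtype
  have hZQ : Z ≤ Q := Subgroup.map_subtype_le _
  have hZp : Nat.card Z = p := by
    rw [Subgroup.card_map_of_injective Q.subtype_injective]; exact hQ.2
  have hcom : ∀ a ∈ Q, ∀ b ∈ Q, ⁅a, b⁆ ∈ Z := fun a ha b hb =>
    ⟨⁅(⟨a, ha⟩ : Q), ⟨b, hb⟩⁆, by
      rw [← hQ.1.2.2]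
      exact Subgroup.commutator_mem_commutator (Subgroup.mem_top _) (Subgroup.mem_top _), rfl⟩
  have hZc : ∀ z ∈ Z, ∀ q ∈ Q, q * z = z * q := by
    rintro _ ⟨z, hz, rfl⟩ q hq
    exact congrArg Subtype.val (Subgroup.mem_center_iff.mp hz ⟨q, hq⟩)
  have hZE : Z ≤ E := fun z hz => hC (mem_centralizerIn.mpr ⟨hQS (hZQ hz), fun y hy => by
    rw [cj_apply, ← hZc z hz y (hEQ hy), mul_inv_cancel_right]⟩)
  have hconjQ : ∀ q ∈ Q, ∀ y ∈ E, q * y * q⁻¹ ∈ E := fun q hq y hy => by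
    have e : q * y * q⁻¹ = ⁅q, y⁆ * y := by rw [commutatorElement_def]; group
    rw [e]
    exact E.mul_mem (hZE (hcom q hq y (hEQ hy))) hy
  have hN : ∀ q ∈ Q, q ∈ S ⊓ Subgroup.normalizer (E : Set Ω) := fun q hq =>
    ⟨hQS hq, mem_normalizer_of_cj_le hES fun y hy => hconjQ q hq y hy⟩
  obtain ⟨z₀, hz₀Z, hz₀1⟩ : ∃ z ∈ Z, z ≠ 1 := by
    by_contra h
    push Not at h
    have hb : Z = ⊥ := (Subgroup.eq_bot_iff_forall Z).mpr h
    rw [hb, Subgroup.card_bot] at hZp
    exact (Fact.out : p.Prime).one_lt.ne hZp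
  have hZgen : ∀ {w : Ω}, w ∈ Z → w ≠ 1 → ∀ z ∈ Z, z ∈ Subgroup.zpowers w := by
    intro w hw hw1 z hz
    obtain ⟨i, hi⟩ := Subgroup.mem_zpowers_iff.mp (mem_zpowers_of_prime_card hZp
      (g := ⟨w, hw⟩) (g' := ⟨z, hz⟩) (fun e => hw1 (congrArg Subtype.val e)))
    exact ⟨i, congrArg Subtype.val hi⟩
  -- the automorphisms preserving `Z`
  let Stab : Subgroup (MulAut E) :=
    { carrier := {α | ∀ y : E, ((α y : Ω) ∈ Z ↔ (y : Ω) ∈ Z)}
      one_mem' := fun y => Iff.rfl
      mul_mem' := fun {a b} ha hb y => (ha (b y)).trans (hb y)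
      inv_mem' := fun {a} ha y => by
        have h := ha (a⁻¹ y)
        rw [MulAut.apply_inv_self] at h
        exact h.symm }
  have hstab : ∀ α : MulAut E, (∃ w : E, (w : Ω) ∈ Z ∧ (w : Ω) ≠ 1 ∧ (α w : Ω) ∈ Z) → α ∈ Stab := by
    rintro α ⟨w, hw, hw1, hαw⟩ y
    have hαw1 : (α w : Ω) ≠ 1 := fun e => hw1 (by
      have : w = 1 := α.injective ((Subtype.ext e : α w = 1).trans (map_one α).symm)
      rw [this]; rfl)
    constructor
    · intro hy
      obtain ⟨i, hi⟩ := hZgen hαw hαw1 _ hy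
      have : y = w ^ i := α.injective (Subtype.ext (by
        rw [map_zpow, Subgroup.coe_zpow]; exact hi.symm))
      rw [this, Subgroup.coe_zpow]
      exact zpow_mem hw i
    · intro hy
      obtain ⟨i, hi⟩ := hZgen hw hw1 _ hy
      have : y = w ^ i := Subtype.ext (by rw [Subgroup.coe_zpow]; exact hi.symm)
      rw [this, map_zpow, Subgroup.coe_zpow]
      exact zpow_mem hαw i
  by_cases hinv : F.autGroup E ≤ Stab
  · -- the stabilizer of `1 < Z < E` is a normal `p`-subgroup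
    let K : Subgroup (MulAut E) :=
      { carrier := {α | α ∈ F.autGroup E ∧ (∀ y : E, ((y⁻¹ * α y : E) : Ω) ∈ Z) ∧
          ∀ y : E, (y : Ω) ∈ Z → α y = y}
        one_mem' := ⟨one_mem _, fun y => by simp, fun y _ => rfl⟩
        mul_mem' := fun {a b} ha hb => ⟨mul_mem ha.1 hb.1, fun y => by
          have e : y⁻¹ * (a * b) y = y⁻¹ * b y * ((b y)⁻¹ * a (b y)) := by
            rw [MulAut.mul_apply, mul_assoc, mul_inv_cancel_left]
          rw [e, Subgroup.coe_mul]
          exact Z.mul_mem (hb.2.1 y) (ha.2.1 (b y)),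
          fun y hy => by rw [MulAut.mul_apply, hb.2.2 y hy, ha.2.2 y hy]⟩
        inv_mem' := fun {a} ha => ⟨inv_mem ha.1, fun y => by
          have h := Z.inv_mem (ha.2.1 (a⁻¹ y))
          rw [← Subgroup.coe_inv, mul_inv_rev, inv_inv, MulAut.apply_inv_self] at h
          exact h, fun y hy => by
            apply a.injective
            rw [MulAut.apply_inv_self, ha.2.2 y hy]⟩ }
    have hKp : IsPGroup p (K.subgroupOf (F.autGroup E)) := by
      rintro ⟨⟨α, hα⟩, hαK⟩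
      refine ⟨1, Subtype.ext (Subtype.ext (MulEquiv.ext fun y => ?_))⟩
      show (α ^ p ^ 1) y = y
      rw [pow_one]
      have hc : α (y⁻¹ * α y) = y⁻¹ * α y := hαK.2.2 _ (hαK.2.1 y)
      have hiter : ∀ m : ℕ, (α ^ m) y = y * (y⁻¹ * α y) ^ m := by
        intro m
        induction m with
        | zero => simp
        | succ m ih =>
          rw [pow_succ', MulAut.mul_apply, ih, map_mul, map_pow, hc, pow_succ', ← mul_assoc y,
            mul_inv_cancel_left]
      rw [hiter]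
      have : (y⁻¹ * α y) ^ p = 1 := Subtype.ext (by
        rw [Subgroup.coe_pow]
        exact Cfsg.Agent.PGroupsBasic.pow_eq_one_of_card hZp (hαK.2.1 y))
      rw [this, mul_one]
    have hKn : (K.subgroupOf (F.autGroup E)).Normal := by
      refine ⟨fun m hm a => ?_⟩
      have ha : (a : MulAut E) ∈ Stab := hinv a.2
      have hai : (a : MulAut E)⁻¹ ∈ Stab := inv_mem ha
      refine ⟨mul_mem (mul_mem a.2 hm.1) (inv_mem a.2), fun y => ?_, fun y hy => ?_⟩
      · have e : y⁻¹ * ((a : MulAut E) * (m : MulAut E) * (a : MulAut E)⁻¹) y =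
            (a : MulAut E) (((a : MulAut E)⁻¹ y)⁻¹ * (m : MulAut E) ((a : MulAut E)⁻¹ y)) := by
          rw [map_mul, map_inv, MulAut.apply_inv_self, MulAut.mul_apply, MulAut.mul_apply]
        show ((y⁻¹ * ((a : MulAut E) * (m : MulAut E) * (a : MulAut E)⁻¹) y : E) : Ω) ∈ Z
        rw [e]
        exact (ha _).mpr (hm.2.1 _)
      · show ((a : MulAut E) * (m : MulAut E) * (a : MulAut E)⁻¹) y = y
        rw [MulAut.mul_apply, MulAut.mul_apply,
          show (m : MulAut E) ((a : MulAut E)⁻¹ y) = (a : MulAut E)⁻¹ y from hm.2.2 _ ((hai y).mpr hy),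
          MulAut.apply_inv_self]
    refine hne (le_antisymm hEQ fun q hq => mem_of_nHom_mem_inn hES hC ⟨q, hN q hq⟩ ?_)
    rw [← (radical_of_essential hS hE).2]
    have hqA : nHom S E ⟨q, hN q hq⟩ ∈ F.autGroup E :=
      autInducedBy_le hES (autInducedBy_eq_range S E ▸ ⟨_, rfl⟩)
    refine ⟨⟨_, hqA⟩, le_sSup (show K.subgroupOf (F.autGroup E) ∈
      {N : Subgroup (F.autGroup E) | N.Normal ∧ IsPGroup p N} from ⟨hKn, hKp⟩)
      (show (⟨_, hqA⟩ : F.autGroup E) ∈ K.subgroupOf (F.autGroup E) from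
        ⟨hqA, fun y => ?_, fun y hy => ?_⟩), rfl⟩
    · show ((y : Ω))⁻¹ * (q * (y : Ω) * q⁻¹) ∈ Z
      have e : (y : Ω)⁻¹ * (q * (y : Ω) * q⁻¹) = ⁅(y : Ω)⁻¹, q⁆ := by
        rw [commutatorElement_def]; group
      rw [e]
      exact hcom _ (Q.inv_mem (hEQ y.2)) q hq
    · refine Subtype.ext ?_
      show q * (y : Ω) * q⁻¹ = y
      rw [hZc _ hy q hq, mul_inv_cancel_right]
  -- some automorphism moves `Z`
  obtain ⟨g₂, hg₂, hg₂S⟩ := SetLike.not_le_iff_exists.mp hinv
  have hab : ∀ a b : E, a * b = b * a := by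
    intro a b
    by_contra hab
    refine hg₂S (hstab g₂ ⟨⁅a, b⁆, hcom _ (hEQ a.2) _ (hEQ b.2), fun e => hab
      (commutatorElement_eq_one_iff_mul_comm.mp (Subtype.ext e)), ?_⟩)
    rw [map_commutatorElement]
    exact hcom _ (hEQ (g₂ a).2) _ (hEQ (g₂ b).2)
  have hexp : ∀ a : E, a ^ p = 1 := by
    intro a
    by_contra ha
    have hpZ : ∀ b : E, ((b ^ p : E) : Ω) ∈ Z := fun b => ⟨(⟨(b : Ω), hEQ b.2⟩ : Q) ^ p, by
      rw [← hQ.1.2.1]
      exact Cfsg.Agent.PGroupsBasic.pow_mem_frattini hQ.1.1 _, rfl⟩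
    refine hg₂S (hstab g₂ ⟨a ^ p, hpZ a, fun e => ha (Subtype.ext e), ?_⟩)
    rw [map_pow]
    exact hpZ _
  haveI hEc : IsMulCommutative E := ⟨⟨hab⟩⟩
  have hex : ∀ w : E, ∃ q ∈ Q, q ∉ E ∧ q * (w : Ω) = (w : Ω) * q := by
    intro w
    by_contra h
    push Not at h
    have hle : Subgroup.centralizer ({(⟨(w : Ω), hEQ w.2⟩ : Q)} : Set Q) ≤ E.subgroupOf Q := by
      intro q hq
      by_contra hqE
      exact h q q.2 hqE (congrArg Subtype.val (Subgroup.mem_centralizer_singleton_iff.mp hq))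
    have h3 := card_le_of_centralizer_le hQ (E := E.subgroupOf Q) ⟨⟨fun a b => Subtype.ext (Subtype.ext
      (congrArg Subtype.val (hab ⟨((a : Q) : Ω), a.2⟩ ⟨((b : Q) : Ω), b.2⟩) :))⟩⟩
      (fun e => hne (le_antisymm hEQ (Subgroup.subgroupOf_eq_top.mp e))) hle
    have hSQ := Subgroup.card_mul_index (Q.subgroupOf S)
    rw [hQi, Nat.card_congr (Subgroup.subgroupOfEquivOfLe hQS).toEquiv] at hSQ
    have h4 : p ^ 6 ≤ p ^ 3 * p := h6.trans (hSQ ▸ Nat.mul_le_mul_right p h3)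
    rw [← pow_succ] at h4
    have := (Nat.pow_le_pow_iff_right (Fact.out : p.Prime).one_lt).mp h4
    omega
  obtain ⟨-, M, hMA, hMne, hM⟩ := Cfsg.Agent.S5326.exists_M hS hF hE
  have hInn : ∀ α ∈ Cfsg.Inn E, α = 1 := by
    rintro _ ⟨e, rfl⟩
    exact MulEquiv.ext fun y => show e * y * e⁻¹ = y by rw [hab e y, mul_inv_cancel_right]
  have hnI : ∀ (q : Ω) (hq : q ∈ Q), q ∉ E → nHom S E ⟨q, hN q hq⟩ ∉ Cfsg.Inn E :=
    fun q hq hqE h => hqE (mem_of_nHom_mem_inn hES hC ⟨q, hN q hq⟩ h)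
  have hqR : ∀ (q : Ω) (hq : q ∈ Q), nHom S E ⟨q, hN q hq⟩ ∈ autInducedBy S E := fun q hq =>
    autInducedBy_eq_range S E ▸ ⟨_, rfl⟩
  obtain ⟨R, hR⟩ := (fullyAutomized_of_fullyNormalized hS hF hE.2.1).2
  have hRM : (R : Subgroup (F.autGroup E)) ≤ M.subgroupOf (F.autGroup E) := by
    intro r hr
    rw [hR] at hr
    obtain ⟨qE, hqQ, hqE⟩ : ∃ q ∈ Q, q ∉ E := by
      by_contra h
      push Not at h
      exact hne (le_antisymm hEQ h)
    refine hM r r.2 _ (hqR qE hqQ) (hnI qE hqQ hqE) ?_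
    exact Subgroup.mul_mem _ (Subgroup.mul_mem _ hr (hqR qE hqQ)) (Subgroup.inv_mem _ hr)
  -- every automorphism moving `Z` lies in `M`
  have hmove : ∀ g ∈ F.autGroup E, g ∉ Stab → g ∈ M := by
    intro g hg hgS
    let zE : E := ⟨z₀, hZE hz₀Z⟩
    obtain ⟨q, hqQ, hqE, hqz⟩ := hex (g zE)
    obtain ⟨q', hq'Q, hq'E, hq'z⟩ := hex (g⁻¹ zE)
    set a := nHom S E ⟨q, hN q hqQ⟩ with ha
    set b := nHom S E ⟨q', hN q' hq'Q⟩ with hb
    have hbA : b ∈ F.autGroup E := autInducedBy_le hES (hqR q' hq'Q)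
    obtain ⟨a', ha'⟩ : ∃ a', a' = g * b * g⁻¹ := ⟨_, rfl⟩
    have hfix : ∀ w : E, (w : Ω) ∈ Z → ∀ (r : Ω) (hr : r ∈ Q), nHom S E ⟨r, hN r hr⟩ w = w :=
      fun w hw r hr => Subtype.ext (show r * (w : Ω) * r⁻¹ = w by
        rw [hZc _ hw r hr, mul_inv_cancel_right])
    have hmv : ∀ (r : Ω) (hr : r ∈ Q) (y : E),
        ∃ i : ℤ, nHom S E ⟨r, hN r hr⟩ y = y * zE ^ i := by
      intro r hr y
      obtain ⟨i, hi⟩ := hZgen hz₀Z hz₀1 _ (hcom (y : Ω)⁻¹ (Q.inv_mem (hEQ y.2)) r hr)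
      refine ⟨i, Subtype.ext ?_⟩
      show r * (y : Ω) * r⁻¹ = _
      rw [Subgroup.coe_mul, Subgroup.coe_zpow, show ((zE : E) : Ω) = z₀ from rfl,
        show z₀ ^ i = ⁅(y : Ω)⁻¹, r⁆ from hi, commutatorElement_def]
      group
    have hagz : a (g zE) = g zE := Subtype.ext (show q * (g zE : Ω) * q⁻¹ = g zE by
      rw [hqz, mul_inv_cancel_right])
    have hbgz : b (g⁻¹ zE) = g⁻¹ zE := Subtype.ext (show q' * ((g⁻¹ zE : E) : Ω) * q'⁻¹ = (g⁻¹ zE : E) by
      rw [hq'z, mul_inv_cancel_right])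
    have ha'z : a' zE = zE := by
      rw [ha', MulAut.mul_apply, MulAut.mul_apply, hbgz, MulAut.apply_inv_self]
    have hcomm : a' * a * a'⁻¹ = a := by
      rw [mul_inv_eq_iff_eq_mul]
      refine MulEquiv.ext fun y => ?_
      rw [MulAut.mul_apply, MulAut.mul_apply]
      obtain ⟨i, hi⟩ := hmv q hqQ y
      obtain ⟨j, hj⟩ := hmv q' hq'Q (g⁻¹ y)
      have hj' : a' y = y * g zE ^ j := by
        rw [ha', MulAut.mul_apply, MulAut.mul_apply]
        show g (nHom S E ⟨q', hN q' hq'Q⟩ (g⁻¹ y)) = _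
        rw [hj, map_mul, MulAut.apply_inv_self, map_zpow]
      rw [show a y = y * zE ^ i from hi, map_mul, map_zpow, ha'z, hj', map_mul, map_zpow, hagz,
        show a y = y * zE ^ i from hi, mul_assoc, mul_assoc, hab (g zE ^ j)]
    have ha'A : a' ∈ F.autGroup E := ha' ▸ mul_mem (mul_mem hg hbA) (inv_mem hg)
    have ha'M : a' ∈ M :=
      hM a' ha'A a (hqR q hqQ) (hnI q hqQ hqE) (by rw [hcomm]; exact hqR q hqQ)
    have hbp : b ^ p = 1 := by
      refine MulEquiv.ext fun y => ?_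
      obtain ⟨i, hi⟩ := hmv q' hq'Q y
      have hiter : ∀ m : ℕ, (b ^ m) y = y * (zE ^ i) ^ m := by
        intro m
        induction m with
        | zero => simp
        | succ m ih =>
          rw [pow_succ', MulAut.mul_apply, ih, map_mul, map_pow, map_zpow,
            show b zE = zE from hfix zE hz₀Z q' hq'Q, show b y = y * zE ^ i from hi, mul_assoc,
            ← pow_succ']
      rw [hiter, hexp, mul_one, MulAut.one_apply]
    -- Sylow conjugation inside `M`
    let MA : Subgroup (F.autGroup E) := M.subgroupOf (F.autGroup E)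
    let aM : MA := ⟨⟨a', ha'A⟩, ha'M⟩
    have hap : IsPGroup p (Subgroup.zpowers aM) := by
      rintro ⟨t, ht⟩
      obtain ⟨i, rfl⟩ := Subgroup.mem_zpowers_iff.mp ht
      refine ⟨1, Subtype.ext (Subtype.ext (Subtype.ext ?_))⟩
      show (a' ^ i) ^ p ^ 1 = 1
      rw [pow_one, ← zpow_natCast, ← zpow_mul, mul_comm, zpow_mul, zpow_natCast, ha', conj_pow, hbp,
        mul_one, mul_inv_cancel, one_zpow]
    obtain ⟨T, hT⟩ := hap.exists_le_sylow
    obtain ⟨m, hm⟩ := MulAction.exists_smul_eq MA T (R.subtype hRM)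
    have hmem : m * aM * m⁻¹ ∈ ((m • T : Sylow p MA) : Subgroup MA) :=
      ⟨aM, hT (Subgroup.mem_zpowers _), rfl⟩
    rw [hm, Sylow.coe_subtype, Subgroup.mem_subgroupOf, hR, Subgroup.mem_subgroupOf] at hmem
    have hmg := hM (((m : F.autGroup E) : MulAut E) * g) (mul_mem (m : F.autGroup E).2 hg) b
      (hqR q' hq'Q) (hnI q' hq'Q hq'E) (by
        have e : ((m : F.autGroup E) : MulAut E) * g * b * (((m : F.autGroup E) : MulAut E) * g)⁻¹ =
            ((m : F.autGroup E) : MulAut E) * a' * (((m : F.autGroup E) : MulAut E))⁻¹ := by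
          rw [ha']; group
        rw [e]
        exact hmem)
    exact (M.mul_mem_cancel_left m.2).mp hmg
  obtain ⟨g₁, hg₁, hg₁M⟩ := SetLike.exists_of_lt (lt_of_le_of_ne hMA hMne)
  have hg₁S : g₁ ∈ Stab := by
    by_contra h
    exact hg₁M (hmove g₁ hg₁ h)
  have h12 : g₁ * g₂ ∉ Stab := fun h => hg₂S ((Stab.mul_mem_cancel_left hg₁S).mp h)
  exact hg₁M ((M.mul_mem_cancel_right (hmove g₂ hg₂ hg₂S)).mp
    (hmove _ (mul_mem hg₁ hg₂) h12))

end Cfsg.Agent.S5179
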