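import Mathlib
import Cfsg.Statements.S5185

set_option autoImplicit false
universe u
open Cfsg

namespace Cfsg.Agent.S5185

theorem normal_pGroup_trivial {p : ℕ} {X : Type*} [Group X] [Finite X]
    [Fact p.Prime] {Y : Subgroup X} (hY : Cfsg.IsStronglyPEmbedded p Y)
    {M : Subgroup X} [M.Normal] (hM : IsPGroup p M) : M = ⊥ := by
  obtain ⟨-, hne, P, hP⟩ := hY
  by_contra h0
  have hMP : M ≤ (P : Subgroup X) := by
    obtain ⟨Q, hQ⟩ := hM.exists_le_sylow
    obtain ⟨g, hg⟩ := MulAction.exists_smul_eq X Q P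
    intro m hm
    have h1 : g⁻¹ * m * g⁻¹⁻¹ ∈ (Q : Subgroup X) := hQ (‹M.Normal›.conj_mem m hm g⁻¹)
    rw [← hg, Sylow.coe_subgroup_smul]
    refine ⟨_, h1, ?_⟩
    simp [MulAut.conj_apply, mul_assoc]
  have hrank : ¬ Cfsg.PRankLE p (1 - 1) M := by
    intro h
    haveI : Nontrivial M := M.nontrivial_iff_ne_bot.2 h0
    obtain ⟨x, hx⟩ := exists_prime_orderOf_dvd_card' (G := M) p
      (by
        obtain ⟨n, hn0, hn⟩ := hM.nontrivial_iff_card.1 inferInstance
        rw [hn]; exact dvd_pow_self p hn0.ne')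
    have := h (Subgroup.zpowers x) inferInstance (fun a ha => by
      obtain ⟨k, rfl⟩ := ha
      show (x ^ k) ^ p = 1
      rw [← zpow_natCast, ← zpow_mul, mul_comm, zpow_mul, zpow_natCast, ← hx, pow_orderOf_eq_one,
        one_zpow])
    rw [Nat.card_zpowers, hx] at this
    simp at this
    exact absurd this (by have := (Fact.out : p.Prime).one_lt; omega)
  apply hne
  rw [eq_top_iff, ← Subgroup.normalizer_eq_top (H := M)]
  exact le_trans (le_iSup (fun Q : {Q : Subgroup X // Q ≤ (P : Subgroup X) ∧ ¬ Cfsg.PRankLE p (1 - 1) Q} =>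
    Subgroup.normalizer ((Q : Subgroup X) : Set X)) ⟨M, hMP, hrank⟩) hP

theorem sl2_eq_top {F : Type*} [Field F] (K : Subgroup (Matrix.SpecialLinearGroup (Fin 2) F))
    (hU : ∀ (t : F) (M : Matrix.SpecialLinearGroup (Fin 2) F),
      (M : Matrix (Fin 2) (Fin 2) F) = !![1, t; 0, 1] → M ∈ K)
    (hL : ∀ (t : F) (M : Matrix.SpecialLinearGroup (Fin 2) F),
      (M : Matrix (Fin 2) (Fin 2) F) = !![1, 0; t, 1] → M ∈ K) : K = ⊤ := by
  let U : F → Matrix.SpecialLinearGroup (Fin 2) F := fun t => ⟨!![1, t; 0, 1], by simp [Matrix.det_fin_two]⟩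
  let L : F → Matrix.SpecialLinearGroup (Fin 2) F := fun t => ⟨!![1, 0; t, 1], by simp [Matrix.det_fin_two]⟩
  have gen : ∀ M : Matrix.SpecialLinearGroup (Fin 2) F, M 1 0 ≠ 0 → M ∈ K := by
    intro M hc
    have e : M = U ((M 0 0 - 1) / M 1 0) * L (M 1 0) * U ((M 1 1 - 1) / M 1 0) := by
      have hd := M.2
      rw [Matrix.det_fin_two] at hd
      apply Subtype.ext
      show (M : Matrix (Fin 2) (Fin 2) F) = !![1, (M 0 0 - 1) / M 1 0; 0, 1] * !![1, 0; M 1 0, 1] *
        !![1, (M 1 1 - 1) / M 1 0; 0, 1]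
      ext i j
      fin_cases i <;> fin_cases j <;> simp [Matrix.mul_apply, Fin.sum_univ_two] <;>
        field_simp <;> (try linear_combination hd) <;> (try linear_combination -hd) <;> (try ring)
    rw [e]
    exact mul_mem (mul_mem (hU _ _ rfl) (hL _ _ rfl)) (hU _ _ rfl)
  rw [eq_top_iff]
  intro M _
  by_cases hc : M 1 0 = 0
  · have h2 : (L 1 * M) 1 0 ≠ 0 := by
      have hd := M.2
      rw [Matrix.det_fin_two, hc, mul_zero, sub_zero] at hd
      have h0 : M 0 0 ≠ 0 := left_ne_zero_of_mul_eq_one hd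
      show ((!![1, 0; 1, 1] : Matrix (Fin 2) (Fin 2) F) * (M : Matrix (Fin 2) (Fin 2) F)) 1 0 ≠ 0
      simpa [Matrix.mul_apply, Fin.sum_univ_two, hc] using h0
    exact (K.mul_mem_cancel_left (hL 1 (L 1) rfl)).1 (gen _ h2)
  · exact gen M hc

section
variable {p : ℕ} [Fact p.Prime] {V : Type*} [AddCommGroup V] [Module (ZMod p) V]

theorem sq_unip [Nontrivial V] (hr : Module.finrank (ZMod p) V = 2) (u : V ≃ₗ[ZMod p] V) (hu : u ^ p = 1)
    (v : V) : u (u v - v) = u v - v := by
  haveI : FiniteDimensional (ZMod p) V := FiniteDimensional.of_finrank_pos (by omega)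
  haveI : CharP (Module.End (ZMod p) V) p :=
    charP_of_injective_algebraMap (algebraMap (ZMod p) (Module.End (ZMod p) V)).injective p
  set N : Module.End (ZMod p) V := u.toLinearMap - 1 with hN
  have h1 : (u.toLinearMap : Module.End (ZMod p) V) ^ p = 1 := by
    have : ∀ n : ℕ, (u ^ n).toLinearMap = (u.toLinearMap : Module.End (ZMod p) V) ^ n := by
      intro n; induction n with
      | zero => rfl
      | succ n ih => rw [pow_succ, pow_succ, ← ih]; rfl
    rw [← this, hu]; rfl
  have h2 : N ^ p = 0 := by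
    rw [hN, sub_pow_char_of_commute _ (Commute.one_right _), h1, one_pow, sub_self]
  have h3 : LinearMap.ker (N ^ 2) = ⊤ := by
    have := Module.End.ker_pow_eq_ker_pow_finrank_of_le (f := N)
      (show Module.finrank (ZMod p) V ≤ p from hr ▸ (Fact.out : p.Prime).two_le)
    rw [hr] at this
    rw [← this, h2, LinearMap.ker_zero]
  have h4 : (N ^ 2) v = 0 := by rw [← LinearMap.mem_ker, h3]; trivial
  rw [pow_two] at h4
  have h5 : u (u v - v) - (u v - v) = 0 := h4
  rwa [sub_eq_zero] at h5

theorem indep {v w : V} {u : V ≃ₗ[ZMod p] V} (hw : w ≠ 0) (huw : u w = w) (huv : u v = v + w) :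
    LinearIndependent (ZMod p) ![w, v] := by
  rw [LinearIndependent.pair_iff]
  intro a b h
  have h' := congrArg u h
  simp only [map_add, map_smul, huw, huv, smul_add, map_zero] at h'
  have hb : b • w = 0 := by
    have : a • w + (b • v + b • w) - (a • w + b • v) = 0 := by rw [h', h, sub_zero]
    rw [← this]; abel
  have hb0 : b = 0 := (smul_eq_zero.1 hb).resolve_right hw
  refine ⟨?_, hb0⟩
  rw [hb0, zero_smul, add_zero] at h
  exact (smul_eq_zero.1 h).resolve_right hw

theorem exists_sl2 (hr : Module.finrank (ZMod p) V = 2) (A : Subgroup (V ≃ₗ[ZMod p] V))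
    (hA : ∀ u ∈ A, orderOf u = p → ¬ ∀ g ∈ A, g * u * g⁻¹ ∈ Subgroup.zpowers u)
    (hp : ∃ u ∈ A, orderOf u = p) :
    ∃ ψ : Matrix.SpecialLinearGroup (Fin 2) (ZMod p) →* (V ≃ₗ[ZMod p] V),
      Function.Injective ψ ∧ ψ.range ≤ A := by
  haveI : Nontrivial V := Module.nontrivial_of_finrank_eq_succ hr
  have hfd : FiniteDimensional (ZMod p) V := FiniteDimensional.of_finrank_pos (by omega)
  have data : ∀ u : V ≃ₗ[ZMod p] V, orderOf u = p → ∃ v w : V, w ≠ 0 ∧ u w = w ∧ u v = v + w := by
    intro u hu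
    have hpow : u ^ p = 1 := orderOf_dvd_iff_pow_eq_one.1 hu.dvd
    have hne : u ≠ 1 := by
      rintro rfl; rw [orderOf_one] at hu; exact (Fact.out : p.Prime).ne_one hu.symm
    obtain ⟨v, hv⟩ : ∃ v, u v ≠ v := by
      by_contra! h; exact hne (LinearEquiv.ext h)
    exact ⟨v, u v - v, sub_ne_zero.2 hv, sq_unip hr u hpow v, by abel⟩
  obtain ⟨u, huA, huo⟩ := hp
  obtain ⟨v, w, hw, huw, huv⟩ := data u huo
  obtain ⟨g, hg, hgu⟩ : ∃ g ∈ A, g * u * g⁻¹ ∉ Subgroup.zpowers u := by
    have := hA u huA huo; push_neg at this; exact this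
  set u' := g * u * g⁻¹ with hu'
  have hu'o : orderOf u' = p := by
    exact (MulEquiv.orderOf_eq (MulAut.conj g) u).trans huo
  obtain ⟨v', w', hw', huw', huv'⟩ := data u' hu'o
  -- the fixed lines differ
  have hli : LinearIndependent (ZMod p) ![w, w'] := by
    rw [LinearIndependent.pair_iff' hw]
    intro a ha
    have ha0 : a ≠ 0 := by rintro rfl; rw [zero_smul] at ha; exact hw' ha.symm
    have hu'w : u' w = w := by
      have := huw'
      rw [← ha, map_smul] at this
      have := congrArg (fun z => a⁻¹ • z) this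
      simpa [smul_smul, inv_mul_cancel₀ ha0] using this
    let b := basisOfLinearIndependentOfCardEqFinrank (indep hw huw huv) (by simp [hr])
    have hb0 : b 0 = w := by simp [b]
    have hb1 : b 1 = v := by simp [b]
    obtain ⟨c, d, hcd⟩ : ∃ c d : ZMod p, u' v - v = c • w + d • v :=
      ⟨b.repr (u' v - v) 0, b.repr (u' v - v) 1, by
        conv_lhs => rw [← b.sum_repr (u' v - v)]
        rw [Fin.sum_univ_two, hb0, hb1]⟩
    have hdd : u' v - v = c • w := by
      have h := sq_unip hr u' (orderOf_dvd_iff_pow_eq_one.1 hu'o.dvd) v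
      by_cases hd : d = 0
      · rw [hcd, hd, zero_smul, add_zero]
      · rw [hcd, map_add, map_smul, map_smul, hu'w] at h
        have h' : u' v = v := by
          have h2 : d • u' v = d • v := add_left_cancel h
          exact smul_right_injective V hd h2
        rw [h', sub_self] at hcd ⊢
        have hh : c • w + d • v = 0 := hcd.symm
        rw [(LinearIndependent.pair_iff.1 (indep hw huw huv) c d hh).1, zero_smul]
    refine hgu ⟨(c.val : ℤ), ?_⟩
    have hpowv : ∀ n : ℕ, (u ^ n) w = w ∧ (u ^ n) v = v + (n : ZMod p) • w := by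
      intro n; induction n with
      | zero => simp
      | succ n ih =>
        rw [pow_succ']
        refine ⟨?_, ?_⟩
        · show u ((u ^ n) w) = w; rw [ih.1, huw]
        · show u ((u ^ n) v) = _
          rw [ih.2, map_add, map_smul, huw, huv, Nat.cast_succ, add_smul, one_smul]; abel
    show u ^ (c.val : ℤ) = u'
    rw [zpow_natCast]
    apply LinearEquiv.toLinearMap_injective
    refine b.ext fun i => ?_
    fin_cases i
    · show (u ^ c.val) (b 0) = u' (b 0)
      rw [hb0, (hpowv _).1, hu'w]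
    · show (u ^ c.val) (b 1) = u' (b 1)
      rw [hb1, (hpowv _).2, ZMod.natCast_zmod_val, ← hdd]; abel
  let b := basisOfLinearIndependentOfCardEqFinrank hli (by simp [hr])
  have hb0 : b 0 = w := by simp [b]
  have hb1 : b 1 = w' := by simp [b]
  -- the matrix of a unipotent element
  have key : ∀ (x : V ≃ₗ[ZMod p] V) (i j : Fin 2), i ≠ j → x (b i) = b i → orderOf x = p →
      ∃ a : ZMod p, a ≠ 0 ∧ x (b j) = b j + a • b i := by
    intro x i j hij hxi hxo
    have hsum : ∀ z : V, z = b.repr z i • b i + b.repr z j • b j := by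
      intro z
      conv_lhs => rw [← b.sum_repr z, Fin.sum_univ_two]
      rcases (by omega : (i = 0 ∧ j = 1) ∨ (i = 1 ∧ j = 0)) with ⟨rfl, rfl⟩ | ⟨rfl, rfl⟩
      · rfl
      · exact add_comm _ _
    set c := b.repr (x (b j) - b j) i
    set d := b.repr (x (b j) - b j) j
    have hcd : x (b j) - b j = c • b i + d • b j := hsum _
    have h := sq_unip hr x (orderOf_dvd_iff_pow_eq_one.1 hxo.dvd) (b j)
    have hxb : x (b j) ≠ b j := by
      intro he
      have hone : x = 1 := by
        apply LinearEquiv.toLinearMap_injective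
        refine b.ext fun k => ?_
        show x (b k) = b k
        rcases (by omega : k = i ∨ k = j) with rfl | rfl
        · exact hxi
        · exact he
      rw [hone, orderOf_one] at hxo
      exact (Fact.out : p.Prime).ne_one hxo.symm
    have hd : d = 0 := by
      by_contra hd
      rw [hcd, map_add, map_smul, map_smul, hxi] at h
      exact hxb (smul_right_injective V hd (add_left_cancel h))
    rw [hd, zero_smul, add_zero] at hcd
    refine ⟨c, fun hc => hxb ?_, ?_⟩
    · rwa [hc, zero_smul, sub_eq_zero] at hcd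
    · rw [← hcd]; abel
  obtain ⟨a, ha, hua⟩ := key u 0 1 (by decide) (by rw [hb0, huw]) huo
  obtain ⟨c, hc, huc⟩ := key u' 1 0 (by decide) (by rw [hb1, huw']) hu'o
  let ψ : Matrix.SpecialLinearGroup (Fin 2) (ZMod p) →* (V ≃ₗ[ZMod p] V) :=
    { toFun := fun M => LinearEquiv.ofLinear (Matrix.toLin b b (M : Matrix _ _ _))
        (Matrix.toLin b b ((M⁻¹ : Matrix.SpecialLinearGroup (Fin 2) (ZMod p)) : Matrix _ _ _))
        (by rw [← Matrix.toLin_mul b b b, ← Matrix.SpecialLinearGroup.coe_mul, mul_inv_cancel,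
          Matrix.SpecialLinearGroup.coe_one, Matrix.toLin_one])
        (by rw [← Matrix.toLin_mul b b b, ← Matrix.SpecialLinearGroup.coe_mul, inv_mul_cancel,
          Matrix.SpecialLinearGroup.coe_one, Matrix.toLin_one])
      map_one' := by
        apply LinearEquiv.toLinearMap_injective
        show Matrix.toLin b b _ = _
        rw [Matrix.SpecialLinearGroup.coe_one, Matrix.toLin_one]; rfl
      map_mul' := fun M N => by
        apply LinearEquiv.toLinearMap_injective
        show Matrix.toLin b b _ = _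
        rw [Matrix.SpecialLinearGroup.coe_mul, Matrix.toLin_mul b b b]; rfl }
  refine ⟨ψ, fun M N h => ?_, ?_⟩
  · have h1 : Matrix.toLin b b (M : Matrix (Fin 2) (Fin 2) (ZMod p)) = Matrix.toLin b b N :=
      congrArg LinearEquiv.toLinearMap h
    exact Subtype.ext ((Matrix.toLin b b).injective h1)
  · rw [MonoidHom.range_eq_map, Subgroup.map_le_iff_le_comap]
    refine (sl2_eq_top _ ?_ ?_).ge
    · intro t M hM
      have hpowv : ∀ n : ℕ, (u ^ n) (b 0) = b 0 ∧ (u ^ n) (b 1) = b 1 + ((n : ZMod p) * a) • b 0 := by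
        intro n; induction n with
        | zero => simp
        | succ n ih =>
          rw [pow_succ']
          refine ⟨?_, ?_⟩
          · show u ((u ^ n) (b 0)) = _; rw [ih.1, hb0, huw]
          · show u ((u ^ n) (b 1)) = _
            rw [ih.2, map_add, map_smul, hua, hb0, huw, Nat.cast_succ, add_mul, one_mul, add_smul]; abel
      have : ψ M = u ^ (t / a).val := by
        apply LinearEquiv.toLinearMap_injective
        refine b.ext fun i => ?_
        show Matrix.toLin b b (M : Matrix (Fin 2) (Fin 2) (ZMod p)) (b i) = (u ^ (t / a).val) (b i)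
        rw [Matrix.toLin_self, hM]
        fin_cases i
        · simp [(hpowv _).1]
        · simp [(hpowv _).2, ZMod.natCast_zmod_val, div_mul_cancel₀ _ ha, add_comm]
      show ψ M ∈ A
      rw [this]; exact A.pow_mem huA _
    · intro t M hM
      have hu'A : u' ∈ A := A.mul_mem (A.mul_mem hg huA) (A.inv_mem hg)
      have hpowv : ∀ n : ℕ, (u' ^ n) (b 1) = b 1 ∧ (u' ^ n) (b 0) = b 0 + ((n : ZMod p) * c) • b 1 := by
        intro n; induction n with
        | zero => simp
        | succ n ih =>
          rw [pow_succ']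
          refine ⟨?_, ?_⟩
          · show u' ((u' ^ n) (b 1)) = _; rw [ih.1, hb1, huw']
          · show u' ((u' ^ n) (b 0)) = _
            rw [ih.2, map_add, map_smul, huc, hb1, huw', Nat.cast_succ, add_mul, one_mul, add_smul]; abel
      have : ψ M = u' ^ (t / c).val := by
        apply LinearEquiv.toLinearMap_injective
        refine b.ext fun i => ?_
        show Matrix.toLin b b (M : Matrix (Fin 2) (Fin 2) (ZMod p)) (b i) = (u' ^ (t / c).val) (b i)
        rw [Matrix.toLin_self, hM]
        fin_cases i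
        · simp [(hpowv _).2, ZMod.natCast_zmod_val, div_mul_cancel₀ _ hc]
        · simp [(hpowv _).1]
      show ψ M ∈ A
      rw [this]; exact A.pow_mem hu'A _

end

/-- Automorphisms of an elementary abelian group as linear automorphisms. -/
noncomputable def linAut (p : ℕ) (H : Type*) [CommGroup H] [Module (ZMod p) (Additive H)] :
    MulAut H ≃* (Additive H ≃ₗ[ZMod p] Additive H) where
  toFun α := { MulEquiv.toAdditive α with
    map_smul' := fun c x => ZMod.map_smul (MulEquiv.toAdditive α).toAddMonoidHom c x }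
  invFun e := (MulEquiv.toAdditive).symm e.toAddEquiv
  left_inv _ := MulEquiv.ext fun _ => rfl
  right_inv _ := LinearEquiv.ext fun _ => rfl
  map_mul' _ _ := LinearEquiv.ext fun _ => rfl

theorem exists_sl2_mulAut (p : ℕ) [Fact p.Prime] (H : Type*) [CommGroup H] [Module (ZMod p) (Additive H)]
    (hr : Module.finrank (ZMod p) (Additive H) = 2) (A : Subgroup (MulAut H))
    (hA : ∀ u ∈ A, orderOf u = p → ¬ ∀ g ∈ A, g * u * g⁻¹ ∈ Subgroup.zpowers u)
    (hp : ∃ u ∈ A, orderOf u = p) :
    ∃ ψ : Matrix.SpecialLinearGroup (Fin 2) (ZMod p) →* MulAut H,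
      Function.Injective ψ ∧ ψ.range ≤ A := by
  refine (exists_sl2 hr (A.map (linAut p H).toMonoidHom) ?_ ?_).elim fun ψ h => ?_
  rotate_right
  · obtain ⟨hψ, hψA⟩ := h
    refine ⟨(linAut p H).symm.toMonoidHom.comp ψ, (linAut p H).symm.injective.comp hψ, ?_⟩
    rintro _ ⟨M, rfl⟩
    obtain ⟨α, hα, hαe⟩ := hψA ⟨M, rfl⟩
    show (linAut p H).symm (ψ M) ∈ A
    rw [← hαe]; simpa using hα
  · rintro _ ⟨α, hα, rfl⟩ hαo hall
    refine hA α hα ((MulEquiv.orderOf_eq (linAut p H) α).symm.trans hαo) fun g hg => ?_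
    obtain ⟨k, hk⟩ := hall _ ⟨g, hg, rfl⟩
    refine ⟨k, (linAut p H).injective ?_⟩
    simpa [map_zpow] using hk
  · obtain ⟨u, hu, huo⟩ := hp
    exact ⟨_, ⟨u, hu, rfl⟩, (MulEquiv.orderOf_eq (linAut p H) u).trans huo⟩

/-- Let F be a saturated fusion system over a finite p-group S and H an essential subgroup of order p². Then H is elementary abelian (isomorphic to C_p × C_p) and its F-automorphism group contains a subgroup isomorphic to SL(2,p). -/
theorem result {Ω : Type u} [Group Ω] {S : Subgroup Ω} [Finite S] (p : ℕ) [Fact p.Prime] (hS : IsPGroup p S)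
    (F : Cfsg.FusionSystem S) (hF : F.IsSaturated p) (H : Subgroup Ω) (hH : F.IsEssential p H) (hcard : Nat.card H = p ^ 2) :
    Cfsg.IsElementaryAbelian p H ∧
      ∃ K : Subgroup ↥(F.autGroup H), Nonempty (↥K ≃* Matrix.SpecialLinearGroup (Fin 2) (ZMod p)) := by
  obtain ⟨hcen, -, hnor, E, hE⟩ := hH
  haveI : Finite H := Nat.finite_of_card_ne_zero
    (hcard ▸ pow_ne_zero 2 (Fact.out : p.Prime).pos.ne')
  have hcomm : IsMulCommutative H := IsPGroup.isMulCommutative_of_card_eq_prime_sq hcard
  letI : CommGroup H := { (inferInstance : Group H) with mul_comm := fun a b => mul_comm' a b }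
  have hInn : Cfsg.Inn H = ⊥ := by
    rw [Cfsg.Inn, MonoidHom.range_eq_bot_iff]
    ext a b; simp
  -- transfer the embedded subgroup to the automizer
  have hnp : ∀ M : Subgroup (F.autGroup H), M.Normal → IsPGroup p M → M = ⊥ := by
    intro M hMn hM
    haveI := hnor
    haveI := hMn
    haveI : (M.map (QuotientGroup.mk' ((Cfsg.Inn H).subgroupOf (F.autGroup H)))).Normal :=
      Subgroup.Normal.map hMn _ (QuotientGroup.mk'_surjective _)
    have := normal_pGroup_trivial hE (hM.map (QuotientGroup.mk' ((Cfsg.Inn H).subgroupOf (F.autGroup H))))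
    rw [Subgroup.map_eq_bot_iff, QuotientGroup.ker_mk', hInn, Subgroup.bot_subgroupOf, le_bot_iff] at this
    exact this
  have hpdvd : p ∣ Nat.card (F.autGroup H) :=
    hE.1.trans (Subgroup.card_quotient_dvd_card _)
  obtain ⟨u, hu⟩ := exists_prime_orderOf_dvd_card' (G := F.autGroup H) p hpdvd
  -- `H` is elementary abelian
  have hexp : ∀ a : H, a ^ p = 1 := by
    by_contra! h
    obtain ⟨a, ha⟩ := h
    have hcyc : IsCyclic H := by
      refine isCyclic_of_orderOf_eq_card a ?_
      obtain ⟨k, hk, hk'⟩ := (Nat.dvd_prime_pow (Fact.out : p.Prime)).1 (hcard ▸ orderOf_dvd_natCard a)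
      interval_cases k
      · exfalso; apply ha; rw [pow_zero, orderOf_eq_one_iff] at hk'; simp [hk']
      · exfalso; apply ha; rw [pow_one] at hk'; rw [← hk', pow_orderOf_eq_one]
      · rw [hk', hcard]
    have hn : (Subgroup.zpowers u).Normal := by
      constructor
      intro n hn g
      have hcomm : ∀ α β : MulAut H, α * β = β * α := by
        obtain ⟨x, hx⟩ := hcyc.exists_generator
        intro α β
        have hpow : ∀ γ : MulAut H, ∃ k : ℤ, γ x = x ^ k := fun γ => by
          obtain ⟨k, hk⟩ := hx (γ x); exact ⟨k, hk.symm⟩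
        obtain ⟨i, hi⟩ := hpow α
        obtain ⟨j, hj⟩ := hpow β
        ext y
        obtain ⟨k, rfl⟩ := hx y
        simp [map_zpow, hi, hj, ← zpow_mul, mul_comm]
      have : g * n * g⁻¹ = n := by
        rw [mul_inv_eq_iff_eq_mul]; exact Subtype.ext (hcomm g.1 n.1)
      rwa [this]
    have h1 := hnp _ hn (IsPGroup.of_card (n := 1) (by rw [Nat.card_zpowers, hu, pow_one]))
    rw [Subgroup.zpowers_eq_bot] at h1
    rw [h1, orderOf_one] at hu
    exact (Fact.out : p.Prime).ne_one hu.symm
  refine ⟨⟨hcomm, fun a ha => congrArg Subtype.val (hexp ⟨a, ha⟩)⟩, ?_⟩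
  letI : Module (ZMod p) (Additive H) := AddCommGroup.zmodModule (fun x => hexp (Additive.toMul x))
  have hr : Module.finrank (ZMod p) (Additive H) = 2 := by
    have h1 := FiniteField.pow_finrank_eq_natCard p (Additive H)
    rw [show Nat.card (Additive H) = p ^ 2 from hcard] at h1
    exact Nat.pow_right_injective (Fact.out : p.Prime).two_le h1
  refine (exists_sl2_mulAut p H hr (F.autGroup H) ?_
    ⟨u.1, u.2, by rw [Subgroup.orderOf_coe, hu]⟩).elim fun ψ h => ?_
  rotate_right
  · obtain ⟨hψ, hψA⟩ := h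
    exact ⟨ψ.range.subgroupOf (F.autGroup H),
      ⟨(Subgroup.subgroupOfEquivOfLe hψA).trans (MonoidHom.ofInjective hψ).symm⟩⟩
  · intro α hα hαo hall
    have hn : (Subgroup.zpowers (⟨α, hα⟩ : F.autGroup H)).Normal := by
      constructor
      intro n hn g
      obtain ⟨k, rfl⟩ := hn
      obtain ⟨j, hj⟩ := hall g.1 g.2
      refine ⟨j * k, ?_⟩
      apply Subtype.ext
      simp only [Subgroup.coe_zpow, Subgroup.coe_mul, Subgroup.coe_inv]
      rw [zpow_mul]
      exact (congrArg (fun z => z ^ k) hj).trans conj_zpow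
    have ho : orderOf (⟨α, hα⟩ : F.autGroup H) = p := by
      rw [Subgroup.orderOf_mk]; exact hαo
    have h1 := hnp _ hn (IsPGroup.of_card (n := 1) (by rw [Nat.card_zpowers, ho, pow_one]))
    rw [Subgroup.zpowers_eq_bot] at h1
    rw [h1, orderOf_one] at ho
    exact (Fact.out : p.Prime).ne_one ho.symm

end Cfsg.Agent.S5185
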