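import Cfsg.Statements.S5187
import Cfsg.Agent.Lib.FusionEssential88
import Cfsg.Agent.Lib.AbelianTwoGen88

set_option autoImplicit false
universe u
open Cfsg Cfsg.FusionSystem Cfsg.Agent.FusionSysBasic Cfsg.Agent.FusionSysSaturated
  Cfsg.Agent.FusionSysAlperin

namespace Cfsg.Agent.S5187

/-- Let F be a saturated fusion system over a finite p-group S and H an abelian essential subgroup that can be generated by two elements (its Frattini quotient has order at most p²). Then H is elementary abelian of order p², or p ≤ 3 and H is homocyclic of rank two, that is isomorphic to C_{pᵏ} × C_{pᵏ} for some k. -/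
theorem result {Ω : Type u} [Group Ω] {S : Subgroup Ω} [Finite S] (p : ℕ) [Fact p.Prime] (hS : IsPGroup p S)
    (F : Cfsg.FusionSystem S) (hF : F.IsSaturated p) (H : Subgroup Ω) (hH : F.IsEssential p H) (hab : IsMulCommutative ↥H) (hrk : (frattini ↥H).index ≤ p ^ 2) :
    (Cfsg.IsElementaryAbelian p H ∧ Nat.card H = p ^ 2) ∨
      (p ≤ 3 ∧ ∃ k : ℕ, Nonempty (↥H ≃* Multiplicative (ZMod (p ^ k) × ZMod (p ^ k)))) := by
  classical
  have hHS := hH.1.1
  haveI := finite_of_le hHS
  letI : CommGroup H := { (inferInstance : Group H) with mul_comm := hab.is_comm.comm }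
  have hG : IsPGroup p H := hS.to_le hHS
  have hpp := (Fact.out : p.Prime)
  have hidx : (frattini H).index = p ^ 2 := by
    obtain ⟨a, ha⟩ := hG.index (frattini H)
    refine le_antisymm hrk ?_
    by_contra hlt
    have ha1 : a ≤ 1 := by
      rw [ha, not_le] at hlt
      have := (Nat.pow_lt_pow_iff_right hpp.one_lt).1 hlt
      omega
    have h1 : Nat.card H ≤ Nat.card (frattini H) * p := by
      rw [← (frattini H).card_mul_index, ha]
      exact Nat.mul_le_mul_left _ ((Nat.pow_le_pow_right hpp.pos ha1).trans_eq (pow_one p))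
    refine FusionEssential88.no_middle hS hF hH (⊤ : Subgroup H) le_top ?_ ?_
    · rwa [Subgroup.card_top]
    · rw [Subgroup.card_top]; exact Nat.le_mul_of_pos_right _ hpp.pos
  obtain ⟨k, hk, hmin⟩ := AbelianTwoGen88.exists_min_exponent hG
  rcases k with _ | k
  · exfalso
    have : frattini H = ⊤ := eq_top_iff.2 fun x _ => by
      have h := hk x
      rw [pow_zero, pow_one] at h
      rw [h]
      exact one_mem _
    rw [this, Subgroup.index_top] at hidx
    exact (Nat.one_lt_pow two_ne_zero hpp.one_lt).ne hidx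
  set M : Subgroup H := (powMonoidHom (p ^ k) : H →* H).ker with hMdef
  have hMrange : M.index = Nat.card (powMonoidHom (p ^ k) : H →* H).range := Subgroup.index_ker _
  have h2 : p ^ 2 ≤ Nat.card (powMonoidHom (p ^ k) : H →* H).range := by
    rw [← hMrange]
    by_contra hlt
    have hle : frattini H ≤ M := AbelianTwoGen88.frattini_le_ker hG hk
    obtain ⟨a, ha⟩ := hG.index M
    have hne : M ≠ ⊤ := by
      obtain ⟨x, hx⟩ := hmin k (Nat.lt_succ_self k)
      exact fun e => hx (show x ∈ M from e ▸ Subgroup.mem_top x)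
    have ha1 : a = 1 := by
      rcases a with _ | _ | a
      · exact absurd (Subgroup.index_eq_one.1 (by simpa using ha)) hne
      · rfl
      · exfalso; refine hlt ?_
        rw [ha]; exact Nat.pow_le_pow_right hpp.pos (by omega)
    subst ha1
    haveI : M.Characteristic := AbelianTwoGen88.characteristic_ker _
    have e : Nat.card M * p = Nat.card (frattini H) * p * p := by
      rw [mul_assoc, ← sq, ← hidx, (frattini H).card_mul_index, ← M.card_mul_index, ha, pow_one]
    refine FusionEssential88.no_middle hS hF hH M hle (Nat.eq_of_mul_eq_mul_right hpp.pos e).le ?_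
    rw [← M.card_mul_index, ha, pow_one]
  obtain ⟨e⟩ := AbelianTwoGen88.homocyclic hG hidx hk h2
  have hcard : Nat.card H = p ^ (k + 1) * p ^ (k + 1) := by
    rw [Nat.card_congr e.toEquiv, Nat.card_congr Multiplicative.toAdd, Nat.card_prod, Nat.card_zmod]
  rcases Nat.eq_zero_or_pos k with rfl | hk0
  · refine Or.inl ⟨⟨hab, fun x hx => ?_⟩, ?_⟩
    · simpa using congrArg Subtype.val (hk ⟨x, hx⟩)
    · rw [hcard]; ring
  refine Or.inr ⟨?_, k + 1, ⟨e⟩⟩
  by_contra h3
  have h5 : 5 ≤ p := by
    rcases Nat.lt_or_ge p 5 with h | h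
    · interval_cases p <;> first | omega | exact absurd hpp (by decide)
    · exact h
  obtain ⟨g, hgS, hgH, hgn⟩ := lt_normalizerIn hS le_rfl (essential_lt hS hF hH)
  let g' : ↥(S ⊓ Subgroup.normalizer (H : Set Ω)) := ⟨g, hgS, hgn⟩
  set α := nHom S H g' with hα
  have hαA : α ∈ F.autGroup H := autInducedBy_le hHS ((autInducedBy_eq_range S H).ge ⟨g', rfl⟩)
  have hδ : ∀ y, (y⁻¹ * α y)⁻¹ * α (y⁻¹ * α y) ∈ frattini H :=
    FusionEssential88.delta_sq hS hHS hrk g'
  let π := QuotientGroup.mk' (frattini H)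
  have hpow : ∀ n : ℕ, ∀ y, π ((α ^ n) y) = π (y * (y⁻¹ * α y) ^ n) := by
    intro n
    induction n with
    | zero => intro y; simp
    | succ n ih =>
      intro y
      have hd : π (α (y⁻¹ * α y)) = π (y⁻¹ * α y) := (QuotientGroup.eq.2 (hδ y)).symm
      rw [pow_succ, MulAut.mul_apply, ih,
        show (α y)⁻¹ * α (α y) = α (y⁻¹ * α y) by rw [map_mul, map_inv]]
      generalize hq : y⁻¹ * α y = q at hd ⊢
      rw [show α y = y * q by rw [← hq, mul_inv_cancel_left]]
      simp only [map_mul, map_pow, hd, pow_succ', mul_assoc]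
  have hαp : α ^ p = 1 := by
    have h1 : α ^ p ∈ Inn H := FusionEssential88.mem_inn_of_trivial hS hH (pow_mem hαA p) fun y => by
      have h := hpow p y
      rw [map_mul, map_pow, ← map_pow π (y⁻¹ * α y) p] at h
      rw [show π ((y⁻¹ * α y) ^ p) = 1 from (QuotientGroup.eq_one_iff _).2
        (PGroupsBasic.pow_mem_frattini hG _), mul_one] at h
      exact QuotientGroup.eq.1 h.symm
    obtain ⟨u, hu⟩ := h1
    rw [← hu]
    refine MulEquiv.ext fun y => ?_
    rw [MulAut.conj_apply, mul_comm u y, mul_inv_cancel_right]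
    rfl
  have htriv : ∀ y, y⁻¹ * α y ∈ frattini H := AbelianTwoGen88.trivial_mod_frattini hG h5
    (fun x hx => AbelianTwoGen88.omega_le_frattini hG hidx hk0.ne' hk h2 hx) α hαp hδ
  exact hgH (mem_of_nHom_mem_inn hHS (centralizerIn_le_of_centric hH.1) g'
    (FusionEssential88.mem_inn_of_trivial hS hH hαA htriv))

end Cfsg.Agent.S5187
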