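import Cfsg.Statements.S5188
import Cfsg.Agent.Lib.FusionEssential88
import Cfsg.Agent.Lib.OrderFourGroups88
import Cfsg.Agent.S5187

set_option autoImplicit false
universe u
open Cfsg Cfsg.FusionSystem Cfsg.Agent.FusionSysBasic Cfsg.Agent.FusionSysSaturated
  Cfsg.Agent.FusionSysAlperin
open scoped commutatorElement

namespace Cfsg.Agent.S5188

/-- Let F be a saturated fusion system over a finite p-group S and H an essential subgroup of order p⁴. Then H is isomorphic to one of: C_p⁴ or C_{p²} × C_p × C_p (any p); C_{p²} × C_{p²} with p ∈ {2, 3}; p^{1+2}_+ × C_p with p odd (the direct product of an extraspecial group of order p³ and exponent p with a group of order p); Q₈ × C₂ (p = 2); or the non-abelian group of order p⁴ of exponent p² whose centre is cyclic of order p² (the central product of an extraspecial group of order p³ with a cyclic group of order p²; for p = 2 this is D₈ ∘ C₄). -/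
theorem result {Ω : Type u} [Group Ω] {S : Subgroup Ω} [Finite S] (p : ℕ) [Fact p.Prime] (hS : IsPGroup p S)
    (F : Cfsg.FusionSystem S) (hF : F.IsSaturated p) (H : Subgroup Ω) (hH : F.IsEssential p H) (hcard : Nat.card H = p ^ 4) :
    Cfsg.IsElementaryAbelian p H ∨
      Nonempty (↥H ≃* Multiplicative (ZMod (p ^ 2) × ZMod p × ZMod p)) ∨
      ((p = 2 ∨ p = 3) ∧ Nonempty (↥H ≃* Multiplicative (ZMod (p ^ 2) × ZMod (p ^ 2)))) ∨
      (Odd p ∧ ∃ (E : Type) (_ : Group E) (_ : Finite E), Cfsg.IsExtraspecial p E ∧ Nat.card E = p ^ 3 ∧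
        (∀ x : E, x ^ p = 1) ∧ Nonempty (↥H ≃* E × Multiplicative (ZMod p))) ∨
      (p = 2 ∧ Nonempty (↥H ≃* QuaternionGroup 2 × Multiplicative (ZMod 2))) ∨
      (¬ IsMulCommutative ↥H ∧ (∀ x ∈ H, x ^ (p ^ 2) = 1) ∧ IsCyclic ↥(Subgroup.center ↥H) ∧
        Nat.card (Subgroup.center ↥H) = p ^ 2) := by
  classical
  have hHS := hH.1.1
  haveI := finite_of_le hHS
  have hG : IsPGroup p H := hS.to_le hHS
  have hpp := (Fact.out : p.Prime)
  by_cases hab : IsMulCommutative H
  · by_cases hrk : (frattini H).index ≤ p ^ 2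
    · rcases S5187.result p hS F hF H hH hab hrk with ⟨hel, -⟩ | ⟨h3, k, ⟨e⟩⟩
      · exact Or.inl hel
      · refine Or.inr (Or.inr (Or.inl ⟨?_, ?_⟩))
        · have := hpp.two_le; omega
        · have hk : k = 2 := by
            have h := Nat.card_congr e.toEquiv
            rw [hcard, Nat.card_congr Multiplicative.toAdd, Nat.card_prod, Nat.card_zmod, ← pow_add] at h
            have := Nat.pow_right_injective hpp.two_le h
            omega
          subst hk
          exact ⟨e⟩
    · letI : CommGroup H := { (inferInstance : Group H) with mul_comm := hab.is_comm.comm }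
      by_cases hb : frattini H = ⊥
      · refine Or.inl ⟨hab, fun x hx => ?_⟩
        simpa using congrArg Subtype.val
          (PGroupsBasic.pow_eq_one_of_frattini_eq_bot hG hb ⟨x, hx⟩)
      · refine Or.inr (Or.inl (OrderFourGroups88.abelian_rank_three hcard ?_))
        obtain ⟨n, hn⟩ := IsPGroup.iff_card.1 (hG.to_subgroup (frattini H))
        have h1 : n ≠ 0 := fun h => hb (Subgroup.card_eq_one.1 (by simpa [h] using hn))
        have h2 := (frattini H).card_mul_index
        rw [hn, hcard] at h2
        obtain ⟨m, hm⟩ := hG.index (frattini H)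
        rw [hm, not_le] at hrk
        have h3 := (Nat.pow_lt_pow_iff_right hpp.one_lt).1 hrk
        rw [hm, ← pow_add] at h2
        have := Nat.pow_right_injective hpp.two_le h2
        rw [hn, show n = 1 by omega, pow_one]
  have hnc := hab
  have hZle : Nat.card (Subgroup.center H) ≤ p ^ 2 :=
    OrderFourGroups88.card_center_le hG hnc hcard
  have hZge := OrderFourGroups88.card_center_ge hG hnc
  obtain ⟨z, hz⟩ := IsPGroup.iff_card.1 (hG.to_subgroup (Subgroup.center H))
  have hidx : ∀ M : Subgroup H, M.index = p → Nat.card M = p ^ 3 := fun M hM => by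
    have h := M.card_mul_index
    rw [hM, hcard, pow_succ p 3] at h
    exact Nat.eq_of_mul_eq_mul_right hpp.pos h
  have hmid : ∀ M : Subgroup H, M.Characteristic → frattini H ≤ M → M.index = p →
      Nat.card (frattini H) = p ^ 2 → False := fun M hM hle hi hfr => by
    haveI := hM
    refine FusionEssential88.no_middle hS hF hH M hle ?_ ?_
    · rw [hidx M hi, hfr, ← pow_succ]
    · rw [hidx M hi, hcard, ← pow_succ]
  have hz12 : z = 1 ∨ z = 2 := by
    have h1 : p ^ 1 ≤ p ^ z := by rw [pow_one, ← hz]; exact hZge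
    have := (Nat.pow_le_pow_iff_right hpp.one_lt).1 h1
    have := (Nat.pow_le_pow_iff_right hpp.one_lt).1 (hz ▸ hZle)
    omega
  rcases hz12 with rfl | rfl
  · obtain ⟨M, h1, h2, h3, h4⟩ :=
      OrderFourGroups88.middle_of_center_small hcard hnc (by simpa using hz)
    exact (hmid M h1 h2 h3 h4).elim
  have hC : Nat.card (commutator H) = p := by
    rw [PGroupOrderFour80.card_commutator_eq_prime_iff hcard]
    have h := (Subgroup.center H).card_mul_index
    rw [hz, hcard, show p ^ 4 = p ^ 2 * p ^ 2 by ring] at h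
    exact Nat.eq_of_mul_eq_mul_left (pow_pos hpp.pos 2) h
  have hCZ : commutator H ≤ Subgroup.center H := PGroupsBasic.le_center_of_card_eq_prime hG hC
  have hcomm : ∀ x y : H, ⁅x, y⁆ ∈ commutator H := fun x y =>
    Subgroup.commutator_mem_commutator (Subgroup.mem_top x) (Subgroup.mem_top y)
  have hfZ : frattini H ≤ Subgroup.center H := by
    refine PGroupsBasic.frattini_le_of_elementary_quotient (p := p) hCZ fun x => ?_
    refine Subgroup.mem_center_iff.2 fun g => commutatorElement_eq_one_iff_mul_comm.1 ?_
    rw [PGroupsBasic.commutatorElement_pow_right (hCZ (hcomm g x))]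
    exact PGroupsBasic.pow_eq_one_of_card hC (hcomm g x)
  have hCf := PGroupsBasic.commutator_le_frattini hG
  obtain ⟨n, hn⟩ := IsPGroup.iff_card.1 (hG.to_subgroup (frattini H))
  have hn12 : n = 1 ∨ n = 2 := by
    have h1 : p ^ 1 ≤ p ^ n := by
      rw [pow_one, ← hn, ← hC]; exact Subgroup.card_le_of_le hCf
    have := (Nat.pow_le_pow_iff_right hpp.one_lt).1 h1
    have := (Nat.pow_le_pow_iff_right hpp.one_lt).1 (hn ▸ hz ▸ Subgroup.card_le_of_le hfZ)
    omega
  rcases hn12 with rfl | rfl
  swap
  · obtain ⟨M, h1, h2, h3⟩ := OrderFourGroups88.middle_of_frattini_big hcard hC hn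
    exact (hmid M h1 h2 h3 hn).elim
  rw [pow_one] at hn
  have hfC : commutator H = frattini H := Subgroup.eq_of_le_of_card_ge hCf (by rw [hn, hC])
  have hpow : ∀ x : H, x ^ p ∈ commutator H := fun x =>
    hfC ▸ PGroupsBasic.pow_mem_frattini hG x
  by_cases hcyc : IsCyclic (Subgroup.center H)
  · refine Or.inr (Or.inr (Or.inr (Or.inr (Or.inr ⟨hnc, fun x hx => ?_, hcyc, hz⟩))))
    have h := PGroupsBasic.pow_eq_one_of_card hC (hpow ⟨x, hx⟩)
    rw [← pow_mul, ← sq] at h
    simpa using congrArg Subtype.val h
  have hchain : ∀ M : Subgroup H, M.Characteristic → Subgroup.center H ≤ M → M.index = p → False :=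
    fun M hM hle hi => by
    refine FusionEssential88.no_char_chain hS hF hH (n := 3)
      (fun i => if i = 0 then frattini H else if i = 1 then Subgroup.center H else if i = 2 then M
        else ⊤) rfl rfl (fun i hi' => ?_) (fun i hi' => ?_) (fun i hi' => ?_)
    · interval_cases i <;> simp <;> first | infer_instance | exact hM
    · interval_cases i <;> simp [hfZ, hle]
    · interval_cases i <;> simp [hn, hz, hidx M hi, hcard, ← pow_succ, ← sq]
  obtain ⟨a, b, hne⟩ : ∃ a b : H, a * b ≠ b * a := by
    by_contra! h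
    exact hnc ⟨⟨h⟩⟩
  rcases hpp.eq_two_or_odd' with h2 | hodd
  · subst h2
    have hz' : Nat.card (Subgroup.center H) = 2 ^ 2 := hz
    by_cases hq : a ^ 2 ≠ 1 ∧ b ^ 2 ≠ 1 ∧ (a * b) ^ 2 ≠ 1
    · have hall : ∀ x : H, x ^ 2 ≠ 1 → x ^ 2 = ⁅b, a⁆ := fun x hx => by
        have hbne : ⁅b, a⁆ ≠ 1 := fun h => hne (commutatorElement_eq_one_iff_mul_comm.1 h).symm
        have heq : commutator H = Subgroup.zpowers ⁅b, a⁆ := (Subgroup.eq_of_le_of_card_ge
          (Subgroup.zpowers_le.2 (hcomm b a)) (by
            rw [Nat.card_zpowers, PGroupsBasic.orderOf_eq_of_pow_eq_one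
              (PGroupsBasic.pow_eq_one_of_card hC (hcomm b a)) hbne, hC])).symm
        obtain ⟨i, hi⟩ := heq ▸ hpow x
        replace hi : ⁅b, a⁆ ^ i = x ^ 2 := hi
        rcases i.even_or_odd' with ⟨j, rfl | rfl⟩
        · refine absurd ?_ hx
          rw [← hi, zpow_mul, zpow_ofNat, PGroupsBasic.pow_eq_one_of_card hC (hcomm b a), one_zpow]
        · rw [← hi]
          simp only [zpow_add, zpow_mul, zpow_one, zpow_ofNat,
            PGroupsBasic.pow_eq_one_of_card hC (hcomm b a), one_zpow, one_mul, pow_one]
      obtain ⟨hE, ⟨e⟩⟩ := OrderFourGroups88.split_central hcard hC hn hz hcyc hne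
      obtain ⟨e'⟩ := OrderFourGroups88.quaternion_of_squares
        (E := Subgroup.closure ({a, b} : Set H)) (Subgroup.subset_closure (Set.mem_insert a _))
        (Subgroup.subset_closure (Set.mem_insert_of_mem a rfl)) (by rw [hE]; rfl) hC hne (hall a hq.1) (hall b hq.2.1)
      exact Or.inr (Or.inr (Or.inr (Or.inr (Or.inl ⟨rfl,
        ⟨e.trans (e'.prodCongr (MulEquiv.refl _))⟩⟩))))
    · exfalso
      have key : ∀ a b : H, a * b ≠ b * a → a ^ 2 = 1 → False := by
        intro a b hne ha
        have hbne : ⁅b, a⁆ ≠ 1 := fun h => hne (commutatorElement_eq_one_iff_mul_comm.1 h).symm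
        by_cases hb : b ^ 2 = 1
        · obtain ⟨M, h1, h2, h3⟩ :=
            OrderFourGroups88.middle_of_involutions hcard hC hz hcyc hne ha hb
          exact hchain M h1 h2 h3
        · have hne' : a * (a * b) ≠ a * b * a := fun h => hne (by
            rw [mul_assoc a b a] at h; exact mul_left_cancel h)
          have hab2 : (a * b) ^ 2 = 1 := by
            rw [ClassTwoPow.mul_pow_central (hCZ (hcomm b a)), ha, mul_one]
            simp only [Nat.choose_self, pow_one]
            have hz2 := PGroupsBasic.pow_eq_one_of_card hC (hcomm b a)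
            have heq : Subgroup.zpowers ⁅b, a⁆ = commutator H := Subgroup.eq_of_le_of_card_ge
              (Subgroup.zpowers_le.2 (hcomm b a)) (by
                rw [Nat.card_zpowers, PGroupsBasic.orderOf_eq_of_pow_eq_one hz2 hbne, hC])
            obtain ⟨i, hi⟩ := heq ▸ hpow b
            replace hi : ⁅b, a⁆ ^ i = b ^ 2 := hi
            rw [← hi]
            rcases i.even_or_odd' with ⟨j, rfl | rfl⟩
            · refine absurd ?_ hb
              rw [← hi, zpow_mul, zpow_ofNat, hz2, one_zpow]
            · simp only [zpow_add, zpow_mul, zpow_one, zpow_ofNat, hz2, one_zpow, one_mul, pow_one]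
              rw [← pow_two, hz2]
          obtain ⟨M, h1, h2, h3⟩ :=
            OrderFourGroups88.middle_of_involutions hcard hC hz hcyc hne' ha hab2
          exact hchain M h1 h2 h3
      push Not at hq
      by_cases ha : a ^ 2 = 1
      · exact key a b hne ha
      by_cases hb : b ^ 2 = 1
      · exact key b a (Ne.symm hne) hb
      refine key (a * b) b (fun h => hne ?_) (hq ha hb)
      rw [← mul_assoc] at h
      exact mul_right_cancel h
  · have hp2 : p ≠ 2 := by rintro rfl; exact absurd hodd (by decide)
    by_cases hex : ∀ x : H, x ^ p = 1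
    · obtain ⟨hE, ⟨e⟩⟩ := OrderFourGroups88.split_central hcard hC hn hz hcyc hne
      set E := Subgroup.closure ({a, b} : Set H)
      obtain ⟨m, ⟨f⟩⟩ := Finite.exists_equiv_fin E
      let ψ : E →* Equiv.Perm (Fin m) :=
        ((Equiv.permCongrHom f).toMonoidHom).comp (MulAction.toPermHom E E)
      have hψ : Function.Injective ψ :=
        (Equiv.permCongrHom f).injective.comp MulAction.toPerm_injective
      let g : ψ.range ≃* E := (MonoidHom.ofInjective hψ).symm
      have hcm : Nat.card ψ.range = p ^ 3 := (Nat.card_congr g.toEquiv).trans hE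
      have hpm : ∀ x : ψ.range, x ^ p = 1 := fun x => g.injective (by
        rw [map_pow, map_one]; exact Subtype.ext (by simpa using hex (g x : H)))
      refine Or.inr (Or.inr (Or.inr (Or.inl ⟨hodd, ψ.range, inferInstance, inferInstance,
        OrderFourGroups88.extraspecial_of_exponent hcm ?_ hpm, hcm, hpm,
        ⟨e.trans (g.symm.prodCongr (MulEquiv.refl _))⟩⟩)))
      intro h
      refine hne (congrArg Subtype.val (show (⟨a, Subgroup.subset_closure (by simp)⟩ : E) *
        ⟨b, Subgroup.subset_closure (by simp)⟩ = (⟨b, Subgroup.subset_closure (by simp)⟩ : E) *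
          ⟨a, Subgroup.subset_closure (by simp)⟩ from g.symm.injective ?_))
      rw [map_mul, map_mul]
      exact h.is_comm.comm _ _
    · push Not at hex
      obtain ⟨M, h1, h2, h3⟩ :=
        OrderFourGroups88.middle_of_exponent_sq hC hz hcyc hp2 hG hpow hex
      exact (hchain M h1 h2 h3).elim

end Cfsg.Agent.S5188
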