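import Cfsg.Statements.S5189
import Cfsg.Agent.Lib.Rank3PairTop34

set_option autoImplicit false
universe u
open Cfsg

namespace Cfsg.Agent.S5189

/-- Let p be an odd prime, S a finite p-group of sectional p-rank exactly 3, and F a saturated fusion system over S whose largest subgroup normal in F is trivial. Suppose S has two distinct essential subgroups E₁, E₂ each of which is invariant under every F-automorphism of S. Then S is isomorphic to a Sylow p-subgroup of Sp(4,p), and one of E₁, E₂ is extraspecial of order p³ and exponent p while the other is elementary abelian of order p³. -/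
theorem result {Ω : Type u} [Group Ω] {S : Subgroup Ω} [Finite S] (p : ℕ) [Fact p.Prime] (hp : Odd p) (hS : IsPGroup p S)
    (hsr : Cfsg.SectionalPRankLE p 3 ↥S ∧ ¬ Cfsg.SectionalPRankLE p 2 ↥S)
    (F : Cfsg.FusionSystem S) (hF : F.IsSaturated p) (hO : F.core = ⊥)
    (E₁ E₂ : Subgroup Ω) (hne : E₁ ≠ E₂) (hE₁ : F.IsEssential p E₁) (hE₂ : F.IsEssential p E₂)
    (hc₁ : (∀ φ : MulAut ↥S, φ ∈ F.autGroup S → (E₁.subgroupOf S).map φ.toMonoidHom = E₁.subgroupOf S))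
    (hc₂ : (∀ φ : MulAut ↥S, φ ∈ F.autGroup S → (E₂.subgroupOf S).map φ.toMonoidHom = E₂.subgroupOf S)) :
    (∃ P : Sylow p ↥(Matrix.symplecticGroup (Fin 2) (ZMod p)),
        Nonempty (↥S ≃* ↥(P : Subgroup ↥(Matrix.symplecticGroup (Fin 2) (ZMod p))))) ∧
      ((Cfsg.IsExtraspecial p ↥E₁ ∧ Nat.card E₁ = p ^ 3 ∧ (∀ x ∈ E₁, x ^ p = 1) ∧
          Cfsg.IsElementaryAbelian p E₂ ∧ Nat.card E₂ = p ^ 3) ∨
        (Cfsg.IsExtraspecial p ↥E₂ ∧ Nat.card E₂ = p ^ 3 ∧ (∀ x ∈ E₂, x ^ p = 1) ∧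
          Cfsg.IsElementaryAbelian p E₁ ∧ Nat.card E₁ = p ^ 3)) := by
  have hmax : ∀ E : Subgroup Ω, F.IsEssential p E →
      (∀ φ : MulAut ↥S, φ ∈ F.autGroup S → (E.subgroupOf S).map φ.toMonoidHom = E.subgroupOf S) →
      Rank3.Max F p E ∧ Rank3.Inv F S E := by
    intro E hE hc
    have hES : E ≤ S := hE.1.1
    have hinv : Rank3.Inv F S E := by
      intro α hα x hx
      have h : α ⟨x, hES hx⟩ ∈ E.subgroupOf S :=
        (hc α hα).le ⟨⟨x, hES hx⟩, hx, rfl⟩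
      rw [FusionSysBasic.afun_apply α (hES hx)]
      exact h
    have hn : ∀ g ∈ S, ∀ x ∈ E, FusionSysBasic.cj g x ∈ E := fun g hg x hx => by
      have h1 := hinv _ (FusionSysBasic.autInducedBy_le le_rfl
        ((FusionSysBasic.autInducedBy_eq_range S S).ge
          ⟨⟨g, hg, Subgroup.le_normalizer hg⟩, rfl⟩)) x hx
      rwa [FusionSysBasic.afun_nHom _ (hES hx)] at h1
    refine ⟨⟨hE, ?_, hn⟩, hinv⟩
    rw [← Rank3.card_normalizerIn hp hS hF hsr.1 hE, FusionSystem.normalizerIn,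
      inf_eq_left.mpr fun g hg => FusionSysBasic.mem_normalizer_of_cj_le hES (hn g hg)]
  obtain ⟨m₁, c₁⟩ := hmax E₁ hE₁ hc₁
  obtain ⟨m₂, c₂⟩ := hmax E₂ hE₂ hc₂
  obtain ⟨hP, A, hA, B, hB, hBx, hBc, hBe, hAe, hAc⟩ :=
    Rank3.Pair.concl ⟨hp, hS, hF, hsr.1, m₁, m₂, hne, c₁, c₂⟩ hsr hO
  refine ⟨hP, ?_⟩
  have hAB : A ≠ B := by
    rintro rfl
    haveI : Finite A := Nat.finite_of_card_ne_zero
      (by rw [hAc]; exact pow_ne_zero _ (Fact.out : p.Prime).ne_zero)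
    have hz : Subgroup.center A = ⊤ := eq_top_iff.mpr fun a _ =>
      Subgroup.mem_center_iff.mpr fun b => hAe.1.is_comm.comm b a
    have h1 := hBx.2
    rw [hz, Subgroup.card_top, hAc] at h1
    exact (lt_self_pow₀ (Fact.out : p.Prime).one_lt (by norm_num : 1 < 3)).ne h1.symm
  rcases hA with rfl | rfl <;> rcases hB with rfl | rfl
  · exact absurd rfl hAB
  · exact Or.inr ⟨hBx, hBc, hBe, hAe, hAc⟩
  · exact Or.inl ⟨hBx, hBc, hBe, hAe, hAc⟩
  · exact absurd rfl hAB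

end Cfsg.Agent.S5189
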