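import Cfsg.Statements.S5191
import Mathlib

set_option autoImplicit false
open Cfsg
open scoped Pointwise

namespace Cfsg.Agent.S5191

/-- Fusion in a finite group G and in its quotient by O_{p'}(G) agree. Let S be a Sylow p-subgroup of G, N = O_{p'}(G) and P ≤ S. If an element of G/N conjugates the image of P into the image of S, then some element g of G conjugates P into S and induces the same map on P modulo N. (Together with the injectivity of S → G/N this says that g ↦ gN induces an isomorphism of the fusion system of G on S with that of G/N on SN/N.) -/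
theorem result {G : Type*} [Group G] [Finite G] {p : ℕ} [Fact p.Prime]
    [hN : (Cfsg.pPrimeCore p G).Normal] (S : Sylow p G) (P : Subgroup G) (hP : P ≤ (S : Subgroup G))
    (γ : G ⧸ Cfsg.pPrimeCore p G)
    (hγ : ∀ x ∈ P, γ * QuotientGroup.mk x * γ⁻¹ ∈ ((S : Subgroup G).map (QuotientGroup.mk' (Cfsg.pPrimeCore p G)))) :
    ∃ g : G, ∀ x ∈ P, g * x * g⁻¹ ∈ S ∧
      (QuotientGroup.mk (g * x * g⁻¹) : G ⧸ Cfsg.pPrimeCore p G) = γ * QuotientGroup.mk x * γ⁻¹ := by
  obtain ⟨g, rfl⟩ := QuotientGroup.mk_surjective γ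
  set N := Cfsg.pPrimeCore p G
  set H : Subgroup G := (S : Subgroup G) ⊔ N
  set P' : Subgroup G := P.map (MulAut.conj g).toMonoidHom
  have hP'H : P' ≤ H := by
    rintro _ ⟨x, hx, rfl⟩
    have h := hγ x hx
    rw [Subgroup.mem_map] at h
    obtain ⟨s, hs, hs2⟩ := h
    have h3 : s⁻¹ * (g * x * g⁻¹) ∈ N := by
      rw [← QuotientGroup.eq]
      simpa using hs2
    have h4 : s * (s⁻¹ * (g * x * g⁻¹)) ∈ H :=
      H.mul_mem (Subgroup.mem_sup_left hs) (Subgroup.mem_sup_right h3)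
    simpa [MulAut.conj_apply] using h4
  have hP'p : IsPGroup p ↥(P'.subgroupOf H) :=
    IsPGroup.of_equiv ((S.2.to_le hP).map _) (Subgroup.subgroupOfEquivOfLe hP'H).symm
  obtain ⟨T, hT⟩ := hP'p.exists_le_sylow
  obtain ⟨a, ha⟩ := MulAction.exists_smul_eq ↥H T (S.subtype (le_sup_left : (S : Subgroup G) ≤ H))
  have haH : (a : G) ∈ (↑((S : Subgroup G) ⊔ N) : Set G) := a.2
  rw [Subgroup.mul_normal] at haH
  obtain ⟨s, hs, n, hn, hsn⟩ := Set.mem_mul.1 haH
  refine ⟨n * g, fun x hx => ?_⟩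
  constructor
  · have hy : g * x * g⁻¹ ∈ P' := ⟨x, hx, by simp [MulAut.conj_apply]⟩
    have hyT : (⟨g * x * g⁻¹, hP'H hy⟩ : H) ∈ (T : Subgroup H) := hT (Subgroup.mem_subgroupOf.2 hy)
    have h1 : MulAut.conj a • (⟨g * x * g⁻¹, hP'H hy⟩ : H) ∈
        (MulAut.conj a • (T : Subgroup H)) :=
      Subgroup.smul_mem_pointwise_smul _ _ _ hyT
    rw [← Sylow.coe_subgroup_smul] at h1
    rw [ha, Sylow.coe_subtype, Subgroup.mem_subgroupOf] at h1
    have h3 : (a : G) * (g * x * g⁻¹) * (a : G)⁻¹ ∈ (S : Subgroup G) := h1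
    have h4 := (S : Subgroup G).mul_mem ((S : Subgroup G).mul_mem ((S : Subgroup G).inv_mem hs) h3) hs
    rw [← hsn] at h4
    have h5 : s⁻¹ * (s * n * (g * x * g⁻¹) * (s * n)⁻¹) * s = n * g * x * (n * g)⁻¹ := by group
    rw [h5] at h4
    exact h4
  · have h : (QuotientGroup.mk n : G ⧸ Cfsg.pPrimeCore p G) = 1 := (QuotientGroup.eq_one_iff n).2 hn
    simp only [QuotientGroup.mk_mul, QuotientGroup.mk_inv]
    rw [h]
    group

end Cfsg.Agent.S5191
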