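import Cfsg.Statements.S5192
import Cfsg.Agent.Lib.FusionFocal

set_option autoImplicit false
open Cfsg

namespace Cfsg.Agent.S5192

/-- A Thompson-type transfer for saturated fusion systems. Let F be a saturated fusion system on a finite 2-group S, T a subgroup of S of index 2, and i an involution of S such that every fully normalized F-conjugate of i lies in S but outside T. Then i does not lie in the hyperfocal subgroup of F (the Sylow group of the 2-residual subsystem). -/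
theorem result {Ω : Type*} [Group Ω] [Finite Ω] {S : Subgroup Ω}
    (hS : IsPGroup 2 ↥S) (F : Cfsg.FusionSystem S) (hF : F.IsSaturated 2)
    (T : Subgroup Ω) (hTS : T ≤ S) (hT : T.relIndex S = 2)
    (i : Ω) (hi : i ∈ S) (hi2 : orderOf i = 2)
    (h : ∀ j : Ω, F.IsConjElt i j → F.IsFullyNormalized (Subgroup.zpowers j) → j ∉ T) :
    i ∉ F.hyperfocalSubgroup 2 := by
  classical
  set T' := T.subgroupOf S with hT'
  haveI hT'n : T'.Normal := Subgroup.normal_of_index_eq_two hT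
  have hidx : Nat.card (↥S ⧸ T') = 2 := hT
  haveI : IsCyclic (↥S ⧸ T') := isCyclic_of_prime_card (p := 2) hidx
  letI : CommGroup (↥S ⧸ T') := IsCyclic.commGroup
  have hA : ∀ a : ↥S ⧸ T', a ^ 2 = 1 := fun a => by
    have h1 := pow_card_eq_one' (x := a)
    rwa [hidx] at h1
  let χ : Ω → ↥S ⧸ T' := fun x => if h : x ∈ S then QuotientGroup.mk' T' ⟨x, h⟩ else 1
  have hχ : ∀ x (h : x ∈ S), χ x = QuotientGroup.mk' T' ⟨x, h⟩ := fun x h => dif_pos h
  have hinv : FusionTransfer.IsInvHom S S χ := by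
    refine ⟨fun x hx y hy => ?_, fun s hs x hx => ?_⟩
    · rw [hχ x hx, hχ y hy, hχ _ (S.mul_mem hx hy), ← map_mul]
      rfl
    · rw [hχ x hx, hχ _ (FusionSysBasic.cj_mem_S hs hx)]
      have e : (⟨FusionSysBasic.cj s x, FusionSysBasic.cj_mem_S hs hx⟩ : ↥S) =
          ⟨s, hs⟩ * ⟨x, hx⟩ * ⟨s, hs⟩⁻¹ := rfl
      rw [e, map_mul, map_mul, map_inv, mul_inv_cancel_comm]
  have hsc : F.StronglyClosed S :=
    FusionSysNormal.stronglyClosed_iff.2 ⟨le_rfl, fun _ _ _ hf _ hx => hf.apply_mem hx⟩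
  obtain ⟨N, W, f, hN, hWm, hWs, -, -, -, hWC⟩ := FusionTransfer.exists_transfer hS hF hsc
    (fun P g hg => ⟨1, S.one_mem, fun x hx => by
      rw [FusionSysBasic.cj_one]; exact S.mul_mem (S.inv_mem (hg.apply_mem hx)) (hg.le hx)⟩) hinv
  -- a fully normalized conjugate
  obtain ⟨Q, hQ, hQn⟩ := FusionSysSaturated.exists_fullyNormalized (F := F)
    (Subgroup.zpowers_le.mpr hi)
  obtain ⟨g, hg, rfl⟩ := FusionSysBasic.isConj_iff.mp hQ
  set j := g i with hj
  have him : ∀ {f : Ω → Ω} {x : Ω}, FusionSysBasic.Mor F (Subgroup.zpowers x) f →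
      FusionSysBasic.im (Subgroup.zpowers x) f = Subgroup.zpowers (f x) := by
    intro f x hf
    refine le_antisymm (FusionSysBasic.im_le_iff.mpr fun y hy => ?_)
      (Subgroup.zpowers_le.mpr (FusionSysBasic.apply_mem_im (Subgroup.mem_zpowers x)))
    obtain ⟨k, rfl⟩ := Subgroup.mem_zpowers_iff.mp hy
    exact ⟨k, (map_zpow ({ toFun := fun y => f y
                           map_one' := hf.map_one
                           map_mul' := fun a b => hf.map_mul a.2 b.2 } : Subgroup.zpowers x →* Ω)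
      ⟨x, Subgroup.mem_zpowers x⟩ k).symm⟩
  rw [him hg] at hQn hQ
  have hjS : j ∈ S := hg.apply_mem (Subgroup.mem_zpowers i)
  have hsq : ∀ {P : Subgroup Ω} {f : Ω → Ω}, FusionSysBasic.Mor F P f → ∀ x ∈ P,
      f (x ^ 2) = f x ^ 2 := fun hf x hx => by rw [sq, sq, hf.map_mul hx hx]
  have hj2 : j ^ 2 = 1 := by
    rw [hj, ← hsq hg i (Subgroup.mem_zpowers i), ← hi2, pow_orderOf_eq_one, hg.map_one]
  set C := S ⊓ Subgroup.centralizer ((Subgroup.zpowers j : Subgroup Ω) : Set Ω)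
  have hjC : j ∈ C := ⟨hjS, Subgroup.mem_centralizer_iff.mpr fun y hy => by
    obtain ⟨k, rfl⟩ := Subgroup.mem_zpowers_iff.mp hy
    exact ((Commute.refl j).zpow_left k).eq⟩
  have hCx : ∀ s ∈ C, s * j = j * s := fun s hs =>
    (Subgroup.mem_centralizer_iff.mp hs.2 j (Subgroup.mem_zpowers j)).symm
  -- the normalizer of a subgroup of order two is its centralizer
  have hNC : ∀ z : Ω, z ^ 2 = 1 → ∀ s ∈ Cfsg.FusionSystem.normalizerIn S (Subgroup.zpowers z),
      s * z = z * s := by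
    intro z hz s hs
    obtain ⟨k, hk : z ^ k = s * z * s⁻¹⟩ :=
      (Subgroup.mem_normalizer_iff.mp hs.2 z).mp (Subgroup.mem_zpowers z)
    have hz1 : z ^ k = 1 ∨ z ^ k = z := by
      rcases Int.even_or_odd k with ⟨m, rfl⟩ | ⟨m, rfl⟩
      · left; rw [← two_mul, zpow_mul, zpow_two, ← sq, hz, one_zpow]
      · right; rw [zpow_add, zpow_mul, zpow_two, ← sq, hz, one_zpow, one_mul, zpow_one]
    rcases hz1 with h1 | h1
    · rw [h1] at hk
      have : z = 1 := by
        have h2 := conj_eq_one_iff.mp hk.symm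
        exact h2
      rw [this, mul_one, one_mul]
    · rw [h1] at hk
      exact (mul_inv_eq_iff_eq_mul.mp hk.symm)
  have hii : Subgroup.zpowers i ≤ S := Subgroup.zpowers_le.mpr hi
  have hu : ∀ z, z ∈ S → F.IsConjElt i z → F.IsFullyNormalized (Subgroup.zpowers z) →
      ∀ a : ↥S ⧸ T', a ≠ 1 → χ z = a := by
    intro z hz hc hn a ha
    have hzT : χ z ≠ 1 := by
      rw [hχ z hz]
      exact fun e => h z hc hn (Subgroup.mem_subgroupOf.mp ((QuotientGroup.eq_one_iff _).mp e))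
    rw [Nat.card_eq_two_iff' (1 : ↥S ⧸ T')] at hidx
    exact hidx.unique hzT ha
  have hij : F.IsConjElt i j := FusionSysNormal.isConjElt_iff.mpr ⟨g, hg, rfl⟩
  have hχj : χ j ≠ 1 := by
    rw [hχ j hjS]
    exact fun e => h j hij hQn (Subgroup.mem_subgroupOf.mp ((QuotientGroup.eq_one_iff _).mp e))
  have hWj : W j = χ j ^ N := by
    refine hWC hA j hjS hj2 C inf_le_left hjC hCx _ fun k hk => ?_
    have hz : k j ∈ S := hk.apply_mem hjC
    have hkz : k j ^ 2 = 1 := by rw [← hsq hk j hjC, hj2, hk.map_one]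
    have hk' := hk.restrict_to (Subgroup.zpowers_le.mpr hjC)
    have hzc : F.IsConjElt i (k j) :=
      FusionSysNormal.isConjElt_iff.mpr ⟨k ∘ g, hg.comp hk fun y hy => by
        obtain ⟨m, rfl⟩ := Subgroup.mem_zpowers_iff.mp hy
        have := FusionSysBasic.apply_mem_im (f := g) (Subgroup.mem_zpowers_iff.mpr ⟨m, rfl⟩ :
          i ^ m ∈ Subgroup.zpowers i)
        rw [him hg] at this
        exact Subgroup.zpowers_le.mpr hjC this, rfl⟩
    refine hu _ hz hzc ⟨Subgroup.zpowers_le.mpr hz, fun R hR => ?_⟩ _ hχj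
    have hjR : F.IsConj (Subgroup.zpowers j) R := FusionSysBasic.isConj_trans
      (FusionSysBasic.isConj_iff.mpr ⟨k, hk', him hk'⟩) hR
    refine (hQn.2 R hjR).trans ?_
    have h1 : Cfsg.FusionSystem.normalizerIn S (Subgroup.zpowers j) ≤ C := by
      intro s hs
      refine ⟨hs.1, Subgroup.mem_centralizer_iff.mpr fun y hy => ?_⟩
      obtain ⟨m, rfl⟩ := Subgroup.mem_zpowers_iff.mp hy
      exact ((Commute.zpow_right (show Commute s j from hNC j hj2 s hs) m).eq).symm
    refine FusionSysSaturated.card_le_of_mor (hk.restrict_to h1) inf_le_left fun s hs => ?_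
    refine ⟨hk.apply_mem (h1 hs), FusionSysBasic.mem_normalizer_of_cj_le
      (Subgroup.zpowers_le.mpr hz) fun y hy => ?_⟩
    obtain ⟨m, rfl⟩ := Subgroup.mem_zpowers_iff.mp hy
    have h2 : FusionSysBasic.cj (k s) (k j) = k j := by
      rw [← hk.map_cj (h1 hs) hjC, FusionSysBasic.cj_apply, hCx s (h1 hs), mul_inv_cancel_right]
    rw [FusionSysBasic.cj_apply, ← conj_zpow, ← FusionSysBasic.cj_apply, h2]
    exact Subgroup.zpow_mem _ (Subgroup.mem_zpowers _) m
  intro hihyp
  -- `W` kills the focal subgroup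
  let Z : Subgroup ↥S :=
    (MonoidHom.mk' (fun x : ↥S => W x) (fun a b => hWm a a.2 b b.2)).ker
  have hfoc : F.focalSubgroup ≤ Z.map S.subtype := by
    refine FusionFocal.focal_le_iff.mpr fun P k hk x hx =>
      ⟨⟨x⁻¹ * k x, S.mul_mem (S.inv_mem (hk.le hx)) (hk.apply_mem hx)⟩, ?_, rfl⟩
    show W (x⁻¹ * k x) = 1
    rw [hWm _ (S.inv_mem (hk.le hx)) _ (hk.apply_mem hx), hWs P k hk x hx (hk.le hx),
      ← hWm _ (S.inv_mem (hk.le hx)) _ (hk.le hx), inv_mul_cancel]
    exact (MonoidHom.mk' (fun x : ↥S => W x) (fun a b => hWm a a.2 b b.2)).map_one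
  obtain ⟨y, hy, hye⟩ := hfoc (FusionFocal.hyperfocal_le_focal hihyp)
  obtain rfl : y = ⟨i, hi⟩ := Subtype.ext hye
  have h1 : W i = 1 := hy
  rw [← hWs _ g hg i (Subgroup.mem_zpowers i) hi, hWj] at h1
  have h2 : orderOf (χ j) = 2 := orderOf_eq_prime (hA _) hχj
  exact hN (h2 ▸ orderOf_dvd_iff_zpow_eq_one.mpr h1)

end Cfsg.Agent.S5192
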