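import Cfsg.Statements.S5196
import Cfsg.Agent.Lib.FusionFunctorLocal

set_option autoImplicit false
universe u
open Cfsg

namespace Cfsg.Agent.S5196

open Cfsg.FusionSystem Cfsg.Agent.FusionSysBasic Cfsg.Agent.FusionSysSaturated
  Cfsg.Agent.FusionSysNormal Cfsg.Agent.FusionFunctorLocal Cfsg.Agent.FusionInduct88

/-- The element `z` is fixed. -/
def Keep {Ω : Type u} [Group Ω] (z : Ω) (P : Subgroup Ω) (f : Ω → Ω) : Prop :=
  ∀ x ∈ P, (x = z ↔ f x = z)

/-- `W` controls weak closure of elements. -/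
def Fx (W : ∀ (Q : Type u) [Group Q], Subgroup Q) {Ω : Type u} [Group Ω] {S : Subgroup Ω} [Finite S]
    (E : FusionSystem S) : Prop :=
  ∀ z : Ω, Ctl W E (Keep z)

theorem closed_keep {Ω : Type u} [Group Ω] {S : Subgroup Ω} {F : FusionSystem S} {z : Ω}
    (hconj : ∀ g ∈ S, Keep z S (cj g)) : Closed F (U := S) (Keep z) where
  congr := fun h he x hx => he x hx ▸ h x hx
  conj := fun hP hg x hx => hconj _ hg x (hP hx)
  comp := fun _ _ _ _ hfQ h1 h2 x hx => (h1 x hx).trans (h2 _ (hfQ x hx))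
  inv := fun hf _ _ hgf h1 y hy => by
    obtain ⟨x, hx, rfl⟩ := hf.mem_im.mp hy
    rw [hgf x hx]
    exact (h1 x hx).symm

theorem keep_of_fix {Ω : Type u} [Group Ω] {S : Subgroup Ω} {F : FusionSystem S} {z : Ω}
    (h : ∀ P f, Mor F P f → z ∈ P → f z = z) {P : Subgroup Ω} {f : Ω → Ω} (hf : Mor F P f) :
    Keep z P f := by
  intro x hx
  obtain ⟨j, hj, hjl, -, -⟩ := hf.exists_inv
  refine ⟨fun e => e ▸ h P f hf (e ▸ hx), fun e => ?_⟩
  rw [← hjl x hx, e]
  exact h _ j hj (e ▸ apply_mem_im hx)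

theorem apply_zpow_mem {Ω : Type u} [Group Ω] {S : Subgroup Ω} {F : FusionSystem S} {P T : Subgroup Ω}
    {f : Ω → Ω} (hf : Mor F P f) {z : Ω} (hz : z ∈ P) (hfz : f z ∈ T) {b : Ω}
    (hb : b ∈ Subgroup.zpowers z) : f b ∈ T := by
  obtain ⟨φ, -, he⟩ := hf
  obtain ⟨j, rfl⟩ := Subgroup.mem_zpowers_iff.mp hb
  rw [← he ⟨z, hz⟩] at hfz
  rw [← he ⟨z ^ j, zpow_mem hz j⟩, show (⟨z ^ j, zpow_mem hz j⟩ : P) = ⟨z, hz⟩ ^ j from
    Subtype.ext (by simp), map_zpow]
  exact zpow_mem hfz j

variable {p : ℕ} [Fact p.Prime] {W : ∀ (Q : Type u) [Group Q], Subgroup Q}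

theorem Ws_conj (hW : Fn p W) {Ω : Type u} [Group Ω] {S : Subgroup Ω} [Finite S] (hS : IsPGroup p S)
    {F : FusionSystem S} {z : Ω} (hB : OnNormalizer F (Ws W S) (Keep z)) :
    ∀ g ∈ S, Keep z S (cj g) := by
  have hn : ∀ g ∈ S, g ∈ Subgroup.normalizer ((Ws W S : Subgroup Ω) : Set Ω) := fun g hg =>
    mem_normalizer_of_cj_le (Ws_le S) fun y hy => cj_mem_Ws hW hS (Subgroup.le_normalizer hg) hy
  intro g hg x hx
  refine hB S (cj g) (mor_cj le_rfl hg) (le_inf le_rfl hn) (fun y hy => ?_)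
    ⟨cj g, mor_cj (sup_le le_rfl (Ws_le S)) hg, fun _ _ => rfl,
      mem_normalizer_iff_im_cj.mp (hn g hg)⟩ x hx
  exact ⟨cj_mem_S hg hy, hn _ (cj_mem_S hg hy)⟩

theorem step (hW : Fn p W) (hWZ : ∀ (Q : Type u) [Group Q] [Finite Q], IsPGroup p Q → Subgroup.center Q ≤ W Q) (hC : ∀ (G : Type u) [Group G] [Finite G] (P : Sylow p G), Cfsg.pCore p G ⊓ Subgroup.center G = Cfsg.pCore p G ⊓ (Subgroup.center ↥(Subgroup.normalizer (((W ↥(P : Subgroup G)).map (P : Subgroup G).subtype : Subgroup G) : Set G))).map (Subgroup.normalizer (((W ↥(P : Subgroup G)).map (P : Subgroup G).subtype : Subgroup G) : Set G)).subtype)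
    {Ω : Type u} [Group Ω] {S : Subgroup Ω} [Finite S] (F : FusionSystem S) (hS : IsPGroup p S)
    (hF : F.IsSaturated p)
    (IH : ∀ {Ω' : Type u} [Group Ω'] {S' : Subgroup Ω'} [Finite S'] (E : FusionSystem S'),
      IsPGroup p S' → E.IsSaturated p → Less E F → Fx W E) : Fx W F := by
  classical
  intro z hB
  have hconj := Ws_conj hW hS hB
  have hΦ : Closed F (U := S) (Keep z) := closed_keep hconj
  have hbelow : CtlBelow W p F (Keep z) := fun E _ _ _ hT hE hlt => IH E hT hE hlt z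
  by_cases hcore : F.core = ⊥
  · exact fun P f hf => all_of_core_eq_bot hW hΦ hS hF hB hbelow hcore hf
  by_cases hzS : z ∈ S
  swap
  · exact fun P f hf x hx => ⟨fun e => absurd (e ▸ hf.le hx) hzS,
      fun e => absurd (e ▸ hf.apply_mem hx) hzS⟩
  have hzc : ∀ g ∈ S, cj g z = z := fun g hg => (hconj g hg z hzS).mp rfl
  have hzcomm : ∀ g ∈ S, g * z = z * g := fun g hg => by
    have := hzc g hg
    rw [cj_apply, mul_inv_eq_iff_eq_mul] at this
    exact this
  have hQn : F.IsNormal F.core := core_isNormal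
  set Q := F.core with hQdef
  have hQS : Q ≤ S := normal_le hQn
  have hSQ : S ≤ Subgroup.normalizer (Q : Set Ω) := le_normalizer_of_normal hQn
  have hfn : F.IsFullyNormalized Q := FusionWeakAlperin.fullyNormalized_of_normal hQS
    fun g hg x hx => cj_mem_of_normalizer (hSQ hg) hx
  set U := Ws W S with hU
  have hnU : ∀ g ∈ S, g ∈ Subgroup.normalizer (U : Set Ω) := fun g hg =>
    mem_normalizer_of_cj_le (Ws_le S) fun y hy => cj_mem_Ws hW hS (Subgroup.le_normalizer hg) hy
  -- the case `Q = S`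
  by_cases hQS' : Q = S
  · have hUn : F.IsNormal U :=
      normal_of_characteristic hQn (hQS'.symm ▸ Ws_le S) (by rw [hQS']; exact Ws_characteristic hW hS)
    intro P f hf
    exact hB P f hf (le_inf hf.le fun x hx => hnU x (hf.le hx))
      (fun x hx => ⟨hf.apply_mem hx, hnU _ (hf.apply_mem hx)⟩) ((isNormal_iff.mp hUn).2 P f hf)
  suffices ∀ P f, Mor F P f → z ∈ P → f z = z from fun P f hf => keep_of_fix this hf
  have hzC : z ∈ centralizerIn S Q := mem_centralizerIn.mpr ⟨hzS, fun y hy => by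
    rw [cj_apply, ← hzcomm y (hQS hy), mul_inv_cancel_right]⟩
  intro P f hf hzP
  by_cases hQc : F.IsCentric Q
  · have hzQ : z ∈ Q := hQc.2 Q (FusionSysBasic.isConj_refl hQS) hzC
    have hzU : z ∈ U := ⟨⟨z, hzS⟩, hWZ ↥S hS (Subgroup.mem_center_iff.mpr fun g =>
      Subtype.ext (hzcomm g g.2)), rfl⟩
    have h : FusionSysModel.Hyp p F Q := ⟨hS, hF, hQn, hQc⟩
    haveI := FusionSysModel.k0_normal h
    obtain ⟨hfin, hι, ⟨T, hTr⟩, -⟩ := FusionSysModel.isModel h
    haveI := hfin
    set G := FusionSysModel.Model h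
    set ι : S →* G := FusionSysModel.iota h
    have hQnm : ((Q.subgroupOf S).map ι).Normal := by
      constructor
      rintro _ ⟨q, hq, rfl⟩ y
      rw [FusionSysModel.conj_iota_Q h y hq]
      exact ⟨⟨afun (FusionSysModel.modelFst h y : MulAut Q) q, h.le (afun_mem _ hq)⟩, Subgroup.mem_subgroupOf.mpr (afun_mem _ (Subgroup.mem_subgroupOf.mp hq)), rfl⟩
    have hQp : (Q.subgroupOf S).map ι ≤ Cfsg.pCore p G :=
      HallCore.le_pCore ((hS.to_subgroup _).map _)
    set NU := Subgroup.normalizer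
      (((W ↥(T : Subgroup G)).map (T : Subgroup G).subtype : Subgroup G) : Set G)
    -- the functor value in the model
    let e : ↥S ≃* ↥(T : Subgroup G) :=
      (MonoidHom.ofInjective hι.1).trans (MulEquiv.subgroupCongr hTr.symm)
    have he : ∀ s : S, ((e s : ↥(T : Subgroup G)) : G) = ι s := fun s => rfl
    have hWe : ∀ y : G, y ∈ (W ↥(T : Subgroup G)).map (T : Subgroup G).subtype ↔
        ∃ w : S, (w : Ω) ∈ U ∧ ι w = y := by
      intro y
      rw [← hW.nat _ _ hS e, Subgroup.map_map]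
      constructor
      · rintro ⟨w, hw, rfl⟩
        exact ⟨w, ⟨w, hw, rfl⟩, he w⟩
      · rintro ⟨w, ⟨w', hw', hwe⟩, rfl⟩
        obtain rfl : w' = w := Subtype.ext hwe
        exact ⟨_, hw', he _⟩
    have hTN : (T : Subgroup G) ≤ NU := by
      intro t ht
      obtain ⟨s, rfl⟩ : t ∈ ι.range := hTr ▸ ht
      refine Subgroup.mem_normalizer_fintype ?_
      intro y hy
      obtain ⟨w, hw, rfl⟩ := (hWe y).mp hy
      refine (hWe _).mpr ⟨s * w * s⁻¹, ?_, by simp⟩
      exact cj_mem_of_normalizer (hnU s s.2) hw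
    have hzNU : ι ⟨z, hzS⟩ ∈ NU := hTN (hTr ▸ ⟨_, rfl⟩)
    have hcen : ι ⟨z, hzS⟩ ∈ (Subgroup.center ↥NU).map NU.subtype := by
      refine ⟨⟨_, hzNU⟩, Subgroup.mem_center_iff.mpr fun n => Subtype.ext ?_, rfl⟩
      show (n : G) * ι ⟨z, hzS⟩ = ι ⟨z, hzS⟩ * (n : G)
      have hrange : ∀ y ∈ U, ∃ w : S, (w : Ω) ∈ U ∧ cj (n : G) (FusionRealized87.up ι y) = ι w := by
        intro y hy
        rw [FusionRealized87.up_apply ι (Ws_le S hy)]
        obtain ⟨w, hw, hwe⟩ := (hWe _).mp ((Subgroup.mem_normalizer_iff.mp n.2 _).mp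
          ((hWe _).mpr ⟨⟨y, Ws_le S hy⟩, hy, rfl⟩))
        exact ⟨w, hw, hwe.symm⟩
      have hm := FusionRealized87.mor_of_conj hι (Ws_le S) fun y hy =>
        (hrange y hy).elim fun w hw => ⟨w, hw.2.symm⟩
      have hfix := (hB U _ hm (le_inf (Ws_le S) fun y hy => hnU y (Ws_le S hy))
        (fun y hy => ⟨hm.apply_mem hy, hnU _ (hm.apply_mem hy)⟩)
        ⟨fun y => FusionRealized87.down ι (cj (n : G) (FusionRealized87.up ι y)),
          by rwa [sup_idem], fun _ _ => rfl, hm.im_self fun y hy => by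
            obtain ⟨w, hw, hwe⟩ := hrange y hy
            rw [hwe, ← FusionRealized87.up_apply ι w.2, FusionRealized87.down_up hι w.2]
            exact hw⟩ z hzU).mp rfl
      obtain ⟨w, -, hwe⟩ := hrange z hzU
      simp only [hwe, ← FusionRealized87.up_apply ι w.2, FusionRealized87.down_up hι w.2] at hfix
      obtain rfl : w = ⟨z, hzS⟩ := Subtype.ext hfix
      rw [FusionRealized87.up_apply ι hzS, cj_apply, mul_inv_eq_iff_eq_mul] at hwe
      exact hwe
    have hmem : ι ⟨z, hzS⟩ ∈ Cfsg.pCore p G ⊓ Subgroup.center G := by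
      rw [hC G T]
      exact Subgroup.mem_inf.mpr ⟨hQp (Subgroup.mem_map_of_mem ι (Subgroup.mem_subgroupOf.mpr hzQ)),
        hcen⟩
    obtain ⟨-, hfS, g, hg⟩ := (FusionRealized87.mor_iff hι).mp hf
    refine FusionRealized87.up_inj hι (hfS z hzP) hzS ?_
    rw [hg z hzP, FusionRealized87.up_apply ι hzS, cj_apply,
      Subgroup.mem_center_iff.mp (Subgroup.mem_inf.mp hmem).2 g, mul_inv_cancel_right]
  · -- maps of `N_F(Q C_S(Q))` fix `z`
    set X := Q ⊔ centralizerIn S Q with hX
    have hXS : X ≤ S := sup_le hQS inf_le_left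
    have hQX : Q < X := by
      refine lt_of_le_of_ne le_sup_left fun e => hQc ⟨hQS, fun Q' hQ' => ?_⟩
      obtain ⟨f, hf, rfl⟩ := FusionSysBasic.isConj_iff.mp hQ'
      rw [hf.im_self fun x hx => normal_invariant hQn hf hx hx]
      exact le_sup_right.trans e.ge
    have hSX : S ≤ Subgroup.normalizer (X : Set Ω) := by
      intro g hg
      refine mem_normalizer_of_cj_le hXS fun x hx => ?_
      refine mor_sup_induction (mor_cj (F := F) hXS hg) (fun a ha => Subgroup.mem_sup_left
        (cj_mem_of_normalizer (hSQ hg) ha)) (fun c hc => Subgroup.mem_sup_right ?_) hx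
      obtain ⟨hcS, hcc⟩ := mem_centralizerIn.mp hc
      refine mem_centralizerIn.mpr ⟨cj_mem_S hg hcS, fun y hy => ?_⟩
      have e := hcc (cj g⁻¹ y) (cj_mem_of_normalizer (hSQ (S.inv_mem hg)) hy)
      have := congrArg (cj g) e
      simp only [cj_apply] at this ⊢
      simpa [mul_assoc] using this
    have hloc := onNormalizer_top hW hS hF hB hbelow hXS hSX fun hN => hQX.not_ge (le_core hN)
    have hSXe : normalizerIn S X = S := inf_eq_left.mpr hSX
  -- modulo `Q`
    -- the quotient by `Q`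
    have hQlt : Q < S := lt_of_le_of_ne hQS hQS'
    haveI hQnS : (Q.subgroupOf S).Normal :=
      ⟨fun q hq g => show cj (g : Ω) (q : Ω) ∈ Q from cj_mem_of_normalizer (hSQ g.2) hq⟩
    set θ := QuotientGroup.mk' (Q.subgroupOf S)
    set S' : Subgroup (↥S ⧸ Q.subgroupOf S) := ⊤ with hS'def
    obtain ⟨E, hE⟩ := S5132.result p hS F Q (stronglyClosed_of_normal hQn)
    have hsurj := S5134.result p hS F hF Q (stronglyClosed_of_normal hQn) _ E hE
    have hEsat := FusionMorph88.saturated_of_surjective hS hF hsurj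
    have hS'p : IsPGroup p S' := (hS.to_quotient _).of_equiv Subgroup.topEquiv.symm
    have hsmall : Nat.card S' < Nat.card S := by
      rw [hS'def, Subgroup.card_top,
        Subgroup.card_eq_card_quotient_mul_card_subgroup (Q.subgroupOf S)]
      refine lt_mul_of_one_lt_right Nat.card_pos ?_
      rw [Nat.card_congr (Subgroup.subgroupOfEquivOfLe hQS).toEquiv]
      haveI := finite_of_le hQS
      exact (Subgroup.one_lt_card_iff_ne_bot Q).mpr hcore
    have hker : (θ.ker).map S.subtype = F.core := (FusionMorph88.factor_stronglyClosed hE).symm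
    have hS'ne : S' ≠ ⊥ := by
      intro e
      refine hQlt.not_ge fun s hs => ?_
      have h1 : θ ⟨s, hs⟩ ∈ S' := Subgroup.mem_top _
      rw [e, Subgroup.mem_bot] at h1
      exact (QuotientGroup.eq_one_iff (N := Q.subgroupOf S) _).mp h1
    have hlift := exists_lift hW hΦ hS hF hB hbelow hsurj hS'p hS'ne hker
    have hmod : f z * z⁻¹ ∈ Q := by
      obtain ⟨f', hf', he⟩ := FusionMorph88.morphism_mor hsurj.1 hf
      have hctl := IH E hS'p hEsat (Or.inl hsmall) (FusionMorph88.app θ z) ?_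
      · have h1 := (hctl _ f' hf' _ (FusionMorph88.app_mem_imageAlong hzP hf.le)).mp rfl
        rw [he z hzP] at h1
        rw [hQdef, ← hker]
        exact FusionMorph88.mem_kerAlong.mpr ⟨S.mul_mem (hf.apply_mem hzP) (S.inv_mem hzS), by
          rw [FusionMorph88.app_mul (hf.apply_mem hzP) (S.inv_mem hzS), FusionMorph88.app_inv hzS, h1,
            mul_inv_cancel]⟩
      intro P' h' hh' hP' hv' hx' y hy
      obtain ⟨f₀, hf₀, hΦ₀, he⟩ := hlift P' h' hh' hP' hv' hx'
      obtain ⟨⟨a, ha⟩, rfl⟩ := QuotientGroup.mk'_surjective (Q.subgroupOf S) y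
      have e2 : FusionMorph88.app θ a = θ ⟨a, ha⟩ := FusionMorph88.app_apply θ ha
      have hap : a ∈ preimageAlong θ P' := FusionMorph88.mem_preimageAlong.mpr ⟨ha, e2.symm ▸ hy⟩
      rw [← e2, he a hap]
      have hkerQ : ∀ q ∈ Q, q ∈ S ∧ FusionMorph88.app θ q = 1 := fun q hq =>
        FusionMorph88.mem_kerAlong.mp (by rw [hker]; exact hq)
      constructor
      · intro hay
        have hzp : z ∈ preimageAlong θ P' :=
          FusionMorph88.mem_preimageAlong.mpr ⟨hzS, hay ▸ e2.symm ▸ hy⟩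
        rw [← he a hap, hay, he z hzp, (hΦ₀ z hzp).mp rfl]
      · intro hfa
        have hfaS := hf₀.apply_mem hap
        have hq : (f₀ a)⁻¹ * z ∈ Q := by
          rw [hQdef, ← hker]
          exact FusionMorph88.mem_kerAlong.mpr ⟨S.mul_mem (S.inv_mem hfaS) hzS, by
            rw [FusionMorph88.app_mul (S.inv_mem hfaS) hzS, FusionMorph88.app_inv hfaS, hfa,
              inv_mul_cancel]⟩
        have hQpre : Q ≤ preimageAlong θ P' := fun q hq =>
          FusionMorph88.mem_preimageAlong.mpr ⟨(hkerQ q hq).1, (hkerQ q hq).2 ▸ P'.one_mem⟩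
        have hQim : im Q f₀ = Q := (hf₀.restrict_to hQpre).im_self fun q hq =>
          normal_invariant hQn hf₀ (hQpre hq) hq
        rw [← hQim, (hf₀.restrict_to hQpre).mem_im] at hq
        obtain ⟨q, hq, hqe⟩ := hq
        have e3 : f₀ (a * q) = z := by rw [hf₀.map_mul hap (hQpre hq), hqe, mul_inv_cancel_left]
        have e4 := congrArg (FusionMorph88.app θ) ((hΦ₀ (a * q) (mul_mem hap (hQpre hq))).mpr e3)
        rwa [FusionMorph88.app_mul ha (hQS hq), (hkerQ q hq).2, mul_one] at e4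
    -- extend to `Q C_S(Q)`
    obtain ⟨f₁, hf₁, hag, him⟩ := (isNormal_iff.mp hQn).2 P f hf
    set P₀ := Q ⊔ Subgroup.zpowers z with hP₀
    have hzz : Subgroup.zpowers z ≤ P := Subgroup.zpowers_le.mpr hzP
    have hP₀S : P₀ ≤ S := sup_le hQS (Subgroup.zpowers_le.mpr hzS)
    have hle : P₀ ≤ P ⊔ Q := sup_le le_sup_right (hzz.trans le_sup_left)
    have hzP₀ : z ∈ P₀ := Subgroup.mem_sup_right (Subgroup.mem_zpowers z)
    have hf₀ := hf₁.restrict_to hle
    have him₀ : im P₀ f₁ = P₀ := hf₀.im_self fun y hy => mor_sup_induction hf₀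
      (fun a ha => Subgroup.mem_sup_left (him ▸ apply_mem_im ha))
      (fun b hb => apply_zpow_mem hf₀ hzP₀ (by
        rw [hag z hzP]
        have := mul_mem (Subgroup.mem_sup_left hmod : f z * z⁻¹ ∈ P₀) hzP₀
        rwa [inv_mul_cancel_right] at this) hb) hy
    have hP₀n : ∀ g ∈ S, ∀ y ∈ P₀, cj g y ∈ P₀ := fun g hg y hy =>
      mor_sup_induction (mor_cj (F := F) hP₀S hg)
        (fun a ha => Subgroup.mem_sup_left (cj_mem_of_normalizer (hSQ hg) ha))
        (fun b hb => apply_zpow_mem (mor_cj (F := F) hP₀S hg) hzP₀ (by rwa [hzc g hg]) hb) hy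
    obtain ⟨f₂, hf₂, hag₂, hC₂⟩ := exists_extension_centralizer
      (receptive_of_fullyNormalized hS hF (FusionWeakAlperin.fullyNormalized_of_normal hP₀S hP₀n))
      hf₀ him₀
    have hCle : centralizerIn S Q ≤ centralizerIn S P₀ := by
      intro c hc
      obtain ⟨hcS, hcc⟩ := mem_centralizerIn.mp hc
      refine mem_centralizerIn.mpr ⟨hcS, fun y hy => ?_⟩
      have : P₀ ≤ Subgroup.centralizer {c} := by
        refine sup_le (fun q hq => Subgroup.mem_centralizer_iff.mpr fun d hd => ?_)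
          (Subgroup.zpowers_le.mpr (Subgroup.mem_centralizer_iff.mpr fun d hd => ?_))
        · rw [Set.mem_singleton_iff] at hd
          have := hcc q hq
          rw [cj_apply, mul_inv_eq_iff_eq_mul] at this
          rw [hd, this]
        · rw [Set.mem_singleton_iff] at hd
          rw [hd, hzcomm c hcS]
      rw [cj_apply, Subgroup.mem_centralizer_iff.mp (this hy) c rfl, mul_inv_cancel_right]
    have hXle : X ≤ P₀ ⊔ centralizerIn S P₀ := sup_le_sup le_sup_left hCle
    have hf₂X := hf₂.restrict_to hXle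
    have hX2 : im X f₂ = X := hf₂X.im_self fun y hy => mor_sup_induction hf₂X
      (fun a ha => Subgroup.mem_sup_left (by
        rw [hag₂ a (Subgroup.mem_sup_left ha)]; exact him ▸ apply_mem_im ha))
      (fun b hb => Subgroup.mem_sup_right (mem_centralizerIn.mpr
        ⟨(mem_centralizerIn.mp (hC₂ b (hCle hb))).1, fun y hy =>
          (mem_centralizerIn.mp (hC₂ b (hCle hb))).2 y (Subgroup.mem_sup_left hy)⟩)) hy
    have hzX : z ∈ X := Subgroup.mem_sup_right hzC
    have := (hloc X f₂ hf₂X (hSXe.symm ▸ hXS) (fun y hy => hSXe.symm ▸ hf₂X.apply_mem hy)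
      ⟨f₂, by rwa [sup_idem], fun _ _ => rfl, hX2⟩ z hzX).mp rfl
    rwa [hag₂ z hzP₀, hag z hzP] at this

/-- Let p be an odd prime and W a positive characteristic p-functor: W assigns to every finite p-group Q (in a fixed universe) a subgroup W(Q), nontrivial when Q is, carried to W(R) by every isomorphism Q ≅ R; assume also Z(Q) ≤ W(Q) for every finite p-group Q. Suppose W satisfies the local condition: for every finite group G with Sylow p-subgroup P, O_p(G) ∩ Z(G) = O_p(G) ∩ Z(N_G(W(P))). Then W controls weak closure of elements in every saturated fusion system F over a finite p-group S: the centre of the normalizer fusion system of W(S) in F equals the centre of F. (For p = 2 no functor satisfies the local condition, so p is taken odd.) -/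
theorem result {p : ℕ} [Fact p.Prime] (hp : p ≠ 2) (W : ∀ (Q : Type u) [Group Q], Subgroup Q) (hW1 : ∀ (Q : Type u) [Group Q] [Finite Q], IsPGroup p Q → Nontrivial Q → W Q ≠ ⊥) (hW2 : ∀ (Q R : Type u) [Group Q] [Group R] [Finite Q], IsPGroup p Q → ∀ φ : Q ≃* R, (W Q).map φ.toMonoidHom = W R) (hWZ : ∀ (Q : Type u) [Group Q] [Finite Q], IsPGroup p Q → Subgroup.center Q ≤ W Q) (hC : ∀ (G : Type u) [Group G] [Finite G] (P : Sylow p G), Cfsg.pCore p G ⊓ Subgroup.center G = Cfsg.pCore p G ⊓ (Subgroup.center ↥(Subgroup.normalizer (((W ↥(P : Subgroup G)).map (P : Subgroup G).subtype : Subgroup G) : Set G))).map (Subgroup.normalizer (((W ↥(P : Subgroup G)).map (P : Subgroup G).subtype : Subgroup G) : Set G)).subtype) {Ω : Type u} [Group Ω] {S : Subgroup Ω} [Finite S] (hS : IsPGroup p S) (F : Cfsg.FusionSystem S) (hF : F.IsSaturated p) (N : Cfsg.FusionSystem (Cfsg.FusionSystem.normalizerIn S ((W ↥S).map S.subtype))) (hN : F.IsNormalizerSystem ((W ↥S).map S.subtype) N) :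 N.center = F.center := by
  obtain hW : Fn p W := ⟨hW1, hW2⟩
  haveI := finite_normalizerIn (S := S) ((W ↥S).map S.subtype)
  have hWS : Ws W S ≤ S := Ws_le S
  refine le_antisymm ?_ ?_
  · -- the centre of `N` is fixed
    obtain ⟨hZS, hext⟩ := isCentral_iff.mp (center_isCentral (F := N))
    refine le_center (isCentral_of_fixed hS hF (hZS.trans inf_le_left) fun z hz y hy => ?_)
    obtain ⟨φ, hφ, rfl⟩ := hy
    have hfix : ∀ P f, Mor N P f → z ∈ P → f z = z := fun P f hf hzP => by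
      obtain ⟨f', -, hag, hid⟩ := hext P f hf
      rw [← hag z hzP, hid z hz]
    have hB : OnNormalizer F (Ws W S) (Keep z) := fun P f hf hP hv hx =>
      keep_of_fix hfix ((mor_normalizerSystem_iff hN).mpr ⟨hf, hP, hv, hx⟩)
    have := (induction_less (M := fun {Ω} _ {S} _ E => Fx W E)
      (fun F₀ h₀ h₁ IH => step hW hWZ hC F₀ h₀ h₁ IH) F hS hF z hB _ _ (mor_toFun hφ) z
      (Subgroup.mem_zpowers z)).mp rfl
    rw [toFun_apply φ (Subgroup.mem_zpowers z)] at this
    exact this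
  · obtain ⟨hZS, hext⟩ := isCentral_iff.mp (center_isCentral (F := F))
    have hn : normalizerIn S ((W ↥S).map S.subtype) = S := inf_eq_left.mpr fun g hg =>
      mem_normalizer_of_cj_le hWS fun y hy => cj_mem_Ws hW hS (Subgroup.le_normalizer hg) hy
    refine le_center (isCentral_iff.mpr ⟨hZS.trans hn.ge, fun P f hf => ?_⟩)
    obtain ⟨-, hP, hv, f', hf', hag, him⟩ := (mor_normalizerSystem_iff hN).mp hf
    obtain ⟨f'', hf'', hag', hid⟩ := hext _ f' hf'
    have hle : P ⊔ F.center ≤ P ⊔ (W ↥S).map S.subtype ⊔ F.center := sup_le_sup_right le_sup_left _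
    have hPS : P ⊔ F.center ≤ S := sup_le (hP.trans inf_le_left) hZS
    refine ⟨f'', (mor_normalizerSystem_iff hN).mpr ⟨hf''.restrict_to hle, hPS.trans hn.ge,
      fun x hx => hn.ge (hf''.apply_mem (hle hx)), f'', ?_, fun _ _ => rfl, ?_⟩,
      fun x hx => by rw [hag' x (Subgroup.mem_sup_left hx), hag x hx], hid⟩
    · rwa [sup_right_comm]
    · rw [im_congr fun x hx => hag' x (Subgroup.mem_sup_right hx), him]

end Cfsg.Agent.S5196
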