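import Cfsg.Statements.S5200
import Cfsg.Agent.Lib.FusionCentralizerOdd

set_option autoImplicit false
open Cfsg

namespace Cfsg.Agent.S5200

/-- Let F be a saturated fusion system over a finite p-group S and E a normal subsystem of F over T whose centralizer in S lies in T: every subgroup Y of C_S(T) such that E is contained in the centralizer fusion system of Y in F satisfies Y ≤ T. Then T·C_S(T)/T is abelian (the commutator subgroup of T·C_S(T) lies in T), and if p is odd then C_S(T) ≤ T. -/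
theorem result {Ω : Type*} [Group Ω] {S : Subgroup Ω} [Finite S] (p : ℕ) [Fact p.Prime] (hS : IsPGroup p S) (F : Cfsg.FusionSystem S) (hF : F.IsSaturated p) {T : Subgroup Ω} (E : Cfsg.FusionSystem T) (hE : E.IsNormalIn F p) (hCE : ∀ Y : Subgroup Ω, Y ≤ Cfsg.FusionSystem.centralizerIn S T → (∀ C : Cfsg.FusionSystem (Cfsg.FusionSystem.centralizerIn S Y), F.IsCentralizerSystem Y C → E.IsSubsystemOf C) → Y ≤ T) : ⁅T ⊔ Cfsg.FusionSystem.centralizerIn S T, T ⊔ Cfsg.FusionSystem.centralizerIn S T⁆ ≤ T ∧ (p ≠ 2 → Cfsg.FusionSystem.centralizerIn S T ≤ T) := by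
  open Cfsg.FusionSystem Cfsg.Agent.FusionSysBasic Cfsg.Agent.FusionSysNormal in
  open Cfsg.Agent.FusionCentralizerSub in
  have hI := hE.1.2.2
  have hT : F.StronglyClosed T := hI.2.1
  have hX : ∀ X : Subgroup Ω, Valid F E X → X ≤ T := fun X hv =>
    hCE X hv.1 fun C hC P φ hφ => by
      rw [hC P]
      exact ((valid_iff hI.1).1 hv).2 P hφ
  have hcs : cs F E p ≤ T := hX _ (valid_cs hS hF hE)
  refine ⟨?_, fun hp x hx => ?_⟩
  · have hn : centralizerIn S T ≤ Subgroup.normalizer (T : Set Ω) := fun g hg =>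
      (centralizerIn_le_normalizerIn hg).2
    have hD := isCentralizerSystem_centralizerSystem (F := F) T hT.1
    haveI : Finite (centralizerIn S T) := finite_of_le (inf_le_left : centralizerIn S T ≤ S)
    have hCC : ⁅centralizerIn S T, centralizerIn S T⁆ ≤ T :=
      (FusionFocal.commutator_le_focal (F := centralizerSystem F T hT.1)).trans
        ((focal_le_cs hS hF hD).trans hcs)
    rw [Subgroup.commutator_le]
    intro a ha b hb
    have ha' : a ∈ ((T ⊔ centralizerIn S T : Subgroup Ω) : Set Ω) := ha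
    have hb' : b ∈ ((T ⊔ centralizerIn S T : Subgroup Ω) : Set Ω) := hb
    rw [Subgroup.coe_mul_of_right_le_normalizer_left _ _ hn] at ha' hb'
    obtain ⟨t, ht, c, hc, rfl⟩ := ha'
    obtain ⟨u, hu, e, he, rfl⟩ := hb'
    have comm : ∀ {v d : Ω}, v ∈ T → d ∈ centralizerIn S T → Commute d v := fun {v d} hv hd => by
      have h := (mem_centralizerIn.1 hd).2 v hv
      rw [cj_apply, mul_inv_eq_iff_eq_mul] at h
      exact h
    have hce : c * e * c⁻¹ * e⁻¹ ∈ T := by
      have := hCC (Subgroup.commutator_mem_commutator hc he)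
      rwa [commutatorElement_def] at this
    have key : t * c * (u * e) * (t * c)⁻¹ * (u * e)⁻¹ =
        t * u * t⁻¹ * u⁻¹ * (c * e * c⁻¹ * e⁻¹) := by
      have h1 : Commute (e * c⁻¹) t⁻¹ :=
        comm (inv_mem ht) (mul_mem he (inv_mem hc))
      have h2 : Commute (c * e * c⁻¹ * e⁻¹) u⁻¹ :=
        comm (inv_mem hu) (mul_mem (mul_mem (mul_mem hc he) (inv_mem hc)) (inv_mem he))
      calc t * c * (u * e) * (t * c)⁻¹ * (u * e)⁻¹
          = t * (c * u) * ((e * c⁻¹) * t⁻¹) * e⁻¹ * u⁻¹ := by simp [mul_assoc]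
        _ = t * (u * c) * (t⁻¹ * (e * c⁻¹)) * e⁻¹ * u⁻¹ := by rw [(comm hu hc).eq, h1.eq]
        _ = t * u * (c * t⁻¹) * (e * c⁻¹ * e⁻¹) * u⁻¹ := by simp [mul_assoc]
        _ = t * u * (t⁻¹ * c) * (e * c⁻¹ * e⁻¹) * u⁻¹ := by rw [(comm (inv_mem ht) hc).eq]
        _ = t * u * t⁻¹ * ((c * e * c⁻¹ * e⁻¹) * u⁻¹) := by simp [mul_assoc]
        _ = _ := by rw [h2.eq]; simp [mul_assoc]
    show t * c * (u * e) * (t * c)⁻¹ * (u * e)⁻¹ ∈ T
    rw [key]
    exact T.mul_mem (T.mul_mem (T.mul_mem (T.mul_mem ht hu) (T.inv_mem ht)) (T.inv_mem hu)) hce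
  · obtain ⟨d, hd, hv⟩ := FusionCentralizerOdd.exists_valid hS hF hp hE hx
    have := T.mul_mem (hX _ hv (Subgroup.mem_zpowers _)) (T.inv_mem hd)
    simpa using this

end Cfsg.Agent.S5200
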