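import Cfsg.Statements.S5204
import Cfsg.Agent.Lib.FusionCriteria

set_option autoImplicit false
open Cfsg

namespace Cfsg.Agent.S5204

/-- The Glauberman–Thompson normal p-complement criterion for fusion systems, p odd. Let F be a saturated fusion system over a finite p-group S with p odd, and let Z(J(S)) be the centre of the subgroup generated by the abelian subgroups of S of largest order. Then F is the inner fusion system of S if and only if the normalizer fusion system of Z(J(S)) in F is the inner fusion system of N_S(Z(J(S))) = S. -/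
theorem result {Ω : Type*} [Group Ω] {S : Subgroup Ω} [Finite S] (p : ℕ) [Fact p.Prime] (hS : IsPGroup p S) (F : Cfsg.FusionSystem S) (hF : F.IsSaturated p) (hp : p ≠ 2) : (∀ P : Subgroup Ω, F.Hom P = (Cfsg.innerFusionSystem S).Hom P) ↔ ∀ N : Cfsg.FusionSystem (Cfsg.FusionSystem.normalizerIn S (Cfsg.centerThompsonAOf S)), F.IsNormalizerSystem (Cfsg.centerThompsonAOf S) N → ∀ P : Subgroup Ω, N.Hom P = (Cfsg.innerFusionSystem (Cfsg.FusionSystem.normalizerIn S (Cfsg.centerThompsonAOf S))).Hom P := by
  open Cfsg.FusionSystem Cfsg.Agent.FusionSysBasic Cfsg.Agent.FusionSysNormal Cfsg.Agent.FusionSysSaturated in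
  have hclosed : F.StronglyClosed S := FusionSolvable88.stronglyClosed_self F
  have hZS : Cfsg.centerThompsonAOf S ≤ S := by
    rw [GlaubermanZJ.centerThompsonAOf_eq]
    exact (GlaubermanZJ.thomY_le S).trans hclosed.1
  have hZn : S ≤ Subgroup.normalizer ((Cfsg.centerThompsonAOf S : Subgroup Ω) : Set Ω) := by
    rw [GlaubermanZJ.centerThompsonAOf_eq]
    exact FusionCriteria.le_normalizer_closed hclosed
  have hfn : F.IsFullyNormalized (Cfsg.centerThompsonAOf S) :=
    FusionWeakAlperin.fullyNormalized_of_normal hZS fun g hg x hx => cj_mem_of_normalizer (hZn hg) hx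
  haveI := finite_normalizerIn (S := S) (Cfsg.centerThompsonAOf S)
  have hT : IsPGroup p ↥(normalizerIn S (Cfsg.centerThompsonAOf S)) := hS.to_le inf_le_left
  constructor
  · intro h N hN
    exact FusionCriteria.hom_eq_inner_of_nil hT
      (FusionSysNormalizer.normalizerSystem_saturated hS hF hfn hN)
      (FusionNilReduction.nil_normalizerSystem hZS hN
        (FusionNilReduction.nilAt_of_nil (FusionCriteria.nil_of_inner hS h) _))
  · intro h
    have hN := isNormalizerSystem_normalizerSystem (F := F) _ hZS
    exact FusionCriteria.hom_eq_inner_of_nil hS hF (FusionCriteria.nil_of_zj hp hS hF hclosed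
      (FusionNilReduction.nilAt_of_nil_normalizerSystem hN
        (FusionCriteria.nil_of_inner hT (h _ hN))))

end Cfsg.Agent.S5204
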