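import Cfsg.Statements.S5205
import Cfsg.Agent.Lib.FusionFunctorNormal

set_option autoImplicit false
universe u
open Cfsg

namespace Cfsg.Agent.S5205

/-- Glauberman's ZJ-Theorem for fusion systems, in functor form. Let p be an odd prime and W a Glauberman functor: W assigns to every finite p-group Q (in a fixed universe) a subgroup W(Q), nontrivial when Q is, carried to W(R) by every isomorphism Q ≅ R, and such that W(P) is normal in L whenever P is a Sylow p-subgroup of a finite group L with C_L(O_p(L)) = Z(O_p(L)) in which Qd(p) (the natural semidirect product of an elementary abelian group of order p² by SL₂(p)) is not involved. Let F be a saturated fusion system over a finite p-group S that is Qd(p)-free: Qd(p) is not involved in any model of the normalizer system of a fully normalized F-centric subgroup. Then F equals the normalizer fusion system of W(S) in F. -/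
theorem result {p : ℕ} [Fact p.Prime] (hp : p ≠ 2) (W : ∀ (Q : Type u) [Group Q], Subgroup Q) (hW1 : ∀ (Q : Type u) [Group Q] [Finite Q], IsPGroup p Q → Nontrivial Q → W Q ≠ ⊥) (hW2 : ∀ (Q R : Type u) [Group Q] [Group R] [Finite Q], IsPGroup p Q → ∀ φ : Q ≃* R, (W Q).map φ.toMonoidHom = W R) (hW3 : ∀ (L : Type u) [Group L] [Finite L] (P : Sylow p L), Subgroup.centralizer ((Cfsg.pCore p L : Subgroup L) : Set L) = Cfsg.pCore p L ⊓ Subgroup.centralizer ((Cfsg.pCore p L : Subgroup L) : Set L) → ¬ Cfsg.Involves ↥(Cfsg.qd p) L → (((W ↥(P : Subgroup L)).map (P : Subgroup L).subtype : Subgroup L)).Normal) {Ω : Type u} [Group Ω] {S : Subgroup Ω} [Finite S] (hS : IsPGroup p S) (F : Cfsg.FusionSystem S) (hF : F.IsSaturated p) (hfree : F.IsSectionFree p ↥(Cfsg.qd p)) (N : Cfsg.FusionSystem (Cfsg.FusionSystem.normalizerIn S ((W ↥S).map S.subtype))) (hN : F.IsNormalizerSystem ((W ↥S).map S.subtype) N) : ∀ P : Subgroup Ω, N.Hom P = F.Hom P := by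
  open Cfsg.Agent.FusionSysNormal Cfsg.Agent.FusionFunctorLocal Cfsg.Agent.FusionFunctorNormal Cfsg.Agent.FusionSysBasic in
  have hW : Fn p W := ⟨hW1, hW2⟩
  have h := induction_less (M := fun {Ω} _ {S} _ E => Ctrl W p E)
    (fun F₀ h₀ h₁ IH => step hW (fun L _ _ P hc hq => hW3 L P (inf_eq_right.mpr hc).symm hq) F₀ h₀ h₁ IH)
    F hS hF (FusionFree.autFree_of_sectionFree hS hF ⟨MulEquiv.refl _⟩ hfree)
  have hle : ∀ P f, FusionSysBasic.Mor F P f → FusionSysBasic.Mor N P f := fun P f hf => by
    have hn : S ≤ Cfsg.FusionSystem.normalizerIn S (Ws W S) := fun x hx => ⟨hx,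
      FusionSysBasic.mem_normalizer_of_cj_le (Ws_le S) fun y hy =>
        cj_mem_Ws hW hS (Subgroup.le_normalizer hx) hy⟩
    exact (mor_normalizerSystem_iff hN).mpr
      ⟨hf, hf.le.trans hn, fun x hx => hn (hf.apply_mem hx), h P f hf⟩
  intro P
  refine Set.Subset.antisymm (fun φ hφ => ?_) (fun φ hφ => ?_)
  · rw [hN P] at hφ; exact hφ.1
  · obtain ⟨ψ, hψ, he⟩ := hle P _ (FusionSysBasic.mor_toFun hφ)
    rwa [show φ = ψ from MonoidHom.ext fun x => ((he x).trans (FusionSysBasic.toFun_coe φ x)).symm]

end Cfsg.Agent.S5205
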