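import Cfsg.Statements.S5206
import Cfsg.Agent.Lib.FusionModelTools
import Cfsg.Agent.Lib.FusionQd
import Cfsg.Agent.Lib.FusionGroupModel

set_option autoImplicit false
universe u
open Cfsg

namespace Cfsg.Agent.S5206

open Cfsg.FusionSystem Cfsg.Agent.FusionSysBasic Cfsg.Agent.FusionSysSaturated
  Cfsg.Agent.FusionSysGroup Cfsg.Agent.FusionSysNormal

/-- A `Qd(p)` section of a finite group occurs in the normalizer of a centric `p`-subgroup. -/
theorem exists_centric_section {G : Type u} [Group G] [Finite G] {p : ℕ} [Fact p.Prime]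
    (P : Sylow p G) (h : Cfsg.Involves ↥(Cfsg.qd p) G) :
    ∃ Q : Subgroup G, (groupFusionSystem (P : Subgroup G)).IsFullyNormalized Q ∧
      (groupFusionSystem (P : Subgroup G)).IsCentric Q ∧
      Cfsg.Involves ↥(Cfsg.qd p) ↥(Subgroup.normalizer (Q : Set G)) := by
  obtain ⟨R, M, π, f, hR, -, hπ, hf, -, hact⟩ := FusionQd.exists_qd_data h
  let C : Subgroup G := Subgroup.centralizer (R : Set G)
  obtain ⟨S₀⟩ : Nonempty (Sylow p C) := inferInstance
  let W : Subgroup G := (S₀ : Subgroup C).map C.subtype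
  have hWC : W ≤ C := Subgroup.map_subtype_le _
  have hWp : IsPGroup p W := S₀.2.map _
  have hmax : ∀ T : Subgroup G, IsPGroup p T → W ≤ T → T ≤ C → T ≤ W := by
    intro T hT hWT hTC t ht
    have e := S₀.3 (hT.of_equiv (Subgroup.subgroupOfEquivOfLe hTC).symm)
      (fun s hs => hWT ⟨s, hs, rfl⟩)
    exact ⟨⟨t, hTC ht⟩, e ▸ (show (⟨t, hTC ht⟩ : C) ∈ T.subgroupOf C from ht), rfl⟩
  let Q₀ : Subgroup G := R ⊔ W
  have hRW : R ≤ Subgroup.normalizer (W : Set G) := fun r hr =>
    Subgroup.centralizer_le_normalizer _ (Subgroup.mem_centralizer_iff.mpr fun w hw =>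
      (Subgroup.mem_centralizer_iff.mp (hWC hw) r hr).symm)
  have hQ₀ : IsPGroup p Q₀ := hR.to_sup_of_normal_right' hWp hRW
  obtain ⟨g₁, hg₁⟩ := exists_cj_le P hQ₀
  obtain ⟨g₂, hg₂, hsyl⟩ := exists_conj_sylIn_normalizer P (im_le_iff.mpr hg₁)
  rw [im_im_cj] at hg₂ hsyl
  set g := g₂ * g₁
  have hfn := (fullyNormalized_group_iff P hg₂).mpr hsyl
  refine ⟨_, hfn, ⟨hg₂, fun Q₂ hQ₂ => ?_⟩, ?_⟩
  · obtain ⟨-, -, k, rfl⟩ := isConj_group_iff.mp hQ₂
    rw [im_im_cj]
    intro c hc
    obtain ⟨hcP, hcc⟩ := mem_centralizerIn.mp hc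
    refine mem_im_cj.mpr (Subgroup.mem_sup_right ?_)
    set c' := cj (k * g)⁻¹ c with hc'
    have hcW : ∀ x ∈ Q₀, c' * x = x * c' := by
      intro x hx
      have e := hcc _ (apply_mem_im (f := cj (k * g)) hx)
      rw [cj_apply, mul_inv_eq_iff_eq_mul] at e
      have := congrArg (cj (k * g)⁻¹) e
      simp only [hc', cj_apply] at this e ⊢
      calc _ = (k * g)⁻¹ * (c * ((k * g) * x * (k * g)⁻¹)) * (k * g) := by group
        _ = (k * g)⁻¹ * (((k * g) * x * (k * g)⁻¹) * c) * (k * g) := by rw [e]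
        _ = _ := by group
    have hz : IsPGroup p (Subgroup.zpowers c') := by
      have h1 : IsPGroup p ↥(im (P : Subgroup G) (cj (k * g)⁻¹)) := by
        rw [im_cj]; exact P.2.map _
      exact h1.to_le (Subgroup.zpowers_le.mpr (apply_mem_im hcP))
    have hzn : Subgroup.zpowers c' ≤ Subgroup.normalizer (W : Set G) :=
      Subgroup.zpowers_le.mpr (Subgroup.centralizer_le_normalizer _
        (Subgroup.mem_centralizer_iff.mpr fun w hw => (hcW w (Subgroup.mem_sup_right hw)).symm))
    exact hmax _ (hz.to_sup_of_normal_right' hWp hzn) le_sup_right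
      (sup_le (Subgroup.zpowers_le.mpr (Subgroup.mem_centralizer_iff.mpr fun r hr =>
        (hcW r (Subgroup.mem_sup_left hr)).symm)) hWC)
      (Subgroup.mem_sup_left (Subgroup.mem_zpowers c'))
  let H : Subgroup G := FusionQd.eqvGroup R π ⊓ Subgroup.normalizer (W : Set G)
  have hHN : H ≤ Subgroup.normalizer (Q₀ : Set G) := by
    rintro x ⟨⟨A, hA⟩, hxW⟩
    rw [mem_normalizer_iff_im_cj, im_cj, Subgroup.map_sup, ← im_cj, ← im_cj,
      mem_normalizer_iff_im_cj.mp hxW, mem_normalizer_iff_im_cj.mp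
        (mem_normalizer_of_cj_le (S := (⊤ : Subgroup G)) (P := R) le_top fun r hr =>
          (hA ⟨r, hr⟩).choose)]
  have hsurj : ∀ A, ∃ x ∈ H, FusionQd.Acts R π x A := by
    intro A
    obtain ⟨m, hm⟩ := hf (QdStructure56.lift A)
    have hmA : FusionQd.Acts R π (m : G) A := by
      have := hact m
      rwa [hm, QdStructure56.blk_lift] at this
    have hmR : (m : G) ∈ Subgroup.normalizer (R : Set G) :=
      mem_normalizer_of_cj_le (S := (⊤ : Subgroup G)) le_top fun r hr => (hmA ⟨r, hr⟩).choose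
    have hmC : ∀ w ∈ W, cj (m : G) w ∈ C := fun w hw => by
      refine Subgroup.mem_centralizer_iff.mpr fun r hr => ?_
      have e := Subgroup.mem_centralizer_iff.mp (hWC hw) _
        ((Subgroup.mem_normalizer_iff''.mp hmR r).mp hr)
      rw [cj_apply]
      calc r * ((m : G) * w * (m : G)⁻¹) = m * ((m : G)⁻¹ * r * m * w) * (m : G)⁻¹ := by group
        _ = m * (w * ((m : G)⁻¹ * r * m)) * (m : G)⁻¹ := by rw [e]
        _ = (m : G) * w * (m : G)⁻¹ * r := by group
    have hW'p : IsPGroup p ↥(im W (cj (m : G))) := by rw [im_cj]; exact hWp.map _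
    obtain ⟨T₁, hT₁⟩ := (hW'p.of_equiv
      (Subgroup.subgroupOfEquivOfLe (im_le_iff.mpr hmC)).symm).exists_le_sylow
    obtain ⟨c, hc⟩ := MulAction.exists_smul_eq C T₁ S₀
    refine ⟨c * m, ⟨⟨_, FusionQd.acts_mul (FusionQd.acts_centralizer π c.2) hmA⟩, ?_⟩, ?_⟩
    · refine mem_normalizer_of_cj_le (S := (⊤ : Subgroup G)) le_top fun w hw => ?_
      rw [← cj_cj]
      refine ⟨c * ⟨_, hmC w hw⟩ * c⁻¹, ?_, rfl⟩
      rw [← hc]
      exact ⟨_, hT₁ (apply_mem_im hw), rfl⟩
    · simpa using FusionQd.acts_mul (FusionQd.acts_centralizer π c.2) hmA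
  have hinv := FusionQd.involves_qd hR hπ (le_inf (FusionQd.le_eqvGroup R π) hRW)
    (fun x hx => hx.1) hsurj
  let φ : ↥(Subgroup.normalizer (Q₀ : Set G)) →* ↥(Subgroup.normalizer ((im Q₀ (cj g) : Subgroup G) : Set G)) :=
    ((MulAut.conj g).toMonoidHom.comp (Subgroup.normalizer (Q₀ : Set G)).subtype).codRestrict _
      fun x => by rw [normalizer_im_cj]; exact apply_mem_im x.2
  exact FusionQd.involves_of_injective (f := φ)
    (fun a b e => Subtype.ext ((MulAut.conj g).injective (congrArg Subtype.val e)))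
    (FusionQd.involves_mono hHN hinv)
/-- Let p be an odd prime, G a finite group and P a Sylow p-subgroup of G. Then the fusion system of G on P is Qd(p)-free (Qd(p), the natural semidirect product of an elementary abelian group of order p² by SL₂(p), is not involved in any model of the normalizer system of a fully normalized centric subgroup) if and only if Qd(p) is not involved in G. -/
theorem result {G : Type u} [Group G] [Finite G] {p : ℕ} [Fact p.Prime] (hp : p ≠ 2) (P : Sylow p G) : (Cfsg.groupFusionSystem (P : Subgroup G)).IsSectionFree p ↥(Cfsg.qd p) ↔ ¬ Cfsg.Involves ↥(Cfsg.qd p) G := by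
  constructor
  · intro hfree hinv
    obtain ⟨Q, hQn, hQc, hQi⟩ := exists_centric_section P hinv
    have hN := FusionSysNormal.isNormalizerSystem_normalizerSystem
      (F := groupFusionSystem (P : Subgroup G)) Q hQn.1
    obtain ⟨D, hD, ι, hDp, hM⟩ := FusionGroupModel.exists_model P hQn hQc hN
    exact hfree Q hQn hQc _ hN _ ι hM
      (FusionGroupModel.involves_quotient_pPrime D hDp FusionGroupModel.qd_pPrime_eq_bot hQi)
  · intro hG Q hQn hQc N hN L _ ι hM hinv
    obtain ⟨D, hD, ι₀, -, hM₀⟩ := FusionGroupModel.exists_model P hQn hQc hN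
    obtain ⟨e, -⟩ := FusionSysModel.model_unique (P.2.to_le inf_le_left)
      (FusionRealized87.constrained_of_model ι₀ hM₀) hM hM₀
    exact hG (FusionQd.involves_of_injective (f := (Subgroup.normalizer (Q : Set G)).subtype)
      (Subgroup.subtype_injective _) (FusionQd.involves_of_surjective
        (QuotientGroup.mk'_surjective D) (FusionQd.involves_congr e hinv)))

end Cfsg.Agent.S5206
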