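import Cfsg.Statements.S5213
import Cfsg.Agent.Lib.RankTwoSylowFusion4

set_option autoImplicit false
open Cfsg

namespace Cfsg.Agent.S5213

/-- Let S be a finite 2-group of 2-rank 2 (it has an elementary abelian subgroup of order 4 and none of order 8) and F a saturated fusion system over S with trivial centre. Then S is dihedral, semidihedral, wreathed, homocyclic abelian (a direct product of cyclic groups of one common order), or isomorphic to a Sylow 2-subgroup of the projective special unitary group PSU₃(4) (realised over the field with 16 elements). -/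
theorem result {Ω : Type*} [Group Ω] {S : Subgroup Ω} [Finite S] (hS : IsPGroup 2 S) (F : Cfsg.FusionSystem S) (hF : F.IsSaturated 2) (hr : Cfsg.PRankAtLeast 2 2 ↥S ∧ ¬ Cfsg.PRankAtLeast 2 3 ↥S) (hZ : F.center = ⊥) {K : Type*} [Field K] [Fintype K] (hK : Fintype.card K = 16) : (∃ m : ℕ, Nonempty (↥S ≃* DihedralGroup m)) ∨ Cfsg.IsQuasiDihedral ↥S ∨ Cfsg.IsWreathed ↥S ∨ (∃ n k : ℕ, Nonempty (↥S ≃* Multiplicative (Fin k → ZMod (2 ^ n)))) ∨ ∃ T : Sylow 2 (Cfsg.PSU 3 K 4), Nonempty (↥S ≃* ↥(T : Subgroup (Cfsg.PSU 3 K 4))) := by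
  haveI : Fact (Nat.Prime 2) := ⟨Nat.prime_two⟩
  obtain ⟨⟨B, hBc, hB2, hB4⟩, hn3⟩ := hr
  have hle : Cfsg.PRankLE 2 2 ↥S := by
    intro A hAc hA2
    by_contra hA
    obtain ⟨k, hk⟩ := IsPGroup.iff_card.mp (hS.to_subgroup A)
    rw [hk, not_le, Nat.pow_lt_pow_iff_right (by norm_num)] at hA
    exact hn3 ⟨A, hAc, hA2, by rw [hk]; exact Nat.pow_le_pow_right (by norm_num) hA⟩
  obtain ⟨P⟩ : Nonempty (Sylow 2 (Cfsg.PSU 3 K 4)) := inferInstance
  have hiso : ∀ z : Ω, z ∈ S → z * z = 1 → z ≠ 1 → (∀ g ∈ S, g * z = z * g) →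
      ∃ f, Cfsg.Agent.FusionSysBasic.Mor F (Subgroup.zpowers z) f ∧ f z ≠ z := by
    intro z hzS hzz hz1 _
    by_contra hcon
    push Not at hcon
    have hQ : F.IsCentral (Subgroup.zpowers z) := by
      refine Cfsg.Agent.FusionSysNormal.isCentral_of_fixed hS hF (Subgroup.zpowers_le.mpr hzS) ?_
      intro x hx y hy
      obtain ⟨f, hf, rfl⟩ := Cfsg.Agent.FusionSysNormal.isConjElt_iff.mp hy
      obtain ⟨k, rfl⟩ := Subgroup.mem_zpowers_iff.mp hx
      rcases Int.even_or_odd k with ⟨m, rfl⟩ | ⟨m, rfl⟩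
      · have h1 : z ^ (m + m) = 1 := by rw [← two_mul, zpow_mul, zpow_two, hzz, one_zpow]
        rw [h1]
        exact hf.map_one
      · have h1 : z ^ (2 * m + 1) = z := by
          rw [zpow_add_one, zpow_mul, zpow_two, hzz, one_zpow, one_mul]
        rw [h1] at hf ⊢
        exact hcon f hf
    have := Cfsg.Agent.FusionSysNormal.le_center hQ (Subgroup.mem_zpowers z)
    rw [hZ] at this
    exact hz1 (Subgroup.mem_bot.mp this)
  rcases Cfsg.Agent.RankTwoSylowFusion4.sylow_list hS hF hle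
      ⟨B, hBc, hB2, by simpa using hB4⟩ hiso hK P with ⟨m, -, h⟩ | h | h | ⟨n, -, ⟨e⟩⟩ | h
  · exact Or.inl ⟨m, h⟩
  · exact Or.inr (Or.inl h)
  · exact Or.inr (Or.inr (Or.inl h))
  · refine Or.inr (Or.inr (Or.inr (Or.inl ⟨n, 2, ⟨e.trans ?_⟩⟩)))
    exact AddEquiv.toMultiplicative
      { toEquiv := (piFinTwoEquiv fun _ => ZMod (2 ^ n)).symm
        map_add' := fun a b => by ext i; fin_cases i <;> simp [piFinTwoEquiv] }
  · exact Or.inr (Or.inr (Or.inr (Or.inr ⟨P, h⟩)))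

end Cfsg.Agent.S5213
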