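import Cfsg.Statements.S5214
import Cfsg.Agent.Lib.SuzukiHigmanClass
import Cfsg.Agent.Lib.FusionSysNormal

set_option autoImplicit false
open Cfsg

namespace Cfsg.Agent.S5214

open Cfsg.Agent.FusionSysBasic Cfsg.Agent.FusionSysNormal Cfsg.Agent.FusionSysAlperin

theorem key {Ω : Type*} [Group Ω] {S : Subgroup Ω} [Finite S] (hS : IsPGroup 2 S) (F : Cfsg.FusionSystem S)
    (hF : F.IsSaturated 2) (hinv : ∀ x y : S, x * x = 1 → x * y = y * x)
    (hcom : ∀ x y : S, (x * y * x⁻¹ * y⁻¹) * (x * y * x⁻¹ * y⁻¹) = 1) : F.IsNormal S := by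
  have : Fact (Nat.Prime 2) := ⟨Nat.prime_two⟩
  refine isNormal_of_le_centric_radical hS hF
    (stronglyClosed_iff.mpr ⟨le_rfl, fun P f _ hf x hx => hf.apply_mem hx⟩) fun R hR => ?_
  have hRS := hR.1.1
  have hinv' : ∀ x y : R, x * x = 1 → x * y = y * x := fun x y h => Subtype.ext (congrArg Subtype.val
    (hinv ⟨x, hRS x.2⟩ ⟨y, hRS y.2⟩
      (Subtype.ext (show (x : Ω) * x = 1 from congrArg Subtype.val h))) :)
  have hmul : ∀ a b : R, a * a = 1 → b * b = 1 → (a * b) * (a * b) = 1 := fun a b ha hb => by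
    calc a * b * (a * b) = a * (b * a) * b := by group
      _ = a * (a * b) * b := by rw [hinv' a b ha]
      _ = (a * a) * (b * b) := by group
      _ = 1 := by rw [ha, hb, one_mul]
  let M : Subgroup (MulAut R) :=
    { carrier := {α | α ∈ F.autGroup R ∧ (∀ x : R, (α x * x⁻¹) * (α x * x⁻¹) = 1) ∧
        ∀ x : R, x * x = 1 → α x = x}
      mul_mem' := by
        rintro α β ⟨ha, ha1, ha2⟩ ⟨hb, hb1, hb2⟩
        refine ⟨mul_mem ha hb, fun x => ?_, fun x hx => by rw [MulAut.mul_apply, hb2 x hx, ha2 x hx]⟩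
        rw [show (α * β) x * x⁻¹ = α (β x * x⁻¹) * (α x * x⁻¹) by
          rw [MulAut.mul_apply, map_mul, map_inv]; group, ha2 _ (hb1 x)]
        exact hmul _ _ (hb1 x) (ha1 x)
      one_mem' := ⟨one_mem _, fun x => by simp, fun x _ => rfl⟩
      inv_mem' := by
        rintro α ⟨ha, ha1, ha2⟩
        refine ⟨inv_mem ha, fun x => ?_, fun x hx => ?_⟩
        · have h := ha1 (α⁻¹ x)
          rw [← MulAut.mul_apply, mul_inv_cancel, MulAut.one_apply] at h
          rw [show α⁻¹ x * x⁻¹ = (x * (α⁻¹ x)⁻¹)⁻¹ by group, ← mul_inv_rev, h, inv_one]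
        · conv_lhs => rw [← ha2 x hx]
          rw [← MulAut.mul_apply, inv_mul_cancel, MulAut.one_apply] }
  have hMp : IsPGroup 2 M := fun m => ⟨1, Subtype.ext (MulEquiv.ext fun x => by
    obtain ⟨-, h1, h2⟩ := m.2
    rw [pow_one, pow_two, Subgroup.coe_mul, Subgroup.coe_one, MulAut.mul_apply, MulAut.one_apply]
    have e : (m : MulAut R) x = (m : MulAut R) x * x⁻¹ * x := by group
    conv_lhs => rw [e, map_mul, h2 _ (h1 x)]
    calc (m : MulAut R) x * x⁻¹ * (m : MulAut R) x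
        = ((m : MulAut R) x * x⁻¹) * ((m : MulAut R) x * x⁻¹) * x := by group
      _ = x := by rw [h1 x, one_mul])⟩
  have hMn : ∀ α ∈ F.autGroup R, ∀ m ∈ M, α * m * α⁻¹ ∈ M := by
    rintro α hα m ⟨hm, h1, h2⟩
    refine ⟨mul_mem (mul_mem hα hm) (inv_mem hα), fun x => ?_, fun x hx => ?_⟩
    · have e : (α * m * α⁻¹) x * x⁻¹ = α (m (α⁻¹ x) * (α⁻¹ x)⁻¹) := by
        rw [map_mul, map_inv, MulAut.mul_apply, MulAut.mul_apply]
        rw [← MulAut.mul_apply (e₁ := α) (e₂ := α⁻¹), mul_inv_cancel, MulAut.one_apply]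
      rw [e, ← map_mul, h1, map_one]
    · rw [MulAut.mul_apply, MulAut.mul_apply, h2 _ (by rw [← map_mul, hx, map_one]),
        ← MulAut.mul_apply, mul_inv_cancel, MulAut.one_apply]
  refine le_of_normal_pSubgroup hS hR.1 (radical_of_essential hS hR) le_rfl
    (hRS.trans Subgroup.le_normalizer) (M := M) (fun m hm => hm.1) hMp hMn fun g _ => ?_
  refine ⟨autInducedBy_le hRS (mem_autInducedBy.mpr ⟨g, g.2.1, g.2.2, fun x hx => afun_nHom g hx⟩),
    fun x => ?_, fun x hx => ?_⟩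
  · refine Subtype.ext ?_
    show ((g : Ω) * x * (g : Ω)⁻¹ * (x : Ω)⁻¹) * ((g : Ω) * x * (g : Ω)⁻¹ * (x : Ω)⁻¹) = 1
    exact congrArg Subtype.val (hcom ⟨g, g.2.1⟩ ⟨x, hRS x.2⟩)
  · refine Subtype.ext ?_
    show (g : Ω) * x * (g : Ω)⁻¹ = (x : Ω)
    have h := congrArg Subtype.val (hinv ⟨x, hRS x.2⟩ ⟨g, g.2.1⟩
      (Subtype.ext (show (x : Ω) * x = 1 from congrArg Subtype.val hx)))
    rw [← show (x : Ω) * g = g * x from h, mul_inv_cancel_right]

/-- Let S be a Suzuki 2-group (a finite nonabelian 2-group with more than one involution admitting a cyclic group of automorphisms permuting its involutions regularly). Then S is normal in every saturated fusion system over S (such a group is resistant). -/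
theorem result {Ω : Type*} [Group Ω] {S : Subgroup Ω} [Finite S] (hS : IsPGroup 2 S) (F : Cfsg.FusionSystem S) (hF : F.IsSaturated 2) (hsz : Cfsg.IsSuzukiTwoGroup ↥S) : F.IsNormal S := by
  obtain ⟨-, hp, hnc, htwo, K, hK, hreg⟩ := hsz
  have hs : SuzukiTwo.Setup S K := ⟨hp, hnc, htwo, hK, hreg⟩
  refine key hS F hF (fun x y hx => (SuzukiTwo.invol_comm hs hx y).symm) fun x y => ?_
  have h := SuzukiHigmanClass.commutator_mem_center hs x⁻¹ y⁻¹
  rw [inv_inv, inv_inv] at h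
  exact SuzukiTwo.center_sq hs _ h

end Cfsg.Agent.S5214
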