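import Cfsg.Statements.S5215
import Cfsg.Agent.S5213
import Cfsg.Agent.S5214
import Cfsg.Agent.Lib.SU3TwoHeisEmbed
import Cfsg.Agent.Lib.FusionRankTwoSimple47
import Cfsg.Agent.Lib.RankOneFusion55PSL

set_option autoImplicit false
set_option linter.style.haveILetI false
open Cfsg

namespace Cfsg.Agent.S5215

/-- Let S be a finite 2-group of 2-rank 2 (an elementary abelian subgroup of order 4, none of order 8) and F a simple saturated fusion system over S. Then S is dihedral, semidihedral or wreathed, and F is the fusion system of the projective special linear group PSL₂(q) for some odd prime power q ≡ ±1 (mod 8) or of PSL₃(q) for some odd prime power q: it is realized by an injective homomorphism of S into that group whose image is a Sylow 2-subgroup. -/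
theorem result {Ω : Type*} [Group Ω] {S : Subgroup Ω} [Finite S] (hS : IsPGroup 2 S) (F : Cfsg.FusionSystem S) (hF : F.IsSaturated 2) (hr : Cfsg.PRankAtLeast 2 2 ↥S ∧ ¬ Cfsg.PRankAtLeast 2 3 ↥S) (hsimple : F.IsSimple 2) : ((∃ m : ℕ, Nonempty (↥S ≃* DihedralGroup m)) ∨ Cfsg.IsQuasiDihedral ↥S ∨ Cfsg.IsWreathed ↥S) ∧ ∃ (K : Type) (_ : Field K) (_ : Fintype K) (q : ℕ), Fintype.card K = q ∧ Odd q ∧ (((q % 8 = 1 ∨ q % 8 = 7) ∧ ∃ ι : ↥S →* Matrix.ProjectiveSpecialLinearGroup (Fin 2) K, F.IsRealizedBy ι ∧ ∃ T : Sylow 2 (Matrix.ProjectiveSpecialLinearGroup (Fin 2) K), (T : Subgroup (Matrix.ProjectiveSpecialLinearGroup (Fin 2) K)) = ι.range) ∨ (∃ ι : ↥S →* Matrix.ProjectiveSpecialLinearGroup (Fin 3) K, F.IsRealizedBy ι ∧ ∃ T : Sylow 2 (Matrix.ProjectiveSpecialLinearGroup (Fin 3) K), (T : Subgroup (Matrix.ProjectiveSpecialLinearGroup (Fin 3) K)) = ι.range)) := by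
  haveI : Fact (Nat.Prime 2) := ⟨Nat.prime_two⟩
  haveI : Fintype (GaloisField 2 4) := Fintype.ofFinite _
  have hr2 := hr.1
  have ab : ¬ ∀ x y : ↥S, x * y = y * x := fun hc =>
    Cfsg.Agent.FusionRankTwoSimple47.nonabelian hS hr2 hsimple
      fun x hx y hy => congrArg Subtype.val (hc ⟨x, hx⟩ ⟨y, hy⟩)
  have hZ := Cfsg.Agent.FusionRankTwoSimple47.center_eq_bot hS hr2 hsimple
  rcases Cfsg.Agent.S5213.result hS F hF hr hZ (K := GaloisField 2 4)
    (by rw [← Nat.card_eq_fintype_card, GaloisField.card 2 4 (by norm_num)]; norm_num)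
    with ⟨m, ⟨e⟩⟩ | h | h | ⟨n, k, ⟨e⟩⟩ | ⟨P, ⟨e⟩⟩
  · have hm : 4 ≤ m := by
      by_contra hm
      refine ab fun x y => e.injective ?_
      rw [map_mul, map_mul]
      obtain ⟨j, hj⟩ := IsPGroup.iff_card.mp hS
      rw [Nat.card_congr e.toEquiv, DihedralGroup.nat_card] at hj
      interval_cases m
      · exact absurd hj (pow_pos (by norm_num) j).ne
      · generalize e x = a; generalize e y = b; revert a b; decide
      · generalize e x = a; generalize e y = b; revert a b; decide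
      · have h3 : 3 ∣ 2 ^ j := hj ▸ ⟨2, rfl⟩
        exact absurd (Nat.prime_three.dvd_of_dvd_pow h3) (by norm_num)
    refine ⟨Or.inl ⟨m, ⟨e⟩⟩, ?_⟩
    obtain ⟨v, x, y, hMC⟩ := Cfsg.Agent.FusionRankTwoSimple47.mc_of_dihedral hS hm e
    have hmv := Cfsg.Agent.FusionRankTwoSimple47.mc_moved hMC (fun _ => dvd_zero _) hr2 hsimple
    obtain ⟨q, _, hq, hq8, hι⟩ :=
      Cfsg.Agent.RankOneFusion55.dihedral_psl2 hMC hF (hmv 0) (hmv 1)
    exact ⟨ZMod q, inferInstance, inferInstance, q, ZMod.card q, hq, Or.inl ⟨hq8, hι⟩⟩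
  · refine ⟨Or.inr (Or.inl h), ?_⟩
    obtain ⟨v, x, y, hv, hMC⟩ := Cfsg.Agent.FusionRankTwoSimple47.mc_of_quasiDihedral h
    have hmv := Cfsg.Agent.FusionRankTwoSimple47.mc_moved hMC (fun _ => dvd_zero _) hr2 hsimple
    obtain ⟨q, _, hq, hι⟩ :=
      Cfsg.Agent.RankOneFusion55.semidihedral_psl3 hv hMC hF (hmv 0) (hmv 1)
    exact ⟨ZMod q, inferInstance, inferInstance, q, ZMod.card q, hq, Or.inr hι⟩
  · refine ⟨Or.inr (Or.inr h), ?_⟩
    obtain ⟨n, x, y, t, hcard, hW⟩ := Cfsg.Agent.RankOneFusion55.wd_of_wreathed h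
    obtain ⟨q, _, hq, hι⟩ := Cfsg.Agent.RankOneFusion55.wreathed_psl3 hW hcard hF
      (Cfsg.Agent.FusionRankTwoSimple47.wd_movE hW hr2 hsimple)
      (Cfsg.Agent.FusionRankTwoSimple47.wd_movZ hW hr2 hsimple)
    exact ⟨ZMod q, inferInstance, inferInstance, q, ZMod.card q, hq, Or.inr hι⟩
  · exact absurd (fun x y => e.injective (by rw [map_mul, map_mul, mul_comm])) ab
  · refine absurd ?_ (Cfsg.Agent.FusionRankTwoSimple47.not_normal hS hr2 hsimple)
    obtain ⟨hc2, σ, hinv, hσ, hne, hfix, hcard, -, hPSU⟩ :=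
      Cfsg.Agent.SU3TwoHeisEmbed.exists_model (F := GaloisField 2 4) (n := 2) (by norm_num)
        (by rw [← Nat.card_eq_fintype_card, GaloisField.card 2 4 (by norm_num)]; norm_num)
    haveI := hc2
    haveI := hinv
    obtain ⟨f⟩ := hPSU P
    haveI : Finite (Cfsg.Agent.SU3TwoHeis.HU σ) := Nat.finite_of_card_ne_zero (by rw [hcard]; norm_num)
    have g : ↥S ≃* Cfsg.Agent.SU3TwoHeis.HU σ := e.trans f
    obtain ⟨-, hp, hnc, htwo, K, hK, hreg⟩ :=
      Cfsg.Agent.SU3TwoHeis.isSuzukiTwoGroup hne (by rw [hfix]; norm_num)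
    have hs : Cfsg.Agent.SuzukiTwo.Setup (Cfsg.Agent.SU3TwoHeis.HU σ) K := ⟨hp, hnc, htwo, hK, hreg⟩
    refine Cfsg.Agent.S5214.key hS F hF (fun x y hx => g.injective ?_) fun x y => g.injective ?_
    · rw [map_mul, map_mul]
      exact (Cfsg.Agent.SuzukiTwo.invol_comm hs (by rw [← map_mul, hx, map_one]) (g y)).symm
    · simp only [map_mul, map_inv, map_one]
      have h := Cfsg.Agent.SuzukiHigmanClass.commutator_mem_center hs (g x)⁻¹ (g y)⁻¹
      rw [inv_inv, inv_inv] at h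
      exact Cfsg.Agent.SuzukiTwo.center_sq hs _ h

end Cfsg.Agent.S5215
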