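import Cfsg.Statements.S5217
import Cfsg.Agent.Lib.Bicyclic55NonInner
import Cfsg.Agent.Lib.Bicyclic55Model
import Cfsg.Agent.Lib.Bicyclic36Amalgam
import Cfsg.Agent.Lib.FusionSupersolubleCriterion

set_option autoImplicit false
open Cfsg

namespace Cfsg.Agent.S5217

open Cfsg.Agent.Bicyclic55 in
/-- A cyclic derived subgroup gives a non-inner saturated fusion system. -/
theorem backward {Ω : Type*} [Group Ω] {S : Subgroup Ω} [Finite S] (hS : IsPGroup 2 S)
    {a b : ↥S} (hbi : Bi a b) (hm : ¬ Cfsg.IsMetacyclic ↥S) (hc : IsCyclic ↥(commutator ↥S)) :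
    ∃ F : Cfsg.FusionSystem S, F.IsSaturated 2 ∧
      ¬ ∀ P : Subgroup Ω, F.Hom P = (Cfsg.innerFusionSystem S).Hom P := by
  classical
  haveI : Fact (Nat.Prime 2) := ⟨Nat.prime_two⟩
  obtain ⟨d⟩ := cyclicData hS hbi hm hc
  obtain ⟨L, _, _, D, _, e, hxN, ξ, he, hmin, hgen, hξ, hξN, hcard, d₁, d₂, hconj, hnot⟩ :=
    exists_model d
  obtain ⟨G, _, _, ι, T, hι, hT, hfus⟩ := Cfsg.Agent.Bicyclic36.amalgam hS D e he d.x (2 ^ d.r) hxN
    hmin hgen ξ (fun g hg => by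
      obtain ⟨h', e'⟩ := hξ g hg
      exact e') hξN hcard
  refine ⟨FusionSupersolubleCriterion.realizedSystem ι hι,
    FusionSupersolubleCriterion.saturated_realizedSystem ι hι T hT, fun hall => hnot ?_⟩
  obtain ⟨g, hg⟩ := isConj_iff.mp (hfus d₁ d₂ hconj)
  set P : Subgroup Ω := Subgroup.zpowers ((d₁ : ↥S) : Ω)
  have hP : P ≤ S := Subgroup.zpowers_le.mpr (d₁ : ↥S).2
  let h : P →* G := (MulAut.conj g).toMonoidHom.comp (ι.comp (Subgroup.inclusion hP))
  have hh : ∀ p : P, h p ∈ ι.range := fun p => by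
    obtain ⟨i, hi⟩ := Subgroup.mem_zpowers_iff.mp p.2
    refine ⟨(d₂ : ↥S) ^ i, ?_⟩
    show ι ((d₂ : ↥S) ^ i) = g * ι (Subgroup.inclusion hP p) * g⁻¹
    rw [show Subgroup.inclusion hP p = (d₁ : ↥S) ^ i from Subtype.ext (by simp [← hi]), map_zpow,
      map_zpow, ← hg, conj_zpow]
  let ψ : P →* ↥S := (MonoidHom.ofInjective hι).symm.toMonoidHom.comp (h.codRestrict ι.range hh)
  have hψ : ∀ p : P, ι (ψ p) = h p := fun p => by
    have := congrArg Subtype.val ((MonoidHom.ofInjective hι).apply_symm_apply ⟨h p, hh p⟩)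
    exact this
  have hmem : S.subtype.comp ψ ∈ (FusionSupersolubleCriterion.realizedSystem ι hι).Hom P :=
    ⟨hP, fun p => (ψ p).2, g, fun p => (hψ p)⟩
  rw [hall P] at hmem
  obtain ⟨-, k, hk, hk'⟩ := hmem
  have hp : ψ ⟨_, Subgroup.mem_zpowers _⟩ = (d₂ : ↥S) := hι ((hψ _).trans hg)
  refine isConj_iff.mpr ⟨⟨k, hk⟩, Subtype.ext ?_⟩
  have := hk' ⟨_, Subgroup.mem_zpowers _⟩
  simp only [MonoidHom.comp_apply, hp] at this
  exact this.symm

/-- Let S be a finite bicyclic 2-group (S = ⟨x⟩⟨y⟩) that is not metacyclic. Then S supports a saturated fusion system other than its inner fusion system if and only if the commutator subgroup of S is cyclic. -/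
theorem result {Ω : Type*} [Group Ω] {S : Subgroup Ω} [Finite S] (hS : IsPGroup 2 S) (hb : ∃ x y : ↥S, ∀ g : ↥S, ∃ i j : ℤ, g = x ^ i * y ^ j) (hm : ¬ Cfsg.IsMetacyclic ↥S) : (∃ F : Cfsg.FusionSystem S, F.IsSaturated 2 ∧ ¬ ∀ P : Subgroup Ω, F.Hom P = (Cfsg.innerFusionSystem S).Hom P) ↔ IsCyclic ↥(commutator ↥S) := by
  obtain ⟨a, b, hab⟩ := hb
  exact ⟨fun ⟨F, hF, hne⟩ => Bicyclic55.forward hS hab hF hne, fun hc => backward hS hab hm hc⟩

end Cfsg.Agent.S5217
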