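import Cfsg.Statements.S5219
import Cfsg.Agent.Lib.AgemoCentreNormal

set_option autoImplicit false
open Cfsg

namespace Cfsg.Agent.S5219

/-- Let p be a prime, n a natural number, S a nontrivial finite p-group of nilpotence class at most n(p−1)+1, and F a saturated fusion system over S with no nontrivial normal subgroup (O_p(F) = 1). Then S has exponent dividing p^(n²(p−1)+n). -/
theorem result {Ω : Type*} [Group Ω] {S : Subgroup Ω} [Finite S] (p : ℕ) [Fact p.Prime] (hS : IsPGroup p S) (F : Cfsg.FusionSystem S) (hF : F.IsSaturated p) (n : ℕ) (hS1 : S ≠ ⊥) (hcl : Subgroup.lowerCentralSeries S (n * (p - 1) + 1) = ⊥) (hcore : F.core = ⊥) : Monoid.exponent ↥S ∣ p ^ (n ^ 2 * (p - 1) + n) := by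
  have _ := hS1
  haveI := hS.isNilpotent
  have hQ : Cfsg.Agent.AgemoCentreNormal.agemoCentre p n S = ⊥ := le_bot_iff.mp
    (hcore ▸ Cfsg.Agent.FusionSysNormal.le_core (Cfsg.Agent.AgemoCentreNormal.isNormal_agemoCentre hS hF hcl))
  have hstep : ∀ (i : ℕ) (x : S), x ∈ Subgroup.upperCentralSeries S (i + 1) →
      x ^ p ^ n ∈ Subgroup.upperCentralSeries S i := by
    intro i
    induction i with
    | zero =>
      intro x hx
      rw [Subgroup.upperCentralSeries_one, Subgroup.mem_center_iff] at hx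
      rw [Subgroup.upperCentralSeries_zero, Subgroup.mem_bot]
      refine Subtype.ext (Subgroup.mem_bot.mp (hQ.le
        (Cfsg.Agent.AgemoCentreNormal.mem_agemoCentre.mpr
          ⟨(x : Ω), ⟨x.2, fun y hy => congrArg Subtype.val (hx ⟨y, hy⟩)⟩, ?_⟩)))
      simp
    | succ i ih =>
      intro x hx
      rw [Subgroup.mem_upperCentralSeries_succ_iff]
      intro y
      rw [← QuotientGroup.eq_one_iff]
      set q := QuotientGroup.mk' (Subgroup.upperCentralSeries S i) with hq
      show q (x ^ p ^ n * y * (x ^ p ^ n)⁻¹ * y⁻¹) = 1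
      have hc : x * y * x⁻¹ * y⁻¹ ∈ Subgroup.upperCentralSeries S (i + 1) :=
        (Subgroup.mem_upperCentralSeries_succ_iff.mp hx) y
      have hcq : ∀ w : S, q w * q (x * y * x⁻¹ * y⁻¹) = q (x * y * x⁻¹ * y⁻¹) * q w := by
        intro w
        have h := (Subgroup.mem_upperCentralSeries_succ_iff.mp hc) w
        rw [← QuotientGroup.eq_one_iff] at h
        change q (_ * w * _⁻¹ * w⁻¹) = 1 at h
        generalize x * y * x⁻¹ * y⁻¹ = c at h
        rw [map_mul, map_mul, map_mul, map_inv, map_inv, mul_inv_eq_one, mul_inv_eq_iff_eq_mul] at h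
        exact h.symm
      have hm : (q (x * y * x⁻¹ * y⁻¹)) ^ p ^ n = 1 := by
        rw [← map_pow]; exact (QuotientGroup.eq_one_iff _).mpr (ih _ hc)
      set X := q x
      set Y := q y
      have e : q (x * y * x⁻¹ * y⁻¹) = X * Y * X⁻¹ * Y⁻¹ := by simp [X, Y]
      rw [e] at hcq hm
      have key : ∀ m : ℕ, X ^ m * Y * (X ^ m)⁻¹ * Y⁻¹ = (X * Y * X⁻¹ * Y⁻¹) ^ m := by
        intro m
        induction m with
        | zero => simp
        | succ m ihm =>
          have h1 : X * (X * Y * X⁻¹ * Y⁻¹) ^ m * X⁻¹ = (X * Y * X⁻¹ * Y⁻¹) ^ m :=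
            mul_inv_eq_iff_eq_mul.mpr ((show Commute X (X * Y * X⁻¹ * Y⁻¹) from hcq x).pow_right m)
          calc X ^ (m + 1) * Y * (X ^ (m + 1))⁻¹ * Y⁻¹
              = (X * (X ^ m * Y * (X ^ m)⁻¹ * Y⁻¹) * X⁻¹) * (X * Y * X⁻¹ * Y⁻¹) := by
                rw [pow_succ']; group
            _ = _ := by rw [ihm, h1, pow_succ]
      simp only [map_mul, map_inv, map_pow]
      rw [key, hm]
  set c := n * (p - 1) + 1 with hc
  have htop : Subgroup.upperCentralSeries S c = ⊤ := by
    rw [← Subgroup.lowerCentralSeries_eq_bot_iff_upperCentralSeries_eq_top]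
    apply Subgroup.map_injective S.subtype_injective
    rw [Subgroup.top_subtype_lowerCentralSeries, Subgroup.map_bot]
    exact hcl
  have hall : ∀ (i : ℕ) (x : S), x ∈ Subgroup.upperCentralSeries S i → x ^ p ^ (n * i) = 1 := by
    intro i
    induction i with
    | zero =>
      intro x hx
      rw [Subgroup.upperCentralSeries_zero, Subgroup.mem_bot] at hx
      simp [hx]
    | succ i ih =>
      intro x hx
      rw [Nat.mul_succ, add_comm, pow_add, pow_mul]
      exact ih _ (hstep i x hx)
  rw [show n ^ 2 * (p - 1) + n = n * c by rw [hc]; ring]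
  exact Monoid.exponent_dvd_of_forall_pow_eq_one fun x => hall c x (htop ▸ Subgroup.mem_top _)

end Cfsg.Agent.S5219
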