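import Cfsg.Statements.S5222
import Cfsg.Agent.Lib.FusionSysNormal
import Cfsg.Agent.Lib.FusionWeakAlperin
import Cfsg.Agent.Lib.FusionSplitting
import Cfsg.Agent.Lib.PGroupsBasic
import Cfsg.Agent.Lib.TransferPResidual

set_option autoImplicit false
set_option linter.style.haveILetI false
open Cfsg Cfsg.FusionSystem Cfsg.Agent.FusionSysBasic Cfsg.Agent.FusionSysSaturated
open scoped commutatorElement IsMulCommutative

namespace Cfsg.Agent.S5222

variable {Ω : Type*} [Group Ω] {S : Subgroup Ω}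

theorem cj_div (g x : Ω) : x⁻¹ * cj g x = ⁅x⁻¹, g⁆ := by
  rw [commutatorElement_def, cj_apply]; group

/-- Conjugation by elements of `S` on a subgroup normalized by `S`. -/
noncomputable def conjAut (R : Subgroup Ω) (hR : S ≤ Subgroup.normalizer (R : Set Ω)) :
    ↥S →* MulAut R :=
  (nHom S R).comp (Subgroup.inclusion (le_inf le_rfl hR))

theorem afun_conjAut (R : Subgroup Ω) (hR : S ≤ Subgroup.normalizer (R : Set Ω)) (g : ↥S) {x : Ω}
    (hx : x ∈ R) : afun (conjAut R hR g) x = cj (g : Ω) x := afun_nHom _ hx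

theorem range_conjAut (R : Subgroup Ω) (hR : S ≤ Subgroup.normalizer (R : Set Ω)) :
    (conjAut R hR).range = autInducedBy S R := by
  rw [autInducedBy_eq_range]
  refine le_antisymm ?_ ?_
  · rintro _ ⟨g, rfl⟩; exact ⟨_, rfl⟩
  · rintro _ ⟨g, rfl⟩; exact ⟨⟨g, g.2.1⟩, rfl⟩

/-- An automorphism of a subgroup normalized by `S` that normalizes the conjugations is one. -/
theorem eq_of_normalize [Finite S] {p : ℕ} [Fact p.Prime] (hS : IsPGroup p S)
    {F : Cfsg.FusionSystem S} (hF : F.IsSaturated p)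
    (hAut : ∀ f : Ω → Ω, Mor F S f → ∃ g ∈ S, ∀ x ∈ S, f x = cj g x)
    {R : Subgroup Ω} (hRS : R ≤ S) (hR : S ≤ Subgroup.normalizer (R : Set Ω)) {α : MulAut R}
    (hα : α ∈ F.autGroup R) (h : ∀ g ∈ S, ∃ k ∈ S, ∀ x ∈ R, afun α (cj g x) = cj k (afun α x)) :
    α ∈ (conjAut R hR).range := by
  have hn : F.IsFullyNormalized R := FusionWeakAlperin.fullyNormalized_of_normal hRS
    fun g hg x hx => cj_mem_of_normalizer (hR hg) hx
  obtain ⟨f, hf, hag⟩ := (receptive_iff.mp (receptive_of_fullyNormalized hS hF hn)).2 R (afun α) S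
    ((mem_autGroup hRS).mp hα) (im_afun α) le_rfl hR h
  rw [sup_eq_right.mpr hRS] at hf
  obtain ⟨g, hg, hgf⟩ := hAut f hf
  exact ⟨⟨g, hg⟩, afun_ext fun x hx => by
    rw [afun_conjAut R hR _ hx, ← hag x hx, hgf x (hRS hx)]⟩

theorem eq_one_of_pow {p : ℕ} {G : Type*} [Group G] [Fact p.Prime] (hG : IsPGroup p G) {x : G}
    {n : ℕ} (hn : n.Coprime p) (h : x ^ n = 1) : x = 1 := by
  obtain ⟨k, hk⟩ := hG x
  have := pow_gcd_eq_one.mpr ⟨h, hk⟩
  rwa [(hn.pow_right k).gcd_eq_one, pow_one] at this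

/-- `α` of order prime to `p` moving every element by a fixed element of `Q` is trivial. -/
theorem eq_one_of_stabilizes {p : ℕ} [Fact p.Prime] {R Q : Subgroup Ω} (hR : IsPGroup p R)
    {α : MulAut R} (hα : (orderOf α).Coprime p) (hfix : ∀ y ∈ Q, y ∈ R → afun α y = y)
    (h : ∀ x ∈ R, x⁻¹ * afun α x ∈ Q) : α = 1 := by
  refine MulEquiv.ext fun x => ?_
  rw [MulAut.one_apply]
  set y := x⁻¹ * α x with hy
  have hy' : (y : Ω) ∈ Q := by
    have := h x x.2
    rwa [afun_coe] at this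
  have hyα : α y = y := Subtype.ext (by rw [← afun_coe]; exact hfix _ hy' y.2)
  have key : ∀ k : ℕ, (α ^ k) x = x * y ^ k := by
    intro k
    induction k with
    | zero => simp
    | succ k ih =>
      rw [pow_succ', MulAut.mul_apply, ih, map_mul, map_pow, hyα, pow_succ', hy, ← mul_assoc,
        mul_inv_cancel_left]
  have h1 := key (orderOf α)
  rw [pow_orderOf_eq_one, MulAut.one_apply, left_eq_mul] at h1
  have h2 := eq_one_of_pow hR hα h1
  rw [hy, inv_mul_eq_one] at h2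
  exact h2.symm

/-- A family `e` of permutations of `X`, free outside `1`, gives representatives. -/
theorem exists_reps {G : Type*} [Group G] (D : Subgroup G) [D.Normal] {X : Type*} [One X]
    (e : G → X → X) (he1 : ∀ x, e 1 x = x) (hemul : ∀ g h x, e (g * h) x = e g (e h x))
    (hD : ∀ d ∈ D, ∀ x, e d x = x) (hne : ∀ g x, x ≠ 1 → e g x ≠ 1)
    (hfree : ∀ g x, x ≠ 1 → e g x = x → g ∈ D) :
    ∃ R : Set X, (∀ r ∈ R, r ≠ 1) ∧ Set.BijOn (fun br : (G ⧸ D) × X => e br.1.out br.2)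
      (Set.univ ×ˢ R) {x | x ≠ 1} := by
  let st : Setoid X := ⟨fun a b => ∃ g, e g a = b,
    fun a => ⟨1, he1 a⟩,
    fun {a b} ⟨g, hg⟩ => ⟨g⁻¹, by rw [← hg, ← hemul, inv_mul_cancel, he1]⟩,
    fun {a b c} ⟨g, hg⟩ ⟨h, hh⟩ => ⟨h * g, by rw [hemul, hg, hh]⟩⟩
  have hout : ∀ (g : G) (x : X), e (QuotientGroup.mk g : G ⧸ D).out x = e g x := by
    intro g x
    obtain ⟨d, hd⟩ := QuotientGroup.mk_out_eq_mul D g
    rw [hd, hemul, hD d d.2]
  refine ⟨{r | r ≠ 1 ∧ (Quotient.mk st r).out = r}, fun r hr => hr.1, ?_, ?_, ?_⟩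
  · rintro ⟨b, r⟩ ⟨-, hr, -⟩
    exact hne _ r hr
  · rintro ⟨b, r⟩ ⟨-, hr, hr'⟩ ⟨b', r'⟩ ⟨-, -, hs'⟩ heq
    simp only at heq hr hr' hs'
    have hq : Quotient.mk st r = Quotient.mk st r' := Quotient.sound
      ⟨b'.out⁻¹ * b.out, by rw [hemul, heq, ← hemul, inv_mul_cancel, he1]⟩
    obtain rfl : r = r' := by rw [← hr', hq, hs']
    have h1 : b'.out⁻¹ * b.out ∈ D :=
      hfree _ r hr (by rw [hemul, heq, ← hemul, inv_mul_cancel, he1])
    have h2 : b' = b := by
      rw [← QuotientGroup.out_eq' b, ← QuotientGroup.out_eq' b']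
      exact QuotientGroup.eq.mpr h1
    rw [h2]
  · intro x hx
    obtain ⟨g, hg⟩ : ∃ g, e g (Quotient.mk st x).out = x :=
      Quotient.exact (Quotient.out_eq (Quotient.mk st x))
    refine ⟨⟨QuotientGroup.mk g, (Quotient.mk st x).out⟩, ⟨trivial, ?_, ?_⟩, ?_⟩
    · intro h1
      simp only at h1
      have h2 : e g⁻¹ x = 1 := by rw [← hg, ← hemul, inv_mul_cancel, he1, h1]
      exact hne g⁻¹ x hx h2
    · rw [Quotient.out_eq (Quotient.mk st x)]
    · show e _ _ = x
      rw [hout, hg]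

/-- A product over orbit representatives. -/
theorem prod_reps_inv {ι X M : Type*} [Fintype ι] [One X] [Fintype X] [DecidableEq X]
    [CommGroup M] (Rep : Set X) [Fintype Rep] (h : ι → X → X)
    (hRep : Set.BijOn (fun br : ι × X => h br.1 br.2) (Set.univ ×ˢ Rep) {x | x ≠ 1})
    (f : X → M) (hf : ∏ x, f x = 1) : ∏ b, ∏ r : Rep, (f (h b r))⁻¹ = f 1 := by
  rw [← Fintype.prod_prod_type' fun b (r : Rep) => (f (h b r))⁻¹, Finset.prod_inv_distrib]
  have hne : (∏ x : ι × Rep, f (h x.1 x.2)) = ∏ a ∈ Finset.univ.erase (1 : X), f a := by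
    refine Finset.prod_bij (fun x _ => h x.1 x.2) (fun x _ => ?_) (fun x _ y _ hxy => ?_)
      (fun a ha => ?_) (fun x _ => rfl)
    · rw [Finset.mem_erase]
      exact ⟨hRep.mapsTo (show (x.1, (x.2 : X)) ∈ _ from ⟨trivial, x.2.2⟩), Finset.mem_univ _⟩
    · have := hRep.injOn (show (x.1, (x.2 : X)) ∈ _ from ⟨trivial, x.2.2⟩)
        (show (y.1, (y.2 : X)) ∈ _ from ⟨trivial, y.2.2⟩) hxy
      simp only [Prod.mk.injEq] at this
      exact Prod.ext this.1 (Subtype.ext this.2)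
    · obtain ⟨⟨b, r⟩, ⟨-, hr⟩, hbr⟩ := hRep.surjOn (Finset.ne_of_mem_erase ha)
      exact ⟨(b, ⟨r, hr⟩), Finset.mem_univ _, hbr⟩
  rw [hne, inv_eq_iff_mul_eq_one]
  rw [← Finset.mul_prod_erase _ _ (Finset.mem_univ (1 : X)), mul_comm] at hf
  exact hf

/-- The automorphisms of the centre. -/
def centerAut (G : Type*) [Group G] : MulAut G →* MulAut (Subgroup.center G) where
  toFun a := Subgroup.centerCongr a
  map_one' := MulEquiv.ext fun _ => Subtype.ext rfl
  map_mul' _ _ := MulEquiv.ext fun _ => Subtype.ext rfl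

set_option maxHeartbeats 2000000 in
/-- The key step: `Aut_F(Q)` consists of conjugations by elements of `S`. -/
theorem autGroup_inner [Finite S] {p : ℕ} [Fact p.Prime] (hS : IsPGroup p S)
    {F : Cfsg.FusionSystem S} (hF : F.IsSaturated p)
    (hAut : ∀ f : Ω → Ω, Mor F S f → ∃ g ∈ S, ∀ x ∈ S, f x = cj g x)
    {Q : Subgroup Ω} (hQS : Q ≤ S) (hcomm : ∀ g ∈ S, ∀ h ∈ S, ⁅g, h⁆ ∈ Q)
    (hQΦ : Q.subgroupOf S ≤ frattini ↥S) (hQ : S ≤ Subgroup.normalizer (Q : Set Ω))
    {α : MulAut Q} (hα : α ∈ F.autGroup Q) : α ∈ (conjAut Q hQ).range := by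
  classical
  haveI := finite_of_le hQS
  haveI := finite_autGroup (F := F) Q
  have hν : ∀ g, conjAut Q hQ g ∈ F.autGroup Q := fun g =>
    autInducedBy_le hQS ((range_conjAut Q hQ).le ⟨g, rfl⟩)
  set ν : ↥S →* ↥(F.autGroup Q) := (conjAut Q hQ).codRestrict _ hν with hνdef
  have hνe : ∀ (g : ↥S) {x : Ω}, x ∈ Q → afun (ν g : MulAut Q) x = cj (g : Ω) x :=
    fun g _ hx => afun_conjAut Q hQ g hx
  obtain ⟨-, B, hB⟩ := fullyAutomized_of_fullyNormalized hS hF
    (FusionWeakAlperin.fullyNormalized_of_normal (F := F) hQS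
      fun g hg x hx => cj_mem_of_normalizer (hQ hg) hx)
  have hBr : (B : Subgroup (F.autGroup Q)) = ν.range := by
    rw [hB]
    ext a
    rw [Subgroup.mem_subgroupOf, ← range_conjAut Q hQ]
    exact ⟨fun ⟨g, hg⟩ => ⟨g, Subtype.ext hg⟩, fun ⟨g, hg⟩ => ⟨g, congrArg Subtype.val hg⟩⟩
  suffices htop : (B : Subgroup (F.autGroup Q)) = ⊤ by
    obtain ⟨g, hg⟩ := (hBr ▸ htop ▸ Subgroup.mem_top (⟨α, hα⟩ : F.autGroup Q) :
      (⟨α, hα⟩ : F.autGroup Q) ∈ ν.range)
    exact ⟨g, congrArg Subtype.val hg⟩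
  -- the inner automorphisms
  set I : Subgroup (F.autGroup Q) := (Q.subgroupOf S).map ν with hI
  haveI hIn : I.Normal := by
    refine ⟨?_⟩
    rintro _ ⟨u, hu, rfl⟩ a
    have huQ : (u : Ω) ∈ Q := hu
    refine ⟨⟨afun (a : MulAut Q) u, hQS (afun_mem _ huQ)⟩, afun_mem _ huQ,
      Subtype.ext (afun_ext fun x hx => ?_)⟩
    have hx' := afun_mem (a : MulAut Q)⁻¹ hx
    simp only [Subgroup.coe_mul, Subgroup.coe_inv]
    rw [afun_mul _ _ hx, afun_mul _ _ hx', hνe u hx',
      ((mem_autGroup hQS).mp a.2).map_cj huQ hx', afun_apply_inv _ hx, hνe _ hx]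
  have hIB : I ≤ (B : Subgroup (F.autGroup Q)) := hBr ▸ Subgroup.map_le_range ν _
  have hBI : ⁅(B : Subgroup (F.autGroup Q)), (B : Subgroup (F.autGroup Q))⁆ ≤ I := by
    rw [hBr, Subgroup.commutator_le]
    rintro _ ⟨g, rfl⟩ _ ⟨h, rfl⟩
    exact ⟨⁅g, h⁆, hcomm g g.2 h h.2, map_commutatorElement ν g h⟩
  have hN : Subgroup.normalizer ((B : Subgroup (F.autGroup Q)) : Set (F.autGroup Q)) ≤
      (B : Subgroup (F.autGroup Q)) := by
    intro a ha
    rw [hBr] at ha ⊢
    obtain ⟨k, hk⟩ := eq_of_normalize hS hF hAut hQS hQ a.2 fun g hg => by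
      obtain ⟨k, hk⟩ := (Subgroup.mem_normalizer_iff.mp ha (ν ⟨g, hg⟩)).mp ⟨_, rfl⟩
      refine ⟨k, k.2, fun x hx => ?_⟩
      have hax := afun_mem (a : MulAut Q) hx
      rw [← hνe k hax, hk]
      simp only [Subgroup.coe_mul, Subgroup.coe_inv]
      rw [afun_mul _ _ hax, afun_inv_apply _ hx, afun_mul _ _ hx, hνe _ hx]
    exact ⟨k, Subtype.ext hk⟩
  have hIΦ : I ≤ (frattini (B : Subgroup (F.autGroup Q))).map
      (B : Subgroup (F.autGroup Q)).subtype := by
    have : ∀ B' : Subgroup (F.autGroup Q), ν.range = B' →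
        I ≤ (frattini B').map B'.subtype := by
      rintro _ rfl
      rw [← PGroupsBasic.map_frattini hS ν.rangeRestrict_surjective, Subgroup.map_map]
      exact Subgroup.map_mono hQΦ
    exact this _ hBr.symm
  obtain ⟨H, hHn, hHc, hHB, hHI, hHfix⟩ :=
    FusionSplitting.exists_normal_complement B I hIB hBI hN hIΦ
  haveI := hHn
  by_cases hH1 : Nat.card H = 1
  · rwa [Subgroup.card_eq_one.mp hH1, bot_sup_eq] at hHB
  exfalso
  obtain ⟨q, hq, hqH⟩ := Nat.exists_prime_and_dvd hH1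
  haveI : Fact q.Prime := ⟨hq⟩
  have hqp : q ≠ p := fun e =>
    hq.one_lt.ne' (Nat.eq_one_of_dvd_one (hHc ▸ Nat.dvd_gcd hqH (e ▸ dvd_rfl)))
  obtain ⟨X, hXH, hXq, hX1, hXB⟩ := FusionSplitting.exists_invariant_qSubgroup B H hHc hqH
  -- `L`
  obtain ⟨x₀, hx₀, hx₀1⟩ := (X.bot_or_exists_ne_one).resolve_left hX1
  obtain ⟨L, hLmax⟩ := (Set.toFinite {L : Subgroup (F.autGroup Q) | I ≤ L ∧
      L ≤ (B : Subgroup (F.autGroup Q)) ∧ ∃ h ∈ X, h ≠ 1 ∧ ∀ l ∈ L, h * l = l * h}).exists_maximal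
    ⟨I, le_rfl, hIB, x₀, hx₀, hx₀1, fun l hl => hHI _ (hXH hx₀) l hl⟩
  obtain ⟨hIL, hLB, w₀, hw₀X, hw₀1, hw₀⟩ := hLmax.prop
  have hLn : ∀ b ∈ (B : Subgroup (F.autGroup Q)), ∀ l ∈ L, b * l * b⁻¹ ∈ L := fun b hb l hl => by
    rw [show b * l * b⁻¹ = ⁅b, l⁆ * l by rw [commutatorElement_def]; group]
    exact mul_mem (hIL (hBI (Subgroup.commutator_mem_commutator hb (hLB hl)))) hl
  set W := X ⊓ Subgroup.centralizer (L : Set (F.autGroup Q)) with hWdef
  have hWc : ∀ w ∈ W, ∀ l ∈ L, w * l = l * w := fun w hw l hl =>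
    (Subgroup.mem_centralizer_iff.mp hw.2 l hl).symm
  have hWB : ∀ b ∈ (B : Subgroup (F.autGroup Q)), ∀ w ∈ W, b * w * b⁻¹ ∈ W := by
    intro b hb w hw
    refine ⟨(Subgroup.mem_normalizer_iff.mp (hXB hb) w).mp hw.1,
      Subgroup.mem_centralizer_iff.mpr fun l hl => ?_⟩
    have h1 := hWc w hw (b⁻¹ * l * b) (by simpa using hLn b⁻¹ (inv_mem hb) l hl)
    calc l * (b * w * b⁻¹) = b * ((b⁻¹ * l * b) * w) * b⁻¹ := by group
      _ = b * (w * (b⁻¹ * l * b)) * b⁻¹ := by rw [h1]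
      _ = b * w * b⁻¹ * l := by group
  have hfreeW : ∀ b ∈ (B : Subgroup (F.autGroup Q)), ∀ w ∈ W, w ≠ 1 → b * w = w * b → b ∈ L := by
    intro b hb w hw hw1 hbw
    have hle : L ⊔ Subgroup.zpowers b ≤ L := hLmax.le_of_ge
      ⟨hIL.trans le_sup_left, sup_le hLB (Subgroup.zpowers_le.mpr hb), w, hw.1, hw1, fun l hl => by
        have hsub : L ⊔ Subgroup.zpowers b ≤ Subgroup.centralizer ({w} : Set (F.autGroup Q)) := by
          refine sup_le (fun l hl => ?_) (Subgroup.zpowers_le.mpr ?_) <;>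
            rw [Subgroup.mem_centralizer_singleton_iff]
          · exact (hWc w hw l hl).symm
          · exact hbw
        exact (Subgroup.mem_centralizer_singleton_iff.mp (hsub hl)).symm⟩ le_sup_left
    exact hle (Subgroup.mem_sup_right (Subgroup.mem_zpowers b))
  -- `D`, the elements acting on `Q` inside `L`
  set D : Subgroup Ω := (L.comap ν).map S.subtype with hD
  have hDS : D ≤ S := Subgroup.map_subtype_le _
  haveI := finite_of_le hDS
  have memD : ∀ g : ↥S, (g : Ω) ∈ D ↔ ν g ∈ L := fun g =>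
    ⟨fun ⟨u, hu, e⟩ => (Subtype.ext e : u = g) ▸ hu, fun h => ⟨g, h, rfl⟩⟩
  have hQD : Q ≤ D := fun x hx => (memD ⟨x, hQS hx⟩).mpr (hIL ⟨_, hx, rfl⟩)
  have hCD : ∀ y : ↥S, ν y = 1 → (y : Ω) ∈ D := fun y hy => (memD y).mpr (hy ▸ one_mem _)
  have hDn : S ≤ Subgroup.normalizer (D : Set Ω) := fun g hg =>
    mem_normalizer_of_cj_le hDS fun x hx => by
      have h1 := hLn _ (hBr.ge ⟨⟨g, hg⟩, rfl⟩) _ ((memD ⟨x, hDS hx⟩).mp hx)
      rw [← map_inv, ← map_mul, ← map_mul] at h1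
      exact (memD (⟨g, hg⟩ * ⟨x, hDS hx⟩ * ⟨g, hg⟩⁻¹)).mpr h1
  -- the stabilizer of `Q` in `Aut_F(D)`
  let AD : Subgroup (MulAut D) :=
    { carrier := {a | a ∈ F.autGroup D ∧ ∀ x ∈ D, afun a x ∈ Q ↔ x ∈ Q}
      one_mem' := ⟨one_mem _, fun x hx => by rw [afun_one hx]⟩
      mul_mem' := fun {a b} ⟨ha, ha'⟩ ⟨hb, hb'⟩ => ⟨mul_mem ha hb, fun x hx => by
        rw [afun_mul a b hx, ha' _ (afun_mem b hx), hb' x hx]⟩
      inv_mem' := fun {a} ⟨ha, ha'⟩ => ⟨inv_mem ha, fun x hx => by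
        rw [← ha' _ (afun_mem a⁻¹ hx), afun_apply_inv a hx]⟩ }
  haveI : Finite AD := Finite.of_injective (Subgroup.inclusion (show AD ≤ ⊤ from le_top))
    (Subgroup.inclusion_injective _)
  have hstab : ∀ (a : AD) {x : Ω}, x ∈ Q → afun (a : MulAut D) x ∈ Q := fun a x hx =>
    (a.2.2 x (hQD hx)).mpr hx
  let r : AD → MulAut Q := fun a =>
    { toFun := fun x => ⟨afun (a : MulAut D) x, hstab a x.2⟩
      invFun := fun x => ⟨afun (a : MulAut D)⁻¹ x, hstab a⁻¹ x.2⟩
      left_inv := fun x => Subtype.ext (afun_inv_apply _ (hQD x.2))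
      right_inv := fun x => Subtype.ext (afun_apply_inv _ (hQD x.2))
      map_mul' := fun x y => Subtype.ext (FusionSysNormal.afun_map_mul _ (hQD x.2) (hQD y.2)) }
  have hre : ∀ (a : AD) {x : Ω}, x ∈ Q → afun (r a) x = afun (a : MulAut D) x := fun a x hx => by
    rw [afun_apply _ hx]; rfl
  have hrA : ∀ a : AD, r a ∈ F.autGroup Q := fun a => (mem_autGroup hQS).mpr
    ((((mem_autGroup hDS).mp a.2.1).restrict_to hQD).congr fun x hx => (hre a hx).symm)
  let res : AD →* ↥(F.autGroup Q) :=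
    { toFun := fun a => ⟨r a, hrA a⟩
      map_one' := Subtype.ext (afun_ext fun x hx => by
        rw [hre _ hx, Subgroup.coe_one, Subgroup.coe_one, afun_one hx, afun_one (hQD hx)])
      map_mul' := fun a b => Subtype.ext (afun_ext fun x hx => by
        rw [hre _ hx, Subgroup.coe_mul, Subgroup.coe_mul, afun_mul _ _ (hQD hx), afun_mul _ _ hx,
          hre b hx, hre a (hstab b hx)]) }
  have hrese : ∀ (a : AD) {x : Ω}, x ∈ Q → afun (res a : MulAut Q) x = afun (a : MulAut D) x :=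
    fun a _ hx => hre a hx
  have hνDm : ∀ g : ↥S, conjAut D hDn g ∈ AD := fun g =>
    ⟨autInducedBy_le hDS ((range_conjAut D hDn).le ⟨g, rfl⟩), fun x hx => by
      rw [afun_conjAut D hDn g hx]
      exact (Subgroup.mem_normalizer_iff.mp (hQ g.2) x).symm⟩
  let νD : ↥S →* AD := (conjAut D hDn).codRestrict AD hνDm
  have hνDe : ∀ (g : ↥S) {x : Ω}, x ∈ D → afun (νD g : MulAut D) x = cj (g : Ω) x :=
    fun g _ hx => afun_conjAut D hDn g hx
  have hresν : ∀ g, res (νD g) = ν g := fun g => Subtype.ext (afun_ext fun x hx => by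
    rw [hrese _ hx, hνDe g (hQD hx), hνe g hx])
  -- every element of `W` lifts
  have hlift : ∀ w ∈ W, ∃ a : AD, res a = w := by
    intro w hw
    have hwc : ∀ g ∈ D, ∀ x ∈ Q, afun (w : MulAut Q) (cj g x) = cj g (afun (w : MulAut Q) x) := by
      intro g hg x hx
      have h1 := congrArg (fun a : F.autGroup Q => afun (a : MulAut Q) x)
        (hWc w hw _ ((memD ⟨g, hDS hg⟩).mp hg))
      simp only [Subgroup.coe_mul, afun_mul _ _ hx, hνe _ hx, hνe _ (afun_mem _ hx)] at h1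
      exact h1
    obtain ⟨f, hf, hag⟩ := (receptive_iff.mp (receptive_of_fullyNormalized hS hF
      (FusionWeakAlperin.fullyNormalized_of_normal (F := F) hQS
        fun g hg x hx => cj_mem_of_normalizer (hQ hg) hx))).2 Q (afun (w : MulAut Q)) D
      ((mem_autGroup hQS).mp w.2) (im_afun _) hDS (hDS.trans hQ)
      fun g hg => ⟨g, hDS hg, hwc g hg⟩
    rw [sup_eq_right.mpr hQD] at hf
    have hfD : ∀ d ∈ D, f d ∈ D := by
      intro d hd
      have hν' : ν ⟨f d, hf.apply_mem hd⟩ = ν ⟨d, hDS hd⟩ := Subtype.ext (afun_ext fun y hy => by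
        obtain ⟨x, hx, rfl⟩ : ∃ x ∈ Q, afun (w : MulAut Q) x = y :=
          ⟨_, afun_mem _ hy, afun_apply_inv _ hy⟩
        rw [hνe _ hy, hνe _ hy]
        show cj (f d) _ = cj d _
        have hcq : cj d x ∈ Q := cj_mem_of_normalizer (hQ (hDS hd)) hx
        conv_lhs => rw [← hag x hx]
        rw [← hf.map_cj hd (hQD hx), hag _ hcq, hwc d hd x hx])
      exact (memD ⟨f d, hf.apply_mem hd⟩).mpr (hν' ▸ (memD ⟨d, hDS hd⟩).mp hd)
    obtain ⟨a, ha, hae⟩ := hf.exists_aut (hf.im_self hfD)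
    have haQ : ∀ x ∈ D, afun a x ∈ Q ↔ x ∈ Q := by
      intro x hx
      rw [hae x hx]
      refine ⟨fun h => ?_, fun h => hag x h ▸ afun_mem _ h⟩
      have h1 : f (afun (w : MulAut Q)⁻¹ (f x)) = f x := by
        rw [hag _ (afun_mem _ h), afun_apply_inv _ h]
      rw [← hf.injOn (hQD (afun_mem _ h)) hx h1]
      exact afun_mem _ h
    exact ⟨⟨a, ha, haQ⟩, Subtype.ext (afun_ext fun x hx => by
      rw [hrese _ hx, hae x (hQD hx), hag x hx])⟩
  -- the conjugations form a Sylow subgroup of `AD`, and every element stabilizes `D/Q`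
  have hKall : ∀ (a : AD) (x : Ω), x ∈ D → x⁻¹ * afun (a : MulAut D) x ∈ Q := by
    let K : Subgroup AD :=
      { carrier := {a | ∀ x ∈ D, x⁻¹ * afun (a : MulAut D) x ∈ Q}
        one_mem' := fun x hx => by rw [Subgroup.coe_one, afun_one hx]; simp
        mul_mem' := fun {a b} ha hb x hx => by
          rw [Subgroup.coe_mul, afun_mul _ _ hx]
          have := mul_mem (hb x hx) (ha _ (afun_mem (b : MulAut D) hx))
          simpa [mul_assoc] using this
        inv_mem' := fun {a} ha x hx => by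
          have := inv_mem (ha _ (afun_mem (a : MulAut D)⁻¹ hx))
          rw [afun_apply_inv _ hx] at this
          simpa using this }
    haveI hKn : K.Normal := ⟨fun m hm a x hx => by
      have hx' := afun_mem (a : MulAut D)⁻¹ hx
      have hma := (mem_autGroup hDS).mp a.2.1
      rw [Subgroup.coe_mul, Subgroup.coe_mul, Subgroup.coe_inv, afun_mul _ _ hx,
        afun_mul _ _ hx']
      rw [show x⁻¹ = (afun (a : MulAut D) (afun (a : MulAut D)⁻¹ x))⁻¹ by rw [afun_apply_inv _ hx]]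
      rw [← hma.map_inv hx', ← hma.map_mul (D.inv_mem hx') (afun_mem _ hx')]
      exact hstab a (hm _ hx')⟩
    have hνK : νD.range ≤ K := by
      rintro _ ⟨g, rfl⟩ x hx
      rw [hνDe g hx, cj_div]
      exact hcomm _ (S.inv_mem (hDS hx)) _ g.2
    obtain ⟨-, T, hT⟩ := fullyAutomized_of_fullyNormalized hS hF
      (FusionWeakAlperin.fullyNormalized_of_normal (F := F) hDS
        fun g hg x hx => cj_mem_of_normalizer (hDn hg) hx)
    have hidx : ¬ p ∣ νD.range.index := by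
      have hADle : AD ≤ F.autGroup D := fun a ha => ha.1
      have hle : autInducedBy S D ≤ AD := by
        rw [← range_conjAut D hDn]; rintro _ ⟨g, rfl⟩; exact hνDm g
      have e1 : νD.range = (autInducedBy S D).subgroupOf AD := by
        ext a
        rw [Subgroup.mem_subgroupOf, ← range_conjAut D hDn]
        exact ⟨fun ⟨g, hg⟩ => ⟨g, congrArg Subtype.val hg⟩, fun ⟨g, hg⟩ => ⟨g, Subtype.ext hg⟩⟩
      rw [e1]
      intro hdvd
      apply T.not_dvd_index
      rw [hT]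
      show p ∣ (autInducedBy S D).relIndex (F.autGroup D)
      rw [← Subgroup.relIndex_mul_relIndex _ _ _ hle hADle]
      exact Dvd.dvd.mul_right hdvd _
    let BD : Sylow p AD :=
      (hS.of_surjective νD.rangeRestrict νD.rangeRestrict_surjective).toSylow hidx
    have htopK : Subgroup.normalizer ((BD : Subgroup AD) : Set AD) ⊔ K = ⊤ :=
      Sylow.normalizer_sup_eq_top' BD hνK
    have hnle : Subgroup.normalizer ((BD : Subgroup AD) : Set AD) ≤ K := by
      intro a ha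
      obtain ⟨k, hk⟩ := eq_of_normalize hS hF hAut hDS hDn a.2.1 fun g hg => by
        obtain ⟨k, hk⟩ := (Subgroup.mem_normalizer_iff.mp ha (νD ⟨g, hg⟩)).mp ⟨_, rfl⟩
        refine ⟨k, k.2, fun x hx => ?_⟩
        have hax := afun_mem (a : MulAut D) hx
        rw [← hνDe k hax, hk]
        simp only [Subgroup.coe_mul, Subgroup.coe_inv]
        rw [afun_mul _ _ hax, afun_inv_apply _ hx, afun_mul _ _ hx, hνDe _ hx]
      exact hνK ⟨k, Subtype.ext hk⟩
    intro a
    have : a ∈ K := by rw [← sup_eq_right.mpr hnle, htopK]; exact Subgroup.mem_top a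
    exact this
  -- the kernel of restriction consists of conjugations
  have hRp : IsPGroup p res.ker := by
    refine Cfsg.Agent.TransferPResidual.pResidual_eq_bot_iff.mp (le_bot_iff.mp ?_)
    rw [Cfsg.Agent.TransferPResidual.pResidual_le_iff_coprime]
    rintro ⟨a, ha⟩ hco
    rw [Subgroup.mem_bot]
    refine Subtype.ext (Subtype.ext ?_)
    refine eq_one_of_stabilizes (Q := Q) (hS.to_le hDS) ?_ (fun y hy _ => ?_) (hKall a)
    · rwa [← Subgroup.orderOf_coe, ← Subgroup.orderOf_coe] at hco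
    · rw [← hrese a hy, MonoidHom.mem_ker.mp ha]
      exact afun_one hy
  have hRν : ∀ a ∈ res.ker, ∃ y : ↥S, νD y = a := by
    obtain ⟨-, T, hT⟩ := fullyAutomized_of_fullyNormalized hS hF
      (FusionWeakAlperin.fullyNormalized_of_normal (F := F) hDS
        fun g hg x hx => cj_mem_of_normalizer (hDn hg) hx)
    have hp2 : IsPGroup p ↥((autInducedBy S D).subgroupOf AD ⊔ res.ker) :=
      IsPGroup.to_sup_of_normal_right
        ((isPGroup_autInducedBy hS D).comap_of_injective _ AD.subtype_injective) hRp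
    have hle : (((autInducedBy S D).subgroupOf AD ⊔ res.ker).map AD.subtype).subgroupOf
        (F.autGroup D) = (T : Subgroup (F.autGroup D)) := by
      refine T.3 ((hp2.map _).comap_of_injective _ (F.autGroup D).subtype_injective) ?_
      rw [hT]
      intro x hx
      have hxA : (x : MulAut D) ∈ AD := by
        obtain ⟨g, hg⟩ := (range_conjAut D hDn).ge (hx : (x : MulAut D) ∈ autInducedBy S D)
        have h := hνDm g
        rw [hg] at h
        exact h
      exact ⟨⟨x, hxA⟩, Subgroup.mem_sup_left hx, rfl⟩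
    intro a ha
    have h1 : (⟨a, a.2.1⟩ : F.autGroup D) ∈ (T : Subgroup (F.autGroup D)) := by
      rw [← hle, Subgroup.mem_subgroupOf]
      exact Subgroup.mem_map.mpr ⟨a, Subgroup.mem_sup_right ha, rfl⟩
    rw [hT, Subgroup.mem_subgroupOf, ← range_conjAut D hDn] at h1
    obtain ⟨y, hy⟩ := h1
    exact ⟨y, Subtype.ext hy⟩
  -- a lift of `W`
  set W1 : Subgroup AD := W.comap res with hW1
  obtain ⟨Wt⟩ : Nonempty (Sylow q W1) := inferInstance
  set V1 : Subgroup AD := (Wt : Subgroup W1).map W1.subtype with hV1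
  have hV1q : IsPGroup q V1 := Wt.isPGroup'.map _
  have hV1W : ∀ a ∈ V1, res a ∈ W := by rintro _ ⟨a, -, rfl⟩; exact a.2
  have hinj : ∀ a ∈ V1, res a = 1 → a = 1 := by
    intro a ha h
    have hd : Disjoint res.ker V1 := IsPGroup.disjoint_of_ne p q hqp.symm _ _ hRp hV1q
    exact Subgroup.disjoint_def.mp hd (MonoidHom.mem_ker.mpr h) ha
  have hsurj : ∀ w ∈ W, ∃ a ∈ V1, res a = w := by
    let g : W1 →* W := (res.comp W1.subtype).codRestrict W fun a => a.2
    have hg : Function.Surjective g := by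
      rintro ⟨w, hw⟩
      obtain ⟨a, ha⟩ := hlift w hw
      exact ⟨⟨a, show res a ∈ W from ha ▸ hw⟩, Subtype.ext ha⟩
    have hWq : IsPGroup q W := hXq.to_le inf_le_left
    have htopW : ((Wt.mapSurjective hg : Sylow q W) : Subgroup W) = ⊤ :=
      ((Wt.mapSurjective hg).3 (hWq.of_equiv Subgroup.topEquiv.symm) le_top).symm
    intro w hw
    have hm : (⟨w, hw⟩ : W) ∈ ((Wt.mapSurjective hg : Sylow q W) : Subgroup W) := by
      rw [htopW]; trivial
    rw [Sylow.coe_mapSurjective] at hm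
    obtain ⟨a, ha, hae⟩ := hm
    exact ⟨a, ⟨a, ha, rfl⟩, congrArg Subtype.val hae⟩
  -- the action on the centre of `Q`
  set V := Subgroup.center Q with hV
  let ρA : ↥(F.autGroup Q) →* MulAut V := (centerAut Q).comp (F.autGroup Q).subtype
  let ρ : ↥V1 →* MulAut V := ρA.comp (res.comp V1.subtype)
  let ι : ↥V →* Ω := Q.subtype.comp V.subtype
  have hιQ : ∀ v, ι v ∈ Q := fun v => (v : Q).2
  have hρe : ∀ (a : F.autGroup Q) (v : V), ι (ρA a v) = afun (a : MulAut Q) (ι v) := fun a v =>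
    (afun_coe _ (v : Q)).symm
  have hρV : ∀ (a : ↥V1) (v : V), ι (ρ a v) = afun ((a : AD) : MulAut D) (ι v) := fun a v =>
    (hρe _ v).trans (hrese _ (hιQ v))
  haveI : Fintype ↥V1 := Fintype.ofFinite _
  have hcoV : (Nat.card V).Coprime (Fintype.card ↥V1) := by
    rw [← Nat.card_eq_fintype_card]
    obtain ⟨m, hm⟩ := IsPGroup.iff_card.mp ((hS.to_le hQS).to_subgroup V)
    obtain ⟨n, hn⟩ := IsPGroup.iff_card.mp hV1q
    rw [hm, hn]
    exact Nat.Coprime.pow _ _ ((Nat.coprime_primes Fact.out hq).mpr hqp.symm)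
  have hdec : ∀ d ∈ D, ∃ u : V, FusionSplitting.normHom ρ u = 1 ∧
      ∀ a ∈ V1, afun (a : MulAut D) ((ι u)⁻¹ * d) = (ι u)⁻¹ * d := by
    intro d hd
    have hδ : ∀ a : ↥V1, ∃ v : V, ι v = d * afun ((a : AD) : MulAut D) d⁻¹ := by
      intro a
      have hd' : d⁻¹ ∈ D := D.inv_mem hd
      have hmem : d * afun ((a : AD) : MulAut D) d⁻¹ ∈ Q := by
        have := hKall a d⁻¹ hd'
        rwa [inv_inv] at this
      refine ⟨⟨⟨_, hmem⟩, Subgroup.mem_center_iff.mpr fun y => Subtype.ext ?_⟩, rfl⟩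
      obtain ⟨x, hx, hxy⟩ : ∃ x ∈ Q, afun (res a : MulAut Q) x = (y : Ω) :=
        ⟨_, afun_mem _ y.2, afun_apply_inv _ y.2⟩
      have hc := congrArg (fun b : F.autGroup Q => afun (b : MulAut Q) x)
        (hWc _ (hV1W a a.2) _ ((memD ⟨d⁻¹, hDS hd'⟩).mp hd'))
      simp only [Subgroup.coe_mul, afun_mul _ _ hx, hνe _ hx, hνe _ (afun_mem _ hx)] at hc
      rw [hrese _ (cj_mem_of_normalizer (hQ (hDS hd')) hx), hxy,
        ((mem_autGroup hDS).mp (a : AD).2.1).map_cj hd' (hQD hx)] at hc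
      rw [hrese _ hx] at hxy
      rw [hxy] at hc
      set m := afun ((a : AD) : MulAut D) d⁻¹
      show (y : Ω) * (d * m) = d * m * (y : Ω)
      calc (y : Ω) * (d * m) = d * cj d⁻¹ (y : Ω) * m := by simp only [cj_apply]; group
        _ = d * cj m (y : Ω) * m := by rw [hc]
        _ = d * m * (y : Ω) := by simp only [cj_apply]; group
    choose δ hδe using hδ
    obtain ⟨z, hz⟩ := FusionSplitting.exists_coboundary ρ hcoV δ fun a b => by
      refine Subtype.ext (Subtype.ext ?_)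
      show ι (δ (a * b)) = ι (δ a * ρ a (δ b))
      rw [map_mul, hρV, hδe, hδe, hδe, Subgroup.coe_mul, Subgroup.coe_mul,
        afun_mul _ _ (D.inv_mem hd),
        FusionSysNormal.afun_map_mul _ hd (afun_mem _ (D.inv_mem hd))]
      have h2 : afun ((a : AD) : MulAut D) d⁻¹ * afun ((a : AD) : MulAut D) d = 1 := by
        rw [← FusionSysNormal.afun_map_mul _ (D.inv_mem hd) hd, inv_mul_cancel]
        exact ((mem_autGroup hDS).mp (a : AD).2.1).map_one
      rw [show ∀ m n k : Ω, d * m * (n * k) = d * ((m * n) * k) from fun m n k => by group, h2,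
        one_mul]
    obtain ⟨u, f, hzf, hu, hf⟩ := FusionSplitting.exists_fixed_mul_ker ρ hcoV z
    refine ⟨u, hu, fun a ha => ?_⟩
    have h1 := congrArg ι (hz ⟨a, ha⟩)
    have h2 : z * (ρ ⟨a, ha⟩ z)⁻¹ = u * (ρ ⟨a, ha⟩ u)⁻¹ := by
      rw [hzf, map_mul, hf]
      group
    rw [h2, hδe, map_mul, map_inv, hρV] at h1
    have hu' : ι u ∈ D := hQD (hιQ u)
    have hm := (mem_autGroup hDS).mp a.2.1
    rw [hm.map_mul (D.inv_mem hu') hd, hm.map_inv hu']
    have h3 : afun (a : MulAut D) d = afun (a : MulAut D) (ι u) * (ι u)⁻¹ * d := by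
      have hinv := hm.map_inv hd
      simp only [] at h1
      rw [hinv] at h1
      have h4 := congrArg (fun t => t⁻¹) (congrArg (fun t => d⁻¹ * t) h1)
      simp only [inv_mul_cancel_left, inv_inv, mul_inv_rev] at h4
      exact h4
    rw [h3]
    group
  set U0 := (FusionSplitting.normHom ρ).ker with hU0
  set U : Subgroup Ω := U0.map ι with hU
  have hUQ : U ≤ Q := by rintro _ ⟨v, -, rfl⟩; exact hιQ v
  -- all of `S` normalizes `V1`
  have hMtop : ∀ g : ↥S, νD g ∈ Subgroup.normalizer (V1 : Set AD) := by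
    let M : Subgroup ↥S := (Subgroup.normalizer (V1 : Set AD)).comap νD
    have hMU : M ⊔ U.subgroupOf S = ⊤ := by
      refine eq_top_iff.mpr fun g _ => ?_
      set V' := V1.map (MulAut.conj (νD g)).toMonoidHom with hV'
      have hV'W1 : V' ≤ W1 := by
        rintro _ ⟨a, ha, rfl⟩
        show res (νD g * a * (νD g)⁻¹) ∈ W
        rw [map_mul, map_mul, map_inv, hresν]
        exact hWB _ (hBr.ge ⟨g, rfl⟩) _ (hV1W a ha)
      obtain ⟨T, hT⟩ := ((hV1q.map (MulAut.conj (νD g)).toMonoidHom).of_equiv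
        (Subgroup.subgroupOfEquivOfLe hV'W1).symm).exists_le_sylow
      obtain ⟨c, hc⟩ := MulAction.exists_smul_eq W1 Wt T
      have hcard : Nat.card V' = Nat.card V1 :=
        Nat.card_congr (Subgroup.equivMapOfInjective _ _ (MulAut.conj (νD g)).injective).toEquiv.symm
      have hTeq : V'.subgroupOf W1 = T := by
        refine Subgroup.eq_of_le_of_card_ge hT ?_
        rw [Nat.card_congr (Subgroup.subgroupOfEquivOfLe hV'W1).toEquiv, hcard,
          T.card_eq_multiplicity, ← Wt.card_eq_multiplicity,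
          Nat.card_congr (Subgroup.equivMapOfInjective (Wt : Subgroup W1) _
            W1.subtype_injective).toEquiv, hV1]
      have hV'c : V' = V1.map (MulAut.conj (c : AD)).toMonoidHom := by
        have h1 := congrArg (fun K : Subgroup W1 => K.map W1.subtype) hTeq
        simp only [Subgroup.subgroupOf_map_subtype, inf_eq_left.mpr hV'W1] at h1
        rw [h1, ← hc, Sylow.smul_def, Sylow.pointwise_smul_def, hV1]
        ext z
        simp only [Subgroup.mem_map, Subgroup.mem_pointwise_smul_iff_inv_smul_mem]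
        constructor
        · rintro ⟨⟨x, hx⟩, h, rfl⟩
          exact ⟨_, ⟨_, h, rfl⟩, by simp [MulAut.smul_def, MulAut.conj_apply, mul_assoc]⟩
        · rintro ⟨_, ⟨w, hw, rfl⟩, rfl⟩
          refine ⟨c * w * c⁻¹, ?_, by simp⟩
          simpa [MulAut.smul_def, MulAut.conj_apply, mul_assoc] using hw
      obtain ⟨t, ht, hte⟩ := hsurj _ (c.2 : res (c : AD) ∈ W)
      obtain ⟨y, hy⟩ := hRν ((c : AD) * t⁻¹) (by
        rw [MonoidHom.mem_ker, map_mul, map_inv, hte, mul_inv_cancel])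
      have hy1 : ν y = 1 := by rw [← hresν, hy, map_mul, map_inv, hte, mul_inv_cancel]
      have hyD := hCD y hy1
      obtain ⟨u, hu, hfix⟩ := hdec _ hyD
      let u' : ↥S := ⟨ι u, hQS (hιQ u)⟩
      have hcen : νD (u'⁻¹ * y) ∈ Subgroup.normalizer (V1 : Set AD) := by
        have hcy : ∀ a ∈ V1, a * νD (u'⁻¹ * y) = νD (u'⁻¹ * y) * a := by
          intro a ha
          refine Subtype.ext (afun_ext fun x hx => ?_)
          have hxy : (u'⁻¹ * y : ↥S).1 ∈ D := D.mul_mem (D.inv_mem (hQD (hιQ u))) hyD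
          simp only [Subgroup.coe_mul]
          rw [afun_mul _ _ hx, afun_mul _ _ hx, hνDe _ hx, hνDe _ (afun_mem _ hx),
            ((mem_autGroup hDS).mp a.2.1).map_cj hxy hx]
          congr 1
          exact hfix a ha
        rw [Subgroup.mem_normalizer_iff]
        intro a
        constructor
        · intro ha
          rwa [← hcy a ha, mul_inv_cancel_right]
        · intro ha
          have h := hcy _ ha
          rw [inv_mul_cancel_right] at h
          have h' : a = νD (u'⁻¹ * y) * a * (νD (u'⁻¹ * y))⁻¹ := by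
            exact mul_left_cancel h
          rwa [← h'] at ha
      have hq' : νD (y⁻¹ * g) ∈ Subgroup.normalizer (V1 : Set AD) := by
        rw [map_mul, map_inv, hy]
        have h1 : t ∈ Subgroup.normalizer (V1 : Set AD) := Subgroup.le_normalizer ht
        have h2 : ((c : AD)⁻¹ * νD g) ∈ Subgroup.normalizer (V1 : Set AD) := by
          rw [Subgroup.mem_normalizer_iff]
          intro a
          have key : ∀ z, z ∈ V1 ↔ (c : AD) * z * (c : AD)⁻¹ ∈ V' := by
            intro z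
            rw [hV'c, Subgroup.mem_map_equiv]
            simp [mul_assoc]
          have key2 : ∀ z, z ∈ V1 ↔ νD g * z * (νD g)⁻¹ ∈ V' := by
            intro z
            rw [hV', Subgroup.mem_map_equiv]
            simp [mul_assoc]
          rw [key2 a, key]
          simp [mul_assoc]
        have := mul_mem h1 h2
        rwa [mul_inv_rev, inv_inv, mul_assoc]
      have hgoal : u'⁻¹ * g ∈ M := by
        have := mul_mem hcen hq'
        rwa [← map_mul, mul_assoc, mul_inv_cancel_left] at this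
      have h3 := mul_mem (Subgroup.mem_sup_right (S := M)
        (show u' ∈ U.subgroupOf S from ⟨u, hu, rfl⟩)) (Subgroup.mem_sup_left hgoal)
      rwa [mul_inv_cancel_left] at h3
    have hM : M = ⊤ := frattini_nongenerating (top_le_iff.mp
      (hMU.ge.trans (sup_le_sup_left ((fun x hx => hQΦ (hUQ hx)) : U.subgroupOf S ≤ frattini ↥S) M)))
    intro g
    exact hM.ge (Subgroup.mem_top g)
  -- `U` is central in `D`
  have hUD : ∀ u ∈ U0, ∀ d ∈ D, ι u * d = d * ι u := by
    intro u hu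
    let Z : Subgroup V := (Subgroup.centralizer (D : Set Ω)).comap ι
    suffices hZ : u ∈ Z from fun d hd => (Subgroup.mem_centralizer_iff.mp hZ d hd).symm
    have hZa : ∀ a : ↥V1, ρ a u * u⁻¹ ∈ Z := by
      intro a
      set g : ↥S := ⟨ι u, hQS (hιQ u)⟩ with hg
      have hau : afun ((a : AD) : MulAut D) (ι u) ∈ Q := hstab _ (hιQ u)
      have h2 : νD ⟨afun ((a : AD) : MulAut D) (ι u), hQS hau⟩ =
          (a : AD) * νD g * (a : AD)⁻¹ := by
        refine Subtype.ext (afun_ext fun x hx => ?_)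
        have hx' := afun_mem ((a : AD) : MulAut D)⁻¹ hx
        rw [hνDe _ hx, Subgroup.coe_mul, Subgroup.coe_mul, Subgroup.coe_inv, afun_mul _ _ hx,
          afun_mul _ _ hx', hνDe _ hx',
          ((mem_autGroup hDS).mp (a : AD).2.1).map_cj (hQD (hιQ u)) hx', afun_apply_inv _ hx]
      have h1 : νD ⟨afun ((a : AD) : MulAut D) (ι u), hQS hau⟩ * (νD g)⁻¹ ∈ V1 := by
        rw [h2, show (a : AD) * νD g * (a : AD)⁻¹ * (νD g)⁻¹ =
          (a : AD) * (νD g * (a : AD)⁻¹ * (νD g)⁻¹) by group]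
        exact mul_mem a.2 ((Subgroup.mem_normalizer_iff.mp (hMtop g) _).mp (inv_mem a.2))
      rw [← map_inv, ← map_mul] at h1
      obtain ⟨k, hk⟩ := hS (⟨afun ((a : AD) : MulAut D) (ι u), hQS hau⟩ * g⁻¹)
      obtain ⟨j, hj⟩ := hV1q ⟨_, h1⟩
      have hj' : νD (⟨afun ((a : AD) : MulAut D) (ι u), hQS hau⟩ * g⁻¹) ^ q ^ j = 1 :=
        congrArg Subtype.val hj
      have hk' : νD (⟨afun ((a : AD) : MulAut D) (ι u), hQS hau⟩ * g⁻¹) ^ p ^ k = 1 := by
        rw [← map_pow, hk, map_one]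
      have h0 := pow_gcd_eq_one.mpr ⟨hj', hk'⟩
      rw [(Nat.Coprime.pow _ _ ((Nat.coprime_primes hq Fact.out).mpr hqp)).gcd_eq_one,
        pow_one] at h0
      show ι (ρ a u * u⁻¹) ∈ Subgroup.centralizer (D : Set Ω)
      refine Subgroup.mem_centralizer_iff.mpr fun d hd => ?_
      have h5 := congrArg (fun b : AD => afun (b : MulAut D) d) h0
      simp only [hνDe _ hd, Subgroup.coe_one, afun_one hd] at h5
      rw [map_mul, map_inv, hρV]
      exact (mul_inv_eq_iff_eq_mul.mp h5).symm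
    have h6 : u ^ Fintype.card ↥V1 ∈ Z := by
      rw [FusionSplitting.pow_card_eq ρ (MonoidHom.mem_ker.mp hu)]
      exact inv_mem (prod_mem fun a _ => hZa a)
    obtain ⟨k, hk⟩ := exists_pow_eq_self_of_coprime (x := u) (n := Fintype.card ↥V1)
      (Nat.Coprime.coprime_dvd_right (orderOf_dvd_natCard u) hcoV.symm)
    exact hk ▸ pow_mem h6 k
  -- conjugation by `S` on `V1` and on the centre
  let θ : ↥S →* MulAut V := ρA.comp ν
  let e : ↥S → ↥V1 → ↥V1 := fun g a =>
    ⟨νD g * a * (νD g)⁻¹, (Subgroup.mem_normalizer_iff.mp (hMtop g) _).mp a.2⟩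
  have he1 : ∀ a, e 1 a = a := fun a => Subtype.ext (by simp [e])
  have hemul : ∀ g h a, e (g * h) a = e g (e h a) := fun g h a => Subtype.ext (by simp [e, mul_assoc])
  have hρe' : ∀ g a, ρ (e g a) = θ g * ρ a * (θ g)⁻¹ := fun g a => by
    show ρA (res (νD g * (a : AD) * (νD g)⁻¹)) = ρA (ν g) * ρA (res (a : AD)) * (ρA (ν g))⁻¹
    simp only [map_mul, map_inv, hresν]
  have hnorm : ∀ g v, θ g (FusionSplitting.normHom ρ v) = FusionSplitting.normHom ρ (θ g v) := by
    intro g v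
    rw [FusionSplitting.normHom_apply, FusionSplitting.normHom_apply, map_prod]
    refine Fintype.prod_equiv
      ⟨e g, e g⁻¹, fun a => by rw [← hemul, inv_mul_cancel, he1],
        fun a => by rw [← hemul, mul_inv_cancel, he1]⟩ _ _ fun a => ?_
    show _ = ρ (e g a) (θ g v)
    rw [hρe']
    simp
  have hU0θ : ∀ g, ∀ v ∈ U0, θ g v ∈ U0 := fun g v hv => by
    rw [hU0, MonoidHom.mem_ker, ← hnorm, MonoidHom.mem_ker.mp hv, map_one]
  let θ0 : ↥S →* MulAut U0 :=
    { toFun := fun g =>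
        { toFun := fun v => ⟨θ g v, hU0θ g v v.2⟩
          invFun := fun v => ⟨θ g⁻¹ v, hU0θ g⁻¹ v v.2⟩
          left_inv := fun v => Subtype.ext (by simp)
          right_inv := fun v => Subtype.ext (by simp)
          map_mul' := fun v w => Subtype.ext (map_mul (θ g) (v : V) w) }
      map_one' := MulEquiv.ext fun v => Subtype.ext (show θ 1 v = v by simp)
      map_mul' := fun g h => MulEquiv.ext fun v => Subtype.ext
        (show θ (g * h) v = θ g (θ h v) by simp) }
  have hθι : ∀ g (v : U0), ι (θ0 g v : V) = cj (g : Ω) (ι v) := fun g v =>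
    (hρe (ν g) v).trans (hνe g (hιQ _))
  set D0 := D.subgroupOf S with hD0
  haveI : D0.Normal := ⟨fun d hd g => by
    show ((g * d * g⁻¹ : ↥S) : Ω) ∈ D
    exact cj_mem_of_normalizer (hDn g.2) hd⟩
  haveI : Fintype (↥S ⧸ D0) := Fintype.ofFinite _
  have hθD : ∀ d ∈ D0, θ0 d = 1 := fun d hd => MulEquiv.ext fun v => Subtype.ext (Subtype.ext
    (Subtype.ext (by
      show ι (θ0 d v : V) = ι v
      have h := hUD v v.2 (d : Ω) hd
      rw [hθι, cj_apply, ← h, mul_inv_cancel_right])))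
  have huniq : ∀ d ∈ D, ∀ u v : U0,
      (∀ a ∈ V1, afun (a : MulAut D) ((ι u)⁻¹ * d) = (ι u)⁻¹ * d) →
      (∀ a ∈ V1, afun (a : MulAut D) ((ι v)⁻¹ * d) = (ι v)⁻¹ * d) → u = v := by
    intro d hd u v hu hv
    refine inv_mul_eq_one.mp (Subtype.ext (FusionSplitting.eq_one_of_fixed_of_normHom ρ hcoV
      (MonoidHom.mem_ker.mp (u⁻¹ * v).2) fun a => Subtype.ext (Subtype.ext ?_)))
    show ι (ρ a ((u⁻¹ * v : U0) : V)) = ι ((u⁻¹ * v : U0) : V)
    rw [hρV, show ι ((u⁻¹ * v : U0) : V) = ((ι u)⁻¹ * d) * ((ι v)⁻¹ * d)⁻¹ by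
      simp [mul_assoc]]
    have hm := (mem_autGroup hDS).mp (a : AD).2.1
    have h1 : ∀ w : U0, (ι w)⁻¹ * d ∈ D := fun w => D.mul_mem (D.inv_mem (hQD (hιQ _))) hd
    rw [hm.map_mul (h1 u) (D.inv_mem (h1 v)), hm.map_inv (h1 v), hu _ a.2, hv _ a.2]
  have hdec' : ∀ d : D0, ∃ u : U0, ∀ a ∈ V1,
      afun (a : MulAut D) ((ι u)⁻¹ * ((d : ↥S) : Ω)) = (ι u)⁻¹ * ((d : ↥S) : Ω) := fun d => by
    obtain ⟨u, hu, h⟩ := hdec _ d.2
    exact ⟨⟨u, hu⟩, h⟩
  choose prf hprf using hdec'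
  have hprmul : ∀ d d', prf (d * d') = prf d * prf d' := by
    intro d d'
    refine huniq _ (d * d').2 _ _ (hprf _) fun a ha => ?_
    have hm := (mem_autGroup hDS).mp a.2.1
    have h1 : ∀ d : D0, (ι (prf d))⁻¹ * ((d : ↥S) : Ω) ∈ D :=
      fun d => D.mul_mem (D.inv_mem (hQD (hιQ _))) d.2
    have hsplit : (ι ((prf d * prf d' : U0) : V))⁻¹ * (((d * d' : D0) : ↥S) : Ω) =
        ((ι (prf d))⁻¹ * ((d : ↥S) : Ω)) * ((ι (prf d'))⁻¹ * ((d' : ↥S) : Ω)) := by
      have h4 := hUD _ (prf d').2 _ (h1 d)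
      simp only [Subgroup.coe_mul, map_mul, mul_inv_rev]
      have h6 : (ι (prf d'))⁻¹ * ((ι (prf d))⁻¹ * ((d : ↥S) : Ω)) =
          ((ι (prf d))⁻¹ * ((d : ↥S) : Ω)) * (ι (prf d'))⁻¹ := by
        rw [inv_mul_eq_iff_eq_mul, ← mul_assoc _ _ (ι (prf d') : Ω)⁻¹, h4, mul_inv_cancel_right]
      calc (ι (prf d'))⁻¹ * (ι (prf d))⁻¹ * (((d : ↥S) : Ω) * ((d' : ↥S) : Ω))
          = ((ι (prf d'))⁻¹ * ((ι (prf d))⁻¹ * ((d : ↥S) : Ω))) * ((d' : ↥S) : Ω) := by group
        _ = _ := by rw [h6]; group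
    show afun (a : MulAut D) ((ι ((prf d * prf d' : U0) : V))⁻¹ * (((d * d' : D0) : ↥S) : Ω)) =
      (ι ((prf d * prf d' : U0) : V))⁻¹ * (((d * d' : D0) : ↥S) : Ω)
    rw [hsplit, hm.map_mul (h1 d) (h1 d'), hprf d a ha, hprf d' a ha]
  let pr : D0 →* U0 := MonoidHom.mk' prf hprmul
  -- representatives
  have heD : ∀ d ∈ D0, ∀ a, e d a = a := by
    intro d hd a
    refine Subtype.ext ?_
    have h1 : res ((e d a : AD) * (a : AD)⁻¹) = 1 := by
      simp only [e, map_mul, map_inv, hresν]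
      rw [← hWc _ (hV1W a a.2) _ ((memD d).mp hd)]
      group
    have h2 := hinj _ (mul_mem (e d a).2 (inv_mem a.2)) h1
    exact mul_inv_eq_one.mp h2
  obtain ⟨Rep, hRep1, hRep⟩ := exists_reps D0 e he1 hemul heD
    (fun g a ha h => ha (Subtype.ext (conj_eq_one_iff.mp (congrArg Subtype.val h))))
    (fun g a ha h => by
      refine (memD g).mpr (hfreeW _ (hBr.ge ⟨g, rfl⟩) _ (hV1W a a.2)
        (fun h1 => ha (Subtype.ext (hinj _ a.2 h1))) ?_)
      have h2 := congrArg res (congrArg Subtype.val h)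
      simp only [e, map_mul, map_inv, hresν] at h2
      exact mul_inv_eq_iff_eq_mul.mp h2)
  haveI : Fintype Rep := Fintype.ofFinite _
  let φ0 : U0 → U0 := fun v => ∏ r : Rep, (⟨ρ r v, by
    show ρ r (v : V) ∈ (FusionSplitting.normHom ρ).ker
    rw [MonoidHom.mem_ker, FusionSplitting.normHom_apply_self]
    exact MonoidHom.mem_ker.mp v.2⟩ : U0)⁻¹
  let φ : U0 →* U0 := MonoidHom.mk' φ0 fun v w => by
    simp only [φ0]
    rw [← Finset.prod_mul_distrib]
    refine Finset.prod_congr rfl fun r _ => ?_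
    rw [← mul_inv]
    congr 1
    exact Subtype.ext (map_mul (ρ r) (v : V) w)
  refine Exists.elim (FusionSplitting.exists_crossed D0 θ0 hθD pr ?_ φ ?_) fun P hPP => ?_
  · intro g d hd hd'
    show prf ⟨g * d * g⁻¹, hd'⟩ = θ0 g (prf ⟨d, hd⟩)
    refine huniq _ hd' _ _ (hprf _) fun a ha => ?_
    rw [hθι, Subgroup.subtype_apply, Subgroup.coe_mul, Subgroup.coe_mul, Subgroup.coe_inv]
    have hcD : (ι (prf ⟨d, hd⟩))⁻¹ * (d : Ω) ∈ D := D.mul_mem (D.inv_mem (hQD (hιQ _))) hd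
    rw [show (cj (g : Ω) (ι (prf ⟨d, hd⟩)))⁻¹ * ((g : Ω) * (d : Ω) * (g : Ω)⁻¹) =
      cj (g : Ω) ((ι (prf ⟨d, hd⟩))⁻¹ * (d : Ω)) by simp only [cj_apply]; group]
    have ha' : (νD g)⁻¹ * a * νD g ∈ V1 := by
      have := (Subgroup.mem_normalizer_iff.mp (inv_mem (hMtop g)) a).mp ha
      rwa [inv_inv] at this
    have h5 := congrArg (fun t => afun (νD g : MulAut D) t) (hprf ⟨d, hd⟩ _ ha')
    simp only at h5
    rw [← afun_mul _ _ hcD, hνDe g hcD, ← Subgroup.coe_mul, ← mul_assoc, mul_inv_cancel_left,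
      Subgroup.coe_mul, afun_mul _ _ hcD, hνDe g hcD] at h5
    exact h5
  · intro v
    refine Subtype.ext ?_
    have hker : (∏ a : ↥V1, ρ a (v : V)) = 1 := by
      rw [← FusionSplitting.normHom_apply]; exact MonoidHom.mem_ker.mp v.2
    have hterm : ∀ b : ↥S ⧸ D0, ((θ0 b.out (φ ((θ0 b.out)⁻¹ v)) : U0) : V) =
        ∏ r : Rep, (ρ (e b.out r) (v : V))⁻¹ := by
      intro b
      show θ b.out ((φ0 _ : U0) : V) = _
      simp only [φ0]
      rw [← Subgroup.subtype_apply, map_prod, map_prod]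
      refine Fintype.prod_congr _ _ fun r => ?_
      rw [Subgroup.subtype_apply, Subgroup.coe_inv, map_inv, hρe', MulAut.mul_apply,
        MulAut.mul_apply]
      congr 3
    rw [← Subgroup.subtype_apply, map_prod]
    refine (Fintype.prod_congr _ _ fun b => hterm b).trans ?_
    refine (prod_reps_inv Rep (fun (b : ↥S ⧸ D0) x => e b.out x) hRep
      (fun a => ρ a (v : V)) hker).trans ?_
    show ρ 1 (v : V) = _
    rw [map_one, MulAut.one_apply]
  obtain ⟨hP, hPd⟩ := hPP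
  let ιU : U0 →* ↥S := (ι.comp U0.subtype).codRestrict S fun v => hQS (hιQ _)
  have hιD : ∀ v, ιU v ∈ D0 := fun v => hQD (hιQ _)
  obtain ⟨K, hKsup, hKinf⟩ := FusionSplitting.exists_supplement θ0 P hP ιU
    (fun v => by
      rw [show P (ιU v) = pr ⟨ιU v, hιD v⟩ from hPd ⟨ιU v, hιD v⟩]
      refine huniq _ (hιD v) _ _ (hprf _) fun a _ => ?_
      show afun _ ((ι v)⁻¹ * ι v) = (ι v)⁻¹ * ι v
      rw [inv_mul_cancel]
      exact ((mem_autGroup hDS).mp a.2.1).map_one)
    (fun v => hθD _ (hιD v))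
  have hrange : ιU.range ≤ frattini ↥S := by
    rintro _ ⟨v, rfl⟩
    exact hQΦ (hιQ _)
  have hK : K = ⊤ := frattini_nongenerating (top_le_iff.mp
    (hKsup.ge.trans (sup_le_sup_left hrange K)))
  rw [hK, top_inf_eq] at hKinf
  have hU1 : ∀ v : U0, v = 1 := fun v => by
    have h : ιU v = 1 := by
      have := hKinf.le (MonoidHom.mem_range.mpr ⟨v, rfl⟩ : ιU v ∈ ιU.range)
      rwa [Subgroup.mem_bot] at this
    exact Subtype.ext (Subtype.ext (Subtype.ext (congrArg Subtype.val h :)))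
  -- so `V1` acts trivially on `Q`
  obtain ⟨a, ha, hae⟩ := hsurj w₀ ⟨hw₀X, Subgroup.mem_centralizer_iff.mpr fun l hl => (hw₀ l hl).symm⟩
  apply hw₀1
  rw [← hae]
  refine Subtype.ext (afun_ext fun x hx => ?_)
  rw [hrese a hx, Subgroup.coe_one, afun_one hx]
  have h := hprf ⟨⟨x, hQS hx⟩, hQD hx⟩ a ha
  rw [hU1 (prf _)] at h
  simpa using h

/-- Let F be a saturated fusion system over a finite p-group S whose normalizer fusion system of S is the inner fusion system of S (Aut_F(S) is a p-group). Then for every subgroup Q of S with [S, S] ≤ Q ≤ Φ(S), the normalizer fusion system of Q in F is the inner fusion system of N_S(Q) = S. -/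
theorem result {Ω : Type*} [Group Ω] {S : Subgroup Ω} [Finite S] (p : ℕ) [Fact p.Prime] (hS : IsPGroup p S) (F : Cfsg.FusionSystem S) (hF : F.IsSaturated p) (hN : ∀ N : Cfsg.FusionSystem (Cfsg.FusionSystem.normalizerIn S S), F.IsNormalizerSystem S N → ∀ P : Subgroup Ω, N.Hom P = (Cfsg.innerFusionSystem (Cfsg.FusionSystem.normalizerIn S S)).Hom P) (Q : Subgroup Ω) (h1 : (commutator ↥S).map S.subtype ≤ Q) (h2 : Q ≤ (frattini ↥S).map S.subtype) : ∀ N : Cfsg.FusionSystem (Cfsg.FusionSystem.normalizerIn S Q), F.IsNormalizerSystem Q N → ∀ P : Subgroup Ω, N.Hom P = (Cfsg.innerFusionSystem (Cfsg.FusionSystem.normalizerIn S Q)).Hom P := by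
  classical
  have hnSS : normalizerIn S S = S := le_antisymm inf_le_left (le_normalizerIn le_rfl)
  have hAut : ∀ f : Ω → Ω, Mor F S f → ∃ g ∈ S, ∀ x ∈ S, f x = cj g x := by
    intro f hf
    have hNS := FusionSysNormal.isNormalizerSystem_normalizerSystem (F := F) S le_rfl
    have hm : Mor (FusionSysNormal.normalizerSystem F S le_rfl) S f :=
      (FusionSysNormal.mor_normalizerSystem_iff hNS).mpr ⟨hf, hnSS.ge,
        fun x hx => hnSS.ge (hf.apply_mem hx), f, by rwa [sup_idem], fun _ _ => rfl,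
        hf.im_self fun x hx => hf.apply_mem hx⟩
    obtain ⟨φ, hφ, he⟩ := hm
    rw [hN _ hNS S] at hφ
    obtain ⟨-, g, hg, hge⟩ := hφ
    exact ⟨g, hg.1, fun x hx => by rw [← he ⟨x, hx⟩, hge]; rfl⟩
  have hQS : Q ≤ S := h2.trans (Subgroup.map_subtype_le _)
  have hcomm : ∀ g ∈ S, ∀ h ∈ S, ⁅g, h⁆ ∈ Q := fun g hg h hh =>
    h1 ⟨⁅(⟨g, hg⟩ : ↥S), ⟨h, hh⟩⁆, Subgroup.commutator_mem_commutator (Subgroup.mem_top _)
      (Subgroup.mem_top _), map_commutatorElement S.subtype _ _⟩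
  have hQΦ : Q.subgroupOf S ≤ frattini ↥S := fun x hx => by
    obtain ⟨y, hy, e⟩ := h2 hx
    rwa [← Subtype.ext (e : (y : Ω) = x)]
  have hnor : ∀ R, Q ≤ R → R ≤ S → S ≤ Subgroup.normalizer (R : Set Ω) := fun R hQR hRS g hg =>
    mem_normalizer_of_cj_le hRS fun x hx => by
      rw [show cj g x = ⁅g, x⁆ * x by rw [commutatorElement_def, cj_apply]; group]
      exact R.mul_mem (hQR (hcomm g hg x (hRS hx))) hx
  have hQn := hnor Q le_rfl hQS
  have hQ := fun {α : MulAut Q} (hα : α ∈ F.autGroup Q) =>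
    autGroup_inner hS hF hAut hQS hcomm hQΦ hQn hα
  -- maps fixing `Q` between subgroups containing it
  have key : ∀ (R : Subgroup Ω) (f : Ω → Ω), Q ≤ R → Mor F R f → im Q f = Q →
      ∃ g ∈ S, ∀ x ∈ R, f x = cj g x := by
    intro R f hQR hf hfQ
    set R' := im R f with hR'
    have hQR' : Q ≤ R' := hfQ.ge.trans (im_mono hQR)
    have hR'S : R' ≤ S := hf.im_le
    have hRn := hnor R hQR hf.le
    have hR'n := hnor R' hQR' hR'S
    haveI := finite_of_le hR'S
    haveI := finite_autGroup (F := F) R'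
    let A : Subgroup (F.autGroup R') :=
      { carrier := {a | ∀ x ∈ R', afun (a : MulAut R') x ∈ Q ↔ x ∈ Q}
        one_mem' := fun x hx => by rw [Subgroup.coe_one, afun_one hx]
        mul_mem' := fun {a b} ha hb x hx => by
          rw [Subgroup.coe_mul, afun_mul _ _ hx, ha _ (afun_mem _ hx), hb x hx]
        inv_mem' := fun {a} ha x hx => by
          rw [Subgroup.coe_inv, ← ha _ (afun_mem _ hx), afun_apply_inv _ hx] }
    have hfn' := FusionWeakAlperin.fullyNormalized_of_normal (F := F) hR'S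
      fun g hg x hx => cj_mem_of_normalizer (hR'n hg) hx
    obtain ⟨-, T, hT⟩ := fullyAutomized_of_fullyNormalized hS hF hfn'
    have hTA : (T : Subgroup (F.autGroup R')) ≤ A := by
      intro a ha x hx
      rw [hT, Subgroup.mem_subgroupOf] at ha
      obtain ⟨g, hg, -, hge⟩ := mem_autInducedBy.mp ha
      rw [hge x hx]
      exact (Subgroup.mem_normalizer_iff.mp (hQn hg) x).symm
    have hAK : ∀ a ∈ A, (orderOf (a : MulAut R')).Coprime p →
        (∀ x ∈ R', x⁻¹ * afun (a : MulAut R') x ∈ Q) → (a : MulAut R') = 1 := by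
      intro a ha hco hst
      refine eq_one_of_stabilizes (hS.to_le hR'S) hco (fun y hy hyR => ?_) hst
      obtain ⟨γ, hγ, hγe⟩ := (((mem_autGroup hR'S).mp a.2).restrict_to hQR').exists_aut
        (((((mem_autGroup hR'S).mp a.2).restrict_to hQR')).im_self fun z hz =>
          (ha z (hQR' hz)).mpr hz)
      obtain ⟨g, hg⟩ := hQ hγ
      have hpow : ∀ (k : ℕ) (z : Ω), z ∈ Q → afun (γ ^ k) z = afun ((a : MulAut R') ^ k) z := by
        intro k
        induction k with
        | zero => intro z hz; rw [pow_zero, pow_zero, afun_one hz, afun_one (hQR' hz)]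
        | succ k ih =>
          intro z hz
          rw [pow_succ, pow_succ, afun_mul _ _ hz, afun_mul _ _ (hQR' hz), ← hγe z hz]
          exact ih _ (afun_mem γ hz)
      have hγo : orderOf γ ∣ orderOf (a : MulAut R') := orderOf_dvd_of_pow_eq_one
        (afun_ext fun z hz => by
          rw [hpow _ z hz, pow_orderOf_eq_one, afun_one (hQR' hz), afun_one hz])
      obtain ⟨k, hk⟩ := hS g
      have hγ1 : γ = 1 := by
        have h0 : γ ^ p ^ k = 1 := by rw [← hg, ← map_pow, hk, map_one]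
        have := pow_gcd_eq_one.mpr ⟨pow_orderOf_eq_one γ, h0⟩
        rwa [((Nat.Coprime.coprime_dvd_left hγo hco).pow_right k).gcd_eq_one, pow_one] at this
      rw [← hγe y hy, hγ1, afun_one hy]
    -- the stabilizer of `R'/Q`
    let K : Subgroup (F.autGroup R') :=
      { carrier := {a | a ∈ A ∧ ∀ x ∈ R', x⁻¹ * afun (a : MulAut R') x ∈ Q}
        one_mem' := ⟨one_mem _, fun x hx => by rw [Subgroup.coe_one, afun_one hx]; simp⟩
        mul_mem' := fun {a b} ⟨ha, ha'⟩ ⟨hb, hb'⟩ => ⟨mul_mem ha hb, fun x hx => by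
          rw [Subgroup.coe_mul, afun_mul _ _ hx]
          have := mul_mem (hb' x hx) (ha' _ (afun_mem (b : MulAut R') hx))
          simpa [mul_assoc] using this⟩
        inv_mem' := fun {a} ⟨ha, ha'⟩ => ⟨inv_mem ha, fun x hx => by
          rw [Subgroup.coe_inv]
          have := inv_mem (ha' _ (afun_mem (a : MulAut R')⁻¹ hx))
          rw [afun_apply_inv _ hx] at this
          simpa using this⟩ }
    have hKp : IsPGroup p K := by
      refine Cfsg.Agent.TransferPResidual.pResidual_eq_bot_iff.mp (le_bot_iff.mp ?_)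
      rw [Cfsg.Agent.TransferPResidual.pResidual_le_iff_coprime]
      rintro ⟨a, ha, ha'⟩ hco
      rw [Subgroup.mem_bot]
      refine Subtype.ext (Subtype.ext (hAK a ha ?_ ha'))
      rwa [← Subgroup.orderOf_coe, ← Subgroup.orderOf_coe] at hco
    have hTK : K = (T : Subgroup (F.autGroup R')) := by
      refine T.3 hKp fun a ha => ⟨hTA ha, fun x hx => ?_⟩
      rw [hT, Subgroup.mem_subgroupOf] at ha
      obtain ⟨g, hg, -, hge⟩ := mem_autInducedBy.mp ha
      rw [hge x hx, cj_div]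
      exact hcomm _ (S.inv_mem (hR'S hx)) _ hg
    have hAinn : ∀ a ∈ A, ∃ g ∈ S, ∀ x ∈ R', afun (a : MulAut R') x = cj g x := by
      intro a ha
      obtain ⟨g, hg⟩ := eq_of_normalize hS hF hAut hR'S hR'n a.2 fun g hg => by
        have hgK : (⟨conjAut R' hR'n ⟨g, hg⟩,
            autInducedBy_le hR'S ((range_conjAut R' hR'n).le ⟨_, rfl⟩)⟩ : F.autGroup R') ∈ K := by
          rw [hTK, hT]
          exact (range_conjAut R' hR'n).le ⟨_, rfl⟩
        set c : F.autGroup R' := ⟨conjAut R' hR'n ⟨g, hg⟩, _⟩ with hc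
        have hconjK : a * c * a⁻¹ ∈ K := by
          refine ⟨mul_mem (mul_mem ha hgK.1) (inv_mem ha), fun x hx => ?_⟩
          have hx' := afun_mem (a : MulAut R')⁻¹ hx
          have hma := (mem_autGroup hR'S).mp a.2
          rw [Subgroup.coe_mul, Subgroup.coe_mul, Subgroup.coe_inv, afun_mul _ _ hx,
            afun_mul _ _ hx', show x⁻¹ = (afun (a : MulAut R') (afun (a : MulAut R')⁻¹ x))⁻¹ by
              rw [afun_apply_inv _ hx]]
          rw [← hma.map_inv hx', ← hma.map_mul (R'.inv_mem hx') (afun_mem _ hx')]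
          exact (ha _ (R'.mul_mem (R'.inv_mem hx') (afun_mem _ hx'))).mpr (hgK.2 _ hx')
        rw [hTK, hT, Subgroup.mem_subgroupOf] at hconjK
        obtain ⟨k, hk, -, hke⟩ := mem_autInducedBy.mp hconjK
        refine ⟨k, hk, fun x hx => ?_⟩
        rw [← hke _ (afun_mem _ hx), Subgroup.coe_mul, Subgroup.coe_mul, Subgroup.coe_inv,
          afun_mul _ _ (afun_mem _ hx), afun_inv_apply _ hx, afun_mul _ _ hx, hc,
          afun_conjAut R' hR'n _ hx]
      exact ⟨g, g.2, fun x hx => by rw [← hg, afun_conjAut R' hR'n _ hx]⟩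
    obtain ⟨f', hf', hag⟩ := (receptive_iff.mp (receptive_of_fullyNormalized hS hF hfn')).2 R f S
      hf rfl le_rfl hRn fun g hg => by
        obtain ⟨j, hj, hjl, hjr, hjR⟩ := hf.exists_inv
        have hm : Mor F R' (f ∘ (cj g ∘ j)) :=
          (hj.comp (mor_cj hf.le hg) hjR).comp hf fun y hy =>
            cj_mem_of_normalizer (hRn hg) (hjR y hy)
        obtain ⟨a, ha, hae⟩ := hm.exists_aut (hm.im_self fun y hy =>
          apply_mem_im (cj_mem_of_normalizer (hRn hg) (hjR y hy)))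
        have haA : (⟨a, ha⟩ : F.autGroup R') ∈ A := by
          intro y hy
          rw [hae y hy]
          have hfQ' : ∀ z ∈ R, f z ∈ Q ↔ z ∈ Q := fun z hz => ⟨fun h => by
              obtain ⟨z', hz', e⟩ := (hf.restrict_to hQR).mem_im.mp (hfQ.symm ▸ h)
              rwa [← hf.injOn (hQR hz') hz e],
            fun h => hfQ ▸ apply_mem_im h⟩
          show f (cj g (j y)) ∈ Q ↔ y ∈ Q
          rw [hfQ' _ (cj_mem_of_normalizer (hRn hg) (hjR y hy))]
          conv_rhs => rw [← hjr y hy, hfQ' _ (hjR y hy)]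
          exact (Subgroup.mem_normalizer_iff.mp (hQn hg) _).symm
        obtain ⟨k, hk, hke⟩ := hAinn _ haA
        refine ⟨k, hk, fun x hx => ?_⟩
        have hfx : f x ∈ R' := apply_mem_im hx
        rw [← hke _ hfx, hae _ hfx]
        show _ = f (cj g (j (f x)))
        rw [hjl x hx]
    rw [sup_eq_right.mpr hf.le] at hf'
    obtain ⟨g, hg, hge⟩ := hAut f' hf'
    exact ⟨g, hg, fun x hx => (hag x hx).symm.trans (hge x (hf.le hx))⟩
  intro N hNs P
  have hNQ : normalizerIn S Q = S := le_antisymm inf_le_left fun g hg => ⟨hg, hQn hg⟩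
  refine Set.Subset.antisymm (fun φ hφ => ?_) fun φ hφ => ?_
  · have hm : Mor N P (toFun φ) := mor_toFun hφ
    obtain ⟨-, hP', -, f, hf, hfe, hfQ⟩ := (FusionSysNormal.mor_normalizerSystem_iff hNs).mp hm
    obtain ⟨g, hg, hge⟩ := key (P ⊔ Q) f le_sup_right hf hfQ
    refine ⟨hP', g, hNQ.ge hg, fun x => ?_⟩
    rw [← toFun_coe φ x, ← hfe x x.2, hge x (Subgroup.mem_sup_left x.2)]
    rfl
  · obtain ⟨hP', g, hg, he⟩ := hφ
    have : φ = conjHom P g := MonoidHom.ext fun x => (he x).trans rfl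
    exact this ▸ N.conj_mem hP' hg

end Cfsg.Agent.S5222
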