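import Cfsg.Statements.S5223
import Cfsg.Agent.Lib.FusionPPower

set_option autoImplicit false
open Cfsg

namespace Cfsg.Agent.S5223

/-- Let F be a saturated fusion system over a finite p-group S. Suppose there are subgroups Q₀ = S, Q₁, …, Qₙ = 1 (not required to be nested) such that for each i < n the focal subgroup of Qᵢ (generated by the elements x⁻¹φ(x), x ∈ Qᵢ, φ a map of F defined on the cyclic group generated by x) lies in Qᵢ₊₁. Then F is the inner fusion system of S. -/
theorem result {Ω : Type*} [Group Ω] {S : Subgroup Ω} [Finite S] (p : ℕ) [Fact p.Prime] (hS : IsPGroup p S) (F : Cfsg.FusionSystem S) (hF : F.IsSaturated p) (n : ℕ) (Q : Fin (n + 1) → Subgroup Ω) (hQ0 : Q 0 = S) (hQn : Q (Fin.last n) = ⊥) (hstep : ∀ i : Fin n, Subgroup.closure {y : Ω | ∃ x ∈ Q i.castSucc, ∃ φ ∈ F.Hom (Subgroup.zpowers x), y = x⁻¹ * φ ⟨x, Subgroup.mem_zpowers x⟩} ≤ Q i.succ) : ∀ P : Subgroup Ω, F.Hom P = (Cfsg.innerFusionSystem S).Hom P := by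
  refine Cfsg.Agent.FusionPPower.hom_eq_inner hS hF fun P hP α hα hc => ?_
  have hfix : ∀ i : Fin (n + 1), ∀ x : ↥P, (x : Ω) ∈ Q i → α x = x := by
    intro i
    induction i using Fin.reverseInduction with
    | last =>
      intro x hx
      rw [hQn, Subgroup.mem_bot] at hx
      rw [show x = 1 from Subtype.ext hx, map_one]
    | cast i ih =>
      intro x hx
      have hm := (Cfsg.Agent.FusionSysBasic.mem_autGroup hP).mp hα
      obtain ⟨φ, hφ, he⟩ := hm.restrict_to
        (Subgroup.zpowers_le.mpr x.2 : Subgroup.zpowers (x : Ω) ≤ P)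
      have hy : ((x⁻¹ * α x : ↥P) : Ω) ∈ Q i.succ := by
        refine hstep i (Subgroup.subset_closure ⟨x, hx, φ, hφ, ?_⟩)
        rw [he, Cfsg.Agent.FusionSysBasic.afun_apply α x.2]
        rfl
      set y := x⁻¹ * α x with hydef
      have hy' : α y = y := ih y hy
      have key : ∀ k : ℕ, (α ^ k) x = x * y ^ k := by
        intro k
        induction k with
        | zero => simp
        | succ k ihk =>
          rw [pow_succ', MulAut.mul_apply, ihk, map_mul, map_pow, hy', pow_succ' y]
          have hx' : α x = x * y := by rw [hydef, mul_inv_cancel_left]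
          rw [hx', mul_assoc]
      have h1 := key (orderOf α)
      rw [pow_orderOf_eq_one, MulAut.one_apply, left_eq_mul] at h1
      obtain ⟨k, hk⟩ := (IsPGroup.iff_orderOf.mp (hS.to_le hP)) y
      obtain ⟨j, hj⟩ := exists_pow_eq_self_of_coprime (x := y) (n := orderOf α)
        (hk.symm ▸ hc.pow_right k)
      rw [h1, one_pow] at hj
      exact (inv_mul_eq_one.mp (hydef ▸ hj.symm : x⁻¹ * α x = 1)).symm
  refine MulEquiv.ext fun x => ?_
  exact hfix 0 x (hQ0 ▸ hP x.2)

end Cfsg.Agent.S5223
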