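import Cfsg.Statements.S5224
import Cfsg.Agent.Lib.FusionFocal
import Cfsg.Agent.Lib.FusionPPower

set_option autoImplicit false
open Cfsg

namespace Cfsg.Agent.S5224

/-- Tate's Theorem for fusion systems. Let F be a saturated fusion system over a finite p-group S and H a saturated fusion system over S contained in F. Then the following are equivalent: the elementary focal subgroups Φ(S)·foc agree for F and H; the focal subgroups of F and H agree; the hyperfocal subgroups of F and H agree. -/
theorem result {Ω : Type*} [Group Ω] {S : Subgroup Ω} [Finite S] (p : ℕ) [Fact p.Prime] (hS : IsPGroup p S) (F : Cfsg.FusionSystem S) (hF : F.IsSaturated p) (H : Cfsg.FusionSystem S) (hH : H.IsSaturated p) (hHF : H.IsSubsystemOf F) : (((frattini ↥S).map S.subtype ⊔ F.focalSubgroup) = ((frattini ↥S).map S.subtype ⊔ H.focalSubgroup) ↔ F.focalSubgroup = H.focalSubgroup) ∧ (F.focalSubgroup = H.focalSubgroup ↔ F.hyperfocalSubgroup p = H.hyperfocalSubgroup p) := by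
  have hfocle : H.focalSubgroup ≤ F.focalSubgroup := by
    refine FusionFocal.focal_le_iff.mpr fun P f hf x hx => ?_
    obtain ⟨φ, hφ, he⟩ := hf
    exact FusionFocal.gen_mem_focal ⟨φ, hHF P hφ, he⟩ hx
  have hhyple := FusionPPower.hyperfocal_mono (p := p) hHF
  refine ⟨⟨fun h => ?_, fun h => by rw [h]⟩, ⟨fun h => ?_, fun h => ?_⟩⟩
  · refine le_antisymm (FusionFocal.focal_le_of_le_sup_frattini hS hF hfocle
      FusionFocal.commutator_le_focal ?_) hfocle
    rw [sup_comm]
    exact (le_sup_right (a := (frattini ↥S).map S.subtype)).trans h.le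
  · refine le_antisymm (FusionFocal.hyperfocal_le_of_le_sup_commutator hS hF hhyple
      (fun s hs x hx => FusionInduct88.cj_mem_hyperfocal hs hx) ?_) hhyple
    rw [← FusionFocal.focal_eq hS hH, ← h]
    exact FusionFocal.hyperfocal_le_focal
  · rw [FusionFocal.focal_eq hS hF, FusionFocal.focal_eq hS hH, h]

end Cfsg.Agent.S5224
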