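import Cfsg.Statements.S5225
import Cfsg.Agent.Lib.FusionOrbits89
import Cfsg.Agent.Lib.FusionFocal
import Cfsg.Agent.Lib.MonomialWreath89
import Cfsg.Agent.Lib.PGroupsBasic

set_option autoImplicit false
open Cfsg

namespace Cfsg.Agent.S5225

open Cfsg.FusionSystem Cfsg.Agent.FusionSysBasic Cfsg.Agent.FusionBiset Cfsg.Agent.FusionTransfer
open Cfsg.Agent.FusionFocal Cfsg.Agent.FusionOrbits89

/-- A character of order dividing `p` invariant under `Aut_F(S)` and not under `F`. -/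
theorem exists_char {Ω : Type*} [Group Ω] {S : Subgroup Ω} [Finite S] (p : ℕ) [Fact p.Prime]
    (hS : IsPGroup p S) (F : Cfsg.FusionSystem S) (hF : F.IsSaturated p)
    (N : Cfsg.FusionSystem (Cfsg.FusionSystem.normalizerIn S S)) (hN : F.IsNormalizerSystem S N)
    (hne : N.focalSubgroup ≠ F.focalSubgroup) :
    ∃ ρ : ↥S →* Multiplicative (ZMod p),
      (∀ g, Mor F S g → ∀ u v : ↥S, g (u : Ω) = (v : Ω) → ρ u = ρ v) ∧
      ∃ (x y : ↥S) (P : Subgroup Ω) (g : Ω → Ω),
        Mor F P g ∧ (x : Ω) ∈ P ∧ g (x : Ω) = (y : Ω) ∧ ρ x ≠ ρ y := by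
  have hnS : normalizerIn S S = S := inf_eq_left.mpr Subgroup.le_normalizer
  have hNF : N.focalSubgroup ≤ F.focalSubgroup := focal_le_iff.mpr fun P f hf x hx =>
    gen_mem_focal ((FusionSysNormal.mor_normalizerSystem_iff hN).mp hf).1 hx
  have hcN : ⁅(S : Subgroup Ω), S⁆ ≤ N.focalSubgroup := by
    have h := commutator_le_focal (F := N)
    exact (Subgroup.commutator_mono hnS.ge hnS.ge).trans h
  have hSN : ∀ g, Mor F S g → ∀ x ∈ S, x⁻¹ * g x ∈ N.focalSubgroup := fun g hg x hx =>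
    gen_mem_focal ((FusionSysNormal.mor_normalizerSystem_iff hN).mpr ⟨hg, hnS.ge,
      fun y hy => hnS.ge (hg.apply_mem hy), g, by rwa [sup_idem], fun _ _ => rfl,
      hg.im_self fun y hy => hg.apply_mem hy⟩) hx
  have hx0 : ¬ F.focalSubgroup ≤ N.focalSubgroup ⊔ (frattini ↥S).map S.subtype := fun h =>
    hne (le_antisymm hNF (focal_le_of_le_sup_frattini hS hF hNF hcN h))
  obtain ⟨x₀, hx₀, hx₀'⟩ := Set.not_subset.mp hx0
  have hfS : F.focalSubgroup ≤ S := FusionFocal.focal_le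
  set H := N.focalSubgroup.subgroupOf S ⊔ frattini ↥S with hH
  have hmap : H.map S.subtype = N.focalSubgroup ⊔ (frattini ↥S).map S.subtype := by
    rw [hH, Subgroup.map_sup, Subgroup.map_subgroupOf_eq_of_le (hNF.trans hfS)]
  set x₁ : ↥S := ⟨x₀, hfS hx₀⟩
  have hx₁ : x₁ ∉ H := fun h => hx₀' (hmap ▸ ⟨x₁, h, rfl⟩)
  obtain ⟨K, ⟨hHK, hxK⟩, hKmax⟩ :=
    Set.Finite.exists_maximal (s := {K : Subgroup ↥S | H ≤ K ∧ x₁ ∉ K})
      (Set.toFinite _) ⟨H, le_rfl, hx₁⟩
  have hcS : commutator ↥S ≤ K := by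
    refine le_trans ?_ ((le_sup_left : _ ≤ H).trans hHK)
    rw [← Subgroup.map_subtype_le_map_subtype, Subgroup.map_subtype_commutator,
      Subgroup.map_subgroupOf_eq_of_le (hNF.trans hfS)]
    exact hcN
  haveI hKn : K.Normal := ⟨fun a ha b => by
    have := K.mul_mem (hcS (Subgroup.commutator_mem_commutator (Subgroup.mem_top b)
      (Subgroup.mem_top a))) ha
    simpa [commutatorElement_def] using this⟩
  have hKtop : K ≠ ⊤ := fun h => hxK (h ▸ Subgroup.mem_top _)
  obtain ⟨M, hMn, hMi, hKM⟩ := PGroupsBasic.exists_normal_index_eq hS hKtop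
  have hxM : x₁ ∉ M := by
    intro hx
    obtain ⟨z, hz⟩ : ∃ z, z ∉ M := by
      by_contra h
      push Not at h
      rw [(Subgroup.eq_top_iff' M).mpr h, Subgroup.index_top] at hMi
      exact (Fact.out : p.Prime).ne_one hMi.symm
    have hle : K ≤ K ⊔ Subgroup.zpowers z := le_sup_left
    have hxz : x₁ ∈ K ⊔ Subgroup.zpowers z := by
      by_contra h
      exact hz (hKM (hKmax ⟨hHK.trans hle, h⟩ hle
        (Subgroup.mem_sup_right (Subgroup.mem_zpowers z))))
    obtain ⟨k, hk, w, hw, e⟩ := Subgroup.mem_sup_of_normal_left.mp hxz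
    obtain ⟨i, rfl⟩ := Subgroup.mem_zpowers_iff.mp hw
    have hzi : z ^ i ∈ M := by
      have := M.mul_mem (M.inv_mem (hKM hk)) hx
      rwa [← e, inv_mul_cancel_left] at this
    have hpz : z ^ p ∈ K := hHK (Subgroup.mem_sup_right (PGroupsBasic.pow_mem_frattini hS z))
    by_cases hpi : (p : ℤ) ∣ i
    · obtain ⟨j, rfl⟩ := hpi
      apply hxK
      rw [← e, zpow_mul, zpow_natCast]
      exact K.mul_mem hk (K.zpow_mem hpz j)
    · obtain ⟨u, v, huv⟩ := (Nat.prime_iff_prime_int.mp Fact.out).coprime_iff_not_dvd.mpr hpi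
      apply hz
      rw [← zpow_one z, ← huv, zpow_add, mul_comm u, mul_comm v, zpow_mul, zpow_mul, zpow_natCast]
      exact M.mul_mem (M.zpow_mem (hKM hpz) u) (M.zpow_mem hzi v)
  haveI := hMn
  have hcard : Nat.card (↥S ⧸ M) = p := hMi
  let e : ↥S ⧸ M ≃* Multiplicative (ZMod p) :=
    mulEquivOfPrimeCardEq (p := p) hcard (by
      rw [Nat.card_congr Multiplicative.toAdd, Nat.card_zmod])
  let ρ : ↥S →* Multiplicative (ZMod p) := e.toMonoidHom.comp (QuotientGroup.mk' M)
  have hρ : ∀ u v : ↥S, ρ u = ρ v ↔ u⁻¹ * v ∈ M := fun u v =>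
    e.injective.eq_iff.trans QuotientGroup.eq
  refine ⟨ρ, fun g hg u v huv => (hρ u v).mpr (hKM (hHK (Subgroup.mem_sup_left ?_))), ?_⟩
  · rw [Subgroup.mem_subgroupOf, Subgroup.coe_mul, Subgroup.coe_inv, ← huv]
    exact hSN g hg u u.2
  · by_contra hno
    push Not at hno
    apply hxM
    have : F.focalSubgroup ≤ M.map S.subtype := focal_le_iff.mpr fun P g hg a ha =>
      ⟨⟨a⁻¹ * g a, S.mul_mem (S.inv_mem (hg.le ha)) (hg.apply_mem ha)⟩,
        (hρ ⟨a, hg.le ha⟩ ⟨g a, hg.apply_mem ha⟩).mp (hno _ _ P g hg ha rfl), rfl⟩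
    obtain ⟨w, hw, hwe⟩ := this hx₀
    rwa [show x₁ = w from Subtype.ext hwe.symm]

theorem eq_one_of_pow {p : ℕ} [Fact p.Prime] {a : Multiplicative (ZMod p)} {k : ℤ}
    (hk : ¬ (p : ℤ) ∣ k) (h : a ^ k = 1) : a = 1 := by
  obtain ⟨u, v, huv⟩ := (Nat.prime_iff_prime_int.mp Fact.out).coprime_iff_not_dvd.mpr hk
  have hp' : a ^ (p : ℤ) = 1 := by
    rw [zpow_natCast]
    exact Multiplicative.toAdd.injective (by simp)
  rw [← zpow_one a, ← huv, zpow_add, mul_comm u, mul_comm v, zpow_mul, zpow_mul, hp', h, one_zpow,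
    one_zpow, one_mul]

/-- The wreath quotient. -/
theorem exists_wreath {Ω : Type*} [Group Ω] {S : Subgroup Ω} [Finite S] (p : ℕ) [Fact p.Prime]
    (hS : IsPGroup p S) (F : Cfsg.FusionSystem S) (hF : F.IsSaturated p)
    (ρ : ↥S →* Multiplicative (ZMod p))
    (hN : ∀ g, Mor F S g → ∀ u v : ↥S, g (u : Ω) = (v : Ω) → ρ u = ρ v)
    (hne : ∃ (x y : ↥S) (P : Subgroup Ω) (g : Ω → Ω),
      Mor F P g ∧ (x : Ω) ∈ P ∧ g (x : Ω) = (y : Ω) ∧ ρ x ≠ ρ y) :
    ∃ (W : Sylow p (Equiv.Perm (Fin (p ^ 2))))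
      (f : ↥S →* ↥(W : Subgroup (Equiv.Perm (Fin (p ^ 2))))), Function.Surjective f := by
  classical
  let χ : Ω → Multiplicative (ZMod p) := fun x => if h : x ∈ S then ρ ⟨x, h⟩ else 1
  have hχv : ∀ x : ↥S, χ (x : Ω) = ρ x := fun x => dif_pos x.2
  have hχ : IsInvHom S S χ := by
    refine ⟨fun x hx y hy => ?_, fun s hs x hx => ?_⟩
    · rw [hχv ⟨x, hx⟩, hχv ⟨y, hy⟩, ← map_mul]
      exact hχv (⟨x, hx⟩ * ⟨y, hy⟩)
    · have := hχv (⟨s, hs⟩ * ⟨x, hx⟩ * ⟨s, hs⟩⁻¹)
      rw [map_mul, map_mul, map_inv, mul_inv_cancel_comm, ← hχv ⟨x, hx⟩] at this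
      exact this
  have hne' : ∃ n : ℕ, ∃ (x y : ↥S) (P : Subgroup Ω) (g : Ω → Ω),
      Mor F P g ∧ (x : Ω) ∈ P ∧ g (x : Ω) = (y : Ω) ∧ ρ x ≠ ρ y ∧ orderOf x = n := by
    obtain ⟨x, y, P, g, h1, h2, h3, h4⟩ := hne
    exact ⟨_, x, y, P, g, h1, h2, h3, h4, rfl⟩
  obtain ⟨x, y, P, g, hg, hxP, hxy, hρne, hord⟩ := Nat.find_spec hne'
  have hmin : ∀ (u v : ↥S) (P : Subgroup Ω) (g : Ω → Ω), Mor F P g → (u : Ω) ∈ P →
      g (u : Ω) = (v : Ω) → orderOf u < Nat.find hne' → ρ u = ρ v := fun u v P g h1 h2 h3 h4 => by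
    by_contra h
    exact Nat.find_min hne' h4 ⟨u, v, P, g, h1, h2, h3, h, rfl⟩
  have hyx : orderOf y ≤ Nat.find hne' := by
    rw [← hord]
    refine Nat.le_of_dvd (orderOf_pos x) (orderOf_dvd_of_pow_eq_one (Subtype.ext ?_))
    have key : ∀ n : ℕ, g ((x : Ω) ^ n) = (y : Ω) ^ n := fun n => by
      induction n with
      | zero => rw [pow_zero, pow_zero, hg.map_one]
      | succ n ih => rw [pow_succ, hg.map_mul (pow_mem hxP n) hxP, ih, hxy, pow_succ]
    rw [Subgroup.coe_pow, ← key, ← Subgroup.coe_pow, pow_orderOf_eq_one, OneMemClass.coe_one]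
    exact hg.map_one
  obtain ⟨a, hdeg, hst⟩ := exists_stable hS hF hχ
  -- full diagonals
  have hfull : ∀ L : Idx F, fstS L.1 = ⊤ → ∀ z : ↥S, tr χ L.1 z = ρ z := by
    intro L hL z
    haveI : Subsingleton (Pts L.1) := by
      show Subsingleton (↥S ⧸ fstS L.1)
      rw [hL]
      exact QuotientGroup.subsingleton_quotient_top
    let q₀ : Pts L.1 := (1 : ↥S)
    rw [tr, Fintype.prod_subsingleton _ q₀, lam]
    obtain ⟨h, hh, hhe⟩ := exists_map L.2
    have hu := hhe _ (fac_mem L.1 z q₀)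
    have hsS : sndImg L.1 = S := by
      refine eq_of_le_of_card_ge (S := S) le_rfl (sndImg_le _) ?_
      rw [card_sndImg L.2, ← card_fstS L.2, hL, Subgroup.card_top]
    rw [hsS] at hh
    rw [hχv, hN h hh _ _ hu.2, fac, Subsingleton.elim (z • q₀) q₀, map_mul, map_mul,
      map_inv, inv_mul_cancel_comm]
  -- a proper diagonal with a nonzero value
  obtain ⟨L, z, hz, hLtop, hLz⟩ : ∃ (L : Idx F) (z : ↥S),
      orderOf z ≤ Nat.find hne' ∧ fstS L.1 ≠ ⊤ ∧ tr χ L.1 z ≠ 1 := by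
    by_contra hno
    push Not at hno
    apply hρne
    have hval : ∀ z : ↥S, orderOf z ≤ Nat.find hne' → ∏ L : Idx F, tr χ L.1 z ^ a L =
        ρ z ^ (∑ L ∈ Finset.univ.filter (fun L : Idx F => fstS L.1 = ⊤), a L) := by
      intro z hz
      rw [← FusionCocycle.prod_zpow_eq_zpow_sum, Finset.prod_filter]
      refine Finset.prod_congr rfl fun L _ => ?_
      split_ifs with h
      · rw [hfull L h]
      · rw [hno L z hz h, one_zpow]
    have hk : ¬ (p : ℤ) ∣ ∑ L ∈ Finset.univ.filter (fun L : Idx F => fstS L.1 = ⊤), a L := by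
      intro hdvd
      apply hdeg
      rw [← Finset.sum_filter_add_sum_filter_not _ (fun L : Idx F => fstS L.1 = ⊤)]
      refine dvd_add ?_ (Finset.dvd_sum fun L hL => ?_)
      · rw [Finset.sum_congr rfl (g := fun L => a L) fun L hL => ?_]
        · exact hdvd
        have : Nat.card (Pts L.1) = 1 := by
          show (fstS L.1).index = 1
          rw [(Finset.mem_filter.mp hL).2, Subgroup.index_top]
        rw [this, Nat.cast_one, mul_one]
      · refine dvd_mul_of_dvd_right (Int.natCast_dvd_natCast.mpr ?_) _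
        obtain ⟨j, hj⟩ := hS.index (fstS L.1)
        show p ∣ (fstS L.1).index
        rcases j.eq_zero_or_pos with rfl | hj0
        · exact absurd (Subgroup.index_eq_one.mp (by rw [hj, pow_zero]))
            (Finset.mem_filter.mp hL).2
        · exact hj ▸ dvd_pow_self p hj0.ne'
    have := hst P g hg x y hxP hxy
    rw [hval x hord.le, hval y hyx] at this
    exact mul_inv_eq_one.mp (eq_one_of_pow hk (by rw [mul_zpow, inv_zpow, this, mul_inv_cancel]))
  obtain ⟨M, hMn, hMi, hLM⟩ := PGroupsBasic.exists_normal_index_eq hS hLtop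
  haveI := hMn
  -- `z` lies in `M`
  have hzM : z ∈ M := by
    by_contra hzM
    apply hLz
    haveI : Fintype (FusionCocycle.Orb z (Pts L.1)) := Fintype.ofFinite _
    rw [tr, FusionCocycle.prod_eq_prod_val (lam_mul hχ L.2) z]
    refine Finset.prod_eq_one fun q _ => ?_
    have hfix := FusionCocycle.pow_len_smul z q
    set n := FusionCocycle.len z q
    set r := q.out.out
    have hn1 : n ≠ 1 := by
      intro hn
      rw [hn, pow_one] at hfix
      have := TransferFixed.mem_of_smul_eq (H := fstS L.1) (x := z) (q := q.out) hfix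
      have h2 := hMn.conj_mem _ (hLM this) r
      exact hzM (by simpa [mul_assoc, r] using h2)
    have hdvd : n ∣ orderOf z :=
      MulAction.pow_smul_eq_iff_minimalPeriod_dvd.mp (by rw [pow_orderOf_eq_one, one_smul])
    obtain ⟨k, hk⟩ := IsPGroup.iff_orderOf.mp hS z
    have hpn : p ∣ n := by
      obtain ⟨i, -, hi⟩ := (Nat.dvd_prime_pow Fact.out).mp (hk ▸ hdvd)
      rcases i.eq_zero_or_pos with rfl | hi0
      · exact absurd (by simpa using hi) hn1
      · exact hi ▸ dvd_pow_self p hi0.ne'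
    show lam χ L.1 (z ^ n) q.out = 1
    rw [lam]
    obtain ⟨h, hh, hhe⟩ := exists_map L.2
    have hu := hhe _ (fac_mem L.1 (z ^ n) q.out)
    obtain ⟨i, hi, hil, -, -⟩ := hh.exists_inv
    have hfac : fac L.1 (z ^ n) q.out = r⁻¹ * z ^ n * r := by rw [fac, hfix]
    have hlt : orderOf (fac L.1 (z ^ n) q.out) < Nat.find hne' := by
      refine lt_of_lt_of_le ?_ hz
      rw [hfac]
      have hc : orderOf (r⁻¹ * z ^ n * r) = orderOf (z ^ n) :=
        (MulEquiv.orderOf_eq (MulAut.conj r⁻¹) (z ^ n)).symm.trans (by simp) |>.symm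
      have hp := (Fact.out : p.Prime)
      have hpo : p ∣ orderOf z := hpn.trans hdvd
      rw [hc]
      calc orderOf (z ^ n) ≤ orderOf z / p := by
            refine Nat.le_of_dvd (Nat.div_pos (Nat.le_of_dvd (orderOf_pos z) hpo) hp.pos)
              (orderOf_dvd_of_pow_eq_one ?_)
            rw [← pow_mul]
            obtain ⟨c, hc⟩ := hpn
            rw [hc, mul_assoc, mul_left_comm, Nat.mul_div_cancel' hpo, mul_comm, pow_mul,
              pow_orderOf_eq_one, one_pow]
        _ < orderOf z := Nat.div_lt_self (orderOf_pos z) hp.one_lt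
    rw [hχv, ← hmin _ (snd' L.1 (fac L.1 (z ^ n) q.out)) _ i hi (hu.2 ▸ apply_mem_im hu.1)
      (by rw [← hu.2, hil _ hu.1]) hlt, hfac, map_mul, map_mul, map_inv, inv_mul_cancel_comm,
      map_pow]
    obtain ⟨c, hc⟩ := hpn
    rw [hc, pow_mul]
    exact (congrArg (· ^ c) (Multiplicative.toAdd.injective (by simp))).trans (one_pow c)
  -- the monomial representation
  let π : Pts L.1 → ↥S ⧸ M := Subgroup.quotientMapOfLE hLM
  have hπ : ∀ (s : ↥S) (q : Pts L.1), π (s • q) = s • π q := fun s q => by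
    induction q using QuotientGroup.induction_on with
    | H b => rfl
  haveI : Fintype (↥S ⧸ M) := Fintype.ofFinite _
  let c : ↥S → ↥S ⧸ M → ZMod p := fun s Q =>
    Multiplicative.toAdd (∏ q ∈ Finset.univ.filter (fun q => π q = Q), lam χ L.1 s q)
  refine MonomialWreath89.exists_surjective hS (Q := ↥S ⧸ M) hMi c (fun s t Q => ?_) (m := z)
    (fun Q => ?_) ?_
  · simp only [c, ← toAdd_mul]
    congr 1
    simp only [lam_mul hχ L.2, Finset.prod_mul_distrib]
    congr 1
    refine Finset.prod_equiv (MulAction.toPerm t) (fun q => ?_) (fun q _ => rfl)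
    simp [hπ]
  · induction Q using QuotientGroup.induction_on with
    | H b =>
      show ((z * b : ↥S) : ↥S ⧸ M) = b
      rw [eq_comm, QuotientGroup.eq]
      simpa [mul_assoc] using hMn.conj_mem _ hzM b⁻¹
  · simp only [c, ← toAdd_prod]
    rw [Finset.prod_fiberwise_of_maps_to (fun q _ => Finset.mem_univ (π q))]
    intro h
    exact hLz (Multiplicative.toAdd.injective h)

/-- Yoshida's Theorem for fusion systems. Let F be a saturated fusion system over a finite p-group S and N the normalizer fusion system of S in F. If the focal subgroups of F and N differ (N does not control transfer in F), then S has a quotient isomorphic to the wreath product C_p ≀ C_p (realised as a Sylow p-subgroup of the symmetric group of degree p²). -/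
theorem result {Ω : Type*} [Group Ω] {S : Subgroup Ω} [Finite S] (p : ℕ) [Fact p.Prime] (hS : IsPGroup p S) (F : Cfsg.FusionSystem S) (hF : F.IsSaturated p) (N : Cfsg.FusionSystem (Cfsg.FusionSystem.normalizerIn S S)) (hN : F.IsNormalizerSystem S N) (hne : N.focalSubgroup ≠ F.focalSubgroup) : ∃ (W : Sylow p (Equiv.Perm (Fin (p ^ 2)))) (f : ↥S →* ↥(W : Subgroup (Equiv.Perm (Fin (p ^ 2))))), Function.Surjective f := by
  classical
  obtain ⟨ρ, hN', hne'⟩ := exists_char p hS F hF N hN hne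
  exact exists_wreath p hS F hF ρ hN' hne'

end Cfsg.Agent.S5225
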