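import Cfsg.Statements.S5226
import Cfsg.Agent.Lib.FusionPuig
import Cfsg.Agent.Lib.FusionSysChain

open Cfsg.FusionSystem Cfsg.Agent.FusionSysBasic Cfsg.Agent.FusionSysSaturated
open Cfsg.Agent.FusionSysNormal
open scoped commutatorElement

set_option autoImplicit false
open Cfsg

namespace Cfsg.Agent.S5226

/-- Let F be a saturated fusion system over a finite p-group S and Q a subgroup of S. Then Q is normal in F (F equals the normalizer system of Q) if and only if Q is strongly closed in F and admits a central series 1 = Q₀ ≤ Q₁ ≤ ⋯ ≤ Qₙ = Q ([Qᵢ₊₁, Q] ≤ Qᵢ) all of whose proper terms are weakly closed in F. -/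
theorem result {Ω : Type*} [Group Ω] {S : Subgroup Ω} [Finite S] (p : ℕ) [Fact p.Prime] (hS : IsPGroup p S) (F : Cfsg.FusionSystem S) (hF : F.IsSaturated p) (Q : Subgroup Ω) : F.IsNormal Q ↔ F.StronglyClosed Q ∧ ∃ (n : ℕ) (C : Fin (n + 1) → Subgroup Ω), C 0 = ⊥ ∧ C (Fin.last n) = Q ∧ Monotone C ∧ (∀ i : Fin n, ⁅C i.succ, Q⁆ ≤ C i.castSucc) ∧ ∀ i : Fin n, F.WeaklyClosed (C i.castSucc) := by
  constructor
  · intro hQ
    refine ⟨stronglyClosed_of_normal hQ, ?_⟩
    obtain ⟨n, X, h0, hn, hmono, hX, hcomm⟩ := Cfsg.Agent.FusionSysChain.exists_chain_of_normal hS hQ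
    refine ⟨n, fun i => X i, by simpa using h0, by simpa using hn, fun a b hab => hmono hab,
      fun i => ?_, fun i => weaklyClosed_iff.mpr ⟨normal_le (hX _), fun f hf => ?_⟩⟩
    · rw [Subgroup.commutator_comm]; simpa using hcomm i
    · exact hf.im_self fun x hx => normal_invariant (hX _) hf hx hx
  · rintro ⟨hQ, n, C, h0, hn, hmono, hcomm, hweak⟩
    have hCQ : ∀ i, C i ≤ Q := fun i => hn ▸ hmono (Fin.le_last i)
    have hsc : ∀ i : Fin (n + 1), F.StronglyClosed (C i) := by
      intro i
      induction i using Fin.induction with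
      | zero =>
        rw [h0]
        exact stronglyClosed_of_normal normal_bot
      | succ i ih =>
        by_cases hlast : i.succ = Fin.last n
        · rw [hlast, hn]; exact hQ
        obtain ⟨j, hj⟩ := Fin.exists_castSucc_eq.mpr hlast
        have hW := weaklyClosed_iff.mp (hj ▸ hweak j : F.WeaklyClosed (C i.succ))
        set T := C i.castSucc
        set C' := C i.succ
        have hTC : T ≤ C' := hmono (Fin.castSucc_le_succ i)
        have hC'S : C' ≤ S := hW.1
        refine stronglyClosed_iff.mpr ⟨hC'S, fun R f hR hf x hx => ?_⟩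
        obtain ⟨ψ, hψ, hc⟩ := Cfsg.Agent.FusionPuig.exists_map_mod hS hF ih
          (hf.restrict_to (Subgroup.zpowers_le.mpr hx : Subgroup.zpowers x ≤ R))
        set P := Subgroup.zpowers x ⊔ T with hP
        have hPC : P ≤ C' := sup_le (Subgroup.zpowers_le.mpr (hR hx)) hTC
        set Z := im P ψ with hZ
        have hZQ : Z ≤ Q := im_le_iff.mpr fun y hy =>
          stronglyClosed_invariant hQ hψ hy (hCQ _ (hPC hy))
        have hTZ : T ≤ Z := by
          refine le_trans (le_of_eq ?_) (im_mono (le_sup_right : T ≤ P))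
          exact ((hψ.restrict_to le_sup_right).im_self fun y hy =>
            stronglyClosed_invariant ih hψ (Subgroup.mem_sup_right hy) hy).symm
        have hnorm : ∀ {U : Subgroup Ω}, U ≤ Q → T ≤ U → C' ≤ normalizerIn S U := fun {U} hUQ hTU c hc' =>
          ⟨hC'S hc', mem_normalizer_of_cj_le (hUQ.trans hQ.1) fun y hy => by
            have h1 : ⁅c, y⁆ ∈ T := hcomm i (Subgroup.commutator_mem_commutator hc' (hUQ hy))
            have h2 : cj c y = ⁅c, y⁆ * y := by rw [cj_apply, commutatorElement_def]; group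
            rw [h2]
            exact mul_mem (hTU h1) hy⟩
        have hNP := hnorm (hPC.trans (hCQ _)) (le_sup_right : T ≤ P)
        have hNZ := hnorm hZQ hTZ
        have hPZ : F.IsConj P Z := isConj_iff.mpr ⟨ψ, hψ, rfl⟩
        obtain ⟨W, hW', hWn⟩ := exists_fullyNormalized (F := F) hψ.le
        obtain ⟨θ₁, hθ₁, -, hi₁⟩ := exists_map_to_fullyNormalized hS hF hWn hW'
        obtain ⟨θ₂, hθ₂, -, hi₂⟩ :=
          exists_map_to_fullyNormalized hS hF hWn (isConj_trans (isConj_symm hPZ) hW')
        have hWC : W ≤ C' := by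
          rw [← hi₁, ← hW.2 θ₁ (hθ₁.restrict_to hNP)]
          exact im_mono hPC
        have hxP : x ∈ P := Subgroup.mem_sup_left (Subgroup.mem_zpowers x)
        have hz : ψ x ∈ C' := by
          have hzZ : ψ x ∈ Z := apply_mem_im hxP
          have h1 : θ₂ (ψ x) ∈ im C' θ₂ := by
            rw [hW.2 θ₂ (hθ₂.restrict_to hNZ)]
            exact hWC (hi₂ ▸ apply_mem_im hzZ)
          obtain ⟨c, hc', e⟩ := (hθ₂.restrict_to hNZ).mem_im.mp h1
          rw [← hθ₂.injOn (hNZ hc') (le_normalizerIn hψ.im_le hzZ) e]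
          exact hc'
        have h2 : (f x)⁻¹ * ψ x ∈ C' := hTC (hc x (Subgroup.mem_zpowers x))
        have h3 := mul_mem hz (inv_mem h2)
        simpa [mul_assoc] using h3
    let X : ℕ → Subgroup Ω := fun i => if h : i ≤ n then C ⟨i, by omega⟩ else Q
    have hX : ∀ i (h : i ≤ n), X i = C ⟨i, by omega⟩ := fun i h => dif_pos h
    refine Cfsg.Agent.FusionSysChain.isNormal_of_chain hS hF (n := n) X
      (by rw [hX 0 (by omega)]; exact h0) (by rw [hX n le_rfl]; exact hn) hQ (fun i hi => ?_)
      (fun i hi => ?_) (fun i hi => ?_)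
    · rw [hX i hi.le, hX (i + 1) hi]; exact hmono (Nat.le_succ i)
    · rw [hX (i + 1) hi]; exact hsc _
    · rw [hX i hi.le, hX (i + 1) hi, Subgroup.commutator_comm]
      exact hcomm ⟨i, hi⟩

end Cfsg.Agent.S5226
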