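import Cfsg.Statements.S5236
import Cfsg.Agent.Lib.FusionSysChain
import Cfsg.Agent.Lib.TransferPResidual
import Cfsg.Agent.S0120

open Cfsg.FusionSystem Cfsg.Agent.FusionSysBasic Cfsg.Agent.FusionSysSaturated
open Cfsg.Agent.FusionSysNormal
open scoped commutatorElement

set_option autoImplicit false
open Cfsg

namespace Cfsg.Agent.S5236

/-- Let p be an odd prime, F a saturated fusion system over a finite p-group S and P a subgroup of S strongly closed in F. Then P is normal in F if and only if Ω₁(P) (the subgroup generated by the elements of order p of P) has a chain of subgroups 1 = Q₀ ≤ Q₁ ≤ ⋯ ≤ Qₙ = Ω₁(P), each strongly closed in F, with [Qᵢ₊₁, P] ≤ Qᵢ for all i. -/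
theorem result {Ω : Type*} [Group Ω] {S : Subgroup Ω} [Finite S] (p : ℕ) [Fact p.Prime] (hS : IsPGroup p S) (F : Cfsg.FusionSystem S) (hF : F.IsSaturated p) (hp : p ≠ 2) (P : Subgroup Ω) (hP : F.StronglyClosed P) : F.IsNormal P ↔ ∃ (n : ℕ) (Q : Fin (n + 1) → Subgroup Ω), Q 0 = ⊥ ∧ Q (Fin.last n) = Cfsg.omegaOne p P ∧ Monotone Q ∧ (∀ i : Fin (n + 1), F.StronglyClosed (Q i)) ∧ ∀ i : Fin n, ⁅Q i.succ, P⁆ ≤ Q i.castSucc := by
  set W := Cfsg.omegaOne p P with hW
  have hWP : W ≤ P := (Subgroup.closure_le _).mpr fun x hx => hx.1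
  constructor
  · intro hN
    obtain ⟨n, X, h0, hn, hmono, hX, hcomm⟩ := Cfsg.Agent.FusionSysChain.exists_chain_of_normal hS hN
    have hWsc : F.StronglyClosed W := by
      refine stronglyClosed_iff.mpr ⟨hWP.trans hP.1, fun R f hR hf x hx => ?_⟩
      obtain ⟨g, hg, hgf, hgP⟩ := (isNormal_iff.mp hN).2 R f hf
      rw [← hgf x hx]
      have hle : im W g ≤ W := by
        refine im_le_iff.mpr fun y hy => ?_
        have hgm := hg.restrict_to (le_sup_right : P ≤ R ⊔ P)
        induction hy using Subgroup.closure_induction with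
        | mem y hy =>
          refine Subgroup.subset_closure ⟨hgP ▸ apply_mem_im hy.1, ?_⟩
          have hpow : ∀ k : ℕ, g (y ^ k) = g y ^ k := by
            intro k
            induction k with
            | zero => simpa using hgm.map_one
            | succ k ih => rw [pow_succ, hgm.map_mul (pow_mem hy.1 k) hy.1, ih, pow_succ]
          rw [← hpow, hy.2, hgm.map_one]
        | one => rw [hgm.map_one]; exact one_mem _
        | mul a b ha hb iha ihb => rw [hgm.map_mul (hWP ha) (hWP hb)]; exact mul_mem iha ihb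
        | inv a ha iha => rw [hgm.map_inv (hWP ha)]; exact inv_mem iha
      exact hle (apply_mem_im (hR hx))
    refine ⟨n, fun i => X i ⊓ W, by simp [h0], ?_, fun a b hab => inf_le_inf_right _ (hmono hab),
      fun i => stronglyClosed_iff.mpr ⟨inf_le_right.trans hWsc.1, fun R f hR hf x hx =>
        ⟨stronglyClosed_invariant (stronglyClosed_of_normal (hX _)) hf hx (hR hx).1,
          stronglyClosed_invariant hWsc hf hx (hR hx).2⟩⟩, fun i => ?_⟩
    · simp only [Fin.val_last, hn]
      exact inf_eq_right.mpr hWP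
    · refine Subgroup.commutator_le.mpr fun a ha b hb => ⟨?_, ?_⟩
      · have := hcomm i (Subgroup.commutator_mem_commutator hb ha.1)
        rw [← commutatorElement_inv]
        exact (X _).inv_mem this
      · have h1 : cj b a⁻¹ ∈ W := cj_mem_of_stronglyClosed hWsc (hP.1 hb) (inv_mem ha.2)
        rw [show ⁅a, b⁆ = a * cj b a⁻¹ by rw [cj_apply, commutatorElement_def]; group]
        exact mul_mem ha.2 h1
  · rintro ⟨n, Q, h0, hn, hmono, hsc, hcomm⟩
    have hQW : ∀ i, Q i ≤ W := fun i => hn ▸ hmono (Fin.le_last i)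
    have hWn : F.IsNormal W := by
      let X : ℕ → Subgroup Ω := fun i => if h : i ≤ n then Q ⟨i, by omega⟩ else W
      have hX : ∀ i (h : i ≤ n), X i = Q ⟨i, by omega⟩ := fun i h => dif_pos h
      refine Cfsg.Agent.FusionSysChain.isNormal_of_chain hS hF (n := n) X
        (by rw [hX 0 (by omega)]; exact h0) (by rw [hX n le_rfl]; exact hn)
        (hn ▸ hsc (Fin.last n)) (fun i hi => ?_) (fun i hi => ?_) (fun i hi => ?_)
      · rw [hX i hi.le, hX (i + 1) hi]; exact hmono (Nat.le_succ i)
      · rw [hX (i + 1) hi]; exact hsc _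
      · rw [hX i hi.le, hX (i + 1) hi, Subgroup.commutator_comm]
        exact (Subgroup.commutator_mono le_rfl hWP).trans (hcomm ⟨i, hi⟩)
    refine isNormal_of_le_centric_radical hS hF hP fun R hR => ?_
    have hc := hR.1
    have hr := Cfsg.Agent.FusionSysAlperin.radical_of_essential hS hR
    have hRS := hc.1
    have hWR : W ≤ R := normal_le_centric_radical hS hWn hc hr
    have hAm : ∀ {a : MulAut R}, a ∈ F.autGroup R → Mor F R (afun a) := fun ha => (mem_autGroup hRS).mp ha
    let M : Subgroup (MulAut R) :=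
      { carrier := {m | m ∈ F.autGroup R ∧ (∀ x ∈ R, x⁻¹ * afun m x ∈ P) ∧
          ∀ i : Fin n, ∀ y ∈ Q i.succ, y⁻¹ * afun m y ∈ Q i.castSucc}
        one_mem' := ⟨one_mem _, fun x hx => by rw [afun_one hx]; simp,
          fun i y hy => by rw [afun_one (hWR (hQW _ hy))]; simp⟩
        mul_mem' := fun {a b} ⟨ha, ha1, ha2⟩ ⟨hb, hb1, hb2⟩ => ⟨mul_mem ha hb, fun x hx => by
            rw [afun_mul a b hx]
            have := mul_mem (hb1 x hx) (ha1 _ (afun_mem b hx))
            simpa [mul_assoc] using this,
          fun i y hy => by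
            have hyR := hWR (hQW _ hy)
            rw [afun_mul a b hyR]
            have := mul_mem (hb2 i y hy)
              (ha2 i _ (stronglyClosed_invariant (hsc _) (hAm hb) hyR hy))
            simpa [mul_assoc] using this⟩
        inv_mem' := fun {a} ⟨ha, ha1, ha2⟩ => ⟨inv_mem ha, fun x hx => by
            have := inv_mem (ha1 _ (afun_mem a⁻¹ hx))
            rw [afun_apply_inv a hx] at this
            simpa using this,
          fun i y hy => by
            have hyR := hWR (hQW _ hy)
            have := inv_mem (ha2 i _ (stronglyClosed_invariant (hsc _) (hAm (inv_mem ha)) hyR hy))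
            rw [afun_apply_inv a hyR] at this
            simpa using this⟩ }
    have hMp : IsPGroup p M := by
      haveI := Cfsg.Agent.FusionSysBasic.finite_of_le (S := S) hRS
      refine Cfsg.Agent.TransferPResidual.pResidual_eq_bot_iff.mp (le_bot_iff.mp ?_)
      rw [Cfsg.Agent.TransferPResidual.pResidual_le_iff_coprime]
      rintro ⟨m, hm, hm1, hm2⟩ hco
      replace hco : (orderOf m).Coprime p := by rwa [← Subgroup.orderOf_coe] at hco
      have hstep : ∀ (X Y : Subgroup Ω), Y ≤ R → (∀ x ∈ X, afun m x = x) →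
          (∀ y ∈ Y, y⁻¹ * afun m y ∈ X) → ∀ y ∈ Y, afun m y = y := by
        intro X Y hY hfix hst y hy
        have h1 := pow_fix_step hY hfix hst (orderOf m) y hy
        rw [pow_orderOf_eq_one, afun_one (hY hy), left_eq_mul] at h1
        obtain ⟨k, hk⟩ := (IsPGroup.iff_orderOf.mp (hS.to_le hRS))
          ⟨_, mul_mem (inv_mem (hY hy)) (afun_mem m (hY hy))⟩
        rw [Subgroup.orderOf_mk] at hk
        obtain ⟨j, hj⟩ := exists_pow_eq_self_of_coprime (x := y⁻¹ * afun m y) (n := orderOf m)
          (hk.symm ▸ hco.pow_right k)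
        rw [h1, one_pow] at hj
        exact (inv_mul_eq_one.mp hj.symm).symm
      have hfixQ : ∀ i : Fin (n + 1), ∀ y ∈ Q i, afun m y = y := by
        intro i
        induction i using Fin.induction with
        | zero =>
          intro y hy
          rw [h0, Subgroup.mem_bot] at hy
          subst hy
          exact (hAm hm).map_one
        | succ i ih => exact hstep _ _ ((hQW _).trans hWR) ih (hm2 i)
      have hfixW : ∀ y ∈ W, afun m y = y := fun y hy => hfixQ (Fin.last n) y (hn.symm ▸ hy)
      have hfixP : ∀ y ∈ R ⊓ P, afun m y = y := by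
        haveI := Cfsg.Agent.FusionSysBasic.finite_of_le (S := S) (inf_le_left.trans hRS : R ⊓ P ≤ S)
        have hr' := (hAm hm).restrict_to (inf_le_left : R ⊓ P ≤ R)
        obtain ⟨γ, -, hγ⟩ := hr'.exists_aut (hr'.im_self fun y hy =>
          ⟨afun_mem m hy.1, stronglyClosed_invariant hP (hAm hm) hy.1 hy.2⟩)
        have hpow : ∀ (k : ℕ) (y : Ω), y ∈ R ⊓ P → afun (γ ^ k) y = afun (m ^ k) y := by
          intro k
          induction k with
          | zero => intro y hy; rw [pow_zero, pow_zero, afun_one hy, afun_one hy.1]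
          | succ k ih =>
            intro y hy
            rw [pow_succ, pow_succ, afun_mul _ _ hy, afun_mul _ _ hy.1, ← hγ y hy]
            exact ih _ (afun_mem γ hy)
        have hγo : orderOf γ ∣ orderOf m := orderOf_dvd_of_pow_eq_one (afun_ext fun y hy => by
          rw [hpow _ y hy, pow_orderOf_eq_one, afun_one hy.1, afun_one hy])
        have hγ1 : γ = 1 := Cfsg.Agent.S0120.result hp (hS.to_le (inf_le_left.trans hRS)) γ
          (Nat.Coprime.coprime_dvd_left hγo hco) fun x hx => Subtype.ext <| by
            rw [← afun_coe, hγ _ x.2]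
            exact hfixW _ (Subgroup.subset_closure ⟨x.2.2, by
              simpa using congrArg Subtype.val hx⟩)
        intro y hy
        rw [← hγ y hy, hγ1, afun_one hy]
      have hall := hstep _ R le_rfl hfixP fun y hy =>
        ⟨mul_mem (R.inv_mem hy) (afun_mem m hy), hm1 y hy⟩
      rw [Subgroup.mem_bot]
      exact Subtype.ext (afun_ext fun x hx => (hall x hx).trans (afun_one hx).symm)
    refine le_of_normal_pSubgroup hS hc hr hP.1
      (hRS.trans (le_normalizer_of_stronglyClosed hP)) (M := M) (fun m hm => hm.1) hMp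
      ?_ ?_
    rotate_left
    · intro g hg
      refine ⟨autInducedBy_le hRS ?_, fun x hx => ?_, fun i y hy => ?_⟩
      · exact mem_autInducedBy.mpr ⟨g, g.2.1, g.2.2, fun x hx => afun_nHom g hx⟩
      · rw [afun_nHom g hx, show x⁻¹ * cj (g : Ω) x = cj x⁻¹ (g : Ω) * (g : Ω)⁻¹ by
          simp only [cj_apply]; group]
        exact mul_mem (cj_mem_of_stronglyClosed hP (inv_mem (hRS hx)) hg) (inv_mem hg)
      · rw [afun_nHom g (hWR (hQW _ hy)), Cfsg.Agent.FusionSysChain.cj_div_eq]
        refine inv_mem ?_
        rw [← commutatorElement_inv]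
        exact inv_mem (hcomm i (Subgroup.commutator_mem_commutator (inv_mem hy) hg))
    · intro a ha m hm'
      obtain ⟨hm, hm1, hm2⟩ := hm'
      refine ⟨mul_mem (mul_mem ha hm) (inv_mem ha), fun x hx => ?_, fun i y hy => ?_⟩
      · have hx' := afun_mem a⁻¹ hx
        rw [afun_mul _ _ hx, afun_mul _ _ hx']
        rw [show x⁻¹ = (afun a (afun a⁻¹ x))⁻¹ by rw [afun_apply_inv a hx]]
        rw [← (hAm ha).map_inv hx', ← (hAm ha).map_mul (inv_mem hx') (afun_mem m hx')]
        exact stronglyClosed_invariant hP (hAm ha) (mul_mem (inv_mem hx') (afun_mem m hx')) (hm1 _ hx')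
      · have hyR := hWR (hQW _ hy)
        have hy' := stronglyClosed_invariant (hsc i.succ) (hAm (inv_mem ha)) hyR hy
        have hx' := afun_mem a⁻¹ hyR
        rw [afun_mul _ _ hyR, afun_mul _ _ hx']
        rw [show y⁻¹ = (afun a (afun a⁻¹ y))⁻¹ by rw [afun_apply_inv a hyR]]
        rw [← (hAm ha).map_inv hx', ← (hAm ha).map_mul (inv_mem hx') (afun_mem m hx')]
        exact stronglyClosed_invariant (hsc _) (hAm ha) (mul_mem (inv_mem hx') (afun_mem m hx'))
          (hm2 i _ hy')

end Cfsg.Agent.S5236
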