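import Cfsg.Statements.S5234
import Cfsg.Agent.Lib.FusionSysNormal
import Cfsg.Agent.Lib.TransvectionPair
import Cfsg.Agent.Lib.OmegaCoprime
import Cfsg.Agent.Lib.PGroupsBasic
import Cfsg.Agent.S0638
import Cfsg.Agent.S5236

set_option autoImplicit false
open Cfsg

namespace Cfsg.Agent.S5234

open Cfsg.FusionSystem Cfsg.Agent.FusionSysBasic Cfsg.Agent.FusionSysSaturated
  Cfsg.Agent.FusionSysAlperin Cfsg.Agent.FusionSysNormal

/-- A coprime automorphism of a finite `p`-group, `p` odd, fixing all elements with `x ^ p = 1`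
is trivial. -/
theorem aut_eq_one {R : Type*} [Group R] [Finite R] {p : ℕ} [Fact p.Prime] (hp2 : p ≠ 2)
    (hR : IsPGroup p R) {a : MulAut R} (ha : (orderOf a).Coprime p)
    (h : ∀ x : R, x ^ p = 1 → a x = x) : a = 1 := by
  haveI : Finite (SemidirectProduct R (MulAut R) (MonoidHom.id (MulAut R))) :=
    Finite.of_equiv _ SemidirectProduct.equivProd.symm
  have key := Cfsg.Agent.OmegaCoprime.commute_of_forall_pow_eq_one (p := p) hp2
    (G := SemidirectProduct R (MulAut R) (MonoidHom.id (MulAut R)))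
    (a := SemidirectProduct.inr a)
    (by rwa [orderOf_injective _ SemidirectProduct.inr_injective])
    (SemidirectProduct.inl.range)
    (hR.of_surjective SemidirectProduct.inl.rangeRestrict (MonoidHom.rangeRestrict_surjective _))
    (by
      rintro _ ⟨x, rfl⟩
      exact ⟨a x, by simpa using SemidirectProduct.inl_aut (φ := MonoidHom.id (MulAut R)) a x⟩)
    (by
      rintro _ ⟨x, rfl⟩ hx
      have hx' : x ^ p = 1 := SemidirectProduct.inl_injective (by rw [map_pow, hx, map_one])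
      have := SemidirectProduct.inl_aut (φ := MonoidHom.id (MulAut R)) a x
      rw [MonoidHom.id_apply, h x hx', map_inv, eq_mul_inv_iff_mul_eq] at this
      exact this.symm)
  refine MulEquiv.ext fun x => ?_
  have h1 : Commute (SemidirectProduct.inr a)
      (SemidirectProduct.inl x : SemidirectProduct R (MulAut R) (MonoidHom.id (MulAut R))) :=
    key _ ⟨x, rfl⟩
  have h2 := SemidirectProduct.inl_aut (φ := MonoidHom.id (MulAut R)) a x
  rw [map_inv, h1.eq, mul_inv_cancel_right] at h2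
  exact SemidirectProduct.inl_injective h2

variable {Ω : Type*} [Group Ω] {S : Subgroup Ω} [Finite S] {p : ℕ} [hp : Fact p.Prime]
  {F : Cfsg.FusionSystem S}

omit hp [Finite S] in
theorem afun_map_inv {Q : Subgroup Ω} (ψ : MulAut ↥Q) {x : Ω} (hx : x ∈ Q) :
    afun ψ x⁻¹ = (afun ψ x)⁻¹ := by
  rw [afun_apply ψ (Q.inv_mem hx), afun_apply ψ hx, ← Subgroup.coe_inv, ← map_inv]
  rfl

omit hp [Finite S] in
theorem afun_map_pow {Q : Subgroup Ω} (ψ : MulAut ↥Q) {x : Ω} (hx : x ∈ Q) (n : ℕ) :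
    afun ψ (x ^ n) = afun ψ x ^ n := by
  rw [afun_apply ψ hx, afun_apply ψ (Q.pow_mem hx n)]
  exact congrArg Subtype.val (map_pow ψ ⟨x, hx⟩ n)

omit hp [Finite S] in
theorem afun_pow_fix {Q : Subgroup Ω} (ψ : MulAut ↥Q) {x : Ω} (hxQ : x ∈ Q) (h : afun ψ x = x)
    (n : ℕ) : afun (ψ ^ n) x = x := by
  induction n with
  | zero => rw [pow_zero, afun_one hxQ]
  | succ n ih => rw [pow_succ', afun_mul _ _ hxQ, ih, h]

omit [Finite S] in
/-- Elements of a subgroup of prime order. -/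
theorem gen_prime {C : Subgroup Ω} (hC : Nat.card C = p) {c y : Ω} (hc : c ∈ C) (hc1 : c ≠ 1)
    (hy : y ∈ C) : y ∈ Subgroup.zpowers c := by
  obtain ⟨j, hj⟩ := Subgroup.mem_zpowers_iff.mp (mem_zpowers_of_prime_card hC
    (g := ⟨c, hc⟩) (g' := ⟨y, hy⟩) (fun e => hc1 (congrArg Subtype.val e)))
  exact ⟨j, congrArg Subtype.val hj⟩

/-- The heart of the proof: no automorphism of an essential subgroup moves `C`. -/
theorem key (hS : IsPGroup p ↥S) (hF : F.IsSaturated p) (hp2 : p ≠ 2) {P : Subgroup Ω}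
    (hP : F.StronglyClosed P) {E C : Subgroup Ω} (hEP : E ≤ P)
    (hEmem : ∀ x : Ω, x ∈ E ↔ x ∈ P ∧ x ^ p = 1)
    (hEc : ∀ x ∈ E, ∀ y ∈ E, x * y = y * x) (hEcard : Nat.card E ≤ p ^ 2) (hCE : C ≤ E)
    (hCcard : Nat.card C = p) (hCz : ∀ s ∈ S, ∀ c ∈ C, cj s c = c)
    (hcom : ∀ g ∈ P, ∀ e ∈ E, e⁻¹ * cj g e ∈ C)
    (hEnc : ∃ g ∈ P, ∃ e ∈ E, cj g e ≠ e)
    {Q : Subgroup Ω} (hQ : F.IsEssential p Q) {α : MulAut Q} (hα : α ∈ F.autGroup Q) {c₀ : Ω}
    (hc₀ : c₀ ∈ C) : afun α c₀ ∈ C := by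
  have hQS := hQ.1.1
  have hPS := hP.1
  have hlt := essential_lt hS hF hQ
  have hclosed : ∀ {R : Subgroup Ω} {f : Ω → Ω}, Mor F R f → ∀ x ∈ R, x ∈ P → f x ∈ P :=
    fun hf x hxR hxP => stronglyClosed_invariant hP hf hxR hxP
  have hQC : centralizerIn S Q ≤ Q := centralizerIn_le_of_centric hQ.1
  have hCQ : C ≤ Q := fun c hc => hQC (mem_centralizerIn.mpr ⟨hPS (hEP (hCE hc)), fun x hx => by
    have h := hCz x (hQS hx) c hc
    simp only [cj_apply] at h ⊢
    rw [mul_inv_eq_iff_eq_mul] at h ⊢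
    exact h.symm⟩)
  by_contra hmove
  set c' := afun α c₀ with hc'def
  have hc₀Q := hCQ hc₀
  have hαm := (mem_autGroup hQS).mp hα
  have hc'Q : c' ∈ Q := afun_mem α hc₀Q
  have hc₀p : c₀ ^ p = 1 := ((hEmem c₀).mp (hCE hc₀)).2
  have hc'E : c' ∈ E := (hEmem c').mpr ⟨hclosed hαm c₀ hc₀Q (hEP (hCE hc₀)), by
    rw [hc'def, ← afun_map_pow α hc₀Q, hc₀p, afun_apply α Q.one_mem]
    exact congrArg Subtype.val (map_one α)⟩
  haveI hfinP := finite_of_le hPS
  haveI hfinE : Finite E := finite_of_le (hEP.trans hPS)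
  haveI hfinQ := finite_of_le hQS
  have hgenE : C ⊔ Subgroup.zpowers c' = E := by
    have hle : C ⊔ Subgroup.zpowers c' ≤ E := sup_le hCE (Subgroup.zpowers_le.mpr hc'E)
    refine eq_of_le_of_card_ge (hEP.trans hPS) hle (hEcard.trans ?_)
    haveI := finite_of_le (hle.trans (hEP.trans hPS))
    obtain ⟨k, hk⟩ := Subgroup.card_dvd_of_le (le_sup_left : C ≤ C ⊔ Subgroup.zpowers c')
    rw [hCcard] at hk
    obtain ⟨m, hm⟩ := IsPGroup.iff_card.mp (hS.to_le (hle.trans (hEP.trans hPS)))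
    have hm2 : 2 ≤ m := by
      by_contra hh
      refine hmove ?_
      have hc : Nat.card ↥(C ⊔ Subgroup.zpowers c') ≤ Nat.card C := by
        rw [hm, hCcard]
        exact (Nat.pow_le_pow_right hp.out.pos (by omega : m ≤ 1)).trans (pow_one p).le
      rw [eq_of_le_of_card_ge (hle.trans (hEP.trans hPS)) le_sup_left hc]
      exact Subgroup.mem_sup_right (Subgroup.mem_zpowers c')
    rw [hm]
    exact Nat.pow_le_pow_right hp.out.pos hm2
  have hEQ : E ≤ Q := hgenE ▸ sup_le hCQ (Subgroup.zpowers_le.mpr hc'Q)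
  have hc₀cent : ∀ q ∈ Q, cj q c₀ = c₀ := fun q hq => hCz q (hQS hq) c₀ hc₀
  have hEcent : ∀ q ∈ Q, ∀ e ∈ E, cj q e = e := by
    intro q hq
    have h : E ≤ Subgroup.centralizer {q} := by
      rw [← hgenE]
      refine sup_le (fun c hc => ?_) (Subgroup.zpowers_le.mpr ?_)
      · exact Subgroup.mem_centralizer_singleton_iff.mpr
          (mul_inv_eq_iff_eq_mul.mp (hCz q (hQS hq) c hc)).symm
      · refine Subgroup.mem_centralizer_singleton_iff.mpr (mul_inv_eq_iff_eq_mul.mp ?_).symm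
        show cj q c' = c'
        have hq' := afun_mem α⁻¹ hq
        rw [hc'def, ← afun_apply_inv α hq, ← hαm.map_cj hq' hc₀Q, hc₀cent _ hq']
    intro e he
    exact mul_inv_eq_iff_eq_mul.mpr (Subgroup.mem_centralizer_singleton_iff.mp (h he)).symm
  set R := P ⊓ Q with hRdef
  haveI hfinR : Finite R := finite_of_le (inf_le_left.trans hPS)
  have hER : E ≤ R := le_inf hEP hEQ
  have hinvR : ∀ β ∈ F.autGroup Q, ∀ x ∈ R, afun β x ∈ R := fun β hβ x hx =>
    ⟨hclosed ((mem_autGroup hQS).mp hβ) x hx.2 hx.1, afun_mem β hx.2⟩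
  have hinvE : ∀ β ∈ F.autGroup Q, ∀ x ∈ E, afun β x ∈ E := fun β hβ x hx =>
    (hEmem _).mpr ⟨(hinvR β hβ x (hER hx)).1, by
      rw [← afun_map_pow β (hEQ hx), ((hEmem x).mp hx).2, afun_apply β Q.one_mem]
      exact congrArg Subtype.val (map_one β)⟩
  haveI := finite_autGroup (F := F) Q
  -- elements of `N_P(Q)` centralizing `E` lie in `Q`
  have case1 : ∀ g ∈ P, g ∈ Subgroup.normalizer (Q : Set Ω) → (∀ e ∈ E, cj g e = e) → g ∈ Q := by
    let M : Subgroup (MulAut Q) :=
      { carrier := {a | a ∈ F.autGroup Q ∧ (∀ x ∈ Q, x⁻¹ * afun a x ∈ R) ∧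
          ∀ e ∈ E, afun a e = e}
        one_mem' := ⟨one_mem _, fun x hx => by rw [afun_one hx, inv_mul_cancel]; exact one_mem _,
          fun e he => afun_one (hEQ he)⟩
        mul_mem' := fun {a b} ha hb => ⟨mul_mem ha.1 hb.1, fun x hx => by
          rw [afun_mul _ _ hx]
          have := mul_mem (hb.2.1 x hx) (ha.2.1 _ (afun_mem b hx))
          rwa [mul_assoc, mul_inv_cancel_left] at this,
          fun e he => by rw [afun_mul _ _ (hEQ he), hb.2.2 e he, ha.2.2 e he]⟩
        inv_mem' := fun {a} ha => ⟨inv_mem ha.1, fun x hx => by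
          have := inv_mem (ha.2.1 _ (afun_mem a⁻¹ hx))
          rwa [afun_apply_inv a hx, mul_inv_rev, inv_inv] at this,
          fun e he => by
            conv_lhs => rw [← ha.2.2 e he, afun_inv_apply a (hEQ he)]⟩ }
    have hMp : IsPGroup p M := by
      intro a
      obtain ⟨k, m, hm, hord⟩ := Nat.exists_eq_pow_mul_and_not_dvd
        (orderOf_pos (a : MulAut Q)).ne' p hp.out.ne_one
      refine ⟨k, Subtype.ext ?_⟩
      set b := (a : MulAut Q) ^ p ^ k with hb
      show b = 1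
      have hbM : b ∈ M := pow_mem a.2 _
      have hbo : orderOf b = m := by
        rw [hb, orderOf_pow' _ (pow_ne_zero _ hp.out.ne_zero), hord,
          Nat.gcd_eq_right (Dvd.intro m rfl), Nat.mul_div_cancel_left _ (pow_pos hp.out.pos k)]
      have hbR : ∀ x ∈ R, afun b x = x := by
        have hm2 := ((mem_autGroup hQS).mp hbM.1).restrict_to (inf_le_right : R ≤ Q)
        obtain ⟨bR, -, hbRe⟩ := hm2.exists_aut (hm2.im_self (hinvR b hbM.1))
        have hpow : ∀ n : ℕ, ∀ x ∈ R, afun (bR ^ n) x = afun (b ^ n) x := by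
          intro n
          induction n with
          | zero => intro x hx; rw [pow_zero, pow_zero, afun_one hx, afun_one hx.2]
          | succ n ih =>
            intro x hx
            rw [pow_succ', afun_mul _ _ hx, ih x hx, pow_succ', afun_mul _ _ hx.2]
            exact hbRe _ (ih x hx ▸ afun_mem _ hx)
        have hb1 : bR ^ m = 1 := afun_ext fun x hx => by
          rw [hpow m x hx, ← hbo, pow_orderOf_eq_one, afun_one hx, afun_one hx.2]
        have hcop : (orderOf bR).Coprime p :=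
          Nat.Coprime.coprime_dvd_left (orderOf_dvd_of_pow_eq_one hb1)
            (hp.out.coprime_iff_not_dvd.mpr hm).symm
        have h1 := aut_eq_one hp2 (hS.to_le (inf_le_left.trans hPS)) hcop (fun x hx => by
          refine Subtype.ext ?_
          rw [← afun_coe, hbRe x x.2]
          exact hbM.2.2 x ((hEmem x).mpr ⟨x.2.1, by simpa using congrArg Subtype.val hx⟩))
        intro x hx
        rw [← hbRe x hx, h1, afun_one hx]
      refine afun_ext fun x hx => ?_
      rw [afun_one hx]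
      have h2 := pow_fix_step (X := R) (Y := Q) (P := Q) le_rfl hbR
        (fun y hy => hbM.2.1 y hy) m x hx
      rw [← hbo, pow_orderOf_eq_one, afun_one hx, left_eq_mul, hbo] at h2
      obtain ⟨n, hn⟩ := hS ⟨x⁻¹ * afun b x, hQS (mul_mem (inv_mem hx) (afun_mem b hx))⟩
      have hn' : (x⁻¹ * afun b x) ^ p ^ n = 1 := congrArg Subtype.val hn
      have h3 : (x⁻¹ * afun b x) ^ Nat.gcd m (p ^ n) = 1 := pow_gcd_eq_one.mpr ⟨h2, hn'⟩
      rw [((hp.out.coprime_iff_not_dvd.mpr hm).symm.pow_right n).gcd_eq_one, pow_one,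
        inv_mul_eq_one] at h3
      exact h3.symm
    have hMn : ∀ a ∈ F.autGroup Q, ∀ m ∈ M, a * m * a⁻¹ ∈ M := by
      intro a ha m hm
      refine ⟨mul_mem (mul_mem ha hm.1) (inv_mem ha), fun x hx => ?_, fun e he => ?_⟩
      · have hx' := afun_mem a⁻¹ hx
        rw [afun_mul _ _ hx, afun_mul _ _ hx']
        conv =>
          arg 2; arg 1; rw [← afun_apply_inv a hx, ← afun_map_inv a hx']
        rw [← afun_map_mul a (inv_mem hx') (afun_mem m hx')]
        exact hinvR a ha _ (hm.2.1 _ hx')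
      · rw [afun_mul _ _ (hEQ he), afun_mul _ _ (afun_mem a⁻¹ (hEQ he)),
          hm.2.2 _ (hinvE a⁻¹ (inv_mem ha) e he), afun_apply_inv a (hEQ he)]
    intro g hg hgn hge
    let T₀ : Subgroup Ω := P ⊓ Subgroup.normalizer (Q : Set Ω) ⊓ Subgroup.centralizer (E : Set Ω)
    have hle : T₀ ≤ Q := by
      refine le_of_normal_pSubgroup hS hQ.1 (radical_of_essential hS hQ)
        (inf_le_left.trans (inf_le_left.trans hPS)) ?_ (M := M) (fun a ha => ha.1) hMp hMn ?_
      · refine fun q hq => mem_normalizer_of_cj_le (inf_le_left.trans (inf_le_left.trans hPS))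
          fun x hx => ⟨⟨cj_mem_of_stronglyClosed hP (hQS hq) hx.1.1, ?_⟩, ?_⟩
        · exact mul_mem (mul_mem (Subgroup.le_normalizer hq) hx.1.2)
            (Subgroup.inv_mem _ (Subgroup.le_normalizer hq))
        · show cj q x ∈ Subgroup.centralizer (E : Set Ω)
          rw [Subgroup.mem_centralizer_iff]
          intro e he
          have h1 := Subgroup.mem_centralizer_iff.mp hx.2 e he
          have h2 := hEcent q hq e he
          simp only [cj_apply] at h2 ⊢
          calc e * (q * x * q⁻¹) = (q * e * q⁻¹) * (q * x * q⁻¹) := by rw [h2]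
            _ = q * (e * x) * q⁻¹ := by group
            _ = (q * x * q⁻¹) * (q * e * q⁻¹) := by rw [h1]; group
            _ = _ := by rw [h2]
      · rintro ⟨u, huS, hun⟩ hu
        refine ⟨autInducedBy_le hQS (autInducedBy_eq_range S Q ▸ ⟨_, rfl⟩), fun x hx => ?_,
          fun e he => ?_⟩
        · rw [afun_nHom _ hx]
          refine ⟨?_, mul_mem (Subgroup.inv_mem _ hx) (cj_mem_of_normalizer hun hx)⟩
          have e1 : x⁻¹ * cj u x = cj x⁻¹ u * u⁻¹ := by simp only [cj_apply]; group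
          rw [e1]
          exact mul_mem (cj_mem_of_stronglyClosed hP (Subgroup.inv_mem _ (hQS hx)) hu.1.1) (Subgroup.inv_mem _ hu.1.1)
        · rw [afun_nHom _ (hEQ he), cj_apply,
            ← Subgroup.mem_centralizer_iff.mp hu.2 e he, mul_inv_cancel_right]
    refine hle ⟨⟨hg, hgn⟩, ?_⟩
    show g ∈ Subgroup.centralizer (E : Set Ω)
    rw [Subgroup.mem_centralizer_iff]
    exact fun e he => (mul_inv_eq_iff_eq_mul.mp (hge e he)).symm
  -- an element of `N_P(Q)` outside `Q`
  obtain ⟨g₁, hg₁P, e₁, he₁, hne⟩ := hEnc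
  have hPQ : ¬ P ≤ Q := fun h => hne (hEcent g₁ (h hg₁P) e₁ he₁)
  obtain ⟨g, hgP, hgQ, hgn⟩ : ∃ g ∈ P, g ∉ Q ∧ g ∈ Subgroup.normalizer (Q : Set Ω) := by
    obtain ⟨g, hg, hgQ, hgn⟩ := lt_normalizerIn hS (sup_le hQS hPS) (left_lt_sup.mpr hPQ)
    have hnQ : Q ≤ Subgroup.normalizer (P : Set Ω) :=
      hQS.trans (le_normalizer_of_stronglyClosed hP)
    rw [← SetLike.mem_coe, Subgroup.coe_mul_of_left_le_normalizer_right _ _ hnQ] at hg
    obtain ⟨q, hq, r, hr, rfl⟩ := Set.mem_mul.mp hg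
    refine ⟨r, hr, fun h => hgQ (mul_mem hq h), ?_⟩
    have := mul_mem (inv_mem (Subgroup.le_normalizer (H := Q) hq)) hgn
    simpa using this
  have hgE : ∀ x ∈ E, cj g x ∈ E := fun x hx =>
    (hEmem _).mpr ⟨cj_mem_of_stronglyClosed hP (hPS hgP) (hEP hx), by
      rw [cj_apply, conj_pow, ((hEmem x).mp hx).2, mul_one, mul_inv_cancel]⟩
  obtain ⟨e, he, hge⟩ : ∃ e ∈ E, cj g e ≠ e := by
    by_contra hh
    push Not at hh
    exact hgQ (case1 g hgP hgn hh)
  -- restriction to `E`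
  letI : CommGroup E :=
    { (inferInstance : Group E) with mul_comm := fun x y => Subtype.ext (hEc x x.2 y y.2) }
  let H : Subgroup (MulAut E) :=
    { carrier := {γ | ∃ a ∈ F.autGroup Q, ∀ x : E, afun a x = (γ x : Ω)}
      one_mem' := ⟨1, one_mem _, fun x => by rw [afun_one (hEQ x.2)]; rfl⟩
      mul_mem' := by
        rintro γ δ ⟨a, ha, hae⟩ ⟨b, hb, hbe⟩
        refine ⟨a * b, mul_mem ha hb, fun x => ?_⟩
        rw [afun_mul _ _ (hEQ x.2), hbe x, hae (δ x)]
        rfl
      inv_mem' := by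
        rintro γ ⟨a, ha, hae⟩
        refine ⟨a⁻¹, inv_mem ha, fun x => ?_⟩
        have h1 := hae (γ⁻¹ x)
        rw [MulAut.apply_inv_self] at h1
        rw [← h1, afun_inv_apply a (hEQ (γ⁻¹ x).2)] }
  have hres : ∀ a ∈ F.autGroup Q, ∃ γ ∈ H, ∀ x : E, afun a x = (γ x : Ω) := by
    intro a ha
    have hm := ((mem_autGroup hQS).mp ha).restrict_to hEQ
    obtain ⟨γ, -, hγe⟩ := hm.exists_aut (hm.im_self (hinvE a ha))
    have h : ∀ x : E, afun a x = (γ x : Ω) := fun x => by rw [← afun_coe, hγe x x.2]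
    exact ⟨γ, ⟨a, ha, h⟩, h⟩
  have hgN : nHom S Q ⟨g, hPS hgP, hgn⟩ ∈ F.autGroup Q :=
    autInducedBy_le hQS (autInducedBy_eq_range S Q ▸ ⟨_, rfl⟩)
  obtain ⟨τ, hτH, hτ⟩ := hres _ hgN
  have hτv : ∀ x : E, (τ x : Ω) = cj g x := fun x => by rw [← hτ x, afun_nHom _ (hEQ x.2)]
  let cE : E := ⟨c₀, hCE hc₀⟩
  have hc₀1 : c₀ ≠ 1 := by
    intro h
    apply hmove
    rw [hc'def, h, afun_apply α Q.one_mem]
    have : ((α ⟨1, Q.one_mem⟩ : Q) : Ω) = 1 := congrArg Subtype.val (map_one α)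
    rw [this]
    exact one_mem C
  have hCgen : ∀ x ∈ C, ∃ i : ℤ, c₀ ^ i = x := fun x hx =>
    Subgroup.mem_zpowers_iff.mp (gen_prime hCcard hc₀ hc₀1 hx)
  have heC : e ∉ C := fun h => hge (hCz g (hPS hgP) e h)
  have hfixC : ∀ x : E, τ x = x → (x : Ω) ∈ C := by
    intro x hx
    by_contra hxC
    have hle : C ⊔ Subgroup.zpowers (x : Ω) ≤ E := sup_le hCE (Subgroup.zpowers_le.mpr x.2)
    haveI := finite_of_le (hle.trans (hEP.trans hPS))
    have heq : C ⊔ Subgroup.zpowers (x : Ω) = E := by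
      refine eq_of_le_of_card_ge (hEP.trans hPS) hle (hEcard.trans ?_)
      obtain ⟨m, hm⟩ := IsPGroup.iff_card.mp (hS.to_le (hle.trans (hEP.trans hPS)))
      have hm2 : 2 ≤ m := by
        by_contra hh
        refine hxC ?_
        have hc : Nat.card ↥(C ⊔ Subgroup.zpowers (x : Ω)) ≤ Nat.card C := by
          rw [hm, hCcard]
          exact (Nat.pow_le_pow_right hp.out.pos (by omega : m ≤ 1)).trans (pow_one p).le
        rw [eq_of_le_of_card_ge (hle.trans (hEP.trans hPS)) le_sup_left hc]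
        exact Subgroup.mem_sup_right (Subgroup.mem_zpowers _)
      rw [hm]
      exact Nat.pow_le_pow_right hp.out.pos hm2
    refine hge ?_
    have h : E ≤ Subgroup.centralizer {g} := by
      rw [← heq]
      refine sup_le (fun c hc => ?_) (Subgroup.zpowers_le.mpr ?_)
      · exact Subgroup.mem_centralizer_singleton_iff.mpr
          (mul_inv_eq_iff_eq_mul.mp (hCz g (hPS hgP) c hc)).symm
      · exact Subgroup.mem_centralizer_singleton_iff.mpr
          (mul_inv_eq_iff_eq_mul.mp ((hτv x).symm.trans (congrArg Subtype.val hx))).symm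
    exact mul_inv_eq_iff_eq_mul.mpr (Subgroup.mem_centralizer_singleton_iff.mp (h he)).symm
  have hpE : ∀ x : E, x ^ p = 1 := fun x => Subtype.ext (by simpa using ((hEmem x).mp x.2).2)
  have hmove' : ∀ x : E, x⁻¹ * τ x ∈ Subgroup.zpowers cE := fun x => by
    obtain ⟨i, hi⟩ := hCgen _ (hcom g hgP x x.2)
    exact ⟨i, Subtype.ext (by simpa [cE, hτv] using hi)⟩
  have hτc : τ cE = cE := Subtype.ext (by rw [hτv]; exact hCz g (hPS hgP) c₀ hc₀)
  have hτ1 : τ ≠ 1 := fun h => hge (by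
    have := hτv ⟨e, he⟩
    rw [h] at this
    exact this.symm)
  let eE : E := ⟨e, he⟩
  have hχe : eE⁻¹ * τ eE ≠ 1 := fun h => hge (by
    have := congrArg Subtype.val (inv_mul_eq_one.mp h).symm
    rwa [hτv] at this)
  have hocE : orderOf cE = p := orderOf_eq_prime (hpE cE) fun h => hc₀1 (congrArg Subtype.val h)
  have hzc : ∀ y : E, y ∈ Subgroup.zpowers cE → y ≠ 1 → cE ∈ Subgroup.zpowers y := by
    intro y hy hy1
    obtain ⟨j, hj⟩ := Subgroup.mem_zpowers_iff.mp (mem_zpowers_of_prime_card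
      (show Nat.card (Subgroup.zpowers cE) = p by rw [Nat.card_zpowers, hocE])
      (g := ⟨y, hy⟩) (g' := ⟨cE, Subgroup.mem_zpowers cE⟩) (fun h => hy1 (congrArg Subtype.val h)))
    exact ⟨j, congrArg Subtype.val hj⟩
  have tv : TransvectionPair.Tv p H τ cE :=
    { mem := hτH
      ne := fun h => hc₀1 (congrArg Subtype.val h)
      pow_eq := hpE cE
      fix := hτc
      move := hmove'
      nontriv := hτ1
      max := by
        intro γ _ hcomm hγp
        have hγχ : ∀ x, γ (x⁻¹ * τ x) = (γ x)⁻¹ * τ (γ x) := fun x => by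
          rw [map_mul, map_inv, show γ (τ x) = (γ * τ) x from rfl, hcomm.eq, MulAut.mul_apply]
        have hγc : γ cE ∈ Subgroup.zpowers cE := by
          obtain ⟨j, hj⟩ := hzc _ (hmove' eE) hχe
          simp only at hj
          rw [← hj, map_zpow, hγχ, hj]
          exact zpow_mem (hmove' _) j
        obtain ⟨l, hl⟩ := Subgroup.mem_zpowers_iff.mp hγc
        have hiter : ∀ n : ℕ, (γ ^ n) cE = cE ^ (l ^ n) := by
          intro n
          induction n with
          | zero => simp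
          | succ n ih => rw [pow_succ', MulAut.mul_apply, ih, map_zpow, ← hl, ← zpow_mul, pow_succ']
        have hγfix : γ cE = cE := by
          have h1 := hiter p
          rw [hγp, MulAut.one_apply] at h1
          have h2 : (p : ℤ) ∣ l ^ p - 1 := by
            have : ((orderOf cE : ℕ) : ℤ) ∣ l ^ p - 1 := by
              rw [orderOf_dvd_iff_zpow_eq_one, zpow_sub, zpow_one, ← h1, mul_inv_cancel]
            rwa [hocE] at this
          have h3 : (p : ℤ) ∣ l - 1 := by
            rw [← ZMod.intCast_zmod_eq_zero_iff_dvd] at h2 ⊢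
            push_cast at h2 ⊢
            rwa [ZMod.pow_card] at h2
          rw [← hocE, orderOf_dvd_iff_zpow_eq_one, zpow_sub, zpow_one, mul_inv_eq_one] at h3
          rw [← hl, h3]
        have hfix2 : τ (eE⁻¹ * γ eE) = eE⁻¹ * γ eE := by
          have h1 : (γ eE)⁻¹ * τ (γ eE) = eE⁻¹ * τ eE := by
            rw [← hγχ]
            obtain ⟨i, hi⟩ := Subgroup.mem_zpowers_iff.mp (hmove' eE)
            rw [← hi, map_zpow, hγfix]
          calc τ (eE⁻¹ * γ eE) = (eE⁻¹ * γ eE) * (((γ eE)⁻¹ * τ (γ eE)) * (eE⁻¹ * τ eE)⁻¹) := by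
                rw [map_mul, map_inv]
                simp [mul_comm, mul_left_comm, mul_assoc]
            _ = _ := by rw [h1, mul_inv_cancel, mul_one]
        obtain ⟨i, hi⟩ := hCgen _ (hfixC _ hfix2)
        obtain ⟨j, hj⟩ := hzc _ (hmove' eE) hχe
        simp only at hj
        refine ⟨i * j, MulEquiv.ext fun x => ?_⟩
        show (τ ^ (i * j)) x = γ x
        have hτpow : ∀ (k : ℤ) (y : E), (τ ^ k) y = y * (y⁻¹ * τ y) ^ k := by
          intro k y
          have step : τ y = y * (y⁻¹ * τ y) := (mul_inv_cancel_left _ _).symm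
          have hf : ∀ k : ℤ, τ ((y⁻¹ * τ y) ^ k) = (y⁻¹ * τ y) ^ k := fun k => by
            obtain ⟨m, hm⟩ := Subgroup.mem_zpowers_iff.mp (zpow_mem (hmove' y) k)
            rw [← hm, map_zpow, hτc]
          induction k using Int.induction_on with
          | zero => simp
          | succ n ih =>
            rw [add_comm, zpow_add, zpow_one, MulAut.mul_apply, ih, map_mul, hf, step,
              mul_assoc, ← step, ← zpow_one_add]
          | pred n ih =>
            rw [sub_eq_neg_add, zpow_add, zpow_neg_one, MulAut.mul_apply, ih]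
            apply τ.injective
            rw [MulAut.apply_inv_self, map_mul, hf, step, mul_assoc, ← step, ← zpow_one_add]
            congr 2
            ring
        -- both agree on generators
        have hsub : ∀ y : E, (y : Ω) ∈ C → (τ ^ (i * j)) y = γ y := by
          intro y hy
          obtain ⟨k, hk⟩ := hCgen _ hy
          have hy' : y = cE ^ k := Subtype.ext (by rw [Subgroup.coe_zpow]; exact hk.symm)
          have hc0 : (τ ^ (i * j)) cE = cE := by
            rw [hτpow, hτc, inv_mul_cancel, one_zpow, mul_one]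
          rw [hy', map_zpow, map_zpow, hc0, hγfix]
        have hee : (τ ^ (i * j)) eE = γ eE := by
          have h1 : eE⁻¹ * γ eE = cE ^ i := Subtype.ext (by rw [Subgroup.coe_zpow]; exact hi.symm)
          rw [hτpow, mul_comm i j, zpow_mul, hj, ← h1, mul_inv_cancel_left]
        have hle : E ≤ (MonoidHom.eqLocus (τ ^ (i * j)).toMonoidHom γ.toMonoidHom).map E.subtype := by
          have hgen2 : C ⊔ Subgroup.zpowers e = E := by
            have hle : C ⊔ Subgroup.zpowers e ≤ E := sup_le hCE (Subgroup.zpowers_le.mpr he)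
            haveI := finite_of_le (hle.trans (hEP.trans hPS))
            refine eq_of_le_of_card_ge (hEP.trans hPS) hle (hEcard.trans ?_)
            obtain ⟨m, hm⟩ := IsPGroup.iff_card.mp (hS.to_le (hle.trans (hEP.trans hPS)))
            have hm2 : 2 ≤ m := by
              by_contra hh
              refine heC ?_
              have hc : Nat.card ↥(C ⊔ Subgroup.zpowers e) ≤ Nat.card C := by
                rw [hm, hCcard]
                exact (Nat.pow_le_pow_right hp.out.pos (by omega : m ≤ 1)).trans (pow_one p).le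
              rw [eq_of_le_of_card_ge (hle.trans (hEP.trans hPS)) le_sup_left hc]
              exact Subgroup.mem_sup_right (Subgroup.mem_zpowers _)
            rw [hm]
            exact Nat.pow_le_pow_right hp.out.pos hm2
          conv_lhs => rw [← hgen2]
          exact sup_le (fun c hc => ⟨⟨c, hCE hc⟩, hsub _ hc, rfl⟩)
            (Subgroup.zpowers_le.mpr ⟨eE, hee, rfl⟩)
        obtain ⟨y, hy, hyx⟩ := hle x.2
        obtain rfl : y = x := Subtype.ext hyx
        exact hy }
  -- `H` contains the inversion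
  obtain ⟨γα, hγα, hγαe⟩ := hres α hα
  have hnot : ¬ TransvectionPair.Nrm τ γα := fun hn => by
    obtain ⟨i, hi⟩ := Subgroup.mem_zpowers_iff.mp (TransvectionPair.Nrm.apply_c tv hn)
    refine hmove ?_
    have : c' = c₀ ^ i := by rw [hc'def, hγαe cE, ← hi, Subgroup.coe_zpow]
    rw [this]
    exact zpow_mem hc₀ i
  obtain ⟨w, d, o⟩ := TransvectionPair.exists_opp tv hγα hnot
  have hinv : ∀ x : E, (w * w) x = x⁻¹ := by
    intro x
    obtain ⟨i, j, v, rfl, hτv', hwv⟩ := o.decomp x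
    obtain ⟨k, hk⟩ := hCgen _ (hfixC v hτv')
    have hv : v = cE ^ k := Subtype.ext (by rw [Subgroup.coe_zpow]; exact hk.symm)
    have hv1 : v = 1 := by rw [hv]; exact o.fixed k (hv ▸ hwv)
    rw [hv1, mul_one, MulAut.mul_apply, map_mul w, map_zpow, map_zpow, o.apply_c, o.apply_d,
      map_mul w, map_zpow, map_zpow, map_inv, o.apply_c, o.apply_d, mul_inv, inv_zpow, inv_zpow]
  obtain ⟨a₀, ha₀, ha₀e⟩ := mul_mem o.mem o.mem
  have hneg : ∀ x ∈ E, afun a₀ x = x⁻¹ := fun x hx => by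
    rw [ha₀e ⟨x, hx⟩, hinv]; rfl
  -- move it into the normalizer of `Aut_S(Q)`
  let A := F.autGroup Q
  obtain ⟨-, T, hT⟩ := fullyAutomized_of_fullyNormalized hS hF hQ.2.1
  let K : Subgroup A :=
    { carrier := {b | ∃ t ∈ (T : Subgroup A), ∀ x ∈ E, afun (b : MulAut Q) x = afun (t : MulAut Q) x}
      one_mem' := ⟨1, one_mem _, fun x _ => rfl⟩
      mul_mem' := by
        rintro b b' ⟨t, ht, hb⟩ ⟨t', ht', hb'⟩
        refine ⟨t * t', mul_mem ht ht', fun x hx => ?_⟩
        rw [Subgroup.coe_mul, Subgroup.coe_mul, afun_mul _ _ (hEQ hx), afun_mul _ _ (hEQ hx),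
          hb' x hx, hb _ (hinvE _ t'.2 x hx)]
      inv_mem' := by
        rintro b ⟨t, ht, hb⟩
        refine ⟨t⁻¹, inv_mem ht, fun x hx => ?_⟩
        rw [Subgroup.coe_inv, Subgroup.coe_inv]
        have hy := hinvE _ (inv_mem t.2) x hx
        conv_lhs => rw [← afun_apply_inv (t : MulAut Q) (hEQ hx), ← hb _ hy]
        rw [afun_inv_apply _ (hEQ hy)] }
  have hTK : (T : Subgroup A) ≤ K := fun t ht => ⟨t, ht, fun x _ => rfl⟩
  let a : A := ⟨a₀, ha₀⟩
  have hconjK : (T : Subgroup A).map (MulAut.conj a).toMonoidHom ≤ K := by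
    rintro _ ⟨t, ht, rfl⟩
    refine ⟨t, ht, fun x hx => ?_⟩
    show afun (a₀ * (t : MulAut Q) * a₀⁻¹) x = afun (t : MulAut Q) x
    have hx' : afun a₀⁻¹ x = x⁻¹ := by
      have h1 := hneg x⁻¹ (inv_mem hx)
      rw [inv_inv] at h1
      conv_lhs => rw [← h1]
      rw [afun_inv_apply a₀ (hEQ (inv_mem hx))]
    rw [afun_mul _ _ (hEQ hx), afun_mul _ _ (afun_mem _ (hEQ hx)), hx',
      hneg _ (hinvE _ t.2 _ (inv_mem hx)), afun_map_inv _ (hEQ hx), inv_inv]
  obtain ⟨k, hk, hkT⟩ : ∃ k ∈ K, ∀ t ∈ (T : Subgroup A), k * (a * t * a⁻¹) * k⁻¹ ∈ (T : Subgroup A) := by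
    obtain ⟨k, hk, hk'⟩ := sylIn_absorb (p := p) (R := (T : Subgroup A)) (A := K)
      (K := (T : Subgroup A).map (MulAut.conj a).toMonoidHom)
      ⟨T.subtype hTK, Sylow.coe_subtype T hTK⟩ (T.2.map _) hconjK
    exact ⟨k, hk, fun t ht => hk' _ ⟨t, ht, rfl⟩⟩
  obtain ⟨s, hs, hks⟩ := hk
  let a' : A := s⁻¹ * (k * a)
  have ha'T : ∀ t ∈ (T : Subgroup A), a' * t * a'⁻¹ ∈ (T : Subgroup A) := by
    intro t ht
    have : a' * t * a'⁻¹ = s⁻¹ * (k * (a * t * a⁻¹) * k⁻¹) * s := by simp only [a']; group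
    rw [this]
    exact mul_mem (mul_mem (inv_mem hs) (hkT t ht)) hs
  have ha'neg : ∀ x ∈ E, afun (a' : MulAut Q) x = x⁻¹ := by
    intro x hx
    show afun ((s : MulAut Q)⁻¹ * ((k : MulAut Q) * a₀)) x = x⁻¹
    rw [afun_mul _ _ (hEQ hx), afun_mul _ _ (hEQ hx), hneg x hx, hks _ (inv_mem hx),
      afun_inv_apply _ (hEQ (inv_mem hx))]
  -- extend to `N_S(Q)`
  set N := normalizerIn S Q with hN
  obtain ⟨-, hrec⟩ := receptive_iff.mp (receptive_of_fullyNormalized hS hF hQ.2.1)
  obtain ⟨f, hf, hfa⟩ := hrec Q (afun (a' : MulAut Q)) N ((mem_autGroup hQS).mp a'.2) (im_afun _)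
    inf_le_left inf_le_right (fun u hu => by
      have huR : nHom S Q ⟨u, hu⟩ ∈ autInducedBy S Q := by
        rw [autInducedBy_eq_range]; exact ⟨_, rfl⟩
      have huT : (⟨nHom S Q ⟨u, hu⟩, autInducedBy_le hQS (autInducedBy_eq_range S Q ▸ ⟨_, rfl⟩)⟩ : A)
          ∈ (T : Subgroup A) := by
        rw [hT, Subgroup.mem_subgroupOf]
        exact huR
      have h1 := ha'T _ huT
      rw [hT, Subgroup.mem_subgroupOf] at h1
      obtain ⟨v, hv, -, hve⟩ := mem_autInducedBy.mp h1
      refine ⟨v, hv, fun x hx => ?_⟩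
      have h2 := hve _ (afun_mem (a' : MulAut Q) hx)
      rw [Subgroup.coe_mul, Subgroup.coe_mul, Subgroup.coe_inv, afun_mul _ _ (afun_mem _ hx),
        afun_inv_apply _ hx, afun_mul _ _ hx, afun_nHom _ hx] at h2
      exact h2)
  rw [sup_normalizerIn hQS] at hf
  have hQN : Q ≤ N := le_normalizerIn hQS
  have hfN : ∀ u ∈ N, f u ∈ N := fun u hu =>
    ⟨hf.apply_mem hu, mem_normalizer_of_cj_le hQS fun x hx => by
      have hx' := afun_mem (a' : MulAut Q)⁻¹ hx
      rw [← afun_apply_inv (a' : MulAut Q) hx, ← hfa _ hx', ← hf.map_cj hu (hQN hx'),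
        hfa _ (cj_mem_of_normalizer hu.2 hx')]
      exact afun_mem _ (cj_mem_of_normalizer hu.2 hx')⟩
  obtain ⟨ψ₀, hψ₀, hψ₀e⟩ := hf.exists_aut (hf.im_self hfN)
  haveI := finite_autGroup (F := F) N
  haveI hfinN : Finite N := finite_normalizerIn (S := S) Q
  obtain ⟨sx, m, hm, hord⟩ := Nat.exists_eq_pow_mul_and_not_dvd
    (orderOf_pos ψ₀).ne' 2 (by norm_num)
  set ψ := ψ₀ ^ m with hψ
  have hψA : ψ ∈ F.autGroup N := pow_mem hψ₀ m
  have hψm := (mem_autGroup (inf_le_left : N ≤ S)).mp hψA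
  have hEN : E ≤ N := hEQ.trans hQN
  have hψneg : ∀ x ∈ E, afun ψ x = x⁻¹ := by
    intro x hx
    have h1 : ∀ y ∈ E, afun ψ₀ y = y⁻¹ := fun y hy => by
      rw [hψ₀e y (hEN hy), hfa y (hEQ hy), ha'neg y hy]
    have h2 : ∀ n : ℕ, afun (ψ₀ ^ (2 * n)) x = x := by
      intro n
      refine (pow_mul ψ₀ 2 n).symm ▸ afun_pow_fix _ (hEN hx) ?_ n
      rw [pow_two, afun_mul _ _ (hEN hx), h1 x hx, h1 _ (inv_mem hx), inv_inv]
    obtain ⟨r, hr⟩ := Nat.odd_iff.mpr (Nat.two_dvd_ne_zero.mp hm)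
    rw [hψ, hr, pow_succ', afun_mul _ _ (hEN hx), h2, h1 x hx]
  have hψ2 : ψ ^ 2 ^ sx = 1 := by
    rw [hψ, ← pow_mul, mul_comm, ← hord, pow_orderOf_eq_one]
  have hRN : R ≤ N := inf_le_right.trans hQN
  have hψQ : ∀ x ∈ Q, afun ψ x ∈ Q := by
    have h1 : ∀ n : ℕ, ∀ x ∈ Q, afun (ψ₀ ^ n) x ∈ Q := by
      intro n
      induction n with
      | zero => intro x hx; rwa [pow_zero, afun_one (hQN hx)]
      | succ n ih =>
        intro x hx
        rw [pow_succ', afun_mul _ _ (hQN hx), hψ₀e _ (hQN (ih x hx)), hfa _ (ih x hx)]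
        exact afun_mem _ (ih x hx)
    exact h1 m
  have hψR : ∀ x ∈ R, afun ψ x ∈ R := fun x hx =>
    ⟨hclosed hψm x (hRN hx) hx.1, hψQ x hx.2⟩
  have hψRm := hψm.restrict_to hRN
  obtain ⟨b, -, hbe⟩ := hψRm.exists_aut (hψRm.im_self hψR)
  have hbpow : ∀ n : ℕ, ∀ x ∈ R, afun (b ^ n) x = afun (ψ ^ n) x := by
    intro n
    induction n with
    | zero => intro x hx; rw [pow_zero, pow_zero, afun_one hx, afun_one (hRN hx)]
    | succ n ih =>
      intro x hx
      rw [pow_succ', afun_mul _ _ hx, ih x hx, pow_succ', afun_mul _ _ (hRN hx)]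
      exact hbe _ (ih x hx ▸ afun_mem _ hx)
  have hpR : IsPGroup p R := hS.to_le (inf_le_left.trans hPS)
  have hb2 : b ^ 2 = 1 := by
    have hb1 : b ^ 2 ^ sx = 1 := afun_ext fun x hx => by
      rw [hbpow _ x hx, hψ2, afun_one hx, afun_one (hRN hx)]
    refine aut_eq_one hp2 hpR ?_ fun x hx => Subtype.ext ?_
    · refine Nat.Coprime.coprime_dvd_left ?_
        (((Nat.coprime_primes Nat.prime_two hp.out).mpr (Ne.symm hp2)).pow_left sx)
      exact (orderOf_pow_dvd (x := b) 2).trans (orderOf_dvd_of_pow_eq_one hb1)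
    · have hxE : (x : Ω) ∈ E := (hEmem x).mpr ⟨x.2.1, by simpa using congrArg Subtype.val hx⟩
      rw [← afun_coe, hbpow 2 x x.2, pow_two, afun_mul _ _ (hRN x.2), hψneg _ hxE,
        hψneg _ (inv_mem hxE), inv_inv]
  have hfpf : ∀ x : R, b x = x → x = 1 := by
    intro x hx
    by_contra hx1
    obtain ⟨n, hn⟩ := IsPGroup.iff_orderOf.mp hpR x
    obtain ⟨n', rfl⟩ : ∃ n', n = n' + 1 := by
      rcases n with _ | n'
      · exact absurd (orderOf_eq_one_iff.mp (by simpa using hn)) hx1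
      · exact ⟨n', rfl⟩
    set y := x ^ p ^ n' with hy
    have hyo : orderOf y = p := by
      rw [hy, orderOf_pow' _ (pow_ne_zero _ hp.out.ne_zero), hn,
        Nat.gcd_eq_right (pow_dvd_pow p n'.le_succ), Nat.pow_div n'.le_succ hp.out.pos]
      simp
    have hyE : (y : Ω) ∈ E := (hEmem y).mpr ⟨y.2.1, by
      rw [← SubmonoidClass.coe_pow, ← hyo, pow_orderOf_eq_one]; rfl⟩
    have hby : b y = y := by rw [hy, map_pow, hx]
    have h2 : (y : Ω)⁻¹ = y :=
      (hψneg _ hyE).symm.trans ((hbe _ y.2).symm.trans ((afun_coe b y).trans (congrArg Subtype.val hby)))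
    have h3 : orderOf y ∣ 2 := orderOf_dvd_of_pow_eq_one (Subtype.ext (by
      rw [SubmonoidClass.coe_pow, pow_two]
      exact mul_eq_one_iff_eq_inv.mpr h2.symm))
    rw [hyo] at h3
    exact hp2 ((Nat.prime_dvd_prime_iff_eq hp.out Nat.prime_two).mp h3)
  have hbinv : ∀ x : R, b x = x⁻¹ := by
    intro x
    have hinj : Function.Injective fun u : R => u⁻¹ * b u := by
      intro u v huv
      simp only at huv
      have : b (v * u⁻¹) = v * u⁻¹ := by
        have h1 : b u = u * (v⁻¹ * b v) := by rw [← huv, mul_inv_cancel_left]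
        rw [map_mul, map_inv, h1]
        group
      exact (mul_inv_eq_one.mp (hfpf _ this)).symm
    obtain ⟨u, rfl⟩ := Finite.injective_iff_surjective.mp hinj x
    simp only [map_mul, map_inv, mul_inv_rev, inv_inv]
    congr 1
    rw [← MulAut.mul_apply, ← pow_two, hb2, MulAut.one_apply]
  have hRc : ∀ u v : R, u * v = v * u := by
    intro u v
    have h := map_mul b u v
    rw [hbinv, hbinv, hbinv, mul_inv_rev] at h
    have h2 := congrArg (fun t => t⁻¹) h
    simp only [mul_inv_rev, inv_inv] at h2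
    exact h2
  have hψinv : ∀ x ∈ R, afun ψ x = x⁻¹ := fun x hx => by
    exact (hbe x hx).symm.trans ((afun_apply b hx).trans (congrArg Subtype.val (hbinv ⟨x, hx⟩)))
  -- the final computation
  have hgN' : g ∈ N := ⟨hPS hgP, hgn⟩
  set u := afun ψ g with hu
  have huN : u ∈ N := afun_mem ψ hgN'
  have hguR : ∀ z : Ω, z ∈ P → z ∈ N → (∀ x ∈ E, cj z x = x) → z ∈ R := fun z hz hzN hzE =>
    ⟨hz, case1 z hz hzN.2 hzE⟩
  have hu_act : ∀ x ∈ E, cj u x = cj g x := by
    intro x hx
    have h1 := hψm.map_cj hgN' (hEN (inv_mem hx))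
    have h2 : afun ψ x⁻¹ = x := (hψneg _ (inv_mem hx)).trans (inv_inv x)
    calc cj u x = cj u (afun ψ x⁻¹) := congrArg (cj u) h2.symm
      _ = afun ψ (cj g x⁻¹) := h1.symm
      _ = (cj g x⁻¹)⁻¹ := hψneg _ (hgE _ (inv_mem hx))
      _ = cj g x := by simp only [cj_apply]; group
  set y := u * g⁻¹ with hy
  have hyR : y ∈ R := by
    refine hguR y (mul_mem (hclosed hψm g hgN' hgP) (inv_mem hgP)) (mul_mem huN (inv_mem hgN'))
      fun x hx => ?_
    have hgi : cj g⁻¹ x ∈ E := (hEmem _).mpr ⟨cj_mem_of_stronglyClosed hP (inv_mem (hPS hgP)) (hEP hx),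
      by rw [cj_apply, conj_pow, ((hEmem x).mp hx).2, mul_one, mul_inv_cancel]⟩
    rw [hy, ← cj_cj, hu_act _ hgi, cj_cj, mul_inv_cancel, cj_one]
  have hgp : g ^ p ∈ R := by
    refine hguR _ (pow_mem hgP p) (pow_mem hgN' p) fun x hx => ?_
    have h1 : ∀ n : ℕ, ((τ ^ n) ⟨x, hx⟩ : E) = (cj (g ^ n) x : Ω) := by
      intro n
      induction n with
      | zero => simp [cj_one]
      | succ n ih => rw [pow_succ', MulAut.mul_apply, hτv, ih, cj_cj, pow_succ']
    rw [← h1, TransvectionPair.pow_self tv]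
    rfl
  have hgR : ∀ x ∈ R, cj g x ∈ R := fun x hx =>
    ⟨cj_mem_of_stronglyClosed hP (hPS hgP) hx.1, cj_mem_of_normalizer hgn hx.2⟩
  -- the norm map
  let nm : ℕ → Ω → Ω := fun n z => (z * g) ^ n * (g ^ n)⁻¹
  have hnm1 : ∀ n z, nm (n + 1) z = z * cj g (nm n z) := fun n z => by
    simp only [nm, cj_apply, pow_succ']; group
  have hnmR : ∀ n, ∀ z ∈ R, nm n z ∈ R := by
    intro n
    induction n with
    | zero => intro z _; simp [nm]
    | succ n ih => intro z hz; rw [hnm1]; exact mul_mem hz (hgR _ (ih z hz))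
  have hnmul : ∀ n, ∀ z ∈ R, ∀ z' ∈ R, nm n (z * z') = nm n z * nm n z' := by
    intro n
    induction n with
    | zero => intros; simp [nm]
    | succ n ih =>
      intro z hz z' hz'
      have hcm : z' * cj g (nm n z) = cj g (nm n z) * z' :=
        congrArg Subtype.val (hRc ⟨z', hz'⟩ ⟨_, hgR _ (hnmR n z hz)⟩)
      have hmulcj : cj g (nm n z * nm n z') = cj g (nm n z) * cj g (nm n z') := by
        simp only [cj_apply]; group
      rw [hnm1, hnm1, hnm1, ih z hz z' hz', hmulcj, mul_assoc z z', ← mul_assoc z', hcm]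
      simp only [mul_assoc]
  have hnmpow : ∀ h : ℕ, nm p (y ^ h) = nm p y ^ h := by
    intro h
    induction h with
    | zero => simp [nm]
    | succ h ih => rw [pow_succ, pow_succ, hnmul p _ (pow_mem hyR h) _ hyR, ih]
  have hnmy : nm p y = (g ^ p)⁻¹ * (g ^ p)⁻¹ := by
    have h1 : afun ψ (g ^ p) = (g ^ p)⁻¹ := hψinv _ hgp
    rw [afun_map_pow ψ hgN', ← hu] at h1
    simp only [nm]
    rw [hy, inv_mul_cancel_right, h1]
  obtain ⟨kR, hkR⟩ := IsPGroup.iff_card.mp hpR
  obtain ⟨r, hr⟩ := (hp.out.odd_of_ne_two hp2).pow (n := kR)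
  have hfin : nm p (y ^ (r + 1)) = (g ^ p)⁻¹ := by
    rw [hnmpow, hnmy, ← pow_two, ← pow_mul, show 2 * (r + 1) = (2 * r + 1) + 1 by ring, pow_succ,
      ← hr, ← hkR]
    have h1 : ((g ^ p)⁻¹) ^ Nat.card R = 1 :=
      congrArg Subtype.val (pow_card_eq_one' (x := (⟨_, inv_mem hgp⟩ : R)))
    rw [h1, one_mul]
  have hz : (y ^ (r + 1) * g) ^ p = 1 := by
    simp only [nm] at hfin
    rw [mul_inv_eq_iff_eq_mul, inv_mul_cancel] at hfin
    exact hfin
  have hzE : y ^ (r + 1) * g ∈ E := (hEmem _).mpr ⟨mul_mem (pow_mem hyR.1 _) hgP, hz⟩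
  exact hgQ ((Subgroup.mul_mem_cancel_left _ (pow_mem hyR.2 _)).mp (hEQ hzE))

/-- Iterated commutators vanish: a subgroup is not its own commutator with `S`. -/
theorem commutator_lt (hS : IsPGroup p ↥S) {E P : Subgroup Ω} (hE : E ≤ S) (hP : P ≤ S)
    (hE1 : E ≠ ⊥) (h : E ≤ ⁅E, P⁆) : False := by
  haveI := hS.isNilpotent
  have hle : ∀ n, E.subgroupOf S ≤ Subgroup.lowerCentralSeries (⊤ : Subgroup ↥S) n := by
    intro n
    induction n with
    | zero => simp
    | succ n ih =>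
      intro x hx
      have h1 : ⁅E, P⁆ ≤ (⁅(E.subgroupOf S), (⊤ : Subgroup ↥S)⁆).map S.subtype := by
        rw [Subgroup.map_commutator, Subgroup.subgroupOf_map_subtype, inf_eq_left.mpr hE,
          ← MonoidHom.range_eq_map, Subgroup.range_subtype]
        exact Subgroup.commutator_mono le_rfl hP
      obtain ⟨y, hy, hyx⟩ := h1 (h hx)
      obtain rfl : y = x := Subtype.ext hyx
      rw [Subgroup.lowerCentralSeries_succ]
      exact Subgroup.commutator_mono ih le_rfl hy
  refine hE1 ?_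
  obtain ⟨n, hn⟩ := Subgroup.nilpotent_iff_lowerCentralSeries.mp ‹Group.IsNilpotent ↥S›
  rw [Subgroup.eq_bot_iff_forall]
  intro x hx
  have : (⟨x, hE hx⟩ : ↥S) ∈ (⊥ : Subgroup ↥S) := hn ▸ hle n hx
  exact congrArg Subtype.val (Subgroup.mem_bot.mp this)

/-- Let p be an odd prime, F a saturated fusion system over a finite p-group S and P a metacyclic subgroup of S strongly closed in F. Then P is normal in F. -/
theorem result {Ω : Type*} [Group Ω] {S : Subgroup Ω} [Finite S] (p : ℕ) [Fact p.Prime] (hS : IsPGroup p S) (F : Cfsg.FusionSystem S) (hF : F.IsSaturated p) (P : Subgroup Ω) (hP : F.StronglyClosed P) (hp : p ≠ 2) (hm : Cfsg.IsMetacyclic ↥P) : F.IsNormal P := by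
  have hp' := (Fact.out : p.Prime)
  have hPS := hP.1
  haveI := finite_of_le hPS
  set E := Cfsg.omegaOne p P with hE
  have hPp : IsPGroup p ↥P := hS.to_le hPS
  have hEP : E ≤ P := (Subgroup.closure_le _).mpr fun x hx => hx.1
  -- `E` is elementary abelian of order at most `p ^ 2`
  have hfacts : (∀ x ∈ E, x ^ p = 1) ∧ (∀ x ∈ E, ∀ y ∈ E, x * y = y * x) ∧
      Nat.card E ≤ p ^ 2 := by
    have hmap : E = (Cfsg.omegaOne p (⊤ : Subgroup ↥P)).map P.subtype := by
      rw [hE]
      simp only [Cfsg.omegaOne]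
      rw [MonoidHom.map_closure]
      congr 1
      ext x
      constructor
      · rintro ⟨hx, hxp⟩
        exact ⟨⟨x, hx⟩, ⟨Subgroup.mem_top _, Subtype.ext hxp⟩, rfl⟩
      · rintro ⟨y, ⟨-, hy⟩, rfl⟩
        exact ⟨y.2, congrArg Subtype.val hy⟩
    have hcard : Nat.card E = Nat.card (Cfsg.omegaOne p (⊤ : Subgroup ↥P)) := by
      rw [hmap, Subgroup.card_map_of_injective P.subtype_injective]
    by_cases hcyc : IsCyclic ↥P
    · letI : CommGroup ↥P := IsCyclic.commGroup
      have hpw : ∀ x ∈ Cfsg.omegaOne p (⊤ : Subgroup ↥P), x ^ p = 1 := by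
        intro x hx
        induction hx using Subgroup.closure_induction with
        | mem y hy => exact hy.2
        | one => exact one_pow p
        | mul a b _ _ iha ihb => rw [mul_pow, iha, ihb, one_mul]
        | inv a _ iha => rw [inv_pow, iha, inv_one]
      refine ⟨?_, fun x hx y hy => ?_, ?_⟩
      · intro x hx
        rw [hmap] at hx
        obtain ⟨y, hy, rfl⟩ := hx
        exact congrArg Subtype.val (hpw y hy)
      · exact congrArg Subtype.val (mul_comm (⟨x, hEP hx⟩ : ↥P) ⟨y, hEP hy⟩)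
      · rw [hcard]
        exact (PGroupsBasic.card_le_prime_of_isCyclic inferInstance hpw).trans
          (Nat.le_self_pow two_ne_zero p)
    · obtain ⟨⟨hab, hpw⟩, hc⟩ := Cfsg.Agent.S0638.result hp hPp hm hcyc
      refine ⟨?_, ?_, (hcard.trans hc).le⟩
      · intro x hx
        rw [hmap] at hx
        obtain ⟨y, hy, rfl⟩ := hx
        exact congrArg Subtype.val (hpw y hy)
      · intro x hx y hy
        rw [hmap] at hx hy
        obtain ⟨x', hx', rfl⟩ := hx
        obtain ⟨y', hy', rfl⟩ := hy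
        exact congrArg Subtype.val (PGroupsBasic.comm_of_isMulCommutative hab hx' hy')
  obtain ⟨hpw, hEc, hEcard⟩ := hfacts
  have hEmem : ∀ x : Ω, x ∈ E ↔ x ∈ P ∧ x ^ p = 1 :=
    fun x => ⟨fun hx => ⟨hEP hx, hpw x hx⟩, fun hx => Subgroup.subset_closure hx⟩
  have hEsc : F.StronglyClosed E := stronglyClosed_iff.mpr ⟨hEP.trans hPS, fun R f hR hf x hx => by
    refine (hEmem _).mpr ⟨stronglyClosed_invariant hP hf hx (hEP (hR hx)), ?_⟩
    have hpow : ∀ k : ℕ, f (x ^ k) = f x ^ k := by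
      intro k
      induction k with
      | zero => simpa using hf.map_one
      | succ k ih => rw [pow_succ, hf.map_mul (pow_mem hx k) hx, ih, pow_succ]
    rw [← hpow, hpw x (hR hx), hf.map_one]⟩
  have hbot : F.StronglyClosed (⊥ : Subgroup Ω) := stronglyClosed_of_normal normal_bot
  rw [Cfsg.Agent.S5236.result p hS F hF hp P hP]
  by_cases hcent : ∀ g ∈ P, ∀ e ∈ E, cj g e = e
  · refine ⟨1, ![⊥, E], rfl, rfl, ?_, ?_, ?_⟩
    · intro i j hij
      fin_cases i <;> fin_cases j <;> simp at hij ⊢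
    · intro i
      fin_cases i
      · exact hbot
      · exact hEsc
    · intro i
      fin_cases i
      show ⁅E, P⁆ ≤ ⊥
      refine le_of_eq (Subgroup.commutator_eq_bot_iff_le_centralizer.mpr fun e he => ?_)
      rw [Subgroup.mem_centralizer_iff]
      exact fun g hg => mul_inv_eq_iff_eq_mul.mp (hcent g hg e he)
  push Not at hcent
  set C := ⁅E, P⁆ with hC
  have hnE : S ≤ Subgroup.normalizer (E : Set Ω) := le_normalizer_of_stronglyClosed hEsc
  have hCE : C ≤ E := by
    refine Subgroup.commutator_le.mpr fun e he g hg => ?_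
    rw [commutatorElement_def]
    have h1 := cj_mem_of_normalizer (hnE (hPS hg)) (inv_mem he)
    have h2 : e * g * e⁻¹ * g⁻¹ = e * cj g e⁻¹ := by simp only [cj_apply]; group
    rw [h2]
    exact mul_mem he h1
  haveI := finite_of_le (hEP.trans hPS)
  haveI := finite_of_le (hCE.trans (hEP.trans hPS))
  have hE1 : E ≠ ⊥ := fun h => by
    obtain ⟨g, hg, e, he, hne⟩ := hcent
    rw [h, Subgroup.mem_bot] at he
    exact hne (by simp [he, cj_apply])
  have hcom : ∀ g ∈ P, ∀ e ∈ E, e⁻¹ * cj g e ∈ C := fun g hg e he => by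
    have := Subgroup.commutator_mem_commutator (H₁ := E) (H₂ := P) (inv_mem he) hg
    rw [commutatorElement_def, inv_inv] at this
    simpa [cj_apply, mul_assoc] using this
  have hC1 : C ≠ ⊥ := fun h => by
    obtain ⟨g, hg, e, he, hne⟩ := hcent
    have := hcom g hg e he
    rw [h, Subgroup.mem_bot, inv_mul_eq_one] at this
    exact hne this.symm
  have hCcard : Nat.card C = p := by
    obtain ⟨m, hm'⟩ := IsPGroup.iff_card.mp (hS.to_le (hCE.trans (hEP.trans hPS)))
    have hlt : Nat.card C < p ^ 2 := by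
      refine lt_of_lt_of_le (lt_of_le_of_ne (Subgroup.card_le_of_le hCE) fun h => ?_) hEcard
      exact commutator_lt hS (hEP.trans hPS) hPS hE1
        (eq_of_le_of_card_ge (hEP.trans hPS) hCE h.ge).ge
    have hm0 : m ≠ 0 := by
      rintro rfl
      exact hC1 (Subgroup.card_eq_one.mp (hm'.trans (pow_zero p)))
    have hm1 : m < 2 := by
      rw [hm'] at hlt
      exact (Nat.pow_lt_pow_iff_right hp'.one_lt).mp hlt
    rw [hm', show m = 1 by omega, pow_one]
  have hCn : ∀ s ∈ S, ∀ c ∈ C, cj s c ∈ C := by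
    intro s hs c hc
    have h : C.map (MulAut.conj s).toMonoidHom ≤ C := by
      rw [hC, Subgroup.map_commutator]
      refine Subgroup.commutator_mono ?_ ?_
      · rintro _ ⟨e, he, rfl⟩
        exact cj_mem_of_normalizer (hnE hs) he
      · rintro _ ⟨g, hg, rfl⟩
        exact cj_mem_of_stronglyClosed hP hs hg
    exact h ⟨c, hc, rfl⟩
  have hCz : ∀ s ∈ S, ∀ c ∈ C, cj s c = c := by
    haveI : (C.subgroupOf S).Normal := ⟨fun n hn g => hCn g g.2 n hn⟩
    have h : C.subgroupOf S ≤ Subgroup.center ↥S := PGroupsBasic.le_center_of_card_eq_prime hS (by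
      rw [Nat.card_congr (Subgroup.subgroupOfEquivOfLe (hCE.trans (hEP.trans hPS))).toEquiv, hCcard])
    intro s hs c hc
    have h1 := congrArg Subtype.val (Subgroup.mem_center_iff.mp
      (h (show (⟨c, hPS (hEP (hCE hc))⟩ : ↥S) ∈ C.subgroupOf S from hc)) ⟨s, hs⟩)
    exact mul_inv_eq_iff_eq_mul.mpr h1
  have hCN : F.IsNormal C := by
    refine isNormal_of_le_autGroup hS hF fun Q hQ => ?_
    rcases hQ with rfl | hQ
    · refine ⟨hCE.trans (hEP.trans hPS), fun α hα x hx => ?_⟩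
      have hm' := (mem_autGroup le_rfl).mp hα
      obtain ⟨φ, hφ, he⟩ := hm'
      have h : (C.subgroupOf Q).map φ ≤ C := by
        rw [map_subgroupOf_eq_im (hCE.trans (hEP.trans hPS)) hφ he]
        refine im_le_iff.mpr ?_
        intro z hz
        have hgen : C ≤ (⁅E.subgroupOf Q, P.subgroupOf Q⁆).map Q.subtype := by
          rw [Subgroup.map_commutator, Subgroup.subgroupOf_map_subtype, Subgroup.subgroupOf_map_subtype,
            inf_eq_left.mpr (hEP.trans hPS), inf_eq_left.mpr hPS]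
        obtain ⟨z', hz', rfl⟩ := hgen hz
        have h2 : (⁅E.subgroupOf Q, P.subgroupOf Q⁆).map φ ≤ C := by
          rw [Subgroup.map_commutator]
          refine Subgroup.commutator_mono ?_ ?_
          · rintro _ ⟨e, he', rfl⟩
            rw [he]
            exact stronglyClosed_invariant hEsc ((mem_autGroup le_rfl).mp hα) e.2 he'
          · rintro _ ⟨g, hg', rfl⟩
            rw [he]
            exact stronglyClosed_invariant hP ((mem_autGroup le_rfl).mp hα) g.2 hg'
        have := h2 ⟨z', hz', rfl⟩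
        rwa [he] at this
      have hxQ := hPS (hEP (hCE hx))
      have := h ⟨⟨x, hxQ⟩, hx, rfl⟩
      rwa [he] at this
    · refine ⟨fun c hc => centralizerIn_le_of_centric hQ.1 (mem_centralizerIn.mpr
        ⟨hPS (hEP (hCE hc)), fun x hx => ?_⟩), fun α hα x hx => ?_⟩
      · have h1 := hCz x (hQ.1.1 hx) c hc
        simp only [cj_apply] at h1 ⊢
        rw [mul_inv_eq_iff_eq_mul] at h1 ⊢
        exact h1.symm
      · exact key hS hF hp hP hEP hEmem hEc hEcard hCE hCcard hCz hcom hcent hQ hα hx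
  refine ⟨2, ![⊥, C, E], rfl, rfl, ?_, ?_, ?_⟩
  · refine Fin.monotone_iff_le_succ.mpr fun i => ?_
    fin_cases i
    · exact bot_le
    · exact hCE
  · intro i
    fin_cases i
    · exact hbot
    · exact stronglyClosed_of_normal hCN
    · exact hEsc
  · intro i
    fin_cases i
    · show ⁅C, P⁆ ≤ ⊥
      refine le_of_eq (Subgroup.commutator_eq_bot_iff_le_centralizer.mpr fun c hc => ?_)
      rw [Subgroup.mem_centralizer_iff]
      exact fun g hg => mul_inv_eq_iff_eq_mul.mp (hCz g (hPS hg) c hc)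
    · exact le_rfl

end Cfsg.Agent.S5234
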