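import Cfsg.Statements.S5239
import Mathlib
import Cfsg.Agent.Lib.FusionPearl
import Cfsg.Agent.Lib.FusionPearlCube
import Cfsg.Agent.Lib.PearlThree
import Cfsg.Agent.Lib.OrderFourGroups88

set_option autoImplicit false
open Cfsg

namespace Cfsg.Agent.S5239





/-- Let F be a saturated fusion system over a finite 3-group S having a pearl: an F-essential subgroup E that is elementary abelian of order 9 or nonabelian of order 27. Then either S is extraspecial of order 27 and exponent 3, or S has order at least 81 and every subgroup of S can be generated by at most two elements, or S is isomorphic to the wreath product C₃ ≀ C₃ (a Sylow 3-subgroup of the symmetric group of degree 9). -/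
theorem result {Ω : Type*} [Group Ω] {S : Subgroup Ω} [Finite S] (hS : IsPGroup 3 S) (F : Cfsg.FusionSystem S) (hF : F.IsSaturated 3) [Fact (Nat.Prime 3)] (E : Subgroup Ω) (hE : F.IsEssential 3 E) (hpearl : (Nat.card E = 9 ∧ ∀ x ∈ E, x ^ 3 = 1 ∧ IsMulCommutative ↥E) ∨ (Nat.card E = 27 ∧ ¬ IsMulCommutative ↥E)) : (Cfsg.IsExtraspecial 3 ↥S ∧ Nat.card S = 27 ∧ Monoid.exponent ↥S = 3) ∨ (81 ≤ Nat.card S ∧ ∀ H : Subgroup Ω, H ≤ S → ∃ T : Finset Ω, T.card ≤ 2 ∧ Subgroup.closure (T : Set Ω) = H) ∨ (∃ W : Sylow 3 (Equiv.Perm (Fin 9)), Nonempty (↥S ≃* ↥(W : Subgroup (Equiv.Perm (Fin 9))))) := by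
  classical
  obtain ⟨x, hx, hC⟩ := Cfsg.Agent.FusionPearl.exists_small_centralizer hS hF (by norm_num) hE
    hpearl
  obtain ⟨m, hm⟩ := IsPGroup.iff_card.mp hS
  have hlt := Cfsg.Agent.FusionSysAlperin.essential_lt hS hF hE
  have hES : E ≤ S := hlt.le
  have hcl : Nat.card E < Nat.card S := by
    refine lt_of_le_of_ne (Nat.card_le_card_of_injective _ (Subgroup.inclusion_injective hES))
      fun e => hlt.ne ?_
    have h : E.subgroupOf S = ⊤ := Subgroup.eq_top_of_card_eq _
      ((Nat.card_congr (Subgroup.subgroupOfEquivOfLe hES).toEquiv).trans e)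
    exact le_antisymm hES (Subgroup.subgroupOf_eq_top.mp h)
  have hm3 : 3 ≤ m := by
    have h9 : 9 ≤ Nat.card E := by
      rcases hpearl with ⟨h, -⟩ | ⟨h, -⟩ <;> omega
    have h : (3 : ℕ) ^ 2 < 3 ^ m := by rw [← hm]; omega
    have := (Nat.pow_lt_pow_iff_right (by norm_num : 1 < 3)).mp h
    omega
  obtain rfl | h4 : m = 3 ∨ 4 ≤ m := by omega
  · left
    rcases hpearl with ⟨hc, h⟩ | ⟨hc, -⟩
    swap
    · rw [hm, hc] at hcl; omega
    obtain ⟨hnc, hexp⟩ := Cfsg.Agent.FusionPearlCube.exponent_of_pearl hS hF (by norm_num) hm hE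
      (hc.trans (by norm_num)) fun y hy => (h y hy).1
    refine ⟨Cfsg.Agent.OrderFourGroups88.extraspecial_of_exponent hm hnc hexp,
      hm.trans (by norm_num), ?_⟩
    refine ((Nat.dvd_prime (Fact.out : Nat.Prime 3)).mp
      (Monoid.exponent_dvd_of_forall_pow_eq_one hexp)).resolve_left fun h1 => hnc ⟨⟨fun a b => ?_⟩⟩
    have := Monoid.exp_eq_one_iff.mp h1
    exact Subsingleton.elim _ _
  · rcases Cfsg.Agent.PearlThree.main hm hC hx h4 with h | ⟨rfl, K, hK, hcore⟩
    · refine Or.inr (Or.inl ⟨?_, fun H hH => ?_⟩)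
      · rw [hm]
        exact le_trans (by norm_num) (Nat.pow_le_pow_right (by norm_num) h4)
      · obtain ⟨T, hT, hTH⟩ := h (H.subgroupOf S)
        refine ⟨T.image S.subtype, Finset.card_image_le.trans hT, ?_⟩
        rw [Finset.coe_image, ← MonoidHom.map_closure, hTH, Subgroup.subgroupOf_map_subtype,
          inf_eq_left.mpr hH]
    · exact Or.inr (Or.inr (Cfsg.Agent.PearlThree.exists_sylow_iso
        (hm.trans (by norm_num)) hK hcore))

end Cfsg.Agent.S5239
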