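import Cfsg.Statements.S5240
import Cfsg.Agent.Lib.FusionQdFree89

set_option autoImplicit false
open Cfsg

namespace Cfsg.Agent.S5240

/-- Let F be a saturated fusion system over a finite p-group S that is Qd(p)-free (Qd(p), the natural semidirect product of an elementary abelian group of order p² by SL₂(p), is not involved in any model of the normalizer system of a fully normalized centric subgroup), and let Q be a fully normalized subgroup of S. Then every normalizer fusion system of Q in F is Qd(p)-free. -/
theorem result {Ω : Type*} [Group Ω] {S : Subgroup Ω} [Finite S] (p : ℕ) [Fact p.Prime] (hS : IsPGroup p S) (F : Cfsg.FusionSystem S) (hF : F.IsSaturated p) (hfree : F.IsSectionFree p ↥(Cfsg.qd p)) (Q : Subgroup Ω) (hQ : F.IsFullyNormalized Q) (N : Cfsg.FusionSystem (Cfsg.FusionSystem.normalizerIn S Q)) (hN : F.IsNormalizerSystem Q N) : N.IsSectionFree p ↥(Cfsg.qd p) := by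
  open Cfsg.FusionSystem Cfsg.Agent.FusionSysBasic Cfsg.Agent.FusionSysNormal in
  intro R hR hRc X hX L _ ι hM
  haveI := hM.1
  obtain ⟨P, hP, π, hπ, hπι, hact⟩ := FusionQdFree89.model_data hM
  refine FusionQdFree89.not_involves hS hF hfree (hP.trans (inf_le_left.trans inf_le_left))
    (K := ⊥) FusionSysNormal.normal_bot bot_le hM.2.2.2 π hπ (fun r => ?_) fun g => ?_
  · rw [Subgroup.mem_bot]
    constructor
    · intro h
      have h' := congrArg Subtype.val h
      rw [hπι] at h'
      exact congrArg Subtype.val (hM.2.1.1 (h'.trans (map_one ι).symm))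
    · intro h
      rw [show r = 1 from Subtype.ext h, map_one]
  · obtain ⟨f, hf, hfc⟩ := hact g
    exact ⟨f, ((FusionSysNormal.mor_normalizerSystem_iff hN).mp
      ((FusionSysNormal.mor_normalizerSystem_iff hX).mp hf).1).1, hfc⟩

end Cfsg.Agent.S5240
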