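import Cfsg.Statements.S5241
import Cfsg.Agent.Lib.FusionQdFree89

set_option autoImplicit false
open Cfsg

namespace Cfsg.Agent.S5241

/-- Let F be a saturated fusion system over a finite p-group S, Q a subgroup of S normal in F (so F is the normalizer system of Q), and suppose F is Qd(p)-free (Qd(p) is not involved in any model of the normalizer system of a fully normalized centric subgroup). Then every factor system F/Q is Qd(p)-free. -/
theorem result {Ω : Type*} [Group Ω] {S : Subgroup Ω} [Finite S] (p : ℕ) [Fact p.Prime] (hS : IsPGroup p S) (F : Cfsg.FusionSystem S) (hF : F.IsSaturated p) (Q : Subgroup Ω) (hQ : F.IsNormal Q) (hfree : F.IsSectionFree p ↥(Cfsg.qd p)) {Ω' : Type*} [Group Ω'] {S' : Subgroup Ω'} (θ : ↥S →* Ω') (E : Cfsg.FusionSystem S') (hE : F.IsFactorSystem Q θ E) : E.IsSectionFree p ↥(Cfsg.qd p) := by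
  open Cfsg.FusionSystem in
  intro R' hR' hR'c X hX L _ ι hM
  haveI := hM.1
  obtain ⟨P', hP', π, hπ, hπι, hact⟩ := FusionQdFree89.model_data hM
  obtain ⟨hQS, hker, hrange, hhom⟩ := hE
  set P := Cfsg.FusionSystem.preimageAlong θ P' with hPdef
  have hPS : P ≤ S := Subgroup.map_subtype_le _
  have hmem : ∀ r : P, θ ⟨r, hPS r.2⟩ ∈ P' := by
    rintro ⟨r, s, hs, rfl⟩
    exact hs
  let ρ : P →* P' := (θ.comp (Subgroup.inclusion hPS)).codRestrict P' hmem
  have hQP : Q ≤ P := fun q hq => ⟨⟨q, hQS hq⟩, by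
    show θ ⟨q, hQS hq⟩ ∈ P'
    rw [(hker ⟨q, hQS hq⟩).mpr hq]; exact P'.one_mem, rfl⟩
  refine FusionQdFree89.not_involves hS hF hfree hPS hQ hQP hM.2.2.2 (π.comp ρ)
    (fun a => ?_) (fun r => ?_) fun g => ?_
  · obtain ⟨⟨y, hy⟩, rfl⟩ := hπ a
    obtain ⟨s, rfl⟩ : y ∈ θ.range := hrange ▸ (show y ∈ _ from (hP' hy).1)
    exact ⟨⟨s, s, hy, rfl⟩, congrArg π (Subtype.ext rfl)⟩
  · rw [MonoidHom.comp_apply]
    constructor
    · intro h
      have h' := congrArg Subtype.val h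
      rw [hπι] at h'
      exact (hker ⟨r, hPS r.2⟩).mp (congrArg Subtype.val (hM.2.1.1 (h'.trans (map_one ι).symm)))
    · intro h
      rw [show ρ r = 1 from Subtype.ext ((hker ⟨r, hPS r.2⟩).mpr h), map_one]
  · obtain ⟨f, hf, hfc⟩ := hact g
    obtain ⟨φ', hφ', he'⟩ := ((FusionSysNormal.mor_normalizerSystem_iff hX).mp hf).1
    obtain ⟨-, φ, hφ, hP0, hφS, hφP, hind⟩ := (hhom P' φ').mp hφ'
    refine ⟨FusionSysBasic.toFun φ, FusionSysBasic.mor_toFun hφ, fun r => ?_⟩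
    obtain ⟨hfr, hc⟩ := hfc (ρ r)
    have e1 : θ ⟨φ r, hφS r⟩ = f (ρ r : Ω') := (hind r).symm.trans (he' (ρ r))
    have hh : FusionSysBasic.toFun φ r ∈ P := by
      rw [FusionSysBasic.toFun_coe]
      refine ⟨⟨φ r, hφS r⟩, ?_, rfl⟩
      show θ ⟨φ r, hφS r⟩ ∈ P'
      rw [e1]
      exact hfr
    refine ⟨hh, ?_⟩
    rw [MonoidHom.comp_apply, MonoidHom.comp_apply, hc]
    refine congrArg (fun z => (π z : L)) (Subtype.ext ?_)
    show f (ρ r : Ω') = θ ⟨FusionSysBasic.toFun φ r, hPS hh⟩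
    rw [← e1]
    exact congrArg θ (Subtype.ext (FusionSysBasic.toFun_coe φ r).symm)

end Cfsg.Agent.S5241
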