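import Cfsg.Statements.S5243
import Cfsg.Agent.Lib.FusionKernelChar88

set_option autoImplicit false
open Cfsg

namespace Cfsg.Agent.S5243

open Cfsg.FusionSystem Cfsg.Agent.FusionSysBasic Cfsg.Agent.FusionPrimeIndex88
open Cfsg.Agent.FusionKernelChar88

/-- Let F be a saturated fusion system over a finite p-group S, E a normal subsystem of F over T ≤ S, and χ a surjective homomorphism from Aut_F(T) onto a nontrivial finite group Δ of order prime to p whose kernel contains Aut_E(T). Then there is a proper normal subsystem F₀ of F over S containing E such that Aut_{F₀}(S) consists of those α ∈ Aut_F(S) whose restriction to T is an element of Aut_F(T) in the kernel of χ; moreover every p'-residual subsystem O^{p'}(F) of F is contained in F₀. -/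
theorem result {Ω : Type*} [Group Ω] {S : Subgroup Ω} [Finite S] (p : ℕ) [Fact p.Prime] (hS : IsPGroup p S) (F : Cfsg.FusionSystem S) (hF : F.IsSaturated p) {T : Subgroup Ω} (hTS : T ≤ S) (E : Cfsg.FusionSystem T) (hE : E.IsNormalIn F p) {Δ : Type*} [Group Δ] [Finite Δ] [Nontrivial Δ] (hΔ : (Nat.card Δ).Coprime p) (χ : ↥(F.autGroup T) →* Δ) (hχ : Function.Surjective χ) (hker : (E.autGroup T).subgroupOf (F.autGroup T) ≤ χ.ker) : ∃ F₀ : Cfsg.FusionSystem S, F₀.IsNormalIn F p ∧ ¬ (∀ P : Subgroup Ω, F₀.Hom P = F.Hom P) ∧ E.IsSubsystemOf F₀ ∧ (∀ α : MulAut ↥S, α ∈ F₀.autGroup S ↔ α ∈ F.autGroup S ∧ ∃ β : ↥(F.autGroup T), χ β = 1 ∧ ∀ t : ↥T, (((β : MulAut ↥T) t : ↥T) : Ω) = ((α ⟨(t : Ω), hTS t.2⟩ : ↥S) : Ω)) ∧ ∀ R : Cfsg.FusionSystem S, F.IsPPrimeResidual p R → R.IsSubsystemOf F₀ := by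
  have hpp : p.Prime := Fact.out
  set K : Subgroup (MulAut T) := χ.ker.map (F.autGroup T).subtype with hK
  have hmemK : ∀ (β : MulAut T) (hβ : β ∈ F.autGroup T), β ∈ K ↔ χ ⟨β, hβ⟩ = 1 := by
    intro β hβ
    refine ⟨?_, fun h => ⟨⟨β, hβ⟩, h, rfl⟩⟩
    rintro ⟨⟨γ, hγ⟩, h, rfl⟩
    exact h
  have hKF : K ≤ F.autGroup T := Subgroup.map_subtype_le _
  have hEK : E.autGroup T ≤ K := fun β hβ => by
    have hβF : β ∈ F.autGroup T :=
      mem_autGroup_of_mor (FusionKit88.sub_mor hE.1.2.2.1 ((mem_autGroup le_rfl).1 hβ))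
    exact (hmemK β hβF).2 (hker (show (⟨β, hβF⟩ : F.autGroup T) ∈ _ from hβ))
  have hpow : ∀ β ∈ F.autGroup T, ∀ i : ℕ, β ^ p ^ i ∈ K → β ∈ K := by
    intro β hβ i hi
    refine (hmemK β hβ).2 (orderOf_eq_one_iff.1 (Nat.eq_one_of_dvd_coprimes
      (hΔ.pow_right i) (orderOf_dvd_natCard _) (orderOf_dvd_of_pow_eq_one ?_)))
    rw [← map_pow]
    exact (hmemK _ (pow_mem hβ _)).1 hi
  have h : KerLike F E K p := ⟨hE.1.2.2, hE.1.1, hKF, hEK, hpow⟩
  have hn : ∀ γ ∈ F.autGroup T, ∀ β ∈ K, γ * β * γ⁻¹ ∈ K := by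
    intro γ hγ β hβ
    refine (hmemK _ (mul_mem (mul_mem hγ (hKF hβ)) (inv_mem hγ))).2 ?_
    have h1 := (hmemK β (hKF hβ)).1 hβ
    rw [show (⟨γ * β * γ⁻¹, _⟩ : F.autGroup T) = ⟨γ, hγ⟩ * ⟨β, hKF hβ⟩ * ⟨γ, hγ⟩⁻¹ from rfl,
      map_mul, map_mul, h1, mul_one, map_inv, mul_inv_cancel]
  have hsat := saturated_EH hS hF (a0_le_hSub hS hF h)
  refine ⟨EH F p (hSub h), normal_EH_hSub hS hF h hn, fun hall => ?_, fun P φ hφ => ?_,
    fun α => ?_, fun R hR => hR.2.2 _ hsat primeIndex_EH⟩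
  · obtain ⟨δ, hδ⟩ := exists_ne (1 : Δ)
    obtain ⟨⟨γ, hγ⟩, hγδ⟩ := hχ δ
    have := finite_of_le hTS
    have hTn : F.IsFullyNormalized T := ⟨hTS, fun R hR => by
      obtain ⟨g, hg, rfl⟩ := FusionSysBasic.isConj_iff.1 hR
      rw [self_map hE.1.2.2.2.1 hg]⟩
    have hnN : ∀ s ∈ S, s ∈ normalizerIn S T := fun s hs => ⟨hs, mem_normalizer_of_cj_le hTS
      fun x hx => FusionKit88.closed_apply hE.1.2.2.2.1 (mor_cj (F := F) hTS hs) le_rfl hx⟩
    obtain ⟨β, hβ, m, hm, -, hγe, f, hf, hfe⟩ := FusionFrattini88.frattini_ext hS hF hTn K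
      (fun a ha m hm _ => hn a ha m hm) (le_refl (normalizerIn S T)) (fun s hs => by
        have hsF : nHom S T ⟨s, hs⟩ ∈ F.autGroup T :=
          autInducedBy_le hTS ((autInducedBy_eq_range S T).ge ⟨_, rfl⟩)
        obtain ⟨j, hj⟩ := IsPGroup.iff_orderOf.1 (isPGroup_autInducedBy hS T)
          ⟨_, (autInducedBy_eq_range S T).ge ⟨⟨s, hs⟩, rfl⟩⟩
        rw [Subgroup.orderOf_mk] at hj
        refine hpow _ hsF j ?_
        rw [← hj, pow_orderOf_eq_one]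
        exact one_mem _) hγ
    have hfS : Mor F S f := hf.restrict_to fun x hx => Subgroup.mem_sup_right (hnN x hx)
    obtain ⟨a, ha, hae⟩ := hfS.exists_aut (hfS.im_self fun x hx => hfS.apply_mem hx)
    have ha' : a ∈ (EH F p (hSub h)).autGroup S := by
      obtain ⟨φ, hφ, he⟩ := (mem_autGroup le_rfl).1 ha
      exact mem_autGroup_of_mor ⟨φ, hall S ▸ hφ, he⟩
    obtain ⟨-, β', hβ', hβe⟩ := (autGroup_EH_hSub hS hF h).1 ha'
    have hββ : β' = β := afun_ext fun t ht => by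
      rw [hβe t ht, hae t (hTS ht), hfe t ht]
    have hγK : γ ∈ K := hγe ▸ mul_mem (hββ ▸ hβ') hm
    exact hδ (hγδ ▸ (hmemK γ hγ).1 hγK)
  · exact (mor_iff_hom fun x => (toFun_coe φ x).symm).1 (sub_EH_hSub hS hF h (mor_toFun hφ))
  · rw [autGroup_EH_hSub hS hF h, mem_hSub]
    refine and_congr_right fun _ => ⟨?_, ?_⟩
    · rintro ⟨β, hβ, he⟩
      refine ⟨⟨β, hKF hβ⟩, (hmemK β (hKF hβ)).1 hβ, fun t => ?_⟩
      rw [← afun_coe, ← afun_coe]
      exact he t t.2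
    · rintro ⟨⟨β, hβ⟩, h1, he⟩
      refine ⟨β, (hmemK β hβ).2 h1, fun t ht => ?_⟩
      have := he ⟨t, ht⟩
      rw [← afun_coe, ← afun_coe] at this
      exact this

end Cfsg.Agent.S5243
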