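import Cfsg.Statements.S5244
import Cfsg.Agent.Lib.FusionAbelianIndexPSeries89

set_option autoImplicit false
open Cfsg

set_option autoImplicit false
set_option linter.style.haveILetI false
set_option linter.unusedSectionVars false

open Cfsg Cfsg.FusionSystem Cfsg.Agent.FusionSysBasic Cfsg.Agent.FusionSysSaturated
  Cfsg.Agent.FusionSysAlperin Cfsg.Agent.FusionSysNormal
open scoped commutatorElement

namespace Cfsg.Agent.FusionAbelianIndexP89

variable {Ω : Type*} [Group Ω] {p : ℕ} {S A : Subgroup Ω} {F : Cfsg.FusionSystem S}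

/-- `Z(S) ∩ [S, S]`. -/
abbrev Zone (S : Subgroup Ω) : Subgroup Ω := Zc S ⊓ ⁅S, S⁆

variable [Finite S] [Fact p.Prime]

theorem exists_eq_pow {B : Subgroup Ω} (hB : B ≤ S) (hc : Nat.card B = p) {e b : Ω} (he : e ∈ B)
    (he1 : e ≠ 1) (hb : b ∈ B) : ∃ k : ℕ, e ^ k = b := by
  haveI := finite_of_le hB
  obtain ⟨k, hk⟩ := Submonoid.mem_powers_iff _ _ |>.mp
    (mem_powers_of_prime_card hc (g := (⟨e, he⟩ : B)) (g' := ⟨b, hb⟩)
      (fun h => he1 (congrArg Subtype.val h)))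
  exact ⟨k, by simpa using congrArg Subtype.val hk⟩

theorem pow_card_eq_one {B : Subgroup Ω} (hc : Nat.card B = p) {e : Ω} (he : e ∈ B) : e ^ p = 1 := by
  have := congrArg Subtype.val (pow_card_eq_one' (G := B) (x := ⟨e, he⟩))
  simpa [hc] using this

theorem mor_Zc_mem {f : Ω → Ω} (hf : Mor F S f) {z : Ω} (hz : z ∈ Zc S) : f z ∈ Zc S := by
  refine mem_Zc.mpr ⟨hf.apply_mem hz.1, fun y hy => ?_⟩
  obtain ⟨y', hy', rfl⟩ := hf.mem_im.mp
    ((hf.im_self fun u hu => hf.apply_mem hu).ge hy : y ∈ im S f)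
  rw [← hf.map_mul hy' hz.1, ← hf.map_mul hz.1 hy', (mem_Zc.mp hz).2 y' hy']

theorem mor_Zone_mem {f : Ω → Ω} (hf : Mor F S f) {z : Ω} (hz : z ∈ Zone S) : f z ∈ Zone S := by
  refine ⟨mor_Zc_mem hf hz.1, ?_⟩
  let K : Subgroup Ω :=
    { carrier := {y | y ∈ S ∧ f y ∈ ⁅S, S⁆}
      one_mem' := ⟨S.one_mem, by rw [hf.map_one]; exact one_mem _⟩
      mul_mem' := fun ha hb => ⟨S.mul_mem ha.1 hb.1, by
        rw [hf.map_mul ha.1 hb.1]; exact mul_mem ha.2 hb.2⟩
      inv_mem' := fun ha => ⟨S.inv_mem ha.1, by rw [hf.map_inv ha.1]; exact inv_mem ha.2⟩ }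
  have hle : ⁅S, S⁆ ≤ K := Subgroup.commutator_le.mpr fun a ha b hb => by
    refine ⟨S.mul_mem (S.mul_mem (S.mul_mem ha hb) (S.inv_mem ha)) (S.inv_mem hb), ?_⟩
    rw [commutatorElement_def, hf.map_mul (S.mul_mem (S.mul_mem ha hb) (S.inv_mem ha)) (S.inv_mem hb),
      hf.map_mul (S.mul_mem ha hb) (S.inv_mem ha), hf.map_mul ha hb, hf.map_inv ha, hf.map_inv hb]
    exact Subgroup.commutator_mem_commutator (hf.apply_mem ha) (hf.apply_mem hb)
  exact (hle hz.2).2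

variable (hS : IsPGroup p S) (hF : F.IsSaturated p)
include hS hF

/-- Restricted to `Z(S)`, `Aut_F(S)` has order prime to `p`. -/
theorem fix_of_stabilizes (hc : Nat.card (Zone S) = p) {γ : MulAut S} (hγ : γ ∈ F.autGroup S)
    (hfix : ∀ e ∈ Zone S, afun γ e = e) {z : Ω} (hz : z ∈ Zc S)
    (hzz : ∀ z ∈ Zc S, z⁻¹ * afun γ z ∈ Zone S) : afun γ z = z := by
  haveI := finite_autGroup (F := F) S
  obtain ⟨T, hT⟩ := (fullyAutomized_of_saturated_self hF).2
  rw [autInducedBy_self] at hT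
  set I := (Inn S).subgroupOf (F.autGroup S) with hI
  haveI : I.Normal := inn_normal F S
  have hm : ¬ p ∣ I.index := by rw [← hT]; exact T.not_dvd_index
  have h1 : afun (γ ^ I.index) z = z := by
    have hmem := Subgroup.pow_index_mem I (⟨γ, hγ⟩ : F.autGroup S)
    rw [hI, Subgroup.mem_subgroupOf, ← autInducedBy_self, mem_autInducedBy] at hmem
    obtain ⟨s, hs, -, hse⟩ := hmem
    have := hse z hz.1
    rw [Subgroup.coe_pow, autInducedBy_self, ← hI] at this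
    rw [this, cj_apply, (mem_Zc.mp hz).2 s hs, mul_inv_cancel_right]
  have h2 : afun (γ ^ p) z = z := by
    rw [pow_fix_step (Y := Zc S) (fun u hu => hu.1) hfix hzz p z hz,
      pow_card_eq_one hc (hzz z hz), mul_one]
  set z' : S := ⟨z, hz.1⟩
  have hst : ∀ β : MulAut S, afun β z = z ↔ β ∈ MulAction.stabilizer (MulAut S) z' := fun β => by
    rw [MulAction.mem_stabilizer_iff, MulAut.smul_def, afun_apply β hz.1]
    exact ⟨fun h => Subtype.ext h, fun h => congrArg Subtype.val h⟩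
  rw [hst] at h1 h2 ⊢
  have hco : Nat.gcd I.index p = 1 :=
    Nat.Coprime.symm ((Nat.Prime.coprime_iff_not_dvd Fact.out).mpr hm)
  have hb := Nat.gcd_eq_gcd_ab I.index p
  rw [hco, Nat.cast_one] at hb
  rw [← zpow_one γ, hb, zpow_add, zpow_mul, zpow_natCast, zpow_mul, zpow_natCast]
  exact mul_mem (zpow_mem h1 _) (zpow_mem h2 _)

omit hS hF in
/-- Automorphisms of `S` centralising `Z(S)/Z₁` but not `Z₁`. -/
def KP (F : Cfsg.FusionSystem S) (f : Ω → Ω) : Prop :=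
  Mor F S f ∧ (∀ z ∈ Zc S, z⁻¹ * f z ∈ Zone S) ∧ ∃ e ∈ Zone S, f e ≠ e

theorem fixed_unique (hc : Nat.card (Zone S) = p) {f g : Ω → Ω} (hf : KP F f) (hg : KP F g)
    {d : Ω} (hd : d ∈ Zc S) (hfd : f d = d) : g d = d := by
  obtain ⟨hfm, hfz, e₀, he₀, hfe₀⟩ := hf
  obtain ⟨hgm, hgz, -⟩ := hg
  have hle : Zone S ≤ S := inf_le_left.trans inf_le_left
  have he1 : e₀ ≠ 1 := fun h => hfe₀ (by rw [h, hfm.map_one])
  have hpow : ∀ {h : Ω → Ω}, Mor F S h → ∀ {u : Ω}, u ∈ S → ∀ n : ℕ, h (u ^ n) = h u ^ n := by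
    intro h hh u hu n
    induction n with
    | zero => rw [pow_zero, pow_zero, hh.map_one]
    | succ n ih => rw [pow_succ, pow_succ, hh.map_mul (pow_mem hu n) hu, ih]
  have hcomm : ∀ z ∈ Zone S, f (g z) = g (f z) := by
    intro z hz
    obtain ⟨i, hi⟩ := exists_eq_pow hle hc he₀ he1 (mor_Zone_mem hfm he₀)
    obtain ⟨j, hj⟩ := exists_eq_pow hle hc he₀ he1 (mor_Zone_mem hgm he₀)
    obtain ⟨k, rfl⟩ := exists_eq_pow hle hc he₀ he1 hz
    rw [hpow hgm (hle he₀), ← hj, ← pow_mul, hpow hfm (hle he₀), hpow hfm (hle he₀), ← hi,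
      ← pow_mul, ← pow_mul, hpow hgm (hle he₀), ← hj, ← pow_mul]
    ring_nf
  obtain ⟨α, hα, hαe⟩ := (hgm.comp hfm fun x hx => hgm.apply_mem hx).exists_aut
    ((hgm.comp hfm fun x hx => hgm.apply_mem hx).im_self fun x hx =>
      (hgm.comp hfm fun x hx => hgm.apply_mem hx).apply_mem hx)
  obtain ⟨β, hβ, hβe⟩ := (hfm.comp hgm fun x hx => hfm.apply_mem hx).exists_aut
    ((hfm.comp hgm fun x hx => hfm.apply_mem hx).im_self fun x hx =>
      (hfm.comp hgm fun x hx => hfm.apply_mem hx).apply_mem hx)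
  have hmod : ∀ {f g : Ω → Ω}, Mor F S f → (∀ z ∈ Zc S, z⁻¹ * f z ∈ Zone S) → Mor F S g →
      (∀ z ∈ Zc S, z⁻¹ * g z ∈ Zone S) → ∀ z ∈ Zc S, z⁻¹ * f (g z) ∈ Zone S := by
    intro f g hfm hfz hgm hgz z hz
    have := mul_mem (hgz z hz) (hfz _ (mor_Zc_mem hgm hz))
    rwa [mul_assoc, mul_inv_cancel_left] at this
  have hγ : ∀ z ∈ Zc S, afun (β⁻¹ * α) z = z := by
    have hβ' := (mem_autGroup le_rfl).mp (inv_mem hβ)
    refine fun z hz => fix_of_stabilizes hS hF hc (mul_mem (inv_mem hβ) hα) (fun e he => ?_) hz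
      fun z hz => ?_
    · rw [afun_mul _ _ (hle he), hαe e (hle he)]
      show afun β⁻¹ (f (g e)) = e
      rw [hcomm e he]
      show afun β⁻¹ ((g ∘ f) e) = e
      rw [← hβe e (hle he), afun_inv_apply β (hle he)]
    · have h1 := hmod hfm hfz hgm hgz z hz
      have h2 := hmod hgm hgz hfm hfz z hz
      have h3 := mor_Zone_mem hβ' (mul_mem (inv_mem h2) h1)
      have hgf := mor_Zc_mem hgm (mor_Zc_mem hfm hz)
      have hfg := mor_Zc_mem hfm (mor_Zc_mem hgm hz)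
      have e : (z⁻¹ * g (f z))⁻¹ * (z⁻¹ * f (g z)) = (g (f z))⁻¹ * f (g z) := by group
      rw [e, hβ'.map_mul (S.inv_mem hgf.1) hfg.1, hβ'.map_inv hgf.1] at h3
      have e2 : afun β⁻¹ (g (f z)) = z := by
        show afun β⁻¹ ((g ∘ f) z) = z
        rw [← hβe z hz.1, afun_inv_apply β hz.1]
      rw [e2] at h3
      rw [afun_mul _ _ hz.1, hαe z hz.1]
      exact h3
  have heq : f (g d) = g (f d) := by
    have h4 := congrArg (afun β) (hγ d hd)
    rw [afun_mul _ _ hd.1, afun_apply_inv β (afun_mem α hd.1), hαe d hd.1, hβe d hd.1] at h4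
    exact h4
  rw [hfd] at heq
  have he : d⁻¹ * g d ∈ Zone S := hgz d hd
  have hfix : f (d⁻¹ * g d) = d⁻¹ * g d := by
    rw [hfm.map_mul (S.inv_mem hd.1) (hgm.apply_mem hd.1), hfm.map_inv hd.1, hfd, heq]
  by_contra hne
  have hne' : d⁻¹ * g d ≠ 1 := fun h => hne (inv_mul_eq_one.mp h).symm
  obtain ⟨k, hk⟩ := exists_eq_pow hle hc he hne' he₀
  exact hfe₀ (by rw [← hk, hpow hfm (hle he), hfix])

variable (h : Setting p S A)
include h

/-- Extension of automorphisms of `Z(S)` to `S`. -/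
theorem extend_Zc {P : Subgroup Ω} {f : Ω → Ω} (hf : Mor F P f) (hZP : Zc S ≤ P)
    (hinv : ∀ z ∈ Zc S, f z ∈ Zc S) : ∃ f', Mor F S f' ∧ ∀ z ∈ Zc S, f' z = f z := by
  have hm := hf.restrict_to hZP
  have hcS : centralizerIn S (Zc S) = S := by
    refine le_antisymm inf_le_left fun s hs => mem_centralizerIn.mpr ⟨hs, fun z hz => ?_⟩
    rw [cj_apply, (mem_Zc.mp hz).2 s hs, mul_inv_cancel_right]
  have hfc : F.IsFullyCentralized (Zc S) := by
    refine ⟨inf_le_left, fun Q hQ => ?_⟩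
    rw [hcS]
    exact Subgroup.card_le_of_le inf_le_left
  obtain ⟨f', hf', hag, -⟩ := exists_extension_centralizer
    (receptive_of_fullyCentralized hS hF hfc) hm (hm.im_self hinv)
  rw [hcS, sup_eq_right.mpr (show Zc S ≤ S from inf_le_left)] at hf'
  exact ⟨f', hf', hag⟩

variable {P : Subgroup Ω} (hP : F.IsEssential p P) {x : Ω} (hx : x ∈ P) (hxA : x ∉ A)
  (h0 : ∀ a ∈ P ⊓ A, a ∈ Zc S)
include hP hx hxA h0

theorem exists_KP (hp2 : p ≠ 2) {g : MulAut P} (hg : g ∈ F.autGroup P) {z₀ : Ω} (hz₀ : z₀ ∈ Zc S)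
    (hgz : afun g z₀ ∉ Zc S) :
    ∃ f, KP F f ∧ ∀ d ∈ Zc S, (f d = d ↔ d ∈ Setting.moveInf (S := S) g) := by
  have hPS := hP.1.1
  haveI := finite_of_le hPS
  have hW : Nat.card (Setting.W S A) = p * Nat.card (Zc S) := by
    rw [h.card_W (hPS hx) hxA, h.card_imgW_abelian hF hP hx hxA h0]
  set I := h.img (hPS hx) (inf_le_left : Setting.W S A ≤ A) with hI
  have hIc : Nat.card I = p := h.card_imgW_abelian hF hP hx hxA h0
  have hIZ : I = Zone S := by
    rw [hI, h.img_W (hPS hx) hxA, ← h.commutator_eq (hPS hx) hxA, inf_comm]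
  have hZP := h.Zc_le_P hF hP
  have hIle : I ≤ Zc S := hIZ.le.trans inf_le_left
  have hIS : I ≤ S := hIle.trans inf_le_left
  set D := Setting.moveInf (S := S) g with hD
  have hID : I ⊓ D = ⊥ := h.imgW_inf_moveInf hF hP hx hxA h0 hg hz₀ hgz
  have hPc := h.P_comm hF hP hx hxA h0
  obtain ⟨a, ha, han, haP⟩ := h.exists_mem_normalizer hF hP hx hxA
  have haW := h.mem_W_of_normalizes hF hP hx hxA h0 ha han
  set e₀ := ⁅a, x⁆ with he₀def
  have he₀ : e₀ ∈ I := (h.mem_img _ _).mpr ⟨a, haW, rfl⟩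
  have he₀1 : e₀ ≠ 1 := fun e => haP
    (hZP (h.mem_Zc_of_commute ha (hPS hx) hxA (commutator_eq_one.mp e)))
  set u := nHom S P ⟨a, h.le ha, han⟩ with hu
  have huA : u ∈ F.autGroup P := autInducedBy_le hPS (autInducedBy_eq_range S P ▸ ⟨_, rfl⟩)
  have hum := (mem_autGroup hPS).mp huA
  have hu_eq : ∀ y ∈ P, afun u y = cj a y := fun y hy => afun_nHom _ hy
  have huZ : ∀ z ∈ Zc S, afun u z = z := fun z hz => by
    rw [hu_eq z (hZP hz), cj_apply, (mem_Zc.mp hz).2 a (h.le ha), mul_inv_cancel_right]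
  have huI : ∀ y ∈ P, y⁻¹ * afun u y ∈ I := by
    intro y hy
    have hc' := (mem_Ztwo.mp haW.2).2 y (hPS hy)
    rw [hu_eq y hy, hIZ, cj_apply, conj_eq, ← (mem_Zc.mp hc').2 y (hPS hy), inv_mul_cancel_left]
    exact ⟨hc', Subgroup.commutator_mem_commutator (h.le ha) (hPS hy)⟩
  have hux : afun u x ≠ x := by
    rw [hu_eq x hx, cj_apply, conj_eq]
    exact fun e => he₀1 (mul_eq_right.mp e)
  have hfixP : ∀ {r : MulAut P}, r ∈ F.autGroup P → ∀ {B : Subgroup Ω}, P ≤ B →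
      (B ≤ P) → ∀ {T : Set Ω}, B = Subgroup.closure T → (∀ t ∈ T, afun r t = t) →
      ∀ y ∈ P, afun r y = y := by
    intro r hr B hB hBP T hT hfix y hy
    let K : Subgroup Ω :=
      { carrier := {y | y ∈ P ∧ afun r y = y}
        one_mem' := ⟨P.one_mem, ((mem_autGroup hPS).mp hr).map_one⟩
        mul_mem' := fun ha hb => ⟨P.mul_mem ha.1 hb.1, by
          rw [afun_map_mul _ ha.1 hb.1, ha.2, hb.2]⟩
        inv_mem' := fun ha => ⟨P.inv_mem ha.1, by
          rw [((mem_autGroup hPS).mp hr).map_inv ha.1, ha.2]⟩ }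
    have : P ≤ K := hB.trans (hT ▸ (Subgroup.closure_le K).mpr fun t ht =>
      ⟨hBP (hT ▸ Subgroup.subset_closure ht), hfix t ht⟩)
    exact (this hy).2
  have hmove : ∀ {k : MulAut P}, k ∈ F.autGroup P → ∀ {z : Ω}, z ∈ Zc S → afun k z ∉ Zc S →
      afun u (afun k z) ≠ afun k z := by
    intro k hk z hz hkz e
    refine hux (hfixP huA (B := Zc S ⊔ Subgroup.zpowers (afun k z))
      (h.sup_im hF hP hx hxA h0 hk hz hkz)
      (sup_le hZP (Subgroup.zpowers_le.mpr (afun_mem k (hZP hz))))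
      (T := (Zc S : Set Ω) ∪ {afun k z}) ?_ ?_ x hx)
    · rw [Subgroup.closure_union, Subgroup.closure_eq, Subgroup.zpowers_eq_closure]
    · rintro t (ht | ht)
      · exact huZ t ht
      · rw [Set.mem_singleton_iff.mp ht]; exact e
  set v : MulAut P := g * u * g⁻¹ with hv
  have hvA : v ∈ F.autGroup P := mul_mem (mul_mem hg huA) (inv_mem hg)
  have hgm := (mem_autGroup hPS).mp hg
  have hginv := (mem_autGroup hPS).mp (inv_mem hg)
  have hv_eq : ∀ y ∈ P, afun v y = afun g (afun u (afun g⁻¹ y)) := fun y hy => by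
    rw [hv, afun_mul _ _ hy, afun_mul _ _ (afun_mem g⁻¹ hy)]
  have hvgZ : ∀ y ∈ im (Zc S) (afun g), afun v y = y := by
    intro y hy
    obtain ⟨z, hz, rfl⟩ := (h.mem_imZ hF hP hg).mp hy
    rw [hv_eq _ (afun_mem g (hZP hz)), afun_inv_apply g (hZP hz), huZ z hz]
  set gI := im I (afun g) with hgI
  have hgIm := hgm.restrict_to (hIle.trans hZP)
  have hgIc : Nat.card gI = p := by rw [hgI, hgIm.card_im, hIc]
  have hgIle : gI ≤ im (Zc S) (afun g) := im_mono hIle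
  have hgIS : gI ≤ S := hgIm.im_le
  have hvI : ∀ y ∈ P, y⁻¹ * afun v y ∈ gI := by
    intro y hy
    have hy' := afun_mem g⁻¹ hy
    have h1 : afun g ((afun g⁻¹ y)⁻¹ * afun u (afun g⁻¹ y)) ∈ gI := apply_mem_im (huI _ hy')
    rwa [hgm.map_mul (P.inv_mem hy') (afun_mem u hy'), hgm.map_inv hy', afun_apply_inv g hy,
      ← hv_eq y hy] at h1
  set w := afun g e₀ with hw
  have hwI : w ∈ gI := apply_mem_im he₀
  have hwP : w ∈ P := afun_mem g (hZP (hIle he₀))
  have hwZ : w ∉ Zc S := by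
    intro hwZ
    have hpw : ∀ k : ℕ, afun g (e₀ ^ k) = w ^ k := fun k => by
      induction k with
      | zero => rw [pow_zero, pow_zero, hgm.map_one]
      | succ k ih =>
        rw [pow_succ, pow_succ, hgm.map_mul (pow_mem (hZP (hIle he₀)) k) (hZP (hIle he₀)), ih]
    have hsub : gI ≤ D := by
      intro y hy
      obtain ⟨b, hb, rfl⟩ := hgIm.mem_im.mp hy
      obtain ⟨k, rfl⟩ := exists_eq_pow hIS hIc he₀ he₀1 hb
      refine ⟨?_, apply_mem_im (hIle hb)⟩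
      rw [hpw k]
      exact pow_mem hwZ k
    have h1 := h.stab_eq_one hF hP hx hxA h0 hg hz₀ hgz v hvA
      ⟨fun d hd => hvgZ d hd.2, fun y hy => hsub (hvI y hy)⟩ (afun g x) (afun_mem g hx)
    rw [hv_eq _ (afun_mem g hx), afun_inv_apply g hx] at h1
    exact hux (hgm.injOn (afun_mem u hx) hx h1)
  set z := w⁻¹ * afun u w with hz
  have hzI : z ∈ I := huI w hwP
  have hz1 : z ≠ 1 := fun e => hmove hg (hIle he₀) hwZ (inv_mul_eq_one.mp e).symm
  have hzgZ : z ∉ im (Zc S) (afun g) := fun hzg =>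
    hz1 (Subgroup.mem_bot.mp (hID.le ⟨hzI, hIle hzI, hzg⟩))
  have hzP : z ∈ P := hZP (hIle hzI)
  have hvz : z⁻¹ * afun v z ≠ 1 := by
    intro e
    have e' := (inv_mul_eq_one.mp e).symm
    rw [hv_eq z hzP] at e'
    have e'' := congrArg (afun g⁻¹) e'
    rw [afun_inv_apply g (afun_mem u (afun_mem g⁻¹ hzP))] at e''
    exact hmove (inv_mem hg) (hIle hzI)
      (fun hh => hzgZ ((h.mem_imZ hF hP hg).mpr ⟨_, hh, afun_apply_inv g hzP⟩)) e''
  obtain ⟨k, hk⟩ := exists_eq_pow hgIS hgIc (hvI z hzP) hvz (inv_mem hwI)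
  have hv'z : afun (v ^ k) z = z * w⁻¹ := by
    rw [pow_fix_step (X := im (Zc S) (afun g)) le_rfl hvgZ (fun y hy => hgIle (hvI y hy)) k z hzP,
      hk]
  have hv'fix : ∀ y ∈ im (Zc S) (afun g), afun (v ^ k) y = y := fun y hy => by
    obtain ⟨z', hz', rfl⟩ := (h.mem_imZ hF hP hg).mp hy
    rw [pow_fix_step (X := im (Zc S) (afun g)) le_rfl hvgZ (fun y hy => hgIle (hvI y hy)) k _
      (afun_mem g (hZP hz')), hvgZ _ hy, inv_mul_cancel, one_pow, mul_one]
  set T := u * v ^ k * u with hT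
  have hTA : T ∈ F.autGroup P := mul_mem (mul_mem huA (pow_mem hvA k)) huA
  have hTm := (mem_autGroup hPS).mp hTA
  have hvkm := (mem_autGroup hPS).mp (pow_mem hvA k)
  have hT_eq : ∀ y ∈ P, afun T y = afun u (afun (v ^ k) (afun u y)) := fun y hy => by
    rw [hT, afun_mul _ _ hy, afun_mul _ _ (afun_mem u hy)]
  have huw : afun u w = w * z := by rw [hz, mul_inv_cancel_left]
  have hTz : afun T z = w⁻¹ := by
    rw [hT_eq z hzP, huZ z (hIle hzI), hv'z, hum.map_mul hzP (P.inv_mem hwP),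
      hum.map_inv hwP, huZ z (hIle hzI), huw, mul_inv_rev, mul_inv_cancel_left]
  have hTw : afun T w = z := by
    rw [hT_eq w hwP, huw, hvkm.map_mul hwP hzP, hv'fix w (hgIle hwI), hv'z,
      hPc z hzP _ (P.inv_mem hwP), mul_inv_cancel_left, huZ z (hIle hzI)]
  have hTd : ∀ d ∈ D, afun T d = d := fun d hd => by
    rw [hT_eq d (hZP hd.1), huZ d hd.1, hv'fix d hd.2, huZ d hd.1]
  set t := T * T with ht
  have htA : t ∈ F.autGroup P := mul_mem hTA hTA
  have htm := (mem_autGroup hPS).mp htA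
  have ht_eq : ∀ y ∈ P, afun t y = afun T (afun T y) := fun y hy => afun_mul _ _ hy
  have htz : afun t z = z⁻¹ := by rw [ht_eq z hzP, hTz, hTm.map_inv hwP, hTw]
  have htd : ∀ d ∈ D, afun t d = d := fun d hd => by
    rw [ht_eq d (hZP hd.1), hTd d hd, hTd d hd]
  have hZeq : D ⊔ I = Zc S := by
    have hle : D ⊔ I ≤ Zc S := sup_le inf_le_left hIle
    haveI := finite_of_le (hle.trans inf_le_left)
    refine eq_of_le_of_card_ge inf_le_left hle ?_
    have h1 := card_inf_mul_le (H := I) (K := D) (P := D ⊔ I) le_sup_left le_sup_right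
    rw [hID, Subgroup.card_bot, mul_one, hIc] at h1
    exact (h.card_moveInf hF hP hx hxA h0 hg).trans h1
  have hdec : ∀ y ∈ Zc S, ∃ d ∈ D, ∃ i ∈ I, d * i = y := by
    intro y hy
    have hn : D ≤ Subgroup.normalizer (I : Set Ω) := fun d hd =>
      mem_normalizer_of_cj_le hIS fun i hi => by
        rwa [cj_apply, (mem_Zc.mp (hIle hi)).2 d hd.1.1, mul_inv_cancel_right]
    rw [← hZeq, ← SetLike.mem_coe, Subgroup.coe_mul_of_left_le_normalizer_right _ _ hn] at hy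
    exact Set.mem_mul.mp hy
  have hti : ∀ i ∈ I, afun t i = i⁻¹ := by
    intro i hi
    obtain ⟨j, rfl⟩ := exists_eq_pow hIS hIc hzI hz1 hi
    clear hi
    induction j with
    | zero => rw [pow_zero, inv_one, htm.map_one]
    | succ j ih =>
      rw [pow_succ, htm.map_mul (pow_mem hzP j) hzP, ih, htz]
      exact (hPc _ (P.inv_mem (pow_mem hzP j)) _ (P.inv_mem hzP)).trans (mul_inv_rev _ _).symm
  have htdec : ∀ d ∈ D, ∀ i ∈ I, afun t (d * i) = d * i⁻¹ := fun d hd i hi => by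
    rw [htm.map_mul (hZP hd.1) (hZP (hIle hi)), htd d hd, hti i hi]
  obtain ⟨f, hf, hfe⟩ := extend_Zc hS hF h htm hZP fun y hy => by
    obtain ⟨d, hd, i, hi, rfl⟩ := hdec y hy
    rw [htdec d hd i hi]
    exact mul_mem hd.1 (inv_mem (hIle hi))
  have hsq : ∀ i ∈ I, i⁻¹ = i → i = 1 := by
    intro i hi e
    by_contra hi1
    have h2 : i ^ 2 = 1 := by rw [pow_two]; nth_rw 1 [← e]; exact inv_mul_cancel i
    have ho := orderOf_eq_prime (pow_card_eq_one hIc hi) hi1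
    have := orderOf_dvd_of_pow_eq_one h2
    rw [ho] at this
    exact hp2 ((Nat.prime_dvd_prime_iff_eq Fact.out Nat.prime_two).mp this)
  refine ⟨f, ⟨hf, fun y hy => ?_, z, hIZ ▸ hzI, fun e => hz1 (hsq z hzI ?_)⟩, fun y hy => ?_⟩
  · rw [hfe y hy]
    obtain ⟨d, hd, i, hi, rfl⟩ := hdec y hy
    rw [htdec d hd i hi, ← hIZ, show (d * i)⁻¹ * (d * i⁻¹) = i⁻¹ * i⁻¹ by group]
    exact mul_mem (inv_mem hi) (inv_mem hi)
  · rwa [hfe z (hIle hzI), htz] at e
  · rw [hfe y hy]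
    refine ⟨fun e => ?_, fun hd => htd y hd⟩
    obtain ⟨d, hd, i, hi, rfl⟩ := hdec y hy
    rw [htdec d hd i hi] at e
    rw [hsq i hi (mul_left_cancel e), mul_one]
    exact hd

omit hS hF h hP hx hxA h0 in
theorem oliver_core {Ω : Type*} [Group Ω] {S : Subgroup Ω} [Finite S] (p : ℕ) [Fact p.Prime]
    (hS : IsPGroup p S) (F : Cfsg.FusionSystem S) (hF : F.IsSaturated p) (hp : p ≠ 2)
    (hna : ¬ IsMulCommutative ↥S) (A : Subgroup Ω)
    (hA : A ≤ S ∧ IsMulCommutative ↥A ∧ (A.subgroupOf S).index = p)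
    (huniq : ∀ B : Subgroup Ω, B ≤ S → IsMulCommutative ↥B → (B.subgroupOf S).index = p → B = A)
    (hcore : F.core = ⊥) (hAe : ¬ F.IsEssential p A) :
    (∃ x ∈ S, x ∉ A ∧
      F.IsEssential p ((S ⊓ Subgroup.centralizer (S : Set Ω)) ⊔ Subgroup.zpowers x)) ∧
      (S ⊓ Subgroup.centralizer (S : Set Ω)) ≤ (commutator ↥S).map S.subtype ∧
      ∀ n : ℕ, Nat.card S = p ^ n → 3 ≤ n → Subgroup.lowerCentralSeries S (n - 2) ≠ ⊥ := by
  have h : Setting p S A := ⟨hS, hA.1, hA.2.1, hA.2.2, hna, huniq⟩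
  rw [Subgroup.map_subtype_commutator]
  have hneA : ∀ {P : Subgroup Ω}, F.IsEssential p P → P ≠ A := fun hP e => hAe (e ▸ hP)
  have hZ1 : Zc S ≠ ⊥ := by
    intro e
    haveI : Nontrivial ↥S := by
      rw [← Finite.one_lt_card_iff_nontrivial, h.card_eq]
      haveI := finite_of_le h.le
      exact lt_of_lt_of_le (Fact.out : p.Prime).one_lt (Nat.le_mul_of_pos_right p Nat.card_pos)
    haveI := hS.center_nontrivial
    obtain ⟨c, hc⟩ := exists_ne (1 : Subgroup.center ↥S)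
    refine hc (Subtype.ext (Subtype.ext ?_))
    have : ((c : ↥S) : Ω) ∈ Zc S :=
      ⟨(c : ↥S).2, fun y hy => congrArg Subtype.val (Subgroup.mem_center_iff.mp c.2 ⟨y, hy⟩)⟩
    rw [e, Subgroup.mem_bot] at this
    exact this
  have hnn : ∀ {Q : Subgroup Ω}, Q ≠ ⊥ → ¬ F.IsNormal Q := fun hQ hn =>
    hQ (le_bot_iff.mp (hcore ▸ le_core hn))
  obtain ⟨P₀, x₀, hP₀, hx₀, hx₀A, hab₀⟩ : ∃ P x, F.IsEssential p P ∧ x ∈ P ∧ x ∉ A ∧
      ∀ a ∈ P ⊓ A, a ∈ Zc S := by
    by_contra hall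
    push Not at hall
    refine hnn hZ1 (isNormal_of_le_autGroup hS hF fun P hP => ?_)
    rcases hP with rfl | hP
    · exact ⟨inf_le_left, fun α hα z hz => mor_Zc_mem ((mem_autGroup le_rfl).mp hα) hz⟩
    refine ⟨h.Zc_le_P hF hP, fun α hα z hz => ?_⟩
    obtain ⟨x, hxP, hxA⟩ := h.not_le hF hP (hneA hP)
    obtain ⟨a, ha, haZ⟩ := hall P x hP hxP hxA
    have hcen := ((h.inf_cases hF hP hxP hxA).resolve_left fun e => haZ (e a ha)).2
    have hzP := h.Zc_le_P hF hP hz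
    refine hcen _ (afun_mem α hzP) fun y hy => ?_
    have hy' := afun_mem α⁻¹ hy
    rw [← afun_apply_inv α hy, ← afun_map_mul α hy' hzP, ← afun_map_mul α hzP hy',
      (mem_Zc.mp hz).2 _ (hP.1.1 hy')]
  have hxS := hP₀.1.1 hx₀
  have hex : ∃ x ∈ S, x ∉ A ∧ F.IsEssential p (Zc S ⊔ Subgroup.zpowers x) :=
    ⟨x₀, hxS, hx₀A, h.P_eq hF hP₀ hx₀ hx₀A hab₀ ▸ hP₀⟩
  have hW : Nat.card (Setting.W S A) = p * Nat.card (Zc S) := by
    rw [h.card_W hxS hx₀A, h.card_imgW_abelian hF hP₀ hx₀ hx₀A hab₀]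
  have hZone : Zone S = h.img hxS (inf_le_left : Setting.W S A ≤ A) := by
    rw [h.img_W hxS hx₀A, ← h.commutator_eq hxS hx₀A, inf_comm]
  have hc : Nat.card (Zone S) = p := by rw [hZone]; exact h.card_imgW hxS hx₀A hW
  obtain ⟨g₀, hg₀, z₀, hz₀, hgz₀⟩ := h.exists_move hF hP₀ hx₀ hx₀A hab₀
  obtain ⟨f₀, hf₀, hfix₀⟩ := exists_KP hS hF h hP₀ hx₀ hx₀A hab₀ hp hg₀ hz₀ hgz₀
  set D₀ := Setting.moveInf (S := S) g₀ with hD₀
  have hDS : ∀ α ∈ F.autGroup S, ∀ d ∈ D₀, afun α d ∈ D₀ := by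
    intro α hα d hd
    have hm := (mem_autGroup le_rfl).mp hα
    have hm' := (mem_autGroup le_rfl).mp (inv_mem hα)
    obtain ⟨hfm, hfz, e₀, he₀, hfe₀⟩ := hf₀
    have hK : KP F (fun y => afun α⁻¹ (f₀ (afun α y))) := by
      refine ⟨(hm.comp hfm fun y hy => afun_mem α hy).comp hm'
        (fun y hy => hfm.apply_mem (afun_mem α hy)), fun y hy => ?_, afun α⁻¹ e₀,
        mor_Zone_mem hm' he₀, ?_⟩
      · have h1 := mor_Zone_mem hm' (hfz _ (mor_Zc_mem hm hy))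
        rwa [hm'.map_mul (S.inv_mem (afun_mem α hy.1)) (hfm.apply_mem (afun_mem α hy.1)),
          hm'.map_inv (afun_mem α hy.1), afun_inv_apply α hy.1] at h1
      · show afun α⁻¹ (f₀ (afun α (afun α⁻¹ e₀))) ≠ afun α⁻¹ e₀
        rw [afun_apply_inv α he₀.1.1]
        exact fun e => hfe₀ (hm'.injOn (hfm.apply_mem he₀.1.1) he₀.1.1 e)
    have h2 := fixed_unique hS hF hc ⟨hfm, hfz, e₀, he₀, hfe₀⟩ hK hd.1 ((hfix₀ d hd.1).mpr hd)
    have h3 := congrArg (afun α) h2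
    rw [afun_apply_inv α (hfm.apply_mem (afun_mem α hd.1.1))] at h3
    exact (hfix₀ _ (mor_Zc_mem hm hd.1)).mp h3
  have hnorm : F.IsNormal D₀ := by
    refine isNormal_of_le_autGroup hS hF fun P hP => ?_
    rcases hP with rfl | hP
    · exact ⟨inf_le_left.trans inf_le_left, hDS⟩
    refine ⟨inf_le_left.trans (h.Zc_le_P hF hP), fun α hα d hd => ?_⟩
    have hzP := h.Zc_le_P hF hP
    have hαm := (mem_autGroup hP.1.1).mp hα
    by_cases hinv : ∀ z ∈ Zc S, afun α z ∈ Zc S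
    · obtain ⟨f', hf', hag⟩ := extend_Zc hS hF h hαm hzP hinv
      obtain ⟨β, hβ, hβe⟩ := hf'.exists_aut (hf'.im_self fun y hy => hf'.apply_mem hy)
      rw [← hag d hd.1, ← hβe d hd.1.1]
      exact hDS β hβ d hd
    push Not at hinv
    obtain ⟨z₁, hz₁, hαz₁⟩ := hinv
    obtain ⟨x, hxP, hxA⟩ := h.not_le hF hP (hneA hP)
    rcases h.inf_cases hF hP hxP hxA with hab | hcen
    · have hαm' := (mem_autGroup hP.1.1).mp (inv_mem hα)
      obtain ⟨z₂, hz₂, hαz₂⟩ : ∃ z ∈ Zc S, afun α⁻¹ z ∉ Zc S := by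
        by_contra hall
        push Not at hall
        obtain ⟨u, hu, hue⟩ := (h.mem_imZ hF hP (inv_mem hα)).mp
          (((hαm'.restrict_to hzP).im_self hall).ge hz₁)
        rw [← hue, afun_apply_inv α (hzP hu)] at hαz₁
        exact hαz₁ hu
      obtain ⟨f₁, hf₁, hfix₁⟩ := exists_KP hS hF h hP hxP hxA hab hp (inv_mem hα) hz₂ hαz₂
      obtain ⟨f₂, hf₂, hfix₂⟩ := exists_KP hS hF h hP hxP hxA hab hp hα hz₁ hαz₁
      have hd₁ := (hfix₁ d hd.1).mp (fixed_unique hS hF hc hf₀ hf₁ hd.1 ((hfix₀ d hd.1).mpr hd))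
      obtain ⟨u, hu, hue⟩ := (h.mem_imZ hF hP (inv_mem hα)).mp hd₁.2
      have hmem : afun α d ∈ Setting.moveInf (S := S) α := by
        refine ⟨?_, (h.mem_imZ hF hP hα).mpr ⟨d, hd.1, rfl⟩⟩
        rw [← hue, afun_apply_inv α (hzP hu)]
        exact hu
      exact (hfix₀ _ hmem.1).mp
        (fixed_unique hS hF hc hf₂ hf₀ hmem.1 ((hfix₂ _ hmem.1).mpr hmem))
    · refine absurd (hcen.2 _ (afun_mem α (hzP hz₁)) fun y hy => ?_) hαz₁
      have hy' := afun_mem α⁻¹ hy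
      rw [← afun_apply_inv α hy, ← afun_map_mul α hy' (hzP hz₁), ← afun_map_mul α (hzP hz₁) hy',
        (mem_Zc.mp hz₁).2 _ (hP.1.1 hy')]
  have hD1 : D₀ = ⊥ := by
    by_contra hne
    exact hnn hne hnorm
  have hZeq : Zc S = Zone S := by
    refine (eq_of_le_of_card_ge inf_le_left inf_le_left ?_).symm
    have h1 := h.card_moveInf hF hP₀ hx₀ hx₀A hab₀ hg₀
    rw [← hD₀, hD1, Subgroup.card_bot, mul_one] at h1
    show Nat.card (Zc S) ≤ Nat.card (Zone S)
    rw [hc]; exact h1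
  refine ⟨hex, hZeq.le.trans inf_le_right, fun n hn hn3 hbot => ?_⟩
  have hZc : Nat.card (Zc S) = p := by rw [hZeq]; exact hc
  obtain ⟨a, ha, haZ⟩ : ∃ a ∈ (h.series hxS (n - 3)).1, a ∉ Zc S := by
    refine SetLike.not_le_iff_exists.mp ?_
    rcases eq_or_lt_of_le hn3 with hn3 | hn4
    · subst hn3
      intro hle
      have h1 : Setting.W S A ≤ Zc S := inf_le_left.trans hle
      have h2 := Subgroup.card_le_of_le h1
      rw [hW, hZc] at h2
      exact absurd h2 (not_le.mpr (lt_mul_of_one_lt_right (Fact.out : p.Prime).pos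
        (Fact.out : p.Prime).one_lt))
    · have h1 := h.not_series_le hxS hx₀A hW (m := n - 1) (by
        rw [hn, hZc, ← pow_succ, Nat.sub_add_cancel (by omega)]) (by omega)
      rwa [show n - 1 - 2 = n - 3 by omega] at h1
  have hmem : ⁅a, x₀⁆ ∈ (h.series hxS (n - 3 + 1)).1 :=
    (h.mem_img hxS _).mpr ⟨a, ha, rfl⟩
  have h2 := h.series_le_lcs hxS _ hmem
  rw [show n - 3 + 1 = n - 2 by omega, hbot, Subgroup.mem_bot] at h2
  exact haZ (h.mem_Zc_of_commute ((h.series hxS (n - 3)).2 ha) hxS hx₀A (commutator_eq_one.mp h2))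

end Cfsg.Agent.FusionAbelianIndexP89

namespace Cfsg.Agent.S5244

/-- Let p be an odd prime, S a finite nonabelian p-group with a unique abelian subgroup A of index p, and F a saturated fusion system over S with no nontrivial normal subgroup (O_p(F) = 1) in which A is not F-essential. Then some subgroup Z(S)⟨x⟩ with x ∈ S outside A is F-essential, the centre Z(S) is contained in the commutator subgroup of S, and S has maximal nilpotency class (if S has order pⁿ with n ≥ 3, the term of index n − 2 of its lower central series, counting S itself as the term of index 0, is nontrivial). -/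
theorem result {Ω : Type*} [Group Ω] {S : Subgroup Ω} [Finite S] (p : ℕ) [Fact p.Prime] (hS : IsPGroup p S) (F : Cfsg.FusionSystem S) (hF : F.IsSaturated p) (hp : p ≠ 2) (hna : ¬ IsMulCommutative ↥S) (A : Subgroup Ω) (hA : A ≤ S ∧ IsMulCommutative ↥A ∧ (A.subgroupOf S).index = p) (huniq : ∀ B : Subgroup Ω, B ≤ S → IsMulCommutative ↥B → (B.subgroupOf S).index = p → B = A) (hcore : F.core = ⊥) (hAe : ¬ F.IsEssential p A) : (∃ x ∈ S, x ∉ A ∧ F.IsEssential p ((S ⊓ Subgroup.centralizer (S : Set Ω)) ⊔ Subgroup.zpowers x)) ∧ (S ⊓ Subgroup.centralizer (S : Set Ω)) ≤ (commutator ↥S).map S.subtype ∧ ∀ n : ℕ, Nat.card S = p ^ n → 3 ≤ n → Subgroup.lowerCentralSeries S (n - 2) ≠ ⊥ := by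
  exact FusionAbelianIndexP89.oliver_core p hS F hF hp hna A hA huniq hcore hAe

end Cfsg.Agent.S5244
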