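import Cfsg.Statements.S5279
import Cfsg.Agent.Lib.GlaubermanStableCtrl
import Cfsg.Agent.Lib.FusionSysGroup
import Cfsg.Agent.Lib.FusionSysNormal
-- import your own Cfsg.Agent.* helpers here

set_option autoImplicit false
open Cfsg

namespace Cfsg.Agent.S5279

open scoped commutatorElement

open Subgroup in
/-- Fusion stability gives stability in the normalizer form. -/
theorem stable_of_fusion {Ω : Type*} [Group Ω] [Finite Ω] {p : ℕ} [Fact p.Prime] (P : Sylow p Ω)
    (hst : ∀ Q : Subgroup Ω, (Cfsg.groupFusionSystem (P : Subgroup Ω)).IsFullyNormalized Q →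
      ∀ χ : MulAut ↥Q, χ ∈ (Cfsg.groupFusionSystem (P : Subgroup Ω)).autGroup Q →
      (∀ a : ↥Q, (χ a⁻¹) * a * (χ a⁻¹) * (χ (χ a)) = 1) →
      χ ∈ ((Cfsg.pCore p ↥((Cfsg.groupFusionSystem (P : Subgroup Ω)).autGroup Q)).map
        ((Cfsg.groupFusionSystem (P : Subgroup Ω)).autGroup Q).subtype : Subgroup (MulAut ↥Q))) :
    Cfsg.IsNormalizerPStable p Ω := by
  intro Q hQ g hg hq
  obtain ⟨a, haP, hfn⟩ := TransferAlperin.exists_isFullyNormalized P hQ
  set T := TransferAlperin.cj a Q with hT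
  set A := (Cfsg.groupFusionSystem (P : Subgroup Ω)).autGroup T with hA
  have hfull : (Cfsg.groupFusionSystem (P : Subgroup Ω)).IsFullyNormalized T := by
    refine ⟨haP, fun R hR => ?_⟩
    obtain ⟨-, -, k, hk⟩ := FusionSysGroup.isConj_group_iff.mp hR
    rw [FusionSysBasic.im_cj] at hk
    have h1 := TransferAlperin.card_le_of_isFullyNormalized hfn
      (S := TransferAlperin.cj k⁻¹ (Cfsg.FusionSystem.normalizerIn (P : Subgroup Ω) R))
      (by
        rw [show T = TransferAlperin.cj k⁻¹ R by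
          rw [← hk]; exact (TransferAlperin.cj_inv_cj k T).symm, ← TransferAlperin.cj_normalizer]
        exact TransferAlperin.cj_mono _ inf_le_right)
      (TransferAlperin.isPGroup_cj (P.isPGroup'.to_le inf_le_left))
    rwa [TransferAlperin.card_cj] at h1
  set N := normalizer (Q : Set Ω) with hN
  set C := (centralizer (Q : Set Ω)).subgroupOf N with hC
  have hcj : ∀ y ∈ N, a * y * a⁻¹ ∈ normalizer (T : Set Ω) := fun y hy => by
    rw [hT, ← TransferAlperin.cj_normalizer]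
    exact TransferAlperin.conj_mem_cj hy
  let θ : N →* MulAut T := T.normalizerMonoidHom.comp
    (((MulAut.conj a).toMonoidHom.comp N.subtype).codRestrict _ (fun y => hcj y y.2))
  have hθ : ∀ (y : N) (x : T), ((θ y x : T) : Ω) = (a * y * a⁻¹) * x * (a * y * a⁻¹)⁻¹ :=
    fun y x => rfl
  have hmemA : ∀ y : N, θ y ∈ A := fun y => subset_closure
    (show T.subtype.comp (θ y).toMonoidHom ∈ (Cfsg.groupFusionSystem (P : Subgroup Ω)).Hom T from
      ⟨haP, fun x => haP (θ y x).2, a * y * a⁻¹, fun x => hθ y x⟩)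
  have hker : C ≤ (θ.codRestrict A hmemA).ker := by
    intro y hy
    rw [MonoidHom.mem_ker]
    refine Subtype.ext (MulEquiv.ext fun x => Subtype.ext ?_)
    obtain ⟨w, hw, he⟩ : (x : Ω) ∈ Q.map (MulAut.conj a).toMonoidHom := x.2
    show (a * y * a⁻¹) * x * (a * y * a⁻¹)⁻¹ = x
    rw [← he]
    simp only [MulEquiv.toMonoidHom_eq_coe, MonoidHom.coe_coe, MulAut.conj_apply]
    have h1 := mem_centralizer_iff.mp (mem_subgroupOf.mp hy) w hw
    calc a * y * a⁻¹ * (a * w * a⁻¹) * (a * y * a⁻¹)⁻¹ = a * ((y : Ω) * w) * (y : Ω)⁻¹ * a⁻¹ := by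
          group
      _ = a * w * a⁻¹ := by rw [← h1]; group
  let f : N ⧸ C →* A := QuotientGroup.lift C (θ.codRestrict A hmemA) hker
  have hf : Function.Injective f := by
    rw [injective_iff_map_eq_one]
    intro t ht
    obtain ⟨y, rfl⟩ := QuotientGroup.mk'_surjective C t
    refine (QuotientGroup.eq_one_iff y).mpr (mem_subgroupOf.mpr (mem_centralizer_iff.mpr fun w hw => ?_))
    have h1 : ((θ y ⟨a * w * a⁻¹, TransferAlperin.conj_mem_cj hw⟩ : T) : Ω) = a * w * a⁻¹ :=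
      congrArg (fun χ : A => (((χ : MulAut T) ⟨a * w * a⁻¹, TransferAlperin.conj_mem_cj hw⟩ : T) : Ω)) ht
    rw [hθ] at h1
    simp only at h1
    have h2 : (y : Ω) * w * (y : Ω)⁻¹ = w := by
      calc (y : Ω) * w * (y : Ω)⁻¹
          = a⁻¹ * (a * y * a⁻¹ * (a * w * a⁻¹) * (a * y * a⁻¹)⁻¹) * a := by group
        _ = w := by rw [h1]; group
    exact (mul_inv_eq_iff_eq_mul.mp h2).symm
  have hχ := hst T hfull _ (hmemA ⟨g, hg⟩) (fun x => by
    set χ := θ ⟨g, hg⟩
    -- `x χ(x⁻¹)` is fixed by `χ`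
    have hfix : χ (x⁻¹ * χ x) = x⁻¹ * χ x := by
      refine Subtype.ext ?_
      obtain ⟨w, hw, he⟩ : (x : Ω) ∈ Q.map (MulAut.conj a).toMonoidHom := x.2
      simp only [MulEquiv.toMonoidHom_eq_coe, MonoidHom.coe_coe, MulAut.conj_apply] at he
      rw [hθ, Subgroup.coe_mul, Subgroup.coe_inv, hθ, ← he]
      have h1 := mem_centralizer_iff.mp (commutator_eq_bot_iff_le_centralizer.mp hq
        (commutator_mem_commutator (inv_mem hw) (mem_zpowers g))) g (mem_zpowers g)
      rw [commutatorElement_def, inv_inv] at h1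
      calc a * g * a⁻¹ * ((a * w * a⁻¹)⁻¹ * (a * g * a⁻¹ * (a * w * a⁻¹) * (a * g * a⁻¹)⁻¹)) *
            (a * g * a⁻¹)⁻¹ = a * (g * (w⁻¹ * g * w * g⁻¹)) * g⁻¹ * a⁻¹ := by group
        _ = _ := by rw [h1]; group
    rw [map_mul, map_inv, inv_mul_eq_iff_eq_mul] at hfix
    rw [map_inv, hfix]
    group)
  obtain ⟨χ', hχ', hχe⟩ := hχ
  have h2 : QuotientGroup.mk' C ⟨g, hg⟩ ∈ (Cfsg.pCore p A).comap f := by
    rw [mem_comap, show f (QuotientGroup.mk' C ⟨g, hg⟩) = χ' from Subtype.ext hχe.symm]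
    exact hχ'
  haveI : (Cfsg.pCore p A).Normal := HallCore.pCore_normal p A
  exact HallCore.le_pCore ((HallCore.isPGroup_pCore p A).comap_of_injective f hf) h2

/-- Let p be an odd prime, G a finite group with a nontrivial Sylow p-subgroup P, and F the fusion system of G on P. Suppose F is p-stable: for every fully normalized subgroup Q and every χ in Aut_F(Q) acting quadratically on Q (χ(a⁻¹)·a·χ(a⁻¹)·χ(χ(a)) = 1 for all a in Q), χ lies in O_p(Aut_F(Q)). Then some nontrivial subgroup of P is normal in F. -/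
theorem result {Ω : Type*} [Group Ω] [Finite Ω] (p : ℕ) [Fact p.Prime] (hp : p ≠ 2) (P : Sylow p Ω) (hP : (P : Subgroup Ω) ≠ ⊥) (hst : (∀ Q : Subgroup Ω, (Cfsg.groupFusionSystem (P : Subgroup Ω)).IsFullyNormalized Q → ∀ χ : MulAut ↥Q, χ ∈ (Cfsg.groupFusionSystem (P : Subgroup Ω)).autGroup Q → (∀ a : ↥Q, (χ a⁻¹) * a * (χ a⁻¹) * (χ (χ a)) = 1) → χ ∈ ((Cfsg.pCore p ↥((Cfsg.groupFusionSystem (P : Subgroup Ω)).autGroup Q)).map ((Cfsg.groupFusionSystem (P : Subgroup Ω)).autGroup Q).subtype : Subgroup (MulAut ↥Q)))) : (Cfsg.groupFusionSystem (P : Subgroup Ω)).core ≠ ⊥ := by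
  have h := GlaubermanStableCtrl.ctrl_thomY_zero hp (stable_of_fusion P hst) P
  set W := GlaubermanZJ.thomY 0 (P : Subgroup Ω) with hW
  have hWP : W ≤ (P : Subgroup Ω) := GlaubermanZJ.thomY_le _
  have hn : (Cfsg.groupFusionSystem (P : Subgroup Ω)).IsNormal W := by
    refine FusionSysNormal.isNormal_iff.mpr ⟨hWP, fun Q f hf => ?_⟩
    obtain ⟨hQ, g, hfg, hgS⟩ := FusionSysGroup.mor_group_iff.mp hf
    obtain ⟨m, hm, hmg⟩ := h Q g hQ (by
      rintro _ ⟨x, hx, rfl⟩
      exact hgS x hx)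
    refine ⟨FusionSysBasic.cj m, FusionSysGroup.mor_group_iff.mpr
      ⟨sup_le hQ hWP, m, fun _ _ => rfl, ?_⟩, fun x hx => (hmg x hx).trans (hfg x hx).symm,
      FusionSysBasic.mem_normalizer_iff_im_cj.mp hm⟩
    intro x hx
    have hle : Q ⊔ W ≤ (P : Subgroup Ω).comap (MulAut.conj m).toMonoidHom := by
      refine sup_le (fun y hy => ?_) (fun y hy => ?_)
      · show m * y * m⁻¹ ∈ (P : Subgroup Ω)
        rw [hmg y hy]
        exact hgS y hy
      · exact hWP ((Subgroup.mem_normalizer_iff.mp hm y).mp hy)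
    exact hle hx
  intro hc
  refine GlaubermanZJ.thomY_ne_bot (p := p) (Or.inl rfl) P.isPGroup' hP (le_bot_iff.mp ?_)
  exact (FusionSysNormal.le_core hn).trans hc.le
end Cfsg.Agent.S5279
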