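import Cfsg.Statements.S5246
import Cfsg.Agent.S5279

set_option autoImplicit false
open Cfsg

namespace Cfsg.Agent.S5246

/-- Let p be an odd prime, G a finite group and P a Sylow p-subgroup. Call a fusion system F p-stable when, for every fully normalized subgroup Q and every χ ∈ Aut_F(Q) acting quadratically on Q (that is, χ fixes a⁻¹χ(a) for every a ∈ Q; equivalently χ(a⁻¹)·a·χ(a⁻¹)·χ(χ(a)) = 1), χ lies in O_p(Aut_F(Q)). Then G is p-stable in the normalizer form (for every p-subgroup Q and x ∈ N_G(Q) with [Q, x, x] = 1, the image of x lies in O_p(N_G(Q)/C_G(Q))) if and only if the fusion system of G on P is p-stable. -/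
theorem result {Ω : Type*} [Group Ω] [Finite Ω] {p : ℕ} [Fact p.Prime] (hp : p ≠ 2) (P : Sylow p Ω) : Cfsg.IsNormalizerPStable p Ω ↔ (∀ Q : Subgroup Ω, (Cfsg.groupFusionSystem (P : Subgroup Ω)).IsFullyNormalized Q → ∀ χ : MulAut ↥Q, χ ∈ (Cfsg.groupFusionSystem (P : Subgroup Ω)).autGroup Q → (∀ a : ↥Q, (χ a⁻¹) * a * (χ a⁻¹) * (χ (χ a)) = 1) → χ ∈ ((Cfsg.pCore p ↥((Cfsg.groupFusionSystem (P : Subgroup Ω)).autGroup Q)).map ((Cfsg.groupFusionSystem (P : Subgroup Ω)).autGroup Q).subtype : Subgroup (MulAut ↥Q))) := by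
  refine ⟨fun h Q hQn χ hχ hquad => ?_, S5279.stable_of_fusion P⟩
  classical
  have hQP : Q ≤ (P : Subgroup Ω) := hQn.1
  obtain ⟨g, -, hg, he⟩ :=
    FusionSysBasic.mem_autInducedBy.mp ((FusionSysGroup.mem_autGroup_group hQP).mp hχ)
  -- the element acts quadratically
  have hcoe : ∀ a : ↥Q, ((χ a : ↥Q) : Ω) = g * a * g⁻¹ := fun a =>
    (FusionSysBasic.afun_coe χ a).symm.trans (he a a.2)
  have hfix : ∀ a ∈ Q, Commute g (a * g * a⁻¹ * g⁻¹) := by
    intro a ha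
    have h1 := congrArg Subtype.val (hquad ⟨a, ha⟩)
    simp only [Subgroup.coe_mul, Subgroup.coe_one, hcoe, Subgroup.coe_inv] at h1
    show g * (a * g * a⁻¹ * g⁻¹) = a * g * a⁻¹ * g⁻¹ * g
    have h2 : a⁻¹ * g⁻¹ * a * g * a⁻¹ * g * a * g⁻¹ = 1 := by
      calc a⁻¹ * g⁻¹ * a * g * a⁻¹ * g * a * g⁻¹
          = g⁻¹ * (g * a⁻¹ * g⁻¹ * a * (g * a⁻¹ * g⁻¹) * (g * (g * a * g⁻¹) * g⁻¹)) * g := by group
        _ = 1 := by rw [h1]; group
    calc g * (a * g * a⁻¹ * g⁻¹)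
        = g * a * (a⁻¹ * g⁻¹ * a * g * a⁻¹ * g * a * g⁻¹) * g * a⁻¹ * g⁻¹ := by rw [h2]; group
      _ = a * g * a⁻¹ * g⁻¹ * g := by group
  have hpow : ∀ (n : ℕ), ∀ a ∈ Q, Commute g (a * g ^ n * a⁻¹ * (g ^ n)⁻¹) := by
    intro n
    induction n with
    | zero => intro a ha; simp
    | succ n ih =>
      intro a ha
      have h1 : a * g ^ (n + 1) * a⁻¹ * (g ^ (n + 1))⁻¹ = (a * g ^ n * a⁻¹ * (g ^ n)⁻¹) *
          (g ^ n * (a * g * a⁻¹ * g⁻¹) * (g ^ n)⁻¹) := by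
        rw [pow_succ]; group
      rw [h1, ((hfix a ha).pow_left n).eq, mul_inv_cancel_right]
      exact (ih a ha).mul_right (hfix a ha)
  have hq : ⁅⁅Q, Subgroup.zpowers g⁆, Subgroup.zpowers g⁆ = ⊥ := by
    rw [Subgroup.commutator_eq_bot_iff_le_centralizer]
    refine Subgroup.commutator_le.mpr fun a ha b hb => Subgroup.mem_centralizer_iff.mpr fun c hc => ?_
    obtain ⟨n, rfl⟩ := mem_powers_iff_mem_zpowers.mpr hb
    obtain ⟨m, rfl⟩ := mem_powers_iff_mem_zpowers.mpr hc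
    simp only [commutatorElement_def]
    exact ((hpow n a ha).pow_left m).eq
  have hmem := h Q (P.isPGroup'.to_le hQP) g hg hq
  -- transport to the automizer
  set A := (Cfsg.groupFusionSystem (P : Subgroup Ω)).autGroup Q with hA
  set N := Subgroup.normalizer (Q : Set Ω)
  set C := (Subgroup.centralizer (Q : Set Ω)).subgroupOf N
  let θ : ↥N →* MulAut Q :=
    (FusionSysBasic.nHom (⊤ : Subgroup Ω) Q).comp (Subgroup.inclusion (le_inf le_top le_rfl))
  have hθ : ∀ (y : ↥N) (x : Ω) (hx : x ∈ Q), FusionSysBasic.afun (θ y) x = y * x * (y : Ω)⁻¹ :=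
    fun y x hx => FusionSysBasic.afun_nHom _ hx
  have hθA : ∀ y, θ y ∈ A := fun y =>
    (FusionSysGroup.mem_autGroup_group hQP).mpr
      (FusionSysBasic.mem_autInducedBy.mpr ⟨y, Subgroup.mem_top _, y.2, fun x hx => hθ y x hx⟩)
  have hker : C ≤ (θ.codRestrict A hθA).ker := by
    intro y hy
    rw [MonoidHom.mem_ker]
    refine Subtype.ext (FusionSysBasic.afun_ext fun x hx => ?_)
    show FusionSysBasic.afun (θ y) x = _
    rw [hθ y x hx, OneMemClass.coe_one, FusionSysBasic.afun_one hx,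
      ← Subgroup.mem_centralizer_iff.mp (Subgroup.mem_subgroupOf.mp hy) x hx, mul_inv_cancel_right]
  let f : ↥N ⧸ C →* A := QuotientGroup.lift C (θ.codRestrict A hθA) hker
  have hf : Function.Surjective f := by
    intro α
    obtain ⟨y, -, hy, hye⟩ :=
      FusionSysBasic.mem_autInducedBy.mp ((FusionSysGroup.mem_autGroup_group hQP).mp α.2)
    refine ⟨QuotientGroup.mk (⟨y, hy⟩ : ↥N), Subtype.ext (FusionSysBasic.afun_ext fun x hx => ?_)⟩
    exact (hθ ⟨y, hy⟩ x hx).trans (hye x hx).symm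
  have hχe : f (QuotientGroup.mk (⟨g, hg⟩ : ↥N)) = ⟨χ, hχ⟩ :=
    Subtype.ext (FusionSysBasic.afun_ext fun x hx => (hθ ⟨g, hg⟩ x hx).trans (he x hx).symm)
  exact ⟨⟨χ, hχ⟩, HallCore.map_pCore_le hf (hχe ▸ Subgroup.mem_map_of_mem f hmem), rfl⟩

end Cfsg.Agent.S5246
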