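import Cfsg.Statements.S5247
import Cfsg.Agent.Lib.FusionSysNormal
import Cfsg.Agent.Lib.FusionWeakAlperin
import Cfsg.Agent.Lib.HallCore

open Cfsg.FusionSystem Cfsg.Agent.FusionSysBasic Cfsg.Agent.FusionSysSaturated

namespace Cfsg.Agent.S5247

variable {Ω : Type*} [Group Ω]

/-- Quadratic action of an automorphism. -/
def Quad {Q : Subgroup Ω} (χ : MulAut Q) : Prop :=
  ∀ a : Q, (χ a⁻¹) * a * (χ a⁻¹) * (χ (χ a)) = 1

theorem quad_transport {S : Subgroup Ω} {F : Cfsg.FusionSystem S} {Q R : Subgroup Ω} {f : Ω → Ω}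
    (hf : Mor F Q f) (hR : im Q f = R) {χ : MulAut Q} (h : Quad χ) : Quad (hf.transport hR χ) := by
  intro b
  obtain ⟨a, rfl⟩ := (hf.iso hR).surjective b
  have e : ∀ a : Q, hf.transport hR χ (hf.iso hR a) = hf.iso hR (χ a) := fun a => by
    simp [Mor.transport, MulAut.congr]
  rw [← map_inv (hf.iso hR), e, e, e, ← map_mul, ← map_mul, ← map_mul, h a, map_one]

theorem pCore_map_le {p : ℕ} {G : Type*} [Group G] {A B : Subgroup G} [Finite B] [Fact p.Prime]
    (hAB : A ≤ B) {x : G} (hxA : x ∈ A)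
    (hx : x ∈ (Cfsg.pCore p B).map B.subtype) : x ∈ (Cfsg.pCore p A).map A.subtype := by
  obtain ⟨y, hy, rfl⟩ := hx
  let N : Subgroup A := (Cfsg.pCore p B).comap (Subgroup.inclusion hAB)
  haveI : (Cfsg.pCore p B).Normal := Cfsg.Agent.HallCore.pCore_normal p B
  have hN : N.Normal ∧ IsPGroup p N :=
    ⟨inferInstance, (Cfsg.Agent.HallCore.isPGroup_pCore p B).comap_of_injective _
      (Subgroup.inclusion_injective hAB)⟩
  exact ⟨⟨y, hxA⟩, le_sSup (show N ∈ {N : Subgroup A | N.Normal ∧ IsPGroup p N} from hN) hy, rfl⟩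

theorem pCore_map_equiv {p : ℕ} {G H : Type*} [Group G] [Group H] (e : G ≃* H) {A : Subgroup G}
    {B : Subgroup H} (h : A.map e.toMonoidHom = B) {x : G}
    (hx : e x ∈ (Cfsg.pCore p B).map B.subtype) : x ∈ (Cfsg.pCore p A).map A.subtype := by
  subst h
  obtain ⟨y, hy, hye⟩ := hx
  let ε : A ≃* ↥(A.map e.toMonoidHom) := e.subgroupMap A
  refine ⟨ε.symm y, ?_, ?_⟩
  · rw [← Cfsg.Agent.HallCore.map_equiv_pCore ε.symm]
    exact Subgroup.mem_map_of_mem _ hy
  · apply e.injective
    rw [← hye]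
    exact congrArg Subtype.val (ε.apply_symm_apply y)

theorem pCore_eq_of_eq {p : ℕ} {G : Type*} [Group G] {A B : Subgroup G} (h : A = B) :
    (Cfsg.pCore p A).map A.subtype = (Cfsg.pCore p B).map B.subtype := by
  subst h; rfl

end Cfsg.Agent.S5247

set_option autoImplicit false
open Cfsg

namespace Cfsg.Agent.S5247

/-- Let p be an odd prime and F a saturated fusion system over a finite p-group S. Call a fusion system E (over any subgroup) p-stable when, for every fully E-normalized subgroup Q and every χ ∈ Aut_E(Q) with χ(a⁻¹)·a·χ(a⁻¹)·χ(χ(a)) = 1 for all a ∈ Q (χ acts quadratically), χ lies in O_p(Aut_E(Q)). Then F is p-stable if and only if every normalizer fusion system N_F(R) of every non-cyclic fully F-normalized subgroup R of S is p-stable. -/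
theorem result {Ω : Type*} [Group Ω] {S : Subgroup Ω} [Finite S] (p : ℕ) [Fact p.Prime] (hS : IsPGroup p S) (F : Cfsg.FusionSystem S) (hF : F.IsSaturated p) (hp : p ≠ 2) : (∀ Q : Subgroup Ω, F.IsFullyNormalized Q → ∀ χ : MulAut ↥Q, χ ∈ F.autGroup Q → (∀ a : ↥Q, (χ a⁻¹) * a * (χ a⁻¹) * (χ (χ a)) = 1) → χ ∈ ((Cfsg.pCore p ↥(F.autGroup Q)).map (F.autGroup Q).subtype : Subgroup (MulAut ↥Q))) ↔ ∀ R : Subgroup Ω, F.IsFullyNormalized R → ¬ IsCyclic ↥R → ∀ N : Cfsg.FusionSystem (Cfsg.FusionSystem.normalizerIn S R), F.IsNormalizerSystem R N → (∀ Q : Subgroup Ω, N.IsFullyNormalized Q → ∀ χ : MulAut ↥Q, χ ∈ N.autGroup Q → (∀ a : ↥Q, (χ a⁻¹) * a * (χ a⁻¹) * (χ (χ a)) = 1) → χ ∈ ((Cfsg.pCore p ↥(N.autGroup Q)).map (N.autGroup Q).subtype : Subgroup (MulAut ↥Q))) := by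
  constructor
  · intro hst R hR _ N hN Q hQ χ hχ hquad
    have hQS : Q ≤ S := hQ.1.trans inf_le_left
    have hNF : N.IsSubsystemOf F := fun P φ hφ => by rw [hN P] at hφ; exact hφ.1
    have hAB : N.autGroup Q ≤ F.autGroup Q := Subgroup.closure_mono fun _ ha => hNF Q ha
    have hχF := hAB hχ
    obtain ⟨Q₀, hQ₀, hQ₀n⟩ := exists_fullyNormalized (F := F) hQS
    obtain ⟨f, hf, hfi⟩ := isConj_iff.mp hQ₀
    have h1 := hst Q₀ hQ₀n _ (hf.transport_mem hfi hχF)
      (Cfsg.Agent.S5247.quad_transport hf hfi hquad)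
    haveI := finite_autGroup (F := F) Q
    exact Cfsg.Agent.S5247.pCore_map_le hAB hχ
      (Cfsg.Agent.S5247.pCore_map_equiv _ (hf.map_transport hfi) h1)
  · intro hst Q hQ χ hχ hquad
    by_cases hcyc : IsCyclic ↥Q
    · haveI := Cfsg.Agent.FusionSysBasic.finite_of_le (S := S) hQ.1
      obtain ⟨g, hg⟩ := hcyc.exists_generator
      have hcommQ : ∀ a b : Q, a * b = b * a := fun a b => by
        obtain ⟨i, rfl⟩ := hg a
        obtain ⟨j, rfl⟩ := hg b
        exact zpow_mul_comm g i j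
      have hcommA : ∀ a b : MulAut Q, a * b = b * a := fun a b => MulEquiv.ext fun x => by
        obtain ⟨i, rfl⟩ := hg x
        obtain ⟨j, hj⟩ := hg (a g)
        obtain ⟨k, hk⟩ := hg (b g)
        simp only at hj hk
        simp only [MulAut.mul_apply, map_zpow, ← hj, ← hk]
        rw [← zpow_mul, ← zpow_mul, ← zpow_mul, ← zpow_mul]
        congr 1
        ring
      have hfix : ∀ a : Q, χ (a⁻¹ * χ a) = a⁻¹ * χ a := by
        intro a
        have h := hquad a
        rw [map_inv] at h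
        have h2 : χ (χ a) = ((χ a)⁻¹ * a * (χ a)⁻¹)⁻¹ := eq_inv_of_mul_eq_one_right h
        rw [map_mul, map_inv, h2]
        group
      have hpow : ∀ (k : ℕ) (a : Q), (χ ^ k) a = a * (a⁻¹ * χ a) ^ k := by
        intro k
        induction k with
        | zero => intro a; simp
        | succ k ih =>
          intro a
          rw [pow_succ', MulAut.mul_apply, ih, map_mul, map_pow, hfix, pow_succ', ← mul_assoc,
            mul_inv_cancel_left]
      obtain ⟨m, hm⟩ := IsPGroup.iff_card.mp (hS.to_le hQ.1)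
      have hdvd : orderOf χ ∣ p ^ m := orderOf_dvd_of_pow_eq_one (MulEquiv.ext fun a => by
        rw [hpow, ← hm, pow_card_eq_one', mul_one]; rfl)
      obtain ⟨k, -, hk⟩ := (Nat.dvd_prime_pow (Fact.out (p := p.Prime))).mp hdvd
      let N : Subgroup (F.autGroup Q) := Subgroup.zpowers ⟨χ, hχ⟩
      have hN : N.Normal ∧ IsPGroup p N := by
        refine ⟨⟨fun n hn a => ?_⟩, IsPGroup.of_card (n := k) ?_⟩
        · have : a * n = n * a := Subtype.ext (hcommA a n)
          rwa [this, mul_inv_cancel_right]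
        · rw [Nat.card_zpowers, Subgroup.orderOf_mk, hk]
      exact ⟨⟨χ, hχ⟩, le_sSup (show N ∈ {N : Subgroup (F.autGroup Q) | N.Normal ∧ IsPGroup p N}
        from hN) (Subgroup.mem_zpowers _), rfl⟩
    · let N := Cfsg.Agent.FusionSysNormal.normalizerSystem F Q hQ.1
      have hN := Cfsg.Agent.FusionSysNormal.isNormalizerSystem_normalizerSystem (F := F) Q hQ.1
      have hQN : Q ≤ normalizerIn S Q := le_normalizerIn hQ.1
      haveI : Finite (normalizerIn S Q) := finite_normalizerIn Q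
      have hfn : N.IsFullyNormalized Q := Cfsg.Agent.FusionWeakAlperin.fullyNormalized_of_normal hQN
        fun g hg x hx => cj_mem_of_normalizer hg.2 hx
      have hA : N.autGroup Q = F.autGroup Q := by
        refine le_antisymm (Subgroup.closure_mono fun a ha => ?_) fun a ha => ?_
        · have := ha
          simp only [Set.mem_setOf_eq] at this ⊢
          rw [hN Q] at this
          exact this.1
        · refine (mem_autGroup hQN).mpr ?_
          have hm := (mem_autGroup hQ.1).mp ha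
          refine (Cfsg.Agent.FusionSysNormal.mor_normalizerSystem_iff hN).mpr
            ⟨hm, hQN, fun x hx => hQN (afun_mem a hx), afun a, by rwa [sup_idem], fun x _ => rfl,
              im_afun a⟩
      have h1 := hst Q hQ hcyc N hN Q hfn χ (hA.symm ▸ hχ) hquad
      rwa [Cfsg.Agent.S5247.pCore_eq_of_eq hA] at h1

end Cfsg.Agent.S5247
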