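import Cfsg.Statements.S5250
import Cfsg.Agent.Lib.FusionModelTools
import Cfsg.Agent.Lib.FusionQd
import Cfsg.Agent.Lib.FusionGroupModel
import Cfsg.Agent.S5281
import Cfsg.Agent.Lib.FusionRealized87

set_option autoImplicit false
universe u
open Cfsg

namespace Cfsg.Agent.S5250

/-- Let F be a saturated fusion system over a finite p-group S such that Qd(p) (the natural semidirect product of an elementary abelian group of order p² by SL₂(p)) is involved in no model of the normalizer system of any fully normalized subgroup that is both centric and radical in F. Then F is Qd(p)-free: Qd(p) is involved in no model of the normalizer system of any fully normalized centric subgroup. -/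
theorem result {Ω : Type u} [Group Ω] {S : Subgroup Ω} [Finite S] (p : ℕ) [Fact p.Prime] (hS : IsPGroup p S) (F : Cfsg.FusionSystem S) (hF : F.IsSaturated p) (h : ∀ Q : Subgroup Ω, F.IsFullyNormalized Q → F.IsCentric Q → F.IsRadical p Q → ∀ N : Cfsg.FusionSystem (Cfsg.FusionSystem.normalizerIn S Q), F.IsNormalizerSystem Q N → ∀ (L : Type u) [Group L] (ι : ↥(Cfsg.FusionSystem.normalizerIn S Q) →* L), N.IsModel p L ι → ¬ Cfsg.Involves ↥(Cfsg.qd p) L) : F.IsSectionFree p ↥(Cfsg.qd p) := by
  open Cfsg.FusionSystem Cfsg.Agent.FusionSysBasic Cfsg.Agent.FusionSysNormal Cfsg.Agent.FusionSysSaturated in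
  intro Q hQn hQc N hN L _ ι hM hinv
  obtain ⟨R, Q', hRn, hRc, hRr, hQ'R, hQQ', hext⟩ := S5281.exists_radical_over hS hF hQn
  obtain ⟨f, hf, hfQ⟩ := FusionSysBasic.isConj_iff.mp hQQ'
  let N' := normalizerSystem F R hRn.1
  have hN' := isNormalizerSystem_normalizerSystem (F := F) R hRn.1
  have hS' : IsPGroup p ↥(normalizerIn S R) := hS.to_le inf_le_left
  haveI : Finite ↥(normalizerIn S R) := finite_normalizerIn R
  haveI : Finite ↥(normalizerIn S Q) := finite_normalizerIn Q
  obtain ⟨-, Q₀, hQ₀n, hQ₀c⟩ := FusionModelTools.constrained_normalizerSystem hS hF hRn hRc hN'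
  have hH : FusionSysModel.Hyp p N' Q₀ :=
    ⟨hS', FusionSysNormalizer.normalizerSystem_saturated hS hF hRn hN', hQ₀n, hQ₀c⟩
  haveI := FusionSysModel.k0_normal hH
  have hM' := FusionSysModel.isModel hH
  apply h R hRn hRc hRr N' hN' _ _ hM'
  have hQT : Q ≤ normalizerIn S Q := le_normalizerIn hQn.1
  have hNsat := FusionSysNormalizer.normalizerSystem_saturated hS hF hQn hN
  have hNn := FusionModelTools.normal_normalizerSystem hQn.1 hN
  have hS1 : IsPGroup p ↥(normalizerIn S Q) := hS.to_le inf_le_left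
  haveI := hM.1
  haveI := FusionSysModel.finite_model hH
  let Qb : Subgroup L := (Q.subgroupOf (normalizerIn S Q)).map ι
  haveI hQbn : Qb.Normal := ⟨fun x hx g => by
    obtain ⟨r, hr, rfl⟩ := hx
    obtain ⟨r', hr', e⟩ := FusionSysModel.model_conj hM hNn g r hr
    exact ⟨r', hr', e.symm⟩⟩
  have hQp : IsPGroup p ↥Qb := (hS1.to_subgroup _).map _
  have hC := FusionModelTools.model_centralizer_le hS1 hNsat hM hNn
    (FusionModelTools.centric_normalizerSystem hQc hN)
  let ι' := FusionSysModel.iota hH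
  have hfR : ∀ x ∈ Q, f x ∈ normalizerIn S R := fun x hx =>
    le_normalizerIn hRn.1 (hQ'R (hfQ ▸ apply_mem_im hx))
  let fT : ↥Q →* ↥(normalizerIn S R) :=
    { toFun := fun x => ⟨f x, hfR x x.2⟩
      map_one' := Subtype.ext hf.map_one
      map_mul' := fun x y => Subtype.ext (hf.map_mul x.2 y.2) }
  let e : ↥Q ≃* ↥Qb := (Subgroup.subgroupOfEquivOfLe hQT).symm.trans
    ((Q.subgroupOf (normalizerIn S Q)).equivMapOfInjective ι hM.2.1.1)
  let θ : ↥Qb →* FusionSysModel.Model hH := ι'.comp (fT.comp e.symm.toMonoidHom)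
  refine FusionQd.involves_transfer hQp hC θ ?_ ?_ hinv
  · refine (FusionSysModel.iota_injective hH).comp ?_
    refine Function.Injective.comp (g := fT) ?_ e.symm.injective
    exact fun a b h => Subtype.ext (hf.injOn a.2 b.2 (congrArg Subtype.val h))
  intro g
  have hval : ∀ x ∈ Q, cj g (FusionRealized87.up ι x) ∈ ι.range := fun x hx => by
    obtain ⟨r', -, e'⟩ := FusionSysModel.model_conj hM hNn g ⟨x, hQT hx⟩ hx
    exact ⟨r', by rw [FusionRealized87.up_apply ι (hQT hx)]; exact e'.symm⟩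
  have hm := FusionRealized87.mor_of_conj hM.2.1 hQT hval
  have him := hm.im_self fun x hx => normal_invariant hNn hm hx hx
  obtain ⟨α, hα, hαe⟩ := ((mor_normalizerSystem_iff hN).mp hm).1.exists_aut him
  obtain ⟨γ, hγ, hγe⟩ := hext _ (hf.transport_mem hfQ hα)
  have hγm : Mor F R (afun γ) := (mem_autGroup hRn.1).mp hγ
  have hRT : R ≤ normalizerIn S R := le_normalizerIn hRn.1
  obtain ⟨-, -, l, hl⟩ := (FusionRealized87.mor_iff hM'.2.1).mp
    ((mor_normalizerSystem_iff hN').mpr ⟨hγm, hRT, fun x hx => hRT (afun_mem γ hx), afun γ,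
      by rwa [sup_idem], fun _ _ => rfl, im_afun γ⟩)
  refine ⟨l, fun q => ?_⟩
  obtain ⟨x, rfl⟩ := e.surjective q
  have hcjx : ι ⟨afun α x, hQT (afun_mem α x.2)⟩ = g * ι ⟨x, hQT x.2⟩ * g⁻¹ := by
    have h1 := FusionRealized87.up_down ι (hval x x.2)
    rw [← hαe x x.2, FusionRealized87.up_apply ι (hQT (afun_mem α x.2)),
      FusionRealized87.up_apply ι (hQT x.2)] at h1
    exact h1
  have hx' : f x ∈ R := hQ'R (hfQ ▸ apply_mem_im x.2)
  have e2 := hl (f x) hx'
  rw [hγe (f x) (hfQ ▸ apply_mem_im x.2), hf.afun_transport hfQ α x.2,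
    FusionRealized87.up_apply ι' (hfR _ (afun_mem α x.2)),
    FusionRealized87.up_apply ι' (hfR x x.2)] at e2
  have e3 : (⟨g * (e x : L) * g⁻¹, hQbn.conj_mem _ (e x).2 g⟩ : ↥Qb) =
      e ⟨afun α x, afun_mem α x.2⟩ := Subtype.ext hcjx.symm
  rw [e3]
  show ι' (fT (e.symm (e _))) = l * ι' (fT (e.symm (e x))) * l⁻¹
  rw [e.symm_apply_apply, e.symm_apply_apply]
  exact e2

end Cfsg.Agent.S5250
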