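import Cfsg.Statements.S5251
import Cfsg.Agent.Lib.FusionSysNormal
import Cfsg.Agent.Lib.FusionKit88
import Cfsg.Agent.Lib.FusionSysAlperin
import Cfsg.Agent.Lib.TransferPResidual

open Cfsg.FusionSystem Cfsg.Agent.FusionSysBasic Cfsg.Agent.FusionSysSaturated
open Cfsg.Agent.FusionSysNormal

namespace Cfsg.Agent.S5251

variable {Ω : Type*} [Group Ω] {S : Subgroup Ω}

/-- Automorphisms fixing `P ⊓ T` pointwise and every coset of it. -/
theorem le_pCore [Finite S] {p : ℕ} [Fact p.Prime] (hS : IsPGroup p S) {F : Cfsg.FusionSystem S}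
    {T : Subgroup Ω} (hT : F.StronglyClosed T) {P : Subgroup Ω} (hP : P ≤ S) {α : MulAut P}
    (hα : α ∈ F.autGroup P) (hfix : ∀ x ∈ P ⊓ T, afun α x = x)
    (hstep : ∀ x ∈ P, x⁻¹ * afun α x ∈ P ⊓ T) :
    α ∈ (Cfsg.pCore p ↥(F.autGroup P)).map (F.autGroup P).subtype := by
  have hm : ∀ {a : MulAut P}, a ∈ F.autGroup P → Mor F P (afun a) := fun ha => (mem_autGroup hP).mp ha
  have hinv : ∀ {a : MulAut P}, a ∈ F.autGroup P → ∀ {x}, x ∈ P ⊓ T → afun a x ∈ P ⊓ T :=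
    fun ha _ hx => ⟨afun_mem _ hx.1, stronglyClosed_invariant hT (hm ha) hx.1 hx.2⟩
  let M : Subgroup (F.autGroup P) :=
    { carrier := {m | (∀ x ∈ P ⊓ T, afun (m : MulAut P) x = x) ∧
        ∀ x ∈ P, x⁻¹ * afun (m : MulAut P) x ∈ P ⊓ T}
      one_mem' := ⟨fun x hx => afun_one hx.1, fun x hx => by
        rw [Subgroup.coe_one, afun_one hx, inv_mul_cancel]; exact one_mem _⟩
      mul_mem' := fun {a b} ⟨ha, ha'⟩ ⟨hb, hb'⟩ => ⟨fun x hx => by
          rw [Subgroup.coe_mul, afun_mul _ _ hx.1, hb x hx, ha x hx],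
        fun x hx => by
          rw [Subgroup.coe_mul, afun_mul _ _ hx]
          have := mul_mem (hb' x hx) (ha' _ (afun_mem (b : MulAut P) hx))
          simpa [mul_assoc] using this⟩
      inv_mem' := fun {a} ⟨ha, ha'⟩ => ⟨fun x hx => by
          rw [Subgroup.coe_inv]
          conv_lhs => rw [← ha x hx]
          exact afun_inv_apply _ hx.1,
        fun x hx => by
          rw [Subgroup.coe_inv]
          have := inv_mem (ha' _ (afun_mem (a : MulAut P)⁻¹ hx))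
          rw [afun_apply_inv _ hx] at this
          simpa using this⟩ }
  haveI := Cfsg.Agent.FusionSysBasic.finite_of_le (S := S) hP
  haveI := finite_autGroup (F := F) P
  have hMp : IsPGroup p M := by
    refine Cfsg.Agent.TransferPResidual.pResidual_eq_bot_iff.mp (le_bot_iff.mp ?_)
    rw [Cfsg.Agent.TransferPResidual.pResidual_le_iff_coprime]
    rintro ⟨m, hm1, hm2⟩ hco
    replace hco : (orderOf (m : MulAut P)).Coprime p := by
      rwa [← Subgroup.orderOf_coe, ← Subgroup.orderOf_coe] at hco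
    rw [Subgroup.mem_bot]
    refine Subtype.ext (Subtype.ext (afun_ext fun x hx => ?_))
    rw [Subgroup.coe_one, Subgroup.coe_one, afun_one hx]
    have h1 := pow_fix_step (le_refl P) hm1 hm2 (orderOf (m : MulAut P)) x hx
    rw [pow_orderOf_eq_one, afun_one hx, left_eq_mul] at h1
    obtain ⟨k, hk⟩ := (IsPGroup.iff_orderOf.mp (hS.to_le hP))
      ⟨_, P.mul_mem (P.inv_mem hx) (afun_mem (m : MulAut P) hx)⟩
    rw [Subgroup.orderOf_mk] at hk
    obtain ⟨j, hj⟩ := exists_pow_eq_self_of_coprime (x := x⁻¹ * afun (m : MulAut P) x)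
      (n := orderOf (m : MulAut P)) (hk.symm ▸ hco.pow_right k)
    rw [h1, one_pow] at hj
    exact (inv_mul_eq_one.mp hj.symm).symm
  have hMn : M.Normal := by
    refine ⟨fun m hm' a => ?_⟩
    obtain ⟨hm1, hm2⟩ := hm'
    refine ⟨fun x hx => ?_, fun x hx => ?_⟩
    · have hx' := hinv (inv_mem a.2) hx
      rw [Subgroup.coe_mul, Subgroup.coe_mul, Subgroup.coe_inv, afun_mul _ _ hx.1,
        afun_mul _ _ hx'.1, hm1 _ hx', afun_apply_inv _ hx.1]
    · have hx' := afun_mem (a : MulAut P)⁻¹ hx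
      rw [Subgroup.coe_mul, Subgroup.coe_mul, Subgroup.coe_inv, afun_mul _ _ hx, afun_mul _ _ hx']
      rw [show x⁻¹ = (afun (a : MulAut P) (afun (a : MulAut P)⁻¹ x))⁻¹ by rw [afun_apply_inv _ hx]]
      rw [← (hm a.2).map_inv hx', ← (hm a.2).map_mul (P.inv_mem hx') (afun_mem _ hx')]
      exact hinv a.2 (hm2 _ hx')
  exact ⟨⟨α, hα⟩, le_sSup (show M ∈ {N : Subgroup (F.autGroup P) | N.Normal ∧ IsPGroup p N} from
    ⟨hMn, hMp⟩) ⟨hfix, hstep⟩, rfl⟩

end Cfsg.Agent.S5251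

set_option autoImplicit false
open Cfsg

namespace Cfsg.Agent.S5251

/-- Let F be a saturated fusion system over a finite p-group S, E a normal subsystem of F over T, and P an F-centric subgroup of S such that P ∩ T is not E-centric. Then some F-conjugate P* of P satisfies Out_S(P*) ∩ O_p(Out_F(P*)) ≠ 1: there is an element of N_S(P*) outside P* whose conjugation action on P* lies in O_p(Aut_F(P*)). In particular P is not both centric and radical in F. -/
theorem result {Ω : Type*} [Group Ω] {S : Subgroup Ω} [Finite S] (p : ℕ) [Fact p.Prime] (hS : IsPGroup p S) (F : Cfsg.FusionSystem S) (hF : F.IsSaturated p) {T : Subgroup Ω} (E : Cfsg.FusionSystem T) (hE : E.IsNormalIn F p) (P : Subgroup Ω) (hP : F.IsCentric P) (hPT : ¬ E.IsCentric (P ⊓ T)) : (∃ φ ∈ F.Hom P, ∃ x ∈ S ⊓ Subgroup.normalizer (φ.range : Set Ω), x ∉ φ.range ∧ ∃ α ∈ ((Cfsg.pCore p ↥(F.autGroup φ.range)).map (F.autGroup φ.range).subtype : Subgroup (MulAut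 ↥φ.range)), ∀ y : ↥φ.range, ((α y : ↥φ.range) : Ω) = x * (y : Ω) * x⁻¹) ∧ ¬ F.IsRadical p P := by
  have hEF := hE.1.2.2.1
  have hT := hE.1.2.2.2.1
  have hPS := hP.1
  set U := P ⊓ T with hU
  obtain ⟨U', hU', hnle⟩ : ∃ U', E.IsConj U U' ∧ ¬ centralizerIn T U' ≤ U' := by
    by_contra hcon
    push Not at hcon
    exact hPT ⟨inf_le_right, hcon⟩
  obtain ⟨c₀, hc₀, hc₀U⟩ := SetLike.not_le_iff_exists.mp hnle
  have hUU' : F.IsConj U U' := Cfsg.Agent.FusionKit88.sub_isConj hEF hU'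
  have hU'T : U' ≤ T := isConj_right_le hU'
  have hUS : U ≤ S := inf_le_left.trans hPS
  obtain ⟨U₀, hU₀, hU₀n⟩ := exists_fullyNormalized (F := F) hUS
  obtain ⟨θ, hθ, -, hiU⟩ := exists_map_to_fullyNormalized hS hF hU₀n hU₀
  have hPN : P ≤ normalizerIn S U := fun g hg => ⟨hPS hg, mem_normalizer_of_cj_le hUS fun x hx =>
    ⟨P.mul_mem (P.mul_mem hg hx.1) (P.inv_mem hg),
      cj_mem_of_stronglyClosed hT (hPS hg) hx.2⟩⟩
  have hθP := hθ.restrict_to hPN
  obtain ⟨φ, hφ, hφe⟩ := id hθP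
  have hRim : φ.range = im P θ := Mor.range_eq_im hφ hφe
  set R := φ.range with hR
  have hiR : im P θ = R := hRim.symm
  have hRS : R ≤ S := hiR ▸ hθP.im_le
  -- `R ⊓ T` is the image of `U`
  have hRT : R ⊓ T = U₀ := by
    refine le_antisymm (fun y hy => ?_) ?_
    · obtain ⟨j, hj, hjl, -, -⟩ := hθP.exists_inv
      obtain ⟨x, hx, rfl⟩ := hθP.mem_im.mp (hiR.symm ▸ hy.1)
      have h1 := stronglyClosed_invariant hT hj (apply_mem_im hx) hy.2
      rw [hjl x hx] at h1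
      exact hiU ▸ apply_mem_im ⟨hx, h1⟩
    · rw [← hiU]
      exact im_le_iff.mpr fun x hx => ⟨hiR ▸ apply_mem_im hx.1,
        stronglyClosed_invariant hT hθP hx.1 hx.2⟩
  -- an element of `C_T(U₀)` outside `U₀`
  obtain ⟨f, hf, hfi⟩ := isConj_iff.mp (isConj_trans (isConj_symm hUU') hU₀)
  obtain ⟨f', hf', hag, hfC⟩ := exists_extension_centralizer
    (receptive_of_fullyNormalized hS hF hU₀n) hf hfi
  have hc₀' : c₀ ∈ centralizerIn S U' := mem_centralizerIn.mpr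
    ⟨hT.1 hc₀.1, (mem_centralizerIn.mp hc₀).2⟩
  set c₁ := f' c₀ with hc₁
  have hc₁C : c₁ ∈ T ⊓ centralizerIn S U₀ :=
    ⟨stronglyClosed_invariant hT hf' (Subgroup.mem_sup_right hc₀') hc₀.1, hfC _ hc₀'⟩
  have hc₁U : c₁ ∉ U₀ := by
    intro h
    obtain ⟨x, hx, e⟩ := hf.mem_im.mp (hfi.symm ▸ h)
    rw [← hag x hx] at e
    exact hc₀U (hf'.injOn (Subgroup.mem_sup_right hc₀') (Subgroup.mem_sup_left hx) e.symm ▸ hx)
  set C := T ⊓ centralizerIn S U₀ with hC
  have hRnU : ∀ g ∈ R, ∀ x ∈ U₀, cj g x ∈ U₀ := fun g hg x hx => by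
    rw [← hRT] at hx ⊢
    exact ⟨R.mul_mem (R.mul_mem hg hx.1) (R.inv_mem hg),
      cj_mem_of_stronglyClosed hT (hRS hg) hx.2⟩
  have hRC : R ≤ Subgroup.normalizer (C : Set Ω) := fun g hg =>
    mem_normalizer_of_cj_le (inf_le_left.trans hT.1) fun c hc =>
      ⟨cj_mem_of_stronglyClosed hT (hRS hg) hc.1, mem_centralizerIn.mpr
        ⟨cj_mem_S (hRS hg) hc.2.1, fun x hx => by
          have h1 := (mem_centralizerIn.mp hc.2).2 _ (hRnU g⁻¹ (R.inv_mem hg) x hx)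
          have h2 := congrArg (cj g) h1
          rw [cj_cj_inv] at h2
          refine Eq.trans ?_ h2
          simp only [cj_apply]; group⟩⟩
  have hlt : R < R ⊔ C := lt_of_le_of_ne le_sup_left fun e =>
    hc₁U (hRT ▸ ⟨e.ge (Subgroup.mem_sup_right hc₁C), hc₁C.1⟩)
  obtain ⟨y, hyC, hyR, hyn⟩ :=
    Cfsg.Agent.FusionSysAlperin.lt_normalizerIn hS (sup_le hRS (inf_le_left.trans hT.1)) hlt
  have hy' : y ∈ ((R ⊔ C : Subgroup Ω) : Set Ω) := hyC
  rw [Subgroup.coe_mul_of_left_le_normalizer_right R C hRC] at hy'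
  obtain ⟨r, hr, c, hcC, rfl⟩ := Set.mem_mul.mp hy'
  have hcR : c ∉ R := fun h => hyR (R.mul_mem hr h)
  have hcn : c ∈ Subgroup.normalizer (R : Set Ω) := by
    have := mul_mem (inv_mem (Subgroup.le_normalizer hr)) hyn
    rwa [inv_mul_cancel_left] at this
  have hcS : c ∈ S := hT.1 hcC.1
  set α := nHom S R ⟨c, hcS, hcn⟩ with hα
  have hαA : α ∈ F.autGroup R := autInducedBy_le hRS ((autInducedBy_eq_range S R).ge ⟨_, rfl⟩)
  have hαe : ∀ x ∈ R, afun α x = cj c x := fun x hx => afun_nHom _ hx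
  have hfix : ∀ x ∈ R ⊓ T, afun α x = x := fun x hx => by
    rw [hαe x hx.1]
    exact (mem_centralizerIn.mp hcC.2).2 x (hRT ▸ hx)
  have hstep : ∀ x ∈ R, x⁻¹ * afun α x ∈ R ⊓ T := fun x hx => by
    refine ⟨R.mul_mem (R.inv_mem hx) (afun_mem _ hx), ?_⟩
    rw [hαe x hx, show x⁻¹ * cj c x = cj x⁻¹ c * c⁻¹ by simp only [cj_apply]; group]
    exact T.mul_mem (cj_mem_of_stronglyClosed hT (S.inv_mem (hRS hx)) hcC.1) (T.inv_mem hcC.1)
  have hcore := Cfsg.Agent.S5251.le_pCore hS hT hRS hαA hfix hstep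
  refine ⟨⟨φ, hφ, c, ⟨hcS, hcn⟩, hcR, α, hcore, fun y => ?_⟩, fun hrad => ?_⟩
  · rw [← afun_coe]; exact hαe y y.2
  · obtain ⟨j, hj, hjl, hjr, hjP⟩ := hθP.exists_inv
    rw [hiR] at hj hjr hjP
    have hjim : im R j = P := by
      rw [← hiR, hθP.im_comp]
      exact (im_congr hjl).trans (im_id P)
    set γ := hj.transport hjim α with hγ
    have hγe : ∀ x ∈ P, afun γ x = j (cj c (θ x)) := fun x hx => by
      have hθx : θ x ∈ R := hiR ▸ apply_mem_im hx
      conv_lhs => rw [← hjl x hx]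
      rw [hγ, hj.afun_transport hjim α hθx, hαe _ hθx]
    have hθT : ∀ x ∈ P ⊓ T, θ x ∈ R ⊓ T := fun x hx =>
      ⟨hiR ▸ apply_mem_im hx.1, stronglyClosed_invariant hT hθP hx.1 hx.2⟩
    have hγc := Cfsg.Agent.S5251.le_pCore hS hT hPS (hj.transport_mem hjim hαA)
      (fun x hx => by
        rw [← hγ, hγe x hx.1, ← hαe _ (hθT x hx).1, hfix _ (hθT x hx), hjl x hx.1])
      (fun x hx => by
        have hθx : θ x ∈ R := hiR ▸ apply_mem_im hx
        rw [← hγ, hγe x hx, ← hαe _ hθx]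
        have h1 : j ((θ x)⁻¹ * afun α (θ x)) = x⁻¹ * j (afun α (θ x)) := by
          rw [hj.map_mul (R.inv_mem hθx) (afun_mem α hθx), hj.map_inv hθx, hjl x hx]
        rw [← h1]
        exact ⟨hjP _ (hstep _ hθx).1,
          stronglyClosed_invariant hT hj (hstep _ hθx).1 (hstep _ hθx).2⟩)
    rw [hrad.2] at hγc
    obtain ⟨u, hu⟩ := MonoidHom.mem_range.mp hγc
    have hθu : θ u ∈ R := hiR ▸ apply_mem_im u.2
    have hcen : c⁻¹ * θ u ∈ centralizerIn S R := by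
      refine mem_centralizerIn.mpr ⟨S.mul_mem (S.inv_mem hcS) (hRS hθu), fun y hy => ?_⟩
      obtain ⟨x, hx, rfl⟩ := hθP.mem_im.mp (hiR.symm ▸ hy)
      have h1 : afun γ x = cj (u : Ω) x := by
        rw [hγ, ← hu, afun_apply _ hx]; rfl
      rw [hγe x hx] at h1
      have h2 := congrArg θ h1
      rw [hjr _ (cj_mem_of_normalizer hcn hy), hθP.map_cj u.2 hx] at h2
      rw [← cj_cj, ← h2, cj_inv_cj]
    have := hP.2 R ⟨φ, hφ, rfl⟩ hcen
    have h3 := R.mul_mem hθu (R.inv_mem this)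
    rw [mul_inv_rev, inv_inv, mul_inv_cancel_left] at h3
    exact hcR h3

end Cfsg.Agent.S5251
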