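import Cfsg.Statements.S5254
import Cfsg.Agent.Lib.FusionAbelianIndexP89

set_option autoImplicit false
open Cfsg

namespace Cfsg.Agent.S5254

/-- Let p be an odd prime, S a finite nonabelian p-group with a unique abelian subgroup A of index p, and F a saturated fusion system over S. Then every F-essential subgroup P is A, or Z(S)⟨x⟩ for some x ∈ S outside A, or (when the second centre Z₂(S) lies in A) Z₂(S)⟨x⟩ for some x ∈ S outside A; and P has index p in its normalizer in S. -/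
theorem result {Ω : Type*} [Group Ω] {S : Subgroup Ω} [Finite S] (p : ℕ) [Fact p.Prime] (hS : IsPGroup p S) (F : Cfsg.FusionSystem S) (hF : F.IsSaturated p) (hp : p ≠ 2) (hna : ¬ IsMulCommutative ↥S) (A : Subgroup Ω) (hA : A ≤ S ∧ IsMulCommutative ↥A ∧ (A.subgroupOf S).index = p) (huniq : ∀ B : Subgroup Ω, B ≤ S → IsMulCommutative ↥B → (B.subgroupOf S).index = p → B = A) (P : Subgroup Ω) (hP : F.IsEssential p P) : (P = A ∨ (∃ x ∈ S, x ∉ A ∧ P = (S ⊓ Subgroup.centralizer (S : Set Ω)) ⊔ Subgroup.zpowers x) ∨ (((upperCentralSeries ↥S 2).map S.subtype) ≤ A ∧ ∃ x ∈ S, x ∉ A ∧ P = ((upperCentralSeries ↥S 2).map S.subtype) ⊔ Subgroup.zpowers x)) ∧ (P.subgroupOf (S ⊓ Subgroup.normalizer (P : Set Ω))).index = p := by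
  open FusionAbelianIndexP89 in
  have h : Setting p S A := ⟨hS, hA.1, hA.2.1, hA.2.2, hna, huniq⟩
  by_cases hPA : P = A
  · subst hPA
    refine ⟨Or.inl rfl, ?_⟩
    open FusionAbelianIndexP89 in
    have hle : S ≤ Subgroup.normalizer (P : Set Ω) := fun g hg =>
      FusionSysBasic.mem_normalizer_of_cj_le h.le fun a ha => h.normal hg ha
    rw [inf_eq_left.mpr hle]
    exact hA.2.2
  open FusionAbelianIndexP89 in
  obtain ⟨hW, ⟨x, hx, hxA, hc⟩, hidx⟩ := h.main hF hP hPA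
  refine ⟨Or.inr ?_, hidx⟩
  have hZA := h.Ztwo_le hW
  rcases hc with ⟨hPe, -⟩ | ⟨hPe, -⟩
  · exact Or.inl ⟨x, hx, hxA, hPe⟩
  · refine Or.inr ⟨hZA, x, hx, hxA, ?_⟩
    rw [hPe]
    exact congrArg (· ⊔ Subgroup.zpowers x) (inf_eq_right.mpr hZA)

end Cfsg.Agent.S5254
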