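import Cfsg.Statements.S5255
import Cfsg.Agent.Lib.FusionPuig

open Cfsg.FusionSystem Cfsg.Agent.FusionSysBasic Cfsg.Agent.FusionPuig

set_option autoImplicit false
open Cfsg

namespace Cfsg.Agent.S5255

/-- Let F be a saturated fusion system over a finite p-group S and T a subgroup of S strongly closed in F. Then T·C_S(T) is strongly closed in F. -/
theorem result {Ω : Type*} [Group Ω] {S : Subgroup Ω} [Finite S] (p : ℕ) [Fact p.Prime] (hS : IsPGroup p S) (F : Cfsg.FusionSystem S) (hF : F.IsSaturated p) (T : Subgroup Ω) (hT : F.StronglyClosed T) : F.StronglyClosed (T ⊔ Cfsg.FusionSystem.centralizerIn S T) := by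
  have hTU : T ≤ T ⊔ centralizerIn S T := le_sup_left
  have hUS : T ⊔ centralizerIn S T ≤ S := sup_le hT.1 inf_le_left
  refine ⟨hUS, fun R hR φ hφ x => ?_⟩
  obtain ⟨ψ, hψ, hc⟩ := exists_map_mod hS hF hT (mor_toFun hφ)
  let V : Subgroup Ω :=
    { carrier := {z | z ∈ S ∧ ∃ t ∈ T, ∀ y ∈ T, cj z y = cj t y}
      one_mem' := ⟨S.one_mem, 1, T.one_mem, fun y _ => rfl⟩
      mul_mem' := fun {a b} ⟨ha, t, ht, he⟩ ⟨hb, t', ht', he'⟩ =>
        ⟨S.mul_mem ha hb, t * t', T.mul_mem ht ht', fun y hy => by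
          rw [← cj_cj, ← cj_cj, he' y hy, he _ (cj_mem_closed hT (hT.1 ht') hy)]⟩
      inv_mem' := fun {a} ⟨ha, t, ht, he⟩ =>
        ⟨S.inv_mem ha, t⁻¹, T.inv_mem ht, fun y hy => by
          have h := cj_mem_closed hT (S.inv_mem (hT.1 ht)) hy
          have h2 := he _ h
          rw [cj_cj_inv] at h2
          exact (congrArg (cj a⁻¹) h2).symm.trans (cj_inv_cj a _)⟩ }
  have hxV : (x : Ω) ∈ V := by
    refine (sup_le (fun t ht => ?_) (fun c hc => ?_) : T ⊔ centralizerIn S T ≤ V) (hR x.2)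
    · exact ⟨hT.1 ht, t, ht, fun y _ => rfl⟩
    · exact ⟨hc.1, 1, T.one_mem, fun y hy => by rw [(mem_centralizerIn.mp hc).2 y hy, cj_one]⟩
  obtain ⟨hxS, t, ht, he⟩ := hxV
  have hxP : (x : Ω) ∈ R ⊔ T := Subgroup.mem_sup_left x.2
  have htP : t ∈ R ⊔ T := Subgroup.mem_sup_right ht
  have hTim : im T ψ = T := (hψ.restrict_to le_sup_right).im_eq_of_le hT.1
    (im_le_iff.mpr fun s hs => Cfsg.Agent.FusionKit88.closed_apply' hT hψ
      (Subgroup.mem_sup_right hs) hs) le_rfl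
  have hψt : ψ t ∈ T := Cfsg.Agent.FusionKit88.closed_apply' hT hψ htP ht
  have hcen : (ψ t)⁻¹ * ψ x ∈ centralizerIn S T := by
    refine mem_centralizerIn.mpr ⟨S.mul_mem (S.inv_mem (hT.1 hψt)) (hψ.apply_mem hxP), fun y hy => ?_⟩
    obtain ⟨y₀, hy₀, rfl⟩ := (hψ.restrict_to le_sup_right).mem_im.mp (hTim.symm ▸ hy)
    rw [← cj_cj, ← hψ.map_cj hxP (Subgroup.mem_sup_right hy₀), he y₀ hy₀,
      hψ.map_cj htP (Subgroup.mem_sup_right hy₀), cj_inv_cj]
  have h1 : ψ x ∈ T ⊔ centralizerIn S T := by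
    have := mul_mem (hTU hψt) (Subgroup.mem_sup_right (S := T) hcen)
    rwa [mul_inv_cancel_left] at this
  have h2 : (φ x)⁻¹ * ψ x ∈ T := by
    have := hc x x.2
    rwa [toFun_coe] at this
  have h3 := mul_mem h1 (inv_mem (hTU h2))
  simpa [mul_assoc] using h3

end Cfsg.Agent.S5255
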