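import Cfsg.Statements.S5256
import Cfsg.Agent.Lib.FusionPuig

open Cfsg.FusionSystem Cfsg.Agent.FusionSysBasic Cfsg.Agent.FusionPuig

set_option autoImplicit false
open Cfsg

namespace Cfsg.Agent.S5256

/-- Let F be a saturated fusion system over a finite p-group S, T a subgroup of S strongly closed in F, and E a factor system F/T realised along a homomorphism θ of S with kernel T. Then the hyperfocal subgroup of E is the image under θ of the hyperfocal subgroup of F (hyp(F/T) = T·hyp(F)/T). -/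
theorem result {Ω : Type*} [Group Ω] {S : Subgroup Ω} [Finite S] (p : ℕ) [Fact p.Prime] (hS : IsPGroup p S) (F : Cfsg.FusionSystem S) (hF : F.IsSaturated p) (T : Subgroup Ω) (hT : F.StronglyClosed T) {Ω' : Type*} [Group Ω'] {S' : Subgroup Ω'} (θ : ↥S →* Ω') (E : Cfsg.FusionSystem S') (hE : F.IsFactorSystem T θ E) : E.hyperfocalSubgroup p = ((F.hyperfocalSubgroup p).subgroupOf S).map θ := by
  obtain ⟨-, hker, hrange, hhom⟩ := hE
  haveI : Finite S' := by rw [← hrange]; exact Finite.of_surjective _ θ.rangeRestrict_surjective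
  have hpre : ∀ (P' : Subgroup Ω'), preimageAlong θ P' ≤ S := fun P' => Subgroup.map_subtype_le _
  have memp : ∀ (P' : Subgroup Ω') (s : ↥S), (s : Ω) ∈ preimageAlong θ P' ↔ θ s ∈ P' := by
    intro P' s
    constructor
    · rintro ⟨u, hu, e⟩
      rwa [← Subtype.ext (a1 := u) (a2 := s) e]
    · intro h; exact ⟨s, h, rfl⟩
  have hypS : F.hyperfocalSubgroup p ≤ S := by
    refine (Subgroup.closure_le _).mpr ?_
    rintro _ ⟨P, α, x, hP, -, rfl⟩
    exact S.mul_mem (S.inv_mem (hP x.2)) (hP ((α : MulAut P) x).2)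
  apply le_antisymm
  · refine (Subgroup.closure_le _).mpr ?_
    rintro _ ⟨P', α', x', hP', hα', rfl⟩
    let A : Subgroup (E.autGroup P') :=
      { carrier := {β | ∀ x : P', (x : Ω')⁻¹ * ((β : MulAut P') x : P') ∈
          ((F.hyperfocalSubgroup p).subgroupOf S).map θ}
        one_mem' := fun x => by simp
        mul_mem' := fun {a b} ha hb x => by
          have := mul_mem (hb x) (ha ((b : MulAut P') x))
          simpa [mul_assoc] using this
        inv_mem' := fun {a} ha x => by
          have h1 := inv_mem (ha ((a : MulAut P')⁻¹ x))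
          have h2 : (a : MulAut P') ((a : MulAut P')⁻¹ x) = x := MulEquiv.apply_symm_apply _ _
          rw [h2] at h1
          simpa [mul_inv_rev] using h1 }
    suffices hA : Cfsg.pResidual p (E.autGroup P') ≤ A from hA hα' x'
    rw [Cfsg.Agent.TransferPResidual.pResidual_le_iff_coprime]
    intro β hβ x
    obtain ⟨φ', hφ', he'⟩ := (mem_autGroup hP').mp β.2
    have h0 := (hhom P' φ').mp hφ'
    have memP : ∀ s : ↥S, (s : Ω) ∈ preimageAlong θ P' ↔ θ s ∈ P' := memp P'
    obtain ⟨P, hPdef⟩ : ∃ P, preimageAlong θ P' = P := ⟨_, rfl⟩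
    rw [hPdef] at h0 memP
    obtain ⟨-, φ, hφ, hPS, hφS, hP'm, hind⟩ := h0
    have hm : Mor F P (toFun φ) := mor_toFun hφ
    have hstab : ∀ y ∈ P, toFun φ y ∈ P := by
      intro y hy
      rw [toFun_apply φ hy]
      refine (memP ⟨_, hφS ⟨y, hy⟩⟩).mpr ?_
      rw [← hind ⟨y, hy⟩, he', afun_coe]
      exact Subtype.prop _
    haveI := Cfsg.Agent.FusionSysBasic.finite_of_le (S := S) hPS
    haveI := finite_autGroup (F := F) P
    obtain ⟨γ, hγ, hγe⟩ := hm.exists_aut (hm.im_self hstab)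
    have hpow : ∀ (k : ℕ) (s : ↥S) (hs : (s : Ω) ∈ P),
        θ ⟨afun (γ ^ k) s, hPS (afun_mem _ hs)⟩ = afun ((β : MulAut P') ^ k) (θ s) := by
      intro k
      induction k with
      | zero =>
        intro s hs
        simp only [pow_zero]
        rw [afun_one ((memP s).mp hs)]
        congr 1
        exact Subtype.ext (afun_one hs)
      | succ k ih =>
        intro s hs
        simp only [pow_succ]
        rw [afun_mul _ _ ((memP s).mp hs)]
        have hstep : θ ⟨afun γ s, hPS (afun_mem _ hs)⟩ = afun (β : MulAut P') (θ s) := by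
          have h1 := hind ⟨s, hs⟩
          rw [he'] at h1
          refine Eq.trans ?_ h1.symm
          congr 1
          exact Subtype.ext ((hγe _ hs).trans (toFun_apply φ hs))
        rw [← hstep, ← ih ⟨afun γ s, hPS (afun_mem _ hs)⟩ (afun_mem _ hs)]
        congr 1
        exact Subtype.ext (afun_mul _ _ hs)
    have hγpos : 0 < orderOf γ := by
      have h0 := orderOf_pos (⟨γ, hγ⟩ : F.autGroup P)
      rwa [← Subgroup.orderOf_coe] at h0
    obtain ⟨j, m, hm', hjm⟩ :=
      Nat.exists_eq_pow_mul_and_not_dvd hγpos.ne' p (Fact.out (p := p.Prime)).ne_one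
    have hβ' : (orderOf (β : MulAut P')).Coprime p := by rwa [Subgroup.orderOf_coe]
    obtain ⟨i, hi⟩ := exists_pow_eq_self_of_coprime (x := (β : MulAut P')) (n := p ^ j)
      ((hβ'.pow_right j).symm)
    rw [← pow_mul] at hi
    set n := p ^ j * i with hn
    have hord : (orderOf (γ ^ n)).Coprime p := by
      refine Nat.Coprime.coprime_dvd_left (orderOf_dvd_of_pow_eq_one ?_)
        (((Fact.out (p := p.Prime)).coprime_iff_not_dvd.mpr hm').symm)
      rw [← pow_mul, show n * m = orderOf γ * i by rw [hn, hjm]; ring, pow_mul, pow_orderOf_eq_one,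
        one_pow]
    obtain ⟨s, hs⟩ := MonoidHom.mem_range.mp (hrange.ge (hP' x.2))
    have hsP : (s : Ω) ∈ P := (memP s).mpr (hs ▸ x.2)
    have hgen : (s : Ω)⁻¹ * afun (γ ^ n) s ∈ F.hyperfocalSubgroup p := by
      refine Subgroup.subset_closure ⟨P, ⟨γ ^ n, pow_mem hγ n⟩, ⟨s, hsP⟩, hPS,
        Cfsg.Agent.TransferPResidual.mem_pResidual_of_coprime (by rwa [Subgroup.orderOf_mk]), ?_⟩
      rw [afun_apply _ hsP]
    refine ⟨s⁻¹ * ⟨afun (γ ^ n) s, hPS (afun_mem _ hsP)⟩, hgen, ?_⟩
    rw [map_mul, map_inv, hpow n s hsP, hi, hs, afun_coe]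
  · have hle : F.hyperfocalSubgroup p ≤ ((E.hyperfocalSubgroup p).comap θ).map S.subtype := by
      refine (Subgroup.closure_le _).mpr ?_
      rintro _ ⟨P, α, x, hP, hα, rfl⟩
      let A : Subgroup (F.autGroup P) :=
        { carrier := {β | ∀ x : P, (x : Ω)⁻¹ * ((β : MulAut P) x : P) ∈
            ((E.hyperfocalSubgroup p).comap θ).map S.subtype}
          one_mem' := fun x => by simp
          mul_mem' := fun {a b} ha hb x => by
            have := mul_mem (hb x) (ha ((b : MulAut P) x))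
            simpa [mul_assoc] using this
          inv_mem' := fun {a} ha x => by
            have h1 := inv_mem (ha ((a : MulAut P)⁻¹ x))
            have h2 : (a : MulAut P) ((a : MulAut P)⁻¹ x) = x := MulEquiv.apply_symm_apply _ _
            rw [h2] at h1
            simpa [mul_inv_rev] using h1 }
      suffices hA : Cfsg.pResidual p (F.autGroup P) ≤ A from hA hα x
      rw [Cfsg.Agent.TransferPResidual.pResidual_le_iff_coprime]
      intro β hβ x
      obtain ⟨ψ, hψ, hc⟩ := exists_map_mod hS hF hT ((mem_autGroup hP).mp β.2)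
      have hPT : P ⊔ T ≤ S := hψ.le
      set P' := imageAlong θ P with hP'
      have hsub : preimageAlong θ P' = P ⊔ T := by
        refine le_antisymm ?_ (sup_le (fun y hy => ?_) fun t ht => ?_)
        · rintro _ ⟨s, ⟨u, hu, e⟩, rfl⟩
          have h1 : ((u⁻¹ * s : ↥S) : Ω) ∈ T :=
            (hker _).mp (by rw [map_mul, map_inv, e, inv_mul_cancel])
          have := (P ⊔ T).mul_mem (Subgroup.mem_sup_left (T := T) hu) (Subgroup.mem_sup_right (S := P) h1)
          simpa using this
        · exact (memp P' ⟨y, hP hy⟩).mpr ⟨⟨y, hP hy⟩, hy, rfl⟩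
        · refine (memp P' ⟨t, hT.1 ht⟩).mpr ?_
          rw [(hker ⟨t, hT.1 ht⟩).mpr ht]
          exact one_mem _
      obtain ⟨φ, hφ, hφe⟩ := hψ
      have hψ : Mor F (P ⊔ T) ψ := ⟨φ, hφ, hφe⟩
      let π : ↥(P ⊔ T) →* P' :=
        { toFun := fun y => ⟨θ ⟨y, hPT y.2⟩, (memp P' ⟨y, hPT y.2⟩).mp (hsub.symm.le y.2)⟩
          map_one' := Subtype.ext θ.map_one
          map_mul' := fun a b => Subtype.ext (θ.map_mul ⟨a, hPT a.2⟩ ⟨b, hPT b.2⟩) }
      have hπ : Function.Surjective π := by
        rintro ⟨_, s, hs, rfl⟩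
        exact ⟨⟨s, Subgroup.mem_sup_left hs⟩, rfl⟩
      let g : ↥(P ⊔ T) →* Ω' := θ.comp (φ.codRestrict S fun y => (F.le_of_mem hφ).2 y)
      have hπg : π.ker ≤ g.ker := by
        intro y hy
        have h1 : θ ⟨y, hPT y.2⟩ = 1 := congrArg Subtype.val (MonoidHom.mem_ker.mp hy)
        rw [MonoidHom.mem_ker]
        refine (hker _).mpr ?_
        show φ y ∈ T
        rw [hφe]
        exact Cfsg.Agent.FusionKit88.closed_apply' hT hψ y.2 ((hker _).mp h1)
      let φ' : P' →* Ω' := π.liftOfSurjective hπ ⟨g, hπg⟩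
      have hφ'e : ∀ y, φ' (π y) = g y := fun y =>
        MonoidHom.liftOfRightInverse_comp_apply _ _ _ ⟨g, hπg⟩ y
      have hP'S : P' ≤ S' := hrange ▸ Subgroup.map_le_range θ _
      have hmem : φ' ∈ E.Hom P' := by
        refine (hhom P' φ').mpr ⟨hP'S, ?_⟩
        rw [hsub]
        exact ⟨φ, hφ, hPT, fun y => (F.le_of_mem hφ).2 y,
          fun y => (memp P' ⟨y, hPT y.2⟩).mp (hsub.symm.le y.2), fun y => hφ'e y⟩
      have hval : ∀ (s : ↥S) (hs : (s : Ω) ∈ P),
          toFun φ' (θ s) = θ ⟨afun (β : MulAut P) s, hP (afun_mem _ hs)⟩ := by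
        intro s hs
        have hs' : θ s ∈ P' := ⟨s, hs, rfl⟩
        rw [toFun_apply φ' hs',
          show φ' ⟨θ s, hs'⟩ = g ⟨s, Subgroup.mem_sup_left hs⟩ from hφ'e ⟨s, Subgroup.mem_sup_left hs⟩]
        refine inv_mul_eq_one.mp ?_
        show (θ ⟨φ ⟨s, _⟩, _⟩)⁻¹ * θ _ = 1
        rw [← map_inv, ← map_mul, hker]
        show (φ ⟨s, _⟩)⁻¹ * afun _ _ ∈ T
        rw [hφe]
        exact cong_symm (hc s hs)
      have hm' : Mor E P' (toFun φ') := mor_toFun hmem
      haveI := Cfsg.Agent.FusionSysBasic.finite_of_le (S := S') hP'S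
      obtain ⟨γ, hγ, hγe⟩ := hm'.exists_aut (hm'.im_self fun y hy => by
        obtain ⟨s, hs, rfl⟩ := Subgroup.mem_map.mp hy
        rw [hval s hs]
        exact ⟨⟨afun (β : MulAut P) s, hP (afun_mem _ hs)⟩, afun_mem _ hs, rfl⟩)
      have hpow : ∀ (k : ℕ) (s : ↥S) (hs : (s : Ω) ∈ P),
          afun (γ ^ k) (θ s) = θ ⟨afun ((β : MulAut P) ^ k) s, hP (afun_mem _ hs)⟩ := by
        intro k
        induction k with
        | zero =>
          intro s hs
          simp only [pow_zero]
          rw [afun_one (⟨s, hs, rfl⟩ : θ s ∈ P')]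
          congr 1
          exact Subtype.ext (afun_one hs).symm
        | succ k ih =>
          intro s hs
          have hs' : θ s ∈ P' := ⟨s, hs, rfl⟩
          simp only [pow_succ]
          rw [afun_mul _ _ hs', hγe _ hs', hval s hs, ih _ (afun_mem _ hs)]
          congr 1
          exact Subtype.ext (afun_mul _ _ hs).symm
      have hord : (orderOf γ).Coprime p := by
        refine Nat.Coprime.coprime_dvd_left (orderOf_dvd_of_pow_eq_one (afun_ext fun y hy => ?_))
          (by rwa [Subgroup.orderOf_coe] : (orderOf (β : MulAut P)).Coprime p)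
        obtain ⟨s, hs, rfl⟩ := Subgroup.mem_map.mp hy
        rw [hpow _ s hs, afun_one hy]
        congr 1
        exact Subtype.ext (by simp only [pow_orderOf_eq_one]; exact afun_one hs)
      refine ⟨⟨x, hP x.2⟩⁻¹ * ⟨afun (β : MulAut P) x, hP (afun_mem _ x.2)⟩, ?_, ?_⟩
      · rw [SetLike.mem_coe, Subgroup.mem_comap, map_mul, map_inv, ← hval ⟨x, hP x.2⟩ x.2]
        have hx' : θ ⟨x, hP x.2⟩ ∈ P' := ⟨_, x.2, rfl⟩
        rw [← hγe _ hx', afun_apply _ hx']
        exact Subgroup.subset_closure ⟨P', ⟨γ, hγ⟩, ⟨_, hx'⟩, hP'S,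
          Cfsg.Agent.TransferPResidual.mem_pResidual_of_coprime (by rwa [Subgroup.orderOf_mk]), rfl⟩
      · show (x : Ω)⁻¹ * afun _ _ = _
        rw [afun_coe]
    rintro _ ⟨s, hs, rfl⟩
    obtain ⟨u, hu, e⟩ := hle hs
    rwa [← Subtype.ext (a1 := u) (a2 := s) e]

end Cfsg.Agent.S5256
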