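import Cfsg.Statements.S5257
import Cfsg.Agent.Lib.FusionAbelianIndexPSeries89

set_option autoImplicit false
open Cfsg

namespace Cfsg.Agent.S5257

/-- Let p be an odd prime, S a finite nonabelian p-group with a unique abelian subgroup A of index p, and F a saturated fusion system over S having an F-essential subgroup other than A. Then the second centre Z₂(S) lies in A; Z(S) ∩ [S, S] has order p; Z(S)[S, S] has index p in A; Z(S) has index p in Z₂(S); and S/Z(S) has maximal nilpotency class (if S/Z(S) has order pᵐ with m ≥ 3 then the term of index m − 2 of the lower central series of S, counting S as index 0, is not contained in Z(S)). -/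
theorem result {Ω : Type*} [Group Ω] {S : Subgroup Ω} [Finite S] (p : ℕ) [Fact p.Prime] (hS : IsPGroup p S) (F : Cfsg.FusionSystem S) (hF : F.IsSaturated p) (hp : p ≠ 2) (hna : ¬ IsMulCommutative ↥S) (A : Subgroup Ω) (hA : A ≤ S ∧ IsMulCommutative ↥A ∧ (A.subgroupOf S).index = p) (huniq : ∀ B : Subgroup Ω, B ≤ S → IsMulCommutative ↥B → (B.subgroupOf S).index = p → B = A) (P : Subgroup Ω) (hP : F.IsEssential p P) (hPA : P ≠ A) : ((upperCentralSeries ↥S 2).map S.subtype) ≤ A ∧ Nat.card ↥((S ⊓ Subgroup.centralizer (S : Set Ω)) ⊓ ((commutator ↥S).map S.subtype)) = p ∧ (((S ⊓ Subgroup.centralizer (S : Set Ω)) ⊔ ((commutator ↥S).map S.subtype)).subgroupOf A).index = p ∧ (((S ⊓ Subgroup.centralizer (S : Set Ω))).subgroupOf ((upperCentralSeries ↥S 2).map S.subtype)).index = p ∧ ∀ m : ℕ, ((S ⊓ Subgroup.centralizer (S : Set Ω)).subgroupOf S).index = p ^ m → 3 ≤ m → ¬ Subgroup.lowerCentralSeries S (m - 2) ≤ (S ⊓ Subgroup.centralizer (S : Set Ω)) := by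
  open FusionAbelianIndexP89 in
  have h : Setting p S A := ⟨hS, hA.1, hA.2.1, hA.2.2, hna, huniq⟩
  open FusionAbelianIndexP89 in
  obtain ⟨hW, ⟨x, hx, hxA, -⟩, -⟩ := h.main hF hP hPA
  open FusionAbelianIndexP89 in
  have hZA : Ztwo S ≤ A := h.Ztwo_le hW
  open FusionAbelianIndexP89 in
  have hWe : Setting.W S A = Ztwo S := inf_eq_right.mpr hZA
  have hcomm : (commutator ↥S).map S.subtype = h.img hx (le_refl A) := by
    rw [← h.commutator_eq hx hxA, Subgroup.map_subtype_commutator]
  refine ⟨hZA, ?_, ?_, ?_, ?_⟩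
  · open FusionAbelianIndexP89 in
    show Nat.card ↥(Zc S ⊓ _) = p
    rw [hcomm, inf_comm, ← h.img_W hx hxA]
    exact h.card_imgW hx hxA hW
  · open FusionAbelianIndexP89 in
    show ((Zc S ⊔ _).subgroupOf A).index = p
    rw [hcomm]
    haveI := FusionSysBasic.finite_of_le h.le
    have hKA : Zc S ⊔ h.img hx (le_refl A) ≤ A := sup_le h.Zc_le (h.img_le hx _)
    have h1 := Subgroup.card_mul_index ((Zc S ⊔ h.img hx (le_refl A)).subgroupOf A)
    rw [Nat.card_congr (Subgroup.subgroupOfEquivOfLe hKA).toEquiv] at h1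
    haveI := FusionSysBasic.finite_of_le (hKA.trans h.le)
    exact Nat.eq_of_mul_eq_mul_left Nat.card_pos (h1.trans (h.card_sup_commutator hx hxA hW).symm)
  · open FusionAbelianIndexP89 in
    show ((Zc S).subgroupOf (Ztwo S)).index = p
    open FusionAbelianIndexP89 in
    have h1 := Subgroup.card_mul_index ((Zc S).subgroupOf (Ztwo S))
    open FusionAbelianIndexP89 in
    rw [Nat.card_congr (Subgroup.subgroupOfEquivOfLe Zc_le_Ztwo).toEquiv, ← hWe, hW, mul_comm p]
      at h1
    rw [← hWe]
    exact Nat.eq_of_mul_eq_mul_left Nat.card_pos h1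
  · intro m hm hm3 hle
    open FusionAbelianIndexP89 in
    have hm' : Nat.card S = p ^ m * Nat.card (Zc S) := by
      have h1 := Subgroup.card_mul_index ((Zc S).subgroupOf S)
      rw [Nat.card_congr (Subgroup.subgroupOfEquivOfLe (show Zc S ≤ S from inf_le_left)).toEquiv,
        show ((Zc S).subgroupOf S).index = p ^ m from hm] at h1
      rw [← h1, mul_comm]
    exact h.not_series_le hx hxA hW hm' hm3 ((h.series_le_lcs hx (m - 2)).trans hle)

end Cfsg.Agent.S5257
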