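import Cfsg.Statements.S5259
import Cfsg.Agent.Lib.FusionHeisenberg9
import Cfsg.Agent.Lib.PSLCard

set_option autoImplicit false
open Cfsg Matrix

namespace Cfsg.Agent.S5259

variable {K : Type*} [Field K]

/-- The unitriangular matrices. -/
def mat (a b c : K) : SpecialLinearGroup (Fin 3) K :=
  ⟨!![1, a, c; 0, 1, b; 0, 0, 1], by simp [Matrix.det_fin_three]⟩

theorem mat_mul (a b c a' b' c' : K) :
    mat a b c * mat a' b' c' = mat (a + a') (b + b') (c + c' + a * b') := by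
  apply Subtype.ext
  show (mat a b c).1 * (mat a' b' c').1 = _
  ext i j
  fin_cases i <;> fin_cases j <;> simp [mat, Matrix.mul_apply, Fin.sum_univ_three] <;> ring

theorem mat_one : mat (0 : K) 0 0 = 1 := by
  apply Subtype.ext
  ext i j
  fin_cases i <;> fin_cases j <;> simp [mat]

theorem mat_inj {a b c a' b' c' : K} (h : mat a b c = mat a' b' c') :
    a = a' ∧ b = b' ∧ c = c' := by
  refine ⟨?_, ?_, ?_⟩
  · simpa [mat] using congrFun (congrFun (congrArg Subtype.val h) 0) 1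
  · simpa [mat] using congrFun (congrFun (congrArg Subtype.val h) 1) 2
  · simpa [mat] using congrFun (congrFun (congrArg Subtype.val h) 0) 2

variable (K) in
/-- The unitriangular group. -/
def uni : Subgroup (SpecialLinearGroup (Fin 3) K) where
  carrier := Set.range fun v : K × K × K => mat v.1 v.2.1 v.2.2
  one_mem' := ⟨(0, 0, 0), mat_one⟩
  mul_mem' := by
    rintro _ _ ⟨v, rfl⟩ ⟨w, rfl⟩
    exact ⟨(_, _, _), (mat_mul _ _ _ _ _ _).symm⟩
  inv_mem' := by
    rintro _ ⟨v, rfl⟩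
    refine ⟨(-v.1, -v.2.1, v.1 * v.2.1 - v.2.2), eq_inv_of_mul_eq_one_left ?_⟩
    rw [mat_mul, ← mat_one]
    congr 1 <;> ring

theorem card_uni [Finite K] : Nat.card (uni K) = Nat.card K ^ 3 := by
  refine (Nat.card_congr (Equiv.ofInjective (fun v : K × K × K => mat v.1 v.2.1 v.2.2)
    fun v w h => by obtain ⟨h1, h2, h3⟩ := mat_inj h; exact Prod.ext h1 (Prod.ext h2 h3))).symm.trans ?_
  rw [Nat.card_prod, Nat.card_prod]
  ring

theorem exists_sylow_uni [Finite K] (p : ℕ) [Fact p.Prime] [CharP K p] :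
    ∃ T : Sylow p (SpecialLinearGroup (Fin 3) K), (T : Subgroup _) = uni K := by
  haveI := Fintype.ofFinite K
  obtain ⟨n, -, hn⟩ := FiniteField.card K p
  set m := (n : ℕ) with hm
  have hq : Nat.card K = p ^ m := by rw [Nat.card_eq_fintype_card, hn]
  have hp : IsPGroup p (uni K) := IsPGroup.of_card (n := m * 3) (by rw [card_uni, hq, ← pow_mul])
  refine ⟨hp.toSylow ?_, rfl⟩
  intro hdvd
  have hq1 : 1 < Nat.card K := Finite.one_lt_card
  have h2 := PSLCard.card_SL (F := K) 3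
  rw [← (uni K).index_mul_card, card_uni] at h2
  simp only [Fin.prod_univ_three, Fin.val_zero, Fin.val_one, Fin.val_two, pow_zero, pow_one] at h2
  set q := Nat.card K with hqdef
  have hlt : 1 ≤ q ^ 3 := Nat.one_le_pow _ _ (by omega)
  have hlt' : 1 ≤ q ^ 2 := Nat.one_le_pow _ _ (by omega)
  have e1 : q ^ 3 - q = q * (q ^ 2 - 1) := by rw [Nat.mul_sub, mul_one]; ring_nf
  have e2 : q ^ 3 - q ^ 2 = q ^ 2 * (q - 1) := by rw [Nat.mul_sub, mul_one]; ring_nf
  rw [e1, e2] at h2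
  have h3 : (uni K).index = (q ^ 3 - 1) * (q ^ 2 - 1) := by
    refine Nat.eq_of_mul_eq_mul_right (show 0 < (q - 1) * q ^ 3 from
      Nat.mul_pos (by omega) (by positivity)) ?_
    calc _ = (q - 1) * ((uni K).index * q ^ 3) := by ring
      _ = _ := h2
      _ = _ := by ring
  rw [h3] at hdvd
  have hpq : p ∣ q := hq ▸ dvd_pow_self p (by simpa [hm] using n.ne_zero)
  have key : ∀ k, k ≠ 0 → ¬ p ∣ q ^ k - 1 := fun k hk h => by
    have h1 := Nat.dvd_sub (hpq.trans (dvd_pow_self q hk)) h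
    rw [Nat.sub_sub_self (Nat.one_le_pow _ _ (by omega))] at h1
    exact (Fact.out (p := p.Prime)).not_dvd_one h1
  rcases (Fact.out (p := p.Prime)).dvd_mul.mp hdvd with h | h
  exacts [key 3 (by norm_num) h, key 2 (by norm_num) h]

open FusionHeisenberg9 Cfsg.Agent.FusionSysBasic in
theorem heis {Ω : Type*} [Group Ω] {S : Subgroup Ω} [Finite K]
    (e : ↥S ≃* ↥(uni K)) : Heis S := by
  have hrep : ∀ x ∈ S, ∃ a b c : K, ∀ hx, (e ⟨x, hx⟩ : SpecialLinearGroup (Fin 3) K) = mat a b c := by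
    intro x hx
    obtain ⟨⟨a, b, c⟩, h⟩ := (e ⟨x, hx⟩).2
    exact ⟨a, b, c, fun _ => h.symm⟩
  let co : K × K × K → Ω := fun v => (e.symm ⟨mat v.1 v.2.1 v.2.2, v, rfl⟩ : S)
  have hco : ∀ x ∈ S, ∃ v, co v = x := by
    intro x hx
    obtain ⟨a, b, c, h⟩ := hrep x hx
    refine ⟨(a, b, c), ?_⟩
    have : (⟨mat a b c, (a, b, c), rfl⟩ : uni K) = e ⟨x, hx⟩ := Subtype.ext (h hx).symm
    show (e.symm _ : S).1 = x
    rw [this, MulEquiv.symm_apply_apply]
  have hmem : ∀ v, co v ∈ S := fun v => (e.symm _).2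
  have hmul : ∀ v w, co v * co w =
      co (v.1 + w.1, v.2.1 + w.2.1, v.2.2 + w.2.2 + v.1 * w.2.1) := fun v w => by
    show ((e.symm _ * e.symm _ : S) : Ω) = _
    rw [← map_mul]
    exact congrArg (fun u : uni K => ((e.symm u : S) : Ω)) (Subtype.ext (mat_mul _ _ _ _ _ _))
  have hinj : Function.Injective co := fun v w h => by
    obtain ⟨h1, h2, h3⟩ :=
      mat_inj (congrArg Subtype.val (e.symm.injective (Subtype.ext h)))
    exact Prod.ext h1 (Prod.ext h2 h3)
  have hcomm : ∀ v w, co v * co w = co w * co v ↔ v.1 * w.2.1 = w.1 * v.2.1 := fun v w => by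
    rw [hmul, hmul, hinj.eq_iff]
    simp only [Prod.mk.injEq]
    refine ⟨fun ⟨_, _, h⟩ => ?_, fun h => ⟨add_comm _ _, add_comm _ _, ?_⟩⟩
    · linear_combination h
    · linear_combination h
  have hZ : ∀ v, co v ∈ zS S ↔ v.1 = 0 ∧ v.2.1 = 0 := by
    intro v
    constructor
    · intro h
      have h1 := (hcomm v (1, 0, 0)).mp (commute_zS h (hmem _))
      have h2 := (hcomm v (0, 1, 0)).mp (commute_zS h (hmem _))
      simp at h1 h2
      exact ⟨h2, h1.symm⟩
    · rintro ⟨h1, h2⟩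
      refine mem_zS.mpr ⟨hmem v, fun x hx => ?_⟩
      obtain ⟨w, rfl⟩ := hco x hx
      exact mul_inv_eq_iff_eq_mul.mpr ((hcomm v w).mpr (by rw [h1, h2]; ring))
  have hZc : Nat.card (zS S) = Nat.card K := by
    refine (Nat.card_congr (Equiv.ofBijective
      (fun c => (⟨co (0, 0, c), (hZ _).mpr ⟨rfl, rfl⟩⟩ : zS S)) ⟨?_, ?_⟩)).symm
    · intro c d h
      exact congrArg (fun v : K × K × K => v.2.2) (@hinj (0, 0, c) (0, 0, d) (congrArg (fun u : zS S => (u : Ω)) h))
    · rintro ⟨z, hz⟩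
      obtain ⟨⟨a, b, c⟩, rfl⟩ := hco z (zS_le hz)
      obtain ⟨h1, h2⟩ := (hZ _).mp hz
      simp only at h1 h2
      subst h1 h2
      exact ⟨c, rfl⟩
  have hcom : ∀ v w, co v * co w * (co v)⁻¹ * (co w)⁻¹ =
      co (0, 0, v.1 * w.2.1 - w.1 * v.2.1) := fun v w => by
    rw [mul_inv_eq_iff_eq_mul, mul_inv_eq_iff_eq_mul]
    simp only [hmul]
    congr 1
    simp only [Prod.mk.injEq]
    exact ⟨by ring, by ring, by ring⟩
  refine ⟨by rw [hZc]; exact Finite.one_lt_card, fun x hx y hy => ?_, ?_, fun x hx hxZ => ?_,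
    fun x hx hxZ y hy w hw => ?_⟩
  · obtain ⟨v, rfl⟩ := hco x hx
    obtain ⟨w, rfl⟩ := hco y hy
    rw [hcom]
    exact (hZ _).mpr ⟨rfl, rfl⟩
  · rw [hZc, Nat.card_congr e.toEquiv, card_uni]
  · obtain ⟨⟨a, b, c⟩, rfl⟩ := hco x hx
    have hab : a ≠ 0 ∨ b ≠ 0 := by
      by_contra h
      push Not at h
      exact hxZ ((hZ _).mpr h)
    rw [hZc]
    refine (Nat.card_congr (Equiv.ofBijective (fun v : K × K =>
      (⟨co (a * v.1, b * v.1, v.2), mem_cS.mpr ⟨hmem _, (hcomm _ _).mpr (by ring)⟩⟩ :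
        cS S (co (a, b, c)))) ⟨?_, ?_⟩)).symm.trans (by rw [Nat.card_prod, sq])
    · intro v w h
      have h' := @hinj (a * v.1, b * v.1, v.2) (a * w.1, b * w.1, w.2) (congrArg (fun u : cS S (co (a, b, c)) => (u : Ω)) h)
      simp only [Prod.mk.injEq] at h'
      refine Prod.ext ?_ h'.2.2
      rcases hab with h0 | h0
      · exact mul_left_cancel₀ h0 h'.1
      · exact mul_left_cancel₀ h0 h'.2.1
    · rintro ⟨y, hy⟩
      obtain ⟨hyS, hyc⟩ := mem_cS.mp hy
      obtain ⟨⟨a', b', c'⟩, rfl⟩ := hco y hyS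
      have h1 := (hcomm _ _).mp hyc
      simp only at h1
      rcases hab with h0 | h0
      · refine ⟨(a' / a, c'), Subtype.ext (congrArg co (Prod.ext ?_ (Prod.ext ?_ rfl)))⟩
        · show a * (a' / a) = a'
          field_simp
        · show b * (a' / a) = b'
          field_simp
          linear_combination h1
      · refine ⟨(b' / b, c'), Subtype.ext (congrArg co (Prod.ext ?_ (Prod.ext ?_ rfl)))⟩
        · show a * (b' / b) = a'
          field_simp
          linear_combination -h1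
        · show b * (b' / b) = b'
          field_simp
  · obtain ⟨⟨a, b, c⟩, rfl⟩ := hco x hx
    obtain ⟨⟨a₁, b₁, c₁⟩, rfl⟩ := hco y (mem_cS.mp hy).1
    obtain ⟨⟨a₂, b₂, c₂⟩, rfl⟩ := hco w (mem_cS.mp hw).1
    have h1 := (hcomm _ _).mp (mem_cS.mp hy).2
    have h2 := (hcomm _ _).mp (mem_cS.mp hw).2
    simp only at h1 h2
    refine (hcomm _ _).mpr ?_
    show a₁ * b₂ = a₂ * b₁
    by_cases ha : a = 0
    · subst ha
      have hb : b ≠ 0 := fun hb => hxZ ((hZ _).mpr ⟨rfl, hb⟩)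
      simp [hb] at h1 h2
      simp [h1, h2]
    · refine mul_left_cancel₀ ha ?_
      linear_combination a₂ * h1 - a₁ * h2

/-- Let p be a prime, K a finite field of characteristic p, and S a finite p-group isomorphic to a Sylow p-subgroup of SL₃(K). Then every exotic fusion system F over S (saturated but not the fusion system of a finite group on a Sylow p-subgroup) has no nontrivial normal subgroup: O_p(F) = 1. -/
theorem result {Ω : Type*} [Group Ω] {S : Subgroup Ω} [Finite S] (p : ℕ) [Fact p.Prime] (hS : IsPGroup p S) (F : Cfsg.FusionSystem S) (hF : F.IsSaturated p) {K : Type*} [Field K] [Fintype K] [CharP K p] (T : Sylow p (Matrix.SpecialLinearGroup (Fin 3) K)) (e : ↥S ≃* ↥(T : Subgroup (Matrix.SpecialLinearGroup (Fin 3) K))) (hex : F.IsExotic p) : F.core = ⊥ := by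
  obtain ⟨T', hT'⟩ := exists_sylow_uni (K := K) p
  have e' : ↥S ≃* ↥(uni K) := e.trans ((T.equiv T').trans (MulEquiv.subgroupCongr hT'))
  by_contra hne
  exact hex.2 (FusionHeisenberg9.realizable_of_core (heis e') hS hF hne)

end Cfsg.Agent.S5259
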