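import Cfsg.Statements.S5264
import Cfsg.Agent.Lib.PFivePearl1
import Cfsg.Agent.Lib.PFiveCube2
import Cfsg.Agent.Lib.PFiveFocal1

set_option autoImplicit false
open Cfsg

namespace Cfsg.Agent.S5264

open Cfsg.FusionSystem Cfsg.Agent.FusionSysBasic Cfsg.Agent.FusionSysNormal
  Cfsg.Agent.FusionSysAlperin

/-- Let p be an odd prime other than 7, S a finite p-group of order p^5, and F a saturated fusion system over S with no nontrivial normal subgroup and with hyperfocal subgroup equal to S (so F is its own p-residual subsystem). Then S has an abelian subgroup of index p. -/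
theorem result {Ω : Type*} [Group Ω] {S : Subgroup Ω} [Finite S] (p : ℕ) [Fact p.Prime] (hS : IsPGroup p ↥S) (F : Cfsg.FusionSystem S) (hF : F.IsSaturated p) (hp : p ≠ 2) (hp7 : p ≠ 7) (hcard : Nat.card S = p ^ 5) (hcore : F.core = ⊥) (hhyp : F.hyperfocalSubgroup p = S) : ∃ A : Subgroup Ω, A ≤ S ∧ IsMulCommutative ↥A ∧ (A.subgroupOf S).index = p := by
  classical
  by_contra hne
  push Not at hne
  have hp := (Fact.out : p.Prime)
  have hp3 : 3 ≤ p := by have := hp.two_le; omega
  have hnab : ∀ A : Subgroup Ω, A ≤ S → Nat.card A = p ^ 4 → ¬ IsMulCommutative A := by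
    intro A hA hc hab
    refine hne A hA hab ?_
    have h := Subgroup.card_mul_index (A.subgroupOf S)
    rw [Nat.card_congr (Subgroup.subgroupOfEquivOfLe hA).toEquiv, hc, hcard, pow_succ p 4] at h
    exact Nat.eq_of_mul_eq_mul_left (pow_pos hp.pos 4) h
  have hnabX : ∀ A : Subgroup S, A.index = p → ¬ IsMulCommutative A := by
    intro A hA hc
    have hAc : Nat.card A = p ^ 4 := by
      have h := Subgroup.card_mul_index A
      rw [hA, hcard, pow_succ p 4] at h
      exact Nat.eq_of_mul_eq_mul_right hp.pos h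
    exact hnab (A.map S.subtype) (Subgroup.map_subtype_le A)
      (by rw [Subgroup.card_map_of_injective S.subtype_injective, hAc])
      (A.map_isMulCommutative S.subtype)
  obtain ⟨k, hk1, -, hk⟩ := PFiveBasic1.card_center_range (X := S) hS (n := 5) (by norm_num) hcard
    fun A hA => hnabX A (by
      have h := Subgroup.card_mul_index A
      rw [hA, hcard, show p ^ 5 = p ^ (5 - 1) * p from pow_succ p 4] at h
      exact Nat.eq_of_mul_eq_mul_left (pow_pos hp.pos _) h)
  haveI := FusionSysSaturated.finite_centralizerIn (S := S) S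
  have hZc : Nat.card (centralizerIn S S) = p ^ k := by rw [PFiveBasic1.card_Zs, hk]
  have hsplit : (∀ E, F.IsEssential p E →
      ∀ α ∈ F.autGroup E, ∀ x ∈ centralizerIn S S, afun α x ∈ centralizerIn S S) ∨
      ∃ w : S, w ∉ frattini S ∧ (∀ β : MulAut S, w⁻¹ * β w ∈ frattini S) ∧
        (Nat.card (frattini S) ≤ p ^ 2 ∨
          ∀ P : Subgroup S, P.index = p → p ^ 2 ≤ Nat.card (frattini P)) := by
    by_contra hcon
    rw [not_or] at hcon
    refine hcon.1 fun E hE => ?_
    have hES := hE.1.1
    haveI := finite_of_le hES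
    obtain ⟨n, hn⟩ := IsPGroup.iff_card.1 (hS.to_le hES)
    have hlt := essential_lt hS hF hE
    have hn4 : n ≤ 4 := by
      by_contra h
      refine hlt.ne (eq_of_le_of_card_ge le_rfl hES ?_)
      rw [hn, hcard]
      exact Nat.pow_le_pow_right hp.pos (by omega)
    have hn2 : 2 ≤ n := by
      by_contra h
      have hle := PFiveBasic1.Zs_le hE.1
      have e : centralizerIn S S = E := eq_of_le_of_card_ge hES hle (by
        rw [hn, hZc]
        exact Nat.pow_le_pow_right hp.pos (by omega))
      refine hlt.not_ge fun x hx => centralizerIn_le_of_centric hE.1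
        (mem_centralizerIn.2 ⟨hx, fun y hy => ?_⟩)
      rw [← e] at hy
      have h1 := (mem_centralizerIn.1 hy).2 x hx
      rw [cj_apply, mul_inv_eq_iff_eq_mul] at h1
      rw [cj_apply, mul_inv_eq_iff_eq_mul]
      exact h1.symm
    obtain rfl | rfl | rfl : n = 2 ∨ n = 3 ∨ n = 4 := by omega
    · rcases PFivePearl1.pearl_center hS hF hp3 hp7 hcard hE hn hnab with h | ⟨h3, hc⟩
      · exact h
      obtain ⟨a, ha, ha'⟩ := PFiveMaxClass59.exists_Ct_notMem hcard hc
      refine absurd ⟨a, ?_, fun β => ?_,
        Or.inr (PFiveMaxClass59.card_frattini_maximal hcard hc hnabX h3)⟩ hcon.2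
      · rw [PFiveMaxClass59.frattini_eq hcard hc]
        exact ha'
      · have h := PFiveMaxClass59.gamma_fix hcard hc hnabX h3 β a ha
        rw [← PFiveMaxClass59.frattini_eq hcard hc] at h
        exact Subgroup.Normal.mem_comm inferInstance h
    · by_cases hab : IsMulCommutative E
      · rcases PFiveCube2.cube_center hS hF hp3 hcard hE hn hab hnab with h | ⟨-, hf, w, hw, hfix⟩
        · exact h
        exact absurd ⟨w, hw, hfix, Or.inl hf⟩ hcon.2
      · exact fun α _ => PFiveBasic1.three_nonabelian hS hF hE hn hab hk1 hk α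
    · exact fun α _ => PFiveBasic1.four hS hF hcard hE hn (hnab E hES hn) hk1 hk α
  rcases hsplit with h | ⟨w, hw, hfix, hΦ⟩
  · have hnorm : F.IsNormal (centralizerIn S S) := by
      refine isNormal_of_le_autGroup hS hF fun P hP => ?_
      rcases hP with rfl | hP
      · refine ⟨fun x hx => (mem_centralizerIn.1 hx).1, fun α _ x hx => ?_⟩
        obtain ⟨hxS, hc⟩ := PFiveBasic1.mem_Zs.1 hx
        refine PFiveBasic1.mem_Zs.2 ⟨afun_mem α hxS, ?_⟩
        have h2 := Subgroup.characteristic_iff_le_comap.1
          (inferInstance : (Subgroup.center _).Characteristic) α hc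
        convert Subgroup.mem_comap.1 h2 using 1
        exact Subtype.ext (afun_apply α hxS)
      · exact ⟨PFiveBasic1.Zs_le hP.1, h P hP⟩
    have hle := le_core hnorm
    rw [hcore, le_bot_iff] at hle
    rw [hle, Subgroup.card_bot] at hZc
    exact absurd hZc.symm (Nat.one_lt_pow (by omega) hp.one_lt).ne'
  · exact PFiveFocal1.hyperfocal_ne hS hF hp3 hcard hnab hΦ hw hfix hhyp

end Cfsg.Agent.S5264
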