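import Cfsg.Statements.S5265
import Cfsg.Agent.Lib.FusionCentreSq
import Cfsg.Agent.Lib.TwoInvolutions
import Cfsg.Agent.Lib.PGroupsBasic

set_option autoImplicit false
open Cfsg

namespace Cfsg.Agent.S5265

open scoped commutatorElement
open Cfsg.FusionSystem Cfsg.Agent.FusionSysBasic Cfsg.Agent.FusionSysSaturated
  Cfsg.Agent.FusionSysAlperin Cfsg.Agent.FusionSysNormal Cfsg.Agent.FusionCentreSq

variable {Ω : Type*} [Group Ω] {S : Subgroup Ω} [Finite S] {p : ℕ} [hp : Fact p.Prime]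
  {F : Cfsg.FusionSystem S} (hS : IsPGroup p ↥S) (hF : F.IsSaturated p)

omit hp in
theorem aut_zc {ψ : MulAut ↥S} {x : Ω} (hx : x ∈ zc S) : afun ψ x ∈ zc S := by
  obtain ⟨hxS, hc⟩ := mem_zc.mp hx
  refine mem_zc.mpr ⟨afun_mem ψ hxS, fun s hs => ?_⟩
  have hs' := afun_mem ψ⁻¹ hs
  rw [← afun_apply_inv ψ hs, ← afun_map_mul ψ hs' hxS, ← afun_map_mul ψ hxS hs', hc _ hs']

omit hp [Finite S] in
theorem afun_mem_im {P Q : Subgroup Ω} (α : MulAut P) (hQ : Q ≤ P) {z : Ω} (hz : z ∈ Q) :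
    afun α z ∈ P := afun_mem α (hQ hz)

omit hp [Finite S] in
theorem inv_mem' {A : Subgroup Ω} {x : Ω} (h : x⁻¹ ∈ A) : x ∈ A := by
  simpa using A.inv_mem h

omit hp [Finite S] in
theorem afun_map_inv (ψ : MulAut ↥S) {x : Ω} (hx : x ∈ S) : afun ψ x⁻¹ = (afun ψ x)⁻¹ := by
  rw [afun_apply ψ (S.inv_mem hx), afun_apply ψ hx, ← Subgroup.coe_inv, ← map_inv]
  rfl

omit [Finite S] hp in
theorem mul_mem_of_two {A B : Subgroup Ω} (hAB : A ≤ B) [Finite A]
    (hn : ∀ g ∈ B, ∀ x ∈ A, cj g x ∈ A) (hc : Nat.card B = 2 * Nat.card A)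
    {a b : Ω} (ha : a ∈ B) (hb : b ∈ B) (ha' : a ∉ A) (hb' : b ∉ A) : a * b ∈ A := by
  haveI : (A.subgroupOf B).Normal := ⟨fun n hn' g => hn g g.2 n hn'⟩
  have hi : (A.subgroupOf B).index = 2 := by
    have h2 := Subgroup.card_mul_index (A.subgroupOf B)
    rw [Nat.card_congr (Subgroup.subgroupOfEquivOfLe hAB).toEquiv, hc, mul_comm 2] at h2
    exact Nat.eq_of_mul_eq_mul_left Nat.card_pos h2
  exact (Subgroup.mul_mem_iff_of_index_two hi (a := (⟨a, ha⟩ : B)) (b := ⟨b, hb⟩)).mpr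
    (iff_of_false ha' hb')

omit hp in
theorem mul_out {E : Subgroup Ω} (h : Shape 2 S E) {a b : Ω} (ha : a ∈ S) (hb : b ∈ S)
    (ha' : a ∉ E) (hb' : b ∉ E) : a * b ∈ E :=
  haveI := finite_of_le h.le
  mul_mem_of_two h.le h.normal h.cardS ha hb ha' hb'

omit hp in
theorem two_class {E : Subgroup Ω} (h : Shape 2 S E) {a x : Ω} (hx : x ∈ E) (hxz : x ∉ zc S)
    (ha : a ∈ E) : a ∈ zc S ∨ a * x⁻¹ ∈ zc S := by
  haveI := finite_of_le (zc_le (S := S))
  refine Classical.byCases Or.inl fun haz => Or.inr ?_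
  refine mul_mem_of_two h.zle (fun g hg z hz => ?_) h.cardE ha (inv_mem hx) haz
    fun hh => hxz (inv_mem' hh)
  rw [cj_zc (h.le hg) hz]
  exact hz

include hS hF in
/-- Some power prime to `p` of an automorphism of `S` is inner. -/
theorem pow_inner {ψ : MulAut ↥S} (hψ : ψ ∈ F.autGroup S) :
    ∃ N : ℕ, ¬ p ∣ N ∧ ψ ^ N ∈ Inn S := by
  haveI := finite_autGroup (F := F) S
  obtain ⟨-, T, hT⟩ := fullyAutomized_of_saturated_self hF
  rw [autInducedBy_self] at hT
  haveI : (T : Subgroup (F.autGroup S)).Normal := by rw [hT]; exact inn_normal F S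
  refine ⟨(T : Subgroup (F.autGroup S)).index, T.not_dvd_index, ?_⟩
  have h := Subgroup.pow_index_mem (T : Subgroup (F.autGroup S)) ⟨ψ, hψ⟩
  conv at h => arg 1; rw [hT]
  exact h

omit hp [Finite S] in
theorem inn_apply {φ : MulAut ↥S} (hφ : φ ∈ Inn S) :
    ∃ g ∈ S, ∀ x ∈ S, afun φ x = cj g x := by
  rw [← autInducedBy_self, mem_autInducedBy] at hφ
  obtain ⟨g, hg, -, he⟩ := hφ
  exact ⟨g, hg, he⟩

include hS hF in
/-- An automorphism of `S` stabilizing `1 ≤ ⟨c⟩ ≤ Q` pointwise is trivial on the central part. -/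
theorem fix_of_stab {c : Ω} (hc : c ^ p = 1) {ψ : MulAut ↥S} (hψ : ψ ∈ F.autGroup S) {z : Ω}
    (hz : z ∈ zc S) (hcS : c ∈ S) (hfc : afun ψ c = c) (hm : z⁻¹ * afun ψ z ∈ Subgroup.zpowers c) :
    afun ψ z = z := by
  obtain ⟨i, hi⟩ := Subgroup.mem_zpowers_iff.mp hm
  have e : afun ψ z = z * c ^ i := by rw [hi, mul_inv_cancel_left]
  have hfix : ∀ n : ℕ, afun (ψ ^ n) c = c := by
    intro n
    induction n with
    | zero => rw [pow_zero, afun_one hcS]
    | succ n ih => rw [pow_succ', afun_mul _ _ hcS, ih, hfc]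
  have key : ∀ n : ℕ, afun (ψ ^ n) z = z * (c ^ i) ^ n := by
    intro n
    induction n with
    | zero => rw [pow_zero, afun_one (zc_le hz), pow_zero, mul_one]
    | succ n ih =>
      rw [pow_succ', afun_mul _ _ (zc_le hz), ih, afun_map_mul ψ (zc_le hz)
        (S.pow_mem (S.zpow_mem hcS i) n), e, pow_succ', mul_assoc]
      congr 2
      have h1 : ∀ x ∈ Subgroup.zpowers c, afun ψ x = x := by
        rintro x ⟨j, rfl⟩
        have : afun ψ (c ^ j) = afun ψ c ^ j := by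
          rw [afun_apply ψ hcS, afun_apply ψ (S.zpow_mem hcS j), ← Subgroup.coe_zpow, ← map_zpow]
          rfl
        rw [this, hfc]
      exact h1 _ (pow_mem (zpow_mem (Subgroup.mem_zpowers c) i) n)
  obtain ⟨N, hN, hNi⟩ := pow_inner hS hF hψ
  obtain ⟨g, hg, hge⟩ := inn_apply hNi
  have h1 : (c ^ i) ^ N = 1 := by
    have := key N
    rw [hge z (zc_le hz), cj_zc hg hz] at this
    exact left_eq_mul.mp this
  have h2 : (c ^ i) ^ p = 1 := by
    rw [← zpow_natCast, ← zpow_mul, mul_comm, zpow_mul, zpow_natCast, hc, one_zpow]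
  have h3 : c ^ i = 1 := by
    have hd := Nat.dvd_gcd (orderOf_dvd_of_pow_eq_one h1) (orderOf_dvd_of_pow_eq_one h2)
    rw [((hp.out.coprime_iff_not_dvd.mpr hN).symm : N.gcd p = 1), Nat.dvd_one] at hd
    exact orderOf_eq_one_iff.mp hd
  rw [e, h3, mul_one]

variable (hZ : (Subgroup.center ↥S).index ≤ p ^ 2) (hcore : F.core = ⊥)

include hS hF hcore in
theorem exists_essential (hS1 : S ≠ ⊥) : ∃ E, F.IsEssential p E := by
  by_contra hh
  push Not at hh
  refine hS1 ?_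
  rw [← le_bot_iff, ← hcore]
  refine le_core (isNormal_of_le_autGroup hS hF fun P hP => ?_)
  rcases hP with rfl | hP
  · exact ⟨le_rfl, fun α _ x hx => afun_mem α hx⟩
  · exact absurd hP (hh P)

variable {c : Ω} (hc : Com p S c)

omit [Finite S] hp in
theorem zpow_mem' (hc : Com p S c) {y : Ω} (hy : y ∈ Subgroup.zpowers c) : y ∈ zc S :=
  Subgroup.zpowers_le.mpr hc.mem hy

include hc in
theorem aut_c {E : Subgroup Ω} (h : Shape p S E) (hS : IsPGroup p ↥S) (ψ : MulAut ↥S) :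
    afun ψ c ∈ Subgroup.zpowers c := by
  obtain ⟨u, huS, huE⟩ := h.exists_out
  obtain ⟨a, haE, haZ⟩ := h.exists_in
  have hne : a⁻¹ * cj u a ≠ 1 := fun e =>
    haZ (h.central_of hS huS huE haE (inv_mul_eq_one.mp e).symm)
  have hm := hc.com u huS a (h.le haE)
  have hcard : Nat.card (Subgroup.zpowers c) = p := by
    rw [Nat.card_zpowers, orderOf_eq_prime hc.pow_eq hc.ne]
  obtain ⟨j, hj⟩ := Subgroup.mem_zpowers_iff.mp (mem_zpowers_of_prime_card hcard
    (g := ⟨_, hm⟩) (g' := ⟨c, Subgroup.mem_zpowers c⟩) (by simpa [Subtype.ext_iff] using hne))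
  have hj' : (a⁻¹ * cj u a) ^ j = c := congrArg Subtype.val hj
  have hψu := afun_mem ψ huS
  have hψa := afun_mem ψ (h.le haE)
  have e : afun ψ c = ((afun ψ a)⁻¹ * cj (afun ψ u) (afun ψ a)) ^ j := by
    have hmem : a⁻¹ * cj u a ∈ S := S.mul_mem (S.inv_mem (h.le haE)) (cj_mem_S huS (h.le haE))
    rw [← hj', afun_apply ψ (S.zpow_mem hmem j), afun_apply ψ (h.le haE), afun_apply ψ huS]
    have e1 : (⟨(a⁻¹ * cj u a) ^ j, S.zpow_mem hmem j⟩ : S) =
        ((⟨a, h.le haE⟩ : S)⁻¹ * (⟨u, huS⟩ * ⟨a, h.le haE⟩ * (⟨u, huS⟩ : S)⁻¹)) ^ j :=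
      Subtype.ext (by rw [Subgroup.coe_zpow]; rfl)
    rw [e1, map_zpow, map_mul, map_inv, map_mul, map_mul, map_inv, Subgroup.coe_zpow]
    rfl
  rw [e]
  exact zpow_mem (hc.com _ hψu _ hψa) j

include hS hF hZ hc hcore in
/-- The centre is elementary abelian. -/
theorem zc_pow (z : Ω) (hz : z ∈ zc S) : z ^ p = 1 := by
  let Q : Subgroup Ω :=
    { carrier := {y | ∃ v ∈ zc S, v ^ p = y}
      one_mem' := ⟨1, one_mem _, one_pow p⟩
      mul_mem' := by
        rintro _ _ ⟨v, hv, rfl⟩ ⟨v', hv', rfl⟩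
        exact ⟨v * v', mul_mem hv hv',
          (show Commute v v' from (mem_zc.mp hv').2 v (zc_le hv)).mul_pow p⟩
      inv_mem' := by
        rintro _ ⟨v, hv, rfl⟩
        exact ⟨v⁻¹, inv_mem hv, inv_pow v p⟩ }
  have hpow : ∀ {P : Subgroup Ω} (α : MulAut P) {v : Ω}, v ∈ P → afun α (v ^ p) = afun α v ^ p := by
    intro P α v hv
    rw [afun_apply α hv, afun_apply α (P.pow_mem hv p)]
    exact congrArg Subtype.val (map_pow α ⟨v, hv⟩ p)
  have hQ : F.IsNormal Q := by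
    refine isNormal_of_le_autGroup hS hF fun P hP => ?_
    rcases hP with rfl | hP
    · refine ⟨fun y ⟨v, hv, e⟩ => e ▸ pow_mem (zc_le hv) p, ?_⟩
      rintro α - y ⟨v, hv, rfl⟩
      exact ⟨afun α v, aut_zc hv, (hpow α (zc_le hv)).symm⟩
    · obtain ⟨W, d, D⟩ := exists_essData hS hZ hF hc hP
      refine ⟨fun y ⟨v, hv, e⟩ => e ▸ pow_mem (D.shape.zle hv) p, ?_⟩
      rintro α - y ⟨v, hv, rfl⟩
      obtain ⟨v', hv', e⟩ := D.pow_eq _ (afun_mem α (D.shape.zle hv))
      exact ⟨v', hv', by rw [hpow α (D.shape.zle hv), e]⟩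
  have := le_core hQ (show z ^ p ∈ Q from ⟨z, hz, rfl⟩)
  rwa [hcore, Subgroup.mem_bot] at this

include hS hF hZ hc hcore in
theorem ess_elementary {E W : Subgroup Ω} {d : Ω} (D : EssData F p c E W d) {x : Ω} (hx : x ∈ E) :
    x ^ p = 1 := by
  obtain ⟨v, hv, e⟩ := D.pow_eq x hx
  rw [e, zc_pow hS hF hZ hcore hc v hv]

include hS hF hZ hc hcore in
theorem zc_eq_odd (hS1 : S ≠ ⊥) (hp2 : p ≠ 2) : zc S = Subgroup.zpowers c := by
  obtain ⟨E₀, hE₀⟩ := exists_essential hS hF hcore hS1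
  obtain ⟨W, d, D⟩ := exists_essData hS hZ hF hc hE₀
  obtain ⟨θ, hθ, hθc, hθW⟩ := D.theta
  have hcS := zc_le hc.mem
  have hθz : ∀ (θ : MulAut ↥S) (W : Subgroup Ω), W ≤ zc S → afun θ c = c⁻¹ →
      (∀ x ∈ W, afun θ x = x) → ∀ z ∈ zc S, (∃ i : ℤ, ∃ v ∈ W, z = c ^ i * v) →
      z⁻¹ * afun θ z ∈ Subgroup.zpowers c := by
    rintro θ W hW hc' hfix z - ⟨i, v, hv, rfl⟩
    have hv' := zc_le (hW hv)
    have e : afun θ (c ^ i * v) = (c⁻¹) ^ i * v := by
      rw [afun_map_mul θ (zpow_mem hcS i) hv', hfix v hv, afun_apply θ (zpow_mem hcS i), ← hc',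
        afun_apply θ hcS, ← Subgroup.coe_zpow, ← map_zpow]
      rfl
    rw [e]
    refine ⟨-i - i, ?_⟩
    have hcomm := (mem_zc.mp (hW hv)).2 _ (zpow_mem hcS (-i - i))
    simp only
    rw [eq_inv_mul_iff_mul_eq, mul_assoc, ← hcomm, ← mul_assoc, ← zpow_add, inv_zpow']
    congr 2
    ring
  -- two reflections agree on the centre
  have agree : ∀ a ∈ F.autGroup S, ∀ b ∈ F.autGroup S, afun a c = c⁻¹ → afun b c = c⁻¹ →
      (∀ z ∈ zc S, z⁻¹ * afun a z ∈ Subgroup.zpowers c) →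
      (∀ z ∈ zc S, z⁻¹ * afun b z ∈ Subgroup.zpowers c) → ∀ z ∈ zc S, afun (a * b) z = z := by
    intro a ha b hb hac hbc haz hbz z hz
    refine fix_of_stab hS hF hc.pow_eq (mul_mem ha hb) hz hcS ?_ ?_
    · rw [afun_mul _ _ hcS, hbc, afun_apply a (inv_mem hcS)]
      have : (a ⟨c⁻¹, inv_mem hcS⟩ : S) = (a ⟨c, hcS⟩)⁻¹ := map_inv a ⟨c, hcS⟩
      rw [this, Subgroup.coe_inv, ← afun_apply a hcS, hac, inv_inv]
    · rw [afun_mul _ _ (zc_le hz)]
      have := mul_mem (hbz z hz) (haz _ (aut_zc (ψ := b) hz))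
      simpa [mul_assoc] using this
  have same : ∀ a ∈ F.autGroup S, ∀ b ∈ F.autGroup S, afun a c = c⁻¹ → afun b c = c⁻¹ →
      (∀ z ∈ zc S, z⁻¹ * afun a z ∈ Subgroup.zpowers c) →
      (∀ z ∈ zc S, z⁻¹ * afun b z ∈ Subgroup.zpowers c) → ∀ z ∈ zc S, afun a z = afun b z := by
    intro a ha b hb hac hbc haz hbz z hz
    have h1 := agree a ha b hb hac hbc haz hbz z hz
    have h2 := agree a ha a ha hac hac haz haz (afun b z) (aut_zc hz)
    rw [← h2, afun_mul _ _ (afun_mem b (zc_le hz)), ← afun_mul a b (zc_le hz), h1]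
  have haz : ∀ z ∈ zc S, z⁻¹ * afun θ z ∈ Subgroup.zpowers c := fun z hz =>
    hθz θ W D.wle hθc hθW z hz (D.decomp z hz)
  have hQfix : ∀ {W' : Subgroup Ω} {θ' : MulAut ↥S} (E : Subgroup Ω) (d' : Ω),
      EssData F p c E W' d' → θ' ∈ F.autGroup S → afun θ' c = c⁻¹ → (∀ x ∈ W', afun θ' x = x) →
      ∀ x ∈ zc S, x ∈ W' ↔ afun θ x = x := by
    intro W' θ' E d' D' hθ' hθ'c hθ'W x hx
    have hbz : ∀ z ∈ zc S, z⁻¹ * afun θ' z ∈ Subgroup.zpowers c := fun z hz =>
      hθz θ' W' D'.wle hθ'c hθ'W z hz (D'.decomp z hz)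
    rw [same θ hθ θ' hθ' hθc hθ'c haz hbz x hx]
    refine ⟨hθ'W x, fun hfix => ?_⟩
    obtain ⟨i, v, hv, rfl⟩ := D'.decomp x hx
    have hv' := zc_le (D'.wle hv)
    rw [afun_map_mul θ' (zpow_mem hcS i) hv', hθ'W v hv] at hfix
    have hfix' : afun θ' (c ^ i) = c ^ i := mul_right_cancel hfix
    have e : afun θ' (c ^ i) = (c⁻¹) ^ i := by
      rw [afun_apply θ' (zpow_mem hcS i), ← hθ'c, afun_apply θ' hcS, ← Subgroup.coe_zpow,
        ← map_zpow]
      rfl
    rw [e, inv_zpow', eq_comm] at hfix'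
    have h2 : c ^ (i + i) = 1 := by rw [zpow_add]; nth_rw 2 [hfix']; rw [← zpow_add]; simp
    rw [← orderOf_dvd_iff_zpow_eq_one, orderOf_eq_prime hc.pow_eq hc.ne] at h2
    have h3 : (p : ℤ) ∣ i := by
      rcases (Nat.prime_iff_prime_int.mp hp.out).dvd_or_dvd (show (p : ℤ) ∣ 2 * i by
        rwa [two_mul]) with h4 | h4
      · exact absurd ((Nat.prime_dvd_prime_iff_eq hp.out Nat.prime_two).mp (by exact_mod_cast h4))
          hp2
      · exact h4
    have h5 : c ^ i = 1 := by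
      rw [← orderOf_dvd_iff_zpow_eq_one, orderOf_eq_prime hc.pow_eq hc.ne]; exact h3
    rw [h5, one_mul]
    exact hv
  have hW : F.IsNormal W := by
    refine isNormal_of_le_autGroup hS hF fun P hP => ?_
    rcases hP with rfl | hP
    · refine ⟨D.wle.trans zc_le, fun ψ hψ x hx => ?_⟩
      have hxz := D.wle hx
      rw [hQfix E₀ d D hθ hθc hθW _ (aut_zc hxz)]
      set θ₂ := ψ * θ * ψ⁻¹ with hθ₂
      have hθ₂m : θ₂ ∈ F.autGroup P := mul_mem (mul_mem hψ hθ) (inv_mem hψ)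
      have h2c : afun θ₂ c = c⁻¹ := by
        obtain ⟨j, hj⟩ := Subgroup.mem_zpowers_iff.mp (aut_c hc D.shape hS ψ⁻¹)
        have e1 : afun θ (c ^ j) = (c⁻¹) ^ j := by
          rw [afun_apply θ (zpow_mem hcS j), ← hθc, afun_apply θ hcS, ← Subgroup.coe_zpow,
            ← map_zpow]
          rfl
        rw [hθ₂, afun_mul _ _ hcS, afun_mul _ _ (afun_mem _ hcS), ← hj, e1, inv_zpow, hj]
        have : afun ψ (afun ψ⁻¹ c)⁻¹ = (afun ψ (afun ψ⁻¹ c))⁻¹ := by
          rw [afun_apply ψ (inv_mem (afun_mem ψ⁻¹ hcS)), afun_apply ψ (afun_mem ψ⁻¹ hcS),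
            ← Subgroup.coe_inv, ← map_inv]
          rfl
        rw [this, afun_apply_inv ψ hcS]
      have h2z : ∀ z ∈ zc P, z⁻¹ * afun θ₂ z ∈ Subgroup.zpowers c := by
        intro z hz
        have hz' := aut_zc (ψ := ψ⁻¹) hz
        obtain ⟨j, hj⟩ := Subgroup.mem_zpowers_iff.mp (haz _ hz')
        have e : afun θ₂ z = z * afun ψ (c ^ j) := by
          rw [hθ₂, afun_mul _ _ (zc_le hz), afun_mul _ _ (afun_mem _ (zc_le hz)),
            show afun θ (afun ψ⁻¹ z) = afun ψ⁻¹ z * c ^ j by rw [hj, mul_inv_cancel_left],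
            afun_map_mul ψ (afun_mem _ (zc_le hz)) (zpow_mem hcS j), afun_apply_inv ψ (zc_le hz)]
        rw [e, inv_mul_cancel_left]
        have hcc := aut_c hc D.shape hS ψ
        have : afun ψ (c ^ j) = afun ψ c ^ j := by
          rw [afun_apply ψ (zpow_mem hcS j), afun_apply ψ hcS, ← Subgroup.coe_zpow, ← map_zpow]
          rfl
        rw [this]
        exact zpow_mem hcc j
      rw [same θ hθ θ₂ hθ₂m hθc h2c haz h2z _ (aut_zc hxz), hθ₂, afun_mul _ _ (afun_mem ψ (zc_le hxz)),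
        afun_mul _ _ (afun_mem _ (afun_mem ψ (zc_le hxz))), afun_inv_apply ψ (zc_le hxz), hθW x hx]
    · obtain ⟨W', d', D'⟩ := exists_essData hS hZ hF hc hP
      obtain ⟨θ', hθ', hθ'c, hθ'W⟩ := D'.theta
      have hWW : ∀ x, x ∈ W ↔ x ∈ W' := fun x => by
        by_cases hx : x ∈ zc S
        · rw [hQfix E₀ d D hθ hθc hθW x hx, hQfix P d' D' hθ' hθ'c hθ'W x hx]
        · exact ⟨fun h => absurd (D.wle h) hx, fun h => absurd (D'.wle h) hx⟩
      refine ⟨D.wle.trans D'.shape.zle, fun α hα x hx => ?_⟩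
      rw [hWW] at hx ⊢
      exact D'.invariant α hα x hx
  refine le_antisymm (fun z hz => ?_) (Subgroup.zpowers_le.mpr hc.mem)
  obtain ⟨i, v, hv, rfl⟩ := D.decomp z hz
  have := le_core hW hv
  rw [hcore, Subgroup.mem_bot] at this
  rw [this, mul_one]
  exact zpow_mem (Subgroup.mem_zpowers c) i

include hS hF hZ hc hcore in
theorem exponent_odd (hS1 : S ≠ ⊥) (hp2 : p ≠ 2) (x : Ω) (hx : x ∈ S) : x ^ p = 1 := by
  by_contra hne
  have hset : ∀ E, F.IsEssential p E → ∀ y, y ∈ E ↔ y ∈ S ∧ y ^ p = 1 := by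
    intro E hE y
    obtain ⟨W, d, D⟩ := exists_essData hS hZ hF hc hE
    refine ⟨fun hy => ⟨D.shape.le hy, ess_elementary hS hF hZ hcore hc D hy⟩, fun ⟨hyS, hyp⟩ => ?_⟩
    by_contra hyE
    -- the elements of exponent `p` form a subgroup containing `E` and `y`
    let K : Subgroup Ω :=
      { carrier := {w | w ∈ S ∧ w ^ p = 1}
        one_mem' := ⟨one_mem _, one_pow p⟩
        mul_mem' := fun {a b} ha hb => ⟨mul_mem ha.1 hb.1, by
          obtain ⟨i, hi⟩ := Subgroup.mem_zpowers_iff.mp (hc.com b hb.1 a ha.1)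
          have hcb : Commute c b := ((mem_zc.mp hc.mem).2 b hb.1).symm
          have hca : Commute c a := ((mem_zc.mp hc.mem).2 a ha.1).symm
          have hba : b * a = c ^ i * (a * b) := by
            have h1 : cj b a = a * c ^ i := by rw [hi, mul_inv_cancel_left]
            rw [← (hca.zpow_left i).eq] at h1
            calc b * a = cj b a * b := by simp [cj_apply]
              _ = _ := by rw [h1, mul_assoc]
          have key : ∀ n : ℕ, b ^ n * a = c ^ (i * n) * (a * b ^ n) := by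
            intro n
            induction n with
            | zero => simp
            | succ n ih =>
              rw [pow_succ', mul_assoc, ih, ← mul_assoc b, ← (hcb.zpow_left _).eq, mul_assoc,
                ← mul_assoc b a, hba]
              push_cast
              rw [mul_add, mul_one, zpow_add]
              simp only [mul_assoc]
          have hexp : ∀ n : ℕ, (a * b) ^ n = c ^ (i * (n.choose 2 : ℕ)) * (a ^ n * b ^ n) := by
            intro n
            induction n with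
            | zero => simp
            | succ n ih =>
              have hcn : Commute (a ^ n) (c ^ (i * (n : ℤ))) :=
                ((hca.zpow_left _).pow_right n).symm
              calc (a * b) ^ (n + 1)
                  = c ^ (i * (n.choose 2 : ℤ)) * (a ^ n * (b ^ n * a)) * b := by
                    rw [pow_succ, ih]; simp only [mul_assoc]
                _ = c ^ (i * (n.choose 2 : ℤ)) * (a ^ n * c ^ (i * (n : ℤ)) * (a * b ^ n)) * b := by
                    rw [key]; simp only [mul_assoc]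
                _ = c ^ (i * (n.choose 2 : ℤ)) * (c ^ (i * (n : ℤ)) * a ^ n * (a * b ^ n)) * b := by
                    rw [hcn.eq]
                _ = c ^ (i * (((n + 1).choose 2 : ℕ) : ℤ)) * (a ^ (n + 1) * b ^ (n + 1)) := by
                    rw [Nat.choose_succ_succ', Nat.choose_one_right]
                    push_cast
                    rw [mul_add, add_comm, zpow_add, pow_succ, pow_succ]
                    simp only [mul_assoc]
          rw [hexp p, ha.2, hb.2, one_mul, mul_one]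
          obtain ⟨m, hm⟩ : p ∣ p.choose 2 := hp.out.dvd_choose_self (by norm_num) (by
            have := hp.out.two_le; omega)
          rw [hm]
          push_cast
          rw [mul_left_comm, zpow_mul, zpow_natCast, hc.pow_eq, one_zpow]⟩
        inv_mem' := fun {a} ha => ⟨inv_mem ha.1, by rw [inv_pow, ha.2, inv_one]⟩ }
    have hK : S ≤ K := by
      rw [← D.shape.sup_eq hS hyS hyE]
      exact sup_le (fun w hw => ⟨D.shape.le hw, ess_elementary hS hF hZ hcore hc D hw⟩)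
        (Subgroup.zpowers_le.mpr ⟨hyS, hyp⟩)
    exact hne (hK hx).2
  obtain ⟨E, hE⟩ := exists_essential hS hF hcore hS1
  have hN : F.IsNormal E := by
    refine isNormal_of_le_autGroup hS hF fun P hP => ?_
    have hEle : E ≤ P := by
      rcases hP with rfl | hP
      · exact hE.1.1
      · exact fun y hy => (hset P hP y).mpr ((hset E hE y).mp hy)
    refine ⟨hEle, fun α hα y hy => (hset E hE _).mpr ⟨?_, ?_⟩⟩
    · rcases hP with rfl | hP
      · exact afun_mem α (hEle hy)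
      · exact hP.1.1 (afun_mem α (hEle hy))
    · have hy' : (⟨y, hEle hy⟩ : P) ^ p = 1 := Subtype.ext ((hset E hE y).mp hy).2
      have h1 : ((α ⟨y, hEle hy⟩ : P) : Ω) ^ p = 1 := by
        rw [← SubmonoidClass.coe_pow, ← map_pow, hy', map_one]
        rfl
      rwa [afun_apply α (hEle hy)]
  have := le_core hN
  obtain ⟨W, d, D⟩ := exists_essData hS hZ hF hc hE
  have h2 := this D.d_mem
  rw [hcore, Subgroup.mem_bot] at h2
  exact D.d_not (h2 ▸ one_mem _)

include hS hF hZ hc hcore in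
/-- For `p = 2` there are no more than two essential subgroups. -/
theorem two_elementary (hp2 : p = 2) {E₁ W₁ E₂ W₂ E₃ W₃ : Subgroup Ω} {d₁ d₂ d₃ : Ω}
    (D₁ : EssData F p c E₁ W₁ d₁) (D₂ : EssData F p c E₂ W₂ d₂) (D₃ : EssData F p c E₃ W₃ d₃)
    (h₁₂ : E₁ ≠ E₂) : E₃ = E₁ ∨ E₃ = E₂ := by
  subst hp2
  by_contra hh
  push Not at hh
  obtain ⟨h31, h32⟩ := hh
  have sub : ∀ {A WA B WB : Subgroup Ω} {da db : Ω}, EssData F 2 c A WA da → EssData F 2 c B WB db →
      da ∈ B → A = B := by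
    intro A WA B WB da db DA DB hm
    haveI := finite_of_le (DB.shape.le)
    refine eq_of_le_of_card_ge DB.shape.le ?_ (by rw [DA.shape.cardE, DB.shape.cardE])
    rw [← sup_zpowers_eq hS DA.shape.le DA.shape.zle DA.shape.cardE DA.d_mem DA.d_not]
    exact sup_le DB.shape.zle (Subgroup.zpowers_le.mpr hm)
  have hd1 : d₁ * d₁ = 1 := by rw [← pow_two]; exact D₁.d_pow
  have hd2 : d₂ * d₂ = 1 := by rw [← pow_two]; exact D₂.d_pow
  -- `S / Z` has order four
  let φ : ↥S →* ↥S ⧸ Subgroup.center ↥S := QuotientGroup.mk' _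
  have hd1S := D₁.shape.le D₁.d_mem
  have hd2S := D₂.shape.le D₂.d_mem
  have hd3S := D₃.shape.le D₃.d_mem
  have h12 : d₁ * d₂ * d₃⁻¹ ∈ zc S := by
    have h23 : d₂ * d₃⁻¹ ∈ E₁ := mul_out D₁.shape hd2S (inv_mem hd3S)
      (fun h => h₁₂ (sub D₂ D₁ h).symm) fun h => h31 (sub D₃ D₁ (inv_mem' h))
    rcases two_class D₁.shape D₁.d_mem D₁.d_not h23 with h4 | h4
    · refine absurd ?_ h32
      refine sub D₃ D₂ ?_
      have := mul_mem (inv_mem (D₂.shape.zle h4)) D₂.d_mem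
      simpa [mul_assoc] using this
    · have hcm := (mem_zc.mp h4).2 d₁ hd1S
      have e : d₁ * d₂ * d₃⁻¹ = d₁ * (d₂ * d₃⁻¹ * d₁⁻¹) * d₁ := by group
      rw [e, hcm, mul_assoc, hd1, mul_one]
      exact h4
  obtain ⟨z, hz, hz'⟩ : ∃ z ∈ zc S, d₁ * d₂ = z * d₃ :=
    ⟨_, h12, by rw [inv_mul_cancel_right]⟩
  have hsq : (d₁ * d₂) ^ 2 = 1 := by
    rw [hz', (show Commute z d₃ from ((mem_zc.mp hz).2 d₃ hd3S).symm).mul_pow,
      zc_pow hS hF hZ hcore hc z hz, one_mul]
    exact ess_elementary hS hF hZ hcore hc D₃ D₃.d_mem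
  refine h₁₂ (sub D₁ D₂ ?_)
  by_contra hd
  have hfix : cj d₁ d₂ = d₂ := by
    rw [cj_apply]
    calc d₁ * d₂ * d₁⁻¹ = (d₁ * d₂) ^ 2 * (d₂⁻¹ * (d₁ * d₁)⁻¹) := by rw [pow_two]; group
      _ = d₂ := by rw [hsq, hd1, one_mul, inv_one, mul_one]; exact inv_eq_of_mul_eq_one_right hd2
  exact D₂.d_not (D₂.shape.central_of hS hd1S hd D₂.d_mem hfix)

include hS hF hZ hc hcore in
theorem two_case (hS1 : S ≠ ⊥) (hhyp : F.hyperfocalSubgroup p = S) (hp2 : p = 2) :
    Nat.card S = p ^ 3 ∧ zc S = Subgroup.zpowers c ∧ Nonempty (↥S ≃* DihedralGroup 4) := by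
  subst hp2
  have hcS := zc_le hc.mem
  obtain ⟨E₁, hE₁⟩ := exists_essential hS hF hcore hS1
  obtain ⟨W₁, d₁, D₁⟩ := exists_essData hS hZ hF hc hE₁
  have hel : ∀ {E W : Subgroup Ω} {d : Ω}, EssData F 2 c E W d → ∀ x ∈ E, x ^ 2 = 1 :=
    fun D x hx => ess_elementary hS hF hZ hcore hc D hx
  have hcfix : ∀ ψ : MulAut ↥S, afun ψ c = c := by
    intro ψ
    obtain ⟨i, hi⟩ := Subgroup.mem_zpowers_iff.mp (aut_c hc D₁.shape hS ψ)
    rcases Int.even_or_odd i with ⟨k, hk⟩ | ⟨k, hk⟩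
    · exfalso
      rw [hk, ← two_mul, zpow_mul, zpow_two, ← pow_two, hc.pow_eq, one_zpow] at hi
      apply hc.ne
      rw [← afun_inv_apply ψ hcS, ← hi, afun_apply _ S.one_mem]
      exact congrArg Subtype.val (map_one ψ⁻¹)
    · rw [← hi, hk, zpow_add, zpow_mul, zpow_two, ← pow_two, hc.pow_eq, one_zpow, one_mul, zpow_one]
  -- the essential subgroups are fixed by `Aut_F(S)`
  have hperm : ∀ ψ ∈ F.autGroup S, ∀ E, F.IsEssential 2 E → ∀ x ∈ E, afun ψ x ∈ E := by
    intro ψ hψ E hE x hx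
    obtain ⟨W, d, D⟩ := exists_essData hS hZ hF hc hE
    obtain ⟨N, hN, hNi⟩ := pow_inner hS hF hψ
    by_contra hout
    -- otherwise `d`, `ψ d`, `ψ² d` give three elementary maximal subgroups
    have hxS := D.shape.le hx
    have hxz : x ∉ zc S := fun h => hout (D.shape.zle (aut_zc h))
    set y := afun ψ x with hy
    have hyS : y ∈ S := afun_mem ψ hxS
    -- `ψ` maps the elements `z`, `x z` of `E` to involutions
    have hinv : ∀ w ∈ E, afun ψ w * afun ψ w = 1 := fun w hw => by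
      rw [← afun_map_mul ψ (D.shape.le hw) (D.shape.le hw), ← pow_two, hel D w hw,
        afun_apply ψ S.one_mem, show (⟨1, S.one_mem⟩ : S) = 1 from rfl, map_one]
      rfl
    -- three noncommuting classes
    set w := afun ψ y with hw
    have hwS : w ∈ S := afun_mem ψ hyS
    have hyy : y * y = 1 := hinv x hx
    have hww : w * w = 1 := by
      rw [hw, ← afun_map_mul ψ hyS hyS, hyy, afun_apply ψ S.one_mem,
        show (⟨1, S.one_mem⟩ : S) = 1 from rfl, map_one]
      rfl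
    have hb : ∀ z ∈ zc S, (x * y * z) * (x * y * z) ≠ 1 := by
      intro z hz hh
      refine hxz (D.shape.central_of hS hyS hout hx ?_)
      have hzc : Commute (x * y) z := (mem_zc.mp hz).2 _ (mul_mem hxS hyS)
      have hz2 : z * z = 1 := by rw [← pow_two]; exact zc_pow hS hF hZ hcore hc z hz
      rw [(hzc.symm).mul_mul_mul_comm, hz2, mul_one] at hh
      have hxx : x * x = 1 := by rw [← pow_two]; exact hel D x hx
      rw [cj_apply, inv_eq_of_mul_eq_one_right hyy]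
      calc y * x * y = x⁻¹ * (x * y * (x * y)) := by group
        _ = x := by rw [hh, mul_one]; exact inv_eq_of_mul_eq_one_right hxx
    -- `w = ψ² x` is not in `y Z`, so it is in `E`, and then in `x Z`
    have hwE : w ∈ E := by
      by_contra hwE
      rcases two_class D.shape hx hxz (mul_out D.shape hyS hwS hout hwE) with h | h
      · have h0 : x * y ∈ zc S := by
          have := aut_zc (ψ := ψ⁻¹) h
          rwa [afun_map_mul ψ⁻¹ hyS hwS, hw, afun_inv_apply ψ hyS, hy, afun_inv_apply ψ hxS,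
            ← hy] at this
        exact hout (by
          have := mul_mem (inv_mem hx) (D.shape.zle h0)
          simpa using this)
      · -- then `w ∈ y x Z` would be an involution
        obtain ⟨z, hz, hwz⟩ : ∃ z ∈ zc S, w = y⁻¹ * (z * x) :=
          ⟨_, h, by rw [inv_mul_cancel_right, inv_mul_cancel_left]⟩
        have hxx : x⁻¹ = x := inv_eq_of_mul_eq_one_right (by rw [← pow_two]; exact hel D x hx)
        have hyi : y⁻¹ = y := inv_eq_of_mul_eq_one_right hyy
        have hz2 : z⁻¹ ∈ zc S := inv_mem hz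
        refine hb z⁻¹ hz2 ?_
        have e : x * y * z⁻¹ = w⁻¹ := by
          rw [hwz, mul_inv_rev, mul_inv_rev, inv_inv, hxx]
          rw [mul_assoc, mul_assoc, (mem_zc.mp hz2).2 y hyS]
        rw [e, ← mul_inv_rev, hww, inv_one]
    have hw2 : ∀ n : ℕ, afun (ψ ^ (2 * n + 1)) x ∉ E ∧ afun (ψ ^ (2 * n)) x * x⁻¹ ∈ zc S := by
      intro n
      have hwx : w * x⁻¹ ∈ zc S := by
        rcases two_class D.shape hx hxz hwE with h | h
        · refine absurd ?_ hxz
          have := aut_zc (ψ := ψ⁻¹) (aut_zc (ψ := ψ⁻¹) h)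
          rwa [hw, afun_inv_apply ψ hyS, hy, afun_inv_apply ψ hxS] at this
        · exact h
      induction n with
      | zero => exact ⟨by simpa using hout, by simp [afun_one hxS]⟩
      | succ n ih =>
        have e1 : afun (ψ ^ (2 * (n + 1))) x * x⁻¹ ∈ zc S := by
          rw [show 2 * (n + 1) = 2 + 2 * n by ring, pow_add, afun_mul _ _ hxS]
          set v := afun (ψ ^ (2 * n)) x with hv
          have hvS : v ∈ S := afun_mem _ hxS
          have e2 : afun (ψ ^ 2) v * x⁻¹ = afun (ψ ^ 2) (v * x⁻¹) * (w * x⁻¹) := by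
            have : afun (ψ ^ 2) x = w := by rw [pow_two, afun_mul _ _ hxS]
            rw [← mul_assoc, ← this, ← afun_map_mul _ (mul_mem hvS (inv_mem hxS)) hxS,
              inv_mul_cancel_right]
          rw [e2]
          exact mul_mem (aut_zc ih.2) hwx
        refine ⟨fun hE' => ?_, e1⟩
        rw [pow_succ', afun_mul _ _ hxS] at hE'
        set v := afun (ψ ^ (2 * (n + 1))) x
        have h2 : afun ψ v = afun ψ (v * x⁻¹) * y := by
          rw [hy, ← afun_map_mul _ (mul_mem (afun_mem _ hxS) (inv_mem hxS)) hxS, inv_mul_cancel_right]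
        rw [h2] at hE'
        exact hout ((Subgroup.mul_mem_cancel_left _ (D.shape.zle (aut_zc e1))).mp hE')
    obtain ⟨k, hk⟩ := Nat.odd_iff.mpr (Nat.two_dvd_ne_zero.mp hN)
    apply (hw2 k).1
    rw [← hk]
    obtain ⟨g, hg, hge⟩ := inn_apply hNi
    rw [hge x hxS]
    exact D.shape.normal g hg x hx
  have hrestrict : ∀ ψ ∈ F.autGroup S, ∀ E, F.IsEssential 2 E →
      ∃ β ∈ F.autGroup E, ∀ x ∈ E, afun β x = afun ψ x := fun ψ hψ E hE => by
    have hm := ((mem_autGroup le_rfl).mp hψ).restrict_to hE.1.1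
    exact hm.exists_aut (hm.im_self (hperm ψ hψ E hE))
  -- `[Z, Aut_F(S)]` is normal, hence trivial
  let Q : Subgroup Ω := Subgroup.closure {q | ∃ ψ ∈ F.autGroup S, ∃ z ∈ zc S, q = z⁻¹ * afun ψ z}
  have hQW : ∀ E W d, F.IsEssential 2 E → EssData F 2 c E W d → Q ≤ W := by
    intro E W d hE D
    refine Subgroup.closure_le _ |>.mpr ?_
    rintro q ⟨ψ, hψ, z, hz, rfl⟩
    obtain ⟨β, hβ, hβe⟩ := hrestrict ψ hψ E hE
    obtain ⟨i, v, hv, rfl⟩ := D.decomp z hz
    have hci := zpow_mem hcS i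
    have hv' := zc_le (D.wle hv)
    have e1 : afun ψ (c ^ i) = c ^ i := by
      conv_rhs => rw [← hcfix ψ]
      rw [afun_apply ψ hci, afun_apply ψ hcS, ← Subgroup.coe_zpow, ← map_zpow]
      rfl
    rw [SetLike.mem_coe, afun_map_mul ψ hci hv', e1, mul_inv_rev, mul_assoc, inv_mul_cancel_left,
      ← hβe v (D.shape.zle (D.wle hv))]
    exact mul_mem (inv_mem hv) (D.invariant β hβ v hv)
  have hQS : ∀ ψ ∈ F.autGroup S, ∀ x ∈ Q, afun ψ x ∈ Q := by
    intro ψ hψ x hx
    have hQz : Q ≤ zc S := (hQW E₁ W₁ d₁ hE₁ D₁).trans D₁.wle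
    induction hx using Subgroup.closure_induction with
    | mem q hq =>
      obtain ⟨φ, hφ, z, hz, rfl⟩ := hq
      refine Subgroup.subset_closure ⟨ψ * φ * ψ⁻¹, mul_mem (mul_mem hψ hφ) (inv_mem hψ),
        afun ψ z, aut_zc hz, ?_⟩
      have hzS := zc_le hz
      rw [afun_mul _ _ (afun_mem ψ hzS), afun_mul _ _ (afun_mem _ (afun_mem ψ hzS)),
        afun_inv_apply ψ hzS, afun_map_mul ψ (inv_mem hzS) (afun_mem φ hzS)]
      congr 1
      rw [afun_apply ψ (inv_mem hzS), afun_apply ψ hzS, ← Subgroup.coe_inv, ← map_inv]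
      rfl
    | one =>
      rw [afun_apply ψ S.one_mem, show (⟨1, S.one_mem⟩ : S) = 1 from rfl, map_one]
      exact one_mem Q
    | mul a b ha hb iha ihb =>
      rw [afun_map_mul ψ (zc_le (hQz ha)) (zc_le (hQz hb))]
      exact mul_mem iha ihb
    | inv a ha iha =>
      have : afun ψ a⁻¹ = (afun ψ a)⁻¹ := by
        rw [afun_apply ψ (inv_mem (zc_le (hQz ha))), afun_apply ψ (zc_le (hQz ha)),
          ← Subgroup.coe_inv, ← map_inv]
        rfl
      rw [this]
      exact inv_mem iha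
  have hQ : F.IsNormal Q := by
    refine isNormal_of_le_autGroup hS hF fun P hP => ?_
    rcases hP with rfl | hP
    · exact ⟨(hQW E₁ W₁ d₁ hE₁ D₁).trans (D₁.wle.trans zc_le), hQS⟩
    · obtain ⟨W, d, D⟩ := exists_essData hS hZ hF hc hP
      have hle := hQW P W d hP D
      refine ⟨hle.trans (D.wle.trans D.shape.zle), fun β hβ x hx => ?_⟩
      obtain ⟨ψ, hψ, he⟩ := D.agree β hβ
      rw [he x (hle hx)]
      exact hQS ψ hψ x hx
  have hzfix : ∀ ψ ∈ F.autGroup S, ∀ z ∈ zc S, afun ψ z = z := by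
    intro ψ hψ z hz
    have : z⁻¹ * afun ψ z ∈ Q := Subgroup.subset_closure ⟨ψ, hψ, z, hz, rfl⟩
    have h2 := le_core hQ this
    rw [hcore, Subgroup.mem_bot] at h2
    exact (inv_mul_eq_one.mp h2).symm
  have hmod : ∀ ψ ∈ F.autGroup S, ∀ x ∈ S, x⁻¹ * afun ψ x ∈ zc S := by
    intro ψ hψ
    let K : Subgroup Ω :=
      { carrier := {x | x ∈ S ∧ x⁻¹ * afun ψ x ∈ zc S}
        one_mem' := ⟨one_mem _, by
          rw [afun_apply ψ S.one_mem, show (⟨1, S.one_mem⟩ : S) = 1 from rfl, map_one]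
          simp⟩
        mul_mem' := fun {a b} ha hb => ⟨mul_mem ha.1 hb.1, by
          have e : (a * b)⁻¹ * afun ψ (a * b) = (a⁻¹ * afun ψ a) * (b⁻¹ * afun ψ b) := by
            have h := (mem_zc.mp ha.2).2 b⁻¹ (inv_mem hb.1)
            calc (a * b)⁻¹ * afun ψ (a * b) = b⁻¹ * (a⁻¹ * afun ψ a) * afun ψ b := by
                  rw [afun_map_mul ψ ha.1 hb.1]; group
              _ = _ := by rw [h, mul_assoc]
          rw [e]
          exact mul_mem ha.2 hb.2⟩
        inv_mem' := fun {a} ha => ⟨inv_mem ha.1, by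
          have h := (mem_zc.mp (inv_mem ha.2)).2 a ha.1
          have e1 : afun ψ a⁻¹ = (afun ψ a)⁻¹ := afun_map_inv ψ ha.1
          have e : (a⁻¹)⁻¹ * afun ψ a⁻¹ = (a⁻¹ * afun ψ a)⁻¹ := by
            calc (a⁻¹)⁻¹ * afun ψ a⁻¹ = a * (a⁻¹ * afun ψ a)⁻¹ * a⁻¹ := by rw [e1]; group
              _ = (a⁻¹ * afun ψ a)⁻¹ := by rw [h, mul_inv_cancel_right]
          rw [e]
          exact inv_mem ha.2⟩ }
    have hzK : zc S ≤ K := fun z hz => ⟨zc_le hz, by
      rw [hzfix ψ hψ z hz, inv_mul_cancel]; exact one_mem _⟩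
    have hEK : E₁ ≤ K := by
      obtain ⟨a, ha, haz⟩ := D₁.shape.exists_in
      rw [← sup_zpowers_eq hS D₁.shape.le D₁.shape.zle D₁.shape.cardE ha haz]
      refine sup_le hzK (Subgroup.zpowers_le.mpr ⟨D₁.shape.le ha, ?_⟩)
      by_contra hh
      have hb := hperm ψ hψ E₁ hE₁ a ha
      haveI := finite_of_le (zc_le (S := S))
      refine hh (mul_mem_of_two D₁.shape.zle (fun g hg z hz => ?_) D₁.shape.cardE (inv_mem ha) hb
        (fun h => haz (inv_mem' h)) fun h => haz ?_)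
      · rw [cj_zc (D₁.shape.le hg) hz]; exact hz
      · have := aut_zc (ψ := ψ⁻¹) h
        rwa [afun_inv_apply ψ (D₁.shape.le ha)] at this
    obtain ⟨u, huS, huE⟩ := D₁.shape.exists_out
    -- `u⁻¹ ψ u` lies in `E₁`, and an odd power of `ψ` is inner
    have huu : u⁻¹ * afun ψ u ∈ E₁ := by
      refine mul_out D₁.shape (inv_mem huS) (afun_mem ψ huS) (fun h => huE (inv_mem' h))
        fun h => huE ?_
      have := hperm ψ⁻¹ (inv_mem hψ) E₁ hE₁ _ h
      rwa [afun_inv_apply ψ huS] at this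
    have hu2 : ∀ n : ℕ, afun (ψ ^ n) u ∈ S ∧
        (afun (ψ ^ n) u)⁻¹ * (u * (u⁻¹ * afun ψ u) ^ n) ∈ zc S := by
      intro n
      refine ⟨afun_mem _ huS, ?_⟩
      induction n with
      | zero => rw [pow_zero, afun_one huS, pow_zero, mul_one, inv_mul_cancel]; exact one_mem _
      | succ n ih =>
        set e := u⁻¹ * afun ψ u with he
        have heS : e ∈ S := D₁.shape.le huu
        have hvS : u * e ^ n ∈ S := mul_mem huS (pow_mem heS n)
        have h1 : (u * e ^ n)⁻¹ * afun (ψ ^ n) u ∈ zc S := by simpa using inv_mem ih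
        obtain ⟨z, hz, hz'⟩ : ∃ z ∈ zc S, afun (ψ ^ n) u = u * e ^ n * z :=
          ⟨_, h1, by rw [mul_inv_cancel_left]⟩
        obtain ⟨z2, hz2, hz2'⟩ : ∃ z2 ∈ zc S, afun ψ (e ^ n) = e ^ n * z2 :=
          ⟨_, (hEK (pow_mem huu n)).2, by rw [mul_inv_cancel_left]⟩
        have h3 : afun (ψ ^ (n + 1)) u = u * e ^ (n + 1) * (z2 * z) := by
          rw [pow_succ', afun_mul _ _ huS, hz', afun_map_mul ψ hvS (zc_le hz),
            afun_map_mul ψ huS (pow_mem heS n), hz2', hzfix ψ hψ z hz, pow_succ']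
          have : afun ψ u = u * e := by rw [he, mul_inv_cancel_left]
          rw [this]
          simp only [mul_assoc]
        rw [h3, mul_inv_rev _ (z2 * z), inv_mul_cancel_right]
        exact inv_mem (mul_mem hz2 hz)
    have huK : u ∈ K := by
      refine ⟨huS, ?_⟩
      obtain ⟨N, hN, hNi⟩ := pow_inner hS hF hψ
      obtain ⟨g, hg, hge⟩ := inn_apply hNi
      have h1 := (hu2 N).2
      rw [hge u huS] at h1
      have h2 : u⁻¹ * cj g u ∈ zc S := zpow_mem' hc (hc.com g hg u huS)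
      have h3 := mul_mem h2 h1
      rw [mul_assoc, mul_inv_cancel_left, inv_mul_cancel_left] at h3
      obtain ⟨m, hm⟩ := Nat.odd_iff.mpr (Nat.two_dvd_ne_zero.mp hN)
      rw [hm, pow_succ, pow_mul, hel D₁ _ huu, one_pow, one_mul] at h3
      exact h3
    intro x hx
    have : S ≤ K := by
      rw [← D₁.shape.sup_eq hS huS huE]
      exact sup_le hEK (Subgroup.zpowers_le.mpr huK)
    exact (this hx).2
  have hinner : ∀ ψ ∈ F.autGroup S, ∃ g ∈ S, ∀ x ∈ S, afun ψ x = cj g x := by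
    intro ψ hψ
    obtain ⟨N, hN, hNi⟩ := pow_inner hS hF hψ
    obtain ⟨g, hg, hge⟩ := inn_apply hNi
    have hsq : ∀ x ∈ S, afun (ψ ^ 2) x = x := by
      intro x hx
      have hz := hmod ψ hψ x hx
      obtain ⟨z, hz', e⟩ : ∃ z ∈ zc S, afun ψ x = x * z := ⟨_, hz, by rw [mul_inv_cancel_left]⟩
      rw [pow_two, afun_mul _ _ hx, e, afun_map_mul ψ hx (zc_le hz'), hzfix ψ hψ z hz', e, mul_assoc,
        ← pow_two, zc_pow hS hF hZ hcore hc z hz', mul_one]
    refine ⟨g, hg, fun x hx => ?_⟩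
    rw [← hge x hx]
    obtain ⟨m, hm⟩ := Nat.odd_iff.mpr (Nat.two_dvd_ne_zero.mp hN)
    rw [hm, pow_succ', afun_mul _ _ hx]
    congr 1
    clear hm
    induction m with
    | zero => rw [mul_zero, pow_zero, afun_one hx]
    | succ m ih => rw [mul_add, mul_one, pow_add, afun_mul _ _ hx, hsq x hx, ← ih]
  -- hence everything moves inside a small subgroup
  have key : ∀ (U : Subgroup Ω), c ∈ U →
      (∀ E, F.IsEssential 2 E → ∃ W d, EssData F 2 c E W d ∧ d ∈ U) → S ≤ U := by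
    intro U hcU hU
    have hCU : Subgroup.zpowers c ≤ U := Subgroup.zpowers_le.mpr hcU
    let G : FusionSystem S :=
      { Hom := fun P => {φ | φ ∈ F.Hom P ∧ ∀ x : P, (x : Ω)⁻¹ * φ x ∈ U}
        le_of_mem := fun h => F.le_of_mem h.1
        injective_of_mem := fun h => F.injective_of_mem h.1
        conj_mem := fun hP hg => ⟨F.conj_mem hP hg, fun x => hCU (hc.com _ hg _ (hP x.2))⟩
        comp_mem := by
          rintro P R φ ψ ⟨hφ, h1⟩ ⟨hψ, h2⟩ h
          refine ⟨F.comp_mem hφ hψ h, fun x => ?_⟩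
          have := mul_mem (h1 x) (h2 ⟨φ x, h x⟩)
          rw [mul_assoc, mul_inv_cancel_left] at this
          exact this
        inv_mem := by
          rintro P φ ⟨hφ, h1⟩
          obtain ⟨ψ, hψ, he⟩ := F.inv_mem hφ
          refine ⟨ψ, ⟨hψ, ?_⟩, he⟩
          rintro ⟨_, x, rfl⟩
          rw [he x]
          simpa using inv_mem (h1 x) }
    have hle : F ≤ G := by
      refine alperin hS hF fun P hP α hα => ?_
      have hPS : P ≤ S := by
        rcases hP with rfl | hP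
        · exact le_rfl
        · exact hP.1.1
      refine mem_autGroup_of_mor ?_
      obtain ⟨φ, hφ, he⟩ := (mem_autGroup hPS).mp hα
      refine ⟨φ, ⟨hφ, fun x => ?_⟩, he⟩
      rw [he]
      rcases hP with rfl | hP
      · obtain ⟨g, hg, hge⟩ := hinner α hα
        rw [hge x x.2]
        exact hCU (hc.com g hg x x.2)
      · obtain ⟨W, d, D, hd⟩ := hU P hP
        obtain ⟨ψ, hψ, hm⟩ := D.moved α hα
        obtain ⟨g, hg, hge⟩ := hinner ψ hψ
        have h1 := (sup_le hCU (Subgroup.zpowers_le.mpr hd)) (hm x x.2)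
        have h2 := hCU (hc.com g hg x (hPS x.2))
        rw [← hge x (hPS x.2)] at h2
        have := mul_mem h2 h1
        rwa [mul_assoc, mul_inv_cancel_left] at this
    conv_lhs => rw [← hhyp]
    refine Subgroup.closure_le _ |>.mpr ?_
    rintro y ⟨P, α, x, hP, -, rfl⟩
    obtain ⟨φ, hφ, he⟩ := mor_mono hle ((mem_autGroup hP).mp α.2)
    have := hφ.2 x
    rwa [he, afun_coe] at this
  -- there are two essential subgroups
  obtain ⟨E₂, hE₂, h12⟩ : ∃ E₂, F.IsEssential 2 E₂ ∧ E₁ ≠ E₂ := by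
    by_contra hh
    push Not at hh
    refine D₁.shape.ne (le_antisymm D₁.shape.le (key E₁ (D₁.shape.zle hc.mem) fun E hE => ?_))
    obtain rfl := hh E hE
    exact ⟨W₁, d₁, D₁, D₁.d_mem⟩
  obtain ⟨W₂, d₂, D₂⟩ := exists_essData hS hZ hF hc hE₂
  set U := Subgroup.closure ({d₁, d₂} : Set Ω)
  have hd1S := D₁.shape.le D₁.d_mem
  have hd2S := D₂.shape.le D₂.d_mem
  have hd1E : d₁ ∉ E₂ := fun hm => by
    refine h12 (eq_of_le_of_card_ge D₂.shape.le ?_ (by rw [D₁.shape.cardE, D₂.shape.cardE]))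
    rw [← sup_zpowers_eq hS D₁.shape.le D₁.shape.zle D₁.shape.cardE D₁.d_mem D₁.d_not]
    exact sup_le D₂.shape.zle (Subgroup.zpowers_le.mpr hm)
  have hn : d₂⁻¹ * cj d₁ d₂ ≠ 1 := fun e =>
    D₂.d_not (D₂.shape.central_of hS hd1S hd1E D₂.d_mem (inv_mul_eq_one.mp e).symm)
  have hcmem : d₂⁻¹ * cj d₁ d₂ ∈ Subgroup.zpowers c := hc.com d₁ hd1S d₂ hd2S
  have hcc : d₂⁻¹ * cj d₁ d₂ = c := by
    obtain ⟨i, hi⟩ := Subgroup.mem_zpowers_iff.mp hcmem
    rcases Int.even_or_odd i with ⟨k, hk⟩ | ⟨k, hk⟩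
    · rw [hk, ← two_mul, zpow_mul, zpow_two, ← pow_two, hc.pow_eq, one_zpow] at hi
      exact absurd hi.symm hn
    · rw [← hi, hk, zpow_add, zpow_mul, zpow_two, ← pow_two, hc.pow_eq, one_zpow, one_mul, zpow_one]
  have hU1 : d₁ ∈ U := Subgroup.subset_closure (by simp)
  have hU2 : d₂ ∈ U := Subgroup.subset_closure (by simp)
  have hcU : c ∈ U := hcc ▸ U.mul_mem (U.inv_mem hU2)
    (show d₁ * d₂ * d₁⁻¹ ∈ U from U.mul_mem (U.mul_mem hU1 hU2) (U.inv_mem hU1))
  have hUS : U = S := by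
    refine le_antisymm ((Subgroup.closure_le _).mpr ?_) (key U hcU fun E hE => ?_)
    · rintro w (rfl | rfl)
      · exact hd1S
      · exact hd2S
    · obtain ⟨W, d, D⟩ := exists_essData hS hZ hF hc hE
      rcases two_elementary hS hF hZ hcore hc rfl D₁ D₂ D h12 with rfl | rfl
      · exact ⟨W₁, d₁, D₁, hU1⟩
      · exact ⟨W₂, d₂, D₂, hU2⟩
  have ho1 : orderOf d₁ = 2 := orderOf_eq_prime D₁.d_pow fun e => D₁.d_not (e ▸ one_mem _)
  have ho2 : orderOf d₂ = 2 := orderOf_eq_prime D₂.d_pow fun e => D₂.d_not (e ▸ one_mem _)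
  have hne : d₁ ≠ d₂ := fun e => hn (by rw [e]; simp [cj_apply])
  have h1i : d₁⁻¹ = d₁ := inv_eq_of_mul_eq_one_right (by rw [← pow_two]; exact D₁.d_pow)
  have h2i : d₂⁻¹ = d₂ := inv_eq_of_mul_eq_one_right (by rw [← pow_two]; exact D₂.d_pow)
  have hsq : (d₁ * d₂) ^ 2 = c⁻¹ := by
    calc (d₁ * d₂) ^ 2 = d₁ * d₂ * d₁ * d₂ := by rw [pow_two, ← mul_assoc]
      _ = d₁ * d₂⁻¹ * d₁⁻¹ * d₂ := by rw [h1i, h2i]
      _ = c⁻¹ := by rw [← hcc, cj_apply]; group
  have h4 : orderOf (d₁ * d₂) = 4 := by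
    have : orderOf (d₁ * d₂) = 2 ^ (1 + 1) := orderOf_eq_prime_pow (by
      rw [pow_one, hsq]; simpa using hc.ne) (by
      rw [show (2 : ℕ) ^ (1 + 1) = 2 * 2 from rfl, pow_mul, hsq, inv_pow, hc.pow_eq, inv_one])
    simpa using this
  obtain ⟨e⟩ := TwoInvolutions.nonempty_mulEquiv_dihedral ho1 ho2 hne
  rw [h4] at e
  have e' : ↥S ≃* DihedralGroup 4 := (MulEquiv.subgroupCongr hUS).symm.trans e
  have hcard : Nat.card S = 8 := by
    rw [Nat.card_congr e'.toEquiv, DihedralGroup.nat_card]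
  refine ⟨hcard.trans (by norm_num), ?_, ⟨e'⟩⟩
  haveI := finite_of_le (zc_le (S := S))
  refine (eq_of_le_of_card_ge zc_le (Subgroup.zpowers_le.mpr hc.mem) ?_).symm
  rw [Nat.card_zpowers, orderOf_eq_prime hc.pow_eq hc.ne]
  have h8 := D₁.shape.cardS
  rw [D₁.shape.cardE, hcard] at h8
  omega

include hS hZ hc in
theorem special_of {E : Subgroup Ω} (h : Shape p S E) (hz : zc S = Subgroup.zpowers c) :
    Cfsg.IsExtraspecial p ↥S ∧ Nat.card S = p ^ 3 := by
  have hcz : Nat.card (zc S) = p := by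
    rw [hz, Nat.card_zpowers, orderOf_eq_prime hc.pow_eq hc.ne]
  have hcard : Nat.card (Subgroup.center ↥S) = p := by
    rw [← hcz, zc, Subgroup.card_map_of_injective S.subtype_injective]
  have hmem : ∀ x : ↥S, x ∈ Subgroup.center ↥S ↔ (x : Ω) ∈ zc S := fun x =>
    ⟨fun hx => ⟨x, hx, rfl⟩, fun ⟨y, hy, e⟩ => by
      rwa [← show y = x from Subtype.ext e]⟩
  obtain ⟨u, huS, huE⟩ := h.exists_out
  obtain ⟨a, haE, haZ⟩ := h.exists_in
  have hcomm_mem : ∀ x y : ↥S, ⁅x, y⁆ ∈ Subgroup.center ↥S := by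
    intro x y
    rw [hmem]
    have h2 := zpow_mem' hc (hc.com (x : Ω) x.2 (y : Ω) y.2)
    have h3 := (mem_zc.mp h2).2 (y : Ω) y.2
    have e : ((⁅x, y⁆ : ↥S) : Ω) =
        (y : Ω) * ((y : Ω)⁻¹ * cj (x : Ω) (y : Ω)) * (y : Ω)⁻¹ := by
      rw [commutatorElement_def, cj_apply, mul_inv_cancel_left]
      rfl
    rw [e, h3, mul_inv_cancel_right]
    exact h2
  have hcomc : commutator ↥S = Subgroup.center ↥S := by
    refine le_antisymm ?_ ?_
    · exact Subgroup.commutator_le.mpr fun x _ y _ => hcomm_mem x y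
    · have hbot : commutator ↥S ≠ ⊥ := by
        intro e
        have hm : (⁅(⟨u, huS⟩ : ↥S), ⟨a, h.le haE⟩⁆ : ↥S) ∈ commutator ↥S :=
          Subgroup.commutator_mem_commutator (Subgroup.mem_top _) (Subgroup.mem_top _)
        rw [e, Subgroup.mem_bot, commutatorElement_eq_one_iff_mul_comm] at hm
        refine haZ (h.central_of hS huS huE haE ?_)
        rw [cj_apply, mul_inv_eq_iff_eq_mul]
        exact congrArg Subtype.val hm
      intro z hzc
      obtain ⟨y, hy, hy1⟩ : ∃ y ∈ commutator ↥S, y ≠ 1 := by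
        by_contra hh
        push Not at hh
        exact hbot ((Subgroup.eq_bot_iff_forall _).mpr hh)
      have hyc : y ∈ Subgroup.center ↥S :=
        (Subgroup.commutator_le.mpr fun x _ w _ => hcomm_mem x w : commutator ↥S ≤ _) hy
      obtain ⟨j, hj⟩ := Subgroup.mem_zpowers_iff.mp (mem_zpowers_of_prime_card hcard
        (g := ⟨y, hyc⟩) (g' := ⟨z, hzc⟩) (fun e => hy1 (congrArg Subtype.val e)))
      have hj' : y ^ j = z := congrArg Subtype.val hj
      rw [← hj']
      exact zpow_mem hy j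
  refine ⟨⟨⟨hS, ?_, hcomc⟩, hcard⟩, ?_⟩
  · refine le_antisymm ?_ (hcomc.ge.trans ?_)
    · exact PGroupsBasic.frattini_le_of_elementary_quotient hcomc.le fun x => by
        rw [hmem, SubmonoidClass.coe_pow]
        exact h.pow_mem' hS x.2
    · exact PGroupsBasic.commutator_le_frattini hS
  · rw [h.cardS, h.cardE, hcz]
    ring

/-- Let p be a prime, S a nontrivial finite p-group whose centre has index at most p², and F a saturated fusion system over S with no nontrivial normal subgroup and with hyperfocal subgroup equal to S. Then S is extraspecial of order p³; for odd p it has exponent p, and for p = 2 it is dihedral of order 8. -/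
theorem result {Ω : Type*} [Group Ω] {S : Subgroup Ω} [Finite S] (p : ℕ) [Fact p.Prime] (hS : IsPGroup p ↥S) (F : Cfsg.FusionSystem S) (hF : F.IsSaturated p) (hS1 : S ≠ ⊥) (hcore : F.core = ⊥) (hhyp : F.hyperfocalSubgroup p = S) (hZ : (Subgroup.center ↥S).index ≤ p ^ 2) : Cfsg.IsExtraspecial p ↥S ∧ Nat.card S = p ^ 3 ∧ (p ≠ 2 → Monoid.exponent ↥S = p) ∧ (p = 2 → Nonempty (↥S ≃* DihedralGroup 4)) := by
  obtain ⟨E, hE⟩ := exists_essential hS hF hcore hS1
  have h := shape hS hZ hF hE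
  obtain ⟨c, hc⟩ := exists_com hS hZ h
  by_cases hp2 : p = 2
  · obtain ⟨hcard, hz, e⟩ := two_case hS hF hZ hcore hc hS1 hhyp hp2
    exact ⟨(special_of hS hZ hc h hz).1, hcard, fun hne => absurd hp2 hne, fun _ => e⟩
  · have hz := zc_eq_odd hS hF hZ hcore hc hS1 hp2
    obtain ⟨hx, hcard⟩ := special_of hS hZ hc h hz
    refine ⟨hx, hcard, fun _ => ?_, fun h2 => absurd h2 hp2⟩
    rcases (Nat.dvd_prime (Fact.out : p.Prime)).mp (Monoid.exponent_dvd_of_forall_pow_eq_one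
      (fun x : ↥S => Subtype.ext (exponent_odd hS hF hZ hcore hc hS1 hp2 x x.2))) with h1 | h1
    · exfalso
      apply hS1
      rw [Subgroup.eq_bot_iff_forall]
      intro x hx'
      have := Monoid.pow_exponent_eq_one (⟨x, hx'⟩ : ↥S)
      rw [h1, pow_one] at this
      exact congrArg Subtype.val this
    · exact h1

end Cfsg.Agent.S5265
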