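import Cfsg.Statements.S5269
import Cfsg.Agent.Lib.MaxClassEssDeep1
import Cfsg.Agent.Lib.MaxClassEssIndex59

set_option autoImplicit false
open Cfsg

namespace Cfsg.Agent.S5269

/-- Let p ≥ 5 be a prime, S a finite p-group of maximal class of order p^n with n ≥ 4, F a saturated fusion system over S, and E an F-essential subgroup that is normal in S. Then E has index p in S; moreover E is the two-step centralizer Γ₁ = C_S([S,S]/γ₄(S)) or E = C_S(Z₂(S)), unless S has order p^4 and E is extraspecial of order p³ and exponent p. -/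
theorem result {Ω : Type*} [Group Ω] {S : Subgroup Ω} [Finite S] (p : ℕ) [Fact p.Prime] (hS : IsPGroup p ↥S) (n : ℕ) (hn : Nat.card S = p ^ n) (h4 : 4 ≤ n) (hmax : Subgroup.lowerCentralSeries S (n - 2) ≠ ⊥) (F : Cfsg.FusionSystem S) (hF : F.IsSaturated p) (hp : 5 ≤ p) (Γ₁ : Subgroup Ω) (hΓ₁ : ∀ x : Ω, x ∈ Γ₁ ↔ x ∈ S ∧ ∀ y ∈ Subgroup.lowerCentralSeries S 1, x * y * x⁻¹ * y⁻¹ ∈ Subgroup.lowerCentralSeries S 3) (E : Subgroup Ω) (hE : F.IsEssential p E) (hEn : (E.subgroupOf S).Normal) : (E.subgroupOf S).index = p ∧ (E = Γ₁ ∨ E = (S ⊓ Subgroup.centralizer (((Subgroup.upperCentralSeries ↥S 2).map S.subtype) : Set Ω)) ∨ (n = 4 ∧ Nat.card ↥E = p ^ 3 ∧ Cfsg.IsExtraspecial p ↥E ∧ Monoid.exponent ↥E = p)) := by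
  have hES : E ≤ S := hE.1.1
  have hc : Group.nilpotencyClass S = n - 1 := by
    haveI := hS.isNilpotent
    refine le_antisymm (Cfsg.Agent.MaxClassTwo.nilpotencyClass_le n S hn (by omega)) ?_
    by_contra hlt
    refine hmax ?_
    have h := Subgroup.map_lowerCentralSeries (⊤ : Subgroup S) S.subtype (n - 2)
    rw [← MonoidHom.range_eq_map, Subgroup.range_subtype,
      Subgroup.lowerCentralSeries_eq_bot_iff_nilpotencyClass_le.mpr (by omega), Subgroup.map_bot] at h
    exact h.symm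
  have hidx : (E.subgroupOf S).index = p := by
    by_contra hne
    obtain ⟨k, hk⟩ := hS.index (E.subgroupOf S)
    refine Cfsg.Agent.MaxClassEssDeep1.not_index_ge hS hn hc h4 hp hF hE hEn ?_
    rw [hk] at hne ⊢
    refine Nat.pow_le_pow_right (Fact.out : p.Prime).pos ?_
    rcases Nat.lt_or_ge k 2 with h | h
    · interval_cases k
      · exfalso
        rw [pow_zero, Subgroup.index_eq_one, Subgroup.subgroupOf_eq_top] at hk
        exact (Cfsg.Agent.FusionSysAlperin.essential_lt hS hF hE).not_ge hk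
      · exact absurd (pow_one p) hne
    · exact h
  exact ⟨hidx, Cfsg.Agent.MaxClassEssIndex59.index_p p hS n hn h4 hmax F hF hp Γ₁ hΓ₁ E hE hEn hidx⟩

end Cfsg.Agent.S5269
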