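import Cfsg.Statements.S5270
import Cfsg.Agent.Lib.FusionSysAlperin
import Cfsg.Agent.Lib.FusionWeakAlperin
import Cfsg.Agent.Lib.MaxClassTwo
import Cfsg.Agent.Lib.HallCore

set_option autoImplicit false
open Cfsg

namespace Cfsg.Agent.S5270

open Cfsg.FusionSystem Cfsg.Agent.FusionSysBasic Cfsg.Agent.FusionSysSaturated

/-- The second centre of a group of maximal class has order `p ^ 2`, the centre order `p`. -/
theorem card_series {X : Type*} [Group X] [Finite X] {p n : ℕ} [Fact p.Prime] (h4 : 4 ≤ n)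
    (hX : Nat.card X = p ^ n) (hc : Subgroup.lowerCentralSeries (⊤ : Subgroup X) (n - 2) ≠ ⊥) :
    Nat.card (Subgroup.center X) = p ∧ Nat.card (Subgroup.upperCentralSeries X 2) = p ^ 2 := by
  have hP : IsPGroup p X := IsPGroup.of_card hX
  haveI := hP.isNilpotent
  have h1 := MaxClassTwo.nilpotencyClass_le (p := p) n X hX (by omega)
  have h2 : ¬ Group.nilpotencyClass X ≤ n - 2 := fun h =>
    hc (Subgroup.lowerCentralSeries_eq_bot_iff_nilpotencyClass_le.2 h)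
  obtain ⟨hZ, hQ, hQc, -⟩ := MaxClassTwo.center_of_maxClass (p := p) (n := n) (by omega) hX (by omega)
  obtain ⟨hZ', -, -, -⟩ := MaxClassTwo.center_of_maxClass (p := p) (n := n - 1) (by omega) hQ (by omega)
  refine ⟨hZ, ?_⟩
  rw [← Subgroup.comap_upperCentralSeries_quotient_center (G := X) 1, Subgroup.upperCentralSeries_one,
    ← HallCore.card_comap_mk', hZ, hZ']
  ring

/-- Let p ≥ 5 be a prime, S a finite p-group of maximal class of order p^n with n ≥ 4, and F a saturated fusion system over S. If some map of F defined on the second centre Z₂(S) with image Z₂(S) does not carry Z(S) into itself, then the centralizer C_S(Z₂(S)) is an F-essential subgroup. -/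
theorem result {Ω : Type*} [Group Ω] {S : Subgroup Ω} [Finite S] (p : ℕ) [Fact p.Prime] (hS : IsPGroup p ↥S) (n : ℕ) (hn : Nat.card S = p ^ n) (h4 : 4 ≤ n) (hmax : Subgroup.lowerCentralSeries S (n - 2) ≠ ⊥) (F : Cfsg.FusionSystem S) (hF : F.IsSaturated p) (hp : 5 ≤ p) (φ : ↥((Subgroup.upperCentralSeries ↥S 2).map S.subtype) →* Ω) (hφ : φ ∈ F.Hom ((Subgroup.upperCentralSeries ↥S 2).map S.subtype)) (hφZ : φ.range = ((Subgroup.upperCentralSeries ↥S 2).map S.subtype)) (hmove : ∃ (z : Ω) (hz : z ∈ ((Subgroup.upperCentralSeries ↥S 2).map S.subtype)), z ∈ ((Subgroup.center ↥S).map S.subtype) ∧ φ ⟨z, hz⟩ ∉ ((Subgroup.center ↥S).map S.subtype)) : F.IsEssential p (S ⊓ Subgroup.centralizer (((Subgroup.upperCentralSeries ↥S 2).map S.subtype) : Set Ω)) := by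
  generalize hZ2def : (Subgroup.upperCentralSeries ↥S 2).map S.subtype = Z2 at φ hφ hφZ hmove ⊢
  generalize hZdef : (Subgroup.center ↥S).map S.subtype = Z at hmove
  set C := S ⊓ Subgroup.centralizer (Z2 : Set Ω) with hCdef
  obtain ⟨hcZ, hcZ2⟩ := card_series (X := ↥S) h4 hn (fun h => hmax (by
    rw [← Subgroup.top_subtype_lowerCentralSeries, h, Subgroup.map_bot]))
  have cZ : Nat.card Z = p := hZdef ▸
    (Subgroup.card_map_of_injective S.subtype_injective).trans hcZ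
  have cZ2 : Nat.card Z2 = p ^ 2 := hZ2def ▸
    (Subgroup.card_map_of_injective S.subtype_injective).trans hcZ2
  have hZ2S : Z2 ≤ S := hZ2def ▸ Subgroup.map_subtype_le _
  have hZS : Z ≤ S := hZdef ▸ Subgroup.map_subtype_le _
  haveI := finite_of_le hZ2S
  haveI := finite_of_le hZS
  -- `S` acts trivially on `Z2 / Z`
  have hstep : ∀ s ∈ S, ∀ z ∈ Z2, z⁻¹ * cj s z ∈ Z := by
    rw [← hZ2def, ← hZdef]
    rintro s hs _ ⟨z, hz, rfl⟩
    refine ⟨z⁻¹ * (⟨s, hs⟩ * z * ⟨s, hs⟩⁻¹), ?_, by simp [cj_apply]⟩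
    have h := Subgroup.mem_upperCentralSeries_succ_iff.1 ((Subgroup.upperCentralSeries ↥S 2).inv_mem hz) ⟨s, hs⟩
    rw [Subgroup.upperCentralSeries_one, commutatorElement_def, inv_inv] at h
    simpa [mul_assoc] using h
  have hZZ2 : Z ≤ Z2 := hZdef ▸ hZ2def ▸ Subgroup.map_mono (by
    rw [← Subgroup.upperCentralSeries_one]
    exact Subgroup.upperCentralSeries_mono ↥S (by omega))
  have hZc : ∀ s ∈ S, ∀ z ∈ Z, cj s z = z := by
    rw [← hZdef]
    rintro s hs _ ⟨z, hz, rfl⟩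
    have h := congrArg Subtype.val (Subgroup.mem_center_iff.1 hz ⟨s, hs⟩)
    simp only [Subgroup.coe_mul] at h
    simp only [cj_apply, Subgroup.coe_subtype]
    rw [h, mul_inv_cancel_right]
  obtain ⟨z₀, hz₀, hz₀Z⟩ : ∃ z ∈ Z2, z ∉ Z := SetLike.exists_of_lt (lt_of_le_of_ne hZZ2 fun e => by
    rw [e, cZ2] at cZ
    have := Nat.pow_eq_self_iff (Fact.out : p.Prime).one_lt |>.1 cZ
    omega)
  have hgen : Z ⊔ Subgroup.zpowers z₀ = Z2 := by
    refine Subgroup.eq_of_le_of_card_ge (sup_le hZZ2 (Subgroup.zpowers_le.2 hz₀)) ?_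
    haveI := finite_of_le (S := S) (sup_le hZS ((Subgroup.zpowers_le.2 hz₀).trans hZ2S) :
      Z ⊔ Subgroup.zpowers z₀ ≤ S)
    have hdvd : Nat.card ↥(Z ⊔ Subgroup.zpowers z₀) ∣ p ^ 2 :=
      cZ2 ▸ Subgroup.card_dvd_of_le (sup_le hZZ2 (Subgroup.zpowers_le.2 hz₀))
    obtain ⟨i, hi, hic⟩ := (Nat.dvd_prime_pow (Fact.out : p.Prime)).1 hdvd
    have hlt : Nat.card Z < Nat.card ↥(Z ⊔ Subgroup.zpowers z₀) :=
      lt_of_le_of_ne (Subgroup.card_le_of_le le_sup_left) fun e => hz₀Z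
        ((Subgroup.eq_of_le_of_card_ge le_sup_left e.ge).symm ▸
          Subgroup.mem_sup_right (Subgroup.mem_zpowers z₀))
    rw [hic, cZ] at hlt
    have : i = 2 := by
      by_contra hne
      have : p ^ i ≤ p ^ 1 := Nat.pow_le_pow_right (Fact.out : p.Prime).pos (by omega)
      rw [pow_one] at this
      omega
    rw [hic, this, cZ2]
  -- the commutator map with `z₀`
  have hCmem : ∀ s, s ∈ C ↔ s ∈ S ∧ cj s z₀ = z₀ := by
    intro s
    refine ⟨fun h => ⟨h.1, (mem_centralizerIn.1 h).2 z₀ hz₀⟩, fun ⟨hs, h⟩ =>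
      mem_centralizerIn.2 ⟨hs, fun x hx => ?_⟩⟩
    let K : Subgroup Ω :=
      { carrier := {x | cj s x = x}
        one_mem' := by simp [cj_apply]
        mul_mem' := fun {a b} (ha : cj s a = a) (hb : cj s b = b) => by
          show cj s (a * b) = a * b
          conv_rhs => rw [← ha, ← hb]
          simp [cj_apply, mul_assoc]
        inv_mem' := fun {a} (ha : cj s a = a) => by
          show cj s a⁻¹ = a⁻¹
          conv_rhs => rw [← ha]
          simp [cj_apply, mul_assoc] }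
    exact (sup_le (fun y hy => hZc s hs y hy) (Subgroup.zpowers_le.2 h) : Z ⊔ _ ≤ K) (hgen.ge hx)
  let δ : ↥S →* ↥Z :=
    { toFun := fun s => ⟨z₀⁻¹ * cj (s : Ω) z₀, hstep s s.2 z₀ hz₀⟩
      map_one' := Subtype.ext (by simp [cj_apply])
      map_mul' := fun s u => Subtype.ext (by
        have hu := hZc s s.2 _ (hstep u u.2 z₀ hz₀)
        simp only [Subgroup.coe_mul]
        calc z₀⁻¹ * cj ((s : Ω) * u) z₀
            = z₀⁻¹ * cj (s : Ω) z₀ * cj (s : Ω) (z₀⁻¹ * cj (u : Ω) z₀) := by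
              simp only [cj_apply]; group
          _ = _ := by rw [hu]) }
  have hδ : ∀ s : ↥S, δ s = 1 ↔ (s : Ω) ∈ C := by
    intro s
    rw [hCmem]
    refine ⟨fun h => ⟨s.2, ?_⟩, fun h => Subtype.ext (show z₀⁻¹ * cj (s : Ω) z₀ = 1 by
      rw [h.2, inv_mul_cancel])⟩
    have h' : z₀⁻¹ * cj (s : Ω) z₀ = 1 := congrArg Subtype.val h
    exact (inv_mul_eq_one.1 h').symm
  have hCS : C ≤ S := inf_le_left
  have hCne : C ≠ S := by
    intro e
    refine hz₀Z ?_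
    rw [← hZdef]
    refine ⟨⟨z₀, hZ2S hz₀⟩, Subgroup.mem_center_iff.2 fun s => Subtype.ext ?_, rfl⟩
    have h := ((hCmem (s : Ω)).1 (e.ge s.2)).2
    exact mul_inv_eq_iff_eq_mul.1 h
  have hCn : ∀ g ∈ S, ∀ x ∈ C, cj g x ∈ C := by
    intro g hg x hx
    rw [hCmem]
    refine ⟨cj_mem_S hg hx.1, ?_⟩
    have h1 : δ ⟨cj g x, cj_mem_S hg hx.1⟩ = 1 := by
      have : (⟨cj g x, cj_mem_S hg hx.1⟩ : ↥S) = ⟨g, hg⟩ * ⟨x, hx.1⟩ * ⟨g, hg⟩⁻¹ := rfl
      rw [this, map_mul, map_mul, (hδ ⟨x, hx.1⟩).2 hx, mul_one, map_inv, mul_inv_cancel]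
    exact ((hCmem _).1 ((hδ _).1 h1)).2
  have hmax' : ∀ Q : Subgroup Ω, C < Q → Q ≤ S → Q = S := by
    intro Q hCQ hQS
    obtain ⟨u, huQ, huC⟩ := SetLike.exists_of_lt hCQ
    refine le_antisymm hQS fun w hw => ?_
    have hne : δ ⟨u, hQS huQ⟩ ≠ 1 := fun h => huC ((hδ _).1 h)
    obtain ⟨k, hk⟩ := Subgroup.mem_zpowers_iff.1
      (mem_zpowers_of_prime_card (p := p) cZ (g' := δ ⟨w, hw⟩) hne)
    have hc : (((⟨u, hQS huQ⟩ : ↥S) ^ k)⁻¹ * ⟨w, hw⟩ : ↥S).1 ∈ C :=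
      (hδ _).1 (by rw [map_mul, map_inv, map_zpow, hk, inv_mul_cancel])
    have := Q.mul_mem (Q.zpow_mem huQ k) (hCQ.le hc)
    simpa using this
  have hCfn : F.IsFullyNormalized C := FusionWeakAlperin.fullyNormalized_of_normal hCS hCn
  have hZ2n : ∀ g ∈ S, ∀ z ∈ Z2, cj g z ∈ Z2 := fun g hg z hz => by
    have := Z2.mul_mem hz (hZZ2 (hstep g hg z hz))
    rwa [mul_inv_cancel_left] at this
  have hZ2fn : F.IsFullyNormalized Z2 := FusionWeakAlperin.fullyNormalized_of_normal hZ2S hZ2n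
  have hZC : Z ≤ C := fun y hy => (hCmem y).2 ⟨hZS hy, by
    have hh := hZc z₀ (hZ2S hz₀) y hy
    simp only [cj_apply] at hh ⊢
    rw [mul_inv_eq_iff_eq_mul] at hh ⊢
    exact hh.symm⟩
  -- the automorphisms fixing the centre
  let H : Subgroup (MulAut ↥C) :=
    { carrier := {γ | γ ∈ F.autGroup C ∧ ∀ z ∈ Z, afun γ z ∈ Z}
      one_mem' := ⟨one_mem _, fun z hz => by rwa [afun_one (hZC hz)]⟩
      mul_mem' := fun {a b} ha hb => ⟨mul_mem ha.1 hb.1, fun z hz => by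
        rw [afun_mul _ _ (hZC hz)]
        exact ha.2 _ (hb.2 z hz)⟩
      inv_mem' := fun {a} ha => ⟨inv_mem ha.1, fun z hz => by
        have hm := ((mem_autGroup hCS).1 ha.1).restrict_to hZC
        obtain ⟨y, hy, rfl⟩ := hm.mem_im.1 ((hm.im_self ha.2).ge hz)
        rwa [afun_inv_apply a (hZC hy)]⟩ }
  refine (FusionSysAlperin.essential_of_ne hS hF (lt_of_le_of_ne hCS hCne) hCfn
    (H := H) (fun γ hγ => hγ.1) ?_ ?_).1
  · intro e
    obtain ⟨z, hz, hzc, hzm⟩ := hmove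
    have hφm := mor_toFun hφ
    have him : im Z2 (toFun φ) = Z2 :=
      (Mor.range_eq_im hφ fun x => (toFun_coe φ x).symm).symm.trans hφZ
    obtain ⟨f, hf, hag, hfC⟩ := exists_extension_centralizer
      (receptive_of_fullyNormalized hS hF hZ2fn) hφm him
    obtain ⟨γ, hγ, hγe⟩ := (hf.restrict_to (le_sup_right : C ≤ _)).exists_aut
      ((hf.restrict_to le_sup_right).im_self hfC)
    rw [← e] at hγ
    refine hzm ?_
    have h := hγ.2 z hzc
    rwa [hγe z (hZC hzc), hag z hz, toFun_apply φ hz] at h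
  · intro γ hext
    refine ⟨hext.mem_autGroup, fun z hz => ?_⟩
    obtain ⟨Q, hCQ, f, hf, he⟩ := hext
    have hQ := hmax' Q hCQ hf.le
    subst hQ
    rw [← he z (hZC hz)]
    have hfz := hf.apply_mem (hZS hz)
    rw [← hZdef]
    refine ⟨⟨f z, hfz⟩, Subgroup.mem_center_iff.2 fun s => Subtype.ext ?_, rfl⟩
    obtain ⟨x, hx, hxs⟩ := hf.mem_im.1 ((hf.im_self fun x hx => hf.apply_mem hx).ge s.2)
    show (s : Ω) * f z = f z * s
    rw [← hxs, ← hf.map_mul hx (hZS hz), ← hf.map_mul (hZS hz) hx]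
    exact congrArg f (mul_inv_eq_iff_eq_mul.1 (hZc x hx z hz))

end Cfsg.Agent.S5270
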