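import Cfsg.Statements.S5271
import Mathlib
import Cfsg.Agent.Lib.FusionFocal
import Cfsg.Agent.Lib.FusionCriteria
import Cfsg.Agent.Lib.PGroupsBasic
import Cfsg.Agent.Lib.TransferPResidual
import Cfsg.Agent.S5132
import Cfsg.Agent.S5134
import Cfsg.Agent.S5256

set_option autoImplicit false
open Cfsg

namespace Cfsg.Agent.S5271

set_option linter.style.haveILetI false
set_option linter.unusedSectionVars false


universe u

open Cfsg.FusionSystem Cfsg.Agent.FusionSysBasic Cfsg.Agent.FusionSysNormal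
  Cfsg.Agent.FusionSysSaturated Cfsg.Agent.FusionPuig Cfsg.Agent.FusionNilReduction

variable {Ω : Type u} [Group Ω] {S : Subgroup Ω} [Finite S] {F : FusionSystem S} {p : ℕ}
  [hp : Fact p.Prime]

theorem closed_inf {A B : Subgroup Ω} (hA : F.StronglyClosed A) (hB : F.StronglyClosed B) :
    F.StronglyClosed (A ⊓ B) :=
  stronglyClosed_iff.mpr ⟨inf_le_left.trans hA.1, fun _ _ hP hf x hx =>
    ⟨stronglyClosed_invariant hA hf hx (hP hx).1, stronglyClosed_invariant hB hf hx (hP hx).2⟩⟩

/-- The product of two strongly closed subgroups is strongly closed. -/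
theorem closed_sup (hS : IsPGroup p S) (hF : F.IsSaturated p) {A B : Subgroup Ω}
    (hA : F.StronglyClosed A) (hB : F.StronglyClosed B) : F.StronglyClosed (A ⊔ B) := by
  refine stronglyClosed_iff.mpr ⟨sup_le hA.1 hB.1, fun P f hP hf x hx => ?_⟩
  obtain ⟨g, hg, hgc⟩ := exists_map_mod hS hF hB hf
  obtain ⟨a, ha, b, hb, he⟩ := exists_mul_of_mem_sup hB hA.1 (hP hx)
  have haP : a ∈ P ⊔ B := by
    rw [show a = x * b⁻¹ by rw [he, mul_inv_cancel_right]]
    exact mul_mem (Subgroup.mem_sup_left hx) (inv_mem (Subgroup.mem_sup_right hb))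
  have h1 : g x ∈ A ⊔ B := by
    rw [he, hg.map_mul haP (Subgroup.mem_sup_right hb)]
    exact mul_mem (Subgroup.mem_sup_left (stronglyClosed_invariant hA hg haP ha))
      (Subgroup.mem_sup_right (stronglyClosed_invariant hB hg (Subgroup.mem_sup_right hb) hb))
  have h2 : (f x)⁻¹ * g x ∈ A ⊔ B := Subgroup.mem_sup_right (hgc x hx)
  have := mul_mem h1 (inv_mem h2)
  simpa [mul_assoc] using this

/-- Subgroups of a `p`-group of intermediate order. -/
theorem exists_between (hS : IsPGroup p S) {A B : Subgroup Ω} (hAB : A ≤ B) (hBS : B ≤ S) {e : ℕ}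
    (h1 : Nat.card A ≤ p ^ e) (h2 : p ^ e ≤ Nat.card B) :
    ∃ Q : Subgroup Ω, A ≤ Q ∧ Q ≤ B ∧ Nat.card Q = p ^ e := by
  haveI := finite_of_le hBS
  have hB : IsPGroup p B := hS.to_le hBS
  obtain ⟨b, hb⟩ := IsPGroup.iff_card.mp hB
  obtain ⟨a, ha⟩ := IsPGroup.iff_card.mp (hB.to_subgroup (A.subgroupOf B))
  have hA' : Nat.card (A.subgroupOf B) = Nat.card A :=
    Nat.card_congr (Subgroup.subgroupOfEquivOfLe hAB).toEquiv
  have hae : a ≤ e := (Nat.pow_le_pow_iff_right hp.out.one_lt).mp (by rw [← ha, hA']; exact h1)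
  have heb : e ≤ b := (Nat.pow_le_pow_iff_right hp.out.one_lt).mp (hb ▸ h2)
  obtain ⟨K, hK, hAK⟩ := Sylow.exists_subgroup_card_pow_prime_le p
    (hb ▸ pow_dvd_pow p heb : p ^ e ∣ Nat.card B) (A.subgroupOf B) ha hae
  refine ⟨K.map B.subtype, fun x hx => ⟨⟨x, hAB hx⟩, hAK hx, rfl⟩, Subgroup.map_subtype_le K, ?_⟩
  rw [Subgroup.card_map_of_injective B.subtype_injective, hK]

/-- Every subgroup of order `p ^ e` is weakly embedded. -/
def Emb (F : FusionSystem S) (p e : ℕ) : Prop :=
  ∀ Q : Subgroup Ω, Q ≤ S → Nat.card Q = p ^ e →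
    ∃ P : Subgroup Ω, F.StronglyClosed P ∧ F.StronglyClosed (Q ⊔ P) ∧ F.StronglyClosed (Q ⊓ P)

/-- Between strongly closed subgroups there is a strongly closed subgroup of order `p ^ e`. -/
theorem exists_closed (hS : IsPGroup p S) (hF : F.IsSaturated p) {e : ℕ} (hE : Emb F p e)
    {C B : Subgroup Ω} (hC : F.StronglyClosed C) (hB : F.StronglyClosed B) (hCB : C ≤ B)
    (h1 : Nat.card C ≤ p ^ e) (h2 : p ^ e ≤ Nat.card B) :
    ∃ A : Subgroup Ω, F.StronglyClosed A ∧ C ≤ A ∧ A ≤ B ∧ Nat.card A = p ^ e := by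
  set s : Set (Subgroup Ω) :=
    {A | F.StronglyClosed A ∧ C ≤ A ∧ A ≤ B ∧ Nat.card A ≤ p ^ e}
  have hsfin : s.Finite := (finite_le_S (S := S)).subset fun A hA => hA.1.1
  obtain ⟨A, ⟨hA, hCA, hAB, hAc⟩, hAmax⟩ := hsfin.exists_maximal ⟨C, hC, le_rfl, hCB, h1⟩
  refine ⟨A, hA, hCA, hAB, hAc.antisymm ?_⟩
  by_contra hlt
  rw [not_le] at hlt
  set t : Set (Subgroup Ω) := {D | F.StronglyClosed D ∧ A < D ∧ D ≤ B}
  have htfin : t.Finite := (finite_le_S (S := S)).subset fun D hD => hD.1.1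
  have hAB' : A < B := lt_of_le_of_ne hAB fun h => by rw [h] at hlt; omega
  obtain ⟨D, ⟨hD, hAD, hDB⟩, hDmin⟩ := htfin.exists_minimal ⟨B, hB, hAB', le_rfl⟩
  have hDc : p ^ e < Nat.card D := by
    by_contra! h
    exact hAD.not_ge (hAmax ⟨hD, hCA.trans hAD.le, hDB, h⟩ hAD.le)
  obtain ⟨Q, hAQ, hQD, hQc⟩ := exists_between hS hAD.le hD.1 hAc hDc.le
  obtain ⟨P, hP, hQP, hQP'⟩ := hE Q (hQD.trans hD.1) hQc
  haveI := finite_of_le (hQD.trans hD.1)
  -- `Q ⊓ P` lies in `A`
  have h3 : Q ⊓ P ≤ A := by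
    have hle : A ⊔ (Q ⊓ P) ≤ Q := sup_le hAQ inf_le_left
    exact le_sup_right.trans (hAmax ⟨closed_sup hS hF hA hQP', hCA.trans le_sup_left,
      hle.trans (hQD.trans hDB), hQc ▸ Subgroup.card_le_of_le hle⟩ le_sup_left)
  have hAQ' : A < Q := lt_of_le_of_ne hAQ fun h => by rw [h, hQc] at hlt; omega
  have h4 : D ≤ Q ⊔ P := by
    have hmem : (Q ⊔ P) ⊓ D ∈ t := ⟨closed_inf hQP hD,
      hAQ'.trans_le (le_inf le_sup_left hQD), inf_le_right.trans hDB⟩
    exact (hDmin hmem inf_le_right).trans inf_le_left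
  have h5 : A ⊔ P ⊓ D = A ∨ A ⊔ P ⊓ D = D := by
    have hle : A ⊔ P ⊓ D ≤ D := sup_le hAD.le inf_le_right
    rcases (le_sup_left : A ≤ A ⊔ P ⊓ D).eq_or_lt with h | h
    · exact Or.inl h.symm
    · exact Or.inr (hle.antisymm (hDmin ⟨closed_sup hS hF hA (closed_inf hP hD), h,
        hle.trans hDB⟩ hle))
  rcases h5 with h5 | h5
  · -- then `D` lies in `Q`
    have hPD : P ⊓ D ≤ A := le_sup_right.trans h5.le
    have hDQ : D ≤ Q := fun x hx => by
      obtain ⟨q, hq, t, ht, rfl⟩ := exists_mul_of_mem_sup hP (hQD.trans hD.1) (h4 hx)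
      refine mul_mem hq (hAQ (hPD ⟨ht, ?_⟩))
      have := mul_mem (inv_mem (hQD hq)) hx
      rwa [inv_mul_cancel_left] at this
    have := Subgroup.card_le_of_le hDQ
    omega
  · -- then `Q` lies in `A`
    have hQA : Q ≤ A := fun q hq => by
      have hq' : q ∈ A ⊔ P ⊓ D := h5.ge (hQD hq)
      obtain ⟨a, ha, t, ht, rfl⟩ := exists_mul_of_mem_sup (closed_inf hP hD) hA.1 hq'
      refine mul_mem ha (h3 ⟨?_, ht.1⟩)
      have := mul_mem (inv_mem (hAQ ha)) hq
      rwa [inv_mul_cancel_left] at this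
    exact hAQ'.not_ge hQA

/-- A map agreeing with `α` modulo `B` and of `p`-power order forces `α` to be trivial modulo
`B`, when `α` has order prime to `p`. -/
theorem cong_triv {B T X R : Subgroup Ω} (hB : F.StronglyClosed B) (hXT : X ≤ T) (hXR : X ≤ R)
    {α : MulAut R} {γ : MulAut T} (hγ : Mor F T (afun γ))
    (hα : (orderOf α).Coprime p) (hinv : ∀ x ∈ X, afun α x ∈ X)
    (hc : ∀ x ∈ X, Cong B (afun γ x) (afun α x)) {k : ℕ} (hk : γ ^ p ^ k = 1) :
    ∀ x ∈ X, Cong B x (afun α x) := by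
  have hpow : ∀ n : ℕ, ∀ x ∈ X, afun (α ^ n) x ∈ X ∧ Cong B (afun (γ ^ n) x) (afun (α ^ n) x) := by
    intro n
    induction n with
    | zero =>
      intro x hx
      rw [pow_zero, pow_zero, afun_one (hXR hx), afun_one (hXT hx)]
      exact ⟨hx, cong_refl x⟩
    | succ n ih =>
      intro x hx
      obtain ⟨h1, h2⟩ := ih x hx
      rw [pow_succ', pow_succ', afun_mul _ _ (hXR hx), afun_mul _ _ (hXT hx)]
      exact ⟨hinv _ h1,
        cong_trans (map_cong hB hγ (afun_mem _ (hXT hx)) (hXT h1) h2) (hc _ h1)⟩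
  set β := α ^ p ^ k with hβ
  have hβ1 : ∀ x ∈ X, afun β x ∈ X ∧ Cong B x (afun β x) := fun x hx => by
    obtain ⟨h1, h2⟩ := hpow (p ^ k) x hx
    rw [hk, afun_one (hXT hx)] at h2
    exact ⟨h1, h2⟩
  have hβn : ∀ n : ℕ, ∀ x ∈ X, Cong B x (afun (β ^ n) x) := by
    intro n
    induction n with
    | zero => intro x hx; rw [pow_zero, afun_one (hXR hx)]; exact cong_refl x
    | succ n ih =>
      intro x hx
      rw [pow_succ, afun_mul _ _ (hXR hx)]
      exact cong_trans (hβ1 x hx).2 (ih _ (hβ1 x hx).1)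
  obtain ⟨m, hm⟩ := exists_pow_eq_self_of_coprime (x := α) (n := p ^ k) (hα.pow_right k).symm
  intro x hx
  have := hβn m x hx
  rwa [hβ, hm] at this

/-- The hyperfocal subgroup is generated by `x⁻¹ α(x)` with `α` of order prime to `p`. -/
theorem hyperfocal_le_of {B : Subgroup Ω}
    (h : ∀ R : Subgroup Ω, R ≤ S → ∀ α ∈ F.autGroup R, (orderOf α).Coprime p →
      ∀ x ∈ R, Cong B x (afun α x)) : F.hyperfocalSubgroup p ≤ B := by
  refine (Subgroup.closure_le _).mpr ?_
  rintro _ ⟨R, α, x, hR, hα, rfl⟩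
  haveI := finite_autGroup (F := F) R
  let A : Subgroup (F.autGroup R) :=
    { carrier := {β | ∀ x ∈ R, Cong B x (afun (β : MulAut R) x)}
      one_mem' := fun x hx => by rw [Subgroup.coe_one, afun_one hx]; exact cong_refl x
      mul_mem' := fun {a b} ha hb x hx => by
        rw [Subgroup.coe_mul, afun_mul _ _ hx]
        exact cong_trans (hb x hx) (ha _ (afun_mem _ hx))
      inv_mem' := fun {a} ha x hx => by
        have := ha _ (afun_mem (a : MulAut R)⁻¹ hx)
        rw [afun_apply_inv _ hx] at this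
        exact cong_symm this }
  suffices hA : Cfsg.pResidual p (F.autGroup R) ≤ A by
    have := hA hα x x.2
    rw [afun_coe] at this
    exact this
  rw [Cfsg.Agent.TransferPResidual.pResidual_le_iff_coprime]
  intro β hβ y hy
  exact h R hR _ β.2 (by rwa [Subgroup.orderOf_coe]) y hy

/-- The hyperfocal subgroup lies in every large strongly closed subgroup. -/
theorem hyperfocal_le_large (hS : IsPGroup p S) (hF : F.IsSaturated p) {e : ℕ}
    (hE : Emb F p e) (hN : ∀ U : Subgroup Ω, U ≤ S → Nat.card U = p ^ e → NilAt F p U)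
    (hbot : F.StronglyClosed ⊥) {B : Subgroup Ω} (hB : F.StronglyClosed B)
    (hd : p ^ e ≤ Nat.card B) : F.hyperfocalSubgroup p ≤ B := by
  refine hyperfocal_le_of fun R hR α hα hc => ?_
  obtain ⟨A, hA, -, hAB, hAc⟩ := exists_closed hS hF hE hbot hB bot_le
    (by rw [Subgroup.card_bot]; exact Nat.one_le_pow _ _ hp.out.pos) hd
  obtain ⟨g, hg, hgc⟩ := exists_map_mod hS hF hB ((mem_autGroup hR).mp hα)
  have hm : ∀ y ∈ R ⊔ B, g y ∈ R ⊔ B := fun y hy => apply_mem_sup hB hg
    (fun x hx => ⟨_, afun_mem α hx, hgc x hx⟩) hy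
  obtain ⟨γ, hγ, hγe⟩ := hg.exists_aut (hg.im_self hm)
  have hT : R ⊔ B ≤ S := sup_le hR hB.1
  obtain ⟨k, hk⟩ := hN A hA.1 hAc (R ⊔ B) hT (hAB.trans le_sup_right)
    (hT.trans (FusionPuig.le_normalizer_closed hA)) γ hγ
    fun x hx => stronglyClosed_invariant hA ((mem_autGroup hT).mp hγ) (Subgroup.mem_sup_right (hAB hx)) hx
  exact cong_triv hB le_sup_left le_rfl ((mem_autGroup hT).mp hγ) hc (fun x hx => afun_mem α hx)
    (fun x hx => by rw [hγe x (Subgroup.mem_sup_left hx)]; exact cong_symm (hgc x hx)) hk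

section Quotient

variable {Ω' : Type u} [Group Ω'] {S' : Subgroup Ω'} {θ : S →* Ω'} {B : Subgroup Ω}
  {E : FusionSystem S'}

theorem cong_iff_app (hE : F.IsFactorSystem B θ E) {a b : Ω} (ha : a ∈ S) (hb : b ∈ S) :
    Cong B a b ↔ FusionMorph88.app θ a = FusionMorph88.app θ b := by
  rw [Cong, FusionMorph88.factor_stronglyClosed hE, FusionMorph88.mem_kerAlong,
    FusionMorph88.app_mul (S.inv_mem ha) hb, FusionMorph88.app_inv ha, inv_mul_eq_one]
  exact and_iff_right (S.mul_mem (S.inv_mem ha) hb)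

/-- A step of prime index above `B`. -/
theorem hyperfocal_le_of_index (hS : IsPGroup p S) (hF : F.IsSaturated p) {e : ℕ}
    (hN : ∀ U : Subgroup Ω, U ≤ S → Nat.card U = p ^ e → NilAt F p U)
    {A : Subgroup Ω} (hA : F.StronglyClosed A) (hAc : Nat.card A = p ^ e)
    (hB : F.StronglyClosed B) (hE : F.IsFactorSystem B θ E) {H : Subgroup Ω}
    (hH : F.StronglyClosed H) (hBH : B ≤ H) (hHc : Nat.card H = p * Nat.card B)
    (hhyp : F.hyperfocalSubgroup p ≤ H) : F.hyperfocalSubgroup p ≤ B := by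
  refine hyperfocal_le_of fun R hR α hα hc => ?_
  have hm := (mem_autGroup hR).mp hα
  have hδ : ∀ x ∈ R, x⁻¹ * afun α x ∈ R ⊓ H := fun x hx =>
    ⟨R.mul_mem (R.inv_mem hx) (afun_mem α hx), hhyp (FusionInduct88.gen_mem_hyperfocal hR hα hc hx)⟩
  -- `α` is trivial on `(R ⊓ H) B / B`
  have key : ∀ y ∈ R ⊓ H, Cong B y (afun α y) := by
    by_cases hle : R ⊓ H ≤ B
    · intro y hy
      exact mul_mem (inv_mem (hle hy))
        (hle ⟨afun_mem α hy.1, stronglyClosed_invariant hH hm hy.1 hy.2⟩)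
    obtain ⟨y₀, hy₀, hy₀B⟩ := SetLike.not_le_iff_exists.mp hle
    have hsurj := S5134.result p hS F hF B hB θ E hE
    have hEsat := FusionMorph88.saturated_of_surjective hS hF hsurj
    have hrange : θ.range = S' := hE.2.2.1
    haveI : Finite S' := hrange ▸ Finite.of_surjective _ θ.rangeRestrict_surjective
    have hS' : IsPGroup p S' := hrange ▸ hS.of_surjective _ θ.rangeRestrict_surjective
    set H' := imageAlong θ H with hH'
    have hH'S : H' ≤ S' := hrange ▸ FusionMorph88.imageAlong_le_range H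
    -- its order is `p`
    have hH'c : Nat.card H' = p := by
      let f : H →* Ω' := θ.comp (Subgroup.inclusion hH.1)
      have hf : ∀ x : H, f x = FusionMorph88.app θ x := fun x =>
        (FusionMorph88.app_apply θ (hH.1 x.2)).symm
      have hker : f.ker = B.subgroupOf H := by
        ext x
        rw [MonoidHom.mem_ker, Subgroup.mem_subgroupOf, FusionMorph88.factor_stronglyClosed hE,
          FusionMorph88.mem_kerAlong, hf]
        exact (and_iff_right (hH.1 x.2)).symm
      have hran : f.range = H' := by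
        ext y
        rw [MonoidHom.mem_range, FusionMorph88.mem_imageAlong]
        exact ⟨fun ⟨x, hx⟩ => ⟨x, x.2, hH.1 x.2, (hf x).symm.trans hx⟩,
          fun ⟨x, hx, _, e⟩ => ⟨⟨x, hx⟩, (hf _).trans e⟩⟩
      have h := f.ker.card_mul_index
      rw [Subgroup.index_ker, hran, hker, Nat.card_congr (Subgroup.subgroupOfEquivOfLe hBH).toEquiv,
        hHc, mul_comm p] at h
      haveI := finite_of_le hB.1
      exact Nat.eq_of_mul_eq_mul_left Nat.card_pos h
    -- it is normal, so central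
    have hnorm : ∀ g ∈ S', ∀ z ∈ H', cj g z ∈ H' := by
      intro g hg z hz
      obtain ⟨s, hs⟩ := MonoidHom.mem_range.mp (hrange.ge hg)
      obtain ⟨x, hx, hxS, rfl⟩ := FusionMorph88.mem_imageAlong.mp hz
      rw [← hs, ← FusionMorph88.app_apply θ s.2, ← FusionMorph88.app_cj s.2 hxS]
      exact FusionMorph88.app_mem_imageAlong (FusionPuig.cj_mem_closed hH s.2 hx) hH.1
    have hCS : centralizerIn S' H' = S' := by
      refine le_antisymm inf_le_left fun g hg => mem_centralizerIn.mpr ⟨hg, fun z hz => ?_⟩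
      haveI : (H'.subgroupOf S').Normal := ⟨fun z hz g => hnorm g g.2 z hz⟩
      have hcen := PGroupsBasic.le_center_of_card_eq_prime hS' (N := H'.subgroupOf S')
        ((Nat.card_congr (Subgroup.subgroupOfEquivOfLe hH'S).toEquiv).trans hH'c)
      have := congrArg Subtype.val
        (Subgroup.mem_center_iff.mp (hcen (show (⟨z, hH'S hz⟩ : S') ∈ H'.subgroupOf S' from hz))
          ⟨g, hg⟩)
      show cj g z = z
      rw [cj_apply, show g * z = z * g from this, mul_inv_cancel_right]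
    have hrec := receptive_of_fullyNormalized hS' hEsat
      (FusionWeakAlperin.fullyNormalized_of_normal hH'S hnorm)
    -- `R ⊓ H` covers it
    have hcov : imageAlong θ (R ⊓ H) = H' := by
      have hle' : imageAlong θ (R ⊓ H) ≤ H' := fun z hz => by
        obtain ⟨x, hx, hxS, rfl⟩ := FusionMorph88.mem_imageAlong.mp hz
        exact FusionMorph88.app_mem_imageAlong hx.2 hH.1
      rcases PGroupsBasic.le_or_inf_eq_bot hH'c (imageAlong θ (R ⊓ H)) with h | h
      · exact hle'.antisymm h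
      · exfalso
        rw [inf_eq_right.mpr hle'] at h
        have h1 : FusionMorph88.app θ y₀ ∈ (⊥ : Subgroup Ω') :=
          h ▸ FusionMorph88.app_mem_imageAlong hy₀ (inf_le_right.trans hH.1)
        refine hy₀B ?_
        rw [FusionMorph88.factor_stronglyClosed hE, FusionMorph88.mem_kerAlong]
        exact ⟨hH.1 hy₀.2, Subgroup.mem_bot.mp h1⟩
    obtain ⟨f₁, hf₁, hf₁e⟩ := FusionMorph88.morphism_mor hsurj.1
      (hm.restrict_to (inf_le_left : R ⊓ H ≤ R))
    rw [hcov] at hf₁
    have hmaps : ∀ z ∈ H', f₁ z ∈ H' := fun z hz => by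
      obtain ⟨x, hx, -, rfl⟩ := FusionMorph88.mem_imageAlong.mp (hcov.ge hz)
      rw [hf₁e x hx]
      exact FusionMorph88.app_mem_imageAlong (stronglyClosed_invariant hH hm hx.1 hx.2) hH.1
    obtain ⟨f₂, hf₂, hf₂e, -⟩ := exists_extension_centralizer hrec hf₁ (hf₁.im_self hmaps)
    rw [hCS, sup_eq_right.mpr hH'S] at hf₂
    -- lift to an automorphism of `S`
    obtain ⟨ψ, hψ, hψe⟩ := FusionMorph88.surjective_mor hsurj hf₂
    have hpre : preimageAlong θ S' = S :=
      le_antisymm (FusionMorph88.preimageAlong_le θ S') fun x hx =>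
        FusionMorph88.mem_preimageAlong.mpr ⟨hx, by
          rw [FusionMorph88.app_apply θ hx]; exact hrange.le ⟨_, rfl⟩⟩
    rw [hpre] at hψ hψe
    obtain ⟨γ, hγ, hγe⟩ := hψ.exists_aut (hψ.im_self fun x hx => hψ.apply_mem hx)
    obtain ⟨k, hk⟩ := hN A hA.1 hAc S le_rfl hA.1 (FusionPuig.le_normalizer_closed hA) γ hγ
      fun x hx => stronglyClosed_invariant hA ((mem_autGroup le_rfl).mp hγ) (hA.1 hx) hx
    refine cong_triv hB (inf_le_right.trans hH.1) inf_le_left ((mem_autGroup le_rfl).mp hγ) hc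
      (fun x hx => ⟨afun_mem α hx.1, stronglyClosed_invariant hH hm hx.1 hx.2⟩) (fun x hx => ?_) hk
    have hxS := hH.1 hx.2
    rw [cong_iff_app hE (afun_mem γ hxS) (hR (afun_mem α hx.1)), hγe x hxS, ← hψe x hxS,
      hf₂e _ (hcov ▸ FusionMorph88.app_mem_imageAlong hx (inf_le_right.trans hH.1)), hf₁e x hx]
  intro x hx
  -- `x⁻¹ α^n x ≡ (x⁻¹ α x)^n`
  set δ := x⁻¹ * afun α x with hδdef
  have hn : ∀ n : ℕ, x⁻¹ * afun (α ^ n) x ∈ R ⊓ H ∧ Cong B (δ ^ n) (x⁻¹ * afun (α ^ n) x) := by
    intro n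
    induction n with
    | zero => rw [pow_zero, pow_zero, afun_one hx, inv_mul_cancel]; exact ⟨one_mem _, cong_refl 1⟩
    | succ n ih =>
      obtain ⟨hu, hcu⟩ := ih
      have h1 : x⁻¹ * afun (α ^ (n + 1)) x = δ * afun α (x⁻¹ * afun (α ^ n) x) := by
        rw [pow_succ' α n, afun_mul _ _ hx, hm.map_mul (inv_mem hx) (afun_mem _ hx),
          hm.map_inv hx, hδdef]
        group
      rw [h1]
      refine ⟨mul_mem (hδ x hx) ⟨afun_mem α hu.1, stronglyClosed_invariant hH hm hu.1 hu.2⟩, ?_⟩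
      have h2 := cong_trans hcu (key _ hu)
      rw [pow_succ', Cong, mul_inv_rev, mul_assoc, inv_mul_cancel_left]
      exact h2
  have h1 := (hn (orderOf α)).2
  rw [pow_orderOf_eq_one, afun_one hx, inv_mul_cancel, Cong, mul_one] at h1
  have h1' : δ ^ orderOf α ∈ B := inv_mem_iff.mp h1
  obtain ⟨j, hj⟩ := hS ⟨δ, hR (hδ x hx).1⟩
  have hord : orderOf δ ∣ p ^ j := orderOf_dvd_of_pow_eq_one (congrArg Subtype.val hj)
  obtain ⟨i, hi⟩ := exists_pow_eq_self_of_coprime (x := δ) (n := orderOf α)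
    ((hc.pow_right j).coprime_dvd_right hord)
  show δ ∈ B
  rw [← hi]
  exact B.pow_mem h1' i

end Quotient

/-- The hyperfocal subgroup lies in every strongly closed subgroup. -/
theorem hyperfocal_le_closed (hS : IsPGroup p S) (hF : F.IsSaturated p) {e : ℕ}
    (hd : p ^ e < Nat.card S) (hE : Emb F p e)
    (hN : ∀ U : Subgroup Ω, U ≤ S → Nat.card U = p ^ e → NilAt F p U)
    (hbot : F.StronglyClosed ⊥) (hSc : F.StronglyClosed S) :
    ∀ B : Subgroup Ω, F.StronglyClosed B → F.hyperfocalSubgroup p ≤ B := by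
  suffices ∀ n : ℕ, ∀ B : Subgroup Ω, F.StronglyClosed B → Nat.card S ≤ Nat.card B + n →
      F.hyperfocalSubgroup p ≤ B from fun B hB => this _ B hB (Nat.le_add_left _ _)
  intro n
  induction n using Nat.strong_induction_on with
  | _ n IH =>
    intro B hB hn
    haveI := finite_of_le hB.1
    rcases le_or_gt (p ^ e) (Nat.card B) with hbig | hsmall
    · exact hyperfocal_le_large hS hF hE hN hbot hB hbig
    obtain ⟨A, hA, hBA, -, hAc⟩ := exists_closed hS hF hE hB hSc hB.1 hsmall.le hd.le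
    haveI := finite_of_le hA.1
    have hBA' : B < A := lt_of_le_of_ne hBA fun h => by rw [← h] at hAc; omega
    set t : Set (Subgroup Ω) := {H | F.StronglyClosed H ∧ B < H}
    have htfin : t.Finite := (finite_le_S (S := S)).subset fun H hH => hH.1.1
    obtain ⟨H, hHA, hH, hHmin⟩ : ∃ H, H ≤ A ∧ H ∈ t ∧ ∀ K ∈ t, K ≤ H → H ≤ K := by
      obtain ⟨H, hHA, h⟩ := htfin.exists_le_minimal (show A ∈ t from ⟨hA, hBA'⟩)
      exact ⟨H, hHA, h.1, fun K hK hKH => h.2 hK hKH⟩
    obtain ⟨hH, hBH⟩ := hH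
    haveI := finite_of_le hH.1
    have hHB : Nat.card B < Nat.card H := lt_of_le_of_ne (Subgroup.card_le_of_le hBH.le)
      fun h => hBH.ne (eq_of_le_of_card_ge hH.1 hBH.le h.ge)
    have hhypH : F.hyperfocalSubgroup p ≤ H :=
      IH (Nat.card S - Nat.card H) (by have := Subgroup.card_le_of_le hH.1; omega) H hH (by omega)
    haveI hBn : (B.subgroupOf S).Normal :=
      ⟨fun q hq g => show cj (g : Ω) (q : Ω) ∈ B from FusionPuig.cj_mem_closed hB g.2 hq⟩
    obtain ⟨S', hS'top⟩ : ∃ S' : Subgroup (↥S ⧸ B.subgroupOf S), S' = ⊤ := ⟨_, rfl⟩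
    obtain ⟨θ, hθ⟩ : ∃ θ : ↥S →* ↥S ⧸ B.subgroupOf S, θ = QuotientGroup.mk' _ := ⟨_, rfl⟩
    obtain ⟨E, hEf⟩ : ∃ E : FusionSystem S', F.IsFactorSystem B θ E := by
      subst hS'top hθ; exact S5132.result p hS F B hB
    by_cases hall : ∀ K, F.StronglyClosed K → B < K → H ≤ K
    swap
    · push_neg at hall
      obtain ⟨K, hK, hBK, hHK⟩ := hall
      have hKH : K ⊓ H = B := by
        by_contra h
        exact hHK ((hHmin (K ⊓ H) ⟨closed_inf hK hH,
          lt_of_le_of_ne (le_inf hBK.le hBH.le) (Ne.symm h)⟩ inf_le_right).trans inf_le_left)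
      haveI := finite_of_le hK.1
      have hKc : Nat.card B < Nat.card K := lt_of_le_of_ne (Subgroup.card_le_of_le hBK.le)
        fun h => hBK.ne (eq_of_le_of_card_ge hK.1 hBK.le h.ge)
      rw [← hKH]
      exact le_inf (IH (Nat.card S - Nat.card K)
        (by have := Subgroup.card_le_of_le hK.1; omega) K hK (by omega)) hhypH
    by_cases hidx : Nat.card H = p * Nat.card B
    · exact hyperfocal_le_of_index hS hF hN hA hAc hB hEf hH hBH.le hidx hhypH
    have hsurj := S5134.result p hS F hF B hB θ E hEf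
    have hEsat := FusionMorph88.saturated_of_surjective hS hF hsurj
    haveI : Finite S' := inferInstance
    have hS' : IsPGroup p S' := (hS.to_quotient _).to_subgroup S'
    have hhypE := S5256.result p hS F hF B hB θ E hEf
    have hH'le : imageAlong θ H ≤ (frattini ↥S').map S'.subtype := by
      intro z hz
      refine ⟨⟨z, hS'top ▸ Subgroup.mem_top z⟩, ?_, rfl⟩
      by_contra hnot
      simp only [frattini, Order.radical, SetLike.mem_coe, Subgroup.mem_iInf, Set.mem_setOf_eq, not_forall] at hnot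
      obtain ⟨M', hM', hzM⟩ := hnot
      let θ' : ↥S →* S' := θ.codRestrict S' fun _ => hS'top ▸ Subgroup.mem_top _
      have hθ' : Function.Surjective θ' := fun w => by
        obtain ⟨x, hx⟩ := QuotientGroup.mk'_surjective (B.subgroupOf S) (w : ↥S ⧸ B.subgroupOf S)
        exact ⟨x, Subtype.ext ((congrArg (fun f => f x) hθ).trans hx)⟩
      set M₀ := M'.comap θ'
      have hM₀ : M₀.index = p := by
        rw [Subgroup.index_comap_of_surjective M' hθ', PGroupsBasic.index_of_isCoatom hS' hM']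
      haveI : M₀.Normal := PGroupsBasic.normal_of_index_eq hS hM₀
      set M := M₀.map S.subtype with hMdef
      have hMS : M ≤ S := Subgroup.map_subtype_le M₀
      haveI := finite_of_le hMS
      have hMc : Nat.card M * p = Nat.card S := by
        rw [hMdef, Subgroup.card_map_of_injective S.subtype_injective, ← hM₀,
          Subgroup.card_mul_index]
      have hBM : B ≤ M := fun x hx => by
        refine ⟨⟨x, hB.1 hx⟩, ?_, rfl⟩
        show θ' ⟨x, hB.1 hx⟩ ∈ M'
        have h1 : θ' ⟨x, hB.1 hx⟩ = 1 :=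
          Subtype.ext (by show θ ⟨x, hB.1 hx⟩ = 1; rw [hθ]; exact (QuotientGroup.eq_one_iff _).mpr hx)
        rw [h1]; exact one_mem M'
      have hHM : ¬ H ≤ M := fun h => by
        obtain ⟨x, hx, hxS, hxz⟩ := FusionMorph88.mem_imageAlong.mp hz
        obtain ⟨⟨x', hx'⟩, hx'M, rfl⟩ := h hx
        refine hzM ?_
        have h1 : θ' ⟨x', hx'⟩ ∈ M' := hx'M
        have h2 : θ' ⟨x', hx'⟩ = ⟨z, hS'top ▸ Subgroup.mem_top z⟩ := Subtype.ext (by
          rw [← hxz, FusionMorph88.app_apply θ hxS]; rfl)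
        rwa [h2] at h1
      have hHS := hH.1
      have hde : p ^ e ≤ Nat.card M := by
        obtain ⟨s, hs⟩ := IsPGroup.iff_card.mp hS
        obtain ⟨m, hm⟩ := IsPGroup.iff_card.mp (hS.to_le hMS)
        rw [hs] at hd hMc
        rw [hm] at hMc ⊢
        rw [← pow_succ] at hMc
        have := Nat.pow_right_injective hp.out.two_le hMc
        have := (Nat.pow_lt_pow_iff_right hp.out.one_lt).mp hd
        exact Nat.pow_le_pow_right hp.out.pos (by omega)
      have hMHle : Nat.card ↥(M ⊓ H) ≤ p ^ e := by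
        refine le_trans (Subgroup.card_le_of_le (inf_le_right.trans hHA)) hAc.le
      obtain ⟨Q, hQ1, hQM, hQc⟩ := exists_between hS (inf_le_left : M ⊓ H ≤ M) hMS hMHle hde
      have hBQ : B ≤ Q := (le_inf hBM hBH.le).trans hQ1
      obtain ⟨P, hP, hQP, hQP'⟩ := hE Q (hQM.trans hMS) hQc
      -- strongly closed subgroups above `B` contain `H`
      have habove : ∀ K, F.StronglyClosed K → B ≤ K → K ⊓ H ≠ B → H ≤ K := fun K hK hBK hne =>
        (hHmin (K ⊓ H) ⟨closed_inf hK hH, lt_of_le_of_ne (le_inf hBK hBH.le) (Ne.symm hne)⟩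
          inf_le_right).trans inf_le_left
      -- `M ⊓ H` lies in `B`
      have hMH : M ⊓ H ≤ B := by
        have hcl := closed_sup hS hF hB hP
        by_cases hHP : H ≤ B ⊔ P
        · have h1 : M ⊓ H ≤ B ⊔ Q ⊓ P := fun y hy => by
            obtain ⟨b, hb, t, ht, rfl⟩ := exists_mul_of_mem_sup hP hB.1 (hHP hy.2)
            refine mul_mem (Subgroup.mem_sup_left hb) (Subgroup.mem_sup_right ⟨?_, ht⟩)
            have := mul_mem (inv_mem (hBQ hb)) (hQ1 hy)
            rwa [inv_mul_cancel_left] at this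
          refine fun y hy => ?_
          by_contra hyB
          refine hHM ((habove _ (closed_sup hS hF hB hQP') le_sup_left fun heq => hyB ?_).trans
            ((sup_le hBQ inf_le_left).trans hQM))
          exact heq.le ⟨h1 hy, hy.2⟩
        · have hPB : P ≤ B := by
            by_contra h
            exact hHP (hall _ hcl (lt_of_le_of_ne le_sup_left
              fun he => h (le_sup_right.trans he.ge)))
          rw [sup_eq_left.mpr (hPB.trans hBQ)] at hQP
          have hBQ' : B < Q := lt_of_le_of_ne hBQ fun he => by rw [he] at hsmall; omega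
          exact absurd ((hall Q hQP hBQ').trans hQM) hHM
      -- so the index of `B` in `H` is `p`
      apply hidx
      have hMH' : M ⊓ H = B := hMH.antisymm (le_inf hBM hBH.le)
      set H₀ := H.subgroupOf S
      have hrel : M₀.relIndex H₀ = p := by
        rcases hp.out.eq_one_or_self_of_dvd _ (hM₀ ▸ Subgroup.relIndex_dvd_index_of_normal M₀ H₀)
          with h | h
        · exfalso
          rw [Subgroup.relIndex_eq_one] at h
          exact hHM fun x hx => ⟨⟨x, hHS hx⟩, h hx, rfl⟩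
        · exact h
      have hrel' : (M ⊓ H).relIndex H = p := by
        rw [Subgroup.inf_relIndex_right, ← hrel, ← Subgroup.relIndex_map_map_of_injective M₀ H₀
          S.subtype_injective, ← hMdef, Subgroup.map_subgroupOf_eq_of_le hHS]
      have h := Subgroup.relIndex_mul_relIndex ⊥ (M ⊓ H) H bot_le inf_le_right
      rw [Subgroup.relIndex_bot_left, Subgroup.relIndex_bot_left, hrel', hMH'] at h
      rw [← h, mul_comm]
    -- now Tate
    have hfoc := FusionFocal.focal_eq (F := E) hS' hEsat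
    have h1 : E.hyperfocalSubgroup p ≤ imageAlong θ H := by
      rw [hhypE]
      exact Subgroup.map_mono (Subgroup.comap_mono hhypH)
    have h2 : E.focalSubgroup ≤ ⁅S', S'⁆ := FusionFocal.focal_le_of_le_sup_frattini hS' hEsat
      FusionFocal.commutator_le_focal le_rfl (by
        rw [hfoc]
        exact sup_le ((h1.trans hH'le).trans le_sup_right) le_sup_left)
    have h3 : E.hyperfocalSubgroup p ≤ ⊥ :=
      FusionFocal.hyperfocal_le_of_le_sup_commutator hS' hEsat bot_le
        (fun s _ x hx => by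
          rw [Subgroup.mem_bot] at hx ⊢
          rw [hx, cj_apply, mul_one, mul_inv_cancel])
        (by rw [bot_sup_eq]; exact FusionFocal.hyperfocal_le_focal.trans h2)
    intro x hx
    have hxS : x ∈ S := (hyperfocal_le_large hS hF hE hN hbot hSc hd.le) hx
    have h4 : θ ⟨x, hxS⟩ = 1 := by
      refine Subgroup.mem_bot.mp (h3 ?_)
      rw [hhypE]
      exact ⟨⟨x, hxS⟩, hx, rfl⟩
    rw [hθ] at h4
    exact Subgroup.mem_subgroupOf.mp ((QuotientGroup.eq_one_iff _).mp h4)

/-- A system satisfying the hypotheses is nilpotent. -/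
theorem nil_of_emb (hS : IsPGroup p S) (hF : F.IsSaturated p) {e : ℕ}
    (hd : p ^ e < Nat.card S) (hE : Emb F p e)
    (hN : ∀ U : Subgroup Ω, U ≤ S → Nat.card U = p ^ e → NilAt F p U) : Nil F p := by
  have hbot : F.StronglyClosed ⊥ := stronglyClosed_iff.mpr ⟨bot_le, fun P f hP hf x hx => by
    rw [Subgroup.mem_bot.mp (hP hx), hf.map_one]; exact one_mem _⟩
  have hSc : F.StronglyClosed S :=
    stronglyClosed_iff.mpr ⟨le_rfl, fun _ _ _ hf _ hx => hf.apply_mem hx⟩
  have hhyp := hyperfocal_le_closed hS hF hd hE hN hbot hSc ⊥ hbot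
  intro R hR
  refine isPGroup_of_forall fun α hα => ?_
  haveI := finite_autGroup (F := F) R
  have hpos : 0 < orderOf α := by
    have h0 := orderOf_pos (⟨α, hα⟩ : F.autGroup R)
    rwa [← Subgroup.orderOf_coe] at h0
  obtain ⟨j, m, hm', hjm⟩ := Nat.exists_eq_pow_mul_and_not_dvd hpos.ne' p hp.out.ne_one
  refine ⟨j, afun_ext fun x hx => ?_⟩
  have hc : (orderOf (α ^ p ^ j)).Coprime p :=
    Nat.Coprime.coprime_dvd_left
      (orderOf_dvd_of_pow_eq_one (by rw [← pow_mul, ← hjm, pow_orderOf_eq_one]))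
      ((hp.out.coprime_iff_not_dvd.mpr hm').symm)
  have h := hhyp (FusionInduct88.gen_mem_hyperfocal hR (pow_mem hα _) hc hx)
  rw [Subgroup.mem_bot, inv_mul_eq_one] at h
  rw [afun_one hx]
  exact h.symm

/-- Normal subgroups of `S` are strongly closed in the inner system. -/
theorem closed_of_normal (hinner : ∀ P : Subgroup Ω, F.Hom P = (innerFusionSystem S).Hom P)
    (N : Subgroup S) [hN : N.Normal] : F.StronglyClosed (N.map S.subtype) := by
  refine ⟨Subgroup.map_subtype_le N, fun R hR φ hφ x => ?_⟩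
  rw [hinner] at hφ
  obtain ⟨-, g, hg, he⟩ := hφ
  obtain ⟨y, hy, hyx⟩ := hR x.2
  refine ⟨⟨g, hg⟩ * y * ⟨g, hg⟩⁻¹, hN.conj_mem y hy _, ?_⟩
  rw [he, ← hyx]
  rfl

theorem exists_emb_inner (hS : IsPGroup p S)
    (hinner : ∀ P : Subgroup Ω, F.Hom P = (innerFusionSystem S).Hom P) : Emb F p 1 := by
  intro Q hQ hQc
  rw [pow_one] at hQc
  haveI := hS.isNilpotent
  set Q₀ := Q.subgroupOf S with hQ₀
  have hQ₀c : Nat.card Q₀ = p :=
    (Nat.card_congr (Subgroup.subgroupOfEquivOfLe hQ).toEquiv).trans hQc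
  classical
  obtain ⟨c, hc⟩ := Group.IsNilpotent.nilpotent S
  have hex : ∃ i, Q₀ ≤ Subgroup.upperCentralSeries S i := ⟨c, hc ▸ le_top⟩
  have hi : Nat.find hex ≠ 0 := fun h => by
    have := Nat.find_spec hex
    rw [h, Subgroup.upperCentralSeries_zero, le_bot_iff] at this
    rw [this, Subgroup.card_bot] at hQ₀c
    exact hp.out.one_lt.ne hQ₀c
  obtain ⟨i, hi'⟩ := Nat.exists_eq_succ_of_ne_zero hi
  have hle : Q₀ ≤ Subgroup.upperCentralSeries S (i + 1) := by
    have := Nat.find_spec hex; rwa [hi'] at this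
  have hnle : ¬ Q₀ ≤ Subgroup.upperCentralSeries S i := Nat.find_min hex (by omega)
  set Z := Subgroup.upperCentralSeries S i with hZ
  have hinf : Q₀ ⊓ Z = ⊥ := (PGroupsBasic.le_or_inf_eq_bot hQ₀c Z).resolve_left hnle
  have hsup : (Q₀ ⊔ Z).Normal := by
    refine ⟨fun x hx g => ?_⟩
    have hx1 : x ∈ Subgroup.upperCentralSeries S (i + 1) :=
      sup_le hle (Subgroup.upperCentralSeries_mono S (Nat.le_succ i)) hx
    have h1 := Subgroup.mem_upperCentralSeries_succ_iff.mp hx1 g
    rw [show g * x * g⁻¹ = (x * g * x⁻¹ * g⁻¹)⁻¹ * x by group]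
    exact mul_mem (inv_mem (Subgroup.mem_sup_right (by simpa [commutatorElement_def] using h1))) hx
  refine ⟨Z.map S.subtype, closed_of_normal hinner Z, ?_, ?_⟩
  · have h := closed_of_normal hinner (Q₀ ⊔ Z)
    rwa [Subgroup.map_sup, hQ₀, Subgroup.map_subgroupOf_eq_of_le hQ] at h
  · haveI : (Q₀ ⊓ Z).Normal := by rw [hinf]; infer_instance
    have h := closed_of_normal hinner (Q₀ ⊓ Z)
    rwa [Subgroup.map_inf _ _ _ S.subtype_injective, hQ₀,
      Subgroup.map_subgroupOf_eq_of_le hQ] at h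

/-- A nilpotency criterion for fusion systems. Let F be a saturated fusion system over a finite p-group S of order at least p². Call a subgroup Q of S weakly embedded in F when there is a subgroup P of S strongly closed in F such that both the product QP and the intersection Q ∩ P are strongly closed in F. Then F is the inner fusion system of S if and only if there is a subgroup D of S with 1 < D < S such that every subgroup of S of the same order as D is weakly embedded in F and, for every fully normalized subgroup H of S of that order, the normalizer fusion system of H in F is the inner fusion system of N_S(H). -/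
theorem result {Ω : Type*} [Group Ω] {S : Subgroup Ω} [Finite S] (p : ℕ) [Fact p.Prime] (hS : IsPGroup p ↥S) (F : Cfsg.FusionSystem S) (hF : F.IsSaturated p) (hcard : p ^ 2 ≤ Nat.card S) : (∀ P : Subgroup Ω, F.Hom P = (Cfsg.innerFusionSystem S).Hom P) ↔ ∃ D : Subgroup Ω, ⊥ < D ∧ D < S ∧ (∀ Q : Subgroup Ω, Q ≤ S → Nat.card ↥Q = Nat.card ↥D → ∃ P : Subgroup Ω, F.StronglyClosed P ∧ F.StronglyClosed (Q ⊔ P) ∧ F.StronglyClosed (Q ⊓ P)) ∧ (∀ H : Subgroup Ω, F.IsFullyNormalized H → Nat.card ↥H = Nat.card ↥D → ∀ N : Cfsg.FusionSystem (Cfsg.FusionSystem.normalizerIn S H), F.IsNormalizerSystem H N → ∀ P : Subgroup Ω, N.Hom P = (Cfsg.innerFusionSystem (Cfsg.FusionSystem.normalizerIn S H)).Hom P) := by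
  constructor
  · intro h
    obtain ⟨D, -, hDS, hDc⟩ := exists_between hS (bot_le : (⊥ : Subgroup Ω) ≤ S) le_rfl (e := 1)
      (by rw [Subgroup.card_bot, pow_one]; exact (Fact.out : p.Prime).one_le)
      (le_trans (Nat.pow_le_pow_right (Fact.out : p.Prime).pos (by norm_num)) hcard)
    rw [pow_one] at hDc
    refine ⟨D, bot_lt_iff_ne_bot.mpr fun e => ?_, lt_of_le_of_ne hDS fun e => ?_, ?_, ?_⟩
    · rw [e, Subgroup.card_bot] at hDc
      exact (Fact.out : p.Prime).one_lt.ne hDc
    · rw [← e, hDc] at hcard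
      have := (Fact.out : p.Prime).one_lt
      nlinarith
    · intro Q hQ hQc
      exact exists_emb_inner hS h Q hQ (by rw [pow_one, hQc, hDc])
    · intro H hH _ N hN
      haveI := finite_normalizerIn (S := S) H
      exact FusionCriteria.hom_eq_inner_of_nil (hS.to_le inf_le_left)
        (FusionSysNormalizer.normalizerSystem_saturated hS hF hH hN)
        (nil_normalizerSystem hH.1 hN (nilAt_of_nil (FusionCriteria.nil_of_inner hS h) _))
  · rintro ⟨D, -, hDS, hemb, hnorm⟩
    haveI := finite_of_le hDS.le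
    obtain ⟨e, he⟩ := IsPGroup.iff_card.mp (hS.to_le hDS.le)
    have hd : p ^ e < Nat.card S := by
      rw [← he]
      exact lt_of_le_of_ne (Subgroup.card_le_of_le hDS.le)
        fun h => hDS.ne (eq_of_le_of_card_ge le_rfl hDS.le h.ge)
    refine FusionCriteria.hom_eq_inner_of_nil hS hF (nil_of_emb hS hF hd
      (fun Q hQ hQc => hemb Q hQ (hQc.trans he.symm)) fun U hU hUc => ?_)
    obtain ⟨U', hconj, hfn⟩ := exists_fullyNormalized (F := F) hU
    obtain ⟨f, hf, -, him⟩ := exists_map_to_fullyNormalized hS hF hfn hconj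
    refine nilAt_of_mor hU hf ?_
    rw [him]
    have hN := isNormalizerSystem_normalizerSystem (F := F) U' hfn.1
    haveI := finite_normalizerIn (S := S) U'
    exact nilAt_of_nil_normalizerSystem hN (FusionCriteria.nil_of_inner (hS.to_le inf_le_left)
      (hnorm U' hfn ((isConj_card hconj).symm.trans (hUc.trans he.symm)) _ hN))

end Cfsg.Agent.S5271
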