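import Cfsg.Statements.S5272
import Cfsg.Agent.Lib.FusionReplacement

set_option autoImplicit false
open Cfsg

namespace Cfsg.Agent.S5272

theorem upS_mono {Ω G : Type*} [Group Ω] [Group G] {S : Subgroup Ω} (ι : S →* G) {P Q : Subgroup Ω}
    (h : P ≤ Q) : FusionRealized87.upS ι P ≤ FusionRealized87.upS ι Q :=
  Subgroup.map_mono (Subgroup.comap_mono h)

theorem upS_bot {Ω G : Type*} [Group Ω] [Group G] {S : Subgroup Ω} (ι : S →* G) :
    FusionRealized87.upS ι (⊥ : Subgroup Ω) = ⊥ := by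
  rw [FusionRealized87.upS, Subgroup.bot_subgroupOf, Subgroup.map_bot]

theorem upS_commutator {Ω G : Type*} [Group Ω] [Group G] {S : Subgroup Ω} (ι : S →* G)
    {B C : Subgroup Ω} (hB : B ≤ S) (hC : C ≤ S) :
    FusionRealized87.upS ι ⁅B, C⁆ = ⁅FusionRealized87.upS ι B, FusionRealized87.upS ι C⁆ := by
  rw [FusionRealized87.upS, FusionRealized87.upS, FusionRealized87.upS, ← Subgroup.map_commutator]
  refine congrArg (Subgroup.map ι) (Subgroup.map_injective S.subtype_injective ?_)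
  rw [Subgroup.map_commutator, Subgroup.map_subgroupOf_eq_of_le hB,
    Subgroup.map_subgroupOf_eq_of_le hC, Subgroup.map_subgroupOf_eq_of_le]
  exact Subgroup.commutator_le.mpr fun b hb c hc => by
    rw [commutatorElement_def]
    exact S.mul_mem (S.mul_mem (S.mul_mem (hB hb) (hC hc)) (S.inv_mem (hB hb))) (S.inv_mem (hC hc))

open Cfsg.FusionSystem Cfsg.Agent.FusionSysBasic in
/-- The family read in a model. -/
theorem family_model {Ω : Type*} [Group Ω] {S : Subgroup Ω} [Finite S] {p : ℕ} {F E : FusionSystem S}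
    (hE : E.IsSubsystemOf F) {L : Type*} [Group L] {ι : S →* L} (hι : E.IsRealizedBy ι)
    (P : Sylow p L) (hP : (P : Subgroup L) = ι.range) (𝒜 : Set (Subgroup Ω))
    (h𝒜 : ∀ A ∈ 𝒜, A ≤ S ∧ IsMulCommutative ↥A) (hne : 𝒜.Nonempty)
    (hinv : ∀ Q : Subgroup Ω, Q ≤ S → (∃ A ∈ 𝒜, A ≤ Q) → ∀ α ∈ F.autGroup Q, ∀ x : ↥Q,
      (x : Ω) ∈ (⨅ A ∈ {A : Subgroup Ω | A ∈ 𝒜 ∧ A ≤ Q}, A) →
        (((α : MulAut ↥Q) x : ↥Q) : Ω) ∈ (⨅ A ∈ {A : Subgroup Ω | A ∈ 𝒜 ∧ A ≤ Q}, A))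
    (hrep : ∀ B : Subgroup Ω, B ≤ S → ⁅⁅B, B⁆, B⁆ = ⊥ → (∃ A ∈ 𝒜, ⁅B, B⁆ ≤ A ∧ ¬ B ≤ A) →
      ∃ A ∈ 𝒜, ⁅B, B⁆ ≤ A ∧ ¬ B ≤ A ∧ B ≤ Subgroup.normalizer (A : Set Ω)) :
    FusionReplacement.Family (P : Subgroup L) (FusionRealized87.upS ι '' 𝒜) := by
  have hle : ∀ A ∈ 𝒜, A ≤ S := fun A hA => (h𝒜 A hA).1
  have hsub : ∀ {C D : Subgroup Ω}, C ≤ S → D ≤ S →
      FusionRealized87.upS ι C ≤ FusionRealized87.upS ι D → C ≤ D := fun {C D} hC hD h x hx => by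
    obtain ⟨y, hy, hyS, e⟩ :=
      (FusionRealized87.mem_upS ι).mp (h (FusionRealized87.up_mem_upS ι hC hx))
    rwa [← FusionRealized87.up_inj hι hyS (hC hx) e]
  refine ⟨hne.image _, ?_, ?_, ?_, ?_⟩
  · rintro _ ⟨A, -, rfl⟩
    exact hP ▸ FusionRealized87.upS_le ι A
  · rintro _ ⟨A, hA, rfl⟩ a ha b hb
    obtain ⟨a', ha', ha'S, rfl⟩ := (FusionRealized87.mem_upS ι).mp ha
    obtain ⟨b', hb', hb'S, rfl⟩ := (FusionRealized87.mem_upS ι).mp hb
    rw [← FusionRealized87.up_mul ι ha'S hb'S, ← FusionRealized87.up_mul ι hb'S ha'S]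
    exact congrArg _ (congrArg Subtype.val ((h𝒜 A hA).2.is_comm.comm (⟨a', ha'⟩ : A) ⟨b', hb'⟩))
  · rintro Q hQ ⟨_, ⟨A₀, hA₀, rfl⟩, hA₀Q⟩ g hg x hx _ ⟨A, hA, rfl⟩ hAQ
    rw [hP] at hQ
    set Q₁ := FusionRealized87.downS ι Q
    have hQ₁ : FusionRealized87.upS ι Q₁ = Q := FusionRealized87.upS_downS ι hQ
    have hQ₁S : Q₁ ≤ S := FusionRealized87.downS_le ι Q
    have hsubQ : ∀ C ∈ 𝒜, C ≤ Q₁ → FusionRealized87.upS ι C ≤ Q := fun C _ h =>
      hQ₁ ▸ upS_mono ι h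
    have hA₁ : A ≤ Q₁ := hsub (hle A hA) hQ₁S (hAQ.trans hQ₁.ge)
    obtain ⟨x', hx'A₀, hx'S, rfl⟩ := (FusionRealized87.mem_upS ι).mp
      (hx _ ⟨A₀, hA₀, rfl⟩ hA₀Q)
    have hx'Q : x' ∈ Q₁ := hsub (hle A₀ hA₀) hQ₁S (hA₀Q.trans hQ₁.ge) hx'A₀
    have hin : ∀ y ∈ Q₁, cj g (FusionRealized87.up ι y) ∈ Q := fun y hy =>
      (Subgroup.mem_normalizer_iff.mp hg _).mp (hQ₁.le (FusionRealized87.up_mem_upS ι hQ₁S hy))
    have hm := FusionRealized87.mor_of_conj hι hQ₁S fun y hy => hQ (hin y hy)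
    obtain ⟨β, hβ, hβe⟩ := hm.exists_aut (hm.im_self fun y hy =>
      (FusionRealized87.mem_downS ι).mpr ⟨FusionRealized87.down_mem ι _, by
        rw [FusionRealized87.up_down ι (hQ (hin y hy))]; exact hin y hy⟩)
    have h1 := hinv Q₁ hQ₁S ⟨A₀, hA₀, hsub (hle A₀ hA₀) hQ₁S (hA₀Q.trans hQ₁.ge)⟩ β
      (FusionNilReduction.autGroup_le hE Q₁ hβ) ⟨x', hx'Q⟩ (by
        simp only [Subgroup.mem_iInf, Set.mem_setOf_eq]
        rintro C ⟨hC, hCQ⟩
        obtain ⟨c, hc, hcS, e⟩ :=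
          (FusionRealized87.mem_upS ι).mp (hx _ ⟨C, hC, rfl⟩ (hsubQ C hC hCQ))
        rwa [← FusionRealized87.up_inj hι hcS hx'S e])
    simp only [Subgroup.mem_iInf, Set.mem_setOf_eq] at h1
    have h2 := FusionRealized87.up_mem_upS ι (hle A hA) (h1 A ⟨hA, hA₁⟩)
    rw [← afun_coe, hβe x' hx'Q] at h2
    rwa [FusionRealized87.up_down ι (hQ (hin x' hx'Q)), cj_apply] at h2
  · rintro B hB hc ⟨_, ⟨A, hA, rfl⟩, hBA, hnA⟩
    rw [hP] at hB
    set B₁ := FusionRealized87.downS ι B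
    have hB₁ : FusionRealized87.upS ι B₁ = B := FusionRealized87.upS_downS ι hB
    have hB₁S : B₁ ≤ S := FusionRealized87.downS_le ι B
    have hc₁S : ⁅B₁, B₁⁆ ≤ S := Subgroup.commutator_le.mpr fun b hb c hc => by
      rw [commutatorElement_def]
      exact S.mul_mem (S.mul_mem (S.mul_mem (hB₁S hb) (hB₁S hc)) (S.inv_mem (hB₁S hb)))
        (S.inv_mem (hB₁S hc))
    have hc₂S : ⁅⁅B₁, B₁⁆, B₁⁆ ≤ S := Subgroup.commutator_le.mpr fun b hb c hc => by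
      rw [commutatorElement_def]
      exact S.mul_mem (S.mul_mem (S.mul_mem (hc₁S hb) (hB₁S hc)) (S.inv_mem (hc₁S hb)))
        (S.inv_mem (hB₁S hc))
    obtain ⟨A', hA', hBA', hnA', hN⟩ := hrep B₁ hB₁S (le_bot_iff.mp (hsub hc₂S bot_le (by
        rw [upS_commutator ι hc₁S hB₁S, upS_commutator ι hB₁S hB₁S, hB₁, hc]; exact bot_le)))
      ⟨A, hA, hsub hc₁S (hle A hA) (by rwa [upS_commutator ι hB₁S hB₁S, hB₁]),
        fun e => hnA (hB₁ ▸ upS_mono ι e)⟩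
    refine ⟨_, ⟨A', hA', rfl⟩, hB₁ ▸ (upS_commutator ι hB₁S hB₁S).ge.trans (upS_mono ι hBA'),
      fun e => hnA' (hsub hB₁S (hle A' hA') (hB₁.le.trans e)), ?_⟩
    rw [← hB₁]
    rintro _ ⟨b, hb, rfl⟩
    have hb' : (b : Ω) ∈ Subgroup.normalizer (A' : Set Ω) := hN hb
    refine (Subgroup.le_normalizer_map ι) ⟨b, ?_, rfl⟩
    refine Subgroup.mem_normalizer_iff.mpr fun a => ?_
    simp only [Subgroup.mem_subgroupOf, Subgroup.coe_mul, InvMemClass.coe_inv]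
    exact Subgroup.mem_normalizer_iff.mp hb' _

/-- An axiomatic Glauberman–Thompson nilpotency criterion for fusion systems. Let p be an odd prime, F a saturated fusion system over a finite p-group S, and 𝒜 a nonempty family of abelian subgroups of S. For Q ≤ S write I(Q) for the intersection of the members of 𝒜 contained in Q. Assume (invariance) that for every Q ≤ S containing a member of 𝒜, every F-automorphism of Q maps I(Q) into itself, and (replacement) that for every subgroup B of S of nilpotency class at most 2, if some member of 𝒜 contains [B,B] but not B, then B normalizes some member of 𝒜 that contains [B,B] but not B. Then F is the inner fusion system of S if and only if the normalizer fusion system of I(S) in F is the inner fusion system of N_S(I(S)). -/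
theorem result {Ω : Type*} [Group Ω] {S : Subgroup Ω} [Finite S] (p : ℕ) [Fact p.Prime] (hS : IsPGroup p ↥S) (F : Cfsg.FusionSystem S) (hF : F.IsSaturated p) (hp : p ≠ 2) (𝒜 : Set (Subgroup Ω)) (h𝒜 : ∀ A ∈ 𝒜, A ≤ S ∧ IsMulCommutative ↥A) (hne : 𝒜.Nonempty) (hinv : ∀ Q : Subgroup Ω, Q ≤ S → (∃ A ∈ 𝒜, A ≤ Q) → ∀ α ∈ F.autGroup Q, ∀ x : ↥Q, (x : Ω) ∈ (⨅ A ∈ {A : Subgroup Ω | A ∈ 𝒜 ∧ A ≤ Q}, A) → (((α : MulAut ↥Q) x : ↥Q) : Ω) ∈ (⨅ A ∈ {A : Subgroup Ω | A ∈ 𝒜 ∧ A ≤ Q}, A)) (hrep : ∀ B : Subgroup Ω, B ≤ S → ⁅⁅B, B⁆, B⁆ = ⊥ → (∃ A ∈ 𝒜, ⁅B, B⁆ ≤ A ∧ ¬ B ≤ A) → ∃ A ∈ 𝒜, ⁅B, B⁆ ≤ A ∧ ¬ B ≤ A ∧ B ≤ Subgroup.normalizer (A : Set Ω)) : (∀ P : Subgroup Ω, F.Hom P = (Cfsg.innerFusionSystem S).Hom P) ↔ ∀ N : Cfsg.FusionSystem (Cfsg.FusionSystem.normalizerIn S (⨅ A ∈ 𝒜, A)), F.IsNormalizerSystem (⨅ A ∈ 𝒜, A) N → ∀ P : Subgroup Ω, N.Hom P = (Cfsg.innerFusionSystem (Cfsg.FusionSystem.normalizerIn S (⨅ A ∈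 𝒜, A))).Hom P := by
  open Cfsg.Agent.FusionSysNormal Cfsg.Agent.FusionNilReduction Cfsg.Agent.FusionSysBasic in
  set Z : Subgroup Ω := ⨅ A ∈ 𝒜, A with hZ
  obtain ⟨A₀, hA₀⟩ := id hne
  have hZS : Z ≤ S := (iInf₂_le A₀ hA₀).trans (h𝒜 A₀ hA₀).1
  have hZn : S ≤ Subgroup.normalizer (Z : Set Ω) := fun g hg => by
    refine mem_normalizer_of_cj_le hZS fun x hx => ?_
    obtain ⟨α, hα, hαe⟩ := (mor_cj (F := F) le_rfl hg).exists_aut
      ((mor_cj (F := F) le_rfl hg).im_self fun y hy => cj_mem_S hg hy)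
    have h1 := hinv S le_rfl ⟨A₀, hA₀, (h𝒜 A₀ hA₀).1⟩ α hα ⟨x, hZS hx⟩ (by
      simp only [Subgroup.mem_iInf, Set.mem_setOf_eq]
      rintro C ⟨hC, -⟩
      simp only [hZ, Subgroup.mem_iInf] at hx
      exact hx C hC)
    simp only [Subgroup.mem_iInf, Set.mem_setOf_eq] at h1
    simp only [hZ, Subgroup.mem_iInf]
    intro C hC
    have h2 := h1 C ⟨hC, (h𝒜 C hC).1⟩
    rwa [← afun_coe, hαe x (hZS hx)] at h2
  have hfn : F.IsFullyNormalized Z := FusionWeakAlperin.fullyNormalized_of_normal hZS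
    fun g hg x hx => cj_mem_of_normalizer (hZn hg) hx
  haveI := FusionSysSaturated.finite_normalizerIn (S := S) Z
  have hTp : IsPGroup p ↥(Cfsg.FusionSystem.normalizerIn S Z) := hS.to_le inf_le_left
  constructor
  · intro h N hN
    exact FusionCriteria.hom_eq_inner_of_nil hTp
      (FusionSysNormalizer.normalizerSystem_saturated hS hF hfn hN)
      (nil_normalizerSystem hZS hN (nilAt_of_nil (FusionCriteria.nil_of_inner hS h) Z))
  · intro h
    have hG := isNormalizerSystem_normalizerSystem (F := F) Z hZS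
    have hNil : NilAt F p Z :=
      nilAt_of_nil_normalizerSystem hG (FusionCriteria.nil_of_inner hTp (h _ hG))
    refine FusionCriteria.hom_eq_inner_of_nil hS hF ?_
    by_contra hn
    obtain ⟨E, hE, hEc, hEn⟩ := FusionNilTools.exists_constrained_sub hS hF
      (FusionNilTools.hasY_of_not_nil (FusionNilTools.yAdm_odd hp) hS hF trivial hn)
    obtain ⟨hEs, Q, hQn, hQc⟩ := id hEc
    have hh : FusionSysModel.Hyp p E Q := ⟨hS, hEs, hQn, hQc⟩
    haveI := FusionSysModel.k0_normal hh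
    have hM := FusionSysModel.isModel hh
    obtain ⟨hfin, hι, ⟨P, hP⟩, hchar⟩ := id hM
    haveI := hfin
    refine hEn (FusionCriteria.nil_of_isPGroup_model hS hM (FusionReplacement.isPGroup_of_family hp
      _ _ rfl P _ (family_model hE hι P hP 𝒜 h𝒜 hne hinv hrep) hchar ?_))
    have e : sInf (FusionRealized87.upS (FusionSysModel.iota hh) '' 𝒜) =
        FusionRealized87.upS (FusionSysModel.iota hh) Z := by
      refine le_antisymm (fun y hy => ?_) (le_sInf ?_)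
      · rw [Subgroup.mem_sInf] at hy
        obtain ⟨x, hx, hxS, rfl⟩ :=
          (FusionRealized87.mem_upS _).mp (hy _ ⟨A₀, hA₀, rfl⟩)
        refine FusionRealized87.up_mem_upS _ hZS ?_
        simp only [hZ, Subgroup.mem_iInf]
        intro C hC
        obtain ⟨c, hc, hcS, e⟩ := (FusionRealized87.mem_upS _).mp (hy _ ⟨C, hC, rfl⟩)
        rwa [← FusionRealized87.up_inj hι hcS hxS e]
      · rintro _ ⟨A, hA, rfl⟩
        exact upS_mono _ (iInf₂_le A hA)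
    rw [e]
    exact FusionCriteria.isPGroup_normalizer_model hS hEc hM hZS hZn
      (nilAt_sub hE le_rfl hNil)

end Cfsg.Agent.S5272
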