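import Cfsg.Statements.S5273
import Cfsg.Agent.Lib.FusionControlElementary

set_option autoImplicit false
open Cfsg

namespace Cfsg.Agent.S5273

/-- Small-exponent abelian subgroups control fusion. Let E and F be saturated fusion systems over the same finite p-group S with E contained in F. Suppose that E and F have the same maps between A and B for all subgroups A, B of S that are elementary abelian when p is odd, respectively abelian of exponent dividing 4 when p = 2. Then E = F (they have the same maps on every subgroup). -/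
theorem result {Ω : Type*} [Group Ω] {S : Subgroup Ω} [Finite S] (p : ℕ) [Fact p.Prime] (hS : IsPGroup p ↥S) (E F : Cfsg.FusionSystem S) (hE : E.IsSaturated p) (hF : F.IsSaturated p) (hEF : E.IsSubsystemOf F) (hodd : p ≠ 2 → ∀ A B : Subgroup Ω, A ≤ S → B ≤ S → Cfsg.IsElementaryAbelian p A → Cfsg.IsElementaryAbelian p B → E.homSet A B = F.homSet A B) (htwo : p = 2 → ∀ A B : Subgroup Ω, A ≤ S → B ≤ S → IsMulCommutative ↥A → IsMulCommutative ↥B → (∀ a ∈ A, a ^ 4 = 1) → (∀ b ∈ B, b ^ 4 = 1) → E.homSet A B = F.homSet A B) : ∀ P : Subgroup Ω, E.Hom P = F.Hom P := by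
  have hmor : ∀ P f, FusionSysBasic.Mor F P f → FusionSysBasic.Mor E P f := by
    refine FusionControlElementary.mor_of_ctrl hS (H := S) ⟨hE, hF,
      fun P f ⟨φ, hφ, he⟩ => ⟨φ, hEF P hφ, he⟩, FusionSysNormal.stronglyClosed_iff.mpr ⟨le_rfl, fun P f _ hf x hx => hf.apply_mem hx⟩,
      fun R hR α hα hc x hx => S.mul_mem (S.inv_mem (hR hx)) (hR (FusionSysBasic.afun_mem α hx)), fun A ⟨hAH, hab, hsm⟩ f hf => ?_⟩
    have hmem : ∀ x ∈ A, f x ∈ S := fun x hx => hf.apply_mem hx
    obtain ⟨φ, hφ, he⟩ := id hf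
    have hB : ∀ b ∈ φ.range, b ∈ S := by
      rintro _ ⟨y, rfl⟩
      rw [he]
      exact hmem y y.2
    have habB : ∀ a ∈ φ.range, ∀ b ∈ φ.range, a * b = b * a := by
      rintro _ ⟨a, rfl⟩ _ ⟨b, rfl⟩
      rw [← map_mul, ← map_mul, show a * b = b * a from Subtype.ext (hab a a.2 b b.2)]
    have hmemE : φ ∈ F.homSet A φ.range := ⟨hφ, fun x => ⟨x, rfl⟩⟩
    by_cases hp : p = 2
    · have h4 : ∀ a ∈ A, a ^ 4 = 1 := fun a ha => by
        rcases hsm a ha with h1 | ⟨-, h1⟩
        · rw [hp] at h1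
          rw [show 4 = 2 * 2 from rfl, pow_mul, h1, one_pow]
        · exact h1
      rw [← htwo hp A φ.range hAH hB ⟨⟨fun a b => Subtype.ext (hab a a.2 b b.2)⟩⟩
        ⟨⟨fun a b => Subtype.ext (habB a a.2 b b.2)⟩⟩ h4 (by
          rintro _ ⟨a, rfl⟩
          rw [← map_pow, show a ^ 4 = 1 from Subtype.ext (h4 a a.2), map_one])] at hmemE
      exact ⟨φ, hmemE.1, he⟩
    · have hp' : ∀ a ∈ A, a ^ p = 1 := fun a ha => by
        rcases hsm a ha with h1 | ⟨h2, -⟩
        · exact h1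
        · exact absurd h2 hp
      rw [← hodd hp A φ.range hAH hB
        ⟨⟨⟨fun a b => Subtype.ext (hab a a.2 b b.2)⟩⟩, hp'⟩
        ⟨⟨⟨fun a b => Subtype.ext (habB a a.2 b b.2)⟩⟩, by
          rintro _ ⟨a, rfl⟩
          rw [← map_pow, show a ^ p = 1 from Subtype.ext (hp' a a.2), map_one]⟩] at hmemE
      exact ⟨φ, hmemE.1, he⟩
  intro P
  refine Set.Subset.antisymm (hEF P) fun φ hφ => ?_
  obtain ⟨ψ, hψ, he⟩ := hmor P _ (FusionSysBasic.mor_toFun hφ)
  have : ψ = φ := MonoidHom.ext fun x => (he x).trans (FusionSysBasic.toFun_coe φ x)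
  exact this ▸ hψ

end Cfsg.Agent.S5273
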