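import Cfsg.Statements.S5275
import Cfsg.Agent.Lib.FusionCriteria

set_option autoImplicit false
open Cfsg

namespace Cfsg.Agent.S5275

/-- A Glauberman–Thompson nilpotency criterion for fusion systems relative to a strongly closed subgroup. Let p be an odd prime, F a saturated fusion system over a finite p-group S, and D a subgroup of S that is strongly closed in F. Let Z(J(D)) be the centre of the subgroup of D generated by the abelian subgroups of D of largest order. Then F is the inner fusion system of S if and only if the normalizer fusion system of Z(J(D)) in F is the inner fusion system of N_S(Z(J(D))) = S. -/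
theorem result {Ω : Type*} [Group Ω] {S : Subgroup Ω} [Finite S] (p : ℕ) [Fact p.Prime] (hS : IsPGroup p ↥S) (F : Cfsg.FusionSystem S) (hF : F.IsSaturated p) (hp : p ≠ 2) (D : Subgroup Ω) (hD : F.StronglyClosed D) : (∀ P : Subgroup Ω, F.Hom P = (Cfsg.innerFusionSystem S).Hom P) ↔ ∀ N : Cfsg.FusionSystem (Cfsg.FusionSystem.normalizerIn S (Cfsg.centerThompsonAOf D)), F.IsNormalizerSystem (Cfsg.centerThompsonAOf D) N → ∀ P : Subgroup Ω, N.Hom P = (Cfsg.innerFusionSystem (Cfsg.FusionSystem.normalizerIn S (Cfsg.centerThompsonAOf D))).Hom P := by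
  open Cfsg.FusionSystem Cfsg.Agent.FusionSysBasic Cfsg.Agent.FusionSysNormal Cfsg.Agent.FusionSysSaturated in
  have hclosed : F.StronglyClosed D := hD
  have hZS : Cfsg.centerThompsonAOf D ≤ S := by
    rw [GlaubermanZJ.centerThompsonAOf_eq]
    exact (GlaubermanZJ.thomY_le D).trans hclosed.1
  have hZn : S ≤ Subgroup.normalizer ((Cfsg.centerThompsonAOf D : Subgroup Ω) : Set Ω) := by
    rw [GlaubermanZJ.centerThompsonAOf_eq]
    exact FusionCriteria.le_normalizer_closed hclosed
  have hfn : F.IsFullyNormalized (Cfsg.centerThompsonAOf D) :=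
    FusionWeakAlperin.fullyNormalized_of_normal hZS fun g hg x hx => cj_mem_of_normalizer (hZn hg) hx
  haveI := finite_normalizerIn (S := S) (Cfsg.centerThompsonAOf D)
  have hT : IsPGroup p ↥(normalizerIn S (Cfsg.centerThompsonAOf D)) := hS.to_le inf_le_left
  constructor
  · intro h N hN
    exact FusionCriteria.hom_eq_inner_of_nil hT
      (FusionSysNormalizer.normalizerSystem_saturated hS hF hfn hN)
      (FusionNilReduction.nil_normalizerSystem hZS hN
        (FusionNilReduction.nilAt_of_nil (FusionCriteria.nil_of_inner hS h) _))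
  · intro h
    have hN := isNormalizerSystem_normalizerSystem (F := F) _ hZS
    exact FusionCriteria.hom_eq_inner_of_nil hS hF (FusionCriteria.nil_of_zj hp hS hF hclosed
      (FusionNilReduction.nilAt_of_nil_normalizerSystem hN
        (FusionCriteria.nil_of_inner hT (h _ hN))))

end Cfsg.Agent.S5275
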