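import Cfsg.Statements.S5276
import Cfsg.Agent.Lib.FusionFocal
import Cfsg.Agent.Lib.PGroupsBasic
import Cfsg.Agent.Lib.FusionFrattini88

set_option autoImplicit false
open Cfsg

namespace Cfsg.Agent.S5276

/-- Let p be a prime and F a saturated fusion system over a finite p-group S. Then F is the inner fusion system of S if and only if the normalizer fusion system of S itself in F is the inner fusion system (equivalently, Aut_F(S) is induced by S) and the Frattini subgroup Φ(S) is strongly closed in F. -/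
theorem result {Ω : Type*} [Group Ω] {S : Subgroup Ω} [Finite S] (p : ℕ) [Fact p.Prime] (hS : IsPGroup p ↥S) (F : Cfsg.FusionSystem S) (hF : F.IsSaturated p) : (∀ P : Subgroup Ω, F.Hom P = (Cfsg.innerFusionSystem S).Hom P) ↔ (∀ N : Cfsg.FusionSystem (Cfsg.FusionSystem.normalizerIn S S), F.IsNormalizerSystem S N → ∀ P : Subgroup Ω, N.Hom P = (Cfsg.innerFusionSystem (Cfsg.FusionSystem.normalizerIn S S)).Hom P) ∧ F.StronglyClosed ((frattini ↥S).map S.subtype) := by
  classical
  set D := (frattini ↥S).map S.subtype with hD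
  have hDS : D ≤ S := Subgroup.map_subtype_le _
  have hcD : ⁅(S : Subgroup Ω), S⁆ ≤ D := by
    rw [← Subgroup.map_subtype_commutator]
    exact Subgroup.map_mono (PGroupsBasic.commutator_le_frattini hS)
  have hNS : Cfsg.FusionSystem.normalizerIn S S = S := inf_eq_left.mpr Subgroup.le_normalizer
  refine ⟨fun hinn => ⟨fun N hN P => ?_, ?_⟩, fun ⟨hnorm, hclosed⟩ => ?_⟩
  · ext φ
    rw [hN P]
    constructor
    · rintro ⟨hF', hP, -, -⟩
      rw [hinn P] at hF'
      obtain ⟨-, g, hg, he⟩ := hF'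
      exact ⟨hP, g, hNS.symm ▸ hg, he⟩
    · rintro ⟨hP, g, hg, he⟩
      have hgS : g ∈ S := hg.1
      have hPS : P ≤ S := hP.trans inf_le_left
      have hφ : φ ∈ F.Hom P := by
        rw [hinn P]; exact ⟨hPS, g, hgS, he⟩
      refine ⟨hφ, hP, fun x => ?_, ?_⟩
      · rw [he x, hNS]
        exact S.mul_mem (S.mul_mem hgS (hPS x.2)) (S.inv_mem hgS)
      · refine (FusionSysNormal.ext_normal_iff (fun x => he x)).mpr
          ⟨FusionSysBasic.cj g, FusionSysBasic.mor_cj (sup_le hPS le_rfl) hgS, fun x _ => rfl, ?_⟩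
        exact FusionSysBasic.mem_normalizer_iff_im_cj.mp (Subgroup.le_normalizer hgS)
  · refine FusionSysNormal.stronglyClosed_iff.2 ⟨hDS, fun P f hP hf x hx => ?_⟩
    obtain ⟨φ, hφ, he⟩ := hf
    rw [hinn P] at hφ
    obtain ⟨-, g, hg, hge⟩ := hφ
    rw [← he ⟨x, hx⟩, hge ⟨x, hx⟩]
    exact FusionFocal.normal_of_commutator_le hDS hcD hg (hP hx)
  have hnormal : ∀ x ∈ D, ∀ s ∈ S, FusionSysBasic.cj s x ∈ D := fun x hx s hs =>
    FusionFocal.normal_of_commutator_le hDS hcD hs hx
  -- automorphisms of `S` are inner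
  have hSinner : ∀ f, FusionSysBasic.Mor F S f → ∃ g ∈ S, ∀ x ∈ S, f x = FusionSysBasic.cj g x := by
    intro f hf
    have hm : FusionSysBasic.Mor (FusionSysNormal.normalizerSystem F S le_rfl) S f :=
      (FusionSysNormal.mor_normalizerSystem_iff
        (FusionSysNormal.isNormalizerSystem_normalizerSystem S le_rfl)).mpr
        ⟨hf, hNS.symm.le, fun x hx => hNS.symm ▸ hf.apply_mem hx, f, by rwa [sup_idem],
          fun _ _ => rfl, hf.im_self fun x hx => hf.apply_mem hx⟩
    obtain ⟨φ, hφ, he⟩ := hm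
    rw [hnorm _ (FusionSysNormal.isNormalizerSystem_normalizerSystem S le_rfl) S] at hφ
    obtain ⟨-, g, hg, hge⟩ := hφ
    exact ⟨g, hg.1, fun x hx => by rw [← he ⟨x, hx⟩, hge ⟨x, hx⟩]; rfl⟩
  have hmodS : ∀ g ∈ S, ∀ x ∈ S, x⁻¹ * FusionSysBasic.cj g x ∈ D := by
    intro g hg x hx
    have := hcD (Subgroup.commutator_mem_commutator (S.inv_mem hx) hg)
    simpa [FusionSysBasic.cj_apply, commutatorElement_def, mul_assoc] using this
  -- maps on overgroups of `D` are trivial modulo `D`
  have hbig : ∀ P f, FusionSysBasic.Mor F P f → D ≤ P → ∀ x ∈ P, x⁻¹ * f x ∈ D := by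
    intro P f hf hDP
    have hPn : ∀ g ∈ S, ∀ x ∈ P, FusionSysBasic.cj g x ∈ P := fun g hg x hx => by
      have := P.mul_mem hx (hDP (hmodS g hg x (hf.le hx)))
      rwa [mul_inv_cancel_left] at this
    set Q := FusionSysBasic.im P f
    have hDQ : D ≤ Q := by
      have hr := hf.restrict_to hDP
      have h1 : FusionSysBasic.im D f = D := hr.im_eq_of_le hDS
        (FusionSysBasic.im_le_iff.mpr fun x hx => FusionKit88.closed_apply' hclosed hr hx hx) le_rfl
      exact h1.symm.le.trans (FusionSysBasic.im_mono hDP)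
    have hQn : ∀ g ∈ S, ∀ x ∈ Q, FusionSysBasic.cj g x ∈ Q := fun g hg x hx => by
      have := Q.mul_mem hx (hDQ (hmodS g hg x (hf.im_le hx)))
      rwa [mul_inv_cancel_left] at this
    have hQN : ∀ g ∈ S, g ∈ Subgroup.normalizer (Q : Set Ω) := fun g hg =>
      FusionSysBasic.mem_normalizer_of_cj_le hf.im_le fun x hx => hQn g hg x hx
    have hPN : ∀ g ∈ S, g ∈ Subgroup.normalizer (P : Set Ω) := fun g hg =>
      FusionSysBasic.mem_normalizer_of_cj_le hf.le fun x hx => hPn g hg x hx
    have hQfn : F.IsFullyNormalized Q := ⟨hf.im_le, fun R hR => by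
      have e : Cfsg.FusionSystem.normalizerIn S Q = S := inf_eq_left.mpr hQN
      rw [e]
      exact Subgroup.card_le_of_le inf_le_left⟩
    obtain ⟨θ, hθ, -, hθi⟩ := FusionSysSaturated.exists_map_to_fullyNormalized hS hF hQfn
      (FusionSysBasic.isConj_iff.mpr ⟨f, hf, rfl⟩)
    have hNP : Cfsg.FusionSystem.normalizerIn S P = S := inf_eq_left.mpr hPN
    rw [hNP] at hθ
    obtain ⟨g, hg, hge⟩ := hSinner θ hθ
    have hQP : Q = P := by
      rw [← hθi]
      refine (hθ.restrict_to hf.le).im_self fun x hx => ?_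
      rw [hge x (hf.le hx)]
      exact hPn g hg x hx
    obtain ⟨α, hα, hαe⟩ := hf.exists_aut hQP
    let M : Subgroup (MulAut P) :=
      { carrier := {m | ∀ x : P, (x : Ω)⁻¹ * (m x : P) ∈ D}
        one_mem' := fun x => by simp
        mul_mem' := fun {a b} ha hb x => by
          have := D.mul_mem (hb x) (ha (b x))
          simpa [mul_assoc] using this
        inv_mem' := fun {a} ha x => by
          have h1 := D.inv_mem (ha (a⁻¹ x))
          rw [show a (a⁻¹ x) = x from MulEquiv.apply_symm_apply _ _] at h1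
          simpa [mul_inv_rev] using h1 }
    have hMn : ∀ a ∈ F.autGroup P, ∀ m ∈ M, m ∈ F.autGroup P → a * m * a⁻¹ ∈ M := by
      intro a ha m hm _ x
      have h1 := hm (a⁻¹ x)
      set u : P := (a⁻¹ x)⁻¹ * m (a⁻¹ x)
      have h2 : FusionSysBasic.afun a u ∈ D :=
        FusionKit88.closed_apply' hclosed ((FusionSysBasic.mem_autGroup hf.le).mp ha) u.2 h1
      rw [FusionSysBasic.afun_coe] at h2
      have h3 : a u = x⁻¹ * (a * m * a⁻¹) x := by
        simp only [u, map_mul, map_inv, MulAut.mul_apply]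
        rw [show a (a⁻¹ x) = x from MulEquiv.apply_symm_apply _ _]
      rw [h3] at h2
      exact h2
    have hQfnP : F.IsFullyNormalized P := hQP ▸ hQfn
    obtain ⟨β, hβ, m, hm, -, hme, fβ, hfβ, hfe⟩ := FusionFrattini88.frattini_ext hS hF hQfnP M hMn
      (N := S) (le_inf le_rfl hPN) (fun g hg x => by
        rw [← FusionSysBasic.afun_coe, FusionSysBasic.afun_nHom _ x.2]
        exact hmodS g hg x (hf.le x.2)) hα
    rw [sup_eq_right.mpr hf.le] at hfβ
    obtain ⟨g', hg', hge'⟩ := hSinner fβ hfβ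
    intro x hx
    rw [← hαe x hx, hme, FusionSysBasic.afun_mul _ _ hx]
    have h1 : FusionSysBasic.afun m x ∈ P := FusionSysBasic.afun_mem m hx
    have h2 : x⁻¹ * FusionSysBasic.afun m x ∈ D := by
      rw [FusionSysBasic.afun_apply _ hx]; exact hm ⟨x, hx⟩
    have h3 := hmodS g' hg' _ (hf.le h1)
    rw [← hge' _ (hf.le h1), hfe _ h1] at h3
    have := D.mul_mem h2 h3
    simpa [mul_assoc] using this
  have hfoc : F.focalSubgroup ≤ ⁅(S : Subgroup Ω), S⁆ := by
    refine FusionFocal.focal_le_of_le_sup_frattini hS hF FusionFocal.commutator_le_focal le_rfl ?_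
    refine FusionFocal.focal_le_iff.mpr fun P f hf x hx => Subgroup.mem_sup_right ?_
    obtain ⟨f', hf', he⟩ := FusionPuig.exists_map_mod hS hF hclosed hf
    have h1 := hbig _ f' hf' le_sup_right x (Subgroup.mem_sup_left hx)
    have := D.mul_mem h1 (D.inv_mem (he x hx))
    have e : x⁻¹ * f' x * ((f x)⁻¹ * f' x)⁻¹ = x⁻¹ * f x := by group
    exact e ▸ this
  have hhyp : F.hyperfocalSubgroup p ≤ ⊥ := by
    refine FusionFocal.hyperfocal_le_of_le_sup_commutator hS hF bot_le (fun s _ x hx => ?_) ?_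
    · rw [Subgroup.mem_bot.mp hx]
      simp [FusionSysBasic.cj_apply]
    · exact (FusionFocal.hyperfocal_le_focal.trans hfoc).trans le_sup_right
  intro P
  ext φ
  constructor
  · intro hφ
    obtain ⟨b, hb, he⟩ := FusionFocal.congConj_hyperfocal hS hF P _ (FusionSysBasic.mor_toFun hφ)
    refine ⟨(F.le_of_mem hφ).1, b, hb, fun x => ?_⟩
    have := inv_mul_eq_one.mp (Subgroup.mem_bot.mp (hhyp (he x x.2)))
    rw [FusionSysBasic.toFun_coe] at this
    exact this
  · rintro ⟨hP, g, hg, he⟩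
    have : φ = Cfsg.conjHom P g := MonoidHom.ext fun x => (he x).trans rfl
    exact this ▸ F.conj_mem hP hg

end Cfsg.Agent.S5276
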