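import Cfsg.Statements.S5278
import Cfsg.Agent.Lib.FusionCentralTorus31

set_option autoImplicit false
open Cfsg

namespace Cfsg.Agent.S5278

/-- Let p be an odd prime, F a saturated fusion system over a finite p-group S, and T a subgroup of Z(S) such that the normalizer fusion system of J(S) in F is contained in the normalizer fusion system of T, J(S) being the subgroup generated by the abelian subgroups of S of largest order. Then either T is weakly closed in F, or Aut_F(T) has a nontrivial cyclic subgroup X of order prime to p that permutes transitively the non-identity elements of the commutator [T, X] (the subgroup of T generated by the elements ψ(t)·t⁻¹ with ψ in X and t in T). -/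
theorem result {Ω : Type*} [Group Ω] {S : Subgroup Ω} [Finite S] (p : ℕ) [Fact p.Prime] (hS : IsPGroup p ↥S) (F : Cfsg.FusionSystem S) (hF : F.IsSaturated p) (hp : p ≠ 2) (T : Subgroup Ω) (hT : T ≤ S ⊓ Subgroup.centralizer (S : Set Ω)) (hJT : ∀ NJ : Cfsg.FusionSystem (Cfsg.FusionSystem.normalizerIn S (Cfsg.thompsonSubgroupAOf S)), F.IsNormalizerSystem (Cfsg.thompsonSubgroupAOf S) NJ → ∀ NT : Cfsg.FusionSystem (Cfsg.FusionSystem.normalizerIn S T), F.IsNormalizerSystem T NT → NJ.IsSubsystemOf NT) : F.WeaklyClosed T ∨ ∃ X : Subgroup (MulAut ↥T), X ≤ F.autGroup T ∧ X ≠ ⊥ ∧ IsCyclic ↥X ∧ (Nat.card ↥X).Coprime p ∧ ∀ a b : ↥T, a ∈ Subgroup.closure {y : ↥T | ∃ ψ ∈ X, ∃ t : ↥T, y = ψ t * t⁻¹} → b ∈ Subgroup.closure {y : ↥T | ∃ ψ ∈ X, ∃ t : ↥T, y = ψ t * t⁻¹} → a ≠ 1 → b ≠ 1 → ∃ ψ ∈ X, ψ a = b := by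
  classical
  by_cases hWC : F.WeaklyClosed T
  · exact Or.inl hWC
  refine Or.inr ?_
  have h2 : 2 < p := lt_of_le_of_ne (Fact.out : p.Prime).two_le (Ne.symm hp)
  have hTS : T ≤ S := hT.trans inf_le_left
  refine FusionCentralTorus31.main hS hF h2 hTS (fun s hs t ht => (hT ht).2 s hs)
    (fun P f hf hP hfP hext hTP t ht => ?_) hWC
  have hJ : thompsonSubgroupAOf S ≤ S := FusionCentralTorus31.thompsonAOf_le S
  have hNJ := FusionSysNormal.isNormalizerSystem_normalizerSystem (F := F) (thompsonSubgroupAOf S) hJ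
  have hNT := FusionSysNormal.isNormalizerSystem_normalizerSystem (F := F) T hTS
  have hm := FusionKit88.sub_mor (hJT _ hNJ _ hNT)
    ((FusionSysNormal.mor_normalizerSystem_iff hNJ).2 ⟨hf, hP, hfP, hext⟩)
  obtain ⟨-, -, -, f', -, hag, him⟩ := (FusionSysNormal.mor_normalizerSystem_iff hNT).1 hm
  rw [← hag t (hTP ht)]
  exact him ▸ FusionSysBasic.apply_mem_im ht

end Cfsg.Agent.S5278
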