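import Cfsg.Statements.S5280
import Cfsg.Agent.Lib.GlaubermanConstrained
import Cfsg.Agent.Lib.FusionSysGroup
import Cfsg.Agent.Lib.FusionSysNormal
import Cfsg.Agent.S5279
-- import your own Cfsg.Agent.* helpers here

set_option autoImplicit false
open Cfsg

namespace Cfsg.Agent.S5280

/-- Let p be a prime greater than 3, G a finite group with Sylow p-subgroup P, and F the fusion system of G on P. Suppose F is p-stable: for every fully normalized subgroup Q and every χ in Aut_F(Q) acting quadratically on Q (χ(a⁻¹)·a·χ(a⁻¹)·χ(χ(a)) = 1 for all a in Q), χ lies in O_p(Aut_F(Q)). Then F is constrained: some subgroup normal in F is F-centric. -/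
theorem result {Ω : Type*} [Group Ω] [Finite Ω] (p : ℕ) [Fact p.Prime] (hp : 3 < p) (P : Sylow p Ω) (hst : (∀ Q : Subgroup Ω, (Cfsg.groupFusionSystem (P : Subgroup Ω)).IsFullyNormalized Q → ∀ χ : MulAut ↥Q, χ ∈ (Cfsg.groupFusionSystem (P : Subgroup Ω)).autGroup Q → (∀ a : ↥Q, (χ a⁻¹) * a * (χ a⁻¹) * (χ (χ a)) = 1) → χ ∈ ((Cfsg.pCore p ↥((Cfsg.groupFusionSystem (P : Subgroup Ω)).autGroup Q)).map ((Cfsg.groupFusionSystem (P : Subgroup Ω)).autGroup Q).subtype : Subgroup (MulAut ↥Q)))) : (Cfsg.groupFusionSystem (P : Subgroup Ω)).IsConstrained p := by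
  haveI hp2 : p ≠ 2 := by omega
  set F := Cfsg.groupFusionSystem (P : Subgroup Ω) with hF
  have hS : IsPGroup p (P : Subgroup Ω) := P.isPGroup'
  have hsat : F.IsSaturated p := FusionSysGroup.saturated_group P
  set Q := F.core with hQdef
  have hQn : F.IsNormal Q := FusionSysNormal.core_isNormal
  have hQS : Q ≤ (P : Subgroup Ω) := hQn.1
  refine ⟨hsat, Q, hQn, hQS, ?_⟩
  have hst' := S5279.stable_of_fusion P hst
  set N := Subgroup.normalizer (Q : Set Ω) with hN
  have hPN : (P : Subgroup Ω) ≤ N := FusionSysNormal.le_normalizer_of_normal hQn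
  suffices hle : (P : Subgroup Ω) ⊓ Subgroup.centralizer (Q : Set Ω) ≤ Q by
    intro Q' hQ'
    obtain ⟨f, hf, rfl⟩ := FusionSysBasic.isConj_iff.mp hQ'
    have h1 : FusionSysBasic.im Q f ≤ Q := FusionSysBasic.im_le_iff.mpr fun x hx =>
      FusionSysNormal.stronglyClosed_invariant (FusionSysNormal.stronglyClosed_of_normal hQn) hf hx hx
    rw [hf.im_eq_of_le hQS h1 le_rfl]
    exact hle
  by_contra hnot
  haveI : (Q.subgroupOf N).Normal := Subgroup.normal_subgroupOf_of_le_normalizer le_rfl
  set PN := P.subtype hPN with hPNdef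
  have hmemPN : ∀ y : N, y ∈ (PN : Subgroup N) ↔ (y : Ω) ∈ (P : Subgroup Ω) := fun y => Iff.rfl
  obtain ⟨R, hRP, hPR, hRQ, hinv, hJ⟩ := GlaubermanConstrained.exists_invariant hp2
    (GlaubermanStable.isNormalizerPStable_subgroup hst' N) PN (Q.subgroupOf N)
    (fun y hy => (hmemPN y).mpr (hQS hy)) (fun hle => hnot fun x hx => by
      refine hle (x := ⟨x, hPN hx.1⟩) ⟨(hmemPN _).mpr hx.1, Subgroup.mem_centralizer_iff.mpr fun q hq => ?_⟩
      exact Subtype.ext (Subgroup.mem_centralizer_iff.mp hx.2 (q : Ω) hq))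
  set R' := R.map N.subtype with hR'
  have hR'P : R' ≤ (P : Subgroup Ω) := by
    rintro _ ⟨y, hy, rfl⟩
    exact (hmemPN y).mp (hRP hy)
  have hmemR : ∀ y : N, (y : Ω) ∈ R' → y ∈ R := by
    rintro y ⟨y', hy', he⟩
    rwa [← Subtype.ext he]
  -- centric radical subgroups and their automizers
  have hcr : ∀ X : Subgroup Ω, (X = (P : Subgroup Ω) ∨ F.IsEssential p X) →
      R' ⊔ Q ≤ X ∧ ∀ α ∈ F.autGroup X, ∀ x ∈ R' ⊔ Q, FusionSysBasic.afun α x ∈ R' ⊔ Q := by
    intro X hX
    have hXP : X ≤ (P : Subgroup Ω) := by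
      rcases hX with rfl | hX
      · exact le_rfl
      · exact hX.1.1
    have hQX : Q ≤ X := by
      rcases hX with rfl | hX
      · exact hQS
      · exact FusionSysNormal.normal_le_centric_radical hS hQn hX.1
          (FusionSysAlperin.radical_of_essential hS hX)
    have hXN : X ≤ N := hXP.trans hPN
    set X' := X.subgroupOf N with hX'
    have hX'Q : Q.subgroupOf N ≤ X' := fun y hy => hQX hy
    have hX'P : X' ≤ (PN : Subgroup N) := fun y hy => (hmemPN y).mpr (hXP hy)
    -- automorphisms come from `N`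
    have haut : ∀ α ∈ F.autGroup X, ∃ g : Ω, ∃ hg : g ∈ N,
        (⟨g, hg⟩ : N) ∈ Subgroup.normalizer (X' : Set N) ∧
        ∀ x ∈ X, FusionSysBasic.afun α x = FusionSysBasic.cj g x := by
      intro α hα
      obtain ⟨g, -, hgn, hge⟩ :=
        FusionSysBasic.mem_autInducedBy.mp ((FusionSysGroup.mem_autGroup_group hXP).mp hα)
      have hgN : g ∈ N := by
        refine FusionSysBasic.mem_normalizer_of_cj_le (S := (P : Subgroup Ω)) hQS fun x hx => ?_
        rw [← hge x (hQX hx)]
        exact FusionSysNormal.stronglyClosed_invariant (FusionSysNormal.stronglyClosed_of_normal hQn)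
          ((FusionSysBasic.mem_autGroup hXP).mp hα) (hQX hx) hx
      refine ⟨g, hgN, Subgroup.mem_normalizer_iff.mpr fun y => ?_, hge⟩
      exact (Subgroup.mem_normalizer_iff.mp hgn (y : Ω))
    have hR'X : R' ≤ X := by
      rcases hX with rfl | hX
      · exact hR'P
      obtain ⟨J, hJR, hJX, hJn, hJp⟩ := hJ X' hX'Q hX'P
      refine FusionSysNormal.le_of_normal_pSubgroup hS hX.1 (FusionSysAlperin.radical_of_essential hS hX)
        hR'P ?_ (M := Cfsg.autInducedBy (J.map N.subtype) X) ?_ ?_ ?_ ?_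
      · rintro x hx
        exact Subgroup.le_normalizer_map N.subtype
          (Subgroup.mem_map_of_mem _ (hPR ((hmemPN ⟨x, hXN hx⟩).mpr (hXP hx))))
      · intro α hα
        rw [FusionSysGroup.mem_autGroup_group hXP]
        exact FusionSysBasic.autInducedBy_mono le_top X hα
      · intro α
        obtain ⟨j, ⟨y, hy, rfl⟩, hjn, hje⟩ := FusionSysBasic.mem_autInducedBy.mp α.2
        obtain ⟨i, hi⟩ := hJp y hy
        refine ⟨i, Subtype.ext ?_⟩
        rw [SubgroupClass.coe_pow, OneMemClass.coe_one]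
        have hpow : ∀ (n : ℕ) (x : X), ((((α : MulAut X) ^ n) x : X) : Ω) =
            (y : Ω) ^ n * x * ((y : Ω) ^ n)⁻¹ := by
          intro n
          induction n with
          | zero => intro x; simp
          | succ n ihn =>
            intro x
            rw [pow_succ', MulAut.mul_apply, ← FusionSysBasic.afun_coe,
              hje _ (((α : MulAut X) ^ n) x).2, ihn x, FusionSysBasic.cj_apply, pow_succ']
            simp only [Subgroup.coe_subtype]
            group
        refine MulEquiv.ext fun x => Subtype.ext ?_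
        rw [hpow]
        have h1 := congrArg Subtype.val
          (Subgroup.mem_centralizer_iff.mp hi (⟨x, hXN x.2⟩ : N) x.2)
        simp only [Subgroup.coe_mul, SubgroupClass.coe_pow] at h1
        rw [← h1, mul_inv_cancel_right]
        rfl
      · intro α hα m hm
        obtain ⟨g, hgN, hgX, hge⟩ := haut α hα
        obtain ⟨j, ⟨y, hy, rfl⟩, hjn, hje⟩ := FusionSysBasic.mem_autInducedBy.mp hm
        have h2 : (⟨g, hgN⟩ : N) * y * (⟨g, hgN⟩ : N)⁻¹ ∈ J :=
          (Subgroup.mem_normalizer_iff.mp (hJn hgX) y).mp hy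
        have hgn : g ∈ Subgroup.normalizer (X : Set Ω) := by
          refine FusionSysBasic.mem_normalizer_of_cj_le (S := (P : Subgroup Ω)) hXP fun x hx => ?_
          rw [← hge x hx]
          exact FusionSysBasic.afun_mem α hx
        refine FusionSysBasic.mem_autInducedBy.mpr ⟨_, Subgroup.mem_map_of_mem _ h2, ?_, ?_⟩
        · exact mul_mem (mul_mem hgn hjn) (inv_mem hgn)
        · intro x hx
          have hx' := FusionSysBasic.afun_mem α⁻¹ hx
          rw [FusionSysBasic.afun_mul _ _ hx, FusionSysBasic.afun_mul _ _ hx', hje _ hx',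
            hge _ (FusionSysBasic.cj_mem_of_normalizer hjn hx')]
          have h3 : FusionSysBasic.afun α⁻¹ x = FusionSysBasic.cj g⁻¹ x := by
            conv_rhs => rw [← FusionSysBasic.afun_apply_inv α hx, hge _ hx',
              FusionSysBasic.cj_inv_cj]
          rw [h3, FusionSysBasic.cj_cj, FusionSysBasic.cj_cj]
          show FusionSysBasic.cj _ x = FusionSysBasic.cj _ x
          congr 1
      · intro q hq
        have hqN : (q : Ω) ∈ N := hPN (hR'P hq)
        refine FusionSysBasic.mem_autInducedBy.mpr ⟨q, ?_, q.2.2, fun x hx => FusionSysBasic.afun_nHom q hx⟩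
        refine ⟨⟨(q : Ω), hqN⟩, hJR ⟨hmemR _ hq, Subgroup.mem_normalizer_iff.mpr fun y => ?_⟩, rfl⟩
        exact Subgroup.mem_normalizer_iff.mp q.2.2 (y : Ω)
    refine ⟨sup_le hR'X hQX, fun α hα x hx => ?_⟩
    obtain ⟨g, hgN, hgX, hge⟩ := haut α hα
    rw [hge x (sup_le hR'X hQX hx)]
    have hR'n : g ∈ Subgroup.normalizer (R' : Set Ω) := Subgroup.le_normalizer_map N.subtype
      (Subgroup.mem_map_of_mem _ (hinv X' hX'Q hX'P (fun y hy =>
        hR'X (Subgroup.mem_map_of_mem _ hy)) hgX))
    refine (Subgroup.mem_normalizer_iff.mp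
      (LocalBasics.le_normalizer_sup (X := Subgroup.normalizer (R' : Set Ω) ⊓ N) inf_le_left
        inf_le_right ⟨hR'n, hgN⟩) x).mp hx
  have hnorm : F.IsNormal (R' ⊔ Q) := FusionSysNormal.isNormal_of_le_autGroup hS hsat hcr
  have hle : R' ≤ Q := le_sup_left.trans (FusionSysNormal.le_core hnorm)
  exact hRQ fun y hy => hle (Subgroup.mem_map_of_mem _ hy)
end Cfsg.Agent.S5280
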