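import Cfsg.Statements.S5284
import Cfsg.Agent.Lib.FusionSupersolubleCriterion

set_option autoImplicit false
set_option linter.style.haveILetI false
open Cfsg

namespace Cfsg.Agent.S5284

open Cfsg.Agent.FusionSupersolubleCriterion

/-- Transport of automorphisms of a square to a group with that square as a direct factor. -/
def liftAut {C G H : Type*} [Group C] [Group G] [Group H] (e : G ≃* (C × C) × H) :
    MulAut (C × C) →* MulAut G :=
  MonoidHom.mk' (fun a => e.trans ((MulEquiv.prodCongr a (MulEquiv.refl H)).trans e.symm))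
    fun a b => MulEquiv.ext fun x => by
      show e.symm _ = e.symm ((MulEquiv.prodCongr a (MulEquiv.refl H))
        (e (e.symm ((MulEquiv.prodCongr b (MulEquiv.refl H)) (e x)))))
      rw [e.apply_symm_apply]
      rfl

theorem liftAut_injective {C G H : Type*} [Group C] [Group G] [Group H] (e : G ≃* (C × C) × H) :
    Function.Injective (liftAut e) := by
  intro a b h
  refine MulEquiv.ext fun x => ?_
  have := congrArg (fun f : MulAut G => (e (f (e.symm (x, 1)))).1) h
  change (e (e.symm ((MulEquiv.prodCongr a (MulEquiv.refl H)) (e (e.symm (x, 1)))))).1 =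
    (e (e.symm ((MulEquiv.prodCongr b (MulEquiv.refl H)) (e (e.symm (x, 1)))))).1 at this
  rw [e.apply_symm_apply, e.apply_symm_apply, e.apply_symm_apply] at this
  exact this

/-- An automorphism of order three of a square of a commutative group. -/
def rot (C : Type*) [CommGroup C] : MulAut (C × C) where
  toFun x := (x.2⁻¹, x.1 * x.2⁻¹)
  invFun x := (x.2 * x.1⁻¹, x.1⁻¹)
  left_inv x := Prod.ext (show x.1 * x.2⁻¹ * x.2⁻¹⁻¹ = x.1 by group) (inv_inv x.2)
  right_inv x := Prod.ext (inv_inv x.1) (show x.2 * x.1⁻¹ * x.1⁻¹⁻¹ = x.2 by group)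
  map_mul' x y := Prod.ext (mul_inv x.2 y.2)
    (show x.1 * y.1 * (x.2 * y.2)⁻¹ = x.1 * x.2⁻¹ * (y.1 * y.2⁻¹) by
      rw [mul_inv, mul_mul_mul_comm])

theorem rot_pow_three (C : Type*) [CommGroup C] : rot C ^ 3 = 1 := MulEquiv.ext fun x => by
  rw [pow_succ, pow_two, MulAut.mul_apply, MulAut.mul_apply]
  exact Prod.ext (show (x.2⁻¹ * (x.1 * x.2⁻¹)⁻¹)⁻¹ = x.1 by group)
    (show (x.1 * x.2⁻¹)⁻¹ * (x.2⁻¹ * (x.1 * x.2⁻¹)⁻¹)⁻¹ = x.2 by group)

/-- Automorphisms showing that a square factor is not allowed. -/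
theorem not_good_of_square {p : ℕ} [hp : Fact p.Prime] {n : ℕ} (hn : 0 < n) {G H : Type*}
    [Group G] [Finite G] [Group H]
    (e : G ≃* (Multiplicative (ZMod (p ^ n)) × Multiplicative (ZMod (p ^ n))) × H) :
    ¬ Good p G := by
  intro hg
  haveI : Finite (MulAut G) :=
    Finite.of_injective (fun β : MulAut G => (β : G → G)) DFunLike.coe_injective
  haveI : Fact (1 < p ^ n) := ⟨Nat.one_lt_pow hn.ne' hp.out.one_lt⟩
  set C := Multiplicative (ZMod (p ^ n))
  let u : C := Multiplicative.ofAdd 1
  have hu : u ≠ 1 := fun h => one_ne_zero (α := ZMod (p ^ n)) (Multiplicative.ofAdd.injective h)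
  by_cases hp2 : p = 2
  · subst hp2
    let r : MulAut (C × C) := rot C
    have hr3 : r ^ 3 = 1 := rot_pow_three C
    have hr1 : r ≠ 1 := fun h => by
      have := congrArg (fun f : MulAut (C × C) => (f (u, 1)).1) h
      simp [r, rot] at this
      exact hu this.symm
    have hord : orderOf (liftAut e r) = 3 := by
      rw [orderOf_injective _ (liftAut_injective e)]
      haveI : Fact (Nat.Prime 3) := ⟨Nat.prime_three⟩
      exact orderOf_eq_prime hr3 hr1
    obtain ⟨-, h⟩ := hg (Subgroup.zpowers (liftAut e r)) (by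
      rw [Nat.card_zpowers, hord]; decide)
    have h1 := h _ (Subgroup.mem_zpowers _)
    rw [show (2 : ℕ) - 1 = 1 from rfl, pow_one] at h1
    exact hr1 (liftAut_injective e (h1.trans (map_one _).symm))
  · let s : MulAut (C × C) := MulEquiv.prodComm
    let t : MulAut (C × C) := MulEquiv.prodCongr (MulEquiv.inv C) (MulEquiv.refl C)
    set a := liftAut e s with ha
    set b := liftAut e t with hb
    have ha2 : a * a = 1 := by
      rw [ha, ← map_mul, show s * s = 1 from MulEquiv.ext fun x => by simp [s, MulAut.mul_apply],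
        map_one]
    have hb2 : b * b = 1 := by
      rw [hb, ← map_mul, show t * t = 1 from MulEquiv.ext fun x => Prod.ext (inv_inv x.1) rfl,
        map_one]
    have hab4 : (a * b) ^ 4 = 1 := by
      rw [ha, hb, ← map_mul, ← map_pow, show (s * t) ^ 4 = 1 from MulEquiv.ext fun x => by
        rw [pow_succ, pow_succ, pow_two]
        exact Prod.ext (inv_inv x.1) (inv_inv x.2), map_one]
    haveI : Fact (Nat.Prime 2) := ⟨Nat.prime_two⟩
    set K := Subgroup.zpowers (a * b) with hK
    have hK2 : IsPGroup 2 K := by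
      rintro ⟨x, hx⟩
      obtain ⟨j, rfl⟩ := Subgroup.mem_zpowers_iff.mp hx
      exact ⟨2, Subtype.ext (by
        rw [SubmonoidClass.coe_pow]
        show ((a * b) ^ j) ^ (4 : ℕ) = 1
        rw [← zpow_natCast, ← zpow_mul, mul_comm, zpow_mul, zpow_natCast, hab4, one_zpow])⟩
    have hA2 : IsPGroup 2 (Subgroup.zpowers a) := by
      rintro ⟨x, hx⟩
      obtain ⟨j, rfl⟩ := Subgroup.mem_zpowers_iff.mp hx
      exact ⟨1, Subtype.ext (by
        rw [SubmonoidClass.coe_pow]
        show (a ^ j) ^ (2 : ℕ) = 1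
        rw [← zpow_natCast, ← zpow_mul, mul_comm, zpow_mul, zpow_natCast, pow_two, ha2, one_zpow])⟩
    have hai : a⁻¹ = a := inv_eq_of_mul_eq_one_right ha2
    have hbi : b⁻¹ = b := inv_eq_of_mul_eq_one_right hb2
    have hnorm : Subgroup.zpowers a ≤ Subgroup.normalizer (K : Set (MulAut G)) := by
      refine Subgroup.zpowers_le.mpr (Subgroup.mem_normalizer_iff.mpr fun x => ?_)
      have hc : ∀ y ∈ K, a * y * a⁻¹ ∈ K := by
        intro y hy
        obtain ⟨j, rfl⟩ := Subgroup.mem_zpowers_iff.mp hy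
        rw [show a * (a * b) ^ j * a⁻¹ = (a * (a * b) * a⁻¹) ^ j from conj_zpow.symm,
          show a * (a * b) * a⁻¹ = (a * b)⁻¹ by
            rw [← mul_assoc, ha2, one_mul, mul_inv_rev, hbi]]
        exact zpow_mem (inv_mem (Subgroup.mem_zpowers _)) j
      exact ⟨hc x, fun hx => by
        have := hc _ hx
        rwa [show a * (a * x * a⁻¹) * a⁻¹ = (a * a) * x * (a * a)⁻¹ by group, ha2, one_mul, inv_one,
          mul_one] at this⟩
    have hle : Subgroup.closure {a, b} ≤ Subgroup.zpowers a ⊔ K := by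
      rw [Subgroup.closure_le]
      rintro x (rfl | rfl)
      · exact Subgroup.mem_sup_left (Subgroup.mem_zpowers _)
      · have h1 := mul_mem (inv_mem (Subgroup.mem_sup_left (Subgroup.mem_zpowers a) :
          a ∈ Subgroup.zpowers a ⊔ K)) (Subgroup.mem_sup_right (Subgroup.mem_zpowers (a * b)))
        rwa [inv_mul_cancel_left] at h1
    obtain ⟨k, hk⟩ := IsPGroup.iff_card.mp
      ((hA2.to_sup_of_normal_right' hK2 hnorm).to_le hle)
    obtain ⟨hc, -⟩ := hg (Subgroup.closure {a, b}) (by
      rw [hk]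
      exact Nat.Coprime.pow_left k ((Nat.coprime_primes Nat.prime_two hp.out).mpr (Ne.symm hp2)))
    have h1 : a * b = b * a := congrArg Subtype.val (hc.is_comm.comm
      (⟨a, Subgroup.subset_closure (Or.inl rfl)⟩ : Subgroup.closure {a, b})
      ⟨b, Subgroup.subset_closure (Or.inr rfl)⟩)
    rw [ha, hb, ← map_mul, ← map_mul] at h1
    have h2 := congrArg (fun f : MulAut (C × C) => (f (u, 1)).2) (liftAut_injective e h1)
    simp [s, t, MulAut.mul_apply] at h2
    have h3 : (2 : ZMod (p ^ n)) = 0 := by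
      have h4 : (-1 : ZMod (p ^ n)) = 1 := congrArg Multiplicative.toAdd h2
      linear_combination -h4
    have h4 := (ZMod.natCast_eq_zero_iff 2 (p ^ n)).mp h3
    have := (Nat.prime_dvd_prime_iff_eq hp.out Nat.prime_two).mp ((dvd_pow_self p hn.ne').trans h4)
    exact hp2 this

/-- Without repeated invariants the automorphisms of order prime to `p` are diagonal. -/
theorem good_of_no_square {p : ℕ} [hp : Fact p.Prime] {G : Type*} [CommGroup G] [Finite G]
    (hG : IsPGroup p G)
    (h : ¬ ∃ (n : ℕ) (H : Type) (_ : CommGroup H), 0 < n ∧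
      Nonempty (G ≃* (Multiplicative (ZMod (p ^ n)) × Multiplicative (ZMod (p ^ n))) × H)) :
    Good p G := by
  classical
  obtain ⟨ι, hι, m, hm, ⟨e⟩⟩ := CommGroup.equiv_prod_multiplicative_zmod_of_finite G
  haveI : ∀ i, NeZero (m i) := fun i => ⟨by have := hm i; omega⟩
  obtain ⟨N, hN⟩ := IsPGroup.iff_card.mp hG
  have hexp : ∀ i, ∃ k ≤ N, m i = p ^ k := by
    intro i
    refine (Nat.dvd_prime_pow hp.out).mp ?_
    rw [← hN, Nat.card_congr e.toEquiv, Nat.card_pi]
    have e1 : Nat.card (Multiplicative (ZMod (m i))) = m i := Nat.card_zmod _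
    exact e1.symm.dvd.trans (Finset.dvd_prod_of_mem _ (Finset.mem_univ i))
  have hinj : Function.Injective m := by
    intro a b hab
    by_contra hne
    obtain ⟨k, -, hk⟩ := hexp a
    refine h ⟨k, ∀ i : {i // i ≠ a ∧ i ≠ b}, Multiplicative (ZMod (m i)), inferInstance, ?_, ⟨?_⟩⟩
    · rcases Nat.eq_zero_or_pos k with rfl | hpos
      · have := hm a; rw [hk] at this; simp at this
      · exact hpos
    let ca : Multiplicative (ZMod (m a)) ≃* Multiplicative (ZMod (p ^ k)) :=
      AddEquiv.toMultiplicative (ZMod.ringEquivCongr hk).toAddEquiv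
    let cb : Multiplicative (ZMod (m b)) ≃* Multiplicative (ZMod (p ^ k)) :=
      AddEquiv.toMultiplicative (ZMod.ringEquivCongr (hab.symm.trans hk)).toAddEquiv
    let back : (Multiplicative (ZMod (p ^ k)) × Multiplicative (ZMod (p ^ k))) ×
        (∀ i : {i // i ≠ a ∧ i ≠ b}, Multiplicative (ZMod (m i))) →
        ∀ i, Multiplicative (ZMod (m i)) := fun x i =>
      if ha : i = a then ha ▸ ca.symm x.1.1 else if hb : i = b then hb ▸ cb.symm x.1.2
      else x.2 ⟨i, ha, hb⟩
    refine e.trans
      { toFun := fun w => ((ca (w a), cb (w b)), fun i => w i)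
        invFun := back
        left_inv := fun w => funext fun i => ?_
        right_inv := fun x => ?_
        map_mul' := fun v w => by
          simp only [Pi.mul_apply, map_mul, Prod.mk_mul_mk]
          rfl }
    · show back _ i = w i
      by_cases ha : i = a
      · subst ha; simp [back]
      · by_cases hb : i = b
        · subst hb; simp [back, ha]
        · simp [back, ha, hb]
    · refine Prod.ext (Prod.ext ?_ ?_) (funext fun i => ?_)
      · simp [back]
      · simp [back, Ne.symm hne]
      · simp [back, i.2.1, i.2.2]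
  intro H hH
  haveI : Finite (MulAut G) :=
    Finite.of_injective (fun β : MulAut G => (β : G → G)) DFunLike.coe_injective
  let T : ℕ → Subgroup G := fun j =>
    (powMonoidHom (p ^ j) : G →* G).ker ⊔ (powMonoidHom p : G →* G).range
  let D : CyclicSeries.Ser H :=
    { n := N
      T := T
      top := eq_top_iff.mpr fun g _ => Subgroup.mem_sup_left (show g ^ p ^ N = 1 by
        rw [← hN]; exact pow_card_eq_one')
      inv := fun a _ j _ x hx => by
        obtain ⟨y, hy, z, ⟨w, rfl⟩, rfl⟩ := Subgroup.mem_sup.mp hx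
        rw [map_mul]
        refine mul_mem (Subgroup.mem_sup_left ?_) (Subgroup.mem_sup_right ⟨a w, ?_⟩)
        · show a y ^ p ^ j = 1
          rw [← map_pow, show y ^ p ^ j = 1 from hy, map_one]
        · exact (map_pow a w p).symm
      cyc := fun j _ => by
        obtain ⟨x, hxT, hx⟩ : ∃ x, x ∈ T (j + 1) ∧
            T (j + 1) ≤ T j ⊔ Subgroup.zpowers x := by
          obtain ⟨x, hxk, hx⟩ : ∃ x : G, x ^ p ^ (j + 1) = 1 ∧ ∀ i, m i = p ^ (j + 1) →
              ∀ z : Multiplicative (ZMod (m i)), e.symm (Pi.mulSingle i z) ∈ Subgroup.zpowers x := by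
            by_cases hex : ∃ i, m i = p ^ (j + 1)
            · obtain ⟨i₀, hi₀⟩ := hex
              refine ⟨e.symm (Pi.mulSingle i₀ (Multiplicative.ofAdd 1)), ?_, fun i hi z => ?_⟩
              · rw [← map_pow, ← Pi.mulSingle_pow, ← ofAdd_nsmul, nsmul_one, ← hi₀, ZMod.natCast_self,
                  ofAdd_zero, Pi.mulSingle_one, map_one]
              · obtain rfl : i = i₀ := hinj (hi.trans hi₀.symm)
                refine ⟨(z.toAdd.val : ℤ), ?_⟩
                show _ ^ ((z.toAdd.val : ℕ) : ℤ) = _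
                rw [zpow_natCast, ← map_pow, ← Pi.mulSingle_pow, ← ofAdd_nsmul, nsmul_one,
                  ZMod.natCast_zmod_val, ofAdd_toAdd]
            · exact ⟨1, one_pow _, fun i hi => absurd ⟨i, hi⟩ hex⟩
          refine ⟨x, Subgroup.mem_sup_left hxk, sup_le (fun y hy => ?_)
            (le_sup_right.trans le_sup_left)⟩
          rw [← e.symm_apply_apply y, ← Finset.univ_prod_mulSingle (e y), map_prod]
          refine Subgroup.prod_mem _ fun i _ => ?_
          obtain ⟨k, -, hk⟩ := hexp i
          set z := e y i with hz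
          have hzp : z ^ p ^ (j + 1) = 1 := by
            rw [hz, ← Pi.pow_apply, ← map_pow, show y ^ p ^ (j + 1) = 1 from hy, map_one]; rfl
          rcases lt_trichotomy k (j + 1) with hlt | heq | hgt
          · refine Subgroup.mem_sup_left (Subgroup.mem_sup_left ?_)
            show (e.symm (Pi.mulSingle i z)) ^ p ^ j = 1
            obtain ⟨d, hd⟩ := pow_dvd_pow p (show k ≤ j by omega)
            rw [← map_pow, ← Pi.mulSingle_pow, ← ofAdd_toAdd z, ← ofAdd_nsmul, hd, mul_smul,
              ← hk, nsmul_eq_mul, ZMod.natCast_self, zero_mul, ofAdd_zero, Pi.mulSingle_one,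
              map_one]
          · exact Subgroup.mem_sup_right (hx i (heq ▸ hk) z)
          · refine Subgroup.mem_sup_left (Subgroup.mem_sup_right
              ⟨e.symm (Pi.mulSingle i (Multiplicative.ofAdd (((z.toAdd.val / p : ℕ) : ZMod (m i))))), ?_⟩)
            show (_ : G) ^ p = _
            rw [← map_pow, ← Pi.mulSingle_pow, ← ofAdd_nsmul, nsmul_eq_mul, ← Nat.cast_mul,
              Nat.mul_div_cancel' ?_, ZMod.natCast_zmod_val, ofAdd_toAdd]
            have h1 : p ^ (j + 1) • z.toAdd = 0 := congrArg Multiplicative.toAdd hzp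
            rw [nsmul_eq_mul, ← ZMod.natCast_zmod_val z.toAdd, ← Nat.cast_mul,
              ZMod.natCast_eq_zero_iff] at h1
            have hk2 : p ^ (j + 1) * p ^ (k - (j + 1)) = m i := by
              rw [hk, ← pow_add]; congr 1; omega
            exact (dvd_pow_self p (show k - (j + 1) ≠ 0 by omega)).trans
              ((Nat.mul_dvd_mul_iff_left (pow_pos hp.out.pos _)).mp (hk2.dvd.trans h1))
        have hcyc : IsCyclic ↥((T (j + 1)).map (QuotientGroup.mk' (T j))) := by
          refine isCyclic_of_injective (Subgroup.inclusion (K := Subgroup.zpowers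
            (QuotientGroup.mk' (T j) x)) ?_) (Subgroup.inclusion_injective _)
          rintro _ ⟨y, hy, rfl⟩
          obtain ⟨u, hu, v, hv, rfl⟩ := Subgroup.mem_sup.mp (hx hy)
          obtain ⟨l, rfl⟩ := Subgroup.mem_zpowers_iff.mp hv
          rw [map_mul, map_zpow, show QuotientGroup.mk' (T j) u = 1 from
            (QuotientGroup.eq_one_iff u).mpr hu, one_mul]
          exact zpow_mem (Subgroup.mem_zpowers _) l
        exact ⟨_, inferInstance, hcyc, (QuotientGroup.mk' (T j)).subgroupMap (T (j + 1)),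
          fun y => by
            rw [← Subtype.coe_inj]
            exact QuotientGroup.eq_one_iff _⟩ }
  refine CyclicSeries.comm_and_pow D hG ?_ hH
  refine sup_le ?_ ?_
  · intro x hx
    rw [MonoidHom.mem_ker, powMonoidHom_apply, pow_zero, pow_one] at hx
    exact hx ▸ one_mem _
  · rintro _ ⟨x, rfl⟩
    exact PGroupsBasic.pow_mem_frattini hG x

theorem result {Ω : Type*} [Group Ω] {S : Subgroup Ω} [Finite S] (p : ℕ) [Fact p.Prime] (hS : IsPGroup p ↥S) (hab : IsMulCommutative ↥S) : (∀ F : Cfsg.FusionSystem S, F.IsSaturated p → (∃ (m : ℕ) (c : Fin (m + 1) → Subgroup Ω), c 0 = ⊥ ∧ c (Fin.last m) = S ∧ (∀ i : Fin (m + 1), F.StronglyClosed (c i)) ∧ ∀ i : Fin m, c i.castSucc ≤ c i.succ ∧ ∃ x ∈ S, c i.succ = c i.castSucc ⊔ Subgroup.zpowers x)) ↔ ¬ ∃ (n : ℕ) (H : Type) (_ : CommGroup H), 0 < n ∧ Nonempty (↥S ≃* (Multiplicative (ZMod (p ^ n)) × Multiplicative (ZMod (p ^ n))) × H) := by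
  refine (super_iff hS).trans ⟨fun h => ?_, fun h => ⟨fun F hF => ?_, ?_⟩⟩
  · rintro ⟨n, H, _, hn, ⟨e⟩⟩
    exact not_good_of_square hn e h.2
  · refine FusionSysNormal.isNormal_of_le_centric_radical hS hF
      (FusionSysNormal.stronglyClosed_iff.mpr ⟨le_rfl, fun P f _ hf x hx => hf.apply_mem hx⟩)
      fun R hR => ?_
    intro x hx
    refine FusionSysAlperin.centralizerIn_le_of_centric hR.1 ⟨hx, fun y hy => ?_⟩
    exact congrArg Subtype.val (hab.is_comm.comm (⟨y, hR.1.1 hy⟩ : ↥S) ⟨x, hx⟩)
  · letI : CommGroup ↥S := { (inferInstance : Group ↥S) with mul_comm := hab.is_comm.comm }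
    exact good_of_no_square hS h

end Cfsg.Agent.S5284
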