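import Cfsg.Statements.S5287
import Cfsg.Agent.Lib.FusionTwoMaxClassNotNormal
import Cfsg.Agent.Lib.FusionMetacyclicResistant
import Cfsg.Agent.S5234
import Cfsg.Agent.S5284

set_option autoImplicit false
set_option linter.style.haveILetI false
open Cfsg

namespace Cfsg.Agent.S5287

open Cfsg.Agent.FusionSupersolubleCriterion Cfsg.Agent.FusionTwoMaxClassNotNormal
  Cfsg.Agent.FusionSysBasic Cfsg.Agent.FusionSysNormal

theorem exists_two_pow {R : Type*} [Group R] [Finite R] (hR : IsPGroup 2 R) {n c : ℕ} (hc : 0 < c)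
    (hn : Nat.card R = c * n) : ∃ a, n = 2 ^ a := by
  obtain ⟨k, hk⟩ := (haveI : Fact (Nat.Prime 2) := ⟨Nat.prime_two⟩; IsPGroup.iff_card.mp hR)
  obtain ⟨a, -, ha⟩ := (Nat.dvd_prime_pow Nat.prime_two).mp
    (show n ∣ 2 ^ k from hk ▸ hn ▸ dvd_mul_left n c)
  exact ⟨a, ha⟩

theorem isCyclic_dihedral_one : IsCyclic (DihedralGroup 1) := by
  haveI : Fact (Nat.Prime 2) := ⟨Nat.prime_two⟩
  exact isCyclic_of_prime_card (p := 2) DihedralGroup.nat_card

theorem result {Ω : Type*} [Group Ω] {S : Subgroup Ω} [Finite S] (p : ℕ) [Fact p.Prime] (hS : IsPGroup p ↥S) (hm : Cfsg.IsMetacyclic ↥S) : (∀ F : Cfsg.FusionSystem S, F.IsSaturated p → (∃ (m : ℕ) (c : Fin (m + 1) → Subgroup Ω), c 0 = ⊥ ∧ c (Fin.last m) = S ∧ (∀ i : Fin (m + 1), F.StronglyClosed (c i)) ∧ ∀ i : Fin m, c i.castSucc ≤ c i.succ ∧ ∃ x ∈ S, c i.succ = c i.castSucc ⊔ Subgroup.zpowers x)) ↔ ¬ ((∃ n : ℕ, 0 < n ∧ Nonempty (↥S ≃* Multiplicative (ZMod (p ^ n)) × Multiplicative (ZMod (p ^ n)))) ∨ (p = 2 ∧ ((∃ n : ℕ,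 2 ≤ n ∧ Nonempty (↥S ≃* DihedralGroup n)) ∨ Cfsg.IsQuasiDihedral ↥S ∨ (∃ n : ℕ, 2 ≤ n ∧ Nonempty (↥S ≃* QuaternionGroup n))))) := by
  refine (super_iff hS).trans ⟨fun ⟨hres, hgood⟩ => ?_, fun h => ?_⟩
  · rintro (⟨n, hn, ⟨e⟩⟩ | ⟨rfl, hcase⟩)
    · exact S5284.not_good_of_square hn (e.trans (MulEquiv.prodUnique (N := PUnit.{1})).symm) hgood
    have hbad : ¬ ∃ F : Cfsg.FusionSystem S, F.IsSaturated 2 ∧ ¬ F.IsNormal S :=
      fun ⟨F, hF, hn⟩ => hn (hres F hF)
    rcases hcase with ⟨n, hn, ⟨e⟩⟩ | hQD | ⟨n, hn, ⟨e⟩⟩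
    · obtain ⟨a, rfl⟩ := exists_two_pow hS two_pos
        (show Nat.card ↥S = 2 * n by rw [Nat.card_congr e.toEquiv, DihedralGroup.nat_card])
      rcases Nat.lt_or_ge a 2 with ha | ha
      · interval_cases a
        · simp at hn
        · -- the four-group
          haveI : IsKleinFour (DihedralGroup 2) := inferInstance
          haveI : IsKleinFour (Multiplicative (ZMod 2) × Multiplicative (ZMod 2)) :=
            ⟨by simp [Nat.card_prod], by
              rw [Monoid.exponent_prod, Monoid.exponent_multiplicative, ZMod.exponent]; rfl⟩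
          obtain ⟨e'⟩ := IsKleinFour.nonempty_mulEquiv (G₁ := DihedralGroup 2)
            (G₂ := Multiplicative (ZMod 2) × Multiplicative (ZMod 2))
          exact S5284.not_good_of_square (p := 2) (n := 1) one_pos
            ((e.trans e').trans (MulEquiv.prodUnique (N := PUnit.{1})).symm) hgood
      · exact hbad (not_normal_dihedral ha e)
    · exact hbad (not_normal_quasiDihedral hQD)
    · haveI : NeZero n := ⟨by omega⟩
      obtain ⟨a, rfl⟩ := exists_two_pow hS (show 0 < 4 by norm_num)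
        (show Nat.card ↥S = 4 * n by
          rw [Nat.card_congr e.toEquiv, Nat.card_eq_fintype_card, QuaternionGroup.card])
      rcases Nat.lt_or_ge a 2 with ha | ha
      · interval_cases a
        · simp at hn
        · exact not_good_quaternion e hgood
      · exact hbad (not_normal_quaternion ha e)
  -- supersolubility
  suffices ∀ F : Cfsg.FusionSystem S, F.IsSaturated p → Super F from (super_iff hS).mp this
  intro F hF
  have hsc : F.StronglyClosed S :=
    stronglyClosed_iff.mpr ⟨le_rfl, fun P f _ hf x hx => hf.apply_mem hx⟩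
  by_cases hcyc : IsCyclic ↥S
  · obtain ⟨x, hx⟩ := hcyc.exists_generator
    refine ⟨1, ![⊥, S], rfl, rfl, ?_, ?_⟩
    · intro i
      fin_cases i
      · exact stronglyClosed_of_normal normal_bot
      · exact hsc
    · intro i
      fin_cases i
      refine ⟨bot_le, x, x.2, ?_⟩
      show S = ⊥ ⊔ Subgroup.zpowers (x : Ω)
      rw [bot_sup_eq]
      refine le_antisymm (fun y hy => ?_) (Subgroup.zpowers_le.mpr x.2)
      obtain ⟨k, hk⟩ := Subgroup.mem_zpowers_iff.mp (hx ⟨y, hy⟩)
      exact ⟨k, congrArg Subtype.val hk⟩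
  push Not at h
  obtain ⟨h1, h2⟩ := h
  have hline : MetacyclicAutCases.HasCharLine ↥S := by
    rcases MetacyclicAutCases.cases hS hm with hc | hc | ⟨n, hn, ⟨e⟩⟩ | ⟨hp, ⟨e⟩⟩
    · exact absurd hc hcyc
    · exact hc
    · exact ((h1 n hn).false e).elim
    · exact (((h2 hp).2.2 2 le_rfl).false e).elim
  refine super_of hS hF ?_ fun H hH => MetacyclicAutCases.diagonal_of_charLine hS hline H hH
  by_cases hp2 : p = 2
  · subst hp2
    obtain ⟨hd, hsd, hq⟩ := h2 rfl
    refine FusionMetacyclicTwo.isNormal hS hF hsc hm ?_ ?_ hsd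
    · rintro ⟨m, ⟨e⟩⟩
      rcases Nat.lt_or_ge m 2 with hm2 | hm2
      · interval_cases m
        · haveI := Finite.of_equiv _ e.toEquiv
          exact not_finite (DihedralGroup 0)
        · haveI := isCyclic_dihedral_one
          exact hcyc (e.isCyclic.mpr inferInstance)
      · exact (hd m hm2).false e
    · rintro ⟨m, ⟨e⟩⟩
      rcases Nat.lt_or_ge m 2 with hm2 | hm2
      · interval_cases m
        · haveI := Finite.of_equiv _ e.toEquiv
          haveI : Infinite (QuaternionGroup 0) :=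
            Infinite.of_injective (fun i : ℤ => QuaternionGroup.a (n := 0) (show ZMod (2 * 0) from i))
              fun a b hab => QuaternionGroup.a.inj hab
          exact not_finite (QuaternionGroup 0)
        · exact hcyc (e.isCyclic.mpr QuaternionGroup.quaternionGroup_one_isCyclic)
      · exact (hq m hm2).false e
  · exact S5234.result p hS F hF S hsc hp2 hm

end Cfsg.Agent.S5287
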