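import Cfsg.Statements.S5289
import Cfsg.Agent.Lib.ResistantPlane89
import Cfsg.Agent.Lib.FusionFunctorNormal

set_option autoImplicit false
open Cfsg

namespace Cfsg.Agent.S5289

open Cfsg.FusionSystem Cfsg.Agent.FusionSysBasic Cfsg.Agent.FusionSysSaturated
  Cfsg.Agent.FusionSysAlperin

universe u

theorem no_essential {Ω : Type u} [Group Ω] {S : Subgroup Ω} [Finite S] {p : ℕ} [hp : Fact p.Prime]
    (hS : IsPGroup p S) {F : Cfsg.FusionSystem S} (hF : F.IsSaturated p) (hp5 : 5 ≤ p)
    (hrk : ∀ E : Subgroup Ω, E ≤ S → Cfsg.IsElementaryAbelian p E → Nat.card E ≤ p ^ 2)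
    (hnotE : ¬ (Nat.card S = p ^ 3 ∧ Monoid.exponent ↥S = p))
    {E : Subgroup Ω} (hE : F.IsEssential p E) : False := by
  have hp2 : p ≠ 2 := by omega
  have hlt := essential_lt hS hF hE
  have hr := radical_of_essential hS hE
  haveI := finite_of_le hlt.le
  haveI := finite_autGroup (F := F) E
  have hc := hE.1
  have hEp : IsPGroup p E := hS.to_le hlt.le
  -- no Sylow subgroup of the automizer is normal
  have hns : ∀ T : Sylow p ↥(F.autGroup E), ¬ (T : Subgroup ↥(F.autGroup E)).Normal := by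
    intro T hT
    have hT1 : (T : Subgroup ↥(F.autGroup E)) ≤ pCore p ↥(F.autGroup E) := le_sSup ⟨hT, T.2⟩
    obtain ⟨R, hR⟩ := (fullyAutomized_of_fullyNormalized hS hF hE.2.1).2
    have hRT : (R : Subgroup ↥(F.autGroup E)) = T := by
      haveI := hT
      refine (R.3 (R.2.to_sup_of_normal_right T.2) le_sup_left).symm.trans ?_
      exact T.3 (R.2.to_sup_of_normal_right T.2) le_sup_right
    obtain ⟨g, hg⟩ : ∃ g : ↥(normalizerIn S E), (g : Ω) ∉ E := by
      by_contra h
      push Not at h
      exact (normalizerIn_gt hS hlt).not_ge (Subgroup.card_le_of_le fun g hg => h ⟨g, hg⟩)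
    refine hg (mem_of_nHom_mem_inn hlt.le (centralizerIn_le_of_centric hc) g ?_)
    rw [← hr.2]
    refine ⟨TorusAutomiser89.cN F hlt.le g, hT1 (hRT ▸ ?_), rfl⟩
    rw [hR, Subgroup.mem_subgroupOf]
    exact autInducedBy_eq_range S E ▸ ⟨g, rfl⟩
  -- the subgroup generated by the elements of order `p`
  set X := (Subgroup.closure {x : E | x ^ p = 1}).map E.subtype with hX
  have hXE : X ≤ E := Subgroup.map_subtype_le _
  have hXexp : ∀ x ∈ X, x ^ p = 1 := by
    rintro _ ⟨x, hx, rfl⟩
    rw [← map_pow, RankTwoOdd.omega_exponent (by omega) hEp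
      (ResistantPlane89.rank_sub hrk hlt.le) hx, map_one]
  have hXall : ∀ x ∈ E, x ^ p = 1 → x ∈ X := fun x hx h =>
    ⟨⟨x, hx⟩, Subgroup.subset_closure (show _ = _ from Subtype.ext h), rfl⟩
  haveI := finite_of_le (hXE.trans hlt.le)
  have hXp : IsPGroup p X := hS.to_le (hXE.trans hlt.le)
  have h3 := OmegaAutomiser89.card_le_of_exponent hp2 hXp (fun x => Subtype.ext (hXexp x x.2))
    (ResistantPlane89.rank_sub hrk (hXE.trans hlt.le))
  obtain ⟨n, hn⟩ := IsPGroup.iff_card.mp hXp
  rw [hn] at h3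
  have hn3 := (Nat.pow_le_pow_iff_right hp.out.one_lt).mp h3
  by_cases hn1 : n ≤ 1
  · -- then `E` is cyclic
    have hcyc : IsCyclic E := by
      by_contra hnc
      obtain ⟨A, -, hAc, hA⟩ := PGroupsCyclic.exists_normal_elementary_sq hEp hp2 hnc
      have hle : A.map E.subtype ≤ X := by
        rintro _ ⟨a, ha, rfl⟩
        exact hXall _ a.2 (congrArg Subtype.val (hA.2 a ha))
      have := Subgroup.card_le_of_le hle
      rw [Subgroup.card_map_of_injective E.subtype_injective, hAc, hn] at this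
      have := (Nat.pow_le_pow_iff_right hp.out.one_lt).mp this
      omega
    obtain ⟨⟨d, hd⟩⟩ := hcyc
    have hcomm : ∀ α β : MulAut E, α * β = β * α := by
      intro α β
      refine MulEquiv.ext fun x => ?_
      obtain ⟨a, ha⟩ := Subgroup.mem_zpowers_iff.mp (hd (α d))
      obtain ⟨b, hb⟩ := Subgroup.mem_zpowers_iff.mp (hd (β d))
      obtain ⟨k, rfl⟩ := Subgroup.mem_zpowers_iff.mp (hd x)
      rw [map_zpow, map_zpow, MulAut.mul_apply, MulAut.mul_apply, ← hb, map_zpow, ← ha, map_zpow,
        ← hb, ← zpow_mul, ← zpow_mul, ← zpow_mul, ← zpow_mul]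
      congr 1
      ring
    obtain ⟨T⟩ := (inferInstance : Nonempty (Sylow p ↥(F.autGroup E)))
    exact hns T ⟨fun x hx y => by
      rwa [show y * x * y⁻¹ = x by
        rw [mul_inv_eq_iff_eq_mul]; exact Subtype.ext (hcomm _ _)]⟩
  by_cases hn2 : n = 2
  · exact ResistantPlane89.no_plane hp5 hS hF hrk hnotE hc hlt hr hns hXE (hn2 ▸ hn) hXexp hXall
  have hn' : n = 3 := by omega
  subst hn'
  have hXexp' : ∀ x : X, x ^ p = 1 := fun x => Subtype.ext (hXexp x x.2)
  have hnc : ¬ ∀ x y : X, x * y = y * x := by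
    intro h
    have := hrk X (hXE.trans hlt.le) ⟨⟨⟨h⟩⟩, hXexp⟩
    rw [hn] at this
    have := (Nat.pow_le_pow_iff_right hp.out.one_lt).mp this
    omega
  obtain ⟨hZc, -, -, -⟩ := OmegaAutomiser89.center_facts hn hXexp' hnc
  refine ExtraspecialNotEssential89.no_extraspecial hp5 hS hF hrk hc hlt hXE hn hXexp hXall hns
    fun α hα => ?_
  -- the kernel of the action on the central quotient
  have hinv : ∀ β : ↥(F.autGroup E), ∀ x ∈ X, afun (β : MulAut E) x ∈ X := fun β x hx =>
    hXall _ (afun_mem _ (hXE hx)) (by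
      rw [afun_apply _ (hXE hx), ← Subgroup.coe_pow, ← map_pow,
        show (⟨x, hXE hx⟩ : E) ^ p = 1 from Subtype.ext (hXexp x hx), map_one, Subgroup.coe_one])
  let r := ExtraspecialNotEssential89.resHom hXE hinv
  refine OmegaAutomiser89.mem_inn_of_radical hr hlt.le
    ((ExtraspecialNotEssential89.centerQuot ↥X).comp r) (fun β hβ hco => Subtype.ext ?_) α ?_
  · refine OmegaAutomiser89.eq_one_of_fix_omega hp2 hEp (by rwa [Subgroup.orderOf_coe]) ?_
    intro x hx
    have hxX : (x : Ω) ∈ X := hXall _ x.2 (congrArg Subtype.val hx)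
    -- on the subgroup it is inner of order prime to `p`
    have h1 : r β ∈ Inn ↥X := by
      refine OmegaAutomiser89.mem_inn_of_trivial hn hXexp' hnc fun y => ?_
      rw [← QuotientGroup.eq]
      exact (DFunLike.congr_fun hβ (y : ↥X ⧸ Subgroup.center ↥X)).symm
    obtain ⟨u, hu⟩ := h1
    have h2 : r β ^ p = 1 := by
      rw [← hu, ← map_pow, hXexp', map_one]
    have h3 : r β ^ orderOf β = 1 := by rw [← map_pow, pow_orderOf_eq_one, map_one]
    have h4 : r β ^ Nat.gcd (orderOf β) p = 1 := pow_gcd_eq_one.mpr ⟨h3, h2⟩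
    rw [hco.gcd_eq_one, pow_one] at h4
    have h5 := congrArg Subtype.val (DFunLike.congr_fun h4 ⟨x, hxX⟩)
    rw [ExtraspecialNotEssential89.coe_resHom] at h5
    exact Subtype.ext ((afun_coe _ x).symm.trans h5)
  · refine MulEquiv.ext fun q => ?_
    induction q using QuotientGroup.induction_on with
    | H y =>
      rw [MonoidHom.comp_apply, ExtraspecialNotEssential89.centerQuot_mk, MulAut.one_apply,
        eq_comm, QuotientGroup.eq, Subgroup.mem_center_iff]
      intro z
      exact Subtype.ext (hα y y.2 z z.2).eq.symm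

/-- Let p ≥ 5 be a prime and S a finite p-group of p-rank two (it has an elementary abelian subgroup of order p² and none of order p³) which is not the extraspecial group of order p³ and exponent p. Then S is resistant: for every saturated fusion system F over S, S is normal in F, that is, every map of F extends to an F-automorphism of S. -/
theorem result {Ω : Type*} [Group Ω] {S : Subgroup Ω} [Finite S] (p : ℕ) [Fact p.Prime] (hS : IsPGroup p S)
    (F : Cfsg.FusionSystem S) (hF : F.IsSaturated p)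
    (hp : 5 ≤ p)
    (hrank2 : ∃ E : Subgroup Ω, E ≤ S ∧ Cfsg.IsElementaryAbelian p E ∧ Nat.card E = p ^ 2)
    (hrank3 : ∀ E : Subgroup Ω, E ≤ S → Cfsg.IsElementaryAbelian p E → Nat.card E ≤ p ^ 2)
    (hnotE : ¬ (Nat.card S = p ^ 3 ∧ Monoid.exponent ↥S = p)) : F.IsNormal S := by
  have hΦ := FusionFunctorNormal.closed_pres (F := F) (le_refl S) Subgroup.le_normalizer
  have hle : F ≤ FusionInduct88.subSystem le_rfl hΦ := by
    refine alperin hS hF fun P hP => ?_
    rcases hP with rfl | hP
    · intro α hα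
      have hm := (mem_autGroup le_rfl).mp hα
      refine mem_autGroup_of_mor (FusionInduct88.mor_subSystem.mpr
        ⟨hm, le_rfl, fun x hx => hm.apply_mem hx, afun α, ?_, fun x _ => rfl, im_afun α⟩)
      rwa [sup_idem]
    · exact (no_essential hS hF hp hrank3 hnotE hP).elim
  rw [FusionSysNormal.isNormal_iff]
  exact ⟨le_rfl, fun P f hf => (FusionInduct88.mor_subSystem.mp (mor_mono hle hf)).2.2.2⟩

end Cfsg.Agent.S5289
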