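import Cfsg.Statements.S5291
import Cfsg.Agent.Lib.FusionSysChain

set_option autoImplicit false
open Cfsg

namespace Cfsg.Agent.S5291

open Cfsg.FusionSystem Cfsg.Agent.FusionSysBasic Cfsg.Agent.FusionSysSaturated
  Cfsg.Agent.FusionSysNormal

/-- Maps of an invariant subsystem can be transported along `Aut_F(T)`. -/
theorem invariant_mor {Ω : Type*} [Group Ω] {S T : Subgroup Ω} {F : Cfsg.FusionSystem S}
    {E : Cfsg.FusionSystem T} (h : E.IsInvariantIn F) {α : MulAut T} (hα : α ∈ F.autGroup T)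
    {P : Subgroup Ω} {f : Ω → Ω} (hf : Mor E P f) :
    Mor E (im P (afun α)) (afun α ∘ f ∘ afun α⁻¹) := by
  have hPT : P ≤ T := hf.le
  obtain ⟨φ, hφ, he⟩ := hf
  obtain ⟨χ, hχ, hχe⟩ := h.2.2.1 P hPT φ hφ α hα
  have heq : (P.subgroupOf T).map (T.subtype.comp α.toMonoidHom) = im P (afun α) := by
    refine le_antisymm ?_ (im_le_iff.2 fun x hx => ⟨⟨x, hPT hx⟩, hx, (afun_apply α (hPT hx)).symm⟩)
    rintro _ ⟨x, hx, rfl⟩
    show ((α x : T) : Ω) ∈ _
    rw [← afun_coe α x]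
    exact apply_mem_im hx
  have hm : Mor E ((P.subgroupOf T).map (T.subtype.comp α.toMonoidHom)) (afun α ∘ f ∘ afun α⁻¹) := by
    refine ⟨χ, hχ, ?_⟩
    rintro ⟨_, x, hx, rfl⟩
    have hφx : φ ⟨(x : Ω), hx⟩ ∈ T := (E.le_of_mem hφ).2 _
    refine (hχe ⟨(x : Ω), hx⟩ hφx ⟨x, hx, rfl⟩).trans ?_
    show _ = afun α (f (afun α⁻¹ ((α x : T) : Ω)))
    rw [← afun_coe α x, afun_inv_apply α x.2, ← he ⟨x, hx⟩, afun_apply α hφx]
  rwa [heq] at hm

/-- Let F be a saturated fusion system over a finite p-group S and E a weakly normal subsystem of F over a subgroup T. Suppose a subgroup R of T is normal in E (E = N_E(R)), and let R* be the subgroup of T generated by the images of R under all maps of F with source R. Then R* is normal in F (F = N_F(R*)). -/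
theorem result {Ω : Type*} [Group Ω] {S : Subgroup Ω} [Finite S] (p : ℕ) [Fact p.Prime] (hS : IsPGroup p S)
    (F : Cfsg.FusionSystem S) (hF : F.IsSaturated p)
    {T : Subgroup Ω} (E : Cfsg.FusionSystem T) (hE : E.IsWeaklyNormalIn F p)
    (R : Subgroup Ω) (hR : E.IsNormal R) :
    F.IsNormal (Subgroup.closure {x : Ω | ∃ φ ∈ F.Hom R, ∃ r : R, x = φ r}) := by
  obtain ⟨hEs, -, hinv⟩ := hE
  obtain ⟨hsub, hTsc, -, hfrat⟩ := id hinv
  set K := Subgroup.closure {x : Ω | ∃ φ ∈ F.Hom R, ∃ r : R, x = φ r} with hKdef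
  have hTS : T ≤ S := hTsc.1
  haveI := finite_of_le hTS
  have hRT : R ≤ T := hR.1
  have hscl : ∀ {P : Subgroup Ω} {f : Ω → Ω}, P ≤ T → Mor F P f → ∀ x ∈ P, f x ∈ T :=
    fun hP hf => (stronglyClosed_iff.1 hTsc).2 _ _ hP hf
  have himgR : ∀ {f : Ω → Ω}, Mor F R f → ∀ x ∈ R, f x ∈ K := by
    intro f hf x hx
    obtain ⟨φ, hφ, he⟩ := hf
    exact Subgroup.subset_closure ⟨φ, hφ, ⟨x, hx⟩, (he ⟨x, hx⟩).symm⟩
  have hKT : K ≤ T := by
    rw [hKdef, Subgroup.closure_le]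
    rintro _ ⟨φ, hφ, r, rfl⟩
    rw [← toFun_coe φ r]
    exact hscl hRT (mor_toFun hφ) r r.2
  have hKinv : ∀ α ∈ F.autGroup T, ∀ x ∈ K, afun α x ∈ K := by
    intro α hα
    have hm := (mem_autGroup hTS).1 hα
    obtain ⟨α', hα', he'⟩ := id hm
    have hle : K ≤ (K.comap α').map T.subtype := by
      rw [hKdef, Subgroup.closure_le]
      rintro _ ⟨φ, hφ, r, rfl⟩
      have hφT : φ r ∈ T := by
        rw [← toFun_coe φ r]; exact hscl hRT (mor_toFun hφ) r r.2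
      refine ⟨⟨φ r, hφT⟩, ?_, rfl⟩
      show α' _ ∈ K
      rw [he', show ((⟨φ r, hφT⟩ : T) : Ω) = toFun φ r from (toFun_coe φ r).symm]
      exact himgR ((mor_toFun hφ).comp hm fun x hx => hscl hRT (mor_toFun hφ) x hx) r r.2
    intro x hx
    obtain ⟨y, hy, rfl⟩ := hle hx
    have hy' : α' y ∈ K := hy
    rwa [he'] at hy'
  -- `K` is generated by subgroups normal in `E`
  have hnorm : ∀ α ∈ F.autGroup T, E.IsNormal (im R (afun α)) := by
    intro α hα
    have hRαT : im R (afun α) ≤ T := im_le_iff.2 fun x hx => afun_mem α (hRT hx)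
    refine isNormal_iff.2 ⟨hRαT, fun P f hf => ?_⟩
    have hPT : P ≤ T := hf.le
    have hb := invariant_mor hinv (inv_mem hα) hf
    rw [inv_inv] at hb
    obtain ⟨g, hg, hag, him⟩ := (isNormal_iff.1 hR).2 _ _ hb
    have hb' := invariant_mor hinv hα hg
    have hsupT : im P (afun α⁻¹) ⊔ R ≤ T :=
      sup_le (im_le_iff.2 fun x hx => afun_mem α⁻¹ (hPT hx)) hRT
    have hmα := ((mem_autGroup hTS).1 hα).restrict_to hsupT
    have e1 : im (im P (afun α⁻¹) ⊔ R) (afun α) = P ⊔ im R (afun α) := by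
      rw [im_sup hmα, (((mem_autGroup hTS).1 (inv_mem hα)).restrict_to hPT).im_comp]
      congr 1
      exact (im_congr fun x hx => afun_apply_inv α (hPT hx)).trans (im_id P)
    rw [e1] at hb'
    refine ⟨_, hb', fun x hx => ?_, ?_⟩
    · show afun α (g (afun α⁻¹ x)) = f x
      rw [hag _ (apply_mem_im hx)]
      show afun α (afun α⁻¹ (f (afun α (afun α⁻¹ x)))) = f x
      rw [afun_apply_inv α (hPT hx), afun_apply_inv α (hf.apply_mem hx)]
    · refine (hb'.restrict_to le_sup_right).im_self fun x hx => ?_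
      obtain ⟨r, hr, rfl⟩ := (((mem_autGroup hTS).1 hα).restrict_to hRT).mem_im.1 hx
      show afun α (g (afun α⁻¹ (afun α r))) ∈ _
      rw [afun_inv_apply α (hRT hr)]
      exact apply_mem_im (him.le (apply_mem_im hr))
  have hKE : E.IsNormal K := by
    have h := sSup_mem_of_closed (S := T) (s := {N | E.IsNormal N ∧ N ≤ K}) (fun N hN => hN.1.1)
      ⟨normal_bot, bot_le⟩ fun A hA B hB => ⟨normal_sup hA.1 hB.1, sup_le hA.2 hB.2⟩
    have hle : K ≤ sSup {N | E.IsNormal N ∧ N ≤ K} := by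
      conv_lhs => rw [hKdef]
      rw [Subgroup.closure_le]
      rintro _ ⟨φ, hφ, r, rfl⟩
      obtain ⟨α, hα, φ₀, hφ₀, hαe⟩ := hfrat R hRT φ hφ
      have hr0 : φ₀ r ∈ R := by
        rw [← toFun_coe φ₀ r]; exact normal_invariant hR (mor_toFun hφ₀) r.2 r.2
      rw [hαe r (hRT hr0), ← afun_apply α (hRT hr0)]
      refine le_sSup (show im R (afun α) ∈ {N | E.IsNormal N ∧ N ≤ K} from ⟨hnorm α hα,
        im_le_iff.2 (himgR (((mem_autGroup hTS).1 hα).restrict_to hRT))⟩) (apply_mem_im hr0)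
    rw [le_antisymm hle h.2]
    exact h.1
  refine FusionSysChain.isNormal_of_extends hS hF (hKT.trans hTS) fun X f hX hf => ?_
  have hXT : X ≤ T := hX.trans hKT
  obtain ⟨φ, hφ, he⟩ := id hf
  obtain ⟨α, hα, φ₀, hφ₀, hαe⟩ := hfrat X hXT φ hφ
  obtain ⟨g, hg, hag, him⟩ := (isNormal_iff.1 hKE).2 X _ (mor_toFun hφ₀)
  rw [sup_eq_right.2 hX] at hg
  have hgK : ∀ x ∈ K, g x ∈ K := fun x hx => him.le (apply_mem_im hx)
  have hgF : Mor F K g := by
    obtain ⟨ψ, hψ, hψe⟩ := hg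
    exact ⟨ψ, hsub K hψ, hψe⟩
  have hm : Mor F K (afun α ∘ g) :=
    hgF.comp ((mem_autGroup hTS).1 hα) fun x hx => hKT (hgK x hx)
  obtain ⟨γ, hγ, hγe⟩ := hm.exists_aut (hm.im_self fun x hx => hKinv α hα _ (hgK x hx))
  refine ⟨γ, hγ, fun x hx => ?_⟩
  have hT0 : φ₀ ⟨x, hx⟩ ∈ T := (E.le_of_mem hφ₀).2 _
  rw [hγe x (hX hx), Function.comp_apply, hag x hx, toFun_apply φ₀ hx, ← he ⟨x, hx⟩,
    hαe ⟨x, hx⟩ hT0, afun_apply α hT0]

end Cfsg.Agent.S5291
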