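import Cfsg.Statements.S5295
import Cfsg.Agent.S5196
import Cfsg.Agent.S5294
import Cfsg.Agent.S1985
import Cfsg.Agent.Lib.ConjFunctorKMain
import Cfsg.Agent.Lib.ConjFunctorKWeak
import Cfsg.Agent.Lib.FusionModelTools
import Cfsg.Agent.Lib.FusionWeakAlperin

set_option autoImplicit false
universe u
open Cfsg

namespace Cfsg.Agent.S5295

/-- Glauberman: `K_∞` controls weak closure of elements, in the centre form. -/
theorem local_cond {G : Type u} [Group G] [Finite G] {p : ℕ} [Fact p.Prime] (hp : p ≠ 2)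
    (P : Sylow p G) :
    Cfsg.pCore p G ⊓ Subgroup.center G = Cfsg.pCore p G ⊓
      (Subgroup.center ↥(Subgroup.normalizer (((Cfsg.kInfLower ↥(P : Subgroup G)).map
        (P : Subgroup G).subtype : Subgroup G) : Set G))).map
        (Subgroup.normalizer (((Cfsg.kInfLower ↥(P : Subgroup G)).map
          (P : Subgroup G).subtype : Subgroup G) : Set G)).subtype := by
  classical
  set V := Cfsg.inducedFunctor (G := G) Cfsg.kInfLower (P : Subgroup G) with hV
  have hcf : Cfsg.IsConjugacyFunctor p (Cfsg.inducedFunctor (G := G) Cfsg.kInfLower) :=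
    ConjFunctorSection.isConjugacyFunctor_induced ConjFunctorKMain.isCharPFunctor_kInfLower
  haveI := HallCore.pCore_normal p G
  have hOP : Cfsg.pCore p G ≤ (P : Subgroup G) :=
    le_sup_left.trans (P.3 ((HallCore.isPGroup_pCore p G).to_sup_of_normal_left P.2) le_sup_right).le
  show Cfsg.pCore p G ⊓ _ = Cfsg.pCore p G ⊓
    (Subgroup.center ↥(Subgroup.normalizer ((V : Subgroup G) : Set G))).map
      (Subgroup.normalizer ((V : Subgroup G) : Set G)).subtype
  refine le_antisymm ?_ ?_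
  · intro z hz
    refine ⟨hz.1, ?_⟩
    exact ⟨⟨z, (Subgroup.center_le_normalizer _) hz.2⟩, Subgroup.mem_center_iff.mpr fun y =>
      Subtype.ext (Subgroup.mem_center_iff.mp hz.2 y), rfl⟩
  intro z hz
  refine ⟨hz.1, ?_⟩
  obtain ⟨hzO, ⟨z', hz'c, rfl⟩⟩ := hz
  obtain ⟨-, T, hT, hTp, hTi, hctl⟩ := S1985.result (G := G) hp
  obtain ⟨c, hc⟩ := ConjFunctorBasic.IsSylowIn.conj_eq
    (show ConjFunctorBasic.IsSylowIn p T ⊤ from ⟨hT, hTp, hTi⟩) (ConjFunctorBasic.isSylowIn_top P)
  have hce : ConjFunctorBasic.cmap c (P : Subgroup G) = T := hc.2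
  set x := c * (z' : G) * c⁻¹ with hx
  have hxT : x ∈ T := hce ▸ ConjFunctorBasic.conj_mem_cmap (hOP hzO)
  have hWT : Cfsg.inducedFunctor (G := G) Cfsg.kInfLower T = ConjFunctorBasic.cmap c V := by
    rw [← hce]; exact ConjFunctorBasic.cfun_cmap hcf P.2 c
  have hxc : x ∈ Subgroup.centralizer ((⊤ ⊓ Subgroup.normalizer
      ((Cfsg.inducedFunctor (G := G) Cfsg.kInfLower T : Subgroup G) : Set G) : Subgroup G) : Set G) := by
    refine Subgroup.mem_centralizer_iff.mpr fun n hn => ?_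
    have hn' : n ∈ Subgroup.normalizer ((ConjFunctorBasic.cmap c V : Subgroup G) : Set G) := by
      rw [← hWT]; exact hn.2
    rw [← ConjFunctorBasic.cmap_normalizer, ConjFunctorBasic.mem_cmap] at hn'
    have e := congrArg Subtype.val (Subgroup.mem_center_iff.mp hz'c ⟨_, hn'⟩)
    simp only [Subgroup.coe_mul] at e
    rw [hx]
    calc n * (c * (z' : G) * c⁻¹) = c * ((c⁻¹ * n * c) * (z' : G)) * c⁻¹ := by group
      _ = c * ((z' : G) * (c⁻¹ * n * c)) * c⁻¹ := by rw [e]
      _ = _ := by group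
  have hxO : x ∈ Cfsg.pCore p G := Subgroup.Normal.conj_mem inferInstance _ hzO c
  refine Subgroup.mem_center_iff.mpr fun h => ?_
  have h1 := hctl x ⟨hxT, hxc⟩ (c * h * c⁻¹) (Subgroup.mem_top _)
    (hce ▸ ?_)
  · rw [hx] at h1
    have h2 := congrArg (fun t => c⁻¹ * t * c) h1
    simp only [Subgroup.coe_subtype] at *
    exact mul_inv_eq_iff_eq_mul.mp (by simpa [mul_assoc] using h2)
  · rw [ConjFunctorBasic.mem_cmap]
    exact hOP (by
      have := Subgroup.Normal.conj_mem inferInstance _ (Subgroup.Normal.conj_mem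
        (inferInstance : (Cfsg.pCore p G).Normal) _ hxO (c * h * c⁻¹)) c⁻¹
      simpa using this)

/-- Let F be a saturated fusion system over a finite p-group S with p odd. Then the centre Z(F) of F is a direct factor of Z(S): there is a subgroup K of Z(S) with Z(F) ∩ K = 1 and Z(F)K = Z(S). (At the prime 2 this can fail.) -/
theorem result {Ω : Type u} [Group Ω] {S : Subgroup Ω} [Finite S] (p : ℕ) [Fact p.Prime] (hp : p ≠ 2) (hS : IsPGroup p S)
    (F : Cfsg.FusionSystem S) (hF : F.IsSaturated p) :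
    ∃ K : Subgroup Ω, K ≤ (S ⊓ Subgroup.centralizer (S : Set Ω)) ∧ F.center ⊓ K = ⊥ ∧ F.center ⊔ K = (S ⊓ Subgroup.centralizer (S : Set Ω)) := by
  open Cfsg.FusionSystem Cfsg.Agent.FusionSysBasic Cfsg.Agent.FusionSysNormal in
  have hW := (ConjFunctorKMain.isCharPFunctor_kInfLower : Cfsg.IsCharPFunctor.{u} p Cfsg.kInfLower)
  have hWZ : ∀ (Q : Type u) [Group Q] [Finite Q], IsPGroup p Q →
      Subgroup.center Q ≤ Cfsg.kInfLower Q := fun Q _ _ hQ =>
    (Subgroup.center_le_centralizer _).trans (ConjFunctorKInf.centralizer_kInf Q hQ).1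
  set W := (Cfsg.kInfLower ↥S).map S.subtype with hWdef
  have hWS : W ≤ S := Subgroup.map_subtype_le _
  let N := FusionSysNormal.normalizerSystem F W hWS
  have hN := FusionSysNormal.isNormalizerSystem_normalizerSystem (F := F) W hWS
  have hnS : S ≤ Subgroup.normalizer (W : Set Ω) := fun g hg =>
    FusionSysBasic.mem_normalizer_of_cj_le hWS fun x hx => by
      obtain ⟨w, hw, rfl⟩ := hx
      refine ⟨MulAut.conj (⟨g, hg⟩ : S) w, ?_, rfl⟩
      rw [SetLike.mem_coe, ← hW.2 _ _ hS (MulAut.conj (⟨g, hg⟩ : S))]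
      exact ⟨w, hw, rfl⟩
  have hT : Cfsg.FusionSystem.normalizerIn S W = S :=
    le_antisymm inf_le_left (le_inf le_rfl hnS)
  have hfn : F.IsFullyNormalized W := Cfsg.Agent.FusionWeakAlperin.fullyNormalized_of_normal hWS
    fun g hg x hx => FusionSysBasic.cj_mem_of_normalizer (hnS hg) hx
  have hcenter : N.center = F.center := S5196.result hp Cfsg.kInfLower hW.1 hW.2 hWZ
    (fun G _ _ P => local_cond hp P) hS F hF N hN
  haveI : Finite ↥(Cfsg.FusionSystem.normalizerIn S W) := by rw [hT]; infer_instance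
  haveI : Finite ↥(S ⊓ Subgroup.normalizer (W : Set Ω)) :=
    inferInstanceAs (Finite ↥(Cfsg.FusionSystem.normalizerIn S W))
  have hWN : W ≤ N.core := FusionSysNormal.le_core (FusionModelTools.normal_normalizerSystem hWS hN)
  obtain ⟨K, h1, h2, h3⟩ := S5294.result p (hS.to_le inf_le_left) N
    (FusionSysNormalizer.normalizerSystem_saturated hS hF hfn hN) (le_trans (fun z hz => by
      rw [show S ⊓ Subgroup.normalizer (W : Set Ω) = S from hT] at hz
      exact ⟨⟨z, hz.1⟩, hWZ _ hS (Subgroup.mem_center_iff.mpr fun y =>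
        Subtype.ext (hz.2 (y : Ω) y.2)), rfl⟩) hWN)
  replace h2 : N.center ⊓ K = ⊥ := h2
  replace h3 : N.center ⊔ K = Cfsg.FusionSystem.normalizerIn S W ⊓
      Subgroup.centralizer (Cfsg.FusionSystem.normalizerIn S W : Set Ω) := h3
  replace h1 : K ≤ Cfsg.FusionSystem.normalizerIn S W ⊓
      Subgroup.centralizer (Cfsg.FusionSystem.normalizerIn S W : Set Ω) := h1
  simp only [hcenter] at h2 h3
  rw [hT] at h1 h3
  exact ⟨K, h1, h2, h3⟩

end Cfsg.Agent.S5295
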