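import Cfsg.Statements.S5297
import Cfsg.Agent.Lib.FusionSmallElements
import Cfsg.Agent.Lib.FusionWeakAlperin
-- import your own Cfsg.Agent.* helpers here

set_option autoImplicit false
universe u
open Cfsg

namespace Cfsg.Agent.S5297

open Cfsg.FusionSystem Cfsg.Agent.FusionSysBasic Cfsg.Agent.FusionSysSaturated
open Cfsg.Agent.FusionSmallElements

/-- Let F be a saturated fusion system over a finite p-group S. If every map of F between cyclic subgroups of the hyperfocal subgroup of F of order p or 4 is a map of the normalizer system of S (it extends to a map of F defined on all of S), then S is normal in F. -/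
theorem result {Ω : Type u} [Group Ω] {S : Subgroup Ω} [Finite S] (p : ℕ) [Fact p.Prime] (hS : IsPGroup p S)
    (F : Cfsg.FusionSystem S) (hF : F.IsSaturated p)
    (h : ∀ A B : Subgroup Ω, A ≤ (F.hyperfocalSubgroup p) → B ≤ (F.hyperfocalSubgroup p) → IsCyclic ↥A → (Nat.card ↥A = p ∨ Nat.card ↥A = 4) → IsCyclic ↥B → (Nat.card ↥B = p ∨ Nat.card ↥B = 4) →
      F.homSet A B ⊆ F.normalizerHom S A) :
    F.IsNormal S := by
  refine isNormal_of_small_extends hS hF fun x hx hs f hf => ?_
  by_cases hx1 : x = 1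
  · subst hx1
    obtain ⟨φ, -, he⟩ := hf
    refine ⟨1, one_mem _, ?_⟩
    rw [afun_one S.one_mem]
    exact (he ⟨1, one_mem _⟩).symm.trans (map_one φ)
  obtain ⟨B, φ, hB, hA, hBc, hBcard, hφ, he⟩ := exists_homSet hS hF hx hs hx1 hf
  obtain ⟨-, -, -, ψ, hψ, hag, -⟩ :=
    h _ B (Subgroup.zpowers_le.mpr hx) hB inferInstance hA hBc hBcard hφ
  have hm := mor_toFun hψ
  have hmS := hm.restrict_to (le_sup_right : S ≤ _)
  obtain ⟨β, hβ, hβe⟩ := hmS.exists_aut (hmS.im_self fun y hy => hmS.apply_mem hy)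
  refine ⟨β, hβ, ?_⟩
  rw [hβe x (hf.le (Subgroup.mem_zpowers x)), ← he,
    toFun_apply ψ (Subgroup.mem_sup_left (Subgroup.mem_zpowers x))]
  exact (hag ⟨x, Subgroup.mem_zpowers x⟩).symm

end Cfsg.Agent.S5297
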