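import Cfsg.Statements.S5298
import Cfsg.Agent.Lib.FusionSmallElements
import Cfsg.Agent.Lib.FusionWeakAlperin
-- import your own Cfsg.Agent.* helpers here

set_option autoImplicit false
universe u
open Cfsg

namespace Cfsg.Agent.S5298

open Cfsg.FusionSystem Cfsg.Agent.FusionSysBasic Cfsg.Agent.FusionSysSaturated
open Cfsg.Agent.FusionSmallElements

/-- Let F be a saturated fusion system over a finite p-group S. If every map of F between cyclic subgroups of the hyperfocal subgroup of F of order p or 4 is conjugation by an element of S, then F is the inner fusion system of S. -/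
theorem result {Ω : Type u} [Group Ω] {S : Subgroup Ω} [Finite S] (p : ℕ) [Fact p.Prime] (hS : IsPGroup p S)
    (F : Cfsg.FusionSystem S) (hF : F.IsSaturated p)
    (h : ∀ A B : Subgroup Ω, A ≤ (F.hyperfocalSubgroup p) → B ≤ (F.hyperfocalSubgroup p) → IsCyclic ↥A → (Nat.card ↥A = p ∨ Nat.card ↥A = 4) → IsCyclic ↥B → (Nat.card ↥B = p ∨ Nat.card ↥B = 4) →
      F.homSet A B ⊆ (Cfsg.innerFusionSystem S).Hom A) :
    ∀ P : Subgroup Ω, F.Hom P = (Cfsg.innerFusionSystem S).Hom P := by
  have hsmall : ∀ x ∈ F.hyperfocalSubgroup p, TransferOmega.IsSmall p x → ∀ f,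
      Mor F (Subgroup.zpowers x) f → ∃ s ∈ S, f x = cj s x := by
    intro x hx hs f hf
    by_cases hx1 : x = 1
    · subst hx1
      obtain ⟨φ, -, he⟩ := hf
      refine ⟨1, S.one_mem, ?_⟩
      rw [cj_one]
      exact (he ⟨1, one_mem _⟩).symm.trans (map_one φ)
    obtain ⟨B, φ, hB, hA, hBc, hBcard, hφ, he⟩ := exists_homSet hS hF hx hs hx1 hf
    obtain ⟨-, s, hs', hse⟩ := FusionSysAlperin.mor_inner_iff.mp
      (mor_toFun (h _ B (Subgroup.zpowers_le.mpr hx) hB inferInstance hA hBc hBcard hφ))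
    exact ⟨s, hs', by rw [← he, ← toFun_apply φ (Subgroup.mem_zpowers x), hse x (Subgroup.mem_zpowers x)]⟩
  -- every automorphism of `S` is inner
  obtain ⟨D, hDS, hDinv, hDs, hdet⟩ := exists_detecting_in (R := S) hS
  obtain ⟨n, hn⟩ := exists_zSer_top hS
  have hsc := FusionInduct88.hyperfocal_stronglyClosed hS hF
  have htriv : ∀ m ∈ F.autGroup S, (orderOf m).Coprime p → m = 1 := by
    intro m hm hc
    refine eq_one_of_fix hS le_rfl hDS hDinv hdet le_rfl hm hc fun x hx hxH => ?_
    refine fix_of_layers hS (inf_le_left.trans hDS) hc hn (inf_le_left.trans hDS)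
      (fun y hy => ⟨hDinv m y hy.1, FusionSysNormal.stronglyClosed_invariant hsc
        ((mem_autGroup le_rfl).mp hm) (hDS hy.1) hy.2⟩) (fun i _ y hy hyi => ?_) x
      (show x ∈ D ⊓ F.hyperfocalSubgroup p from ⟨hx, hxH⟩)
    obtain ⟨s, hs, hse⟩ := hsmall y hy.2 (hDs y hy.1) (afun m)
      (((mem_autGroup le_rfl).mp hm).restrict_to (Subgroup.zpowers_le.mpr (hDS hy.1)))
    rw [hse]
    exact zSer_div hs hyi
  haveI := finite_autGroup (F := F) S
  haveI : Finite (MulAut S) :=
    Finite.of_injective (fun β : MulAut S => (β : S → S)) DFunLike.coe_injective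
  have hA : IsPGroup p (F.autGroup S) := isPGroup_of_coprime_trivial _ htriv
  obtain ⟨T, hT⟩ := (fullyAutomized_of_fullyNormalized hS hF fullyNormalized_self).2
  have htop : (T : Subgroup (F.autGroup S)) = ⊤ := (T.3 (hA.to_subgroup ⊤) le_top).symm
  rw [htop] at hT
  have hN : F.IsNormal S := isNormal_of_small_extends hS hF fun x hx hs f hf => by
    obtain ⟨s, hs', hse⟩ := hsmall x hx hs f hf
    let g : ↥(S ⊓ Subgroup.normalizer (S : Set Ω)) := ⟨s, hs', Subgroup.le_normalizer hs'⟩
    refine ⟨nHom S S g, autInducedBy_le le_rfl (mem_autInducedBy.mpr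
      ⟨s, hs', Subgroup.le_normalizer hs', fun y hy => afun_nHom g hy⟩), ?_⟩
    rw [hse, afun_nHom g (hf.le (Subgroup.mem_zpowers x))]
  have hle : F ≤ Cfsg.innerFusionSystem S := by
    refine FusionSysAlperin.le_of_mor fun P f hf => ?_
    obtain ⟨g, hg, hge, -⟩ := (FusionSysNormal.isNormal_iff.mp hN).2 P f hf
    have hgS := hg.restrict_to (le_sup_right : S ≤ _)
    obtain ⟨α, hα, hαe⟩ := hgS.exists_aut (hgS.im_self fun y hy => hgS.apply_mem hy)
    have hαS : α ∈ Cfsg.autInducedBy S S :=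
      (hT.le (Subgroup.mem_top (⟨α, hα⟩ : F.autGroup S)) :)
    obtain ⟨s, hs, -, hse⟩ := mem_autInducedBy.mp hαS
    have hPS := hf.le
    have key : ∀ y ∈ P, f y = cj s y := fun y hy => by
      rw [← hge y hy, ← hαe y (hPS hy), hse y (hPS hy)]
    exact (mor_cj hPS hs).congr fun y hy => (key y hy).symm
  intro P
  exact Set.Subset.antisymm (hle P) (FusionSysAlperin.inner_le P)

end Cfsg.Agent.S5298
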