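import Cfsg.Statements.S5299
-- import your own Cfsg.Agent.* helpers here

set_option autoImplicit false
universe u
open Cfsg

namespace Cfsg.Agent.S5299

/-- Let F be a saturated fusion system over a finite p-group S, H a finite group and Q a p-subgroup of H. If Q is not involved in S (no section of S is isomorphic to Q), then F is H-free: H is involved in no model of the normalizer system of a fully normalized centric subgroup. -/
theorem result {Ω : Type u} [Group Ω] {S : Subgroup Ω} [Finite S] (p : ℕ) [Fact p.Prime] (hS : IsPGroup p S)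
    (F : Cfsg.FusionSystem S) (hF : F.IsSaturated p) (H : Type*) [Group H] [Finite H] (Q : Subgroup H) (hQ : IsPGroup p Q)
    (hfree : ¬ Cfsg.Involves (↥Q) (↥S)) : F.IsSectionFree p H := by
  intro Q' _ _ N _ L _ ι hmodel hinv
  obtain ⟨hfin, ⟨hinj, -⟩, ⟨T, hT⟩, -⟩ := hmodel
  obtain ⟨K, R, hn, ⟨e⟩⟩ := hinv
  let g : ↥K →* H := e.toMonoidHom.comp (QuotientGroup.mk' (R.subgroupOf K))
  have hg : Function.Surjective g := e.surjective.comp (QuotientGroup.mk'_surjective _)
  let f : ↥(Q.comap g) →* ↥Q := g.subgroupComap Q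
  have hf : Function.Surjective f := MonoidHom.subgroupComap_surjective_of_surjective g Q hg
  obtain ⟨P⟩ := (inferInstance : Nonempty (Sylow p ↥(Q.comap g)))
  -- the image of a Sylow subgroup of the preimage is all of `Q`
  have hPQ : (P : Subgroup ↥(Q.comap g)).map f = ⊤ := by
    have h1 : (P.mapSurjective hf : Subgroup ↥Q) = (P : Subgroup _).map f := Sylow.coe_mapSurjective hf P
    have h2 := (P.mapSurjective hf).3 (hQ.of_equiv Subgroup.topEquiv.symm) le_top
    rw [← h1]; exact h2.symm
  let j : ↥(P : Subgroup ↥(Q.comap g)) →* L :=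
    K.subtype.comp ((Q.comap g).subtype.comp (P : Subgroup ↥(Q.comap g)).subtype)
  have hj : Function.Injective j := fun a b h => Subtype.ext (Subtype.ext (Subtype.ext h))
  have hjp : IsPGroup p ↥j.range := P.2.of_equiv (MonoidHom.ofInjective hj)
  obtain ⟨T', hT'⟩ := hjp.exists_le_sylow
  obtain ⟨c, hc⟩ := MulAction.exists_smul_eq L T' T
  let j' : ↥(P : Subgroup ↥(Q.comap g)) →* L := (MulAut.conj c).toMonoidHom.comp j
  have hj' : ∀ x, j' x ∈ ι.range := by
    intro x
    rw [← hT, ← hc]
    exact ⟨j x, hT' ⟨x, rfl⟩, rfl⟩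
  let ψ : ↥(P : Subgroup ↥(Q.comap g)) →* ↥S :=
    (Subgroup.inclusion (inf_le_left : Cfsg.FusionSystem.normalizerIn S Q' ≤ S)).comp
      ((MonoidHom.ofInjective hinj).symm.toMonoidHom.comp (j'.codRestrict ι.range hj'))
  have hψ : Function.Injective ψ := by
    intro a b h
    have h' := (MonoidHom.ofInjective hinj).symm.injective (Subgroup.inclusion_injective (inf_le_left : Cfsg.FusionSystem.normalizerIn S Q' ≤ S) h)
    exact hj ((MulAut.conj c).injective (congrArg Subtype.val h'))
  let h : ↥ψ.range →* ↥Q :=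
    (f.comp (P : Subgroup ↥(Q.comap g)).subtype).comp (MonoidHom.ofInjective hψ).symm.toMonoidHom
  have hh : Function.Surjective h := by
    intro q
    have : q ∈ (P : Subgroup ↥(Q.comap g)).map f := by rw [hPQ]; trivial
    obtain ⟨x, hx, rfl⟩ := this
    exact ⟨MonoidHom.ofInjective hψ ⟨x, hx⟩, by simp [h]⟩
  have hk : (h.ker.map ψ.range.subtype).subgroupOf ψ.range = h.ker :=
    Subgroup.comap_map_eq_self_of_injective ψ.range.subtype_injective _
  have hnn : ((h.ker.map ψ.range.subtype).subgroupOf ψ.range).Normal := by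
    rw [hk]; exact h.normal_ker
  exact hfree ⟨ψ.range, h.ker.map ψ.range.subtype, hnn,
    ⟨(QuotientGroup.quotientMulEquivOfEq hk).trans
      (QuotientGroup.quotientKerEquivOfSurjective h hh)⟩⟩

end Cfsg.Agent.S5299
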