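import Cfsg.Statements.S5300
import Cfsg.Agent.Lib.FusionSmallElements
import Cfsg.Agent.Lib.FusionWeakAlperin
-- import your own Cfsg.Agent.* helpers here

set_option autoImplicit false
universe u
open Cfsg

namespace Cfsg.Agent.S5300

open Cfsg.FusionSystem Cfsg.Agent.FusionSysBasic Cfsg.Agent.FusionSysSaturated
open Cfsg.Agent.FusionSmallElements

variable {Ω : Type*} [Group Ω]

theorem afun_zpow {R : Subgroup Ω} (a : MulAut R) {x : Ω} (hx : x ∈ R) (j : ℤ) :
    afun a (x ^ j) = afun a x ^ j := by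
  rw [afun_apply a (R.zpow_mem hx j), afun_apply a hx, ← SubgroupClass.coe_zpow, ← map_zpow]
  rfl

theorem afun_pow {R : Subgroup Ω} (a : MulAut R) {x : Ω} (hx : x ∈ R) (j : ℕ) :
    afun a (x ^ j) = afun a x ^ j := by
  simpa using afun_zpow a hx (j : ℤ)

theorem afun_map_one {R : Subgroup Ω} (a : MulAut R) : afun a (1 : Ω) = 1 := by
  simpa using afun_zpow a R.one_mem 0

variable {S : Subgroup Ω} [Finite S] {p : ℕ} [Fact p.Prime] {F : Cfsg.FusionSystem S}

/-- The focal subgroup is strongly closed and contains the hyperfocal subgroup. -/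
theorem focal_facts (hS : IsPGroup p S) (hF : F.IsSaturated p) :
    F.hyperfocalSubgroup p ≤ F.focalSubgroup ∧ F.StronglyClosed F.focalSubgroup := by
  have hle : F.focalSubgroup ≤ S := by
    refine (Subgroup.closure_le _).mpr ?_
    rintro _ ⟨P, φ, x, hφ, rfl⟩
    exact S.mul_mem (S.inv_mem ((F.le_of_mem hφ).1 x.2)) ((F.le_of_mem hφ).2 x)
  refine ⟨?_, hle, fun P hP φ hφ x => ?_⟩
  · refine (Subgroup.closure_le _).mpr ?_
    rintro _ ⟨P, α, x, hP, -, rfl⟩
    obtain ⟨φ, hφ, he⟩ := (mem_autGroup hP).mp α.2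
    exact Subgroup.subset_closure ⟨P, φ, x, hφ, by rw [← afun_coe, he]⟩
  · have : (x : Ω)⁻¹ * φ x ∈ F.focalSubgroup := Subgroup.subset_closure ⟨P, φ, x, hφ, rfl⟩
    simpa using F.focalSubgroup.mul_mem (hP x.2) this

/-- An element of a `p`-group normalizing a subgroup of order `p` centralizes it. -/
theorem fixed_of_order_p (hS : IsPGroup p S) {g x : Ω} (hg : g ∈ S) (hx : x ^ p = 1)
    (h : g * x * g⁻¹ ∈ Subgroup.zpowers x) : cj g x = x := by
  obtain ⟨j, hj⟩ := Subgroup.mem_zpowers_iff.mp h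
  obtain ⟨k, hk⟩ := hS ⟨g, hg⟩
  have hk' : g ^ p ^ k = 1 := congrArg Subtype.val hk
  have hit : ∀ n : ℕ, g ^ n * x * (g ^ n)⁻¹ = x ^ (j ^ n) := by
    intro n
    induction n with
    | zero => simp
    | succ n ih =>
      calc g ^ (n + 1) * x * (g ^ (n + 1))⁻¹ = g * (g ^ n * x * (g ^ n)⁻¹) * g⁻¹ := by
            rw [pow_succ']; group
        _ = (g * x * g⁻¹) ^ (j ^ n) := by rw [ih, conj_zpow]
        _ = x ^ (j ^ (n + 1)) := by rw [← hj, ← zpow_mul, pow_succ']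
  by_cases hx1 : x = 1
  · subst hx1; simp [cj_apply]
  have hord : orderOf x = p := orderOf_eq_prime hx hx1
  have h1 := hit (p ^ k)
  rw [hk', one_mul, inv_one, mul_one] at h1
  have h2 : ((orderOf x : ℕ) : ℤ) ∣ j ^ p ^ k - 1 := by
    rw [orderOf_dvd_iff_zpow_eq_one, zpow_sub_one, ← h1, mul_inv_cancel]
  rw [hord, ← ZMod.intCast_zmod_eq_zero_iff_dvd, Int.cast_sub, Int.cast_pow, ZMod.pow_card_pow,
    ← Int.cast_sub, ZMod.intCast_zmod_eq_zero_iff_dvd, ← hord, orderOf_dvd_iff_zpow_eq_one,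
    zpow_sub_one, mul_inv_eq_one] at h2
  rw [cj_apply, ← hj, h2]

/-- Let F be a saturated fusion system over a finite p-group S. If every cyclic subgroup of the focal subgroup of F of order p (of order 2 or 4 when p = 2) is normal in S, then S is normal in F. -/
theorem result {Ω : Type u} [Group Ω] {S : Subgroup Ω} [Finite S] (p : ℕ) [Fact p.Prime] (hS : IsPGroup p S)
    (F : Cfsg.FusionSystem S) (hF : F.IsSaturated p)
    (hnorm : ∀ x ∈ F.focalSubgroup, (x ^ p = 1 ∨ (p = 2 ∧ x ^ 4 = 1)) → ∀ s ∈ S, s * x * s⁻¹ ∈ Subgroup.zpowers x) :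
    F.IsNormal S := by
  obtain ⟨hfoc, hfocS⟩ := focal_facts hS hF
  refine isNormal_of_stabilizer hS hF hfoc fun R D hR hDR hDinv hDs => ?_
  have hRS := hR.1.1
  haveI := finite_of_le hRS
  have hVinv : ∀ α ∈ F.autGroup R, ∀ x ∈ D ⊓ F.focalSubgroup, afun α x ∈ D ⊓ F.focalSubgroup :=
    fun α hα x hx => ⟨hDinv α x hx.1, FusionSysNormal.stronglyClosed_invariant hfocS
      ((mem_autGroup hRS).mp hα) (hDR hx.1) hx.2⟩
  haveI : Finite (MulAut R) :=
    Finite.of_injective (fun β : MulAut R => (β : R → R)) DFunLike.coe_injective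
  let M₀ : Submonoid (MulAut R) :=
    { carrier := {m | m ∈ F.autGroup R ∧ ∀ x ∈ D ⊓ F.focalSubgroup,
        afun m x ∈ Subgroup.zpowers x ∧ (x ^ p = 1 → afun m x = x)}
      one_mem' := ⟨one_mem _, fun x hx => by
        rw [afun_one (hDR hx.1)]; exact ⟨Subgroup.mem_zpowers x, fun _ => rfl⟩⟩
      mul_mem' := fun {a b} ha hb => ⟨mul_mem ha.1 hb.1, fun x hx => by
        have hxR := hDR hx.1
        rw [afun_mul _ _ hxR]
        obtain ⟨j, hj⟩ := Subgroup.mem_zpowers_iff.mp (hb.2 x hx).1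
        refine ⟨?_, fun h => by rw [(hb.2 x hx).2 h, (ha.2 x hx).2 h]⟩
        rw [← hj, afun_zpow a hxR]
        exact Subgroup.zpow_mem _ (ha.2 x hx).1 j⟩ }
  let M : Subgroup (MulAut R) :=
    { M₀ with
      inv_mem' := fun {m} hm => by
        rw [(inv_eq_of_mul_eq_one_right (by rw [← pow_succ', Nat.sub_add_cancel (orderOf_pos m),
          pow_orderOf_eq_one]) : m⁻¹ = m ^ (orderOf m - 1))]
        exact M₀.pow_mem hm _ }
  refine ⟨M, fun m hm => hm.1, fun a ha m hm => ?_, fun g => ?_, fun m hm hc x hxD hxH => ?_⟩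
  · refine ⟨mul_mem (mul_mem ha hm.1) (Subgroup.inv_mem _ ha), fun x hx => ?_⟩
    have hxR := hDR hx.1
    have hy := hVinv a⁻¹ (Subgroup.inv_mem _ ha) x hx
    have hyR := hDR hy.1
    rw [afun_mul _ _ hxR, afun_mul _ _ hyR]
    obtain ⟨j, hj⟩ := Subgroup.mem_zpowers_iff.mp (hm.2 _ hy).1
    refine ⟨?_, fun h => ?_⟩
    · rw [← hj, afun_zpow a hyR, afun_apply_inv a hxR]
      exact Subgroup.zpow_mem_zpowers x j
    · rw [(hm.2 _ hy).2 (by rw [← afun_pow a⁻¹ hxR, h]; exact afun_map_one a⁻¹),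
        afun_apply_inv a hxR]
  · refine ⟨autInducedBy_le hRS (mem_autInducedBy.mpr
      ⟨g, g.2.1, g.2.2, fun x hx => afun_nHom g hx⟩), fun x hx => ?_⟩
    rw [afun_nHom g (hDR hx.1)]
    have hsm := hDs x hx.1
    refine ⟨hnorm x hx.2 hsm g g.2.1, fun h => ?_⟩
    exact fixed_of_order_p hS g.2.1 h (hnorm x hx.2 hsm g g.2.1)
  · have hx : x ∈ D ⊓ F.focalSubgroup := ⟨hxD, hxH⟩
    rcases hDs x hxD with h | ⟨hp2, h4⟩
    · exact (hm.2 x hx).2 h
    subst hp2
    by_cases h2 : x ^ 2 = 1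
    · exact (hm.2 x hx).2 h2
    have hxR := hDR hxD
    obtain ⟨j, hj⟩ := Subgroup.mem_zpowers_iff.mp (hm.2 x hx).1
    obtain ⟨i, hi | hi⟩ := Int.even_or_odd' j
    · exfalso
      apply h2
      have e : afun m (x ^ 2) = 1 := by
        rw [afun_pow m hxR, ← hj, hi, ← zpow_natCast, ← zpow_mul,
          show 2 * i * ((2 : ℕ) : ℤ) = ((4 : ℕ) : ℤ) * i by push_cast; ring, zpow_mul,
          zpow_natCast, h4, one_zpow]
      have := afun_inv_apply m (R.pow_mem hxR 2)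
      rw [e, afun_map_one] at this
      exact this.symm
    · have hxx : afun m (x ^ 2) = x ^ 2 :=
        (hm.2 _ ((D ⊓ F.focalSubgroup).pow_mem hx 2)).2 (by rw [← pow_mul]; exact h4)
      rw [afun_apply m hxR] at hj ⊢
      refine congrArg Subtype.val (eq_of_step (hS.to_le hRS) hc (x := ⟨x, hxR⟩) (Subtype.ext ?_))
      have e : (((⟨x, hxR⟩ : R)⁻¹ * m ⟨x, hxR⟩ : R) : Ω) = (x ^ 2) ^ i := by
        rw [Subgroup.coe_mul, Subgroup.coe_inv, ← hj, hi, ← zpow_natCast, ← zpow_mul,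
          zpow_add_one, ← (Commute.refl x).zpow_right (2 * i) |>.eq, inv_mul_cancel_left]
        rfl
      rw [← afun_coe, e, afun_zpow m (R.pow_mem hxR 2), hxx]

end Cfsg.Agent.S5300
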