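import Cfsg.Statements.S5301
import Cfsg.Agent.Lib.FusionSysNormal

set_option autoImplicit false
universe u
open Cfsg

namespace Cfsg.Agent.S5301

/-- Let F be a saturated fusion system over a finite p-group S. If for every subgroup P of S that is fully normalized, centric and radical in F the automorphism group that F induces on P has a normal Sylow p-subgroup, then S is normal in F. -/
theorem result {Ω : Type u} [Group Ω] {S : Subgroup Ω} [Finite S] (p : ℕ) [Fact p.Prime] (hS : IsPGroup p S)
    (F : Cfsg.FusionSystem S) (hF : F.IsSaturated p)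
    (hcl : ∀ P : Subgroup Ω, F.IsFullyNormalized P → F.IsCentric P → F.IsRadical p P →
      ∃ R : Sylow p ↥(F.autGroup P), (R : Subgroup ↥(F.autGroup P)).Normal) :
    F.IsNormal S := by
  have hno : ∀ P : Subgroup Ω, ¬ F.IsEssential p P := by
    intro P hP
    have hlt := FusionSysAlperin.essential_lt hS hF hP
    have hrad := FusionSysAlperin.radical_of_essential hS hP
    obtain ⟨R, hR⟩ := hcl P hP.2.1 hP.1 hrad
    haveI := hR
    haveI := FusionSysBasic.finite_autGroup (F := F) P
    obtain ⟨T, hT⟩ := (FusionSysSaturated.fullyAutomized_of_fullyNormalized hS hF hP.2.1).2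
    obtain ⟨a, ha⟩ := MulAction.exists_smul_eq ↥(F.autGroup P) R T
    rw [Sylow.smul_eq_of_normal] at ha
    subst ha
    obtain ⟨g, hgS, hgP, hgn⟩ := FusionSysAlperin.lt_normalizerIn hS le_rfl hlt
    refine hgP (FusionSysAlperin.mem_of_nHom_mem_inn hlt.le
      (FusionSysAlperin.centralizerIn_le_of_centric hP.1) ⟨g, hgS, hgn⟩ ?_)
    have hc : FusionSysBasic.nHom S P ⟨g, hgS, hgn⟩ ∈ Cfsg.autInducedBy S P :=
      FusionSysBasic.autInducedBy_eq_range S P ▸ ⟨_, rfl⟩
    have hle : (R : Subgroup ↥(F.autGroup P)) ≤ Cfsg.pCore p ↥(F.autGroup P) :=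
      le_sSup (show (R : Subgroup ↥(F.autGroup P)) ∈
        {N : Subgroup ↥(F.autGroup P) | N.Normal ∧ IsPGroup p N} from ⟨hR, R.2⟩)
    rw [← hrad.2]
    refine ⟨⟨_, FusionSysBasic.autInducedBy_le hlt.le hc⟩, hle ?_, rfl⟩
    rw [hT]; exact hc
  refine FusionSysNormal.isNormal_of_le_autGroup hS hF fun P hP => ?_
  rcases hP with rfl | hP
  · exact ⟨le_rfl, fun α _ x hx => FusionSysBasic.afun_mem α hx⟩
  · exact absurd hP (hno P)

end Cfsg.Agent.S5301
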