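import Cfsg.Statements.S5309
import Cfsg.Agent.Lib.FusionFittingBasic
import Cfsg.Agent.Lib.FusionLocalComponent

set_option autoImplicit false
open Cfsg

namespace Cfsg.Agent.S5309

open Cfsg.FusionSystem Cfsg.Agent.FusionSysBasic Cfsg.Agent.FusionSysSaturated
open Cfsg.Agent.FusionSysNormal Cfsg.Agent.FusionKit88 Cfsg.Agent.FusionMorph88
open Cfsg.Agent.FusionCentralizerSub Cfsg.Agent.FusionFittingBasic

/-- Self-centralizing property of the generalized Fitting subsystem. Let F be a saturated fusion system over a finite p-group S and D a generalized Fitting subsystem of F, over U. Then the centre of D is the largest subgroup Y of C_S(U) centralized by D in F, in the sense that every map of D extends to a map of F fixing Y elementwise: the centre of D is such a subgroup, and every such Y lies in the centre of D. -/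
theorem result {Ω : Type*} [Group Ω] {S : Subgroup Ω} [Finite S] (p : ℕ) [Fact p.Prime] (hS : IsPGroup p S) (F : Cfsg.FusionSystem S) (hF : F.IsSaturated p)
    {U : Subgroup Ω} (D : Cfsg.FusionSystem U) (hD : D.IsGeneralizedFittingOf F p) :
    (D.center ≤ Cfsg.FusionSystem.centralizerIn S U ∧ ∀ P : Subgroup Ω, D.Hom P ⊆ F.centralizerHom D.center P) ∧
      ∀ Y : Subgroup Ω, Y ≤ Cfsg.FusionSystem.centralizerIn S U →
        (∀ P : Subgroup Ω, D.Hom P ⊆ F.centralizerHom Y P) → Y ≤ D.center := by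
  set Q := F.core with hQdef
  obtain ⟨T, E, hE, D₀, hprod, Z, θ, hZ, -, -, h1, h2, hfac⟩ := hD
  have hQ : F.IsNormal Q := core_isNormal
  have hTS : T ≤ S := hE.1.1.2.2.2.1.1
  haveI := finite_of_le hQ.1
  haveI := finite_of_le hTS
  have hEext : ∀ {P : Subgroup Ω} {f : Ω → Ω}, Mor E P f →
      ∃ ψ, Mor F (P ⊔ Q) ψ ∧ (∀ x ∈ P, ψ x = f x) ∧ ∀ q ∈ Q, ψ q = q := fun hf => by
    obtain ⟨φ, hφ, he⟩ := hf
    exact (ext_central_iff he).1 (S5150.result p hS F hF E hE _ hφ).2.2.2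
  have hQU : Q ≤ U := left_le h1 h2 hfac
  have hTU : T ≤ U := right_le h1 h2 hfac
  have hUS : U ≤ S := fun u hu => by
    obtain ⟨⟨w, hw⟩, rfl⟩ := hfac.2.2.1.ge hu
    rw [← app_apply θ hw, show w = (w.1, w.2) from rfl, app_mul_eq h1 h2 hw.1 hw.2]
    exact S.mul_mem (hQ.1 hw.1) (hTS hw.2)
  haveI := finite_of_le hUS
  -- the maps of `D` extend so as to fix what centralizes `U` inside `Q`
  have hkey : ∀ {Y : Subgroup Ω}, Y ≤ Q → (∀ y ∈ Y, ∀ u ∈ U, y * u = u * y) →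
      ∀ {P : Subgroup Ω} {f : Ω → Ω}, Mor D P f →
        ∃ Φ, Mor F (P ⊔ Y) Φ ∧ Mor D (P ⊔ Y) Φ ∧ (∀ x ∈ P, Φ x = f x) ∧ ∀ y ∈ Y, Φ y = y := by
    intro Y hYQ hYc P f hf
    obtain ⟨hPU, f₀, hf₀, hfe⟩ := (factor_mor hfac).1 hf
    obtain ⟨hX, f₁, f₂, hf₁, hf₂, hf₀e⟩ := (S5137.mor_prod hprod).1 hf₀
    obtain ⟨-, g, hg, hge⟩ := FusionSysAlperin.mor_inner_iff.1 hf₁
    obtain ⟨ψ, hψ, hψe, hψQ⟩ := hEext hf₂
    set P₂ := S5137.P₂ (preimageAlong θ P)
    have hsrc : P₂ ⊔ Q ≤ S := hψ.le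
    have hΦ : Mor F (P₂ ⊔ Q) (cj g ∘ ψ) :=
      hψ.comp (mor_cj (F := F) le_rfl (hQ.1 hg)) fun x hx => hψ.apply_mem hx
    have hcgT : ∀ {t : Ω}, t ∈ T → cj g t = t := fun {t} ht => by
      rw [cj_apply, commute h1 h2 hg ht, mul_inv_cancel_right]
    have hPle : P ≤ P₂ ⊔ Q := fun y hy => by
      obtain ⟨⟨w, hw⟩, e⟩ := hfac.2.2.1.ge (hPU hy)
      have hwp : w ∈ preimageAlong θ P := mem_preimageAlong.2 ⟨hw, by
        rw [app_apply θ hw, e]; exact hy⟩
      rw [← e, ← app_apply θ hw, show w = (w.1, w.2) from rfl, app_mul_eq h1 h2 hw.1 hw.2]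
      exact mul_mem (Subgroup.mem_sup_right hw.1) (Subgroup.mem_sup_left (S5137.snd_mem hwp))
    have hval : ∀ a b : Ω, a ∈ Q → b ∈ P₂ → (cj g ∘ ψ) (a * b) = cj g a * f₂ b := fun a b ha hb => by
      rw [Function.comp_apply, hψ.map_mul (Subgroup.mem_sup_right ha) (Subgroup.mem_sup_left hb),
        hψQ a ha, hψe b hb]
      have := hcgT (hf₂.apply_mem hb)
      rw [cj_apply] at this
      rw [cj_apply, cj_apply]
      calc g * (a * f₂ b) * g⁻¹ = g * a * g⁻¹ * (g * f₂ b * g⁻¹) := by group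
        _ = g * a * g⁻¹ * f₂ b := by rw [this]
    have hΦP : ∀ x ∈ P, (cj g ∘ ψ) x = f x := fun y hy => by
      obtain ⟨⟨w, hw⟩, e⟩ := hfac.2.2.1.ge (hPU hy)
      have e' : app θ w = y := (app_apply θ hw).trans e
      have hwp : w ∈ preimageAlong θ P := mem_preimageAlong.2 ⟨hw, e'.symm ▸ hy⟩
      have hw2 : w.2 ∈ P₂ := S5137.snd_mem hwp
      conv_rhs => rw [← e', hfe w hwp, hf₀e w hwp, hge _ (S5137.fst_mem hwp),
        app_mul_eq h1 h2 (show cj g w.1 ∈ Q from Q.mul_mem (Q.mul_mem hg hw.1) (Q.inv_mem hg)) (hf₂.apply_mem hw2)]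
      rw [← e', show w = (w.1, w.2) from rfl, app_mul_eq h1 h2 hw.1 hw.2]
      exact hval _ _ hw.1 hw2
    have hΦY : ∀ y ∈ Y, (cj g ∘ ψ) y = y := fun y hy => by
      rw [Function.comp_apply, hψQ y (hYQ hy), cj_apply, ← hYc y hy g (hQU hg), mul_inv_cancel_right]
    refine ⟨_, hΦ.restrict_to (sup_le hPle fun y hy => Subgroup.mem_sup_right (hYQ hy)), ?_, hΦP,
      hΦY⟩
    have hYU : Y ≤ U := hYQ.trans hQU
    have hPY : P ⊔ Y ≤ U := sup_le hPU hYU
    -- the projection to `T` does not grow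
    have hY₂ : S5137.P₂ (preimageAlong θ (P ⊔ Y)) ≤ P₂ := by
      rintro _ ⟨w, hw, rfl⟩
      obtain ⟨hwAB, hwPY⟩ := mem_preimageAlong.1 hw
      rw [← SetLike.mem_coe, Subgroup.coe_mul_of_right_le_normalizer_left _ _ (fun y hy =>
        mem_normalizer_of_cj_le (hPU.trans hUS) fun x hx => by
          rw [cj_apply, hYc y hy x (hPU hx), mul_inv_cancel_right]; exact hx)] at hwPY
      obtain ⟨x, hx, y, hy, e⟩ := hwPY
      have hwy : ((w.1 * y⁻¹, w.2) : Ω × Ω) ∈ preimageAlong θ P := by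
        refine mem_preimageAlong.2 ⟨⟨Q.mul_mem hwAB.1 (Q.inv_mem (hYQ hy)), hwAB.2⟩, ?_⟩
        rw [app_mul_eq h1 h2 (Q.mul_mem hwAB.1 (Q.inv_mem (hYQ hy))) hwAB.2,
          mul_assoc, hYc y⁻¹ (inv_mem hy) w.2 (hTU hwAB.2), ← mul_assoc,
          ← app_mul_eq h1 h2 hwAB.1 hwAB.2, ← e]
        simpa using hx
      exact S5137.snd_mem (x := (w.1 * y⁻¹, w.2)) hwy
    have hpre : preimageAlong θ (P ⊔ Y) ≤ Q.prod T := fun w hw => (mem_preimageAlong.1 hw).1
    refine (factor_mor hfac).2 ⟨hPY, fun w => (cj g w.1, f₂ w.2),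
      (S5137.mor_prod hprod).2 ⟨hpre, cj g, f₂,
        FusionSysAlperin.mor_inner_iff.2 ⟨fun a ⟨w, hw, e⟩ => e ▸ (hpre hw).1, g, hg,
          fun _ _ => rfl⟩,
        hf₂.restrict_to hY₂, fun _ _ => rfl⟩, fun w hw => ?_⟩
    have hw2 : w.2 ∈ P₂ := hY₂ (S5137.snd_mem hw)
    simp only []
    rw [app_mul_eq h1 h2 (show cj g w.1 ∈ Q from Q.mul_mem (Q.mul_mem hg (hpre hw).1) (Q.inv_mem hg))
      (hf₂.apply_mem hw2), show app θ w = w.1 * w.2 from app_mul_eq h1 h2 (hpre hw).1 (hpre hw).2]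
    exact hval _ _ (hpre hw).1 hw2
  have hUQ : ∀ u ∈ U, ∀ z ∈ Q, (∀ q ∈ Q, z * q = q * z) → z * u = u * z := by
    intro u hu z hz hzc
    obtain ⟨⟨w, hw⟩, rfl⟩ := hfac.2.2.1.ge hu
    rw [← app_apply θ hw, show w = (w.1, w.2) from rfl, app_mul_eq h1 h2 hw.1 hw.2, ← mul_assoc,
      hzc _ hw.1, mul_assoc, commute h1 h2 hz hw.2, mul_assoc]
  have hDF : ∀ {P : Subgroup Ω} {f : Ω → Ω}, Mor D P f → Mor F P f := fun hf => by
    obtain ⟨Φ, hΦ, -, hΦe, -⟩ := hkey (Y := ⊥) bot_le (fun y hy u _ => by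
      rw [Subgroup.mem_bot.1 hy, one_mul, mul_one]) hf
    exact (hΦ.restrict_to le_sup_left).congr hΦe
  have hcentU : D.center ≤ U := center_isCentral.1
  refine ⟨⟨fun z hz => mem_centralizerIn.2 ⟨hUS (hcentU hz), fun u hu => ?_⟩,
    fun P φ hφ => ?_⟩, fun Y hY hYD => ?_⟩
  · rw [cj_apply, ← D.center_le_centralizer hz u hu, mul_inv_cancel_right]
  · have hm := mor_toFun hφ
    obtain ⟨ψ, hψ, he, hfix⟩ := (isCentral_iff.1 center_isCentral).2 P _ hm
    have hcm : ∀ {x : Ω}, x ∈ U → x ∈ centralizerIn S D.center := fun {x} hx =>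
      mem_centralizerIn.2 ⟨hUS hx, fun z hz => by
        rw [cj_apply, D.center_le_centralizer hz x hx, mul_inv_cancel_right]⟩
    exact ⟨(mor_iff_hom fun x => (toFun_coe φ x).symm).1 (hDF hm), fun x hx => hcm (hm.le hx),
      fun x => hcm ((D.le_of_mem hφ).2 x),
      (ext_central_iff fun x => (toFun_coe φ x).symm).2 ⟨ψ, hDF hψ, he, hfix⟩⟩
  have hYU : ∀ y ∈ Y, ∀ u ∈ U, y * u = u * y := fun y hy u hu => by
    have := (mem_centralizerIn.1 (hY hy)).2 u hu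
    rw [cj_apply, mul_inv_eq_iff_eq_mul] at this
    exact this
  -- `Y` centralizes `E`
  have hYcs : Y ≤ cs F E p := valid_le_cs hS hF hE.1.1.2.2 ⟨fun y hy => mem_centralizerIn.2
      ⟨(mem_centralizerIn.1 (hY hy)).1, fun t ht => (mem_centralizerIn.1 (hY hy)).2 t (hTU ht)⟩,
    fun P f hf => by
      obtain ⟨φ, hφ, he⟩ := mor_right h1 h2 hprod hZ hfac hf
      exact (ext_central_iff he).1 (hYD P hφ).2.2.2⟩
  obtain ⟨G, hG, hGsub⟩ := FusionCentralizerNormal.exists_normal_centralizer hS hF hE.1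
  have hv := valid_cs hS hF hE.1
  have hCS : cs F E p ≤ S := hv.1.trans inf_le_left
  haveI := finite_of_le hCS
  have hGc : G.IsConstrained p := by
    by_contra hn
    obtain ⟨V, C, hC, hV, -⟩ := FusionComponentExists.exists_component (hS.to_le hCS) hG.1.1 hn
    have hCE : C.IsSubsystemOf E := hE.2.1 V C
      ⟨FusionComponentExists.subnormal_trans hC.1 (.step (.refl G p) hG), hC.2⟩
    have hVcs : V ≤ cs F E p := subnormal_le hC.1
    refine hV ?_
    rw [← hC.2.2.1]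
    refine (Subgroup.closure_le _).2 ?_
    rintro _ ⟨P, α, x, hP, -, rfl⟩
    have hm := sub_mor hCE ((mem_autGroup hP).1 α.2)
    obtain ⟨ψ, -, he, hfix⟩ := hv.2 P _ hm
    have hfx : afun (α : MulAut P) (x : Ω) = x := by
      rw [← he x x.2, hfix _ (hVcs (hP x.2))]
    rw [← afun_coe, hfx, inv_mul_cancel]
    exact one_mem _
  obtain ⟨-, Qg, hQg, hQgc⟩ := hGc
  have hQgQ : Qg ≤ Q := (le_core hQg).trans
    (le_core (FusionComponentExists.core_normal_of_normal hS hG))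
  have hYQ : Y ≤ Q := fun y hy => hQgQ (hQgc.2 Qg (FusionSysBasic.isConj_refl hQg.1)
    (mem_centralizerIn.2 ⟨hYcs hy, fun z hz => (mem_centralizerIn.1 (hY hy)).2 z
      (hQU (hQgQ hz))⟩))
  refine le_center (isCentral_iff.2 ⟨hYQ.trans hQU, fun P f hf => ?_⟩)
  obtain ⟨Φ, -, hΦ, he, hfix⟩ := hkey hYQ hYU hf
  exact ⟨Φ, hΦ, he, hfix⟩

end Cfsg.Agent.S5309
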