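import Cfsg.Statements.S5310
import Cfsg.Agent.Lib.FusionComponentExists
import Cfsg.Agent.S5136

set_option autoImplicit false
open Cfsg

namespace Cfsg.Agent.S5310

open Cfsg.FusionSystem Cfsg.Agent.FusionSysBasic Cfsg.Agent.FusionComponentExists
open Cfsg.Agent.FusionMorph88 Cfsg.Agent.FusionSysNormal Cfsg.Agent.FusionKit88 Cfsg.Agent.FusionSysSaturated

/-- The system over the trivial group is normal. -/
theorem bot_normal {Ω : Type*} [Group Ω] {S : Subgroup Ω} (F : Cfsg.FusionSystem S) :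
    F.IsNormal ⊥ := by
  refine isNormal_iff.2 ⟨bot_le, fun P f hf => ⟨f, ?_, fun _ _ => rfl, ?_⟩⟩
  · rwa [sup_bot_eq]
  · refine le_antisymm (im_le_iff.2 fun x hx => ?_) bot_le
    rw [Subgroup.mem_bot] at hx ⊢
    subst hx
    exact hf.map_one

/-- A saturated fusion system F over a finite p-group S is constrained (its largest normal subgroup O_p(F) is centric) if and only if the inner fusion system of O_p(F) is itself a generalized Fitting subsystem of F (that is, F*(F) = O_p(F)). -/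
theorem result {Ω : Type*} [Group Ω] {S : Subgroup Ω} [Finite S] (p : ℕ) [Fact p.Prime] (hS : IsPGroup p S) (F : Cfsg.FusionSystem S) (hF : F.IsSaturated p) :
    F.IsConstrained p ↔ (Cfsg.innerFusionSystem F.core).IsGeneralizedFittingOf F p := by
  constructor
  · intro hc
    have hcore : F.core ≤ S := (core_isNormal (F := F)).1
    refine ⟨⊥, Cfsg.innerFusionSystem ⊥, ⟨inner_normal hS hF (bot_normal F),
      fun U C hC => (not_component_of_constrained hS hc hC).elim, fun R D _ _ P => ?_⟩, ?_⟩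
    · rintro φ ⟨hP, g, hg, he⟩
      rw [Subgroup.mem_bot] at hg
      subst hg
      have : φ = Cfsg.conjHom P 1 := MonoidHom.ext fun x => he x
      exact this ▸ D.conj_mem (hP.trans bot_le) (one_mem _)
    let θ : ↥(F.core.prod (⊥ : Subgroup Ω)) →* Ω :=
      (MonoidHom.fst Ω Ω).comp (Subgroup.subtype _)
    refine ⟨S5136.prodSys _ _, fun _ _ => Iff.rfl, ⊥, θ, bot_le, bot_inf_eq _, bot_inf_eq _,
      fun x hx => rfl, fun y hy => (Subgroup.mem_bot.1 hy.2).symm, bot_le, fun s => ?_, ?_,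
      fun P' φ' => ⟨?_, ?_⟩⟩
    · rw [Subgroup.mem_bot]
      exact ⟨fun e => Prod.ext e (Subgroup.mem_bot.1 s.2.2), fun e => congrArg Prod.fst e⟩
    · refine le_antisymm ?_ fun x hx => ⟨⟨(x, 1), hx, one_mem _⟩, rfl⟩
      rintro _ ⟨⟨x, hx⟩, rfl⟩
      exact hx.1
    · rintro ⟨hP', g, hg, he⟩
      refine ⟨hP', Cfsg.conjHom _ (g, 1), (S5136.prodSys _ _).conj_mem ?_ ⟨hg, one_mem _⟩,
        ?_, fun x => ?_, fun x => ?_, fun x => ?_⟩
      · rintro _ ⟨w, -, rfl⟩
        exact w.2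
      · rintro _ ⟨w, -, rfl⟩
        exact w.2
      · obtain ⟨_, w, hw, rfl⟩ := x
        exact ⟨F.core.mul_mem (F.core.mul_mem hg w.2.1) (F.core.inv_mem hg),
          Subgroup.mul_mem _ (Subgroup.mul_mem _ (one_mem _) w.2.2) (Subgroup.inv_mem _ (one_mem _))⟩
      · obtain ⟨_, w, hw, rfl⟩ := x
        exact hw
      · obtain ⟨_, w, hw, rfl⟩ := x
        exact he ⟨θ w, hw⟩
    · rintro ⟨hP', φ, ⟨-, φ₁, ⟨-, g, hg, he₁⟩, φ₂, -, hφ⟩, hsrc, hval, hmem, hind⟩
      refine ⟨hP', g, hg, fun y => ?_⟩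
      have hw : ((y : Ω), (1 : Ω)) ∈ preimageAlong θ P' :=
        ⟨⟨((y : Ω), 1), hP' y.2, one_mem _⟩, y.2, rfl⟩
      have h1 := hind ⟨_, hw⟩
      refine h1.trans ((congrArg Prod.fst (hφ ⟨_, hw⟩ ⟨_, hw, rfl⟩ ⟨_, hw, rfl⟩)).trans ?_)
      exact he₁ _
  · rintro ⟨T, E, hE, D₀, -, Z, θ, -, -, -, -, hθ2, -, -, hrange, -⟩
    by_contra hn
    obtain ⟨U, C, hC, hU, -⟩ := exists_component hS hF hn
    refine hU fun x hx => ?_
    have h1 : Cfsg.conjHom U 1 ∈ E.Hom U :=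
      hE.2.1 U C hC U (C.conj_mem le_rfl (one_mem _))
    have hxT : x ∈ T := (E.le_of_mem h1).1 hx
    exact hrange.le ⟨⟨(1, x), one_mem _, hxT⟩, hθ2 x ⟨one_mem _, hxT⟩⟩

end Cfsg.Agent.S5310
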