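import Cfsg.Statements.S5311
import Cfsg.Agent.Lib.FusionIso88

set_option autoImplicit false
open Cfsg Cfsg.FusionSystem Cfsg.Agent.FusionSysBasic Cfsg.Agent.FusionSysSaturated
  Cfsg.Agent.FusionMorph88 Cfsg.Agent.FusionIso88

namespace Cfsg.Agent.S5311

theorem imageAlong_eq_img {Ω : Type*} [Group Ω] {S : Subgroup Ω} {γ : S →* Ω} {P : Subgroup Ω}
    (hP : P ≤ S) : imageAlong γ P = img (app γ) P := by
  refine le_antisymm (fun y hy => ?_) (img_le_iff.2 fun x hx => app_mem_imageAlong hx hP)
  obtain ⟨x, hx, hxS, rfl⟩ := mem_imageAlong.1 hy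
  exact apply_mem_img (a := app γ) hx

/-- The layer of a saturated fusion system F over a finite p-group S is characteristic in F: for every automorphism α of S that is an automorphism of F (α and its inverse are morphisms from F to F) and every layer E of F over T, α carries T onto T and, for every map φ of E with source P, the map induced by α on α(P) (that is, α ∘ φ ∘ α⁻¹) is a map of E. -/
theorem result {Ω : Type*} [Group Ω] {S : Subgroup Ω} [Finite S] (p : ℕ) [Fact p.Prime] (hS : IsPGroup p S) (F : Cfsg.FusionSystem S) (hF : F.IsSaturated p)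
    (α : ↥S ≃* ↥S) (hα : F.IsMorphism F (S.subtype.comp α.toMonoidHom))
    (hα' : F.IsMorphism F (S.subtype.comp α.symm.toMonoidHom))
    {T : Subgroup Ω} (E : Cfsg.FusionSystem T) (hE : E.IsLayerOf F p) :
    Cfsg.FusionSystem.imageAlong (S.subtype.comp α.toMonoidHom) T = T ∧
      ∀ (P : Subgroup Ω) (φ : ↥P →* Ω), φ ∈ E.Hom P →
        ∀ φ' : ↥(Cfsg.FusionSystem.imageAlong (S.subtype.comp α.toMonoidHom) P) →* Ω,
          Cfsg.FusionSystem.InducedAlong (S.subtype.comp α.toMonoidHom) φ φ' →
            φ' ∈ E.Hom (Cfsg.FusionSystem.imageAlong (S.subtype.comp α.toMonoidHom) P) := by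
  set A : S →* Ω := S.subtype.comp α.toMonoidHom with hA
  set B : S →* Ω := S.subtype.comp α.symm.toMonoidHom with hBdef
  have hB : Bij S S (app A) (app B) :=
    ⟨fun x hx => by rw [app_apply _ hx]; exact (α ⟨x, hx⟩).2,
      fun x hx => by rw [app_apply _ hx]; exact (α.symm ⟨x, hx⟩).2,
      fun x hx => by simp [hA, hBdef, app_apply, hx],
      fun x hx => by simp [hA, hBdef, app_apply, hx],
      fun x hx y hy => app_mul hx hy⟩
  have key : ∀ {γ δ : S →* Ω}, F.IsMorphism F γ → Bij S S (app γ) (app δ) → ∀ {P f}, Mor F P f →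
      Mor F (img (app γ) P) (app γ ∘ f ∘ app δ) := by
    intro γ δ hγ hBγ P f hf
    obtain ⟨f', hf', he⟩ := morphism_mor hγ hf
    rw [← imageAlong_eq_img hf.le]
    refine hf'.congr fun y hy => ?_
    obtain ⟨x, hx, hxS, rfl⟩ := mem_imageAlong.1 hy
    simp only [Function.comp_apply, hBγ.left x hxS, he x hx]
  have h : Tr F F (app A) (app B) :=
    ⟨hB, fun hf => key hα hB hf, fun hf => key hα' hB.symm hf⟩
  obtain ⟨hEn, hEc, hEm⟩ := hE
  have hsub := hEn.1.2.2.1
  have hTS : T ≤ S := FusionKit88.sub_le hsub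
  have step : ∀ {a b : Ω → Ω} (h : Tr F F a b),
      ∀ {P : Subgroup Ω} {f : Ω → Ω}, Mor E P f → Mor E (img b P) (b ∘ f ∘ a) ∧ T ≤ img a T := by
    intro a b h P f hf
    have hn := h.normalIn (push_tr h hsub) hS hEn
    have hall : ∀ (U : Subgroup Ω) (C : Cfsg.FusionSystem U), C.IsComponentIn F p →
        C.IsSubsystemOf (push h hsub) := by
      intro U C hC
      have hCs := subnormal_subsystem hC.1
      have hU : U ≤ S := FusionKit88.sub_le hCs
      haveI := finite_of_le hU
      have ht := push_tr h.symm hCs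
      have hC' : (push h.symm hCs).IsComponentIn F p :=
        ⟨subnormal_transport hC.1 inferInstance inferInstance hS F _ _ h.symm _ ht,
          ht.quasisimple (hS.to_le hU) hC.2⟩
      intro P φ hφ
      have h1 := (push_tr h hsub).mor
        (FusionKit88.sub_mor (hEc _ _ hC') (ht.mor (mor_toFun hφ)))
      have hPU := (mor_toFun hφ).le
      rw [h.bij.symm.img_img (hPU.trans hU)] at h1
      refine (mor_iff_hom fun x => (toFun_coe φ x).symm).1 (h1.congr fun x hx => ?_)
      simp only [Function.comp_apply, h.bij.right x (hU (hPU hx)),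
        h.bij.right _ (hU ((mor_toFun hφ).apply_mem hx))]
    have hle := hEm _ _ hn hall
    exact ⟨(push_tr h hsub).mor' (FusionKit88.sub_mor hle hf), FusionKit88.sub_le hle⟩
  have hTeq : img (app A) T = T := by
    haveI := finite_of_le hTS
    have hid := mor_id (F := E) (le_refl T)
    have h1 := (step h hid).2
    have h2 := (step h.symm hid).2
    refine le_antisymm ?_ h1
    calc img (app A) T ≤ img (app A) (img (app B) T) := img_mono h2
      _ = T := h.bij.symm.img_img hTS
  refine ⟨by rw [imageAlong_eq_img hTS, hTeq], fun P φ hφ φ' hi => ?_⟩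
  have hf := mor_toFun hφ
  have hPS : P ≤ S := hf.le.trans hTS
  have h1 := (step h.symm hf).1
  rw [← imageAlong_eq_img hPS] at h1
  refine (mor_iff_hom fun x => (toFun_coe φ' x).symm).1 (h1.congr fun y hy => ?_)
  obtain ⟨x, hx, hxS, rfl⟩ := mem_imageAlong.1 hy
  have := ((inducedAlong_iff hPS (fun x => hTS ((E.le_of_mem hφ).2 x)) (fun x => (toFun_coe φ x).symm)
    (fun y => (toFun_coe φ' y).symm)).1 hi x hx).2
  simp only [Function.comp_apply, hB.left x hxS, this]

end Cfsg.Agent.S5311
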