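import Cfsg.Statements.S5312
import Cfsg.Agent.Lib.FusionLayerNormal

set_option autoImplicit false
open Cfsg Cfsg.FusionSystem Cfsg.Agent.FusionSysBasic Cfsg.Agent.FusionKit88

namespace Cfsg.Agent.S5312

/-- Let F be a saturated fusion system over a finite p-group S. Every component C of F is a normal subsystem of every generalized Fitting subsystem of F. -/
theorem result {Ω : Type*} [Group Ω] {S : Subgroup Ω} [Finite S] (p : ℕ) [Fact p.Prime] (hS : IsPGroup p S) (F : Cfsg.FusionSystem S) (hF : F.IsSaturated p)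
    {T : Subgroup Ω} (C : Cfsg.FusionSystem T) (hC : C.IsComponentIn F p)
    {U : Subgroup Ω} (D : Cfsg.FusionSystem U) (hD : D.IsGeneralizedFittingOf F p) : C.IsNormalIn D p := by
  have hDn := (FusionGenFitting.generalized_fitting hS hF).2 U D hD
  obtain ⟨TE, E, hE, D₀, hprod, Z, θ, hZ, -, -, h1, h2, hfac⟩ := hD
  have hUS : U ≤ S := sub_le hDn.1.2.2.1
  haveI := finite_of_le hUS
  have hQS : F.core ≤ S := (FusionSysNormal.core_isNormal (F := F)).1
  haveI := finite_of_le hQS
  haveI := finite_of_le (sub_le hE.1.1.2.2.1 : TE ≤ S)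
  have hcp := FusionCP.cp_of_data h1 h2 hprod hZ hfac
  exact hcp.symm.trans_left (hS.to_le hUS) hDn.1.1
    (FusionLayerNormal.component_normal_in_layer hS hF hC hE)

end Cfsg.Agent.S5312
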