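import Cfsg.Statements.S5315
import Cfsg.Agent.Lib.FusionMorph88
import Cfsg.Agent.Lib.FusionInduct88
-- import your own Cfsg.Agent.* helpers here

set_option autoImplicit false
open Cfsg

namespace Cfsg.Agent.S5315

open Cfsg.FusionSystem Cfsg.Agent.FusionSysBasic Cfsg.Agent.FusionSysSaturated
open Cfsg.Agent.FusionSysNormal Cfsg.Agent.FusionMorph88

/-- An analogue of Grün's lemma for fusion systems. Let F be a saturated fusion system over a finite p-group S that is perfect in the sense that its hyperfocal subgroup is all of S (F coincides with its p-residual subsystem). Then the second centre of F equals its centre: every fusion system over S/(Z(F) ∩ S) that is the factor system of F modulo its centre Z(F), read through the quotient map, has trivial centre. -/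
theorem result {Ω : Type*} [Group Ω] {S : Subgroup Ω} [Finite S] (p : ℕ) [Fact p.Prime] (hS : IsPGroup p S) (F : Cfsg.FusionSystem S) (hF : F.IsSaturated p)
    (hperf : F.hyperfocalSubgroup p = S)
    (E : Cfsg.FusionSystem (⊤ : Subgroup (↥S ⧸ (F.center).subgroupOf S)))
    (hE : F.IsFactorSystem F.center (QuotientGroup.mk' ((F.center).subgroupOf S)) E) : E.center = ⊥ := by
  obtain ⟨hZS, hker, hrange, -⟩ := id hE
  generalize hθ : QuotientGroup.mk' ((F.center).subgroupOf S) = θ at hE hker hrange
  have happ : ∀ {x : Ω}, x ∈ S → (app θ x = 1 ↔ x ∈ F.center) := fun {x} hx => by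
    rw [app_apply θ hx]; exact hker ⟨x, hx⟩
  have hcong : ∀ {a b : Ω}, a ∈ S → b ∈ S → app θ a = app θ b → a⁻¹ * b ∈ F.center := by
    intro a b ha hb e
    refine (happ (S.mul_mem (S.inv_mem ha) hb)).1 ?_
    rw [app_mul (S.inv_mem ha) hb, app_inv ha, e, inv_mul_cancel]
  -- every map fixes the centre
  have hfixZ : ∀ {P : Subgroup Ω} {f : Ω → Ω}, Mor F P f → ∀ z ∈ P, z ∈ F.center → f z = z := by
    intro P f hf z hzP hz
    obtain ⟨g, -, hge, hgz⟩ := (isCentral_iff.1 center_isCentral).2 P f hf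
    rw [← hge z hzP, hgz z hz]
  have hZc : ∀ {z s : Ω}, z ∈ F.center → s ∈ S → cj s z = z := fun {z s} hz hs =>
    hfixZ (mor_cj (F := F) le_rfl hs) z (hZS hz) hz
  let W := preimageAlong θ E.center
  have hWS : W ≤ S := preimageAlong_le θ _
  -- every map extends over `W`, agreeing modulo the centre
  have hext : ∀ {P : Subgroup Ω} {f : Ω → Ω}, Mor F P f → ∃ (Q : Subgroup Ω) (g : Ω → Ω),
      Mor F Q g ∧ P ≤ Q ∧ W ≤ Q ∧ F.center ≤ Q ∧
        (∀ x ∈ P, (f x)⁻¹ * g x ∈ F.center) ∧ ∀ w ∈ W, w⁻¹ * g w ∈ F.center := by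
    intro P f hf
    obtain ⟨f₁, hf₁, hfe, -⟩ := (isCentral_iff.1 center_isCentral).2 P f hf
    have hPS : P ⊔ F.center ≤ S := sup_le hf.le hZS
    have hpre : preimageAlong θ (imageAlong θ (P ⊔ F.center)) = P ⊔ F.center := by
      refine preimageAlong_imageAlong hPS ?_
      rw [← factor_stronglyClosed hE]
      exact le_sup_right
    let f' := app θ ∘ f₁ ∘ Function.invFunOn (app θ) ((P ⊔ F.center : Subgroup Ω) : Set Ω)
    have hf' : Mor E (imageAlong θ (P ⊔ F.center)) f' := by
      refine (factor_mor hE).2 ⟨le_top, f₁, by rw [hpre]; exact hf₁, fun x hx => ?_⟩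
      rw [hpre] at hx
      have hex : ∃ a ∈ ((P ⊔ F.center : Subgroup Ω) : Set Ω), app θ a = app θ x := ⟨x, hx, rfl⟩
      have h1 := Function.invFunOn_eq hex
      have h2 := Function.invFunOn_mem hex
      generalize hy : Function.invFunOn (app θ) ((P ⊔ F.center : Subgroup Ω) : Set Ω) (app θ x) = y at h1 h2
      show app θ (f₁ (Function.invFunOn (app θ) _ (app θ x))) = _
      rw [hy]
      have hz := hcong (hPS h2) (hPS hx) h1
      have hzP : y⁻¹ * x ∈ P ⊔ F.center := Subgroup.mem_sup_right hz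
      have e : f₁ x = f₁ y * (y⁻¹ * x) := by
        rw [← hfixZ hf₁ _ hzP hz, ← hf₁.map_mul h2 hzP, mul_inv_cancel_left]
      rw [e, app_mul (hf₁.apply_mem h2) (hPS hzP), (happ (hPS hzP)).2 hz, mul_one]
    obtain ⟨g', hg', hge, hgfix⟩ := (isCentral_iff.1 center_isCentral).2 _ f' hf'
    obtain ⟨-, g, hg, hgg'⟩ := (factor_mor hE).1 hg'
    have hPQ : P ⊔ F.center ≤ preimageAlong θ (imageAlong θ (P ⊔ F.center) ⊔ E.center) :=
      hpre.ge.trans (preimageAlong_mono le_sup_left)
    refine ⟨_, g, hg, le_sup_left.trans hPQ, preimageAlong_mono le_sup_right,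
      le_sup_right.trans hPQ, fun x hx => ?_, fun w hw => ?_⟩
    · have hxQ := hPQ (Subgroup.mem_sup_left hx)
      have hxP : app θ x ∈ imageAlong θ (P ⊔ F.center) :=
        app_mem_imageAlong (Subgroup.mem_sup_left hx) hPS
      have hf'x : f' (app θ x) = app θ (f x) := by
        obtain ⟨-, f₂, hf₂, hf₂e⟩ := (factor_mor hE).1 hf'
        have hex : ∃ a ∈ ((P ⊔ F.center : Subgroup Ω) : Set Ω), app θ a = app θ x :=
          ⟨x, Subgroup.mem_sup_left hx, rfl⟩
        have h1 := Function.invFunOn_eq hex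
        have h2 := Function.invFunOn_mem hex
        generalize hy : Function.invFunOn (app θ) ((P ⊔ F.center : Subgroup Ω) : Set Ω) (app θ x) = y at h1 h2
        show app θ (f₁ (Function.invFunOn (app θ) _ (app θ x))) = _
        rw [hy]
        have hxS := hf.le hx
        have hz := hcong (hPS h2) hxS h1
        have hzP : y⁻¹ * x ∈ P ⊔ F.center := Subgroup.mem_sup_right hz
        have e : f₁ x = f₁ y * (y⁻¹ * x) := by
          rw [← hfixZ hf₁ _ hzP hz, ← hf₁.map_mul h2 hzP, mul_inv_cancel_left]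
        rw [← hfe x hx, e, app_mul (hf₁.apply_mem h2) (hPS hzP), (happ (hPS hzP)).2 hz, mul_one]
      refine hcong (hf.apply_mem hx) (hg.apply_mem hxQ) ?_
      rw [← hgg' x hxQ, hge _ hxP, hf'x]
    · have hwQ := preimageAlong_mono (α := θ) (le_sup_right :
        E.center ≤ imageAlong θ (P ⊔ F.center) ⊔ E.center) hw
      refine hcong (hWS hw) (hg.apply_mem hwQ) ?_
      rw [← hgg' w hwQ, hgfix _ (mem_preimageAlong.1 hw).2]
  -- the focal quotients centralize `W`
  have hSW : ∀ s ∈ S, ∀ w ∈ W, cj s w = w := by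
    intro s hs w hw
    have hcong' : ∀ t ∈ S, w⁻¹ * cj t w ∈ F.center := by
      intro t ht
      obtain ⟨Q, g, hg, hSQ, hWQ, -, hgS, hgW⟩ := hext (mor_cj (F := F) le_rfl ht)
      have h := F.center.mul_mem (hgW w hw) (F.center.inv_mem (hgS w (hWS hw)))
      simpa [mul_assoc] using h
    have key : F.hyperfocalSubgroup p ≤ Subgroup.centralizer ({w} : Set Ω) := by
      refine (Subgroup.closure_le _).2 ?_
      rintro _ ⟨P, α, x, hP, -, rfl⟩
      rw [← afun_coe (α : MulAut P)]
      have hf := (mem_autGroup hP).1 α.2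
      generalize afun (α : MulAut P) = f at hf
      obtain ⟨Q, g, hg, hPQ, hWQ, hZQ, hgP, hgW⟩ := hext hf
      have hxS := hP x.2
      have hwS := hWS hw
      have hxQ := hPQ x.2
      have hwQ := hWQ hw
      have hc := hcong' x hxS
      have hz := hgW w hw
      have hd := hgP x x.2
      generalize hzdef : w⁻¹ * cj (x : Ω) w = c at hc
      have e1 : cj (x : Ω) w = w * c := by rw [← hzdef, mul_inv_cancel_left]
      have hcQ : c ∈ Q := hZQ hc
      have h2 := hg.map_cj hxQ hwQ
      rw [e1, hg.map_mul hwQ hcQ, hfixZ hg c hcQ hc] at h2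
      -- `g x` acts on `w` as `f x` does
      have e2 : cj (g x) (g w) = cj (f x) w * (w⁻¹ * g w) := by
        have hgw : g w = w * (w⁻¹ * g w) := (mul_inv_cancel_left _ _).symm
        have hgx : g x = f x * ((f x)⁻¹ * g x) := (mul_inv_cancel_left _ _).symm
        conv_lhs => rw [hgw, hgx, ← cj_cj]
        have hfix1 : cj ((f x)⁻¹ * g x) (w * (w⁻¹ * g w)) = w * (w⁻¹ * g w) := by
          have h3 := hZc hd (S.mul_mem hwS (hZS hz))
          simp only [cj_apply] at h3 ⊢
          rw [mul_inv_eq_iff_eq_mul] at h3 ⊢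
          exact h3.symm
        rw [hfix1]
        simp only [cj_apply]
        have h4 := hZc hz (hf.apply_mem x.2)
        simp only [cj_apply] at h4
        conv_rhs => rw [← h4]
        group
      rw [e2] at h2
      have hwc : cj (f x) w = w * c := by
        have hcomm : (w⁻¹ * g w) * c = c * (w⁻¹ * g w) := by
          have h5 := hZc hz (hZS hc)
          rw [cj_apply, mul_inv_eq_iff_eq_mul] at h5
          exact h5.symm
        have h6 : g w * c = w * c * (w⁻¹ * g w) := by
          rw [mul_assoc, ← hcomm]; group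
        rw [h6] at h2
        exact (mul_right_cancel h2).symm
      rw [SetLike.mem_coe, Subgroup.mem_centralizer_singleton_iff]
      have e3 : cj (f x) w = cj (x : Ω) w := hwc.trans e1.symm
      have e4 : cj ((x : Ω)⁻¹ * f x) w = w := by rw [← cj_cj, e3, cj_inv_cj]
      rw [cj_apply, mul_inv_eq_iff_eq_mul] at e4
      exact e4
    rw [hperf] at key
    have h := Subgroup.mem_centralizer_singleton_iff.1 (key hs)
    rw [cj_apply, h, mul_inv_cancel_right]
  -- every map fixes `W`
  have hfixW : ∀ {P : Subgroup Ω} {f : Ω → Ω}, Mor F P f → ∀ x ∈ P, x ∈ W → f x = x := by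
    intro P f hf x hx hxW
    refine FusionInduct88.induction' hS hF (Φ := fun P f => ∀ x ∈ P, (x ∈ W ∨ f x ∈ W) → f x = x)
      ⟨fun h he x hx hxW => ?_, fun _ hg x _ hxW => ?_,
        fun _ _ _ _ hfQ h1 h2 x hx hxW => ?_,
        fun hf _ _ hgf h1 y hy hyW => ?_⟩ (fun R hR α hα hc => ?_) hf x hx (Or.inl hxW)
    · rw [← he x hx] at hxW ⊢
      exact h x hx hxW
    · rcases hxW with h | h
      · exact hSW _ hg x h
      · have h' := hSW _ (S.inv_mem hg) _ h
        rw [cj_inv_cj] at h'
        exact h'.symm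
    · simp only [Function.comp_apply] at hxW ⊢
      rcases hxW with h | h
      · rw [h1 x hx (Or.inl h)]
        exact h2 x (by have := hfQ x hx; rwa [h1 x hx (Or.inl h)] at this) (Or.inl h)
      · have e := h2 _ (hfQ x hx) (Or.inr h)
        rw [e] at h ⊢
        exact h1 x hx (Or.inr h)
    · obtain ⟨x, hx, rfl⟩ := hf.mem_im.1 hy
      rw [hgf x hx] at hyW ⊢
      exact (h1 x hx hyW.symm).symm
    · suffices key : ∀ β ∈ F.autGroup R, (orderOf β).Coprime p →
          ∀ x ∈ R, x ∈ W → afun β x = x by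
        intro x hx hxW
        rcases hxW with h | h
        · exact key α hα hc x hx h
        · have h1 := key α⁻¹ (Subgroup.inv_mem _ hα) (by rwa [orderOf_inv]) _ (afun_mem α hx) h
          rw [afun_inv_apply α hx] at h1
          exact h1.symm
      clear hα hc α
      intro α hα hc x hx hxW
      obtain ⟨Q, g, hg, hRQ, -, -, hgR, hgW⟩ := hext ((mem_autGroup hR).1 hα)
      have hd : x⁻¹ * afun α x ∈ F.center := by
        have h := F.center.mul_mem (hgW x hxW) (F.center.inv_mem (hgR x hx))
        simpa [mul_assoc] using h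
      have hdR : x⁻¹ * afun α x ∈ R := R.mul_mem (R.inv_mem hx) (afun_mem α hx)
      have h1 := hfixZ ((mem_autGroup hR).1 hα) _ hdR hd
      have hit : ∀ n : ℕ, afun (α ^ n) x = x * (x⁻¹ * afun α x) ^ n := by
        intro n
        induction n with
        | zero => rw [pow_zero, pow_zero, afun_one hx, mul_one]
        | succ n ih =>
          have hfn : ∀ m : ℕ, afun α ((x⁻¹ * afun α x) ^ m) = (x⁻¹ * afun α x) ^ m := fun m =>
            hfixZ ((mem_autGroup hR).1 hα) _ (R.pow_mem hdR m) (F.center.pow_mem hd m)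
          rw [pow_succ', afun_mul _ _ hx, ih,
            ((mem_autGroup hR).1 hα).map_mul hx (R.pow_mem hdR n), hfn, pow_succ',
            ← mul_assoc x, mul_inv_cancel_left]
      have h2 := hit (orderOf α)
      rw [pow_orderOf_eq_one, afun_one hx, left_eq_mul] at h2
      obtain ⟨k, hk⟩ := hS ⟨_, hR hdR⟩
      have h3 := pow_gcd_eq_one.mpr ⟨h2, (congrArg Subtype.val hk : (x⁻¹ * afun α x) ^ p ^ k = 1)⟩
      rw [(Nat.Coprime.pow_right k hc).gcd_eq_one, pow_one, inv_mul_eq_one] at h3
      exact h3.symm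
  have hW : W ≤ F.center := by
    refine le_center (isCentral_of_fixed hS hF hWS fun x hx y hy => ?_)
    obtain ⟨φ, hφ, e⟩ := hy
    rw [← e, ← toFun_apply φ (Subgroup.mem_zpowers x)]
    exact hfixW (mor_toFun hφ) x (Subgroup.mem_zpowers x) hx
  rw [eq_bot_iff]
  intro y hy
  obtain ⟨s, rfl⟩ : y ∈ θ.range := by rw [hrange]; trivial
  rw [Subgroup.mem_bot, hker]
  exact hW (mem_preimageAlong.2 ⟨s.2, by rwa [app_apply θ s.2]⟩)

end Cfsg.Agent.S5315
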