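import Cfsg.Statements.S5316
import Cfsg.Agent.Lib.FusionSoftCases94
import Cfsg.Agent.Lib.MaxClassTwo
import Cfsg.Agent.S5185

set_option autoImplicit false
open Cfsg

namespace Cfsg.Agent.S5316

open Cfsg.FusionSystem Cfsg.Agent.FusionSysBasic Cfsg.Agent.FusionSysSaturated
  Cfsg.Agent.FusionSysAlperin

theorem nilpotencyClass_eq {Ω : Type*} [Group Ω] {S : Subgroup Ω} [Finite S] (p : ℕ) [Fact p.Prime]
    (n : ℕ) (hn : Nat.card S = p ^ n) (h5 : 5 ≤ n)
    (hmax : Subgroup.lowerCentralSeries S (n - 2) ≠ ⊥) : Group.nilpotencyClass S = n - 1 := by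
  haveI := (IsPGroup.of_card hn).isNilpotent
  refine le_antisymm (MaxClassTwo.nilpotencyClass_le n S hn (by omega)) ?_
  by_contra hlt
  refine hmax ?_
  rw [← Subgroup.top_subtype_lowerCentralSeries,
    Subgroup.lowerCentralSeries_eq_bot_iff_nilpotencyClass_le.mpr
      (show Group.nilpotencyClass S ≤ n - 2 by omega), Subgroup.map_bot]

/-- Let p ≥ 5 be a prime, S a finite p-group of maximal class of order p^n with n ≥ 5 (nilpotency class n − 1), F a saturated fusion system over S, and E an F-essential subgroup that is not a pearl (not elementary abelian of order p² and not extraspecial of order p³ and exponent p). Then E has order at least p⁴. -/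
theorem result {Ω : Type*} [Group Ω] {S : Subgroup Ω} [Finite S] (p : ℕ) [Fact p.Prime] (hp : 5 ≤ p) (hS : IsPGroup p ↥S) (n : ℕ) (hn : Nat.card S = p ^ n) (h5 : 5 ≤ n)
    (hmax : Subgroup.lowerCentralSeries S (n - 2) ≠ ⊥) (F : Cfsg.FusionSystem S) (hF : F.IsSaturated p)
    (E : Subgroup Ω) (hE : F.IsEssential p E)
    (hnp : ¬ ((Nat.card ↥E = p ^ 2 ∧ Cfsg.IsElementaryAbelian p E) ∨ (Nat.card ↥E = p ^ 3 ∧ Cfsg.IsExtraspecial p ↥E ∧ Monoid.exponent ↥E = p))) :
    p ^ 4 ≤ Nat.card ↥E := by
  have hpp : p.Prime := Fact.out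
  have hES : E ≤ S := hE.1.1
  haveI := finite_of_le hES
  have hcentric : centralizerIn S E ≤ E := centralizerIn_le_of_centric hE.1
  obtain ⟨k, hk⟩ := IsPGroup.iff_card.mp (hS.to_le hES)
  rw [hk]
  refine Nat.pow_le_pow_right hpp.pos ?_
  by_contra hlt
  rcases (show k ≤ 1 ∨ k = 2 ∨ k = 3 by omega) with h | rfl | rfl
  · -- a central subgroup of prime order together with `E` centralizes `E`
    have hcomm : ∀ a ∈ E, ∀ b ∈ E, a * b = b * a := by
      intro a ha b hb
      haveI : IsMulCommutative E := by
        rcases Nat.le_one_iff_eq_zero_or_eq_one.mp h with rfl | rfl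
        · rw [pow_zero] at hk
          haveI := (Nat.card_eq_one_iff_unique.mp hk).1
          exact ⟨⟨fun x y => Subsingleton.elim _ _⟩⟩
        · rw [pow_one] at hk
          haveI := isCyclic_of_prime_card hk
          infer_instance
      exact congrArg Subtype.val (IsMulCommutative.is_comm.comm (⟨a, ha⟩ : E) ⟨b, hb⟩)
    have hlt' := normalizerIn_gt hS (essential_lt hS hF hE)
    have hcn := card_normalizerIn S E
    have hC : centralizerIn S E = E := le_antisymm hcentric fun x hx =>
      mem_centralizerIn.mpr ⟨hES hx, fun y hy => by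
        rw [cj_apply, hcomm x hx y hy, mul_inv_cancel_right]⟩
    rw [hC] at hcn
    have hone : autInducedBy S E = ⊥ := by
      have hAp : IsPGroup p (autInducedBy S E) := isPGroup_autInducedBy hS E
      haveI := finite_autGroup (F := F) E
      obtain ⟨j, hj⟩ := IsPGroup.iff_card.mp hAp
      rw [← Subgroup.card_eq_one]
      by_contra hne
      have hj1 : p ∣ Nat.card (autInducedBy S E) := by
        rw [hj] at hne ⊢
        exact dvd_pow_self p fun h0 => hne (by rw [h0, pow_zero])
      obtain ⟨a, ha⟩ := exists_prime_orderOf_dvd_card' p hj1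
      have h1 : orderOf (a : MulAut E) = p := by rw [Subgroup.orderOf_coe, ha]
      rcases Nat.le_one_iff_eq_zero_or_eq_one.mp h with rfl | rfl
      · rw [pow_zero] at hk
        haveI := (Nat.card_eq_one_iff_unique.mp hk).1
        rw [show (a : MulAut E) = 1 from MulEquiv.ext fun x => Subsingleton.elim _ _,
          orderOf_one] at h1
        exact hpp.one_lt.ne h1
      · rw [pow_one] at hk
        haveI := isCyclic_of_prime_card hk
        haveI : Fintype E := Fintype.ofFinite _
        have h2 : orderOf (a : MulAut E) ∣ Nat.card (MulAut E) := orderOf_dvd_natCard _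
        rw [IsCyclic.card_mulAut, hk, Nat.totient_prime hpp, h1] at h2
        have := Nat.le_of_dvd (by omega) h2
        omega
    rw [hone, Subgroup.card_bot, one_mul] at hcn
    exact absurd (hcn ▸ hlt') (lt_irrefl _)
  · exact hnp (Or.inl ⟨hk, (S5185.result p hS F hF E hE hk).1⟩)
  · rcases S5186.result p hS F hF E hE hk with hel | ⟨-, hex, hexp⟩ | ⟨h2, -⟩
    · have hcomm : ∀ a ∈ E, ∀ b ∈ E, a * b = b * a := fun a ha b hb =>
        congrArg Subtype.val (hel.1.is_comm.comm (⟨a, ha⟩ : E) ⟨b, hb⟩)
      exact FusionSoftCases94.no_soft hn (nilpotencyClass_eq p n hn h5 hmax) (by omega) h5 hS hF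
        hE hk hcomm hel.2 (FusionSoft94.card_autInducedBy_eq hS hF hE hk hcomm hel.2)
    · refine hnp (Or.inr ⟨hk, hex, ?_⟩)
      rcases (Nat.dvd_prime hpp).mp (Monoid.exponent_dvd_of_forall_pow_eq_one
        (G := E) (n := p) fun x => Subtype.ext (hexp x x.2)) with h | h
      · haveI := Monoid.exp_eq_one_iff.mp h
        rw [Nat.card_of_subsingleton (1 : E)] at hk
        exact absurd hk (Nat.one_lt_pow (by omega) hpp.one_lt).ne
      · exact h
    · omega

end Cfsg.Agent.S5316
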