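import Cfsg.Statements.S5317
import Cfsg.Agent.Lib.FusionSysGroup
import Cfsg.Agent.Lib.PSL2Proj52
import Cfsg.Agent.Lib.PSL2SylowTwo

set_option autoImplicit false
open Cfsg

namespace Cfsg.Agent.S5317

open Cfsg.FusionSystem Cfsg.Agent.FusionSysBasic Cfsg.Agent.FusionSysSaturated
open Cfsg.Agent.FusionSysGroup
open scoped MatrixGroups
open Matrix

/-- An automorphism of odd order of a dihedral 2-group of order at least 8 is trivial. -/
theorem aut_odd_trivial {D : Type*} [Group D] [Finite D] (hD : IsPGroup 2 D) {x c : D}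
    (hx : x * x = 1) (hxc : x * c * x⁻¹ = c⁻¹) (hc : c * c ≠ 1)
    (hgen : ∀ s : D, ∃ i : ℕ, s = c ^ i ∨ s = x * c ^ i) (α : MulAut D) {m : ℕ} (hm : Odd m)
    (hα : α ^ m = 1) : α = 1 := by
  have hxinv : x⁻¹ = x := inv_eq_of_mul_eq_one_left hx
  have hinv : ∀ i : ℕ, x * c ^ i * x⁻¹ = (c ^ i)⁻¹ := fun i => by rw [← conj_pow, hxc, inv_pow]
  have hinv2 : ∀ i : ℕ, (x * c ^ i) * (x * c ^ i) = 1 := fun i => by
    have h := hinv i
    rw [hxinv] at h
    rw [show (x * c ^ i) * (x * c ^ i) = (x * c ^ i * x) * c ^ i from (mul_assoc _ _ _).symm, h,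
      inv_mul_cancel]
  -- `α c` is a power of `c`
  obtain ⟨j, hj⟩ : ∃ j, α c = c ^ j := by
    obtain ⟨i, hi | hi⟩ := hgen (α c)
    · exact ⟨i, hi⟩
    · exfalso
      apply hc
      apply α.injective
      rw [map_mul, map_one, hi, hinv2]
  have hit : ∀ k : ℕ, (α ^ k) c = c ^ (j ^ k) := by
    intro k
    induction k with
    | zero => simp
    | succ k ih => rw [pow_succ', MulAut.mul_apply, ih, map_pow, hj, ← pow_mul, ← pow_succ']
  haveI : Fact (Nat.Prime 2) := ⟨Nat.prime_two⟩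
  obtain ⟨r, hr⟩ := IsPGroup.iff_orderOf.1 hD c
  have hr1 : 1 ≤ r := by
    by_contra h
    obtain rfl : r = 0 := by omega
    rw [pow_zero, orderOf_eq_one_iff] at hr
    exact hc (by rw [hr, one_mul])
  have hjm : (j : ZMod (2 ^ r)) ^ m = 1 := by
    have h1 := hit m
    rw [hα, MulAut.one_apply] at h1
    rw [← Nat.cast_pow, ← Nat.cast_one, ZMod.natCast_eq_natCast_iff, ← hr, ← pow_eq_pow_iff_modEq,
      pow_one]
    exact h1.symm
  have hm0 : m ≠ 0 := hm.pos.ne'
  have hj1 : (j : ZMod (2 ^ r)) = 1 := by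
    have hu : IsUnit (j : ZMod (2 ^ r)) := IsUnit.of_pow_eq_one hjm hm0
    obtain ⟨u, hu⟩ := hu
    have hum : u ^ m = 1 := Units.ext (by rw [Units.val_pow_eq_pow_val, hu, hjm, Units.val_one])
    haveI : NeZero (2 ^ r) := ⟨pow_ne_zero r two_ne_zero⟩
    have hord : orderOf u ∣ 2 ^ (r - 1) := by
      have h := orderOf_dvd_card (G := (ZMod (2 ^ r))ˣ) (x := u)
      rwa [ZMod.card_units_eq_totient, Nat.totient_prime_pow Nat.prime_two hr1,
        show 2 - 1 = 1 from rfl, mul_one] at h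
    have h1 : orderOf u = 1 := Nat.eq_one_of_dvd_coprimes
      ((Nat.coprime_two_left.2 hm).pow_left (r - 1)) hord (orderOf_dvd_of_pow_eq_one hum)
    rw [← hu, orderOf_eq_one_iff.1 h1, Units.val_one]
  have hαc : α c = c := by
    rw [hj]
    conv_rhs => rw [← pow_one c]
    rw [pow_eq_pow_iff_modEq, hr, ← ZMod.natCast_eq_natCast_iff, hj1, Nat.cast_one]
  -- `α x = x c^i`
  obtain ⟨i, hi⟩ : ∃ i, α x = x * c ^ i := by
    obtain ⟨i, hi | hi⟩ := hgen (α x)
    · exfalso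
      apply hc
      have h := congrArg α hxc
      rw [map_mul, map_mul, map_inv, map_inv, hi, hαc, ← pow_succ, pow_succ',
        mul_inv_cancel_right] at h
      exact mul_eq_one_iff_eq_inv.2 h
    · exact ⟨i, hi⟩
  have hitx : ∀ k : ℕ, (α ^ k) x = x * c ^ (k * i) := by
    intro k
    induction k with
    | zero => simp
    | succ k ih =>
      rw [pow_succ', MulAut.mul_apply, ih, map_mul, map_pow, hαc, hi, mul_assoc, ← pow_add,
        show i + k * i = (k + 1) * i by ring]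
  have hαx : α x = x := by
    have h := hitx m
    rw [hα, MulAut.one_apply, eq_comm, mul_eq_left, ← orderOf_dvd_iff_pow_eq_one, hr] at h
    have h1 : 2 ^ r ∣ i := Nat.Coprime.dvd_of_dvd_mul_left ((Nat.coprime_two_left.2 hm).pow_left r) h
    rw [hi, orderOf_dvd_iff_pow_eq_one.1 (hr ▸ h1), mul_one]
  ext s
  obtain ⟨k, rfl | rfl⟩ := hgen s
  · simp [hαc]
  · simp [hαc, hαx]

/-- The automorphism group of a dihedral 2-group of order at least 8 is a 2-group. -/
theorem isPGroup_aut {D : Type*} [Group D] [Finite D] (hD : IsPGroup 2 D) {x c : D}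
    (hx : x * x = 1) (hxc : x * c * x⁻¹ = c⁻¹) (hc : c * c ≠ 1)
    (hgen : ∀ s : D, ∃ i : ℕ, s = c ^ i ∨ s = x * c ^ i) : IsPGroup 2 (MulAut D) := by
  haveI : Finite (MulAut D) := Finite.of_injective (fun α : MulAut D => (α : D → D)) DFunLike.coe_injective
  intro α
  obtain ⟨k, m, hm, he⟩ := Nat.exists_eq_two_pow_mul_odd (orderOf_pos α).ne'
  exact ⟨k, aut_odd_trivial hD hx hxc hc hgen (α ^ 2 ^ k) hm (by rw [← pow_mul, ← he, pow_orderOf_eq_one])⟩

/-- A fusion system on a dihedral Sylow 2-subgroup of order at least 8 of a group with one class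
of involutions is simple. -/
theorem isSimple_of_dihedral {G : Type*} [Group G] [Finite G] (S : Sylow 2 G)
    {x c : (S : Subgroup G)} (hx1 : x ≠ 1) (hx : x * x = 1) (hxc1 : x * c ≠ 1)
    (hxc : x * c * x⁻¹ = c⁻¹) (hc : c * c ≠ 1)
    (hgen : ∀ s : (S : Subgroup G), ∃ i : ℕ, s = c ^ i ∨ s = x * c ^ i)
    (hconj : ∀ g h : G, g ≠ 1 → g ^ 2 = 1 → h ≠ 1 → h ^ 2 = 1 → IsConj g h) :
    (Cfsg.groupFusionSystem (S : Subgroup G)).IsSimple 2 := by
  haveI : Fact (Nat.Prime 2) := ⟨Nat.prime_two⟩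
  refine ⟨saturated_group S, fun h => hx1 (Subtype.ext ?_), fun T E hE => ?_⟩
  · exact Subgroup.mem_bot.1 (h.le x.2)
  obtain ⟨⟨-, -, hsub, hstrong, -, hfrat⟩, -⟩ := hE
  refine or_iff_not_imp_left.2 fun hT => ?_
  have hTS : T ≤ S := hstrong.1
  have hinvol : ∀ y ∈ (S : Subgroup G), y ≠ 1 → y ^ 2 = 1 → y ∈ T := by
    intro y hy hy1 hy2
    haveI : Nontrivial T := (Subgroup.nontrivial_iff_ne_bot T).2 hT
    obtain ⟨n, hn0, hn⟩ := (IsPGroup.nontrivial_iff_card (S.2.to_le hTS)).1 inferInstance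
    obtain ⟨z, hz⟩ := exists_prime_orderOf_dvd_card' (G := T) 2 (hn ▸ dvd_pow_self 2 hn0.ne')
    have hz1 : (z : G) ≠ 1 := fun h => by
      rw [← Subgroup.orderOf_coe, h, orderOf_one] at hz; omega
    have hz2 : (z : G) ^ 2 = 1 := by
      have h := pow_orderOf_eq_one z
      rw [hz] at h
      rw [← Subgroup.coe_pow, h, Subgroup.coe_one]
    obtain ⟨g, hg⟩ := isConj_iff.1 (hconj _ _ hz1 hz2 hy1 hy2)
    have hzle : Subgroup.zpowers (z : G) ≤ T :=
      Subgroup.zpowers_le.2 z.2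
    have hS' : ∀ w ∈ Subgroup.zpowers (z : G),
        cj g w ∈ (S : Subgroup G) := by
      rintro _ ⟨i, rfl⟩
      show g * (z : G) ^ i * g⁻¹ ∈ _
      rw [← conj_zpow, hg]
      exact Subgroup.zpow_mem _ hy i
    have h := hstrong.2 _ hzle (Cfsg.conjHom _ g)
      ⟨hzle.trans hTS, fun w => hS' w w.2, g, fun _ => rfl⟩ ⟨_, Subgroup.mem_zpowers _⟩
    have h' : g * (z : G) * g⁻¹ ∈ T := h
    rwa [hg] at h'
  have hxT : (x : G) ∈ T :=
    hinvol x x.2 (fun h => hx1 (Subtype.ext h))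
      (by rw [sq, ← Subgroup.coe_mul, hx, Subgroup.coe_one])
  have hxcT : (x : G) * c ∈ T := by
    refine hinvol _ ((S : Subgroup G).mul_mem x.2 c.2) (fun h => hxc1 (Subtype.ext h)) ?_
    have hxi : x⁻¹ = x := inv_eq_of_mul_eq_one_left hx
    rw [hxi] at hxc
    have h : x * c * (x * c) = 1 := by rw [← mul_assoc, hxc, inv_mul_cancel]
    rw [sq]
    exact congrArg Subtype.val h
  have hcT : (c : G) ∈ T := by
    have h := T.mul_mem (T.inv_mem hxT) hxcT
    rwa [inv_mul_cancel_left] at h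
  obtain rfl : T = (S : Subgroup G) := by
    refine le_antisymm hTS fun s hs => ?_
    obtain ⟨i, hi | hi⟩ := hgen ⟨s, hs⟩
    · rw [show s = ((c ^ i : (S : Subgroup G)) : G) from
        congrArg Subtype.val hi]
      exact T.pow_mem hcT i
    · rw [show s = ((x * c ^ i : (S : Subgroup G)) : G) from
        congrArg Subtype.val hi]
      exact T.mul_mem hxT (T.pow_mem hcT i)
  refine ⟨rfl, fun P => Set.Subset.antisymm (hsub P) fun φ hφ => ?_⟩
  have hP := ((Cfsg.groupFusionSystem (S : Subgroup G)).le_of_mem hφ).1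
  obtain ⟨α, hα, φ₀, hφ₀, heq⟩ := hfrat P hP φ hφ
  -- `Aut_F(S) = Aut_S(S)`
  obtain ⟨R, hR⟩ := (fullyAutomized_of_fullyNormalized S.2 (saturated_group S)
    (⟨le_rfl, fun Q hQ => Subgroup.card_le_of_le (le_inf inf_le_left (inf_le_left.trans
      Subgroup.le_normalizer))⟩ :
      (Cfsg.groupFusionSystem (S : Subgroup G)).IsFullyNormalized (S : Subgroup G))).2
  have hA : IsPGroup 2 ((Cfsg.groupFusionSystem (S : Subgroup G)).autGroup (S : Subgroup G)) :=
    (isPGroup_aut S.2 hx hxc hc hgen).to_subgroup _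
  have htop : (R : Subgroup ((Cfsg.groupFusionSystem (S : Subgroup G)).autGroup (S : Subgroup G))) = ⊤ :=
    (R.3 (hA.to_subgroup ⊤) le_top).symm
  rw [htop] at hR
  have hαS : α ∈ Cfsg.autInducedBy (S : Subgroup G) (S : Subgroup G) :=
    (hR.le (Subgroup.mem_top (⟨α, hα⟩ :
      (Cfsg.groupFusionSystem (S : Subgroup G)).autGroup (S : Subgroup G))) :)
  obtain ⟨g, hgS, -, hge⟩ := mem_autInducedBy.1 hαS
  have hφ₀S := (E.le_of_mem hφ₀).2
  have hle : φ₀.range ≤ (S : Subgroup G) := by rintro _ ⟨w, rfl⟩; exact hφ₀S w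
  have := E.comp_mem hφ₀ (E.conj_mem hle hgS) fun w => ⟨w, rfl⟩
  convert this using 1
  ext w
  rw [heq w (hφ₀S w), ← afun_apply α (hφ₀S w), hge _ (hφ₀S w)]
  rfl


variable {F : Type*} [Field F] [Finite F]

local notation "PSL₂" => Matrix.ProjectiveSpecialLinearGroup (Fin 2) F
local notation "π" => PSL2Proj52.π (F := F)

/-- All involutions of `PSL(2,q)`, `q` odd, are conjugate. -/
theorem isConj_involution (h2 : (2 : F) ≠ 0) {g h : PSL₂} (hg : g ≠ 1) (hg2 : g ^ 2 = 1)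
    (hh : h ≠ 1) (hh2 : h ^ 2 = 1) : IsConj g h := by
  have key : ∀ {a : PSL₂}, a ≠ 1 → a ^ 2 = 1 → ∃ A : SL(2, F), π A = a ∧ PSL2Elements.tr A = 0 := by
    intro a ha ha2
    obtain ⟨A, rfl⟩ := PSL2Proj52.π_surjective a
    refine ⟨A, rfl, ?_⟩
    rw [← map_pow] at ha2
    rcases (PSL2Proj52.π_eq_one _).1 ha2 with e | e
    · exact absurd ((PSL2Proj52.π_eq_one _).2
        (PSL2Elements.eq_one_or_neg_one_of_sq_eq_one h2 e)) ha
    · have h1 := PSL2Elements.sq_eq A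
      have h3 : A.1 * A.1 = -1 := by
        have := congrArg Subtype.val e
        rwa [sq, PSL2Elements.coe_mul', PSL2Elements.coe_neg', PSL2Elements.coe_one'] at this
      rw [h3] at h1
      have h4 : PSL2Elements.tr A • A.1 = 0 := by
        rw [eq_sub_iff_add_eq, neg_add_cancel] at h1
        exact h1.symm
      rcases smul_eq_zero.1 h4 with h5 | h5
      · exact h5
      · exfalso
        have := PSL2Elements.det_eq A
        rw [h5] at this
        simp at this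
  obtain ⟨A, rfl, hA⟩ := key hg hg2
  obtain ⟨B, rfl, hB⟩ := key hh hh2
  refine MonoidHom.map_isConj π (PSL2Elements.isConj_of_tr_eq (hA.trans hB.symm) ?_)
  rw [hA]
  intro h4
  exact mul_ne_zero h2 h2 (by linear_combination -h4)

/-- Structure of a Sylow 2-subgroup of `PSL(2,q)` when `16 ∣ q² - 1`. -/
theorem sylow_dihedral (hodd : Odd (Nat.card F)) (h16 : 16 ∣ Nat.card F ^ 2 - 1) (S : Sylow 2 PSL₂) :
    ∃ x c : (S : Subgroup PSL₂), x ≠ 1 ∧ x * x = 1 ∧ x * c ≠ 1 ∧ x * c * x⁻¹ = c⁻¹ ∧ c * c ≠ 1 ∧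
      ∀ s : (S : Subgroup PSL₂), ∃ i : ℕ, s = c ^ i ∨ s = x * c ^ i := by
  haveI : Fact (Nat.Prime 2) := ⟨Nat.prime_two⟩
  have h2 := PSL2Proj52.two_ne_of_odd hodd
  have hker : IsPGroup 2 (π).ker := by
    intro g
    refine ⟨1, Subtype.ext ?_⟩
    rcases (PSL2Proj52.π_eq_one _).1 (MonoidHom.mem_ker.1 g.2) with e | e <;> simp [e]
  obtain ⟨P, hP⟩ := (S.2.comap_of_ker_isPGroup π hker).exists_le_sylow
  have hmap : (P : Subgroup SL(2, F)).map π = (S : Subgroup PSL₂) := by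
    refine S.3 (P.2.map π) fun s hs => ?_
    obtain ⟨A, rfl⟩ := PSL2Proj52.π_surjective s
    exact ⟨A, hP hs, rfl⟩
  obtain ⟨k, -, ⟨e⟩⟩ := PSL2SylowTwo.sylow_two_quaternion hodd P
  haveI : NeZero (2 ^ k) := ⟨pow_ne_zero k two_ne_zero⟩
  have hk : 2 ≤ k := by
    have h1 : (16 : ℕ) ∣ Nat.card (P : Subgroup SL(2, F)) := by
      have h : 2 ^ 4 ∣ Nat.card SL(2, F) := by
        rw [PSLCard.card_SL2]; exact (show 2 ^ 4 ∣ _ from h16).mul_left _
      rw [P.card_eq_multiplicity]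
      exact (pow_dvd_pow 2 ((Nat.prime_two.pow_dvd_iff_le_factorization Nat.card_pos.ne').1 h))
    rw [Nat.card_congr e.toEquiv, Nat.card_eq_fintype_card, QuaternionGroup.card] at h1
    by_contra h
    interval_cases k <;> omega
  let ψ : QuaternionGroup (2 ^ k) →* PSL₂ :=
    (π).comp ((P : Subgroup SL(2, F)).subtype.comp e.symm.toMonoidHom)
  have hψS : ∀ q, ψ q ∈ (S : Subgroup PSL₂) := fun q => hmap ▸ ⟨_, (e.symm q).2, rfl⟩
  have hψ : ∀ {q : QuaternionGroup (2 ^ k)}, ψ q = 1 → q ^ 2 = 1 := by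
    intro q hq
    apply e.symm.injective
    rw [map_pow, map_one]
    refine Subtype.ext ?_
    rw [SubgroupClass.coe_pow]
    change (((P : Subgroup SL(2, F)).subtype.comp e.symm.toMonoidHom) q) ^ 2 = _
    rcases (PSL2Proj52.π_eq_one _).1 hq with h | h <;> rw [h] <;> simp
  have hψn : ψ (QuaternionGroup.a ((2 ^ k : ℕ) : ZMod (2 * 2 ^ k))) = 1 := by
    refine (PSL2Proj52.π_eq_one _).2 (PSL2Elements.eq_one_or_neg_one_of_sq_eq_one h2 ?_)
    show ((e.symm _ : (P : Subgroup SL(2, F))) : SL(2, F)) ^ 2 = 1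
    rw [← SubgroupClass.coe_pow, ← OneMemClass.coe_one (P : Subgroup SL(2, F))]
    refine congrArg Subtype.val ?_
    show (e.symm _) ^ 2 = 1
    rw [← map_pow, sq, QuaternionGroup.a_mul_a, ← Nat.cast_add, ← two_mul, ZMod.natCast_self,
      ← QuaternionGroup.one_def, map_one]
  let x : (S : Subgroup PSL₂) := ⟨ψ (QuaternionGroup.xa 0), hψS _⟩
  let c : (S : Subgroup PSL₂) := ⟨ψ (QuaternionGroup.a 1), hψS _⟩
  have hcpow : ∀ i : ℕ, ((c ^ i : (S : Subgroup PSL₂)) : PSL₂) = ψ (QuaternionGroup.a (i : ZMod _)) :=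
    fun i => by rw [SubgroupClass.coe_pow, ← map_pow, QuaternionGroup.a_one_pow]
  have hxa : ∀ i : ZMod (2 * 2 ^ k),
      QuaternionGroup.xa i * QuaternionGroup.xa i = QuaternionGroup.a ((2 ^ k : ℕ) : ZMod _) := fun i => by
    rw [QuaternionGroup.xa_mul_xa, add_sub_cancel_right]
  refine ⟨x, c, fun h => ?_, Subtype.ext ?_, fun h => ?_, Subtype.ext ?_, fun h => ?_, fun s => ?_⟩
  · have h1 := hψ (congrArg Subtype.val h)
    rw [sq, hxa] at h1
    have h2 : ((2 ^ k : ℕ) : ZMod (2 * 2 ^ k)) = 0 :=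
      QuaternionGroup.a.inj (h1.trans QuaternionGroup.one_def)
    rw [ZMod.natCast_eq_zero_iff] at h2
    have := Nat.le_of_dvd (by positivity) h2
    have := Nat.two_pow_pos k
    omega
  · show ψ _ * ψ _ = 1
    rw [← map_mul, hxa, hψn]
  · have h0 : ψ (QuaternionGroup.xa 0) * ψ (QuaternionGroup.a 1) = 1 := congrArg Subtype.val h
    rw [← map_mul, QuaternionGroup.xa_mul_a, zero_add] at h0
    have h1 := hψ h0
    rw [sq, hxa] at h1
    have h2 : ((2 ^ k : ℕ) : ZMod (2 * 2 ^ k)) = 0 :=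
      QuaternionGroup.a.inj (h1.trans QuaternionGroup.one_def)
    rw [ZMod.natCast_eq_zero_iff] at h2
    have := Nat.le_of_dvd (by positivity) h2
    have := Nat.two_pow_pos k
    omega
  · show ψ (QuaternionGroup.xa 0) * ψ (QuaternionGroup.a 1) * (ψ (QuaternionGroup.xa 0))⁻¹ =
      (ψ (QuaternionGroup.a 1))⁻¹
    rw [← map_inv, ← map_inv, ← map_mul, ← map_mul]
    congr 1
    rw [mul_inv_eq_iff_eq_mul, eq_inv_mul_iff_mul_eq, QuaternionGroup.xa_mul_a,
      QuaternionGroup.a_mul_xa, zero_add, sub_self]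
  · have h0 : ψ (QuaternionGroup.a 1) * ψ (QuaternionGroup.a 1) = 1 := congrArg Subtype.val h
    rw [← map_mul] at h0
    have h1 := hψ h0
    rw [sq, QuaternionGroup.a_mul_a, QuaternionGroup.a_mul_a] at h1
    have h2 := QuaternionGroup.a.inj (h1.trans QuaternionGroup.one_def)
    rw [show ((1 : ZMod (2 * 2 ^ k)) + 1 + (1 + 1)) = ((4 : ℕ) : ZMod (2 * 2 ^ k)) by push_cast; norm_num,
      ZMod.natCast_eq_zero_iff] at h2
    have := Nat.le_of_dvd (by norm_num) h2
    have : 2 ^ 2 ≤ 2 ^ k := Nat.pow_le_pow_right two_pos hk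
    omega
  · obtain ⟨A, hA, hAs⟩ := hmap.ge s.2
    have hs : (s : PSL₂) = ψ (e ⟨A, hA⟩) := by
      rw [← hAs]
      show _ = π ((e.symm (e ⟨A, hA⟩) : (P : Subgroup SL(2, F))) : SL(2, F))
      rw [e.symm_apply_apply]
    rcases hq : e ⟨A, hA⟩ with i | i
    · refine ⟨i.val, Or.inl (Subtype.ext ?_)⟩
      rw [hcpow, ZMod.natCast_zmod_val, hs, hq]
    · refine ⟨i.val, Or.inr (Subtype.ext ?_)⟩
      rw [Subgroup.coe_mul, hcpow, ZMod.natCast_zmod_val, hs, hq]
      show ψ _ = ψ _ * ψ _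
      rw [← map_mul, QuaternionGroup.xa_mul_a, zero_add]

/-- Let F be a finite field of odd order q with q² ≡ 1 mod 16 (so that a Sylow 2-subgroup of PSL(2,q), dihedral of order the 2-part of (q²−1)/2, has order at least 8). Then the 2-fusion system of PSL(2,F) on a Sylow 2-subgroup is simple: saturated, over a nontrivial 2-group, with no normal subsystem other than the trivial one and itself. -/
theorem result {F : Type*} [Field F] [Fintype F] (hodd : Fintype.card F % 2 = 1) (h16 : 16 ∣ Fintype.card F ^ 2 - 1)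
    (S : Sylow 2 (Matrix.ProjectiveSpecialLinearGroup (Fin 2) F)) :
    (Cfsg.groupFusionSystem (S : Subgroup (Matrix.ProjectiveSpecialLinearGroup (Fin 2) F))).IsSimple 2 := by
  haveI : Fact (Nat.Prime 2) := ⟨Nat.prime_two⟩
  rw [← Nat.card_eq_fintype_card] at hodd h16
  have ho : Odd (Nat.card F) := Nat.odd_iff.2 hodd
  have h2 := PSL2Proj52.two_ne_of_odd ho
  obtain ⟨x, c, hx1, hx, hxc1, hxc, hc, hgen⟩ := sylow_dihedral ho h16 S
  exact isSimple_of_dihedral S hx1 hx hxc1 hxc hc hgen fun g h => isConj_involution h2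

end Cfsg.Agent.S5317
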