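import Cfsg.Statements.S5318
import Cfsg.Agent.Lib.FusionSimpleCrit
import Cfsg.Agent.Lib.PSLCard

set_option autoImplicit false
open Cfsg

namespace Cfsg.Agent.S5318

open Matrix Cfsg.Agent.FusionSimpleCrit
open scoped MatrixGroups

variable {F : Type*} [Field F]

local notation "M2" => Matrix (Fin 2) (Fin 2) F
local notation "G2" => GL (Fin 2) F
local notation "S3" => SpecialLinearGroup (Fin 3) F

theorem ext2 {A B : GL (Fin 2) F} (h00 : A.1 0 0 = B.1 0 0) (h01 : A.1 0 1 = B.1 0 1)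
    (h10 : A.1 1 0 = B.1 1 0) (h11 : A.1 1 1 = B.1 1 1) : A = B := by
  refine Units.ext ?_
  ext i j
  fin_cases i <;> fin_cases j <;> assumption

/-- A matrix `[[a, b], [c, d]]` with nonzero determinant, as a unit. -/
noncomputable def mk2 (a b c d : F) (h : a * d - b * c ≠ 0) : GL (Fin 2) F :=
  GeneralLinearGroup.mkOfDetNeZero !![a, b; c, d] (by rwa [Matrix.det_fin_two_of])

@[simp] theorem mk2_val (a b c d : F) (h : a * d - b * c ≠ 0) :
    (mk2 a b c d h).1 = !![a, b; c, d] := rfl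

@[simp] theorem mul00 (A B : G2) : (A * B).1 0 0 = A.1 0 0 * B.1 0 0 + A.1 0 1 * B.1 1 0 := by
  rw [Units.val_mul, Matrix.mul_apply, Fin.sum_univ_two]
@[simp] theorem mul01 (A B : G2) : (A * B).1 0 1 = A.1 0 0 * B.1 0 1 + A.1 0 1 * B.1 1 1 := by
  rw [Units.val_mul, Matrix.mul_apply, Fin.sum_univ_two]
@[simp] theorem mul10 (A B : G2) : (A * B).1 1 0 = A.1 1 0 * B.1 0 0 + A.1 1 1 * B.1 1 0 := by
  rw [Units.val_mul, Matrix.mul_apply, Fin.sum_univ_two]
@[simp] theorem mul11 (A B : G2) : (A * B).1 1 1 = A.1 1 0 * B.1 0 1 + A.1 1 1 * B.1 1 1 := by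
  rw [Units.val_mul, Matrix.mul_apply, Fin.sum_univ_two]

theorem mul3 (A B : S3) (i j : Fin 3) :
    (A * B).1 i j = A.1 i 0 * B.1 0 j + A.1 i 1 * B.1 1 j + A.1 i 2 * B.1 2 j := by
  show (A.1 * B.1) i j = _
  rw [Matrix.mul_apply, Fin.sum_univ_three]

theorem one3 : (1 : S3).1 = 1 := rfl

theorem det_ne (A : G2) : A.1 0 0 * A.1 1 1 - A.1 0 1 * A.1 1 0 ≠ 0 := by
  have := GeneralLinearGroup.det_ne_zero A
  rwa [Matrix.det_fin_two] at this

/-- The block embedding of `GL₂` into `SL₃`. -/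
noncomputable def psi : GL (Fin 2) F →* SpecialLinearGroup (Fin 3) F where
  toFun A := ⟨!![A.1 0 0, A.1 0 1, 0; A.1 1 0, A.1 1 1, 0; 0, 0, (A.1.det)⁻¹], by
    have := det_ne A
    rw [Matrix.det_fin_three, Matrix.det_fin_two]
    simp
    field_simp⟩
  map_one' := by
    refine Subtype.ext ?_
    ext i j
    fin_cases i <;> fin_cases j <;> simp
  map_mul' A B := by
    refine Subtype.ext ?_
    show _ = (!![A.1 0 0, A.1 0 1, 0; A.1 1 0, A.1 1 1, 0; 0, 0, (A.1.det)⁻¹] *
      !![B.1 0 0, B.1 0 1, 0; B.1 1 0, B.1 1 1, 0; 0, 0, (B.1.det)⁻¹] : Matrix (Fin 3) (Fin 3) F)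
    ext i j
    fin_cases i <;> fin_cases j <;>
      simp [Matrix.SpecialLinearGroup.coe_mul, Matrix.mul_apply, Fin.sum_univ_three, Matrix.det_mul,
        mul_comm]

theorem psi_val (A : G2) : (psi A : S3).1 =
    !![A.1 0 0, A.1 0 1, 0; A.1 1 0, A.1 1 1, 0; 0, 0, (A.1.det)⁻¹] := rfl

theorem psi_injective : Function.Injective (psi : G2 →* S3) := by
  intro A B h
  have := congrArg Subtype.val h
  exact ext2 (congrFun (congrFun this 0) 0) (congrFun (congrFun this 0) 1)
    (congrFun (congrFun this 1) 0) (congrFun (congrFun this 1) 1)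

/-- `diag(1, -1)`. -/
noncomputable def sM : GL (Fin 2) F := mk2 1 0 0 (-1) (by simp)

/-- `-1`. -/
noncomputable def nM : GL (Fin 2) F := mk2 (-1) 0 0 (-1) (by simp)

theorem sM_sq : (sM : G2) * sM = 1 := ext2 (by simp [sM]) (by simp [sM]) (by simp [sM]) (by simp [sM])

theorem nM_sq : (nM : G2) * nM = 1 := ext2 (by simp [nM]) (by simp [nM]) (by simp [nM]) (by simp [nM])

theorem nM_comm (A : G2) : A * nM = nM * A :=
  ext2 (by simp [nM]) (by simp [nM]) (by simp [nM]) (by simp [nM])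

/-- The torus `[[a, -b], [b, a]]`. -/
def Rot (A : GL (Fin 2) F) : Prop := A.1 0 0 = A.1 1 1 ∧ A.1 1 0 = -A.1 0 1

theorem rot_one : Rot (1 : G2) := by simp [Rot]

theorem Rot.mul {A B : G2} (hA : Rot A) (hB : Rot B) : Rot (A * B) := by
  obtain ⟨a1, a2⟩ := hA
  obtain ⟨b1, b2⟩ := hB
  constructor <;> simp only [mul00, mul01, mul10, mul11, a1, a2, b1, b2] <;> ring

theorem Rot.pow {A : G2} (hA : Rot A) : ∀ m : ℕ, Rot (A ^ m)
  | 0 => by rw [pow_zero]; exact rot_one
  | m + 1 => by rw [pow_succ]; exact (hA.pow m).mul hA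

theorem Rot.comm {A B : G2} (hA : Rot A) (hB : Rot B) : A * B = B * A := by
  obtain ⟨a1, a2⟩ := hA
  obtain ⟨b1, b2⟩ := hB
  refine ext2 ?_ ?_ ?_ ?_ <;> simp only [mul00, mul01, mul10, mul11, a1, a2, b1, b2] <;> ring

theorem Rot.conj_sM {A : G2} (hA : Rot A) : Rot (sM * A * sM) := by
  obtain ⟨a1, a2⟩ := hA
  constructor <;> simp [sM, a1, a2]

theorem not_rot_sM (h2 : (2 : F) ≠ 0) : ¬ Rot (sM : G2) := fun h =>
  h2 (by have := h.1; simp [sM] at this; linear_combination this)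

theorem rot_of_comm {c A : G2} (hc : Rot c) (hb : c.1 0 1 ≠ 0) (h : A * c = c * A) : Rot A := by
  obtain ⟨c1, c2⟩ := hc
  have e0 := congrArg (fun X : G2 => X.1 0 0) h
  have e1 := congrArg (fun X : G2 => X.1 0 1) h
  simp only [mul00, mul01, c1, c2] at e0 e1
  exact ⟨mul_right_cancel₀ hb (by linear_combination e1), mul_right_cancel₀ hb (by linear_combination -e0)⟩

variable [Finite F]

/-- The `2`-part of the torus. -/
def D (F : Type*) [Field F] [Finite F] : Subgroup (GL (Fin 2) F) where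
  carrier := {A | Rot A ∧ ∃ e : ℕ, A ^ 2 ^ e = 1}
  one_mem' := ⟨rot_one, 0, by simp⟩
  mul_mem' := fun {A B} ha hb => by
    obtain ⟨hA, e, he⟩ := ha
    obtain ⟨hB, f, hf⟩ := hb
    refine ⟨hA.mul hB, e + f, ?_⟩
    rw [Commute.mul_pow (hA.comm hB), pow_add, pow_mul, he, one_pow, mul_comm (2 ^ e), pow_mul, hf,
      one_pow, one_mul]
  inv_mem' := fun {A} ha => by
    obtain ⟨hA, e, he⟩ := ha
    have hfin : IsOfFinOrder A := isOfFinOrder_of_finite A
    refine ⟨?_, e, by rw [inv_pow, he, inv_one]⟩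
    rw [inv_eq_of_mul_eq_one_left (a := A ^ (orderOf A - 1)) (by
      rw [← pow_succ, Nat.sub_add_cancel hfin.orderOf_pos, pow_orderOf_eq_one])]
    exact hA.pow _

theorem mem_D {A : G2} : A ∈ D F ↔ Rot A ∧ ∃ e : ℕ, A ^ 2 ^ e = 1 := Iff.rfl

theorem D_conj {A : G2} (h : A ∈ D F) : sM * A * sM ∈ D F := by
  obtain ⟨hA, e, he⟩ := h
  refine ⟨hA.conj_sM, e, ?_⟩
  conv_lhs => rw [show sM * A * sM = sM * A * sM⁻¹ by rw [inv_eq_of_mul_eq_one_right sM_sq]]
  rw [conj_pow, he, mul_one, mul_inv_cancel]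

/-- A Sylow `2`-subgroup of `GL₂`. -/
def P (F : Type*) [Field F] [Finite F] : Subgroup (GL (Fin 2) F) where
  carrier := {x | x ∈ D F ∨ sM * x ∈ D F}
  one_mem' := Or.inl (one_mem _)
  mul_mem' := fun {x y} hx hy => by
    rcases hx with hx | hx <;> rcases hy with hy | hy
    · exact Or.inl (mul_mem hx hy)
    · refine Or.inr ?_
      rw [show sM * (x * y) = (sM * x * sM) * (sM * y) by
        simp only [mul_assoc]; rw [← mul_assoc sM sM, sM_sq, one_mul]]
      exact mul_mem (D_conj hx) hy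
    · exact Or.inr (by rw [← mul_assoc]; exact mul_mem hx hy)
    · refine Or.inl ?_
      rw [show x * y = (sM * (sM * x) * sM) * (sM * y) by
        simp only [mul_assoc]; rw [← mul_assoc sM sM, sM_sq, one_mul, ← mul_assoc sM sM, sM_sq,
          one_mul]]
      exact mul_mem (D_conj hx) hy
  inv_mem' := fun {x} hx => by
    rcases hx with hx | hx
    · exact Or.inl (inv_mem hx)
    · refine Or.inr ?_
      have := D_conj (inv_mem hx)
      rwa [_root_.mul_inv_rev, inv_eq_of_mul_eq_one_right sM_sq, mul_assoc, mul_assoc, sM_sq, mul_one]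
        at this

theorem mem_P {x : G2} : x ∈ P F ↔ x ∈ D F ∨ sM * x ∈ D F := Iff.rfl

theorem sM_mem_P : (sM : G2) ∈ P F := Or.inr (by rw [sM_sq]; exact one_mem _)

theorem nM_mem_P : (nM : G2) ∈ P F :=
  Or.inl ⟨by simp [Rot, nM], 1, by rw [pow_one, pow_two, nM_sq]⟩

theorem isPGroup_P : IsPGroup 2 (P F) := by
  rintro ⟨x, hx⟩
  suffices ∃ e : ℕ, x ^ 2 ^ e = 1 by
    obtain ⟨e, he⟩ := this
    exact ⟨e, Subtype.ext he⟩
  rcases hx with hx | hx
  · exact hx.2
  · have h := mul_mem (D_conj hx) hx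
    rw [show sM * (sM * x) * sM * (sM * x) = x * x by
      rw [← mul_assoc sM sM, sM_sq, one_mul, mul_assoc x, ← mul_assoc sM sM, sM_sq, one_mul]] at h
    obtain ⟨e, he⟩ := h.2
    exact ⟨e + 1, by rw [pow_succ', pow_mul, pow_two, he]⟩

/-- The conjugate of a torus element. -/
theorem conj_sM_entries {A : G2} :
    (sM * A * sM).1 0 0 = A.1 0 0 ∧ (sM * A * sM).1 0 1 = -A.1 0 1 ∧
    (sM * A * sM).1 1 0 = -A.1 1 0 ∧ (sM * A * sM).1 1 1 = A.1 1 1 := by
  simp [sM]

/-- A torus element of `2`-power order with nonscalar square. -/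
theorem exists_c (h2 : (2 : F) ≠ 0) :
    ∃ c : G2, c ∈ D F ∧ c.1 0 1 ≠ 0 ∧ (c * c).1 0 1 ≠ 0 := by
  let c : G2 := mk2 1 (-1) 1 1 (by ring_nf; exact h2)
  have hc : Rot c := by simp [c, Rot]
  obtain ⟨k, m, hm, he⟩ := Nat.exists_eq_two_pow_mul_odd (orderOf_pos c).ne'
  have h4 : ∀ l : ℕ, ((c ^ 4) ^ l).1 0 0 = (-4) ^ l ∧ ((c ^ 4) ^ l).1 0 1 = 0 := by
    intro l
    induction l with
    | zero => simp
    | succ l ih =>
      have e : c ^ 4 = c * c * (c * c) := by simp only [pow_succ, pow_zero, one_mul, mul_assoc]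
      rw [pow_succ, mul00, mul01, ih.1, ih.2, e]
      constructor
      · simp [c, pow_succ]; ring
      · simp [c]
  obtain ⟨l, rfl⟩ := hm
  have hne : ((c ^ (2 * l + 1)) * (c ^ (2 * l + 1))).1 0 1 ≠ 0 := by
    rw [← pow_add, show 2 * l + 1 + (2 * l + 1) = 4 * l + 2 by ring, pow_add, pow_mul, mul01,
      (h4 l).1, (h4 l).2, pow_two]
    simp only [zero_mul, add_zero]
    refine mul_ne_zero (pow_ne_zero _ (neg_ne_zero.2 ?_)) ?_
    · rw [show (4 : F) = 2 * 2 by norm_num]; exact mul_ne_zero h2 h2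
    · simp [c]
      intro h
      exact h2 (by linear_combination -h)
  refine ⟨c ^ (2 * l + 1), ⟨hc.pow _, k, ?_⟩, fun h0 => hne ?_, hne⟩
  · rw [← pow_mul, mul_comm, ← he, pow_orderOf_eq_one]
  · rw [mul01, (hc.pow (2 * l + 1)).1.symm, h0]
    ring

/-- The normaliser of `P` lies in the normaliser of the torus. -/
theorem rot_of_normalizes (h2 : (2 : F) ≠ 0) {y : G2} (hy : ∀ x ∈ P F, y * x * y⁻¹ ∈ P F) :
    Rot y ∨ Rot (sM * y) := by
  obtain ⟨c, hcD, hb, hne⟩ := exists_c h2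
  have hc := hcD.1
  set x := y * c * y⁻¹ with hx
  have hxP : x ∈ P F := hy c (Or.inl hcD)
  have hxy : x * y = y * c := by rw [hx, inv_mul_cancel_right]
  have hxr : Rot x := by
    rcases hxP with h | h
    · exact h.1
    · exfalso
      obtain ⟨h1, h2'⟩ := h.1
      simp [sM] at h1 h2'
      have hyy : x * x * y = y * (c * c) := by
        rw [mul_assoc, hxy, ← mul_assoc, hxy, mul_assoc]
      have e0 := congrArg (fun X : G2 => X.1 0 0) hyy
      have e1 := congrArg (fun X : G2 => X.1 0 1) hyy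
      have e2 := congrArg (fun X : G2 => X.1 1 0) hyy
      have e3 := congrArg (fun X : G2 => X.1 1 1) hyy
      simp only [mul00, mul01, mul10, mul11, hc.1, hc.2, h1, h2'] at e0 e1 e2 e3 hne
      apply hne
      have hdet := det_ne y
      refine (mul_eq_zero.1 ?_).resolve_left hdet
      linear_combination y.1 0 1 * e3 - y.1 1 1 * e1
  -- same trace and determinant
  have e0 := congrArg (fun X : G2 => X.1 0 0) hxy
  have e1 := congrArg (fun X : G2 => X.1 0 1) hxy
  have e2 := congrArg (fun X : G2 => X.1 1 0) hxy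
  have e3 := congrArg (fun X : G2 => X.1 1 1) hxy
  obtain ⟨x1, x2⟩ := hxr
  simp only [mul00, mul01, mul10, mul11, hc.1, hc.2, x1, x2] at e0 e1 e2 e3
  have hdet := det_ne y
  have htr : x.1 1 1 = c.1 1 1 := by
    refine mul_left_cancel₀ h2 (mul_left_cancel₀ hdet ?_)
    linear_combination y.1 1 1 * e0 - y.1 1 0 * e1 - y.1 0 1 * e2 + y.1 0 0 * e3
  have hsq : x.1 0 1 ^ 2 = c.1 0 1 ^ 2 := by
    have := congrArg (fun X : G2 => X.1.det) hxy
    simp only [Units.val_mul, Matrix.det_mul] at this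
    have hd : x.1.det = c.1.det :=
      mul_right_cancel₀ (GeneralLinearGroup.det_ne_zero y) (this.trans (mul_comm _ _))
    rw [Matrix.det_fin_two, Matrix.det_fin_two, x1, x2, hc.1, hc.2, htr] at hd
    linear_combination hd
  rcases sq_eq_sq_iff_eq_or_eq_neg.1 hsq with h | h
  · refine Or.inl (rot_of_comm hc hb ?_)
    rw [← hxy]
    congr 1
    exact ext2 (by rw [x1, htr, hc.1]) h (by rw [x2, h, hc.2]) htr
  · refine Or.inr (rot_of_comm hc hb ?_)
    obtain ⟨s0, s1, s2, s3⟩ := conj_sM_entries (A := c)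
    have hxs : x = sM * c * sM :=
      ext2 (by rw [x1, htr, s0, hc.1]) (by rw [h, s1]) (by rw [x2, h, s2, hc.2]) (by rw [htr, s3])
    rw [mul_assoc, ← hxy, hxs]
    simp only [mul_assoc]
    rw [← mul_assoc sM sM, sM_sq, one_mul]

theorem conj_quot_mem (h2 : (2 : F) ≠ 0) {t : G2} (ht : Rot t)
    (hy : ∀ x ∈ P F, t * x * t⁻¹ ∈ P F) : sM * t * sM * t⁻¹ ∈ D F := by
  rcases hy sM sM_mem_P with h | h
  · exfalso
    refine not_rot_sM h2 ?_
    have h1 := h.1
    have : t * sM * t⁻¹ * t = t * sM := by group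
    rw [h1.comm ht] at this
    rwa [← mul_left_cancel this]
  · simpa [mul_assoc] using h

/-- `P` is a Sylow `2`-subgroup of `GL₂`. -/
theorem maximal_P (h2 : (2 : F) ≠ 0) {Q : Subgroup G2} (hQ : IsPGroup 2 Q) (hle : P F ≤ Q) :
    Q = P F := by
  by_contra hne
  have : Fact (Nat.Prime 2) := ⟨Nat.prime_two⟩
  have hnil := hQ.isNilpotent
  have hlt : (P F).subgroupOf Q < ⊤ := by
    rw [lt_top_iff_ne_top, Ne, Subgroup.subgroupOf_eq_top]
    exact fun h => hne (le_antisymm h hle)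
  obtain ⟨y, hyn, hyP⟩ := SetLike.exists_of_lt (Group.normalizerCondition_of_isNilpotent _ hlt)
  have hy : ∀ x ∈ P F, y.1 * x * y.1⁻¹ ∈ P F := fun x hx =>
    (Subgroup.mem_normalizer_iff.1 hyn ⟨x, hle hx⟩).1 hx
  obtain ⟨e, he⟩ := hQ y
  have he' : y.1 ^ 2 ^ e = 1 := congrArg Subtype.val he
  apply hyP
  rw [Subgroup.mem_subgroupOf]
  rcases rot_of_normalizes h2 hy with hr | hr
  · exact Or.inl ⟨hr, e, he'⟩
  · set t := sM * y.1 with ht
    have hyt : y.1 = sM * t := by rw [ht, ← mul_assoc, sM_sq, one_mul]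
    have hyn' : ∀ x ∈ P F, t * x * t⁻¹ ∈ P F := fun x hx => by
      rw [ht, _root_.mul_inv_rev, mul_assoc sM, mul_assoc sM, ← mul_assoc (y.1 * x)]
      exact mul_mem sM_mem_P (mul_mem (hy x hx) ((P F).inv_mem sM_mem_P))
    obtain ⟨hur, f, hf⟩ := conj_quot_mem h2 hr hyn'
    set u := sM * t * sM * t⁻¹ with hu
    have hyy : y.1 * y.1 = u * (t * t) := by
      rw [hyt, hu]
      simp only [mul_assoc, inv_mul_cancel_left]
    refine Or.inr ?_
    rw [← ht]
    refine ⟨hr, e + f + 1, ?_⟩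
    have h1 : (y.1 * y.1) ^ 2 ^ (e + f) = 1 := by
      rw [← pow_two, pow_add, ← pow_mul, ← mul_assoc, mul_comm 2, mul_assoc, pow_mul, he', one_pow]
    rw [hyy, Commute.mul_pow (hur.comm (hr.mul hr)), pow_add, mul_comm (2 ^ e), pow_mul u, hf,
      one_pow, one_mul] at h1
    rw [pow_succ', pow_mul, pow_two, pow_add, mul_comm]
    exact h1

/-- The normaliser of `P` is `P` times its centraliser. -/
theorem normalizer_P (h2 : (2 : F) ≠ 0) {y : G2} (hy : ∀ x ∈ P F, y * x * y⁻¹ ∈ P F) :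
    y ∈ Subgroup.closure ((P F : Set G2) ∪ Subgroup.centralizer (P F : Set G2)) := by
  set H := Subgroup.closure ((P F : Set G2) ∪ Subgroup.centralizer (P F : Set G2))
  have hPH : P F ≤ H := fun x hx => Subgroup.subset_closure (Or.inl hx)
  suffices ∀ t : G2, Rot t → (∀ x ∈ P F, t * x * t⁻¹ ∈ P F) → t ∈ H by
    rcases rot_of_normalizes h2 hy with hr | hr
    · exact this y hr hy
    · have h := this _ hr fun x hx => by
        rw [_root_.mul_inv_rev, mul_assoc sM, mul_assoc sM, ← mul_assoc (y * x)]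
        exact mul_mem sM_mem_P (mul_mem (hy x hx) ((P F).inv_mem sM_mem_P))
      rw [show y = sM * (sM * y) by rw [← mul_assoc, sM_sq, one_mul]]
      exact mul_mem (hPH sM_mem_P) h
  intro t ht htn
  obtain ⟨hur, f, hf⟩ := conj_quot_mem h2 ht htn
  set u := sM * t * sM * t⁻¹ with hu
  have hc : t ^ 2 ^ f ∈ H := by
    refine Subgroup.subset_closure (Or.inr (Subgroup.mem_centralizer_iff.2 fun x hx => ?_))
    have hs : sM * t ^ 2 ^ f * sM⁻¹ = t ^ 2 ^ f := by
      rw [← conj_pow, inv_eq_of_mul_eq_one_right sM_sq,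
        show sM * t * sM = u * t by rw [hu, inv_mul_cancel_right],
        Commute.mul_pow (hur.comm ht), hf, one_mul]
    rcases hx with hx | hx
    · exact hx.1.comm (ht.pow _)
    · rw [show x = sM * (sM * x) by rw [← mul_assoc, sM_sq, one_mul], mul_assoc,
        hx.1.comm (ht.pow _), ← mul_assoc, ← mul_assoc (t ^ 2 ^ f)]
      congr 1
      exact mul_inv_eq_iff_eq_mul.1 hs
  obtain ⟨k, m, hm, he⟩ := Nat.exists_eq_two_pow_mul_odd (orderOf_pos t).ne'
  have hd : t ^ m ∈ H := hPH (Or.inl ⟨ht.pow m, k, by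
    rw [← pow_mul, mul_comm, ← he, pow_orderOf_eq_one]⟩)
  have hg : Nat.gcd (2 ^ f) m = 1 :=
    (Nat.coprime_two_left.2 hm).pow_left f
  have hbz := Nat.gcd_eq_gcd_ab (2 ^ f) m
  rw [hg] at hbz
  rw [show t = (t ^ 2 ^ f) ^ Nat.gcdA (2 ^ f) m * (t ^ m) ^ Nat.gcdB (2 ^ f) m by
    rw [← zpow_natCast t (2 ^ f), ← zpow_natCast t m, ← _root_.zpow_mul, ← _root_.zpow_mul, ← _root_.zpow_add, ← hbz]
    simp]
  exact mul_mem (H.zpow_mem hc _) (H.zpow_mem hd _)

/-- The only central involution of `P` is `-1`. -/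
theorem central_invol (h2 : (2 : F) ≠ 0) {B : G2}
    (hc : ∀ x ∈ P F, x * B = B * x) (hB : B * B = 1) : B = 1 ∨ B = nM := by
  obtain ⟨c, hcD, hb, -⟩ := exists_c h2
  obtain ⟨r1, r2⟩ := rot_of_comm hcD.1 hb (hc c (Or.inl hcD)).symm
  have e := congrArg (fun X : G2 => X.1 0 1) (hc sM sM_mem_P)
  simp [sM] at e
  have hb0 : B.1 0 1 = 0 :=
    (mul_eq_zero.1 (show (2 : F) * B.1 0 1 = 0 by linear_combination e)).resolve_left h2
  have e' := congrArg (fun X : G2 => X.1 0 0) hB
  simp [r1, r2, hb0] at e'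
  rcases mul_self_eq_one_iff.1 e' with h | h
  · exact Or.inl (ext2 (by simp [r1, h]) (by simp [hb0]) (by simp [r2, hb0]) (by simp [h]))
  · exact Or.inr (ext2 (by simp [nM, r1, h]) (by simp [nM, hb0]) (by simp [nM, r2, hb0])
      (by simp [nM, h]))

omit [Finite F] in
/-- A noncentral involution is conjugate to `diag(1, -1)`. -/
theorem invol_conj (h2 : (2 : F) ≠ 0) {B : G2} (hB : B * B = 1) (h1 : B ≠ 1) (hn : B ≠ nM) :
    ∃ g : G2, B * g = g * sM := by
  have e0 := congrArg (fun X : G2 => X.1 0 0) hB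
  have e1 := congrArg (fun X : G2 => X.1 0 1) hB
  have e2 := congrArg (fun X : G2 => X.1 1 0) hB
  have e3 := congrArg (fun X : G2 => X.1 1 1) hB
  simp at e0 e1 e2 e3
  have htr : B.1 1 1 = -B.1 0 0 := by
    by_contra h
    have hne : B.1 0 0 + B.1 1 1 ≠ 0 := fun h' => h (eq_neg_of_add_eq_zero_right h')
    have hb : B.1 0 1 = 0 :=
      (mul_eq_zero.1 (show (B.1 0 0 + B.1 1 1) * B.1 0 1 = 0 by linear_combination e1)).resolve_left hne
    have hc : B.1 1 0 = 0 :=
      (mul_eq_zero.1 (show (B.1 0 0 + B.1 1 1) * B.1 1 0 = 0 by linear_combination e2)).resolve_left hne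
    simp [hb, hc] at e0 e3
    rcases mul_self_eq_one_iff.1 e0 with a | a <;> rcases mul_self_eq_one_iff.1 e3 with d | d
    · exact h1 (ext2 (by simp [a]) (by simp [hb]) (by simp [hc]) (by simp [d]))
    · exact h (by rw [a, d])
    · exact h (by rw [a, d, neg_neg])
    · exact hn (ext2 (by simp [nM, a]) (by simp [nM, hb]) (by simp [nM, hc]) (by simp [nM, d]))
  rw [htr] at e1 e2 e3
  by_cases hb : B.1 0 1 = 0
  · simp [hb] at e0
    rcases mul_self_eq_one_iff.1 e0 with a | a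
    · exact ⟨mk2 2 0 (B.1 1 0) 1 (by simpa using h2),
        ext2 (by simp [sM, a, hb]) (by simp [sM, hb]) (by simp [sM, htr, a]; ring)
          (by simp [sM, htr, a])⟩
    · exact ⟨mk2 0 2 1 (-B.1 1 0) (by simpa using h2),
        ext2 (by simp [sM, hb]) (by simp [sM, a, hb]) (by simp [sM, htr, a])
          (by simp [sM, htr, a]; ring)⟩
  · refine ⟨mk2 (B.1 0 1) (B.1 0 1) (1 - B.1 0 0) (-1 - B.1 0 0) (by
      rw [show B.1 0 1 * (-1 - B.1 0 0) - B.1 0 1 * (1 - B.1 0 0) = -(2 * B.1 0 1) by ring]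
      exact neg_ne_zero.2 (mul_ne_zero h2 hb)),
      ext2 (by simp [sM]; ring) (by simp [sM]; ring) ?_ ?_⟩
    · simp [sM, htr]; linear_combination e0
    · simp [sM, htr]; linear_combination e0

omit [Finite F] in
/-- Every element of `SL₂` is a product of two involutions of `GL₂`. -/
theorem exists_tau {x : G2} (hx : x.1.det = 1) :
    ∃ u v : G2, u * u = 1 ∧ v * v = 1 ∧ x = u * v := by
  rw [Matrix.det_fin_two] at hx
  have key : ∀ u : G2, u * u = 1 → u.1 1 1 = -u.1 0 0 →
      u.1 0 0 * (x.1 0 0 - x.1 1 1) + u.1 0 1 * x.1 1 0 + u.1 1 0 * x.1 0 1 = 0 →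
      ∃ u v : G2, u * u = 1 ∧ v * v = 1 ∧ x = u * v := by
    intro u hu ht htr
    refine ⟨u, u * x, hu, ?_, by rw [← mul_assoc, hu, one_mul]⟩
    have e := congrArg (fun X : G2 => X.1 0 0) hu
    simp [ht] at e
    refine ext2 ?_ ?_ ?_ ?_ <;> simp [ht]
    · linear_combination (u.1 0 0 * x.1 0 0 + u.1 0 1 * x.1 1 0) * htr +
        (x.1 0 0 * x.1 1 1 - x.1 0 1 * x.1 1 0) * e + hx
    · linear_combination (u.1 0 0 * x.1 0 1 + u.1 0 1 * x.1 1 1) * htr
    · linear_combination (u.1 1 0 * x.1 0 0 - u.1 0 0 * x.1 1 0) * htr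
    · linear_combination (u.1 1 0 * x.1 0 1 - u.1 0 0 * x.1 1 1) * htr +
        (x.1 0 0 * x.1 1 1 - x.1 0 1 * x.1 1 0) * e + hx
  by_cases hb : x.1 0 1 = 0
  · by_cases hc : x.1 1 0 = 0
    · exact key (mk2 0 1 1 0 (by simp)) (ext2 (by simp) (by simp) (by simp) (by simp)) (by simp)
        (by simp [hb, hc])
    · exact key (mk2 1 (-(x.1 0 0 - x.1 1 1) / x.1 1 0) 0 (-1) (by simp))
        (ext2 (by simp) (by simp) (by simp) (by simp)) (by simp) (by simp [hb, hc])
  · exact key (mk2 1 0 (-(x.1 0 0 - x.1 1 1) / x.1 0 1) (-1) (by simp))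
      (ext2 (by simp) (by simp) (by simp) (by simp)) (by simp) (by simp [hb])

/-- An element of `P` with given determinant which is a product of two involutions in `SL₃`. -/
theorem exists_det (h2 : (2 : F) ≠ 0) {x : G2} (hx : x ∈ P F) :
    ∃ e ∈ P F, e.1.det = x.1.det ∧ ∃ u v : S3, u * u = 1 ∧ v * v = 1 ∧ psi e = u * v := by
  set δ := x.1.det with hδ
  by_cases h1 : δ = 1
  · exact ⟨1, one_mem _, by simp [h1], 1, 1, by simp, by simp, by simp⟩
  by_cases hm1 : δ = -1
  · exact ⟨sM, sM_mem_P, by simp [sM, hm1, Matrix.det_fin_two], psi sM, 1,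
      by rw [← map_mul, sM_sq, map_one], by simp, by simp⟩
  obtain ⟨k, hk⟩ : ∃ k : ℕ, δ ^ 2 ^ k = 1 := by
    obtain ⟨k, hk⟩ := isPGroup_P (F := F) ⟨x, hx⟩
    refine ⟨k, ?_⟩
    have := congrArg (fun X : G2 => X.1.det) (congrArg Subtype.val hk)
    simpa [Units.val_pow_eq_pow_val, hδ] using this
  obtain ⟨i, hi⟩ : ∃ i : F, i ^ 2 = -1 := by
    clear_value δ
    clear hδ
    induction k generalizing δ with
    | zero => simp at hk; exact absurd hk h1
    | succ k ih =>
      rw [pow_succ', pow_mul] at hk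
      by_cases a : δ ^ 2 = -1
      · exact ⟨δ, a⟩
      · refine ih (δ ^ 2) (fun h => ?_) a hk
        rcases sq_eq_one_iff.1 h with h | h
        · exact h1 h
        · exact hm1 h
  have hi0 : i ≠ 0 := by rintro rfl; simp at hi
  have hδ0 : δ ≠ 0 := GeneralLinearGroup.det_ne_zero x
  set a := (δ + 1) / 2 with ha
  set b := (δ - 1) / (2 * i) with hb
  have hab : a * a - -b * b = δ := by
    rw [ha, hb]; field_simp
    linear_combination ((δ + 1) ^ 2 - 4 * δ) * hi
  let e : G2 := mk2 a (-b) b a (by rw [hab]; exact hδ0)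
  let K : G2 := mk2 1 1 (-i) i (by
    rw [show 1 * i - 1 * -i = 2 * i by ring]; exact mul_ne_zero h2 hi0)
  let d : G2 := mk2 δ 0 0 1 (by simpa using hδ0)
  have hK : e * K = K * d := by
    have hib : i * b * 2 = δ - 1 := by rw [hb]; field_simp
    have ha2 : a * 2 = δ + 1 := by rw [ha]; field_simp
    refine ext2 ?_ ?_ ?_ ?_ <;> simp [e, K, d]
    · refine mul_right_cancel₀ h2 ?_; linear_combination ha2 + hib
    · refine mul_right_cancel₀ h2 ?_; linear_combination ha2 - hib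
    · refine mul_right_cancel₀ (mul_ne_zero h2 hi0) ?_
      linear_combination hib - i * i * ha2 + (-(δ + 1) + δ * 2) * hi
    · refine mul_right_cancel₀ (mul_ne_zero h2 hi0) ?_
      linear_combination hib + i * i * ha2 + (δ + 1 - 2) * hi
  have hd : ∀ m : ℕ, (d ^ m).1 = !![δ ^ m, 0; 0, 1] := by
    intro m
    induction m with
    | zero => simp [Matrix.one_fin_two]
    | succ m ih =>
      rw [pow_succ, Units.val_mul, ih]
      simp [d, pow_succ]
  have he : e = K * d * K⁻¹ := eq_mul_inv_of_mul_eq hK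
  refine ⟨e, Or.inl ⟨by simp [e, Rot], k, ?_⟩, ?_, ?_⟩
  · rw [he, conj_pow, show d ^ 2 ^ k = 1 from Units.ext (by rw [hd, hk, Units.val_one,
      Matrix.one_fin_two]), mul_one, mul_inv_cancel]
  · simp only [e, mk2_val, Matrix.det_fin_two_of]
    linear_combination hab
  obtain ⟨u, hu⟩ : ∃ u : S3, u.1 = !![0, 0, 1; 0, -1, 0; 1, 0, 0] :=
    ⟨⟨!![0, 0, 1; 0, -1, 0; 1, 0, 0], by simp [Matrix.det_fin_three]⟩, rfl⟩
  have huu : u * u = 1 := by
    refine Subtype.ext ?_
    ext i j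
    fin_cases i <;> fin_cases j <;> simp [hu, mul3, one3]
  have hvv : (u * psi d) * (u * psi d) = 1 := by
    refine Subtype.ext ?_
    ext i j
    fin_cases i <;> fin_cases j <;>
      simp [hu, d, psi_val, mul3, one3, Matrix.det_fin_two, hδ0]
  have hcj : ∀ w : S3, w * w = 1 → (psi K * w * (psi K)⁻¹) * (psi K * w * (psi K)⁻¹) = 1 :=
    fun w hw => by
      rw [show (psi K * w * (psi K)⁻¹) * (psi K * w * (psi K)⁻¹) =
        psi K * (w * w) * (psi K)⁻¹ by group, hw, mul_one, mul_inv_cancel]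
  refine ⟨_, _, hcj u huu, hcj _ hvv, ?_⟩
  rw [he, map_mul, map_mul, map_inv]
  calc psi K * psi d * (psi K)⁻¹ = psi K * (u * u * psi d) * (psi K)⁻¹ := by rw [huu, one_mul]
    _ = _ := by group

omit [Finite F] in
theorem center_SL3_pow {r : S3} (hr : r ∈ Subgroup.center S3) : r ^ 3 = 1 := by
  obtain ⟨c, hc, he⟩ := Matrix.SpecialLinearGroup.mem_center_iff.1 hr
  refine Subtype.ext ?_
  rw [Matrix.SpecialLinearGroup.coe_pow, ← he, ← map_pow]
  simp at hc
  rw [hc, map_one]
  rfl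

omit [Finite F] in
theorem eq_one_of_pow {H : Type*} [Group H] {r : H} {e : ℕ} (h2 : r ^ 2 ^ e = 1) (h3 : r ^ 3 = 1) :
    r = 1 := by
  rw [← orderOf_eq_one_iff]
  have hd := Nat.dvd_gcd (orderOf_dvd_of_pow_eq_one h2) (orderOf_dvd_of_pow_eq_one h3)
  rw [(Nat.Coprime.pow_left e (show Nat.Coprime 2 3 by norm_num)).gcd_eq_one] at hd
  exact Nat.dvd_one.1 hd

theorem mem_normalizer_of_conj_mem {G : Type*} [Group G] [Finite G] (H : Subgroup G) {g : G}
    (h : ∀ x ∈ H, g * x * g⁻¹ ∈ H) : g ∈ Subgroup.normalizer (H : Set G) := by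
  refine Subgroup.mem_normalizer_iff.2 fun x => ⟨h x, fun hx => ?_⟩
  have hle : H.map (MulAut.conj g).toMonoidHom ≤ H := by
    rintro _ ⟨y, hy, rfl⟩
    exact h y hy
  have he := Subgroup.eq_of_le_of_card_ge hle
    (le_of_eq (Nat.card_congr (H.equivMapOfInjective _ (MulAut.conj g).injective).toEquiv))
  have hx' : g * x * g⁻¹ ∈ H.map (MulAut.conj g).toMonoidHom := by rw [he]; exact hx
  obtain ⟨y, hy, hyx⟩ := hx'
  have : y = x := by simpa using hyx
  exact this ▸ hy

universe v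

theorem core {G : Type v} [Group G] [Finite G] (h2 : (2 : F) ≠ 0) [Fact (Nat.Prime 2)]
    (φ : S3 →* G) (hsur : Function.Surjective φ) (hker : ∀ x, φ x = 1 ↔ x ∈ Subgroup.center _)
    (S : Sylow 2 G) (hS : ((P F).map psi).map φ = (S : Subgroup G)) :
    (Cfsg.groupFusionSystem (S : Subgroup G)).IsSimple 2 := by
  classical
  let f : G2 →* G := φ.comp psi
  have hSf : (P F).map f = (S : Subgroup G) := by rw [← hS, Subgroup.map_map]
  have hmem : ∀ x ∈ P F, f x ∈ (S : Subgroup G) := fun x hx =>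
    hSf ▸ Subgroup.mem_map_of_mem f hx
  have hinj : ∀ x ∈ P F, f x = 1 → x = 1 := by
    intro x hx h
    obtain ⟨e, he⟩ := isPGroup_P (F := F) ⟨x, hx⟩
    apply psi_injective
    rw [map_one]
    refine eq_one_of_pow (e := e) ?_ (center_SL3_pow ((hker _).1 h))
    rw [← map_pow, show x ^ 2 ^ e = 1 from congrArg Subtype.val he, map_one]
  have hinj' : ∀ x ∈ P F, ∀ y ∈ P F, f x = f y → x = y := fun x hx y hy h =>
    mul_inv_eq_one.1 (hinj _ (mul_mem hx (inv_mem hy)) (by
      rw [map_mul, map_inv, h, mul_inv_cancel]))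
  have hcentral : ∀ w ∈ (S : Subgroup G), (∀ s ∈ (S : Subgroup G), s * w = w * s) → w * w = 1 →
      w = 1 ∨ w = f nM := by
    intro w hw hc hww
    rw [← hSf] at hw
    obtain ⟨B, hB, rfl⟩ := hw
    have hB2 : B * B = 1 := hinj _ (mul_mem hB hB) (by rw [map_mul, hww])
    rcases central_invol h2 (fun x hx => hinj' _ (mul_mem hx hB) _ (mul_mem hB hx)
      (by rw [map_mul, map_mul]; exact hc _ (hmem x hx))) hB2 with rfl | rfl
    · exact Or.inl (map_one f)
    · exact Or.inr rfl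
  have hn_ne : (nM : G2) ≠ 1 := fun h => by
    have := congrArg (fun X : G2 => X.1 0 0) h
    simp [nM] at this
    exact h2 (by linear_combination -this)
  apply isSimple_of_closed_gen
  · intro h
    have hm := hmem _ nM_mem_P
    rw [h, Subgroup.mem_bot] at hm
    exact hn_ne (hinj _ nM_mem_P hm)
  · intro T hT hne
    obtain ⟨z, hzT, hz1, hzS, hzc⟩ := exists_central_mem hT hne
    obtain ⟨e, he⟩ := S.2 ⟨z, hzS⟩
    have he' : z ^ 2 ^ e = 1 := congrArg Subtype.val he
    have hn : f nM ∈ T := by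
      clear he
      induction e generalizing z with
      | zero => simp at he'; exact absurd he' hz1
      | succ e ih =>
        by_cases h : z * z = 1
        · rcases hcentral z hzS hzc h with h' | h'
          · exact absurd h' hz1
          · exact h' ▸ hzT
        · exact ih (z * z) (mul_mem hzT hzT) h (mul_mem hzS hzS)
            (fun s hs => by rw [← mul_assoc, hzc s hs, mul_assoc, hzc s hs, ← mul_assoc])
            (by rw [← pow_two, ← pow_mul, ← pow_succ', he'])
    have hinv : ∀ w ∈ (S : Subgroup G), w * w = 1 → w ∈ T := by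
      intro w hw hww
      rw [← hSf] at hw
      obtain ⟨B, hB, rfl⟩ := hw
      by_cases h1 : B = 1
      · rw [h1, map_one]; exact one_mem T
      by_cases hnB : B = nM
      · rw [hnB]; exact hn
      obtain ⟨g, hg⟩ := invol_conj h2 (hinj _ (mul_mem hB hB) (by rw [map_mul, hww])) h1 hnB
      obtain ⟨σ, hσ'⟩ : ∃ σ : S3, σ.1 = !![0, 0, -1; 0, 1, 0; 1, 0, 0] :=
        ⟨⟨!![0, 0, -1; 0, 1, 0; 1, 0, 0], by simp [Matrix.det_fin_three]⟩, rfl⟩
      have hσ : σ * psi sM = psi nM * σ := by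
        refine Subtype.ext ?_
        ext i j
        fin_cases i <;> fin_cases j <;>
          simp [hσ', psi_val, sM, nM, mul3, Matrix.det_fin_two]
      have hB' : f B = (φ (psi g * σ⁻¹)) * f nM * (φ (psi g * σ⁻¹))⁻¹ := by
        show φ (psi B) = φ (psi g * σ⁻¹) * φ (psi nM) * (φ (psi g * σ⁻¹))⁻¹
        rw [← map_inv, ← map_mul, ← map_mul]
        congr 1
        rw [eq_mul_inv_of_mul_eq hg, map_mul, map_mul, map_inv,
          show psi sM = σ⁻¹ * psi nM * σ by rw [mul_assoc, ← hσ, inv_mul_cancel_left]]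
        group
      rw [hB']
      exact mem_of_conj hT hn (hB' ▸ hmem B hB)
    have hgood : ∀ U V : G, U * U = 1 → V * V = 1 → U * V ∈ (S : Subgroup G) → U * V ∈ T := by
      intro U V hU hV hx
      set x := U * V with hxdef
      have hux : U * x * U⁻¹ = x⁻¹ := by
        rw [hxdef, inv_eq_of_mul_eq_one_right hU, _root_.mul_inv_rev, inv_eq_of_mul_eq_one_right hU,
          inv_eq_of_mul_eq_one_right hV, ← mul_assoc, hU, one_mul]
      have hzx : IsPGroup 2 (Subgroup.zpowers x) := S.2.to_le (Subgroup.zpowers_le.2 hx)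
      have hzu : IsPGroup 2 (Subgroup.zpowers U) := by
        rintro ⟨y, hy⟩
        obtain ⟨j, rfl⟩ := Subgroup.mem_zpowers_iff.1 hy
        refine ⟨1, Subtype.ext ?_⟩
        show (U ^ j) ^ 2 ^ 1 = 1
        rw [pow_one, pow_two, ← _root_.zpow_add, ← two_mul, _root_.zpow_mul, zpow_two, hU, _root_.one_zpow]
      have hnor : Subgroup.zpowers U ≤ Subgroup.normalizer (Subgroup.zpowers x : Set G) := by
        rw [Subgroup.zpowers_le]
        refine S5318.mem_normalizer_of_conj_mem _ fun y hy => ?_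
        obtain ⟨j, rfl⟩ := Subgroup.mem_zpowers_iff.1 hy
        rw [← conj_zpow, hux]
        exact zpow_mem (inv_mem (Subgroup.mem_zpowers x)) j
      obtain ⟨Q, hQ⟩ := (hzu.to_sup_of_normal_right' hzx hnor).exists_le_sylow
      obtain ⟨g, hg⟩ := MulAction.exists_smul_eq G Q S
      have hgm : ∀ y ∈ Subgroup.zpowers U ⊔ Subgroup.zpowers x, g * y * g⁻¹ ∈ (S : Subgroup G) := by
        intro y hy
        rw [← hg]
        exact ⟨y, hQ hy, rfl⟩
      have hUm : U ∈ Subgroup.zpowers U ⊔ Subgroup.zpowers x :=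
        Subgroup.mem_sup_left (Subgroup.mem_zpowers U)
      have hxm : x ∈ Subgroup.zpowers U ⊔ Subgroup.zpowers x :=
        Subgroup.mem_sup_right (Subgroup.mem_zpowers x)
      have hVm : V ∈ Subgroup.zpowers U ⊔ Subgroup.zpowers x := by
        rw [show V = U⁻¹ * x by rw [hxdef, inv_mul_cancel_left]]
        exact mul_mem (inv_mem hUm) hxm
      have hgU := hinv _ (hgm U hUm) (by rw [conj_mul, hU, mul_one, mul_inv_cancel])
      have hgV := hinv _ (hgm V hVm) (by rw [conj_mul, hV, mul_one, mul_inv_cancel])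
      have hgx : g * x * g⁻¹ ∈ T := by
        rw [hxdef, ← conj_mul]
        exact mul_mem hgU hgV
      have hb : g⁻¹ * (g * x * g⁻¹) * g⁻¹⁻¹ = x := by group
      exact hb ▸ mem_of_conj hT hgx (hb.symm ▸ hx)
    refine le_antisymm hT.1 ?_
    rw [← hSf]
    rintro _ ⟨x, hx, rfl⟩
    obtain ⟨a, ha, hdet, u, v, hu, hv, huv⟩ := exists_det h2 hx
    have h1 : f a ∈ T := by
      have e1 : f a = φ u * φ v := by show φ (psi a) = _; rw [huv, map_mul]
      rw [e1]
      exact hgood _ _ (by rw [← map_mul, hu, map_one]) (by rw [← map_mul, hv, map_one])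
        (e1 ▸ hmem a ha)
    have hdet1 : (a⁻¹ * x).1.det = 1 := by
      have h := congrArg (fun X : G2 => X.1.det) (mul_inv_cancel_left a x)
      rw [Units.val_mul, Matrix.det_mul, hdet] at h
      exact mul_eq_left₀ (GeneralLinearGroup.det_ne_zero x) |>.1 h
    obtain ⟨u', v', hu', hv', huv'⟩ := exists_tau hdet1
    have h2' : f (a⁻¹ * x) ∈ T := by
      have e1 : f (a⁻¹ * x) = f u' * f v' := by rw [huv', map_mul]
      rw [e1]
      exact hgood _ _ (by rw [← map_mul, hu', map_one]) (by rw [← map_mul, hv', map_one])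
        (e1 ▸ hmem _ (mul_mem (inv_mem ha) hx))
    have := mul_mem h1 h2'
    rwa [← map_mul, mul_inv_cancel_left] at this
  · intro g hg
    have hgn : g * f nM * g⁻¹ = f nM := by
      have hc' : ∀ s ∈ (S : Subgroup G), s * (g * f nM * g⁻¹) = g * f nM * g⁻¹ * s := by
        intro s hs
        have hs' : g⁻¹ * s * g ∈ (S : Subgroup G) := by
          simpa using (Subgroup.mem_normalizer_iff.1 (inv_mem hg) s).1 hs
        rw [← hSf] at hs'
        obtain ⟨y, -, hy⟩ := hs'
        have : s = g * f y * g⁻¹ := by rw [hy]; group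
        rw [this, conj_mul, conj_mul, ← map_mul, nM_comm, map_mul]
      rcases hcentral _ ((Subgroup.mem_normalizer_iff.1 hg _).1 (hmem _ nM_mem_P)) hc'
        (by rw [conj_mul, ← map_mul, nM_sq, map_one, mul_one, mul_inv_cancel]) with h | h
      · exact absurd (hinj _ nM_mem_P (conj_eq_one_iff.1 h)) hn_ne
      · exact h
    obtain ⟨A, rfl⟩ := hsur g
    have hAz : A * psi nM * A⁻¹ * (psi nM)⁻¹ ∈ Subgroup.center S3 := (hker _).1 (by
      rw [map_mul, map_mul, map_mul, map_inv, map_inv]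
      show φ A * f nM * (φ A)⁻¹ * (f nM)⁻¹ = 1
      rw [hgn, mul_inv_cancel])
    set r := A * psi nM * A⁻¹ * (psi nM)⁻¹ with hr
    have hr2 : r ^ 2 ^ 1 = 1 := by
      have hcomm : Commute r (psi nM) := (Subgroup.mem_center_iff.1 hAz _).symm
      have h1 : r * psi nM = A * psi nM * A⁻¹ := by rw [hr, inv_mul_cancel_right]
      have h2 : (r * psi nM) ^ 2 = 1 := by
        rw [h1, conj_pow, ← map_pow, pow_two, nM_sq, map_one, mul_one, mul_inv_cancel]
      rw [hcomm.mul_pow, ← map_pow, pow_two, pow_two, nM_sq, map_one, mul_one] at h2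
      rw [pow_one, pow_two, h2]
    have hAc : A * psi nM = psi nM * A := by
      have h1 := eq_one_of_pow hr2 (center_SL3_pow hAz)
      rw [hr, mul_inv_eq_one] at h1
      exact mul_inv_eq_iff_eq_mul.1 h1
    have e02 := congrArg (fun X : S3 => X.1 0 2) hAc
    have e12 := congrArg (fun X : S3 => X.1 1 2) hAc
    have e20 := congrArg (fun X : S3 => X.1 2 0) hAc
    have e21 := congrArg (fun X : S3 => X.1 2 1) hAc
    simp [psi_val, nM, mul3, Matrix.det_fin_two] at e02 e12 e20 e21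
    have zero : ∀ {y : F}, (2 : F) * y = 0 → y = 0 := fun h => (mul_eq_zero.1 h).resolve_left h2
    have z02 : A.1 0 2 = 0 := zero (by linear_combination e02)
    have z12 : A.1 1 2 = 0 := zero (by linear_combination e12)
    have z20 : A.1 2 0 = 0 := zero (by linear_combination -e20)
    have z21 : A.1 2 1 = 0 := zero (by linear_combination -e21)
    have hdA := A.2
    rw [Matrix.det_fin_three] at hdA
    simp [z02, z12, z20, z21] at hdA
    have hne : A.1 0 0 * A.1 1 1 - A.1 0 1 * A.1 1 0 ≠ 0 := fun h =>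
      one_ne_zero (α := F) (by linear_combination -hdA + A.1 2 2 * h)
    let h : G2 := mk2 (A.1 0 0) (A.1 0 1) (A.1 1 0) (A.1 1 1) hne
    have hA : A = psi h := by
      refine Subtype.ext ?_
      ext i j
      fin_cases i <;> fin_cases j <;> simp [psi_val, h, z02, z12, z20, z21, Matrix.det_fin_two]
      exact eq_inv_of_mul_eq_one_left (by linear_combination hdA)
    have hnor : ∀ x ∈ P F, h * x * h⁻¹ ∈ P F := by
      intro x hx
      have h1 := (Subgroup.mem_normalizer_iff.1 hg (f x)).1 (hmem x hx)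
      rw [hA, ← hSf] at h1
      obtain ⟨x', hx', he⟩ := h1
      have heq : f (h * x * h⁻¹) = f x' := by rw [map_mul, map_mul, map_inv]; exact he.symm
      have hx'' : h * x * h⁻¹ = x' := by
        obtain ⟨e₁, he₁⟩ := isPGroup_P (F := F) ⟨x, hx⟩
        obtain ⟨e₂, he₂⟩ := isPGroup_P (F := F) ⟨x', hx'⟩
        have hxe : x ^ 2 ^ e₁ = 1 := congrArg Subtype.val he₁
        have hxe' : x' ^ 2 ^ e₂ = 1 := congrArg Subtype.val he₂
        have hk : psi (h * x * h⁻¹) * (psi x')⁻¹ ∈ Subgroup.center S3 := (hker _).1 (by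
          rw [map_mul, map_inv]; show f _ * (f x')⁻¹ = 1; rw [heq, mul_inv_cancel])
        set w := psi (h * x * h⁻¹) * (psi x')⁻¹ with hw
        apply psi_injective
        rw [← mul_inv_eq_one, ← hw]
        refine eq_one_of_pow (e := e₁ + e₂) ?_ (center_SL3_pow hk)
        have hcomm : Commute w (psi x') := (Subgroup.mem_center_iff.1 hk _).symm
        have h3 : (w * psi x') ^ 2 ^ (e₁ + e₂) = 1 := by
          rw [hw, inv_mul_cancel_right, ← map_pow, conj_pow, pow_add, pow_mul, hxe, one_pow,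
            mul_one, mul_inv_cancel, map_one]
        rwa [hcomm.mul_pow, ← map_pow, show x' ^ 2 ^ (e₁ + e₂) = 1 by
          rw [pow_add, mul_comm, pow_mul, hxe', one_pow], map_one, mul_one] at h3
      exact hx''.symm ▸ hx'
    have hcl := Subgroup.mem_map_of_mem f (normalizer_P h2 hnor)
    rw [hA]
    refine (Subgroup.map_le_iff_le_comap.2 ((Subgroup.closure_le _).2 ?_)) hcl
    rintro y (hy | hy)
    · exact Subgroup.subset_closure (Or.inl (hmem y hy))
    · refine Subgroup.subset_closure (Or.inr (Or.inl ?_))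
      refine Subgroup.mem_centralizer_iff.2 fun s hs => ?_
      rw [← hSf] at hs
      obtain ⟨x, hx, rfl⟩ := hs
      rw [← map_mul, ← map_mul, Subgroup.mem_centralizer_iff.1 hy x hx]


/-- For a finite field F of odd order, the 2-fusion system of PSL(3,F) on a Sylow 2-subgroup (semidihedral or wreathed according as |F| ≡ 3 or 1 mod 4) is simple. -/
theorem result {F : Type*} [Field F] [Fintype F] (hodd : Fintype.card F % 2 = 1) (S : Sylow 2 (Matrix.ProjectiveSpecialLinearGroup (Fin 3) F)) :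
    (Cfsg.groupFusionSystem (S : Subgroup (Matrix.ProjectiveSpecialLinearGroup (Fin 3) F))).IsSimple 2 := by
  classical
  have h2 : (2 : F) ≠ 0 := by
    intro h0
    have hdvd : addOrderOf (1 : F) ∣ Fintype.card F := addOrderOf_dvd_card
    have hc : addOrderOf (1 : F) = 2 :=
      addOrderOf_eq_prime (by rw [two_nsmul, one_add_one_eq_two, h0]) one_ne_zero
    rw [hc] at hdvd
    omega
  have : Fact (Nat.Prime 2) := ⟨Nat.prime_two⟩
  let π : Matrix.SpecialLinearGroup (Fin 3) F →* Matrix.ProjectiveSpecialLinearGroup (Fin 3) F :=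
    QuotientGroup.mk' _
  have hsurπ : Function.Surjective π := QuotientGroup.mk'_surjective _
  have hkerπ : ∀ x, π x = 1 ↔ x ∈ Subgroup.center _ := fun x => QuotientGroup.eq_one_iff x
  have : Finite (Matrix.ProjectiveSpecialLinearGroup (Fin 3) F) := Finite.of_surjective π hsurπ
  have hP : IsPGroup 2 (P F) := isPGroup_P
  obtain ⟨Q, hQ⟩ := hP.exists_le_sylow
  have hidxP : ¬ 2 ∣ (P F).index := by
    rw [← maximal_P h2 Q.2 hQ]
    exact Q.not_dvd_index
  have hidx : ¬ 2 ∣ (((P F).map psi).map π).index := by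
    intro hd
    have hd' := hd.trans (Subgroup.index_map_dvd _ hsurπ)
    rw [Subgroup.index_map, (MonoidHom.ker_eq_bot_iff _).2 psi_injective, sup_bot_eq] at hd'
    rcases Nat.prime_two.dvd_mul.1 hd' with h | h
    · exact hidxP h
    · have hq : Odd (Nat.card F) := by
        rw [Nat.card_eq_fintype_card]; exact Nat.odd_iff.2 hodd
      have h1 := (psi (F := F)).range.card_mul_index
      rw [show Nat.card (psi (F := F)).range = Nat.card (GL (Fin 2) F) from
        (Nat.card_congr ((MonoidHom.ofInjective psi_injective).toEquiv)).symm,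
        PSLCard.card_GL2] at h1
      have h3 := PSLCard.card_SL (F := F) 3
      simp only [Fin.prod_univ_three, Fin.val_zero, Fin.val_one, Fin.val_two, pow_zero, pow_one]
        at h3
      rw [← h1] at h3
      obtain ⟨j, hj⟩ := h
      have hq1 : 1 < Nat.card F := PSLCard.one_lt_card F
      set q := Nat.card F with hqdef
      obtain ⟨r, hr⟩ := hq
      have e0 : (psi (F := F)).range.index * ((q - 1) * ((q ^ 2 - 1) * (q ^ 2 - q))) =
          (q ^ 3 - 1) * (q ^ 3 - q) * (q ^ 3 - q ^ 2) := by rw [← h3]; ring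
      have e1 : q ^ 3 - 1 = (q - 1) * (q ^ 2 + q + 1) := by
        obtain ⟨p', hp'⟩ : ∃ p', q = p' + 1 := ⟨q - 1, by omega⟩
        rw [hp', Nat.add_sub_cancel, Nat.sub_eq_iff_eq_add (Nat.one_le_pow _ _ (by omega))]
        ring
      have e2 : q ^ 3 - q = q * (q ^ 2 - 1) := by rw [Nat.mul_sub, mul_one]; ring_nf
      have e3 : q ^ 3 - q ^ 2 = q * (q ^ 2 - q) := by rw [Nat.mul_sub]; ring_nf
      rw [e1, e2, e3, show (q - 1) * (q ^ 2 + q + 1) * (q * (q ^ 2 - 1)) * (q * (q ^ 2 - q)) =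
        ((q ^ 2 + q + 1) * q * q) * ((q - 1) * ((q ^ 2 - 1) * (q ^ 2 - q))) by ring] at e0
      have hp1 : 0 < q ^ 2 - 1 := Nat.sub_pos_of_lt (Nat.one_lt_pow two_ne_zero hq1)
      have hp2 : 0 < q ^ 2 - q := Nat.sub_pos_of_lt (by nlinarith)
      have e4 := Nat.eq_of_mul_eq_mul_right
        (Nat.mul_pos (Nat.sub_pos_of_lt hq1) (Nat.mul_pos hp1 hp2)) e0
      have hodd2 : Odd ((q ^ 2 + q + 1) * q * q) := by
        rw [hr]
        exact ⟨(2*r^2+3*r+1)*(4*r^2+4*r+1) + 2*r^2+2*r, by ring⟩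
      rw [← e4, hj] at hodd2
      exact Nat.not_odd_iff_even.2 (even_two_mul j) hodd2
  obtain ⟨g, hg⟩ := MulAction.exists_smul_eq (Matrix.ProjectiveSpecialLinearGroup (Fin 3) F)
    (((hP.map psi).map π).toSylow hidx) S
  refine core h2 ((MulAut.conj g).toMonoidHom.comp π)
    (fun y => ?_) (fun x => ?_) S ?_
  · obtain ⟨x, hx⟩ := hsurπ (MulAut.conj g⁻¹ y)
    exact ⟨x, by rw [MonoidHom.comp_apply, hx]; simp [mul_assoc]⟩
  · rw [MonoidHom.comp_apply, MulEquiv.coe_toMonoidHom, map_eq_one_iff _ (MulAut.conj g).injective,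
      hkerπ]
  · rw [← hg, ← Subgroup.map_map]
    rfl

end Cfsg.Agent.S5318
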