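import Cfsg.Statements.S5319
import Cfsg.Agent.Lib.FusionSimpleCrit
import Cfsg.Agent.Lib.TwoFusionGL2
import Cfsg.Agent.Lib.OrthUnitaryHerm

set_option autoImplicit false
open Cfsg

namespace Cfsg.Agent.S5319

open Matrix Cfsg.Agent.FusionSimpleCrit Cfsg.Agent.TwoFusionGL2 Cfsg.Agent.OrthUnitaryHerm
open Cfsg.Agent.S5318 hiding core result
open scoped MatrixGroups

section
variable {F : Type*} [Field F] [Fintype F] {q : ℕ}

local notation "G2" => GL (Fin 2) F

theorem isU_of_matrix {n : ℕ} (σ : F →+* F) (hσ : ∀ x, σ x = x ^ q) {M : Matrix (Fin n) (Fin n) F}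
    (h : M.transpose * M.map σ = 1) : IsU q M := by
  intro u v
  have key : ∀ a b : Fin n → F, hermForm n F q a b = dotProduct a (σ ∘ b) := fun a b => by
    simp [hermForm, dotProduct, hσ]
  rw [key, key, show σ ∘ (M *ᵥ v) = M.map σ *ᵥ (σ ∘ v) from funext fun i => RingHom.map_mulVec σ M v i,
    Matrix.dotProduct_mulVec, ← Matrix.mulVec_transpose, Matrix.mulVec_mulVec]
  have h' : (M.map σ).transpose * M = 1 := by
    have := congrArg Matrix.transpose h
    rwa [Matrix.transpose_mul, Matrix.transpose_transpose, Matrix.transpose_one] at this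
  rw [h', Matrix.one_mulVec]

theorem matrix_of_isU {n : ℕ} (hF : Fintype.card F = q ^ 2) (σ : F →+* F) (hσ : ∀ x, σ x = x ^ q)
    {M : Matrix (Fin n) (Fin n) F} (h : IsU q M) : M.transpose * M.map σ = 1 := by
  ext i j
  have := h (Pi.single i 1) (Pi.single j 1)
  rw [herm_single_left, Matrix.mulVec_single_one, Matrix.mulVec_single_one] at this
  rw [Matrix.mul_apply, Matrix.one_apply]
  simp only [hermForm, Matrix.col_apply] at this
  simp only [Matrix.transpose_apply, Matrix.map_apply, hσ]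
  rw [this]
  by_cases hij : i = j
  · subst hij; simp
  · simp [Pi.single_eq_of_ne hij, hij, zero_pow_q hF]

theorem isU_two (σ : F →+* F) (hσ : ∀ x, σ x = x ^ q) {a b c d : F}
    (h00 : a * σ a + c * σ c = 1) (h01 : a * σ b + c * σ d = 0)
    (h10 : b * σ a + d * σ c = 0) (h11 : b * σ b + d * σ d = 1) :
    IsU q !![a, b; c, d] := by
  refine isU_of_matrix σ hσ ?_
  ext i j
  fin_cases i <;> fin_cases j <;> simp [Matrix.mul_apply, Fin.sum_univ_two, h00, h01, h10, h11]

theorem isU_three_mon {M : Matrix (Fin 3) (Fin 3) F} (σ : F →+* F) (hσ : ∀ x, σ x = x ^ q)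
    (h : M.transpose * M = 1) (hfix : M.map σ = M) : IsU q M :=
  isU_of_matrix σ hσ (by rw [hfix, h])

theorem mem_GU {x : G2} : x ∈ GU 2 F q ↔ IsU q x.1 := Iff.rfl

/-- The block embedding of `GU₂` into `SU₃`. -/
noncomputable def psiU (hF : Fintype.card F = q ^ 2) : GU 2 F q →* SU 3 F q :=
  ((psi (F := F)).comp (GU 2 F q).subtype).codRestrict (SU 3 F q) fun A => by
    obtain ⟨σ, hσ⟩ := exists_frobHom hF
    show IsU q (psi A.1).1
    refine isU_of_matrix σ hσ ?_
    have hA := matrix_of_isU hF σ hσ (isU_of_mem A)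
    have hdet : A.1.1.det * σ A.1.1.det = 1 := by
      rw [RingHom.map_det, RingHom.mapMatrix_apply, ← Matrix.det_transpose, ← Matrix.det_mul, hA,
        Matrix.det_one]
    have h00 := congrFun (congrFun hA 0) 0
    have h01 := congrFun (congrFun hA 0) 1
    have h10 := congrFun (congrFun hA 1) 0
    have h11 := congrFun (congrFun hA 1) 1
    simp [Matrix.mul_apply, Fin.sum_univ_two] at h00 h01 h10 h11
    rw [psi_val]
    ext i j
    fin_cases i <;> fin_cases j <;>
      simp [Matrix.mul_apply, Fin.sum_univ_three, h00, h01, h10, h11, ← mul_inv, hdet]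

theorem psiU_coe (hF : Fintype.card F = q ^ 2) (A : GU 2 F q) :
    ((psiU hF A : SU 3 F q) : SpecialLinearGroup (Fin 3) F) = psi A.1 := rfl

theorem psiU_injective (hF : Fintype.card F = q ^ 2) : Function.Injective (psiU hF) :=
  fun A B h => Subtype.ext (psi_injective (congrArg Subtype.val h))

/-- A product of two involutions. -/
def SR {H : Type*} [Group H] (z : H) : Prop := ∃ u v : H, u * u = 1 ∧ v * v = 1 ∧ z = u * v

theorem SR.conj {H : Type*} [Group H] {z : H} (h : SR z) (g : H) : SR (g * z * g⁻¹) := by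
  obtain ⟨u, v, hu, hv, rfl⟩ := h
  exact ⟨g * u * g⁻¹, g * v * g⁻¹, by rw [conj_mul, hu, mul_one, mul_inv_cancel],
    by rw [conj_mul, hv, mul_one, mul_inv_cancel], by rw [conj_mul]⟩

theorem SR.map {H K : Type*} [Group H] [Group K] {z : H} (h : SR z) (f : H →* K) : SR (f z) := by
  obtain ⟨u, v, hu, hv, rfl⟩ := h
  exact ⟨f u, f v, by rw [← map_mul, hu, map_one], by rw [← map_mul, hv, map_one], map_mul f u v⟩

variable (hF : Fintype.card F = q ^ 2) (h2 : (2 : F) ≠ 0)
include hF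

theorem two_pow_q : (2 : F) ^ q = 2 := by
  rw [show (2 : F) = 1 + 1 by norm_num, add_pow_q hF, one_pow]

theorem sM_mem : (sM : G2) ∈ GU 2 F q := by
  obtain ⟨σ, hσ⟩ := exists_frobHom hF
  exact mem_GU.2 (isU_two σ hσ (by simp) (by simp) (by simp) (by simp))

theorem nM_mem : (nM : G2) ∈ GU 2 F q := by
  obtain ⟨σ, hσ⟩ := exists_frobHom hF
  exact mem_GU.2 (isU_two σ hσ (by simp) (by simp) (by simp) (by simp))

include h2

theorem big : Big (GU 2 F q) := by
  obtain ⟨σ, hσ⟩ := exists_frobHom hF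
  obtain ⟨α, hα⟩ := exists_norm_eq hF (two_pow_q hF)
  have hα0 : α ≠ 0 := by
    rintro rfl
    exact h2 (by rw [← hα, zero_pow (Nat.succ_ne_zero q)])
  have hασ : α * σ α = 2 := by rw [hσ, ← pow_succ', hα]
  have hσα : σ α ≠ 0 := by rw [hσ]; exact pow_ne_zero _ hα0
  have hN : α⁻¹ * σ α⁻¹ + α⁻¹ * σ α⁻¹ = 1 := by
    rw [map_inv₀]; field_simp; linear_combination -hασ
  let c : G2 := mk2 α⁻¹ (-α⁻¹) α⁻¹ α⁻¹ (by
    rw [show α⁻¹ * α⁻¹ - -α⁻¹ * α⁻¹ = 2 * (α⁻¹ * α⁻¹) by ring]
    exact mul_ne_zero h2 (mul_ne_zero (inv_ne_zero hα0) (inv_ne_zero hα0)))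
  have hc : Rot c := by simp [c, Rot]
  have hcU : c ∈ GU 2 F q := by
    refine mem_GU.2 (isU_two σ hσ hN ?_ ?_ ?_) <;> try simp only [map_neg]
    · ring
    · ring
    · linear_combination hN
  refine ⟨sM_mem hF, ?_⟩
  obtain ⟨k, m, hm, he⟩ := Nat.exists_eq_two_pow_mul_odd (orderOf_pos c).ne'
  obtain ⟨γ, hγ⟩ : ∃ γ : F, γ = -4 * (α⁻¹) ^ 4 := ⟨_, rfl⟩
  have h4 : ∀ l : ℕ, ((c ^ 4) ^ l).1 0 0 = γ ^ l ∧ ((c ^ 4) ^ l).1 0 1 = 0 := by
    intro l
    induction l with
    | zero => simp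
    | succ l ih =>
      have e : c ^ 4 = c * c * (c * c) := by simp only [pow_succ, pow_zero, one_mul, mul_assoc]
      rw [pow_succ, mul00, mul01, ih.1, ih.2, e]
      constructor
      · simp [c, pow_succ, hγ]; ring
      · simp [c]
  obtain ⟨l, rfl⟩ := hm
  have hne : ((c ^ (2 * l + 1)) * (c ^ (2 * l + 1))).1 0 1 ≠ 0 := by
    rw [← pow_add, show 2 * l + 1 + (2 * l + 1) = 4 * l + 2 by ring, pow_add, pow_mul, mul01,
      (h4 l).1, (h4 l).2, pow_two]
    simp only [zero_mul, add_zero]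
    refine mul_ne_zero (pow_ne_zero _ ?_) ?_
    · rw [hγ, show (-4 : F) = -(2 * 2) by norm_num]
      exact mul_ne_zero (neg_ne_zero.2 (mul_ne_zero h2 h2)) (pow_ne_zero _ (inv_ne_zero hα0))
    · have : (c * c).1 0 1 = -(2 * (α⁻¹ * α⁻¹)) := by simp [c]; ring
      rw [this]
      exact neg_ne_zero.2 (mul_ne_zero h2 (mul_ne_zero (inv_ne_zero hα0) (inv_ne_zero hα0)))
  refine ⟨c ^ (2 * l + 1), ⟨hc.pow _, k, ?_⟩, pow_mem hcU _, fun h0 => hne ?_, hne⟩
  · rw [← pow_mul, mul_comm, ← he, pow_orderOf_eq_one]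
  · rw [mul01, (hc.pow (2 * l + 1)).1.symm, h0]
    ring

/-- A noncentral involution of `GU₂` is conjugate to `diag(1, -1)` in `GU₂`. -/
theorem invol_conjU {B : G2} (hBU : B ∈ GU 2 F q) (hB : B * B = 1) (h1 : B ≠ 1) (hn : B ≠ nM) :
    ∃ g ∈ GU 2 F q, B * g = g * sM := by
  obtain ⟨σ, hσ⟩ := exists_frobHom hF
  have hBB : B.1 * B.1 = 1 := by rw [← Units.val_mul, hB, Units.val_one]
  have hsa : B.1.map σ = B.1.transpose := by
    rw [← mul_one B.1.transpose, ← matrix_of_isU hF σ hσ (mem_GU.1 hBU), ← mul_assoc,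
      ← Matrix.transpose_mul, hBB, Matrix.transpose_one, one_mul]
  have s00 : σ (B.1 0 0) = B.1 0 0 := congrFun (congrFun hsa 0) 0
  have s01 : σ (B.1 0 1) = B.1 1 0 := congrFun (congrFun hsa 0) 1
  have s10 : σ (B.1 1 0) = B.1 0 1 := congrFun (congrFun hsa 1) 0
  have e0 := congrArg (fun X : G2 => X.1 0 0) hB
  have e1 := congrArg (fun X : G2 => X.1 0 1) hB
  have e2 := congrArg (fun X : G2 => X.1 1 0) hB
  have e3 := congrArg (fun X : G2 => X.1 1 1) hB
  simp at e0 e1 e2 e3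
  have htr : B.1 1 1 = -B.1 0 0 := by
    by_contra h
    have hne : B.1 0 0 + B.1 1 1 ≠ 0 := fun h' => h (eq_neg_of_add_eq_zero_right h')
    have hb : B.1 0 1 = 0 :=
      (mul_eq_zero.1 (show (B.1 0 0 + B.1 1 1) * B.1 0 1 = 0 by linear_combination e1)).resolve_left hne
    have hc : B.1 1 0 = 0 :=
      (mul_eq_zero.1 (show (B.1 0 0 + B.1 1 1) * B.1 1 0 = 0 by linear_combination e2)).resolve_left hne
    simp [hb, hc] at e0 e3
    rcases mul_self_eq_one_iff.1 e0 with a | a <;> rcases mul_self_eq_one_iff.1 e3 with d | d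
    · exact h1 (ext2 (by simp [a]) (by simp [hb]) (by simp [hc]) (by simp [d]))
    · exact h (by rw [a, d])
    · exact h (by rw [a, d, neg_neg])
    · exact hn (ext2 (by simp [nM, a]) (by simp [nM, hb]) (by simp [nM, hc]) (by simp [nM, d]))
  by_cases ha : B.1 0 0 = -1
  · have hN := congrFun (congrFun (matrix_of_isU hF σ hσ (mem_GU.1 hBU)) 0) 0
    simp [Matrix.mul_apply, Fin.sum_univ_two, s00, s10, ha] at hN
    have hcb : B.1 1 0 = 0 ∧ B.1 0 1 = 0 := by
      rcases hN with h | h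
      · exact ⟨h, by rw [← s10, h, map_zero]⟩
      · exact ⟨by rw [← s01, h, map_zero], h⟩
    refine ⟨mk2 0 1 1 0 (by simp), mem_GU.2 (isU_two σ hσ (by simp) (by simp) (by simp) (by simp)),
      ext2 ?_ ?_ ?_ ?_⟩ <;> simp [sM, htr, ha, hcb.1, hcb.2]
  · have hN0 : 2 * (1 + B.1 0 0) ≠ 0 :=
      mul_ne_zero h2 fun h => ha (by linear_combination h)
    obtain ⟨α, hα⟩ := exists_norm_eq (a := 2 * (1 + B.1 0 0)) hF (by
      rw [← hσ, map_mul, map_add, map_one, s00, map_ofNat])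
    have hασ : α * σ α = 2 * (1 + B.1 0 0) := by rw [hσ, ← pow_succ', hα]
    have hα0 : α ≠ 0 := fun h => hN0 (by rw [← hασ, h, zero_mul])
    have hσα : σ α ≠ 0 := by rw [hσ]; exact pow_ne_zero _ hα0
    have hU : IsU q !![α⁻¹ * (1 + B.1 0 0), α⁻¹ * B.1 0 1;
        α⁻¹ * B.1 1 0, α⁻¹ * (-1 - B.1 0 0)] := by
      refine isU_two σ hσ ?_ ?_ ?_ ?_ <;>
        simp only [map_mul, map_add, map_sub, map_neg, map_one, map_inv₀, s00, s01, s10] <;>
        field_simp
      · linear_combination e0 - hασ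
      · ring
      · ring
      · linear_combination e0 - hασ
    refine ⟨mk2 _ _ _ _ ?_, mem_GU.2 hU, ext2 ?_ ?_ ?_ ?_⟩
    · have h := (hU.isUnit hF).map Matrix.detMonoidHom
      simp [Matrix.det_fin_two] at h
      exact h
    all_goals simp [sM, htr]
    · linear_combination α⁻¹ * e0
    · linear_combination (0 : F) * e0
    · linear_combination (0 : F) * e0
    · linear_combination α⁻¹ * e0

/-- Elements of determinant one of `P ⊓ GU₂` are products of two involutions. -/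
theorem exists_tauU {x : G2} (hx : x ∈ P F ⊓ GU 2 F q) (hd : x.1.det = 1) :
    SR (⟨x, hx.2⟩ : GU 2 F q) := by
  obtain ⟨σ, hσ⟩ := exists_frobHom hF
  rw [Matrix.det_fin_two] at hd
  let s' : GU 2 F q := ⟨sM, sM_mem hF⟩
  have hs' : s' * s' = 1 := Subtype.ext sM_sq
  rcases hx.1 with hr | hr
  · obtain ⟨r1, r2⟩ := hr.1
    rw [r1, r2] at hd
    refine ⟨s', s' * ⟨x, hx.2⟩, hs', Subtype.ext ?_, by rw [← mul_assoc, hs', one_mul]⟩
    show sM * x * (sM * x) = 1
    refine ext2 ?_ ?_ ?_ ?_ <;> simp [sM, r1, r2]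
    · linear_combination hd
    · ring
    · ring
    · linear_combination hd
  · obtain ⟨r1, r2⟩ := hr.1
    simp [sM] at r1 r2
    have r2' : x.1 1 0 = x.1 0 1 := r2
    rw [r1, r2'] at hd
    have hm := matrix_of_isU hF σ hσ (mem_GU.1 hx.2)
    have hxx : x.1 * x.1 = -1 := by
      ext i j
      fin_cases i <;> fin_cases j <;> simp [Matrix.mul_apply, Fin.sum_univ_two, r1, r2']
      · linear_combination -hd
      · ring
      · ring
      · linear_combination -hd
    have hsa : x.1.map σ = -x.1.transpose := by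
      have h := congrArg (fun Y => x.1.transpose * Y) hm
      simp only [← mul_assoc, ← Matrix.transpose_mul, hxx, Matrix.transpose_neg,
        Matrix.transpose_one, neg_mul, one_mul, mul_one] at h
      rw [← h, neg_neg]
    have s01 := congrFun (congrFun hsa 0) 1
    have s11 := congrFun (congrFun hsa 1) 1
    simp [r2'] at s01 s11
    obtain ⟨α, hα⟩ := exists_norm_eq hF (two_pow_q hF)
    have hασ : α * σ α = 2 := by rw [hσ, ← pow_succ', hα]
    have hα0 : α ≠ 0 := fun h => h2 (by rw [← hασ, h, zero_mul])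
    have hσα : σ α ≠ 0 := by rw [hσ]; exact pow_ne_zero _ hα0
    have hU : IsU q !![α⁻¹ * x.1 0 0, α⁻¹ * (x.1 0 1 - 1);
        α⁻¹ * (x.1 0 1 + 1), α⁻¹ * x.1 1 1] := by
      refine isU_two σ hσ ?_ ?_ ?_ ?_ <;>
        simp only [map_mul, map_add, map_sub, map_neg, map_one, map_inv₀, r1, s01, s11] <;>
        field_simp
      · linear_combination hd - hασ
      · ring
      · ring
      · linear_combination hd - hασ
    let g : GU 2 F q := mkGU hF _ hU
    let J : GU 2 F q := ⟨mk2 0 (-1) 1 0 (by simp),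
      mem_GU.2 (isU_two σ hσ (by simp) (by simp) (by simp) (by simp))⟩
    have hg : g.1.1 = !![α⁻¹ * x.1 0 0, α⁻¹ * (x.1 0 1 - 1);
        α⁻¹ * (x.1 0 1 + 1), α⁻¹ * x.1 1 1] := mkGU_coe hF _ _
    have hxg : (⟨x, hx.2⟩ : GU 2 F q) * g = g * J := by
      refine Subtype.ext (ext2 ?_ ?_ ?_ ?_) <;> simp [hg, J, r1, r2']
      · linear_combination -α⁻¹ * hd
      · ring
      · ring
      · linear_combination -α⁻¹ * hd
    rw [eq_mul_inv_of_mul_eq hxg]
    refine SR.conj ⟨s', s' * J, hs', Subtype.ext ?_, by rw [← mul_assoc, hs', one_mul]⟩ g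
    show sM * J.1 * (sM * J.1) = 1
    refine ext2 ?_ ?_ ?_ ?_ <;> simp [sM, J]

/-- An element of `P ⊓ GU₂` with given determinant that is a product of two involutions in `SU₃`. -/
theorem exists_detU {x : G2} (hx : x ∈ P F ⊓ GU 2 F q) :
    ∃ e : GU 2 F q, e.1 ∈ P F ∧ e.1.1.det = x.1.det ∧ SR (psiU hF e) := by
  set δ := x.1.det with hδ
  by_cases h1 : δ = 1
  · exact ⟨1, one_mem _, by simp [h1], 1, 1, by simp, by simp, by simp⟩
  by_cases hm1 : δ = -1
  · exact ⟨⟨sM, sM_mem hF⟩, sM_mem_P, by simp [sM, hm1, Matrix.det_fin_two],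
      psiU hF ⟨sM, sM_mem hF⟩, 1,
      by rw [← map_mul, show (⟨sM, sM_mem hF⟩ : GU 2 F q) * ⟨sM, sM_mem hF⟩ = 1 from
        Subtype.ext sM_sq, map_one], by simp, by simp⟩
  obtain ⟨σ, hσ⟩ := exists_frobHom hF
  have hδn : δ ^ (q + 1) = 1 := (mem_GU.1 hx.2).det_pow hF
  obtain ⟨k, hk⟩ : ∃ k : ℕ, δ ^ 2 ^ k = 1 := by
    obtain ⟨k, hk⟩ := isPGroup_P (F := F) ⟨x, hx.1⟩
    refine ⟨k, ?_⟩
    have := congrArg (fun X : G2 => X.1.det) (congrArg Subtype.val hk)
    simpa [Units.val_pow_eq_pow_val, hδ] using this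
  obtain ⟨i, hi, hin⟩ : ∃ i : F, i ^ 2 = -1 ∧ i ^ (q + 1) = 1 := by
    clear_value δ
    clear hδ
    induction k generalizing δ with
    | zero => simp at hk; exact absurd hk h1
    | succ k ih =>
      rw [pow_succ', pow_mul] at hk
      by_cases a : δ ^ 2 = -1
      · exact ⟨δ, a, hδn⟩
      · refine ih (δ ^ 2) (fun h => ?_) a (by rw [← pow_mul, mul_comm, pow_mul, hδn, one_pow]) hk
        rcases sq_eq_one_iff.1 h with h | h
        · exact h1 h
        · exact hm1 h
  have hi0 : i ≠ 0 := by rintro rfl; simp at hi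
  have hiσ : i * σ i = 1 := by rw [hσ, ← pow_succ', hin]
  have hδσ : δ * σ δ = 1 := by rw [hσ, ← pow_succ', hδn]
  have hδ0 : δ ≠ 0 := GeneralLinearGroup.det_ne_zero x
  set a := (δ + 1) / 2 with ha
  set b := (δ - 1) / (2 * i) with hb
  have hab : a * a - -b * b = δ := by
    rw [ha, hb]; field_simp
    linear_combination ((δ + 1) ^ 2 - 4 * δ) * hi
  obtain ⟨α, hα⟩ := exists_norm_eq hF (two_pow_q hF)
  have hασ : α * σ α = 2 := by rw [hσ, ← pow_succ', hα]
  have hα0 : α ≠ 0 := fun h => h2 (by rw [← hασ, h, zero_mul])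
  have hσα : σ α ≠ 0 := by rw [hσ]; exact pow_ne_zero _ hα0
  have hKU : IsU q !![α⁻¹, α⁻¹; α⁻¹ * -i, α⁻¹ * i] := by
    refine isU_two σ hσ ?_ ?_ ?_ ?_ <;> simp only [map_mul, map_neg, map_inv₀] <;> field_simp
    · linear_combination hiσ - hασ
    · linear_combination -hiσ
    · linear_combination -hiσ
    · linear_combination hiσ - hασ
  let K : GU 2 F q := mkGU hF _ hKU
  have hK0 : K.1.1 = !![α⁻¹, α⁻¹; α⁻¹ * -i, α⁻¹ * i] := mkGU_coe hF _ _
  let d : GU 2 F q := ⟨mk2 δ 0 0 1 (by simpa using hδ0),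
    mem_GU.2 (isU_two σ hσ (by simpa using hδσ) (by simp) (by simp) (by simp))⟩
  let e₀ : G2 := mk2 a (-b) b a (by rw [hab]; exact hδ0)
  have hK : e₀ * K.1 = K.1 * d.1 := by
    have hib : i * b * 2 = δ - 1 := by rw [hb]; field_simp
    have ha2 : a * 2 = δ + 1 := by rw [ha]; field_simp
    refine ext2 ?_ ?_ ?_ ?_ <;> simp [e₀, hK0, d]
    · refine mul_right_cancel₀ h2 ?_; linear_combination α⁻¹ * ha2 + α⁻¹ * hib
    · refine mul_right_cancel₀ h2 ?_; linear_combination α⁻¹ * ha2 - α⁻¹ * hib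
    · refine mul_right_cancel₀ (mul_ne_zero h2 hi0) ?_
      linear_combination α⁻¹ * hib - α⁻¹ * i * i * ha2 + α⁻¹ * (-(δ + 1) + δ * 2) * hi
    · refine mul_right_cancel₀ (mul_ne_zero h2 hi0) ?_
      linear_combination α⁻¹ * hib + α⁻¹ * i * i * ha2 + α⁻¹ * (δ + 1 - 2) * hi
  let e : GU 2 F q := K * d * K⁻¹
  have he : e.1 = e₀ := (eq_mul_inv_of_mul_eq hK).symm
  have hd : ∀ m : ℕ, (d.1 ^ m).1 = !![δ ^ m, 0; 0, 1] := by
    intro m
    induction m with
    | zero => simp [Matrix.one_fin_two]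
    | succ m ih =>
      rw [pow_succ, Units.val_mul, ih]
      simp [d, pow_succ]
  refine ⟨e, Or.inl ⟨by rw [he]; simp [e₀, Rot], k, ?_⟩, ?_, ?_⟩
  · show (K.1 * d.1 * K.1⁻¹) ^ 2 ^ k = 1
    rw [conj_pow, show d.1 ^ 2 ^ k = 1 from Units.ext (by rw [hd, hk, Units.val_one,
      Matrix.one_fin_two]), mul_one, mul_inv_cancel]
  · rw [he]
    simp only [e₀, mk2_val, Matrix.det_fin_two_of]
    linear_combination hab
  rw [map_mul, map_mul, map_inv]
  refine SR.conj ?_ _
  let u : SU 3 F q := mkSU !![0, 0, 1; 0, -1, 0; 1, 0, 0] (by simp [Matrix.det_fin_three])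
    (isU_three_mon σ hσ
      (by ext i j; fin_cases i <;> fin_cases j <;> simp [Matrix.mul_apply, Fin.sum_univ_three])
      (by ext i j; fin_cases i <;> fin_cases j <;> simp))
  have hu : u.1.1 = !![0, 0, 1; 0, -1, 0; 1, 0, 0] := rfl
  have hd0 : d.1.1 = !![δ, 0; 0, 1] := rfl
  have huu : u * u = 1 := by
    refine Subtype.ext (Subtype.ext ?_)
    ext i j
    fin_cases i <;> fin_cases j <;> simp [hu, mul3, one3]
  refine ⟨u, u * psiU hF d, huu, Subtype.ext (Subtype.ext ?_), by rw [← mul_assoc, huu, one_mul]⟩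
  ext i j
  fin_cases i <;> fin_cases j <;>
    simp [hu, hd0, psiU_coe, psi_val, mul3, one3, Matrix.det_fin_two, hδ0]

theorem center_SU3_pow {r : SU 3 F q} (hr : r ∈ Subgroup.center (SU 3 F q)) : r ^ 3 = 1 := by
  have hs := center_SU_scalar hF (by norm_num) hr
  set a := r.1.1 ⟨0, by norm_num⟩ ⟨0, by norm_num⟩ with ha
  have hM : r.1.1 = Matrix.scalar (Fin 3) a := by
    ext i j
    rw [hs i j, Matrix.scalar_apply, Matrix.diagonal_apply]
  have hdet := r.1.2
  rw [hM] at hdet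
  simp at hdet
  refine Subtype.ext (Subtype.ext ?_)
  show (r.1 ^ 3).1 = 1
  rw [Matrix.SpecialLinearGroup.coe_pow, hM, ← map_pow, hdet, map_one]

universe v

theorem core {G : Type v} [Group G] [Finite G] [Fact (Nat.Prime 2)]
    (φ : SU 3 F q →* G) (hsur : Function.Surjective φ) (hker : ∀ x, φ x = 1 ↔ x ∈ Subgroup.center _)
    (S : Sylow 2 G)
    (hS : (((P F).subgroupOf (GU 2 F q)).map (psiU hF)).map φ = (S : Subgroup G)) :
    (Cfsg.groupFusionSystem (S : Subgroup G)).IsSimple 2 := by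
  classical
  have hU := big hF h2
  let f : GU 2 F q →* G := φ.comp (psiU hF)
  have hSf : ((P F).subgroupOf (GU 2 F q)).map f = (S : Subgroup G) := by rw [← hS, Subgroup.map_map]
  have hmem : ∀ x : GU 2 F q, x.1 ∈ P F → f x ∈ (S : Subgroup G) := fun x hx =>
    hSf ▸ Subgroup.mem_map_of_mem f (show x ∈ (P F).subgroupOf (GU 2 F q) from hx)
  have hpow : ∀ x : GU 2 F q, x.1 ∈ P F → ∃ e : ℕ, x ^ 2 ^ e = 1 := fun x hx => by
    obtain ⟨e, he⟩ := isPGroup_P (F := F) ⟨x.1, hx⟩
    refine ⟨e, Subtype.ext ?_⟩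
    rw [SubgroupClass.coe_pow, OneMemClass.coe_one]
    simpa using congrArg Subtype.val he
  have hinj : ∀ x : GU 2 F q, x.1 ∈ P F → f x = 1 → x = 1 := by
    intro x hx h
    obtain ⟨e, he⟩ := hpow x hx
    apply psiU_injective hF
    rw [map_one]
    refine eq_one_of_pow (e := e) ?_ (center_SU3_pow hF h2 ((hker _).1 h))
    rw [← map_pow, he, map_one]
  have hinj' : ∀ x y : GU 2 F q, x.1 ∈ P F → y.1 ∈ P F → f x = f y → x = y := fun x y hx hy h =>
    mul_inv_eq_one.1 (hinj _ (mul_mem hx (inv_mem hy)) (by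
      rw [map_mul, map_inv, h, mul_inv_cancel]))
  let n' : GU 2 F q := ⟨nM, nM_mem hF⟩
  have hn2 : n' * n' = 1 := Subtype.ext nM_sq
  have hncomm : ∀ A : GU 2 F q, A * n' = n' * A := fun A => Subtype.ext (nM_comm A.1)
  have hcentral : ∀ w ∈ (S : Subgroup G), (∀ s ∈ (S : Subgroup G), s * w = w * s) → w * w = 1 →
      w = 1 ∨ w = f n' := by
    intro w hw hc hww
    rw [← hSf] at hw
    obtain ⟨B, hB, rfl⟩ := hw
    have hB2 : B * B = 1 := hinj _ (mul_mem (show B.1 ∈ P F from hB) hB) (by rw [map_mul, hww])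
    rcases TwoFusionGL2.central_invol h2 hU (fun x hx => congrArg Subtype.val
      (hinj' (⟨x, hx.2⟩ * B) (B * ⟨x, hx.2⟩) (mul_mem hx.1 hB)
        (mul_mem (show B.1 ∈ P F from hB) hx.1)
        (by rw [map_mul, map_mul]; exact hc _ (hmem ⟨x, hx.2⟩ hx.1))))
      (congrArg Subtype.val hB2) with h | h
    · exact Or.inl (by rw [show B = 1 from Subtype.ext h, map_one])
    · exact Or.inr (by rw [show B = n' from Subtype.ext h])
  have hn_ne : n' ≠ 1 := fun h => by
    have := congrArg (fun X : GU 2 F q => X.1.1 0 0) h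
    simp [n', nM] at this
    exact h2 (by linear_combination -this)
  apply isSimple_of_closed_gen
  · intro h
    have hm := hmem n' nM_mem_P
    rw [h, Subgroup.mem_bot] at hm
    exact hn_ne (hinj _ nM_mem_P hm)
  · intro T hT hne
    obtain ⟨z, hzT, hz1, hzS, hzc⟩ := exists_central_mem hT hne
    obtain ⟨e, he⟩ := S.2 ⟨z, hzS⟩
    have he' : z ^ 2 ^ e = 1 := congrArg Subtype.val he
    have hn : f n' ∈ T := by
      clear he
      induction e generalizing z with
      | zero => simp at he'; exact absurd he' hz1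
      | succ e ih =>
        by_cases h : z * z = 1
        · rcases hcentral z hzS hzc h with h' | h'
          · exact absurd h' hz1
          · exact h' ▸ hzT
        · exact ih (z * z) (mul_mem hzT hzT) h (mul_mem hzS hzS)
            (fun s hs => by rw [← mul_assoc, hzc s hs, mul_assoc, hzc s hs, ← mul_assoc])
            (by rw [← pow_two, ← pow_mul, ← pow_succ', he'])
    have hinv : ∀ w ∈ (S : Subgroup G), w * w = 1 → w ∈ T := by
      intro w hw hww
      rw [← hSf] at hw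
      obtain ⟨B, hB, rfl⟩ := hw
      by_cases h1 : B = 1
      · rw [h1, map_one]; exact one_mem T
      by_cases hnB : B = n'
      · rw [hnB]; exact hn
      have hB2 : B * B = 1 := hinj _ (mul_mem (show B.1 ∈ P F from hB) hB) (by rw [map_mul, hww])
      obtain ⟨g, hgU, hg⟩ := invol_conjU hF h2 B.2 (congrArg Subtype.val hB2)
        (fun h => h1 (Subtype.ext h)) (fun h => hnB (Subtype.ext h))
      obtain ⟨σ, hσ⟩ := exists_frobHom hF
      let g' : GU 2 F q := ⟨g, hgU⟩
      let s' : GU 2 F q := ⟨sM, sM_mem hF⟩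
      let τ : SU 3 F q := mkSU !![0, 0, -1; 0, 1, 0; 1, 0, 0] (by simp [Matrix.det_fin_three])
        (isU_three_mon σ hσ
          (by ext i j; fin_cases i <;> fin_cases j <;> simp [Matrix.mul_apply, Fin.sum_univ_three])
          (by ext i j; fin_cases i <;> fin_cases j <;> simp))
      have hτ' : τ.1.1 = !![0, 0, -1; 0, 1, 0; 1, 0, 0] := rfl
      have hs1 : s'.1.1 = !![1, 0; 0, -1] := rfl
      have hn1 : n'.1.1 = !![-1, 0; 0, -1] := rfl
      have hτ : τ * psiU hF s' = psiU hF n' * τ := by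
        refine Subtype.ext (Subtype.ext ?_)
        ext i j
        fin_cases i <;> fin_cases j <;>
          simp [hτ', hs1, hn1, psiU_coe, psi_val, mul3, Matrix.det_fin_two]
      have hB' : f B = (φ (psiU hF g' * τ⁻¹)) * f n' * (φ (psiU hF g' * τ⁻¹))⁻¹ := by
        show φ (psiU hF B) = φ (psiU hF g' * τ⁻¹) * φ (psiU hF n') * (φ (psiU hF g' * τ⁻¹))⁻¹
        rw [← map_inv, ← map_mul, ← map_mul]
        congr 1
        rw [show B = g' * s' * g'⁻¹ from eq_mul_inv_of_mul_eq (Subtype.ext hg), map_mul, map_mul,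
          map_inv, show psiU hF s' = τ⁻¹ * psiU hF n' * τ by
            rw [mul_assoc, ← hτ, inv_mul_cancel_left]]
        group
      rw [hB']
      exact mem_of_conj hT hn (hB' ▸ hmem B hB)
    have hgood : ∀ x : G, SR x → x ∈ (S : Subgroup G) → x ∈ T := by
      rintro x ⟨U, V, hU, hV, hxdef⟩ hx
      have hux : U * x * U⁻¹ = x⁻¹ := by
        rw [hxdef, inv_eq_of_mul_eq_one_right hU, _root_.mul_inv_rev, inv_eq_of_mul_eq_one_right hU,
          inv_eq_of_mul_eq_one_right hV, ← mul_assoc, hU, one_mul]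
      have hzx : IsPGroup 2 (Subgroup.zpowers x) := S.2.to_le (Subgroup.zpowers_le.2 hx)
      have hzu : IsPGroup 2 (Subgroup.zpowers U) := by
        rintro ⟨y, hy⟩
        obtain ⟨j, rfl⟩ := Subgroup.mem_zpowers_iff.1 hy
        refine ⟨1, Subtype.ext ?_⟩
        show (U ^ j) ^ 2 ^ 1 = 1
        rw [pow_one, pow_two, ← _root_.zpow_add, ← two_mul, _root_.zpow_mul, zpow_two, hU,
          _root_.one_zpow]
      have hnor : Subgroup.zpowers U ≤ Subgroup.normalizer (Subgroup.zpowers x : Set G) := by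
        rw [Subgroup.zpowers_le]
        refine S5318.mem_normalizer_of_conj_mem _ fun y hy => ?_
        obtain ⟨j, rfl⟩ := Subgroup.mem_zpowers_iff.1 hy
        rw [← conj_zpow, hux]
        exact zpow_mem (inv_mem (Subgroup.mem_zpowers x)) j
      obtain ⟨Q, hQ⟩ := (hzu.to_sup_of_normal_right' hzx hnor).exists_le_sylow
      obtain ⟨g, hg⟩ := MulAction.exists_smul_eq G Q S
      have hgm : ∀ y ∈ Subgroup.zpowers U ⊔ Subgroup.zpowers x, g * y * g⁻¹ ∈ (S : Subgroup G) := by
        intro y hy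
        rw [← hg]
        exact ⟨y, hQ hy, rfl⟩
      have hUm : U ∈ Subgroup.zpowers U ⊔ Subgroup.zpowers x :=
        Subgroup.mem_sup_left (Subgroup.mem_zpowers U)
      have hxm : x ∈ Subgroup.zpowers U ⊔ Subgroup.zpowers x :=
        Subgroup.mem_sup_right (Subgroup.mem_zpowers x)
      have hVm : V ∈ Subgroup.zpowers U ⊔ Subgroup.zpowers x := by
        rw [show V = U⁻¹ * x by rw [hxdef, inv_mul_cancel_left]]
        exact mul_mem (inv_mem hUm) hxm
      have hgU := hinv _ (hgm U hUm) (by rw [conj_mul, hU, mul_one, mul_inv_cancel])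
      have hgV := hinv _ (hgm V hVm) (by rw [conj_mul, hV, mul_one, mul_inv_cancel])
      have hgx : g * x * g⁻¹ ∈ T := by
        rw [hxdef, ← conj_mul]
        exact mul_mem hgU hgV
      have hb : g⁻¹ * (g * x * g⁻¹) * g⁻¹⁻¹ = x := by group
      exact hb ▸ mem_of_conj hT hgx (hb.symm ▸ hx)
    refine le_antisymm hT.1 ?_
    rw [← hSf]
    rintro _ ⟨x, hx, rfl⟩
    obtain ⟨a, ha, hdet, hsr⟩ := exists_detU hF h2 (x := x.1) ⟨hx, x.2⟩
    have h1 : f a ∈ T := hgood _ (hsr.map φ) (hmem a ha)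
    have hdet1 : (a⁻¹ * x).1.1.det = 1 := by
      have h := congrArg (fun X : GU 2 F q => X.1.1.det) (mul_inv_cancel_left a x)
      simp only [Subgroup.coe_mul, Units.val_mul, Matrix.det_mul] at h ⊢
      rw [hdet] at h
      exact mul_eq_left₀ (GeneralLinearGroup.det_ne_zero x.1) |>.1 h
    have hy : (a⁻¹ * x).1 ∈ P F := mul_mem (inv_mem ha) hx
    have h2' : f (a⁻¹ * x) ∈ T :=
      hgood _ ((exists_tauU hF h2 (x := (a⁻¹ * x).1) ⟨hy, (a⁻¹ * x).2⟩ hdet1).map f) (hmem _ hy)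
    have := mul_mem h1 h2'
    rwa [← map_mul, mul_inv_cancel_left] at this
  · intro g hg
    have hgn : g * f n' * g⁻¹ = f n' := by
      have hc' : ∀ s ∈ (S : Subgroup G), s * (g * f n' * g⁻¹) = g * f n' * g⁻¹ * s := by
        intro s hs
        have hs' : g⁻¹ * s * g ∈ (S : Subgroup G) := by
          simpa using (Subgroup.mem_normalizer_iff.1 (inv_mem hg) s).1 hs
        rw [← hSf] at hs'
        obtain ⟨y, -, hy⟩ := hs'
        have : s = g * f y * g⁻¹ := by rw [hy]; group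
        rw [this, conj_mul, conj_mul, ← map_mul, hncomm, map_mul]
      rcases hcentral _ ((Subgroup.mem_normalizer_iff.1 hg _).1 (hmem n' nM_mem_P)) hc'
        (by rw [conj_mul, ← map_mul, hn2, map_one, mul_one, mul_inv_cancel]) with h | h
      · exact absurd (hinj _ nM_mem_P (conj_eq_one_iff.1 h)) hn_ne
      · exact h
    obtain ⟨A, rfl⟩ := hsur g
    have hAz : A * psiU hF n' * A⁻¹ * (psiU hF n')⁻¹ ∈ Subgroup.center (SU 3 F q) := (hker _).1 (by
      rw [map_mul, map_mul, map_mul, map_inv, map_inv]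
      show φ A * f n' * (φ A)⁻¹ * (f n')⁻¹ = 1
      rw [hgn, mul_inv_cancel])
    set r := A * psiU hF n' * A⁻¹ * (psiU hF n')⁻¹ with hr
    have hr2 : r ^ 2 ^ 1 = 1 := by
      have hcomm : Commute r (psiU hF n') := (Subgroup.mem_center_iff.1 hAz _).symm
      have h1 : r * psiU hF n' = A * psiU hF n' * A⁻¹ := by rw [hr, inv_mul_cancel_right]
      have h2' : (r * psiU hF n') ^ 2 = 1 := by
        rw [h1, conj_pow, ← map_pow, pow_two, hn2, map_one, mul_one, mul_inv_cancel]
      rw [hcomm.mul_pow, ← map_pow, pow_two, pow_two, hn2, map_one, mul_one] at h2'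
      rw [pow_one, pow_two, h2']
    have hAc : A * psiU hF n' = psiU hF n' * A := by
      have h1 := eq_one_of_pow hr2 (center_SU3_pow hF h2 hAz)
      rw [hr, mul_inv_eq_one] at h1
      exact mul_inv_eq_iff_eq_mul.1 h1
    have hAc' : A.1 * psi nM = psi nM * A.1 := congrArg Subtype.val hAc
    have e02 := congrArg (fun X : SpecialLinearGroup (Fin 3) F => X.1 0 2) hAc'
    have e12 := congrArg (fun X : SpecialLinearGroup (Fin 3) F => X.1 1 2) hAc'
    have e20 := congrArg (fun X : SpecialLinearGroup (Fin 3) F => X.1 2 0) hAc'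
    have e21 := congrArg (fun X : SpecialLinearGroup (Fin 3) F => X.1 2 1) hAc'
    simp [psi_val, nM, mul3, Matrix.det_fin_two] at e02 e12 e20 e21
    have zero : ∀ {y : F}, (2 : F) * y = 0 → y = 0 := fun h => (mul_eq_zero.1 h).resolve_left h2
    have z02 : A.1.1 0 2 = 0 := zero (by linear_combination e02)
    have z12 : A.1.1 1 2 = 0 := zero (by linear_combination e12)
    have z20 : A.1.1 2 0 = 0 := zero (by linear_combination -e20)
    have z21 : A.1.1 2 1 = 0 := zero (by linear_combination -e21)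
    have hdA := A.1.2
    rw [Matrix.det_fin_three] at hdA
    simp [z02, z12, z20, z21] at hdA
    obtain ⟨σ, hσ⟩ := exists_frobHom hF
    have hAU := matrix_of_isU hF σ hσ (isU_of_mem_SU A)
    have hhU : IsU q !![A.1.1 0 0, A.1.1 0 1; A.1.1 1 0, A.1.1 1 1] := by
      refine isU_two σ hσ ?_ ?_ ?_ ?_
      · simpa [Matrix.mul_apply, Fin.sum_univ_three, z20, z21] using congrFun (congrFun hAU 0) 0
      · simpa [Matrix.mul_apply, Fin.sum_univ_three, z20, z21] using congrFun (congrFun hAU 0) 1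
      · simpa [Matrix.mul_apply, Fin.sum_univ_three, z20, z21] using congrFun (congrFun hAU 1) 0
      · simpa [Matrix.mul_apply, Fin.sum_univ_three, z20, z21] using congrFun (congrFun hAU 1) 1
    let h : GU 2 F q := mkGU hF _ hhU
    have hh : h.1.1 = !![A.1.1 0 0, A.1.1 0 1; A.1.1 1 0, A.1.1 1 1] := mkGU_coe hF _ _
    have hA : A = psiU hF h := by
      refine Subtype.ext (Subtype.ext ?_)
      ext i j
      fin_cases i <;> fin_cases j <;>
        simp [psiU_coe, psi_val, hh, z02, z12, z20, z21, Matrix.det_fin_two]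
      exact eq_inv_of_mul_eq_one_left (by linear_combination hdA)
    have hnor : ∀ x ∈ P F ⊓ GU 2 F q, h.1 * x * h.1⁻¹ ∈ P F := by
      rintro x ⟨hx, hxU⟩
      have h1 := (Subgroup.mem_normalizer_iff.1 hg _).1 (hmem ⟨x, hxU⟩ hx)
      rw [hA, ← hSf] at h1
      obtain ⟨x', hx', he⟩ := h1
      have heq : f (h * ⟨x, hxU⟩ * h⁻¹) = f x' := by
        rw [map_mul, map_mul, map_inv]; exact he.symm
      have hx'' : h * ⟨x, hxU⟩ * h⁻¹ = x' := by
        obtain ⟨e₁, he₁⟩ := hpow ⟨x, hxU⟩ hx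
        obtain ⟨e₂, he₂⟩ := hpow x' hx'
        have hk : psiU hF (h * ⟨x, hxU⟩ * h⁻¹) * (psiU hF x')⁻¹ ∈ Subgroup.center (SU 3 F q) :=
          (hker _).1 (by rw [map_mul, map_inv]; show f _ * (f x')⁻¹ = 1; rw [heq, mul_inv_cancel])
        set w := psiU hF (h * ⟨x, hxU⟩ * h⁻¹) * (psiU hF x')⁻¹ with hw
        apply psiU_injective hF
        rw [← mul_inv_eq_one, ← hw]
        refine eq_one_of_pow (e := e₁ + e₂) ?_ (center_SU3_pow hF h2 hk)
        have hcomm : Commute w (psiU hF x') := (Subgroup.mem_center_iff.1 hk _).symm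
        have h3 : (w * psiU hF x') ^ 2 ^ (e₁ + e₂) = 1 := by
          rw [hw, inv_mul_cancel_right, ← map_pow, conj_pow, pow_add, pow_mul, he₁, one_pow,
            mul_one, mul_inv_cancel, map_one]
        rwa [hcomm.mul_pow, ← map_pow, show x' ^ 2 ^ (e₁ + e₂) = 1 by
          rw [pow_add, mul_comm, pow_mul, he₂, one_pow], map_one, mul_one] at h3
      have : (h * ⟨x, hxU⟩ * h⁻¹).1 ∈ P F := hx''.symm ▸ hx'
      exact this
    set C := Subgroup.closure (((S : Subgroup G) : Set G) ∪ goodSet S)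
    have hmain : h.1 ∈ ((C.comap f).map (GU 2 F q).subtype) := by
      refine TwoFusionGL2.normalizer_P h2 hU h.2 hnor ?_ ?_
      · rintro x ⟨hx, hxU⟩
        exact ⟨⟨x, hxU⟩, Subgroup.subset_closure (Or.inl (hmem ⟨x, hxU⟩ hx)), rfl⟩
      · intro t htU ht
        refine ⟨⟨t, htU⟩, Subgroup.subset_closure (Or.inr (Or.inl
          (Subgroup.mem_centralizer_iff.2 fun s hs => ?_))), rfl⟩
        rw [← hSf] at hs
        obtain ⟨x, hx, rfl⟩ := hs
        rw [← map_mul, ← map_mul]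
        exact congrArg f (Subtype.ext (ht x.1 ⟨hx, x.2⟩))
    obtain ⟨h', hh', he⟩ := hmain
    rw [hA, show h = h' from Subtype.ext he.symm]
    exact hh'

end


/-- Let q be an odd prime power and F a field with q² elements. Then the 2-fusion system of PSU(3,q) (realised as the special unitary group of the standard Hermitian form over F modulo its centre) on a Sylow 2-subgroup is simple. -/
theorem result {F : Type*} [Field F] [Fintype F] (q : ℕ) (hq : Fintype.card F = q ^ 2) (hodd : q % 2 = 1) (S : Sylow 2 (Cfsg.PSU 3 F q)) :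
    (Cfsg.groupFusionSystem (S : Subgroup (Cfsg.PSU 3 F q))).IsSimple 2 := by
  classical
  have hqodd : Odd q := Nat.odd_iff.2 hodd
  have h2 : (2 : F) ≠ 0 := by
    intro h0
    have hdvd : addOrderOf (1 : F) ∣ Fintype.card F := addOrderOf_dvd_card
    have hc : addOrderOf (1 : F) = 2 :=
      addOrderOf_eq_prime (by rw [two_nsmul, one_add_one_eq_two, h0]) one_ne_zero
    rw [hc, hq] at hdvd
    exact Nat.not_even_iff_odd.2 hqodd.pow (even_iff_two_dvd.2 hdvd)
  have : Fact (Nat.Prime 2) := ⟨Nat.prime_two⟩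
  let π : Cfsg.SU 3 F q →* Cfsg.PSU 3 F q := QuotientGroup.mk' _
  have hsurπ : Function.Surjective π := QuotientGroup.mk'_surjective _
  have hkerπ : ∀ x, π x = 1 ↔ x ∈ Subgroup.center _ := fun x => QuotientGroup.eq_one_iff x
  have : Finite (Cfsg.PSU 3 F q) := Finite.of_surjective π hsurπ
  let P' := (P F).subgroupOf (GU 2 F q)
  have hP : IsPGroup 2 P' :=
    (isPGroup_P (F := F)).comap_of_injective (GU 2 F q).subtype Subtype.val_injective
  obtain ⟨Q, hQ⟩ := hP.exists_le_sylow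
  have hidxP : ¬ 2 ∣ P'.index := by
    have hQ2 : IsPGroup 2 ((Q : Subgroup (GU 2 F q)).map (GU 2 F q).subtype) :=
      IsPGroup.map Q.2 _
    have heq := TwoFusionGL2.maximal_P h2 (big hq h2) hQ2 (Subgroup.map_subtype_le _)
      (fun x hx => ⟨⟨x, hx.2⟩, hQ hx.1, rfl⟩)
    have hQP : (Q : Subgroup (GU 2 F q)) = P' := le_antisymm (fun x hx => by
      have := heq ▸ Subgroup.mem_map_of_mem (GU 2 F q).subtype hx
      exact this.1) hQ
    rw [← hQP]
    exact Q.not_dvd_index
  have hidx : ¬ 2 ∣ ((P'.map (psiU hq)).map π).index := by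
    intro hd
    have hd' := hd.trans (Subgroup.index_map_dvd _ hsurπ)
    rw [Subgroup.index_map, (MonoidHom.ker_eq_bot_iff _).2 (psiU_injective hq), sup_bot_eq] at hd'
    rcases Nat.prime_two.dvd_mul.1 hd' with h | h
    · exact hidxP h
    · have h1 := (psiU hq).range.card_mul_index
      rw [show Nat.card (psiU hq).range = Nat.card (GU 2 F q) from
        (Nat.card_congr ((MonoidHom.ofInjective (psiU_injective hq)).toEquiv)).symm,
        OrthUnitaryHerm.card_GU hq] at h1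
      have h3 := OrthUnitaryHerm.card_GU_eq_mul_card_SU (n := 3) hq (by norm_num)
      rw [← h1, OrthUnitaryHerm.card_GU hq] at h3
      simp only [Finset.prod_range_succ, Finset.prod_range_zero, one_mul] at h3
      norm_num at h3
      obtain ⟨j, hj⟩ := h
      rw [hj] at h3
      have hq1 : 2 ≤ q := OrthUnitaryHerm.two_le_q hq
      have hp1 : 0 < q ^ 2 - 1 := Nat.sub_pos_of_lt (Nat.one_lt_pow two_ne_zero hq1)
      have h4 : (q + 1) * (2 * j) = q ^ 2 * (q ^ 3 + 1) := by
        refine Nat.eq_of_mul_eq_mul_left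
          (Nat.mul_pos (Nat.mul_pos (show 0 < q by omega) (show 0 < q + 1 by omega)) hp1) ?_
        calc q * (q + 1) * (q ^ 2 - 1) * ((q + 1) * (2 * j))
            = (q + 1) * (q * ((q + 1) * (q ^ 2 - 1)) * (2 * j)) := by ring
          _ = q ^ 3 * ((q + 1) * (q ^ 2 - 1) * (q ^ 3 + 1)) := h3
          _ = q * (q + 1) * (q ^ 2 - 1) * (q ^ 2 * (q ^ 3 + 1)) := by ring
      obtain ⟨r, hr⟩ := hqodd
      have h5 : q ^ 2 * (q ^ 3 + 1) = (q + 1) * ((2 * r + 1) ^ 2 * (4 * r ^ 2 + 2 * r + 1)) := by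
        subst hr; ring
      rw [h5] at h4
      have h6 := Nat.eq_of_mul_eq_mul_left (Nat.succ_pos q) h4
      have : Odd ((2 * r + 1) ^ 2 * (4 * r ^ 2 + 2 * r + 1)) := (show Odd (2*r+1) from ⟨r, rfl⟩).pow.mul
        ⟨2 * r ^ 2 + r, by ring⟩
      rw [← h6] at this
      exact Nat.not_odd_iff_even.2 (even_two_mul j) this
  obtain ⟨g, hg⟩ := MulAction.exists_smul_eq (Cfsg.PSU 3 F q)
    (((hP.map (psiU hq)).map π).toSylow hidx) S
  refine core hq h2 ((MulAut.conj g).toMonoidHom.comp π)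
    (fun y => ?_) (fun x => ?_) S ?_
  · obtain ⟨x, hx⟩ := hsurπ (MulAut.conj g⁻¹ y)
    exact ⟨x, by rw [MonoidHom.comp_apply, hx]; simp [mul_assoc]⟩
  · rw [MonoidHom.comp_apply, MulEquiv.coe_toMonoidHom, map_eq_one_iff _ (MulAut.conj g).injective,
      hkerπ]
  · rw [← hg, ← Subgroup.map_map]
    rfl

end Cfsg.Agent.S5319
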