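import Cfsg.Statements.S5320
import Cfsg.Agent.Lib.FusionSimpleCrit
import Cfsg.Agent.Lib.SympTwoBlock

set_option autoImplicit false
open Cfsg

namespace Cfsg.Agent.S5320

open Matrix Cfsg.Agent.FusionSimpleCrit Cfsg.Agent.SympTwoQuat Cfsg.Agent.SympTwoBlock
open scoped MatrixGroups

section
variable {F : Type*} [Field F]

local notation "A2" => Matrix (Fin 2) (Fin 2) F
local notation "B2" => Matrix (Fin 2) (Fin 2) (Matrix (Fin 2) (Fin 2) F)
local notation "L2" => SpecialLinearGroup (Fin 2) F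

/-- Coordinates: `(k, 0) ↦ inl k`, `(k, 1) ↦ inr k`. -/
def coordEquiv : Fin 2 × Fin 2 ≃ Fin 2 ⊕ Fin 2 where
  toFun x := if x.2 = 0 then Sum.inl x.1 else Sum.inr x.1
  invFun y := Sum.elim (fun k => (k, 0)) (fun k => (k, 1)) y
  left_inv x := by
    obtain ⟨k, l⟩ := x
    fin_cases l <;> simp
  right_inv y := by
    rcases y with k | k <;> simp

/-- Block matrices as matrices on `Fin 2 ⊕ Fin 2`. -/
noncomputable def flat : B2 ≃+* Matrix (Fin 2 ⊕ Fin 2) (Fin 2 ⊕ Fin 2) F :=
  (Matrix.compRingEquiv (Fin 2) (Fin 2) F).trans (Matrix.reindexAlgEquiv F F coordEquiv).toRingEquiv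

theorem flat_apply (Y : B2) (x y : Fin 2 ⊕ Fin 2) :
    flat Y x y = Y (coordEquiv.symm x).1 (coordEquiv.symm y).1 (coordEquiv.symm x).2 (coordEquiv.symm y).2 :=
  rfl

/-- The symplectic matrix in block form. -/
def jB : B2 := !![(jM : L2).1, 0; 0, (jM : L2).1]

theorem flat_jB : flat (jB : B2) = Matrix.J (Fin 2) F := by
  ext x y
  rw [flat_apply]
  rcases x with i | i <;> rcases y with j | j <;> fin_cases i <;> fin_cases j <;>
    simp [coordEquiv, jB, jM_val, Matrix.J]

theorem flat_transpose (Y : B2) :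
    flat (Matrix.of fun k l => (Y l k).transpose) = (flat Y).transpose := by
  ext x y
  rfl

theorem jB_trB (Y : B2) :
    jB * (Matrix.of fun k l => (Y l k).transpose) = dag Y * jB := by
  have key : ∀ a : A2, (jM : L2).1 * a.transpose = adj a * (jM : L2).1 := fun a => by
    refine extA ?_ ?_ ?_ ?_ <;> simp [jM_val, adj, Matrix.mul_apply, Matrix.vecMul, dotProduct, Fin.sum_univ_two]
  ext1 k l
  fin_cases k <;> fin_cases l <;> simp [jB, dag, Matrix.mul_apply, Fin.sum_univ_two, key]

theorem mem_symp_iff (Y : B2) :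
    flat Y ∈ Matrix.symplecticGroup (Fin 2) F ↔ Y * dag Y = 1 := by
  rw [SymplecticGroup.mem_iff, ← flat_jB, ← flat_transpose, ← map_mul, ← map_mul,
    EmbeddingLike.apply_eq_iff_eq, mul_assoc, jB_trB, ← mul_assoc]
  have hj : (jB : B2) * jB = -1 := by
    ext1 k l
    fin_cases k <;> fin_cases l <;>
      (simp [jB, Matrix.mul_apply, Fin.sum_univ_two]) <;>
      refine extA ?_ ?_ ?_ ?_ <;> simp [jM_val, Matrix.mul_apply, Fin.sum_univ_two]
  refine ⟨fun h => ?_, fun h => by rw [h, one_mul]⟩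
  have := congrArg (fun X => X * -jB) h
  simpa [mul_assoc, hj] using this

/-- `UQ` as the symplectic group. -/
noncomputable def toSp : UQ F →* Matrix.symplecticGroup (Fin 2) F where
  toFun Y := ⟨flat Y.1.1, (mem_symp_iff _).2 Y.2⟩
  map_one' := Subtype.ext (map_one flat)
  map_mul' X Y := Subtype.ext (map_mul flat X.1.1 Y.1.1)

theorem toSp_bijective : Function.Bijective (toSp (F := F)) := by
  refine ⟨fun X Y h => Subtype.ext (Units.ext (flat.injective (congrArg Subtype.val h))), fun A => ?_⟩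
  have hA : flat (flat.symm A.1) = A.1 := flat.apply_symm_apply _
  have h : flat.symm A.1 * dag (flat.symm A.1) = 1 := (mem_symp_iff _).1 (by rw [hA]; exact A.2)
  exact ⟨⟨⟨flat.symm A.1, dag (flat.symm A.1), h, mul_eq_one_comm.1 h⟩, h⟩, Subtype.ext hA⟩

variable [Finite F]

/-- The preimage of a Sylow `2`-subgroup. -/
noncomputable def W (F : Type*) [Field F] [Finite F] : Subgroup (UQ F) where
  carrier := {Y | ∃ a b : SpecialLinearGroup (Fin 2) F, a ∈ Q F ∧ b ∈ Q F ∧
    (Y = dgl (a, b) ∨ Y = dgl (a, b) * sw)}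
  one_mem' := ⟨1, 1, one_mem _, one_mem _, Or.inl (map_one dgl).symm⟩
  mul_mem' := fun {X Y} hX hY => by
    obtain ⟨a, b, ha, hb, rfl | rfl⟩ := hX <;> obtain ⟨c, d, hc, hd, rfl | rfl⟩ := hY
    · exact ⟨a * c, b * d, mul_mem ha hc, mul_mem hb hd, Or.inl (map_mul dgl (a, b) (c, d)).symm⟩
    · exact ⟨a * c, b * d, mul_mem ha hc, mul_mem hb hd, Or.inr (by
        rw [← mul_assoc, ← map_mul]; rfl)⟩
    · exact ⟨a * d, b * c, mul_mem ha hd, mul_mem hb hc, Or.inr (by
        rw [mul_assoc, sw_dgl, ← mul_assoc, ← map_mul]; rfl)⟩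
    · exact ⟨a * d, b * c, mul_mem ha hd, mul_mem hb hc, Or.inl (by
        rw [mul_assoc, ← mul_assoc sw, sw_dgl, mul_assoc, sw_sq, mul_one, ← map_mul]; rfl)⟩
  inv_mem' := fun {X} hX => by
    obtain ⟨a, b, ha, hb, rfl | rfl⟩ := hX
    · exact ⟨a⁻¹, b⁻¹, inv_mem ha, inv_mem hb, Or.inl (map_inv dgl (a, b)).symm⟩
    · exact ⟨b⁻¹, a⁻¹, inv_mem hb, inv_mem ha, Or.inr (by
        rw [_root_.mul_inv_rev, inv_eq_of_mul_eq_one_right sw_sq, ← map_inv, sw_dgl]; rfl)⟩

theorem dgl_mem_W {a b : L2} (ha : a ∈ Q F) (hb : b ∈ Q F) : dgl (a, b) ∈ W F :=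
  ⟨a, b, ha, hb, Or.inl rfl⟩

theorem sw_mem_W : (sw : UQ F) ∈ W F :=
  ⟨1, 1, one_mem _, one_mem _, Or.inr (by
    rw [show ((1 : L2), (1 : L2)) = 1 from rfl, map_one, one_mul])⟩

theorem mOne_mem_W : (mOne : UQ F) ∈ W F := dgl_mem_W negOne_mem negOne_mem

theorem isPGroup_W : IsPGroup 2 (W F) := by
  rintro ⟨Y, hY⟩
  suffices ∃ e : ℕ, Y ^ 2 ^ e = 1 by
    obtain ⟨e, he⟩ := this
    exact ⟨e, Subtype.ext he⟩
  have key : ∀ a b : L2, a ∈ Q F → b ∈ Q F → ∃ e : ℕ, (dgl (a, b)) ^ 2 ^ e = 1 := by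
    intro a b ha hb
    obtain ⟨e, he⟩ := two_pow_of_mem ha
    obtain ⟨f, hf⟩ := two_pow_of_mem hb
    refine ⟨e + f, ?_⟩
    rw [← map_pow, Prod.pow_mk, pow_add, pow_mul, he, one_pow, mul_comm (2 ^ e), pow_mul, hf,
      one_pow, Prod.mk_one_one, map_one]
  obtain ⟨a, b, ha, hb, rfl | rfl⟩ := hY
  · exact key a b ha hb
  · obtain ⟨e, he⟩ := key (a * b) (b * a) (mul_mem ha hb) (mul_mem hb ha)
    refine ⟨e + 1, ?_⟩
    rw [pow_succ', pow_mul, pow_two, show dgl (a, b) * sw * (dgl (a, b) * sw) = dgl (a * b, b * a) by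
      rw [mul_assoc, ← mul_assoc sw, sw_dgl, mul_assoc, sw_sq, mul_one, ← map_mul]; rfl, he]

theorem pm_alg {i : A2} (hi : i * i = -1) :
    (1 + i) * (1 - i) = (2 : F) • (1 : A2) ∧ (1 - i) * (1 + i) = (2 : F) • (1 : A2) ∧
    (1 + i) * (1 + i) = (2 : F) • i ∧ (1 - i) * (1 - i) = -((2 : F) • i) ∧
    i * (1 - i) = 1 + i ∧ i * (1 + i) = -(1 - i) ∧ (1 - i) * i = 1 + i ∧ (1 + i) * i = -(1 - i) := by
  simp only [two_smul, add_mul, mul_add, sub_mul, mul_sub, one_mul, mul_one, hi]
  refine ⟨?_, ?_, ?_, ?_, ?_, ?_, ?_, ?_⟩ <;> abel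

universe v

theorem core {G : Type v} [Group G] [Finite G] [Fact (Nat.Prime 2)] (h2 : (2 : F) ≠ 0)
    (φ : UQ F →* G) (hsur : Function.Surjective φ) (hker : ∀ x, φ x = 1 ↔ x ∈ Subgroup.center _)
    (S : Sylow 2 G) : (Cfsg.groupFusionSystem (S : Subgroup G)).IsSimple 2 := by
  classical
  set h : F := 2⁻¹ with hh
  have hh2 : 2 * h = 1 := mul_inv_cancel₀ h2
  have hneg1 : (negOne : L2) ≠ 1 := negOne_ne_one h2
  let z : UQ F := dgl (1, negOne)
  have hzW : z ∈ W F := dgl_mem_W (one_mem _) negOne_mem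
  have hz2 : z * z = 1 := by
    show dgl _ * dgl _ = 1
    rw [← map_mul, Prod.mk_mul_mk, negOne_sq, mul_one, Prod.mk_one_one, map_one]
  have hker' : ∀ x, φ x = 1 → x = 1 ∨ x = mOne := fun x hx => center_eq h2 ((hker x).1 hx)
  have hφm : φ (mOne : UQ F) = 1 :=
    (hker _).2 (Subgroup.mem_center_iff.2 fun Y => mOne_comm Y)
  have heq : ∀ X Y : UQ F, φ X = φ Y → X = Y ∨ X = mOne * Y := by
    intro X Y hXY
    rcases hker' (X * Y⁻¹) (by rw [map_mul, map_inv, hXY, mul_inv_cancel]) with e | e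
    · exact Or.inl (mul_inv_eq_one.1 e)
    · exact Or.inr (mul_inv_eq_iff_eq_mul.1 e)
  have hpre : ∀ Y : UQ F, φ Y ∈ (W F).map φ → Y ∈ W F := by
    rintro Y ⟨X, hX, hXY⟩
    rcases heq Y X hXY.symm with rfl | rfl
    · exact hX
    · exact mul_mem mOne_mem_W hX
  have hzne : φ z ≠ 1 := fun e => by
    rcases hker' z e with e | e
    · exact hneg1 (congrArg Prod.snd (dgl_injective (e.trans (map_one dgl).symm)))
    · exact hneg1 (congrArg Prod.fst (dgl_injective (show dgl (1, negOne) = dgl (negOne, negOne) from e))).symm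
  have hcentral : ∀ w ∈ (W F).map φ, (∀ s ∈ (W F).map φ, s * w = w * s) → w = 1 ∨ w = φ z := by
    rintro _ ⟨Y, hY, rfl⟩ hc
    have hc' : ∀ X ∈ W F, X * Y = Y * X ∨ X * Y = mOne * (Y * X) := fun X hX =>
      heq _ _ (by rw [map_mul, map_mul]; exact hc _ (Subgroup.mem_map_of_mem φ hX))
    obtain ⟨a, b, ha, hb, rfl | rfl⟩ := hY
    · have key : ∀ q ∈ Q F, q * a = a * q ∧ q * b = b * q := by
        intro q hq
        constructor
        · rcases hc' _ (dgl_mem_W hq (one_mem _)) with e | e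
          · rw [← map_mul, ← map_mul] at e
            simpa using congrArg Prod.fst (dgl_injective e)
          · rw [mOne, ← map_mul, ← map_mul, ← map_mul] at e
            have e2 := congrArg Prod.snd (dgl_injective e)
            simp only [Prod.snd_mul, one_mul, mul_one] at e2
            exact absurd (mul_eq_right.1 e2.symm) hneg1
        · rcases hc' _ (dgl_mem_W (one_mem _) hq) with e | e
          · rw [← map_mul, ← map_mul] at e
            simpa using congrArg Prod.snd (dgl_injective e)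
          · rw [mOne, ← map_mul, ← map_mul, ← map_mul] at e
            have e2 := congrArg Prod.fst (dgl_injective e)
            simp only [Prod.fst_mul, one_mul, mul_one] at e2
            exact absurd (mul_eq_right.1 e2.symm) hneg1
      rcases center_Q h2 (fun q hq => (key q hq).1.symm) with rfl | rfl <;>
        rcases center_Q h2 (fun q hq => (key q hq).2.symm) with rfl | rfl
      · exact Or.inl (by rw [show ((1 : L2), (1 : L2)) = 1 from rfl, map_one, map_one])
      · exact Or.inr rfl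
      · refine Or.inr ?_
        have : dgl (negOne, 1) = mOne * z := by
          rw [mOne, ← map_mul, Prod.mk_mul_mk, mul_one, negOne_sq]
        rw [this, map_mul, hφm, one_mul]
      · exact Or.inl hφm
    · exfalso
      have hJ : dgl (jM, 1) ∈ W F := dgl_mem_W jM_mem (one_mem _)
      have hYJ : dgl (a, b) * sw * dgl (jM, 1) = dgl (a, b * jM) * sw := by
        rw [mul_assoc, sw_dgl, ← mul_assoc, ← map_mul, Prod.mk_mul_mk, mul_one]
      rcases hc' _ hJ with e | e
      · rw [hYJ, ← mul_assoc, ← map_mul, mul_left_inj] at e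
        have e1 := congrArg Prod.fst (dgl_injective e)
        simp only [Prod.fst_mul] at e1
        have := congrArg (fun X : L2 => X.1 0 1) (mul_eq_right.1 e1)
        simp [jM_val] at this
      · rw [hYJ, ← mul_assoc, ← map_mul, mOne, ← mul_assoc, ← map_mul, mul_left_inj] at e
        have e1 := congrArg Prod.fst (dgl_injective e)
        simp only [Prod.fst_mul] at e1
        have := congrArg (fun X : L2 => X.1 0 1) (mul_right_cancel e1)
        simp [jM_val, negOne_val] at this
  have hlift : ∀ y : G, (∀ w ∈ (W F).map φ, y * w * y⁻¹ ∈ (W F).map φ) →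
      (∀ w ∈ (W F).map φ, y⁻¹ * w * y ∈ (W F).map φ) →
      ∃ a : L2, ∃ X ∈ W F, (∀ q ∈ Q F, a * q * a⁻¹ ∈ Q F) ∧ y = φ (dgl (a, a)) * φ X := by
    intro y hy hy'
    have hzz : y * φ z * y⁻¹ = φ z := by
      refine (hcentral _ (hy _ (Subgroup.mem_map_of_mem φ hzW)) fun s hs => ?_).resolve_left
        fun e => hzne (conj_eq_one_iff.1 e)
      obtain ⟨X, hX, hXs⟩ := hy' s hs
      have hXz : φ X * φ z = φ z * φ X := by
        obtain ⟨c, d, hc, hd, rfl | rfl⟩ := hX
        · rw [← map_mul φ, ← map_mul φ]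
          refine congrArg φ ?_
          show dgl (c, d) * dgl (1, negOne) = dgl (1, negOne) * dgl (c, d)
          rw [← map_mul, ← map_mul, Prod.mk_mul_mk, Prod.mk_mul_mk, negOne_comm, one_mul, mul_one]
        · have e : dgl (c, d) * sw * z = mOne * (z * (dgl (c, d) * sw)) := by
            show dgl (c, d) * sw * dgl (1, negOne) = _
            rw [mul_assoc, sw_dgl, ← mul_assoc, ← map_mul, mOne, ← mul_assoc, ← mul_assoc,
              show (z : UQ F) = dgl (1, negOne) from rfl, ← map_mul, ← map_mul]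
            congr 2
            refine Prod.ext ?_ ?_
            · simp [negOne_comm]
            · simp [← mul_assoc, negOne_sq]
          rw [← map_mul, ← map_mul, e, map_mul, hφm, one_mul]
      rw [hXs] at hXz
      calc s * (y * φ z * y⁻¹) = y * (y⁻¹ * s * y * φ z) * y⁻¹ := by group
        _ = y * (φ z * (y⁻¹ * s * y)) * y⁻¹ := by rw [hXz]
        _ = y * φ z * y⁻¹ * s := by group
    obtain ⟨Y, rfl⟩ := hsur y
    obtain ⟨a, b, hab⟩ := dgl_of_comm h2 (heq (Y * z) (z * Y) (by
      rw [map_mul, map_mul]; exact mul_inv_eq_iff_eq_mul.1 hzz))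
    obtain ⟨X₀, hX₀, hYX⟩ : ∃ X₀ ∈ W F, Y = dgl (a, b) * X₀ := by
      rcases hab with rfl | rfl
      · exact ⟨1, one_mem _, (mul_one _).symm⟩
      · exact ⟨sw, sw_mem_W, rfl⟩
    have hn : ∀ X ∈ W F, dgl (a, b) * X * (dgl (a, b))⁻¹ ∈ W F := by
      intro X hX
      apply hpre
      have := hy _ (Subgroup.mem_map_of_mem φ (mul_mem (mul_mem (inv_mem hX₀) hX) hX₀))
      rw [← map_inv, ← map_mul, ← map_mul, hYX] at this
      simpa [mul_assoc] using this
    have hq : ∀ q ∈ Q F, a * q * a⁻¹ ∈ Q F := by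
      intro q hq
      obtain ⟨c, d, hc, -, e | e⟩ := hn _ (dgl_mem_W hq (one_mem _))
      · rw [← map_inv, ← map_mul, ← map_mul] at e
        have e1 := congrArg Prod.fst (dgl_injective e)
        simp only [Prod.fst_mul, Prod.fst_inv] at e1
        exact e1 ▸ hc
      · exfalso
        rw [← map_inv, ← map_mul, ← map_mul] at e
        have e1 := congrArg (fun Y : UQ F => Y.1.1 0 0) e
        simp [dgl_val, sw_val, Matrix.mul_apply, Fin.sum_univ_two] at e1
        have := ((a * q * a⁻¹ : L2)).2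
        rw [show (a * q * a⁻¹ : L2).1 = a.1 * q.1 * (a⁻¹).1 from rfl] at this
        simp [e1] at this
    have hba : a⁻¹ * b ∈ Q F := by
      obtain ⟨c, d, hc, -, e | e⟩ := hn _ sw_mem_W
      · exfalso
        rw [mul_assoc, ← map_inv, sw_dgl, ← mul_assoc, ← map_mul] at e
        have e1 := congrArg (fun Y : UQ F => Y.1.1 0 0) e
        simp [dgl_val, sw_val, Matrix.mul_apply, Fin.sum_univ_two] at e1
        have := c.2
        rw [← e1] at this
        simp at this
      · rw [mul_assoc, ← map_inv, sw_dgl, ← mul_assoc, ← map_mul, mul_left_inj] at e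
        have e1 := congrArg Prod.fst (dgl_injective e)
        simp only [Prod.fst_mul, Prod.fst_inv, Prod.snd_inv] at e1
        -- `a * b⁻¹ ∈ Q`, conjugate it back by `a`
        have h1 : a * b⁻¹ ∈ Q F := e1 ▸ hc
        have h3 : a ∈ Subgroup.normalizer (Q F : Set L2) :=
          S5318.mem_normalizer_of_conj_mem _ hq
        have h4 := (Subgroup.mem_normalizer_iff.1 (inv_mem h3) _).1 (inv_mem h1)
        simpa [mul_assoc] using h4
    refine ⟨a, dgl (1, a⁻¹ * b) * X₀, mul_mem (dgl_mem_W (one_mem _) hba) hX₀, hq, ?_⟩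
    rw [← map_mul, hYX, ← mul_assoc, ← map_mul, Prod.mk_mul_mk, mul_one, mul_inv_cancel_left]
  -- `φ(W)` is a Sylow subgroup
  have hP : IsPGroup 2 ((W F).map φ) := isPGroup_W.map φ
  obtain ⟨S₀, hS₀⟩ := hP.exists_le_sylow
  have hS₀eq : (W F).map φ = (S₀ : Subgroup G) := by
    by_contra hne
    have hnil := S₀.2.isNilpotent
    have hlt : ((W F).map φ).subgroupOf S₀ < ⊤ := by
      rw [lt_top_iff_ne_top, Ne, Subgroup.subgroupOf_eq_top]
      exact fun h => hne (le_antisymm hS₀ h)
    obtain ⟨y, hyn, hyP⟩ := SetLike.exists_of_lt (Group.normalizerCondition_of_isNilpotent _ hlt)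
    have hy : ∀ w ∈ (W F).map φ, y.1 * w * y.1⁻¹ ∈ (W F).map φ := fun w hw =>
      (Subgroup.mem_normalizer_iff.1 hyn ⟨w, hS₀ hw⟩).1 hw
    have hy' : ∀ w ∈ (W F).map φ, y.1⁻¹ * w * y.1 ∈ (W F).map φ := fun w hw => by
      have := (Subgroup.mem_normalizer_iff.1 (inv_mem hyn) ⟨w, hS₀ hw⟩).1 hw
      simpa [Subgroup.mem_subgroupOf] using this
    obtain ⟨a, X, hX, ha, hya⟩ := hlift y.1 hy hy'
    apply hyP
    rw [Subgroup.mem_subgroupOf, hya]
    refine mul_mem ?_ (Subgroup.mem_map_of_mem φ hX)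
    refine Subgroup.mem_map_of_mem φ ?_
    suffices a ∈ Q F from dgl_mem_W this this
    rcases normalizer_Q h2 ha with h' | ⟨X', t, -, -, -, htn, -, hta, ht3⟩
    · exact h'
    have hmem : φ (dgl (a, a)) ∈ (S₀ : Subgroup G) := by
      rw [show φ (dgl (a, a)) = y.1 * (φ X)⁻¹ by rw [hya, mul_inv_cancel_right]]
      exact mul_mem y.2 (inv_mem (hS₀ (Subgroup.mem_map_of_mem φ hX)))
    obtain ⟨e, he⟩ := S₀.2 ⟨_, hmem⟩
    have he' : φ (dgl (a, a) ^ 2 ^ e) = 1 := by
      rw [map_pow]; exact congrArg Subtype.val he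
    have hae : a ^ 2 ^ (e + 1) = 1 := by
      rw [pow_succ, pow_mul, pow_two]
      rcases hker' _ he' with e' | e'
      · rw [← map_pow] at e'
        have := congrArg Prod.fst (dgl_injective (e'.trans (map_one dgl).symm))
        simp only [Prod.pow_fst, Prod.fst_one] at this
        rw [this, one_mul]
      · rw [← map_pow, mOne] at e'
        have := congrArg Prod.fst (dgl_injective e')
        simp only [Prod.pow_fst] at this
        rw [this, negOne_sq]
    have ha3 : a ^ 3 ∈ Q F := by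
      rw [show a ^ 3 = t * (t⁻¹ * a) * t⁻¹ * (t * (t * (t⁻¹ * a) * t⁻¹) * t⁻¹) * (t * t * t * (t⁻¹ * a)) by
        simp only [pow_succ, pow_zero, one_mul]; group]
      exact mul_mem (mul_mem (htn _ hta) (htn _ (htn _ hta))) (mul_mem ht3 hta)
    have hg : Nat.gcd (2 ^ (e + 1)) 3 = 1 := (show Nat.Coprime 2 3 by norm_num).pow_left _
    have hbz := Nat.gcd_eq_gcd_ab (2 ^ (e + 1)) 3
    rw [hg] at hbz
    rw [show a = (a ^ 2 ^ (e + 1)) ^ Nat.gcdA (2 ^ (e + 1)) 3 *
        (a ^ 3) ^ Nat.gcdB (2 ^ (e + 1)) 3 by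
      rw [← zpow_natCast a (2 ^ (e + 1)), ← zpow_natCast a 3, ← _root_.zpow_mul, ← _root_.zpow_mul,
        ← _root_.zpow_add, ← hbz]
      simp, hae, _root_.one_zpow, one_mul]
    exact (Q F).zpow_mem ha3 _
  obtain ⟨g₀, hg₀⟩ := MulAction.exists_smul_eq G S₀ S
  let c₀ : G →* G := (MulAut.conj g₀).toMonoidHom
  have hc₀ : Function.Injective c₀ := (MulAut.conj g₀).injective
  let f : UQ F →* G := c₀.comp φ
  have hSf : (W F).map f = (S : Subgroup G) := by
    rw [← hg₀, ← Subgroup.map_map, hS₀eq]; rfl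
  have hfsur : Function.Surjective f := fun y => by
    obtain ⟨x, hx⟩ := hsur (MulAut.conj g₀⁻¹ y)
    exact ⟨x, by simp [f, c₀, hx, mul_assoc]⟩
  have hfker : ∀ x, φ x = 1 ↔ f x = 1 := fun x => (map_eq_one_iff c₀ hc₀).symm
  have hfeq : ∀ X Y : UQ F, f X = f Y → X = Y ∨ X = mOne * Y := fun X Y e => heq X Y (hc₀ e)
  have hmem : ∀ X ∈ W F, f X ∈ (S : Subgroup G) := fun X hX =>
    hSf ▸ Subgroup.mem_map_of_mem f hX
  have hfm : f (mOne : UQ F) = 1 := (hfker _).1 hφm
  apply isSimple_of_closed_gen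
  · intro hb
    have := hmem z hzW
    rw [hb, Subgroup.mem_bot] at this
    exact hzne ((hfker z).2 this)
  · intro T hT hne
    obtain ⟨w, hwT, hw1, hwS, hwc⟩ := exists_central_mem hT hne
    rw [← hSf] at hwS
    obtain ⟨X, hX, rfl⟩ := hwS
    have hzT : f z ∈ T := by
      rcases hcentral (φ X) (Subgroup.mem_map_of_mem φ hX) (by
        rintro _ ⟨X', hX', rfl⟩
        exact hc₀ (by rw [map_mul, map_mul]; exact hwc _ (hmem X' hX'))) with e | e
      · exact absurd ((hfker X).1 e) hw1
      · rw [show f z = f X from congrArg c₀ e.symm]; exact hwT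
    have hconj : ∀ u v : UQ F, f u ∈ T → v * u * v⁻¹ ∈ W F → f (v * u * v⁻¹) ∈ T := by
      intro u v hu hv
      rw [map_mul, map_mul, map_inv]
      refine mem_of_conj hT hu ?_
      rw [← map_inv, ← map_mul, ← map_mul]
      exact hmem _ hv
    let M₀ : A2 := !![h, 0; 0, 1]
    have hM : M₀ * adj M₀ = h • (1 : A2) := by
      refine extA ?_ ?_ ?_ ?_ <;> simp [M₀, adj]
    have hhh : h • (1 : A2) + h • (1 : A2) = 1 := by
      rw [← add_smul, ← two_mul, hh2, one_smul]
    let g : UQ F := mkQ M₀ M₀ M₀ (-M₀) (by rw [hM, hhh]) (by rw [adj_neg, mul_neg, add_neg_cancel])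
      (by rw [neg_mul, add_neg_cancel]) (by rw [adj_neg, neg_mul_neg, hM, hhh])
    have hgz : g * z = sw * g := extQ
      (by simp [g, z, dgl_val, sw_val, negOne_eq, Matrix.mul_apply, Matrix.vecMul, dotProduct, Fin.sum_univ_two])
      (by simp [g, z, dgl_val, sw_val, negOne_eq, Matrix.mul_apply, Matrix.vecMul, dotProduct, Fin.sum_univ_two])
      (by simp [g, z, dgl_val, sw_val, negOne_eq, Matrix.mul_apply, Matrix.vecMul, dotProduct, Fin.sum_univ_two])
      (by simp [g, z, dgl_val, sw_val, negOne_eq, Matrix.mul_apply, Matrix.vecMul, dotProduct, Fin.sum_univ_two])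
    have hswT : f sw ∈ T := by
      have e : g * z * g⁻¹ = sw := by rw [hgz, mul_inv_cancel_right]
      exact e ▸ hconj z g hzT (e.symm ▸ sw_mem_W)
    have hanti : ∀ q ∈ Q F, f (dgl (q, q⁻¹)) ∈ T := by
      intro q hq
      have e : dgl (q, 1) * sw * (dgl (q, 1))⁻¹ = dgl (q, q⁻¹) * sw := by
        rw [← map_inv, mul_assoc, sw_dgl, ← mul_assoc, ← map_mul]
        simp
      have h1 := hconj sw (dgl (q, 1)) hswT (by
        rw [e]; exact mul_mem (dgl_mem_W hq (inv_mem hq)) sw_mem_W)
      rw [e, map_mul] at h1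
      have := mul_mem h1 (inv_mem hswT)
      rwa [mul_inv_cancel_right] at this
    have hij : ∀ u v : L2, u ∈ Q F → v ∈ Q F → u * u = negOne → v * v = negOne →
        f (dgl (u, v)) ∈ T := by
      intro u v hu hv hu' hv'
      obtain ⟨g1, hg1⟩ := exists_conj_jM h2 hu'
      obtain ⟨g2, hg2⟩ := exists_conj_jM h2 hv'
      obtain ⟨g3, hg3⟩ := exists_conj_jM (x := (jM : L2)⁻¹) h2 (by
        rw [← _root_.mul_inv_rev, jM_sq, inv_eq_of_mul_eq_one_right negOne_sq])
      have e : dgl (g1, g2 * g3⁻¹) * dgl (jM, jM⁻¹) * (dgl (g1, g2 * g3⁻¹))⁻¹ = dgl (u, v) := by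
        rw [← map_inv, ← map_mul, ← map_mul, hg1, hg2, hg3]
        congr 1
        refine Prod.ext rfl ?_
        show g2 * g3⁻¹ * (g3 * jM * g3⁻¹) * (g2 * g3⁻¹)⁻¹ = g2 * jM * g2⁻¹
        group
      rw [← e]
      exact hconj _ _ (hanti _ jM_mem) (by rw [e]; exact dgl_mem_W hu hv)
    have hleft : ∀ q ∈ Q F, f (dgl (q, 1)) ∈ T := by
      intro q hq
      obtain ⟨u, v, hu, hv, hu', hv', rfl⟩ := exists_sq_mul h2 hq
      have h1 := mul_mem (hij u jM hu jM_mem hu' jM_sq) (hij v jM⁻¹ hv (inv_mem jM_mem) hv' (by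
        rw [← _root_.mul_inv_rev, jM_sq, inv_eq_of_mul_eq_one_right negOne_sq]))
      rwa [← map_mul, ← map_mul, Prod.mk_mul_mk, mul_inv_cancel] at h1
    refine le_antisymm hT.1 ?_
    rw [← hSf]
    rintro _ ⟨Y, ⟨a, b, ha, hb, hY⟩, rfl⟩
    have hab : f (dgl (a, b)) ∈ T := by
      have hr : f (dgl ((1 : L2), b)) ∈ T := by
        rw [show dgl ((1 : L2), b) = sw * dgl (b, 1) * sw by rw [sw_dgl, mul_assoc, sw_sq, mul_one],
          map_mul, map_mul]
        exact mul_mem (mul_mem hswT (hleft b hb)) hswT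
      have := mul_mem (hleft a ha) hr
      rwa [← map_mul, ← map_mul, Prod.mk_mul_mk, mul_one, one_mul] at this
    rcases hY with rfl | rfl
    · exact hab
    · rw [map_mul]; exact mul_mem hab hswT
  · intro y hy
    have hy1 : ∀ w ∈ (W F).map φ, (MulAut.conj g₀⁻¹ y) * w * (MulAut.conj g₀⁻¹ y)⁻¹ ∈ (W F).map φ := by
      intro w hw
      obtain ⟨X, hX, rfl⟩ := hw
      have h1 := (Subgroup.mem_normalizer_iff.1 hy _).1 (hmem X hX)
      rw [← hSf] at h1
      obtain ⟨X', hX', e⟩ := h1
      refine ⟨X', hX', hc₀ ?_⟩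
      rw [show c₀ (φ X') = f X' from rfl, e]
      simp [c₀, f, mul_assoc]
    have hy2 : ∀ w ∈ (W F).map φ, (MulAut.conj g₀⁻¹ y)⁻¹ * w * (MulAut.conj g₀⁻¹ y) ∈ (W F).map φ := by
      intro w hw
      obtain ⟨X, hX, rfl⟩ := hw
      have h1 := (Subgroup.mem_normalizer_iff.1 (inv_mem hy) _).1 (hmem X hX)
      rw [← hSf] at h1
      obtain ⟨X', hX', e⟩ := h1
      refine ⟨X', hX', hc₀ ?_⟩
      rw [show c₀ (φ X') = f X' from rfl, e]
      simp [c₀, f, mul_assoc]
    obtain ⟨a, X, hX, ha, hya⟩ := hlift _ hy1 hy2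
    have hy3 : y = f (dgl (a, a)) * f X := by
      have e := congrArg c₀ hya
      rw [map_mul] at e
      simpa [c₀, f, mul_assoc] using e
    rw [hy3]
    refine mul_mem ?_ (Subgroup.subset_closure (Or.inl (hmem X hX)))
    rcases normalizer_Q h2 ha with h' | ⟨X', t, hX'Q, hX', ht, htn, hsq, hta, -⟩
    · exact Subgroup.subset_closure (Or.inl (hmem _ (dgl_mem_W h' h')))
    rw [show dgl (a, a) = dgl (t, t) * dgl (t⁻¹ * a, t⁻¹ * a) by
      rw [← map_mul, Prod.mk_mul_mk, mul_inv_cancel_left], map_mul]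
    refine mul_mem (Subgroup.subset_closure (Or.inr (Or.inr ?_)))
      (Subgroup.subset_closure (Or.inl (hmem _ (dgl_mem_W hta hta))))
    -- the centric subgroup
    let PM : L2 → Prop := fun c => c = 1 ∨ c = negOne
    have pm_mul : ∀ c d, PM c → PM d → PM (c * d) := by
      rintro c d (rfl | rfl) (rfl | rfl)
      · exact Or.inl (one_mul 1)
      · exact Or.inr (one_mul _)
      · exact Or.inr (mul_one _)
      · exact Or.inl negOne_sq
    have pm_comm : ∀ c, PM c → ∀ x : L2, x * c = c * x := by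
      rintro c (rfl | rfl) x
      · simp
      · exact negOne_comm x
    have pm_Q : ∀ c, PM c → c ∈ Q F := by
      rintro c (rfl | rfl)
      · exact one_mem _
      · exact negOne_mem
    have pm_sq : ∀ c, PM c → c * c = 1 := by
      rintro c (rfl | rfl)
      · exact one_mul 1
      · exact negOne_sq
    have pm_inv : ∀ q ∈ Q F, ∃ c, PM c ∧ q⁻¹ = c * q := fun q hq => by
      rcases hsq q hq with e | e
      · exact ⟨1, Or.inl rfl, by rw [one_mul, inv_eq_of_mul_eq_one_right e]⟩
      · exact ⟨negOne, Or.inr rfl, inv_eq_of_mul_eq_one_right (by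
          rw [← mul_assoc, negOne_comm, mul_assoc, e, negOne_sq])⟩
    have pm_conj : ∀ u ∈ Q F, ∀ q ∈ Q F, ∃ c, PM c ∧ u * q * u⁻¹ = c * q := by
      intro u hu q hq
      obtain ⟨c1, hc1, e1⟩ := pm_inv (u * q) (mul_mem hu hq)
      obtain ⟨c2, hc2, e2⟩ := pm_inv u hu
      obtain ⟨c3, hc3, e3⟩ := pm_inv q hq
      refine ⟨c1 * c3 * c2, pm_mul _ _ (pm_mul _ _ hc1 hc3) hc2, ?_⟩
      rw [_root_.mul_inv_rev, e2, e3] at e1
      rw [mul_inv_eq_iff_eq_mul]
      calc u * q = c1 * (c1 * (u * q)) := by rw [← mul_assoc, pm_sq c1 hc1, one_mul]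
        _ = c1 * (c3 * q * (c2 * u)) := by rw [← e1]
        _ = c1 * c3 * (q * c2) * u := by group
        _ = c1 * c3 * c2 * q * u := by rw [pm_comm c2 hc2 q]; group
    let E : Subgroup (UQ F) := Subgroup.closure ({X | ∃ q ∈ Q F, X = dgl (q, q)} ∪ {z, sw})
    have hEq : ∀ q ∈ Q F, dgl (q, q) ∈ E := fun q hq => Subgroup.subset_closure (Or.inl ⟨q, hq, rfl⟩)
    have hEz : z ∈ E := Subgroup.subset_closure (Or.inr (Or.inl rfl))
    have hEs : sw ∈ E := Subgroup.subset_closure (Or.inr (Or.inr rfl))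
    have hEW : E ≤ W F := by
      refine (Subgroup.closure_le _).2 ?_
      rintro x (⟨q, hq, rfl⟩ | rfl | rfl)
      · exact dgl_mem_W hq hq
      · exact hzW
      · exact sw_mem_W
    have hEpm : ∀ q ∈ Q F, ∀ c, PM c → dgl (q, c * q) ∈ E := by
      rintro q hq c (rfl | rfl)
      · rw [one_mul]; exact hEq q hq
      · have := mul_mem hEz (hEq q hq)
        rwa [← map_mul, Prod.mk_mul_mk, one_mul] at this
    have hEpm' : ∀ q ∈ Q F, ∀ c d, PM c → PM d → dgl (c * q, d * q) ∈ E := by
      intro q hq c d hc hd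
      have := hEpm (c * q) (mul_mem (pm_Q c hc) hq) (d * c) (pm_mul _ _ hd hc)
      rwa [show d * c * (c * q) = d * q by rw [mul_assoc, ← mul_assoc c, pm_sq c hc, one_mul]] at this
    have hnE : ∀ Y : UQ F, (∀ q ∈ Q F, Y * dgl (q, q) * Y⁻¹ ∈ E) → Y * z * Y⁻¹ ∈ E →
        Y * sw * Y⁻¹ ∈ E → f Y ∈ Subgroup.normalizer ((E.map f : Subgroup G) : Set G) := by
      intro Y h1 h2' h3
      refine S5318.mem_normalizer_of_conj_mem _ ?_
      have hle : E ≤ E.comap (MulAut.conj Y).toMonoidHom := by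
        refine (Subgroup.closure_le _).2 ?_
        rintro x (⟨q, hq, rfl⟩ | rfl | rfl)
        · exact h1 q hq
        · exact h2'
        · exact h3
      rintro _ ⟨x, hx, rfl⟩
      rw [← map_inv, ← map_mul, ← map_mul]
      exact Subgroup.mem_map_of_mem f (hle hx)
    have hdglN : ∀ u v : L2, u ∈ Q F → v ∈ Q F →
        f (dgl (u, v)) ∈ Subgroup.normalizer ((E.map f : Subgroup G) : Set G) := by
      intro u v hu hv
      refine hnE _ (fun q hq => ?_) ?_ ?_
      · obtain ⟨c, hc, ec⟩ := pm_conj u hu q hq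
        obtain ⟨d, hd, ed⟩ := pm_conj v hv q hq
        rw [← map_inv, ← map_mul, ← map_mul, Prod.inv_mk, Prod.mk_mul_mk, Prod.mk_mul_mk, ec, ed]
        exact hEpm' q hq c d hc hd
      · rw [show z = dgl (1, negOne) from rfl, ← map_inv, ← map_mul, ← map_mul, Prod.inv_mk,
          Prod.mk_mul_mk, Prod.mk_mul_mk, mul_one, mul_inv_cancel, negOne_comm, mul_inv_cancel_right]
        exact hEz
      · rw [← map_inv, Prod.inv_mk, mul_assoc, sw_dgl, ← mul_assoc, ← map_mul, Prod.mk_mul_mk]
        obtain ⟨c, hc, ec⟩ := pm_inv _ (mul_mem hu (inv_mem hv))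
        rw [show v * u⁻¹ = (u * v⁻¹)⁻¹ by group, ec]
        exact mul_mem (hEpm _ (mul_mem hu (inv_mem hv)) c hc) hEs
    have hswN : f sw ∈ Subgroup.normalizer ((E.map f : Subgroup G) : Set G) :=
      Subgroup.le_normalizer (Subgroup.mem_map_of_mem f hEs)
    have hsqN : f (dgl (t, t)) ∈ Subgroup.normalizer ((E.map f : Subgroup G) : Set G) := by
      refine hnE _ (fun q hq => ?_) ?_ ?_
      · rw [← map_inv, ← map_mul, ← map_mul]
        exact hEq _ (htn q hq)
      · rw [show z = dgl (1, negOne) from rfl, ← map_inv, ← map_mul, ← map_mul, Prod.inv_mk,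
          Prod.mk_mul_mk, Prod.mk_mul_mk, mul_one, mul_inv_cancel, negOne_comm, mul_inv_cancel_right]
        exact hEz
      · rw [← map_inv, mul_assoc, sw_dgl, ← mul_assoc, ← map_mul, Prod.inv_mk, Prod.mk_mul_mk,
          mul_inv_cancel, Prod.mk_one_one, map_one, one_mul]
        exact hEs
    refine ⟨S5318.mem_normalizer_of_conj_mem _ fun s hs => ?_, E.map f, ?_, ?_, ?_, hsqN, ?_⟩
    · rw [← hSf] at hs ⊢
      obtain ⟨Y, ⟨c, d, hc, hd, hY⟩, rfl⟩ := hs
      rw [← map_inv, ← map_mul, ← map_mul]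
      refine Subgroup.mem_map_of_mem f ?_
      have hcd : dgl (t, t) * dgl (c, d) * (dgl (t, t))⁻¹ = dgl (t * c * t⁻¹, t * d * t⁻¹) := by
        rw [← map_inv, ← map_mul, ← map_mul]; rfl
      rcases hY with rfl | rfl
      · rw [hcd]; exact dgl_mem_W (htn c hc) (htn d hd)
      · have : dgl (t, t) * (dgl (c, d) * sw) * (dgl (t, t))⁻¹ =
            dgl (t * c * t⁻¹, t * d * t⁻¹) * sw := by
          have hsw : sw * (dgl (t, t))⁻¹ = (dgl (t, t))⁻¹ * sw := by
            rw [← map_inv, Prod.inv_mk, sw_dgl]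
          rw [← hcd]
          simp only [mul_assoc]
          rw [hsw]
        rw [this]
        exact mul_mem (dgl_mem_W (htn c hc) (htn d hd)) sw_mem_W
    · rw [← hSf]; exact Subgroup.map_mono hEW
    · rw [← hSf]
      rintro _ ⟨Y, ⟨c, d, hc, hd, hY⟩, rfl⟩
      rcases hY with rfl | rfl
      · exact hdglN c d hc hd
      · rw [map_mul]; exact mul_mem (hdglN c d hc hd) hswN
    · -- centric
      intro x hx
      obtain ⟨Y, rfl⟩ := hfsur x
      have hc : ∀ X ∈ E, X * Y = Y * X ∨ X * Y = mOne * (Y * X) := fun X hX =>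
        hfeq _ _ (by
          rw [map_mul, map_mul]
          exact Subgroup.mem_centralizer_iff.1 hx _ (Subgroup.mem_map_of_mem f hX))
      have key : ∀ u v : L2, (∀ X ∈ E, X * dgl (u, v) = dgl (u, v) * X ∨
          X * dgl (u, v) = mOne * (dgl (u, v) * X)) → f (dgl (u, v)) ∈ E.map f := by
        intro u v huv
        obtain ⟨c, hc, huvc⟩ : ∃ c, PM c ∧ v = c * u := by
          rcases huv sw hEs with e | e
          · rw [sw_dgl, mul_left_inj] at e
            exact ⟨1, Or.inl rfl, by rw [one_mul]; exact congrArg Prod.fst (dgl_injective e)⟩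
          · rw [sw_dgl, ← mul_assoc, mul_left_inj, mOne, ← map_mul] at e
            exact ⟨negOne, Or.inr rfl, congrArg Prod.fst (dgl_injective e)⟩
        have huq : ∀ q ∈ Q F, ∃ d, PM d ∧ u * q * u⁻¹ = d * q := by
          intro q hq
          rcases huv _ (hEq q hq) with e | e
          · rw [← map_mul, ← map_mul] at e
            have e1 : q * u = u * q := congrArg Prod.fst (dgl_injective e)
            exact ⟨1, Or.inl rfl, by rw [← e1, mul_inv_cancel_right, one_mul]⟩
          · rw [mOne, ← map_mul, ← map_mul, ← map_mul] at e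
            have e1 : q * u = negOne * (u * q) := congrArg Prod.fst (dgl_injective e)
            refine ⟨negOne, Or.inr rfl, mul_inv_eq_iff_eq_mul.2 ?_⟩
            rw [mul_assoc, e1, ← mul_assoc, negOne_sq, one_mul]
        have hu : u ∈ Q F := by
          refine mem_of_fix h2 (fun q hq => ?_) ?_
          · obtain ⟨d, hd, e⟩ := huq q hq
            rw [e]; exact mul_mem (pm_Q d hd) hq
          · obtain ⟨d, hd | hd, e⟩ := huq jM jM_mem
            · exact Or.inl (by rw [e, hd, one_mul])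
            · exact Or.inr (by rw [e, hd])
        rw [huvc]
        exact Subgroup.mem_map_of_mem f (hEpm u hu c hc)
      obtain ⟨u, v, hYe⟩ := dgl_of_comm h2 (Y := Y) (by
        rcases hc z hEz with e | e
        · exact Or.inl e.symm
        · exact Or.inr (by rw [e, ← mul_assoc, mOne_sq, one_mul]))
      rcases hYe with rfl | rfl
      · exact key u v hc
      · have hkey := key u v fun X hX => ?_
        · rw [map_mul]; exact mul_mem hkey (Subgroup.mem_map_of_mem f hEs)
        have hXs : X * sw = sw * X ∨ X * sw = mOne * (sw * X) := by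
          have hswc : ∀ x ∈ ({X | ∃ q ∈ Q F, X = dgl (q, q)} ∪ {z, sw} : Set (UQ F)),
              φ (x * sw) = φ (sw * x) := by
            rintro x (⟨q, -, rfl⟩ | rfl | rfl)
            · rw [sw_dgl]
            · have e : sw * z = mOne * (z * sw) := by
                rw [show z = dgl (1, negOne) from rfl, sw_dgl, mOne, ← mul_assoc, ← map_mul,
                  Prod.mk_mul_mk, mul_one, negOne_sq]
              rw [e, map_mul φ mOne, hφm, one_mul]
            · rfl
          have hle : E ≤ (Subgroup.centralizer {φ sw}).comap φ := by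
            refine (Subgroup.closure_le _).2 fun x hx => ?_
            rw [SetLike.mem_coe, Subgroup.mem_comap, Subgroup.mem_centralizer_singleton_iff,
              ← map_mul, ← map_mul]
            exact hswc x hx
          refine heq _ _ ?_
          have := Subgroup.mem_centralizer_singleton_iff.1 (Subgroup.mem_comap.1 (hle hX))
          rw [map_mul, map_mul]
          exact this
        refine hfeq _ _ ?_
        have h1 : f X * f (dgl (u, v) * sw) = f (dgl (u, v) * sw) * f X :=
          Subgroup.mem_centralizer_iff.1 hx _ (Subgroup.mem_map_of_mem f hX)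
        have h3 : f sw * f X = f X * f sw := by
          rcases hXs with e | e
          · rw [← map_mul, ← map_mul, e]
          · rw [← map_mul, ← map_mul, e, map_mul f mOne, hfm, one_mul]
        rw [map_mul f (dgl (u, v))] at h1
        rw [map_mul, map_mul]
        calc f X * f (dgl (u, v)) = f X * (f (dgl (u, v)) * f sw) * (f sw)⁻¹ := by group
          _ = f (dgl (u, v)) * (f sw * f X) * (f sw)⁻¹ := by rw [h1]; group
          _ = f (dgl (u, v)) * f X := by rw [h3]; group
    · -- generated by 2-elements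
      have hhh : h • (1 : A2) + h • (1 : A2) = 1 := by
        rw [← add_smul, ← two_mul, hh2, one_smul]
      have hsmul : ∀ x y : A2, (h • x) * (h • y) = (h * h) • (x * y) := fun x y => by
        rw [smul_mul_assoc, mul_smul_comm, smul_smul]
      have hh4 : h * h * 2 = h := by rw [mul_assoc, mul_comm h 2, hh2, mul_one]
      have hM : ∀ i ∈ Q F, i * i = negOne → ∃ Y : UQ F,
          Y.1.1 = !![h • (1 + i.1), h • (1 + i.1); h • (1 + i.1), -(h • (1 + i.1))] ∧
          f Y ∈ Subgroup.closure {a : G | a ∈ Subgroup.normalizer ((E.map f : Subgroup G) : Set G) ∧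
            ∃ k : ℕ, orderOf a = 2 ^ k} := by
        intro i hi hi2
        have hii : i.1 * i.1 = -1 := by
          rw [← negOne_eq, ← hi2]; rfl
        have hadj : adj i.1 = -i.1 := by
          have : i⁻¹ = negOne * i := by
            refine inv_eq_of_mul_eq_one_right ?_
            rw [← mul_assoc, negOne_comm, mul_assoc, hi2, negOne_sq]
          rw [adj_L, this]
          show negOne.1 * i.1 = _
          rw [negOne_eq, neg_one_mul]
        obtain ⟨a1, a2, a3, a4, a5, a6, a7, a8⟩ := pm_alg hii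
        let Sx : UQ F := mkQ (h • (1 + i.1)) (h • (1 - i.1)) (h • (1 - i.1)) (h • (1 + i.1))
          (by simp only [adj_smul, adj_add, adj_sub, adj_one, hadj, ← sub_eq_add_neg, sub_neg_eq_add,
            hsmul, a1, a2, smul_smul, hh4, hhh])
          (by simp only [adj_smul, adj_add, adj_sub, adj_one, hadj, ← sub_eq_add_neg, sub_neg_eq_add,
            hsmul, a3, a4, smul_smul, smul_neg, hh4, add_neg_cancel, sub_self])
          (by simp only [adj_smul, adj_add, adj_sub, adj_one, hadj, ← sub_eq_add_neg, sub_neg_eq_add,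
            hsmul, a3, a4, smul_smul, smul_neg, hh4, neg_add_cancel, sub_self])
          (by simp only [adj_smul, adj_add, adj_sub, adj_one, hadj, ← sub_eq_add_neg, sub_neg_eq_add,
            hsmul, a1, a2, smul_smul, hh4, hhh])
        have hSx2 : Sx * Sx = sw := by
          refine extQ ?_ ?_ ?_ ?_ <;>
            simp [Sx, sw_val, Matrix.mul_apply, Fin.sum_univ_two, hsmul, a1, a2, a3, a4, smul_smul, hh4, hhh, -smul_add, -smul_sub]
        have hSxs : Sx * sw = sw * Sx := by rw [← hSx2, mul_assoc]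
        have hSxz : Sx * z = (dgl (i, negOne * i) * sw) * Sx := by
          refine extQ ?_ ?_ ?_ ?_ <;>
            simp [Sx, z, dgl_val, sw_val, negOne_eq, Matrix.mul_apply, Matrix.vecMul, dotProduct,
              Fin.sum_univ_two, a5, a6, -smul_add] <;> module
        have hSxN : f Sx ∈ Subgroup.normalizer ((E.map f : Subgroup G) : Set G) := by
          refine hnE _ (fun q hq => ?_) ?_ ?_
          · obtain ⟨c, hc | hc, ec⟩ := pm_conj q hq i hi
            · have hqi : q.1 * i.1 = i.1 * q.1 := by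
                rw [hc, one_mul] at ec
                exact congrArg Subtype.val ((mul_inv_eq_iff_eq_mul (G := L2)).1 ec)
              have : Sx * dgl (q, q) = dgl (q, q) * Sx := by
                refine extQ ?_ ?_ ?_ ?_ <;>
                  simp [Sx, dgl_val, Matrix.mul_apply, Matrix.vecMul, dotProduct, Fin.sum_univ_two,
                    mul_add, mul_sub, add_mul, sub_mul, hqi]
              rw [this, mul_inv_cancel_right]; exact hEq q hq
            · have hqi : q.1 * i.1 = -(i.1 * q.1) := by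
                rw [hc, mul_inv_eq_iff_eq_mul] at ec
                have := congrArg Subtype.val ec
                change q.1 * i.1 = (negOne : L2).1 * i.1 * q.1 at this
                rw [negOne_eq, neg_one_mul, neg_mul] at this
                exact this
              have : Sx * dgl (q, q) = dgl (q, q) * sw * Sx := by
                refine extQ ?_ ?_ ?_ ?_ <;>
                  simp [Sx, dgl_val, sw_val, Matrix.mul_apply, Matrix.vecMul, dotProduct, Fin.sum_univ_two,
                    mul_add, mul_sub, add_mul, sub_mul, hqi] <;> module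
              rw [this, mul_inv_cancel_right]; exact mul_mem (hEq q hq) hEs
          · rw [hSxz, mul_inv_cancel_right]
            exact mul_mem (hEpm i hi negOne (Or.inr rfl)) hEs
          · rw [hSxs, mul_inv_cancel_right]; exact hEs
        let U : UQ F := dgl (1, i)
        have hUW : U ∈ W F := dgl_mem_W (one_mem _) hi
        have hUc : f U ∈ Subgroup.closure {a : G | a ∈ Subgroup.normalizer ((E.map f : Subgroup G) : Set G) ∧
            ∃ k : ℕ, orderOf a = 2 ^ k} := by
          refine Subgroup.subset_closure ⟨hdglN 1 i (one_mem _) hi, ?_⟩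
          obtain ⟨k, hk⟩ := S.2 ⟨f U, hmem U hUW⟩
          obtain ⟨j, -, hj⟩ := (Nat.dvd_prime_pow Nat.prime_two).1
            (orderOf_dvd_of_pow_eq_one (x := f U) (congrArg Subtype.val hk))
          exact ⟨j, hj⟩
        refine ⟨U * Sx * U, ?_, ?_⟩
        · have hU : U.1.1 = !![1, 0; 0, i.1] := rfl
          show (U.1.1 * Sx.1.1 * U.1.1 : B2) = _
          ext1 k l
          fin_cases k <;> fin_cases l <;>
            simp [hU, Sx, Matrix.mul_apply, Matrix.vecMul, dotProduct, Fin.sum_univ_two, a5, a6, a7,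
              mul_assoc, sub_mul, add_mul, mul_add, mul_sub, hii] <;> module
        · rw [map_mul, map_mul]
          refine mul_mem (mul_mem hUc (Subgroup.subset_closure ⟨hSxN, ?_⟩)) hUc
          obtain ⟨j, -, hj⟩ := (Nat.dvd_prime_pow Nat.prime_two).1
            (orderOf_dvd_of_pow_eq_one (x := f Sx) (n := 2 ^ 2) (by
              rw [← map_pow, show (2 : ℕ) ^ 2 = 2 + 2 by norm_num, pow_add, pow_two, hSx2, sw_sq,
                map_one]))
          exact ⟨j, hj⟩
      obtain ⟨MJ, hMJ, hMJc⟩ := hM jM jM_mem jM_sq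
      obtain ⟨MX, hMX, hMXc⟩ := hM X' hX'Q hX'.sq
      have : dgl (t, t) = MJ * MX := by
        have key : (h • (1 + (jM : L2).1)) * (h • (1 + X'.1)) +
            (h • (1 + (jM : L2).1)) * (h • (1 + X'.1)) = t.1 := by
          rw [ht, hsmul, ← add_smul, ← two_mul, ← mul_assoc, hh2, one_mul]
          congr 1
          rw [add_mul, mul_add, mul_add, one_mul, one_mul, mul_one]
          abel
        refine extQ ?_ ?_ ?_ ?_ <;>
          simp [dgl_val, hMJ, hMX, Matrix.mul_apply, Fin.sum_univ_two, -smul_add, -neg_add_rev] <;>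
          first | exact key.symm | exact key | (rw [← key, hsmul]; module)
      rw [this, map_mul]
      exact mul_mem hMJc hMXc

end


/-- For a finite field F of odd order, the 2-fusion system of the projective symplectic group PSp(4,F) on a Sylow 2-subgroup is simple. -/
theorem result {F : Type*} [Field F] [Fintype F] (hodd : Fintype.card F % 2 = 1) (S : Sylow 2 (Cfsg.PSp 2 F)) :
    (Cfsg.groupFusionSystem (S : Subgroup (Cfsg.PSp 2 F))).IsSimple 2 := by
  classical
  have h2 : (2 : F) ≠ 0 := by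
    intro h0
    have hdvd : addOrderOf (1 : F) ∣ Fintype.card F := addOrderOf_dvd_card
    have hc : addOrderOf (1 : F) = 2 :=
      addOrderOf_eq_prime (by rw [two_nsmul, one_add_one_eq_two, h0]) one_ne_zero
    rw [hc] at hdvd
    omega
  have : Fact (Nat.Prime 2) := ⟨Nat.prime_two⟩
  let e : UQ F ≃* Matrix.symplecticGroup (Fin 2) F := MulEquiv.ofBijective toSp toSp_bijective
  let π : Matrix.symplecticGroup (Fin 2) F →* Cfsg.PSp 2 F := QuotientGroup.mk' _
  have hsurπ : Function.Surjective π := QuotientGroup.mk'_surjective _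
  have : Finite (Cfsg.PSp 2 F) := Finite.of_surjective π hsurπ
  refine core h2 (π.comp e.toMonoidHom) (hsurπ.comp e.surjective) (fun x => ?_) S
  show π (e x) = 1 ↔ _
  rw [QuotientGroup.mk'_apply, QuotientGroup.eq_one_iff, Subgroup.mem_center_iff,
    Subgroup.mem_center_iff]
  refine ⟨fun hc y => e.injective (by rw [map_mul, map_mul]; exact hc (e y)), fun hc y => ?_⟩
  obtain ⟨y, rfl⟩ := e.surjective y
  rw [← map_mul, ← map_mul, hc y]

end Cfsg.Agent.S5320
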