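import Cfsg.Statements.S5322
import Cfsg.Agent.Lib.J3InvThm90
import Cfsg.Agent.Lib.FusionIso88

set_option autoImplicit false
open Cfsg

namespace Cfsg.Agent.S5322

open Cfsg.FusionSystem Cfsg.Agent.FusionSysBasic Cfsg.Agent.FusionSysGroup Cfsg.Agent.FusionIso88

theorem tr_group {A B : Type*} [Group A] [Group B] (e : A ≃* B) {U : Subgroup A} {V : Subgroup B}
    (hUV : ∀ x, x ∈ U ↔ e x ∈ V) :
    Tr (groupFusionSystem U) (groupFusionSystem V) (fun x => e x) (fun y => e.symm y) := by
  have hVU : ∀ y, y ∈ V ↔ e.symm y ∈ U := fun y => by rw [hUV, e.apply_symm_apply]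
  refine ⟨⟨fun x hx => (hUV x).1 hx, fun y hy => (hVU y).1 hy, fun x _ => e.symm_apply_apply x,
    fun y _ => e.apply_symm_apply y, fun x _ y _ => map_mul e x y⟩, ?_, ?_⟩
  · intro P f hf
    obtain ⟨hP, g, hg, hgS⟩ := mor_group_iff.1 hf
    have himg : ∀ y ∈ img (fun x => e x) P, e.symm y ∈ P := fun y hy =>
      (show img (fun x => e x) P ≤ P.comap e.symm.toMonoidHom from img_le_iff.2 fun x hx => by
        simpa using hx) hy
    refine mor_group_iff.2 ⟨img_le_iff.2 fun x hx => (hUV x).1 (hP hx), e g, fun y hy => ?_, fun y hy => ?_⟩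
    · show e (f (e.symm y)) = _
      rw [hg _ (himg y hy), cj_apply, cj_apply, map_mul, map_mul, map_inv, e.apply_symm_apply]
    · have h := (hUV _).1 (hgS _ (himg y hy))
      rwa [cj_apply, map_mul, map_mul, map_inv, e.apply_symm_apply, ← cj_apply] at h
  · intro P f hf
    obtain ⟨hP, g, hg, hgS⟩ := mor_group_iff.1 hf
    have himg : ∀ x ∈ img (fun y => e.symm y) P, e x ∈ P := fun x hx =>
      (show img (fun y => e.symm y) P ≤ P.comap e.toMonoidHom from img_le_iff.2 fun y hy => by
        simpa using hy) hx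
    refine mor_group_iff.2 ⟨img_le_iff.2 fun y hy => (hVU y).1 (hP hy), e.symm g, fun x hx => ?_, fun x hx => ?_⟩
    · show e.symm (f (e x)) = _
      rw [hg _ (himg x hx), cj_apply, cj_apply, map_mul, map_mul, map_inv, e.symm_apply_apply]
    · have h := (hVU _).1 (hgS _ (himg x hx))
      rwa [cj_apply, map_mul, map_mul, map_inv, e.symm_apply_apply, ← cj_apply] at h

/-- For a finite group G isomorphic to the third Janko group J₃, the 2-fusion system of G on a Sylow 2-subgroup is simple: saturated, over a nontrivial 2-group, with no normal subsystem other than the trivial one and itself. -/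
theorem result {G : Type*} [Group G] [Finite G] (hG : Cfsg.Spor.IsoJ3 G) (S : Sylow 2 G) : (Cfsg.groupFusionSystem (S : Subgroup G)).IsSimple 2 := by
  obtain ⟨F, iF, iFt, ω, hF, hω, ⟨e⟩⟩ := hG
  haveI : Fact (Nat.Prime 2) := ⟨Nat.prime_two⟩
  have h4 : Nat.card F = 4 := by rw [Nat.card_eq_fintype_card, hF]
  have h2 : (2 : F) = 0 := Cfsg.Agent.J3Mat90.two_eq_zero hF
  let S' : Sylow 2 (Cfsg.Spor.J3 F ω) := S.mapSurjective (f := e.toMonoidHom) e.surjective
  have hS' : (S' : Subgroup (Cfsg.Spor.J3 F ω)) = (S : Subgroup G).map e.toMonoidHom :=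
    Sylow.coe_mapSurjective e.surjective S
  refine (tr_group e.symm (U := (S' : Subgroup (Cfsg.Spor.J3 F ω))) (V := (S : Subgroup G))
    fun x => ?_).simple S'.2 (Cfsg.Agent.J3InvThm90.simple_system ω h2 hω h4 S')
  rw [hS', Subgroup.mem_map]
  exact ⟨fun ⟨g, hg, hgx⟩ => by rw [← hgx]; simpa using hg,
    fun h => ⟨e.symm x, h, e.apply_symm_apply x⟩⟩

end Cfsg.Agent.S5322
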