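import Cfsg.Statements.S5324
import Cfsg.Agent.Lib.LyFusionEquiv98
import Cfsg.Agent.Lib.LyOrbitIndex41
import Cfsg.Agent.Lib.LyCentCover46
-- import your own Cfsg.Agent.* helpers here

set_option autoImplicit false
open Cfsg

namespace Cfsg.Agent.S5324

/-- For a finite group G isomorphic to the Lyons group, the 2-fusion system of G on a Sylow 2-subgroup is simple: saturated, over a nontrivial 2-group, with no normal subsystem other than the trivial one and itself. -/
theorem result {G : Type*} [Group G] [Finite G] (hG : Cfsg.Spor.IsoLy G) (S : Sylow 2 G) : (Cfsg.groupFusionSystem (S : Subgroup G)).IsSimple 2 := by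
  haveI : Finite Cfsg.Spor.Ly := Cfsg.Agent.LyOrbitIndex41.finite_L
  haveI : IsSimpleGroup Cfsg.Spor.Ly := Cfsg.Agent.LyOrbitIndex41.simple
  obtain ⟨e⟩ := hG
  obtain ⟨t, ht, hcov⟩ := Cfsg.Agent.LyCentCover46.exists_cover
  exact Cfsg.Agent.LyFusionEquiv98.isSimple_of_equiv e.symm t ht hcov
    (by rw [Cfsg.Agent.LyOrbitIndex41.order]; norm_num) S

end Cfsg.Agent.S5324
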