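import Cfsg.Statements.S5327
import Cfsg.Agent.Lib.FusionSysNormal
import Cfsg.Agent.S5326

set_option autoImplicit false
open Cfsg

namespace Cfsg.Agent.S5327

open Cfsg.FusionSystem Cfsg.Agent.FusionSysBasic Cfsg.Agent.FusionSysSaturated

/-- The maps of `F` that are inner when defined on all of `S`. -/
theorem exists_inner_at_top {Ω : Type*} [Group Ω] {S : Subgroup Ω} [Finite S]
    (F : Cfsg.FusionSystem S) :
    ∃ E : Cfsg.FusionSystem S, (∀ R : Subgroup Ω, R ≠ S → F.autGroup R ≤ E.autGroup R) ∧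
      ∀ α ∈ E.autGroup S, α ∈ Cfsg.autInducedBy S S := by
  let good : (P : Subgroup Ω) → (P →* Ω) → Prop := fun P φ =>
    φ ∈ F.Hom P ∧ (P = S → ∃ g ∈ S, ∀ x : P, φ x = cj g x)
  refine ⟨{ Hom := fun P => {φ | good P φ}
            le_of_mem := fun h => F.le_of_mem h.1
            injective_of_mem := fun h => F.injective_of_mem h.1
            conj_mem := fun hP hg => ⟨F.conj_mem hP hg, fun _ => ⟨_, hg, fun _ => rfl⟩⟩
            comp_mem := ?_
            inv_mem := ?_ }, fun R hR α hα => ?_, fun α hα => ?_⟩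
  · intro P Q φ ψ hφ hψ h
    refine ⟨F.comp_mem hφ.1 hψ.1 h, fun hP => ?_⟩
    obtain ⟨g, hg, he⟩ := hφ.2 hP
    have hQ : Q = S := by
      refine eq_of_le_of_card_ge le_rfl (F.le_of_mem hψ.1).1 ?_
      haveI := finite_of_le (F.le_of_mem hψ.1).1
      rw [← hP]
      exact Nat.card_le_card_of_injective (fun x : P => (⟨φ x, h x⟩ : Q))
        fun x y e => F.injective_of_mem hφ.1 (congrArg Subtype.val e)
    obtain ⟨k, hk, hke⟩ := hψ.2 hQ
    refine ⟨k * g, S.mul_mem hk hg, fun x => ?_⟩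
    show ψ ⟨φ x, h x⟩ = _
    rw [hke, ← cj_cj, ← he x]
  · intro P φ hφ
    obtain ⟨ψ, hψ, hi⟩ := F.inv_mem hφ.1
    refine ⟨ψ, ⟨hψ, fun hr => ?_⟩, hi⟩
    have hP : P = S := by
      have hm := mor_toFun hφ.1
      refine eq_of_le_of_card_ge le_rfl (F.le_of_mem hφ.1).1 ?_
      rw [← hm.card_im, ← Mor.range_eq_im hφ.1 fun x => (toFun_coe φ x).symm, hr]
    obtain ⟨g, hg, he⟩ := hφ.2 hP
    refine ⟨g⁻¹, S.inv_mem hg, ?_⟩
    rintro ⟨_, x, rfl⟩
    rw [hi]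
    show (x : _) = cj g⁻¹ (φ x)
    rw [he x, cj_inv_cj]
  · by_cases hRS : R ≤ S
    · exact Subgroup.subset_closure
        ⟨mor_afun_iff.1 ((mem_autGroup hRS).1 hα), fun h => absurd h hR⟩
    · refine (Subgroup.closure_le _).2 (fun β hβ => ?_) hα
      exact absurd (F.le_of_mem hβ).1 hRS
  · obtain ⟨φ, ⟨-, hφ⟩, he⟩ := (mem_autGroup le_rfl).1 hα
    obtain ⟨g, hg, hge⟩ := hφ rfl
    exact mem_autInducedBy.2 ⟨g, hg, Subgroup.le_normalizer hg,
      fun x hx => (he ⟨x, hx⟩).symm.trans (hge ⟨x, hx⟩)⟩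

/-- Let F be a saturated fusion system over a finite p-group S. Call a family of subgroups of S generating when every fusion system over S whose automorphism group of each member R contains Aut_F(R) contains every map of F. If two families are each closed under F-conjugacy and each generating, then their intersection is generating. -/
theorem result {Ω : Type*} [Group Ω] {S : Subgroup Ω} [Finite S] (p : ℕ) [Fact p.Prime] (hS : IsPGroup p S) (F : Cfsg.FusionSystem S) (hF : F.IsSaturated p) (𝒬₁ 𝒬₂ : Set (Subgroup Ω)) (h₁ : ∀ R ∈ 𝒬₁, ∀ R' : Subgroup Ω, F.IsConj R R' → R' ∈ 𝒬₁) (h₂ : ∀ R ∈ 𝒬₂, ∀ R' : Subgroup Ω, F.IsConj R R' → R' ∈ 𝒬₂) (hg₁ : ∀ E : Cfsg.FusionSystem S, (∀ R ∈ 𝒬₁, F.autGroup R ≤ E.autGroup R) → F ≤ E) (hg₂ : ∀ E : Cfsg.FusionSystem S, (∀ R ∈ 𝒬₂, F.autGroup R ≤ E.autGroup R) → F ≤ E) (E : Cfsg.FusionSystem S) (hE : ∀ R ∈ 𝒬₁ ∩ 𝒬₂, F.autGroup R ≤ E.autGroup R) : F ≤ E := by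
  refine FusionSysAlperin.alperin hS hF fun P hP => ?_
  have hbot : ∀ R : Subgroup Ω, ¬ R ≤ S → ∀ D : Cfsg.FusionSystem S, F.autGroup R ≤ D.autGroup R :=
    fun R hR D => (Subgroup.closure_le _).2 fun α hα => absurd (F.le_of_mem hα).1 hR
  rcases hP with rfl | hP
  · by_cases hin : P ∈ 𝒬₁ ∩ 𝒬₂
    · exact hE P hin
    obtain ⟨E₀, hE₀, hE₀S⟩ := exists_inner_at_top F
    have hFE : F ≤ E₀ := by
      rcases not_and_or.1 hin with h | h
      · exact hg₁ E₀ fun R hR => hE₀ R fun e => h (e ▸ hR)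
      · exact hg₂ E₀ fun R hR => hE₀ R fun e => h (e ▸ hR)
    exact fun α hα => autInducedBy_le le_rfl (hE₀S α (autGroup_mono hFE P hα))
  · refine hE P ?_
    obtain ⟨E₁, hE₁, hne⟩ := S5326.result p hS F hF P hP
    have key : ∀ 𝒬 : Set (Subgroup Ω), (∀ R ∈ 𝒬, ∀ R' : Subgroup Ω, F.IsConj R R' → R' ∈ 𝒬) →
        (∀ D : Cfsg.FusionSystem S, (∀ R ∈ 𝒬, F.autGroup R ≤ D.autGroup R) → F ≤ D) → P ∈ 𝒬 := by
      intro 𝒬 hcl hgen
      by_contra h
      refine hne (hgen E₁ fun R hR => ?_)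
      by_cases hRS : R ≤ S
      · exact hE₁ R hRS fun hc => h (hcl R hR P (isConj_symm hc))
      · exact hbot R hRS E₁
    exact ⟨key 𝒬₁ h₁ hg₁, key 𝒬₂ h₂ hg₂⟩

end Cfsg.Agent.S5327
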