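import Cfsg.Statements.S5328
import Cfsg.Agent.Lib.FusionSysBasic

set_option autoImplicit false
universe u
open Cfsg

namespace Cfsg.Agent.S5328

open Cfsg.Agent.FusionSysBasic

universe v w

/-- fixed points of a subgroup -/
abbrev Fix {H : Type*} [Group H] (K : Subgroup H) (X : Type*) [MulAction H X] :=
  {x : X // ∀ h ∈ K, h • x = x}

theorem marks_congr {H X Y : Type*} [Group H] [MulAction H X] [MulAction H Y] (e : X ≃ Y)
    (he : ∀ (h : H) (x : X), e (h • x) = h • e x) (K : Subgroup H) :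
    Nat.card (Fix K X) = Nat.card (Fix K Y) :=
  Nat.card_congr (e.subtypeEquiv fun x => forall₂_congr fun h _ => by
    rw [← he]; exact e.injective.eq_iff.symm)

/-- the orbit as an invariant subset -/
def orb (H : Type*) [Group H] {X : Type*} [MulAction H X] (x : X) : SubMulAction H X :=
  ⟨MulAction.orbit H x, fun h {_} hy => by
    obtain ⟨k, rfl⟩ := hy
    exact ⟨h * k, mul_smul h k x⟩⟩

/-- the complement of an invariant subset -/
def cpl {H : Type*} [Group H] {X : Type*} [MulAction H X] (O : SubMulAction H X) :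
    SubMulAction H X :=
  ⟨(O : Set X)ᶜ, fun h {x} hx hxo => hx (by
    have hmem := O.smul_mem h⁻¹ hxo
    rwa [inv_smul_smul] at hmem)⟩

theorem marks_split {H X : Type*} [Group H] [MulAction H X] [Finite X] (O : SubMulAction H X)
    (L : Subgroup H) : Nat.card (Fix L X) = Nat.card (Fix L O) + Nat.card (Fix L (cpl O)) := by
  classical
  have e : ∀ O' : SubMulAction H X, {z : Fix L X // z.1 ∈ O'} ≃ Fix L O' := fun O' =>
    { toFun := fun z => ⟨⟨z.1.1, z.2⟩, fun l hl => Subtype.ext (z.1.2 l hl)⟩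
      invFun := fun z => ⟨⟨z.1.1, fun l hl => congrArg Subtype.val (z.2 l hl)⟩, z.1.2⟩
      left_inv := fun z => rfl
      right_inv := fun z => rfl }
  rw [← Nat.card_congr (Equiv.sumCompl fun z : Fix L X => z.1 ∈ O), Nat.card_sum,
    ← Nat.card_congr (e O), ← Nat.card_congr (e (cpl O))]
  rfl

/-- Finite sets with a group action and the same fixed point counts are isomorphic (Burnside). -/
theorem equiv_of_marks {H : Type*} [Group H] [Finite H] (N : ℕ) :
    ∀ {X : Type v} {Y : Type w} [Finite X] [Finite Y] [MulAction H X] [MulAction H Y],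
      Nat.card X = N → (∀ K : Subgroup H, Nat.card (Fix K X) = Nat.card (Fix K Y)) →
      ∃ e : X ≃ Y, ∀ (h : H) (x : X), e (h • x) = h • e x := by
  induction N using Nat.strong_induction_on with
  | _ N ih =>
  intro X Y _ _ _ _ hN hm
  rcases isEmpty_or_nonempty X with hX | hX
  · have hY : IsEmpty Y := ⟨fun y => by
      have h0 : 0 < Nat.card (Fix (⊥ : Subgroup H) Y) := by
        haveI : Nonempty (Fix (⊥ : Subgroup H) Y) :=
          ⟨⟨y, fun k hk => by rw [Subgroup.mem_bot.1 hk, one_smul]⟩⟩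
        exact Nat.card_pos
      rw [← hm] at h0
      simp at h0⟩
    exact ⟨Equiv.equivOfIsEmpty X Y, fun h x => hX.elim x⟩
  obtain ⟨x₀, hx₀⟩ := Finite.exists_max (fun x : X => Nat.card (MulAction.stabilizer H x))
  obtain ⟨y₀, hy₀⟩ : ∃ y : Y, ∀ h ∈ MulAction.stabilizer H x₀, h • y = y := by
    have h1 : 0 < Nat.card (Fix (MulAction.stabilizer H x₀) X) := by
      haveI : Nonempty (Fix (MulAction.stabilizer H x₀) X) := ⟨⟨x₀, fun h hh => hh⟩⟩
      exact Nat.card_pos
    rw [hm] at h1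
    obtain ⟨y, hy⟩ := (Nat.card_pos_iff.1 h1).1
    exact ⟨y, hy⟩
  have hstab : MulAction.stabilizer H y₀ = MulAction.stabilizer H x₀ := by
    have hle : MulAction.stabilizer H x₀ ≤ MulAction.stabilizer H y₀ := fun h hh => hy₀ h hh
    have h1 : 0 < Nat.card (Fix (MulAction.stabilizer H y₀) Y) := by
      haveI : Nonempty (Fix (MulAction.stabilizer H y₀) Y) := ⟨⟨y₀, fun h hh => hh⟩⟩
      exact Nat.card_pos
    rw [← hm] at h1
    obtain ⟨x, hx⟩ := (Nat.card_pos_iff.1 h1).1
    have h2 : MulAction.stabilizer H y₀ ≤ MulAction.stabilizer H x := fun h hh => hx h hh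
    exact (Subgroup.eq_of_le_of_card_ge hle ((Subgroup.card_le_of_le h2).trans (hx₀ x))).symm
  let eo : orb H x₀ ≃ orb H y₀ :=
    (MulAction.orbitEquivQuotientStabilizer H x₀).trans
      ((Subgroup.quotientEquivOfEq hstab.symm).trans
        (MulAction.orbitEquivQuotientStabilizer H y₀).symm)
  have heo' : ∀ a : H, (eo ⟨a • x₀, a, rfl⟩ : Y) = a • y₀ := by
    intro a
    have e1 : MulAction.orbitEquivQuotientStabilizer H x₀ ⟨a • x₀, a, rfl⟩
        = (a : H ⧸ MulAction.stabilizer H x₀) := by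
      rw [← Equiv.eq_symm_apply]
      exact Subtype.ext (MulAction.orbitEquivQuotientStabilizer_symm_apply H x₀ a).symm
    show ((MulAction.orbitEquivQuotientStabilizer H y₀).symm (Subgroup.quotientEquivOfEq hstab.symm
      (MulAction.orbitEquivQuotientStabilizer H x₀ ⟨a • x₀, a, rfl⟩)) : Y) = _
    rw [e1, Subgroup.quotientEquivOfEq_mk, MulAction.orbitEquivQuotientStabilizer_symm_apply]
  have heo : ∀ (h : H) (z : orb H x₀), eo (h • z) = h • eo z := by
    rintro h ⟨z, a, rfl⟩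
    apply Subtype.ext
    rw [SubMulAction.val_smul, heo']
    have e2 : h • (⟨a • x₀, a, rfl⟩ : orb H x₀) = ⟨(h * a) • x₀, h * a, rfl⟩ :=
      Subtype.ext (mul_smul h a x₀).symm
    rw [e2, heo', mul_smul]
  have hm' : ∀ L : Subgroup H,
      Nat.card (Fix L (cpl (orb H x₀))) = Nat.card (Fix L (cpl (orb H y₀))) := by
    intro L
    have h := hm L
    rw [marks_split (orb H x₀), marks_split (orb H y₀), marks_congr eo heo L] at h
    exact Nat.add_left_cancel h
  have hlt : Nat.card (cpl (orb H x₀)) < N := by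
    rw [← hN]
    exact Finite.card_subtype_lt (x := x₀) (fun h => h (MulAction.mem_orbit_self x₀))
  obtain ⟨e', he'⟩ := ih _ hlt rfl hm'
  classical
  let ec : {a // ¬ a ∈ orb H x₀} ≃ {b // ¬ b ∈ orb H y₀} := e'
  refine ⟨(Equiv.sumCompl (· ∈ orb H x₀)).symm.trans
    ((Equiv.sumCongr eo ec).trans (Equiv.sumCompl (· ∈ orb H y₀))), fun h x => ?_⟩
  rcases em (x ∈ orb H x₀) with hx | hx
  · simp only [Equiv.trans_apply]
    rw [Equiv.sumCompl_symm_apply_of_pos hx,
      Equiv.sumCompl_symm_apply_of_pos ((orb H x₀).smul_mem h hx)]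
    exact congrArg Subtype.val (heo h ⟨x, hx⟩)
  · simp only [Equiv.trans_apply]
    rw [Equiv.sumCompl_symm_apply_of_neg hx,
      Equiv.sumCompl_symm_apply_of_neg (show h • x ∉ orb H x₀ from (cpl (orb H x₀)).smul_mem h hx)]
    exact congrArg Subtype.val (he' h ⟨x, hx⟩)

section Biset

variable {Ω : Type u} [Group Ω] {S : Subgroup Ω}

/-- `D` is the graph of a map of `F` -/
def InD (F : Cfsg.FusionSystem S) (D : Subgroup (↥S × ↥S)) : Prop :=
  ∃ (Q : Subgroup Ω) (f : Ω → Ω), Mor F Q f ∧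
    ∀ a b : ↥S, (a, b) ∈ D ↔ (b : Ω) ∈ Q ∧ (a : Ω) = f b

theorem inD_diag (F : Cfsg.FusionSystem S) :
    InD F ((MonoidHom.id ↥S).prod (MonoidHom.id ↥S)).range := by
  refine ⟨S, fun x => x, mor_id le_rfl, fun a b => ?_⟩
  constructor
  · rintro ⟨x, hx⟩
    obtain ⟨rfl, rfl⟩ : x = a ∧ x = b := by simpa [Prod.ext_iff] using hx
    exact ⟨x.2, rfl⟩
  · rintro ⟨-, h⟩
    exact ⟨b, by simp [Subtype.ext h]⟩

theorem InD.of_le {F : Cfsg.FusionSystem S} {D D' : Subgroup (↥S × ↥S)} (h : InD F D)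
    (hle : D' ≤ D) : InD F D' := by
  obtain ⟨Q, f, hf, hD⟩ := h
  refine ⟨(D'.map (MonoidHom.snd ↥S ↥S)).map S.subtype, f, hf.restrict_to ?_, fun a b => ?_⟩
  · rintro _ ⟨_, ⟨⟨a, b⟩, hab, rfl⟩, rfl⟩
    exact ((hD a b).1 (hle hab)).1
  · constructor
    · intro hab
      exact ⟨⟨b, ⟨(a, b), hab, rfl⟩, rfl⟩, ((hD a b).1 (hle hab)).2⟩
    · rintro ⟨⟨b', ⟨⟨a', b''⟩, hab, hb'⟩, hb⟩, ha⟩
      obtain rfl : b'' = b' := hb'
      obtain rfl : b'' = b := Subtype.ext hb
      obtain rfl : a' = a := Subtype.ext (((hD _ _).1 (hle hab)).2.trans ha.symm)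
      exact hab

theorem InD.conj {F : Cfsg.FusionSystem S} {D : Subgroup (↥S × ↥S)} (h : InD F D)
    (c : ↥S × ↥S) : InD F (D.map (MulAut.conj c).toMonoidHom) := by
  obtain ⟨Q, f, hf, hD⟩ := h
  obtain ⟨u, v⟩ := c
  have hQS : Q ≤ S := hf.le
  refine ⟨im Q (cj (v : Ω)), cj (u : Ω) ∘ (f ∘ cj ((v : Ω)⁻¹)), ?_, fun a b => ?_⟩
  · have h1 : Mor F (im Q (cj (v : Ω))) (cj ((v : Ω)⁻¹)) :=
      mor_cj (mor_cj (F := F) hQS v.2).im_le (S.inv_mem v.2)
    have h2 := h1.comp hf fun x hx => mem_im_cj.1 hx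
    exact h2.comp (mor_cj le_rfl u.2) fun x hx => hf.apply_mem (mem_im_cj.1 hx)
  · rw [Subgroup.mem_map]
    constructor
    · rintro ⟨⟨a', b'⟩, hab, e⟩
      obtain ⟨hb, ha⟩ := (hD a' b').1 hab
      obtain ⟨rfl, rfl⟩ : u * a' * u⁻¹ = a ∧ v * b' * v⁻¹ = b := by simpa [Prod.ext_iff] using e
      refine ⟨mem_im_cj.2 ?_, ?_⟩
      · simpa [cj_apply, mul_assoc] using hb
      · simp [cj_apply, mul_assoc, ha]
    · rintro ⟨hb, ha⟩
      refine ⟨(u⁻¹ * a * u, v⁻¹ * b * v), (hD _ _).2 ⟨?_, ?_⟩, ?_⟩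
      · simpa [cj_apply] using mem_im_cj.1 hb
      · simp [ha, cj_apply, mul_assoc]
      · simp [mul_assoc]

/-- transport of graphs along a map of the system -/
theorem InD.push {F : Cfsg.FusionSystem S} {H : Type*} [Group H] (α β : H →* ↥S × ↥S)
    (R : Subgroup Ω) (f : Ω → Ω) (hf : Mor F R f)
    (hαR : ∀ h, ((α h).1 : Ω) ∈ R) (h1 : ∀ h, ((β h).1 : Ω) = f (α h).1)
    (h2 : ∀ h, (β h).2 = (α h).2) {D : Subgroup H} (hD : InD F (D.map α)) : InD F (D.map β) := by
  obtain ⟨Q, g, hg, hQ⟩ := hD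
  refine ⟨((D.map α).map (MonoidHom.snd ↥S ↥S)).map S.subtype, f ∘ g, ?_, fun a b => ?_⟩
  · refine (hg.restrict_to ?_).comp hf ?_
    · rintro _ ⟨_, ⟨⟨a, b⟩, hab, rfl⟩, rfl⟩
      exact ((hQ a b).1 hab).1
    · rintro _ ⟨_, ⟨⟨a, b⟩, hab, rfl⟩, rfl⟩
      have e := ((hQ a b).1 hab).2
      show g (b : Ω) ∈ R
      rw [← e]
      obtain ⟨h, -, he⟩ := hab
      have := hαR h
      rwa [he] at this
  · constructor
    · rintro ⟨h, hh, e⟩
      have hm : α h ∈ D.map α := ⟨h, hh, rfl⟩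
      obtain ⟨ea, eb⟩ := Prod.ext_iff.1 e
      have e' := ((hQ (α h).1 (α h).2).1 hm).2
      simp only at ea eb
      refine ⟨⟨b, ⟨α h, hm, ?_⟩, rfl⟩, ?_⟩
      · exact (h2 h).symm.trans eb
      · rw [← ea, h1, e', ← h2 h, eb]; rfl
    · rintro ⟨⟨b', ⟨x, ⟨h, hh, hx⟩, hx'⟩, hb'⟩, ha⟩
      refine ⟨h, hh, Prod.ext (Subtype.ext ?_) ?_⟩
      · have hm : α h ∈ D.map α := ⟨h, hh, rfl⟩
        have e' := ((hQ (α h).1 (α h).2).1 hm).2
        rw [h1, e', ha]
        have : (α h).2 = b := Subtype.ext (by rw [← hb', ← hx', ← hx]; rfl)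
        rw [this]; rfl
      · rw [h2]; exact Subtype.ext (by rw [← hb', ← hx', ← hx]; rfl)

/-- the biset with `n K` orbits with stabilizer `K` -/
abbrev Bis (n : Subgroup (↥S × ↥S) → ℕ) : Type u :=
  Σ i : (K : Subgroup (↥S × ↥S)) × Fin (n K), (↥S × ↥S) ⧸ i.1

noncomputable def mk (D : Subgroup (↥S × ↥S)) (K : Subgroup (↥S × ↥S)) : ℕ :=
  Nat.card (Fix D ((↥S × ↥S) ⧸ K))

variable [Finite S]

theorem card_fix_bis (n : Subgroup (↥S × ↥S) → ℕ) (D : Subgroup (↥S × ↥S))
    [Fintype (Subgroup (↥S × ↥S))] :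
    Nat.card (Fix D (Bis n)) = ∑ K, n K * mk D K := by
  classical
  have e : Fix D (Bis n) ≃ Σ i : (K : Subgroup (↥S × ↥S)) × Fin (n K), Fix D ((↥S × ↥S) ⧸ i.1) :=
    { toFun := fun z => ⟨z.1.1, ⟨z.1.2, fun h hh => by
        have := z.2 h hh
        obtain ⟨⟨i, q⟩, hz⟩ := z
        change (⟨i, h • q⟩ : Bis n) = ⟨i, q⟩ at this
        exact eq_of_heq (Sigma.mk.inj_iff.1 this).2⟩⟩
      invFun := fun z => ⟨⟨z.1, z.2.1⟩, fun h hh => by
        show (⟨z.1, h • z.2.1⟩ : Bis n) = _
        rw [z.2.2 h hh]⟩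
      left_inv := fun z => rfl
      right_inv := fun z => rfl }
  rw [Nat.card_congr e, Nat.card_sigma, Fintype.sum_sigma]
  refine Finset.sum_congr rfl fun K _ => ?_
  show (∑ _y : Fin (n K), mk D K) = _
  rw [Finset.sum_const, Finset.card_univ, Fintype.card_fin, smul_eq_mul]

theorem fix_coset {H : Type*} [Group H] {D K : Subgroup H} {a : H}
    (h : ∀ d ∈ D, d • (a : H ⧸ K) = a) : D ≤ K.map (MulAut.conj a).toMonoidHom := by
  intro d hd
  have h' := QuotientGroup.eq.1 (h d hd).symm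
  exact ⟨a⁻¹ * (d * a), h', by simp [mul_assoc]⟩

theorem mk_pos {F : Cfsg.FusionSystem S} {D K : Subgroup (↥S × ↥S)} (h : mk D K ≠ 0) :
    Nat.card D ≤ Nat.card K ∧ (InD F K → InD F D) := by
  obtain ⟨⟨⟨q, hq⟩⟩, -⟩ := Nat.card_pos_iff.1 (Nat.pos_of_ne_zero h)
  induction q using QuotientGroup.induction_on with
  | H a =>
    have hle := fix_coset hq
    exact ⟨(Subgroup.card_le_of_le hle).trans
      (Subgroup.card_map_of_injective (MulAut.conj a).injective).le, fun hK => (hK.conj a).of_le hle⟩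

theorem mk_self_pos (D : Subgroup (↥S × ↥S)) : 0 < mk D D := by
  haveI : Nonempty (Fix D ((↥S × ↥S) ⧸ D)) := ⟨⟨((1 : ↥S × ↥S) : (↥S × ↥S) ⧸ D), fun d hd => by
    show ((d * 1 : ↥S × ↥S) : (↥S × ↥S) ⧸ D) = _
    rw [QuotientGroup.eq]; simpa using hd⟩⟩
  exact Nat.card_pos

theorem mk_conj (D K : Subgroup (↥S × ↥S)) (a : ↥S × ↥S) :
    mk (D.map (MulAut.conj a).toMonoidHom) K = mk D K := by
  refine (Nat.card_congr
    ((MulAction.toPerm a).subtypeEquiv fun q => ?_)).symm
  constructor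
  · rintro h _ ⟨d, hd, rfl⟩
    show (a * d * a⁻¹) • a • q = a • q
    rw [mul_smul, inv_smul_smul, mul_smul, h d hd]
  · intro h d hd
    have h' := h (a * d * a⁻¹) ⟨d, hd, rfl⟩
    change (a * d * a⁻¹) • a • q = a • q at h'
    rw [mul_smul, inv_smul_smul, mul_smul] at h'
    exact smul_left_cancel a h'

theorem conj_of_mk {D K : Subgroup (↥S × ↥S)} (h : mk D K ≠ 0)
    (hc : Nat.card D = Nat.card K) : ∃ a, K.map (MulAut.conj a).toMonoidHom = D := by
  obtain ⟨⟨⟨q, hq⟩⟩, -⟩ := Nat.card_pos_iff.1 (Nat.pos_of_ne_zero h)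
  induction q using QuotientGroup.induction_on with
  | H a =>
    refine ⟨a, (Subgroup.eq_of_le_of_card_ge (fix_coset hq) ?_).symm⟩
    rw [Subgroup.card_map_of_injective (MulAut.conj a).injective, hc]

/-- A biset built from graphs of maps of `F` whose fixed point numbers on such graphs depend only
on their order (Park's scaling argument). -/
theorem exists_stable (F : Cfsg.FusionSystem S) [Fintype (Subgroup (↥S × ↥S))] (j : ℕ) :
    ∃ n : Subgroup (↥S × ↥S) → ℕ, (∀ K, n K ≠ 0 → InD F K) ∧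
      0 < n ((MonoidHom.id ↥S).prod (MonoidHom.id ↥S)).range ∧
      ∀ D D', InD F D → InD F D' → Nat.card D = Nat.card D' →
        Nat.card (↥S × ↥S) < Nat.card D + j →
        ∑ K, n K * mk D K = ∑ K, n K * mk D' K := by
  classical
  induction j with
  | zero =>
    refine ⟨fun K => if InD F K then 1 else 0, fun K hK => ?_, ?_, fun D D' _ _ _ h => ?_⟩
    · by_contra h; simp [h] at hK
    · simp [inD_diag F]
    · have := Subgroup.card_le_card_group D; omega
  | succ j ih =>
    obtain ⟨n, hn, hn0, hbal⟩ := ih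
    set k := Nat.card (↥S × ↥S) - j with hk
    let c : Subgroup (↥S × ↥S) → ℕ := fun D => ∑ K, n K * mk D K
    let a : Subgroup (↥S × ↥S) → ℕ := fun D =>
      ∑ K ∈ (Finset.univ : Finset (Subgroup (↥S × ↥S))).filter (fun K : Subgroup (↥S × ↥S) => Nat.card K = Nat.card D), mk D K
    have ha : ∀ D, 0 < a D := fun D =>
      Finset.sum_pos' (fun _ _ => Nat.zero_le _) ⟨D, by simp, mk_self_pos D⟩
    have hA : 0 < ∏ D, a D := Finset.prod_pos fun D _ => ha D
    set A := ∏ D, a D with hA'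
    set C := ∑ D, c D with hC
    let t : Subgroup (↥S × ↥S) → ℕ := fun K =>
      if InD F K ∧ Nat.card K = k then (C - c K) * (A / a K) else 0
    refine ⟨fun K => A * n K + t K, fun K hK => ?_, ?_, fun D D' hD hD' hcard hj => ?_⟩
    · by_contra h
      have : n K = 0 := by_contra fun h' => h (hn K h')
      simp [t, h, this] at hK
    · exact Nat.add_pos_left (Nat.mul_pos hA hn0) _
    have hsum : ∀ D, ∑ K, (A * n K + t K) * mk D K = A * c D + ∑ K, t K * mk D K := by
      intro D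
      simp only [add_mul, Finset.sum_add_distrib, c, Finset.mul_sum, mul_assoc]
    rw [hsum, hsum]
    by_cases hlt : k < Nat.card D
    · have h0 : ∀ E : Subgroup (↥S × ↥S), Nat.card E = Nat.card D → ∑ K, t K * mk E K = 0 := by
        intro E hE
        refine Finset.sum_eq_zero fun K _ => ?_
        by_cases hK : InD F K ∧ Nat.card K = k
        · have : mk E K = 0 := by_contra fun h => by have := (mk_pos (F := F) h).1; omega
          simp [this]
        · simp [t, hK]
      rw [h0 D rfl, h0 D' hcard.symm, show c D = c D' from hbal D D' hD hD' hcard (by omega)]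
    · have key : ∀ E, InD F E → Nat.card E = k → A * c E + ∑ K, t K * mk E K = A * C := by
        intro E hE hEk
        have h1 : ∀ K, t K * mk E K =
            if Nat.card K = Nat.card E then (C - c E) * (A / a E) * mk E K else 0 := by
          intro K
          by_cases hK : Nat.card K = Nat.card E
          · rw [if_pos hK]
            by_cases hmk : mk E K = 0
            · simp [hmk]
            obtain ⟨g, hg⟩ := conj_of_mk hmk hK.symm
            have hKD : InD F K := by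
              have h' := hE.conj g⁻¹
              have e : E.map (MulAut.conj g⁻¹).toMonoidHom = K := by
                rw [← hg, Subgroup.map_map]
                convert Subgroup.map_id K
                ext <;> simp [mul_assoc]
              rwa [e] at h'
            have hcc : c K = c E := by
              show ∑ L, n L * mk K L = ∑ L, n L * mk E L
              refine Finset.sum_congr rfl fun L _ => ?_
              rw [← hg, mk_conj]
            have haa : a K = a E := by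
              show ∑ L ∈ _, mk K L = ∑ L ∈ _, mk E L
              rw [hK]
              refine Finset.sum_congr rfl fun L _ => ?_
              rw [← hg, mk_conj]
            simp [t, hKD, hK, hEk, hcc, haa]
          · rw [if_neg hK]
            simp [t, ← hEk, hK]
        rw [Finset.sum_congr rfl fun K _ => h1 K, ← Finset.sum_filter, ← Finset.mul_sum]
        have hd : a E ∣ A := Finset.dvd_prod_of_mem a (Finset.mem_univ E)
        have hc : c E ≤ C := Finset.single_le_sum (fun _ _ => Nat.zero_le _) (Finset.mem_univ E)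
        rw [show (∑ K ∈ (Finset.univ : Finset (Subgroup (↥S × ↥S))).filter (fun K : Subgroup (↥S × ↥S) => Nat.card K = Nat.card E), mk E K) = a E from rfl,
          mul_assoc, Nat.div_mul_cancel hd, mul_comm A (c E), ← add_mul, Nat.add_sub_cancel' hc,
          mul_comm]
      rw [key D hD (by omega), key D' hD' (by omega)]

/-- a type with the action pulled back along a homomorphism -/
@[nolint unusedArguments]
def Pull {H M : Type*} [Group H] [Group M] (_ : H →* M) (X : Type w) : Type w := X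

instance pullAction {H M : Type*} [Group H] [Group M] (f : H →* M) (X : Type w) [MulAction M X] :
    MulAction H (Pull f X) :=
  MulAction.compHom X f

theorem pull_smul {H M : Type*} [Group H] [Group M] (f : H →* M) (X : Type w) [MulAction M X]
    (h : H) (x : X) : h • (show Pull f X from x) = show Pull f X from f h • x := rfl

theorem card_fix_pull {H M : Type*} [Group H] [Group M] (f : H →* M) (X : Type w) [MulAction M X]
    (D : Subgroup H) : Nat.card (Fix D (Pull f X)) = Nat.card (Fix (D.map f) X) :=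
  Nat.card_congr (Equiv.subtypeEquivRight fun x => by
    constructor
    · rintro h _ ⟨d, hd, rfl⟩; exact h d hd
    · intro h d hd; exact h _ ⟨d, hd, rfl⟩)

end Biset

/-- Every fusion system over a finite p-group S, saturated or not, is realized inside some finite group: there is a finite group G and an injective homomorphism ι of S into G such that the maps of the system are exactly the homomorphisms between subgroups of S that become conjugations by elements of G (the image of S need not be a Sylow p-subgroup of G). -/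
theorem result {Ω : Type u} [Group Ω] {S : Subgroup Ω} [Finite S] (p : ℕ) [Fact p.Prime] (hS : IsPGroup p S) (F : Cfsg.FusionSystem S) : ∃ (G : Type u) (_ : Group G) (_ : Finite G) (ι : ↥S →* G), F.IsRealizedBy ι := by
  classical
  haveI : Fintype (Subgroup (↥S × ↥S)) := Fintype.ofFinite _
  obtain ⟨n, hn, hn0, hbal⟩ := exists_stable F (Nat.card (↥S × ↥S) + 1)
  let X : Type u := Bis n
  haveI : Finite X := inferInstance
  let ρ : ↥S × ↥S →* Equiv.Perm X := MulAction.toPermHom (↥S × ↥S) X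
  let G : Subgroup (Equiv.Perm X) :=
    Subgroup.centralizer ((ρ.comp (MonoidHom.inr ↥S ↥S)).range : Set (Equiv.Perm X))
  have hιG : ∀ a : ↥S, ρ (a, 1) ∈ G := by
    rintro a _ ⟨b, rfl⟩
    show ρ (1, b) * ρ (a, 1) = ρ (a, 1) * ρ (1, b)
    rw [← map_mul, ← map_mul]
    simp
  let ι : ↥S →* ↥G := (ρ.comp (MonoidHom.inl ↥S ↥S)).codRestrict G hιG
  set D₀ := ((MonoidHom.id ↥S).prod (MonoidHom.id ↥S)).range with hD₀
  let x₀ : X := ⟨⟨D₀, ⟨0, hn0⟩⟩, ((1 : ↥S × ↥S) : (↥S × ↥S) ⧸ D₀)⟩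
  have hx₀ : ∀ d : ↥S × ↥S, d • x₀ = x₀ ↔ d ∈ D₀ := by
    intro d
    show (⟨⟨D₀, ⟨0, hn0⟩⟩, ((d * 1 : ↥S × ↥S) : (↥S × ↥S) ⧸ D₀)⟩ : X) = x₀ ↔ _
    simp only [x₀, Sigma.mk.injEq, heq_eq_eq, true_and, mul_one, QuotientGroup.eq_one_iff,
      QuotientGroup.eq, inv_mem_iff]
  have hinj : Function.Injective ι := by
    rw [injective_iff_map_eq_one]
    intro a ha
    have h : ((a, 1) : ↥S × ↥S) • x₀ = x₀ := Equiv.congr_fun (congrArg Subtype.val ha) x₀
    obtain ⟨z, hz⟩ := (hx₀ _).1 h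
    obtain ⟨h1, h2⟩ : z = a ∧ z = 1 := by simpa [Prod.ext_iff] using hz
    exact h1.symm.trans h2
  refine ⟨↥G, inferInstance, inferInstance, ι, hinj, fun P hP φ hφ => ⟨fun hφF => ?_, ?_⟩⟩
  · -- a map of `F` gives an isomorphism of the two restricted bisets
    have hm : Mor F P (toFun φ) := mor_toFun hφF
    obtain ⟨g, hg, hgf, -, -⟩ := hm.exists_inv
    let α : ↥P × ↥S →* ↥S × ↥S := (Subgroup.inclusion hP).prodMap (MonoidHom.id ↥S)
    let β : ↥P × ↥S →* ↥S × ↥S := (φ.codRestrict S hφ).prodMap (MonoidHom.id ↥S)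
    haveI : Finite ↥P := finite_of_le hP
    haveI : Finite (Pull α X) := inferInstanceAs (Finite X)
    haveI : Finite (Pull β X) := inferInstanceAs (Finite X)
    have hαi : Function.Injective α := fun x y h => by
      obtain ⟨h1, h2⟩ := Prod.ext_iff.1 h
      exact Prod.ext (Subgroup.inclusion_injective hP h1) h2
    have hβi : Function.Injective β := fun x y h => by
      obtain ⟨h1, h2⟩ := Prod.ext_iff.1 h
      exact Prod.ext (F.injective_of_mem hφF (congrArg Subtype.val h1)) h2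
    have hab : ∀ D : Subgroup (↥P × ↥S),
        Nat.card (Fix (D.map α) X) = Nat.card (Fix (D.map β) X) := by
      intro D
      rw [card_fix_bis, card_fix_bis]
      have h12 : InD F (D.map α) ↔ InD F (D.map β) :=
        ⟨InD.push α β P _ hm (fun h => h.1.2) (fun h => (toFun_coe φ h.1).symm) (fun _ => rfl),
          InD.push β α (im P (toFun φ)) g hg
            (fun h => by
              show φ h.1 ∈ _
              rw [← toFun_coe φ h.1]; exact apply_mem_im h.1.2)
            (fun h => by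
              show (h.1 : Ω) = g (φ h.1)
              rw [← toFun_coe φ h.1, hgf _ h.1.2]) (fun _ => rfl)⟩
      by_cases h : InD F (D.map α)
      · refine hbal _ _ h (h12.1 h) ?_ (by omega)
        rw [Subgroup.card_map_of_injective hαi, Subgroup.card_map_of_injective hβi]
      · have h0 : ∀ E, ¬ InD F E → ∀ K, n K * mk E K = 0 := fun E hE K => by
          by_cases hK : n K = 0
          · simp [hK]
          · simp [by_contra fun h' => hE ((mk_pos h').2 (hn K hK))]
        rw [Finset.sum_eq_zero fun K _ => h0 _ h K,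
          Finset.sum_eq_zero fun K _ => h0 _ (fun h' => h (h12.2 h')) K]
    obtain ⟨e, he⟩ := equiv_of_marks (H := ↥P × ↥S) (Nat.card (Pull α X)) (X := Pull α X)
      (Y := Pull β X) rfl (fun D => by rw [card_fix_pull, card_fix_pull, hab D])
    let e' : Equiv.Perm X := e
    have he' : ∀ (x : ↥P) (t : ↥S) (z : X),
        e' ((Subgroup.inclusion hP x, t) • z) = (φ.codRestrict S hφ x, t) • e' z :=
      fun x t z => he (x, t) z
    have heG : e' ∈ G := by
      rintro _ ⟨t, rfl⟩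
      refine Equiv.ext fun z => ?_
      show ((1 : ↥S), t) • e' z = e' (((1 : ↥S), t) • z)
      have := he' 1 t z
      rw [map_one, map_one] at this
      exact this.symm
    refine ⟨⟨e', heG⟩, fun x => Subtype.ext (Equiv.ext fun z => ?_)⟩
    show ((⟨φ x, hφ x⟩ : ↥S), (1 : ↥S)) • z = e' (((⟨(x : Ω), hP x.2⟩ : ↥S), (1 : ↥S)) • e'.symm z)
    rw [show (⟨(x : Ω), hP x.2⟩ : ↥S) = Subgroup.inclusion hP x from rfl, he', Equiv.apply_symm_apply]
    rfl
  · rintro ⟨⟨g, hg⟩, hgx⟩
    -- the image of the diagonal point is fixed by the graph of `φ`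
    have hfix : ∀ x : ↥P, ((⟨φ x, hφ x⟩, ⟨(x : Ω), hP x.2⟩) : ↥S × ↥S) • g x₀ = g x₀ := by
      intro x
      have h1 : ρ (⟨φ x, hφ x⟩, 1) * g = g * ρ (⟨(x : Ω), hP x.2⟩, 1) := by
        have h := congrArg Subtype.val (hgx x)
        change ρ (⟨φ x, hφ x⟩, 1) = g * ρ (⟨(x : Ω), hP x.2⟩, 1) * g⁻¹ at h
        rw [h]; group
      have h2 : ρ (1, ⟨(x : Ω), hP x.2⟩) * g = g * ρ (1, ⟨(x : Ω), hP x.2⟩) :=
        hg _ ⟨⟨(x : Ω), hP x.2⟩, rfl⟩
      have h3 : ρ (⟨φ x, hφ x⟩, ⟨(x : Ω), hP x.2⟩) * g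
          = g * ρ (⟨(x : Ω), hP x.2⟩, ⟨(x : Ω), hP x.2⟩) := by
        rw [show ((⟨φ x, hφ x⟩, ⟨(x : Ω), hP x.2⟩) : ↥S × ↥S)
          = (⟨φ x, hφ x⟩, 1) * (1, ⟨(x : Ω), hP x.2⟩) by simp, map_mul, mul_assoc, h2,
          ← mul_assoc, h1, mul_assoc, ← map_mul]
        simp
      have h4 := Equiv.congr_fun h3 x₀
      change _ = g (((⟨(x : Ω), hP x.2⟩, ⟨(x : Ω), hP x.2⟩) : ↥S × ↥S) • x₀) at h4
      have h5 : ((⟨(x : Ω), hP x.2⟩, ⟨(x : Ω), hP x.2⟩) : ↥S × ↥S) • x₀ = x₀ :=
        (hx₀ _).2 ⟨⟨(x : Ω), hP x.2⟩, rfl⟩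
      rw [h5] at h4
      exact h4
    obtain ⟨⟨⟨K, i⟩, q⟩, hq⟩ : ∃ v : X, v = g x₀ := ⟨_, rfl⟩
    rw [← hq] at hfix
    induction q using QuotientGroup.induction_on with
    | H a =>
      have hK : InD F K := hn K (Nat.ne_zero_of_lt i.2)
      let δ : ↥P →* ↥S × ↥S := (φ.codRestrict S hφ).prod (Subgroup.inclusion hP)
      have hle : δ.range ≤ K.map (MulAut.conj a).toMonoidHom := by
        refine fix_coset ?_
        rintro _ ⟨x, rfl⟩
        have h := hfix x
        change (⟨⟨K, i⟩, δ x • ((a : ↥S × ↥S) : (↥S × ↥S) ⧸ K)⟩ : X) = ⟨⟨K, i⟩, _⟩ at h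
        exact eq_of_heq (Sigma.mk.inj_iff.1 h).2
      obtain ⟨Q, f, hf, hQ⟩ := (hK.conj a).of_le hle
      have hmem : ∀ x : ↥P, (x : Ω) ∈ Q ∧ φ x = f x := fun x => (hQ _ _).1 ⟨x, rfl⟩
      exact (mor_iff_hom fun x => (hmem x).2).1 (hf.restrict_to fun x hx => (hmem ⟨x, hx⟩).1)

end Cfsg.Agent.S5328
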