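import Cfsg.Statements.S5329
import Cfsg.Agent.Lib.FusionFocal

set_option autoImplicit false
open Cfsg

namespace Cfsg.Agent.S5329

/-- For a saturated fusion system F over a finite p-group S, the focal subgroup and the derived subgroup of S meet the centre Z(F) of the system in the same subgroup: foc(F) ∩ Z(F) = S′ ∩ Z(F). -/
theorem result {Ω : Type*} [Group Ω] {S : Subgroup Ω} [Finite S] (p : ℕ) [Fact p.Prime] (hS : IsPGroup p S) (F : Cfsg.FusionSystem S) (hF : F.IsSaturated p) : F.focalSubgroup ⊓ F.center = ⁅(S : Subgroup Ω), (S : Subgroup Ω)⁆ ⊓ F.center := by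
  classical
  refine le_antisymm (fun z hz => ?_) (inf_le_inf_right _ FusionFocal.commutator_le_focal)
  obtain ⟨hzf, hzc⟩ := hz
  refine ⟨?_, hzc⟩
  have hcen := FusionSysNormal.isCentral_iff.mp (FusionSysNormal.center_isCentral (F := F))
  have hzS : z ∈ S := hcen.1 hzc
  let χ : Ω → Abelianization ↥S := fun x => if h : x ∈ S then Abelianization.of ⟨x, h⟩ else 1
  have hχ : ∀ x (h : x ∈ S), χ x = Abelianization.of ⟨x, h⟩ := fun x h => dif_pos h
  have hinv : FusionTransfer.IsInvHom S S χ := by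
    refine ⟨fun x hx y hy => ?_, fun s hs x hx => ?_⟩
    · rw [hχ x hx, hχ y hy, hχ _ (S.mul_mem hx hy), ← map_mul]
      rfl
    · rw [hχ x hx, hχ _ (FusionSysBasic.cj_mem_S hs hx)]
      have e : (⟨FusionSysBasic.cj s x, FusionSysBasic.cj_mem_S hs hx⟩ : ↥S) =
          ⟨s, hs⟩ * ⟨x, hx⟩ * ⟨s, hs⟩⁻¹ := rfl
      rw [e, map_mul, map_mul, map_inv, mul_inv_cancel_comm]
  have hsc : F.StronglyClosed S :=
    FusionSysNormal.stronglyClosed_iff.2 ⟨le_rfl, fun _ _ _ hf _ hx => hf.apply_mem hx⟩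
  obtain ⟨N, W, f, hN, hWm, hWs, -, -, hWz, -⟩ := FusionTransfer.exists_transfer hS hF hsc
    (fun P g hg => ⟨1, S.one_mem, fun x hx => by
      rw [FusionSysBasic.cj_one]; exact S.mul_mem (S.inv_mem (hg.apply_mem hx)) (hg.le hx)⟩) hinv
  let Z : Subgroup Ω :=
    { carrier := {x | x ∈ S ∧ W x = 1}
      one_mem' := ⟨S.one_mem, by
        have h1 := hWm 1 S.one_mem 1 S.one_mem
        rwa [one_mul, left_eq_mul] at h1⟩
      mul_mem' := fun {a b} ha hb =>
        ⟨S.mul_mem ha.1 hb.1, by rw [hWm a ha.1 b hb.1, ha.2, hb.2, one_mul]⟩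
      inv_mem' := fun {a} ha => ⟨S.inv_mem ha.1, by
        have h0 := hWm 1 S.one_mem 1 S.one_mem
        rw [one_mul, left_eq_mul] at h0
        have h1 := hWm a ha.1 a⁻¹ (S.inv_mem ha.1)
        rw [mul_inv_cancel, ha.2, one_mul, h0] at h1
        exact h1.symm⟩ }
  have hfZ : F.focalSubgroup ≤ Z := by
    refine FusionFocal.focal_le_iff.mpr fun P g hg x hx =>
      ⟨S.mul_mem (S.inv_mem (hg.le hx)) (hg.apply_mem hx), ?_⟩
    rw [hWm _ (S.inv_mem (hg.le hx)) _ (hg.apply_mem hx), hWs P g hg x hx (hg.le hx),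
      ← hWm _ (S.inv_mem (hg.le hx)) _ (hg.le hx), inv_mul_cancel]
    have h0 := hWm 1 S.one_mem 1 S.one_mem
    rwa [one_mul, left_eq_mul] at h0
  have hfixed : ∀ w ∈ F.center, ∀ P g, FusionSysBasic.Mor F P g → w ∈ P → g w = w := by
    intro w hw P g hg hwP
    obtain ⟨f', hf', he, hfix⟩ := hcen.2 P g hg
    rw [← he w hwP, hfix w hw]
  have hcomm : ∀ s ∈ S, s * z = z * s := fun s hs => by
    have h1 := hfixed z hzc S _ (FusionSysBasic.mor_cj le_rfl hs) hzS
    rw [FusionSysBasic.cj_apply, mul_inv_eq_iff_eq_mul] at h1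
    exact h1
  have h1 := hWz z hzS hcomm fun j P g hg hj => hfixed _ (pow_mem hzc j) P g hg hj
  rw [(hfZ hzf).2, hχ z hzS] at h1
  have h2 : Abelianization.of (⟨z, hzS⟩ : ↥S) = 1 := by
    obtain ⟨k, hk⟩ := IsPGroup.iff_orderOf.mp
      (hS.of_surjective Abelianization.of (QuotientGroup.mk'_surjective _))
      (Abelianization.of (⟨z, hzS⟩ : ↥S))
    rcases k.eq_zero_or_pos with h0 | h0
    · rwa [h0, pow_zero, orderOf_eq_one_iff] at hk
    · exfalso
      exact hN (dvd_trans (Int.natCast_dvd_natCast.mpr (hk ▸ dvd_pow_self p h0.ne'))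
        (orderOf_dvd_iff_zpow_eq_one.mpr h1.symm))
  have h3 : (⟨z, hzS⟩ : ↥S) ∈ commutator ↥S := by
    rw [← Abelianization.ker_of]; exact h2
  rw [← Subgroup.map_subtype_commutator]
  exact ⟨_, h3, rfl⟩

end Cfsg.Agent.S5329
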