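import Cfsg.Statements.S5330
import Cfsg.Agent.Lib.FusionSysNormal

set_option autoImplicit false
open Cfsg

namespace Cfsg.Agent.S5330

open Cfsg.FusionSystem Cfsg.Agent.FusionSysBasic Cfsg.Agent.FusionSysSaturated
  Cfsg.Agent.FusionSysNormal

/-- An abelian group with an action of order prime to the group is the fixed points times the
commutators. -/
theorem fixed_commutator {A G : Type*} [CommGroup A] [Finite A] [Group G] [Finite G]
    [MulDistribMulAction G A] (hco : (Nat.card A).Coprime (Nat.card G)) (D : Subgroup A)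
    (hD : D = Subgroup.closure {y | ∃ (g : G) (a : A), y = a⁻¹ * g • a}) :
    (∀ a ∈ D, (∀ g : G, g • a = a) → a = 1) ∧
      ∀ a : A, ∃ c d, (∀ g : G, g • c = c) ∧ d ∈ D ∧ a = c * d := by
  classical
  haveI : Fintype G := Fintype.ofFinite G
  let N : A →* A :=
    { toFun := fun a => ∏ g : G, g • a
      map_one' := by simp
      map_mul' := fun a b => by simp [Finset.prod_mul_distrib, smul_mul'] }
  have hNg : ∀ (h : G) (a : A), N (h • a) = N a := fun h a => by
    show (∏ g : G, g • h • a) = _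
    exact Fintype.prod_equiv (Equiv.mulRight h) _ _ fun g => (mul_smul g h a).symm
  have hgN : ∀ (h : G) (a : A), h • N a = N a := fun h a => by
    show h • (∏ g : G, g • a) = _
    rw [Finset.smul_prod']
    exact Fintype.prod_equiv (Equiv.mulLeft h) _ _ fun g => (mul_smul h g a).symm
  have hDN : ∀ a ∈ D, N a = 1 := by
    intro a ha
    have : D ≤ N.ker := by
      rw [hD, Subgroup.closure_le]
      rintro _ ⟨g, b, rfl⟩
      show N (b⁻¹ * g • b) = 1
      rw [map_mul, map_inv, hNg, inv_mul_cancel]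
    exact this ha
  have hfix : ∀ a : A, (∀ g : G, g • a = a) → N a = a ^ Nat.card G := fun a ha => by
    show (∏ g : G, g • a) = _
    rw [Finset.prod_congr rfl fun g _ => ha g, Finset.prod_const, Finset.card_univ,
      Nat.card_eq_fintype_card]
  refine ⟨fun a ha hg => (powCoprime hco).injective
    (show a ^ Nat.card G = (1 : A) ^ Nat.card G by rw [← hfix a hg, hDN a ha, one_pow]),
    fun a => ?_⟩
  obtain ⟨c, hc⟩ := (powCoprime hco).surjective (N a)
  have hc' : c ^ Nat.card G = N a := hc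
  have hcf : ∀ g : G, g • c = c := fun g => (powCoprime hco).injective
    (show (g • c) ^ Nat.card G = c ^ Nat.card G by rw [← smul_pow', hc', hgN g a])
  refine ⟨c, c⁻¹ * a, hcf, ?_, (mul_inv_cancel_left c a).symm⟩
  have hmem : ∀ g : G, a⁻¹ * g • a ∈ D := fun g => hD.ge (Subgroup.subset_closure ⟨g, a, rfl⟩)
  have h1 : (c⁻¹ * a) ^ Nat.card G ∈ D := by
    have h2 : (c⁻¹ * a) ^ Nat.card G = (∏ g : G, a⁻¹ * g • a)⁻¹ := by
      rw [mul_pow, inv_pow, hc', Finset.prod_mul_distrib, Finset.prod_const, Finset.card_univ,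
        ← Nat.card_eq_fintype_card, inv_pow, mul_inv, inv_inv, mul_comm]
      rfl
    rw [h2]
    exact D.inv_mem (D.prod_mem fun g _ => hmem g)
  obtain ⟨m, hm⟩ := exists_pow_eq_self_of_coprime (x := c⁻¹ * a) (n := Nat.card G)
    (Nat.Coprime.symm (Nat.Coprime.coprime_dvd_left (orderOf_dvd_natCard _) hco))
  rw [← hm]
  exact pow_mem h1 m

/-- Let F be a saturated fusion system over a finite abelian p-group S. Then S is the internal direct product of the centre of the system and the focal subgroup: Z(F) ∩ foc(F) = 1 and Z(F)·foc(F) = S. -/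
theorem result {Ω : Type*} [Group Ω] {S : Subgroup Ω} [Finite S] (p : ℕ) [Fact p.Prime] (hS : IsPGroup p S) (F : Cfsg.FusionSystem S) (hF : F.IsSaturated p) (hab : ∀ x ∈ S, ∀ y ∈ S, x * y = y * x) : F.center ⊓ F.focalSubgroup = ⊥ ∧ F.center ⊔ F.focalSubgroup = S := by
  have hC : ∀ T, T ≤ S → centralizerIn S T = S := fun T hT =>
    le_antisymm inf_le_left fun s hs => mem_centralizerIn.2 ⟨hs, fun x hx => by
      rw [cj_apply, hab s hs x (hT hx), mul_inv_cancel_right]⟩
  -- every map is the restriction of an automorphism of `S`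
  have hext : ∀ (P : Subgroup Ω) (f : Ω → Ω), Mor F P f →
      ∃ γ ∈ F.autGroup S, ∀ x ∈ P, afun γ x = f x := by
    intro P f hm
    have hfc : F.IsFullyCentralized (im P f) :=
      ⟨hm.im_le, fun Q hQ => by rw [hC _ (isConj_right_le hQ), hC _ hm.im_le]⟩
    obtain ⟨f', hf', hag, -⟩ := exists_extension_centralizer
      (receptive_of_fullyCentralized hS hF hfc) hm rfl
    rw [hC _ hm.le, sup_eq_right.2 hm.le] at hf'
    obtain ⟨γ, hγ, hγe⟩ := hf'.exists_aut (hf'.im_self fun x hx => hf'.apply_mem hx)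
    exact ⟨γ, hγ, fun x hx => by rw [hγe x (hm.le hx), hag x hx]⟩
  haveI := finite_autGroup (F := F) S
  have hco : (Nat.card S).Coprime (Nat.card (F.autGroup S)) := by
    obtain ⟨T, hT⟩ := (fullyAutomized_of_saturated_self hF).2
    have hbot : (T : Subgroup (F.autGroup S)) = ⊥ := by
      rw [hT, eq_bot_iff]
      intro β hβ
      obtain ⟨g, hg, -, he⟩ := mem_autInducedBy.1 hβ
      refine Subtype.ext (afun_ext fun x hx => (he x hx).trans ?_)
      rw [Subgroup.coe_one, afun_one hx, cj_apply, hab g hg x hx, mul_inv_cancel_right]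
    obtain ⟨k, hk⟩ := IsPGroup.iff_card.1 hS
    rw [hk]
    exact Nat.Coprime.pow_left _ ((Fact.out : p.Prime).coprime_iff_not_dvd.2
      fun h => T.ne_bot_of_dvd_card h hbot)
  letI : CommGroup ↥S :=
    { (inferInstance : Group ↥S) with mul_comm := fun a b => Subtype.ext (hab a a.2 b b.2) }
  letI : MulDistribMulAction ↥(F.autGroup S) ↥S :=
    { smul := fun g a => (g : MulAut S) a
      one_smul := fun a => rfl
      mul_smul := fun g h a => rfl
      smul_mul := fun g a b => map_mul (g : MulAut S) _ _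
      smul_one := fun g => map_one (g : MulAut S) }
  have hsmul : ∀ (g : ↥(F.autGroup S)) (a : ↥S), ((g • a : ↥S) : Ω) = afun (g : MulAut S) a :=
    fun g a => (afun_coe (g : MulAut S) a).symm
  set D := Subgroup.closure {y : ↥S | ∃ (g : ↥(F.autGroup S)) (a : ↥S), y = a⁻¹ * g • a} with hD
  obtain ⟨hfix, hgen⟩ := fixed_commutator (A := ↥S) hco D hD
  have hfoc : F.focalSubgroup = D.map S.subtype := by
    rw [hD, MonoidHom.map_closure, focalSubgroup]
    congr 1
    ext y
    constructor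
    · rintro ⟨P, φ, x, hφ, rfl⟩
      have hxS : (x : Ω) ∈ S := (F.le_of_mem hφ).1 x.2
      obtain ⟨γ, hγ, hγe⟩ := hext P _ (mor_toFun hφ)
      refine ⟨(⟨x, hxS⟩ : ↥S)⁻¹ * (⟨γ, hγ⟩ : ↥(F.autGroup S)) • ⟨x, hxS⟩,
        ⟨⟨γ, hγ⟩, ⟨x, hxS⟩, rfl⟩, ?_⟩
      simp only [Subgroup.coe_subtype, Subgroup.coe_mul, Subgroup.coe_inv, hsmul, hγe _ x.2,
        toFun_coe]
    · rintro ⟨_, ⟨g, a, rfl⟩, rfl⟩
      obtain ⟨φ, hφ, he⟩ := (mem_autGroup le_rfl).1 g.2
      exact ⟨S, φ, a, hφ, by simp [hsmul, he]⟩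
  have hcen : ∀ a : ↥S, (a : Ω) ∈ F.center ↔ ∀ g : ↥(F.autGroup S), g • a = a := by
    intro a
    constructor
    · intro ha g
      refine Subtype.ext ?_
      rw [hsmul]
      obtain ⟨f, -, hag, hfx⟩ :=
        (isCentral_iff.1 center_isCentral).2 S _ ((mem_autGroup le_rfl).1 g.2)
      rw [← hag _ a.2, hfx _ ha]
    · intro ha
      refine le_center (isCentral_iff.2 ⟨Subgroup.zpowers_le.2 a.2, fun P f hf => ?_⟩)
        (Subgroup.mem_zpowers _)
      obtain ⟨γ, hγ, hγe⟩ := hext P f hf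
      refine ⟨afun γ, ((mem_autGroup le_rfl).1 hγ).restrict_to
        (sup_le hf.le (Subgroup.zpowers_le.2 a.2)), hγe, ?_⟩
      rintro _ ⟨i, rfl⟩
      have h2 : (⟨γ, hγ⟩ : ↥(F.autGroup S)) • (a ^ i) = a ^ i := by rw [smul_zpow', ha]
      have h3 := congrArg Subtype.val h2
      simpa only [hsmul, SubgroupClass.coe_zpow] using h3
  rw [hfoc]
  constructor
  · rw [Subgroup.eq_bot_iff_forall]
    rintro _ ⟨hxc, a, ha, rfl⟩
    rw [hfix a ha ((hcen a).1 hxc)]
    rfl
  · refine le_antisymm (sup_le center_isCentral.1 (Subgroup.map_subtype_le D)) fun x hx => ?_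
    obtain ⟨c, d, hc, hd, he⟩ := hgen ⟨x, hx⟩
    rw [show x = (c : Ω) * (d : Ω) from congrArg Subtype.val he]
    exact Subgroup.mul_mem_sup ((hcen c).2 hc) ⟨d, hd, rfl⟩

end Cfsg.Agent.S5330
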