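import Cfsg.Statements.S5331
import Cfsg.Agent.Lib.FusCentric

set_option autoImplicit false
open Cfsg

namespace Cfsg.Agent.S5331

open Cfsg.FusionSystem Cfsg.Agent.FusionSysBasic Cfsg.Agent.FusionSysSaturated

variable {n : ℕ}

/-- the model group, additively -/
abbrev Ab (a : Fin n → ℕ) : Type := (i : Fin n) → ZMod (2 ^ a i)

theorem eq_of_sq_sq {m : ℕ} (hm : 1 ≤ m) (x : ZMod (2 ^ m)) (h : 2 * x = 0) :
    x = 0 ∨ x = (2 : ZMod (2 ^ m)) ^ (m - 1) := by
  have hval : 2 ^ m ∣ 2 * x.val := by
    rw [← ZMod.natCast_eq_zero_iff]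
    simpa using h
  obtain ⟨c, hc⟩ := hval
  have h2 : 2 ^ m = 2 * 2 ^ (m - 1) := by rw [← pow_succ', Nat.sub_add_cancel hm]
  have hv : x.val = 2 ^ (m - 1) * c :=
    Nat.eq_of_mul_eq_mul_left two_pos (by rw [← mul_assoc, ← h2]; exact hc)
  have hlt := x.val_lt
  rw [hv, h2] at hlt
  have hc2 : c < 2 := by
    by_contra hcc
    have := Nat.mul_le_mul_left (2 ^ (m - 1)) (not_lt.1 hcc)
    omega
  have hx : x = ((2 ^ (m - 1) * c : ℕ) : ZMod (2 ^ m)) := by rw [← hv, ZMod.natCast_zmod_val]
  interval_cases c
  · left; simpa using hx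
  · right; simpa using hx

/-- An automorphism of odd order of `∏ ℤ/2^(a i)`, the `a i` distinct, is trivial. -/
theorem odd_aut_trivial (a : Fin n → ℕ) (ha : StrictMono a) (ha1 : ∀ i, 1 ≤ a i)
    (α : MulAut (Multiplicative ((i : Fin n) → ZMod (2 ^ a i)))) {N : ℕ} (hN : Odd N)
    (hα : α ^ N = 1) : α = 1 := by
  let β : (Ab a) → (Ab a) := fun x => (α (Multiplicative.ofAdd x)).toAdd
  have βadd : ∀ x y, β (x + y) = β x + β y := fun x y => by
    show (α (Multiplicative.ofAdd (x + y))).toAdd = _
    rw [ofAdd_add, map_mul]; rfl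
  let B : (Ab a) →+ (Ab a) := AddMonoidHom.mk' β βadd
  -- fixed differences are zero
  have hkey : ∀ x e : (Ab a), B x = x + e → B e = e → 2 • e = 0 → e = 0 := by
    intro x e hx he h2
    have hk : ∀ k : ℕ, ((α ^ k) (Multiplicative.ofAdd x)).toAdd = x + k • e := by
      intro k
      induction k with
      | zero => simp
      | succ k ih =>
        rw [pow_succ', MulAut.mul_apply]
        have : Multiplicative.ofAdd (x + k • e) = (α ^ k) (Multiplicative.ofAdd x) := by
          rw [← ih]; simp
        rw [← this]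
        show B (x + k • e) = _
        rw [map_add, map_nsmul, hx, he, succ_nsmul]
        abel
    have h := hk N
    rw [hα] at h
    obtain ⟨r, rfl⟩ := hN
    rw [add_nsmul, one_nsmul, mul_comm 2 r, mul_smul, h2, smul_zero, zero_add] at h
    simpa using h
  let V : ℕ → (Ab a) → Prop := fun k x => 2 • x = 0 ∧ ∀ i, a i ≤ k → x i = 0
  have hdiv : ∀ k x, V k x → ∃ y : (Ab a), x = 2 ^ k • y := by
    intro k x hx
    refine ⟨fun i => if x i = 0 then 0 else (2 : ZMod (2 ^ a i)) ^ (a i - 1 - k), funext fun i => ?_⟩
    by_cases h : x i = 0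
    · simp [h]
    · have hk : k < a i := not_le.1 fun hle => h (hx.2 i hle)
      have h2 := congrFun hx.1 i
      rcases eq_of_sq_sq (ha1 i) (x i) (by simpa [two_nsmul, two_mul] using h2) with h' | h'
      · exact absurd h' h
      · rw [Pi.smul_apply, if_neg h, h', nsmul_eq_mul, Nat.cast_pow, Nat.cast_ofNat, ← pow_add]
        congr 1
        omega
  have hV : ∀ k x, V k x → V k (B x) := by
    intro k x hx
    obtain ⟨y, hy⟩ := hdiv k x hx
    refine ⟨by rw [← map_nsmul, hx.1, map_zero], fun i hi => ?_⟩
    rw [hy, map_nsmul, Pi.smul_apply, nsmul_eq_mul, Nat.cast_pow, Nat.cast_ofNat]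
    have : (2 : ZMod (2 ^ a i)) ^ k = 0 := by
      obtain ⟨d, hd⟩ := Nat.exists_eq_add_of_le hi
      have h0 : ((2 ^ a i : ℕ) : ZMod (2 ^ a i)) = 0 := ZMod.natCast_self _
      push_cast at h0
      rw [hd, pow_add, h0, zero_mul]
    rw [this, zero_mul]
  -- triviality on involutions
  obtain ⟨M, hM⟩ : ∃ M, ∀ i, a i ≤ M := ⟨∑ i, a i, fun i => Finset.single_le_sum (fun _ _ => Nat.zero_le _) (Finset.mem_univ i)⟩
  have hfix : ∀ j k, M ≤ k + j → ∀ x, V k x → B x = x := by
    intro j
    induction j with
    | zero =>
      intro k hk x hx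
      have : x = 0 := funext fun i => hx.2 i ((hM i).trans (by omega))
      rw [this, map_zero]
    | succ j ih =>
      intro k hk x hx
      have hx' := hV k x hx
      set e := B x - x with he
      have he2 : 2 • e = 0 := by rw [he, nsmul_sub, hx'.1, hx.1, sub_zero]
      have heV : V (k + 1) e := by
        refine ⟨he2, fun i hi => ?_⟩
        rcases Nat.lt_or_ge k (a i) with hlt | hge
        · -- the coordinate with exponent `k + 1`
          have hxi := congrFun hx.1 i
          have hxi' := congrFun hx'.1 i
          rcases eq_of_sq_sq (ha1 i) (x i) (by simpa [two_nsmul, two_mul] using hxi) with h | h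
          · rcases eq_of_sq_sq (ha1 i) (B x i) (by simpa [two_nsmul, two_mul] using hxi') with h' | h'
            · simp [he, h, h']
            · -- `x` then lies one layer deeper
              have hxV : V (k + 1) x := ⟨hx.1, fun l hl => by
                rcases Nat.lt_or_ge k (a l) with hl' | hl'
                · have : l = i := ha.injective (by omega)
                  exact this ▸ h
                · exact hx.2 l hl'⟩
              simp [he, ih (k + 1) (by omega) x hxV]
          · rcases eq_of_sq_sq (ha1 i) (B x i) (by simpa [two_nsmul, two_mul] using hxi') with h' | h'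
            · have hBV : V (k + 1) (B x) := ⟨hx'.1, fun l hl => by
                rcases Nat.lt_or_ge k (a l) with hl' | hl'
                · have : l = i := ha.injective (by omega)
                  exact this ▸ h'
                · exact hx'.2 l hl'⟩
              have hBx := ih (k + 1) (by omega) _ hBV
              have : B x = x := by
                have hinj : Function.Injective B := fun u v huv => by
                  have := congrArg Multiplicative.ofAdd huv
                  exact α.injective this
                exact hinj hBx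
              simp [he, this]
            · simp [he, h, h']
        · simp [he, hx.2 i hge, hx'.2 i hge]
      have heB := ih (k + 1) (by omega) e heV
      have := hkey x e (by rw [he]; abel) heB he2
      rwa [he, sub_eq_zero] at this
  have hall : ∀ m (x : (Ab a)), 2 ^ m • x = 0 → B x = x := by
    intro m
    induction m with
    | zero => intro x hx; rw [pow_zero, one_nsmul] at hx; rw [hx, map_zero]
    | succ m ih =>
      intro x hx
      have h2 : B (2 • x) = 2 • x := ih _ (by rw [smul_smul, ← pow_succ, hx])
      set e := B x - x with he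
      have he2 : 2 • e = 0 := by rw [he, nsmul_sub, ← map_nsmul, h2, sub_self]
      have heB := hfix M 0 (by omega) e ⟨he2, fun i hi => absurd (ha1 i) (by omega)⟩
      have := hkey x e (by rw [he]; abel) heB he2
      rwa [he, sub_eq_zero] at this
  refine MulEquiv.ext fun x => ?_
  have : 2 ^ M • x.toAdd = 0 := funext fun i => by
    obtain ⟨d, hd⟩ := Nat.exists_eq_add_of_le (hM i)
    rw [Pi.smul_apply, nsmul_eq_mul, hd, pow_add, Nat.cast_mul, ZMod.natCast_self]
    simp
  exact congrArg Multiplicative.ofAdd (hall M x.toAdd this)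

/-- Let S be a finite abelian 2-group that is a direct product of cyclic groups of pairwise distinct orders 2^{a_1} < 2^{a_2} < ⋯ < 2^{a_n} (all a_i ≥ 1). Then every saturated fusion system over S is the inner one: its maps are exactly the conjugations by elements of S. -/
theorem result {Ω : Type*} [Group Ω] {S : Subgroup Ω} [Finite S] (n : ℕ) (a : Fin n → ℕ) (ha : StrictMono a) (ha1 : ∀ i, 1 ≤ a i) (e : ↥S ≃* Multiplicative ((i : Fin n) → ZMod (2 ^ a i))) (F : Cfsg.FusionSystem S) (hF : F.IsSaturated 2) (P : Subgroup Ω) : F.Hom P = (Cfsg.innerFusionSystem S).Hom P := by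
  set A := Multiplicative ((i : Fin n) → ZMod (2 ^ a i))
  have hab : ∀ x ∈ S, ∀ y ∈ S, x * y = y * x := fun x hx y hy => by
    have h : (⟨x, hx⟩ : S) * ⟨y, hy⟩ = ⟨y, hy⟩ * ⟨x, hx⟩ :=
      e.injective (by rw [map_mul, map_mul, mul_comm])
    exact congrArg Subtype.val h
  have hC : ∀ T, T ≤ S → centralizerIn S T = S := fun T hT =>
    le_antisymm inf_le_left fun s hs => mem_centralizerIn.2 ⟨hs, fun x hx => by
      rw [cj_apply, hab s hs x (hT hx), mul_inv_cancel_right]⟩
  have hS2 : IsPGroup 2 S := by
    refine (IsPGroup.of_card (n := ∑ i, a i) ?_ : IsPGroup 2 A).of_equiv e.symm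
    rw [Nat.card_eq_fintype_card, Fintype.card_multiplicative, Fintype.card_pi,
      ← Finset.prod_pow_eq_pow_sum]
    simp
  have htriv : ∀ α ∈ F.autGroup S, α = 1 := by
    intro α hα
    haveI := finite_autGroup (F := F) S
    obtain ⟨R, hR⟩ := (fullyAutomized_of_saturated_self hF).2
    have hbot : (R : Subgroup (F.autGroup S)) = ⊥ := by
      rw [hR, eq_bot_iff]
      intro β hβ
      obtain ⟨g, hg, -, he⟩ := mem_autInducedBy.1 hβ
      refine Subtype.ext (afun_ext fun x hx => ?_)
      refine (he x hx).trans ?_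
      rw [Subgroup.coe_one, afun_one hx, cj_apply, hab g hg x hx, mul_inv_cancel_right]
    have hodd : Odd (Nat.card (F.autGroup S)) := by
      rw [← Nat.not_even_iff_odd, even_iff_two_dvd]
      intro h
      exact R.ne_bot_of_dvd_card h hbot
    have hpow : α ^ Nat.card (F.autGroup S) = 1 :=
      congrArg Subtype.val (pow_card_eq_one' (x := (⟨α, hα⟩ : F.autGroup S)))
    refine (MulAut.congr e).injective ?_
    rw [map_one]
    exact odd_aut_trivial a ha ha1 _ hodd (by rw [← map_pow, hpow, map_one])
  refine Set.Subset.antisymm (fun φ hφ => ?_) ?_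
  · have hPS := (F.le_of_mem hφ).1
    have hm := mor_toFun hφ
    have hfc : F.IsFullyCentralized (im P (toFun φ)) :=
      ⟨hm.im_le, fun Q hQ => by rw [hC _ (isConj_right_le hQ), hC _ hm.im_le]⟩
    obtain ⟨f', hf', hag, -⟩ := exists_extension_centralizer
      (receptive_of_fullyCentralized hS2 hF hfc) hm rfl
    rw [hC _ hPS, sup_eq_right.2 hPS] at hf'
    obtain ⟨α, hα, hαe⟩ := hf'.exists_aut (hf'.im_self fun x hx => hf'.apply_mem hx)
    refine ⟨hPS, 1, S.one_mem, fun x => ?_⟩
    rw [← toFun_coe φ x, ← hag x x.2, ← hαe x (hPS x.2), htriv α hα, afun_one (hPS x.2)]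
    group
  · rintro φ ⟨hP, g, hg, he⟩
    have : φ = Cfsg.conjHom P g := MonoidHom.ext he
    exact this ▸ F.conj_mem hP hg

end Cfsg.Agent.S5331
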