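import Cfsg.Statements.S5333
import Cfsg.Agent.Lib.FusCentric

set_option autoImplicit false
open Cfsg

namespace Cfsg.Agent.S5333

open Cfsg.FusionSystem Cfsg.Agent.FusionSysBasic Cfsg.Agent.FusionSysSaturated Cfsg.Agent.FusCentric

/-- The centralizer system. -/
theorem exists_centralizerSystem {Ω : Type*} [Group Ω] {S : Subgroup Ω} [Finite S]
    (F : Cfsg.FusionSystem S) (Q : Subgroup Ω) (hQ : Q ≤ S) :
    ∃ E : Cfsg.FusionSystem (centralizerIn S Q), F.IsCentralizerSystem Q E := by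
  let good : (P : Subgroup Ω) → (Ω → Ω) → Prop := fun P f =>
    ∃ h, Mor F (P ⊔ Q) h ∧ (∀ x ∈ P, h x = f x) ∧ ∀ x ∈ Q, h x = x
  have hgood : ∀ (P : Subgroup Ω) (φ : P →* Ω),
      φ ∈ F.centralizerHom Q P ↔ φ ∈ F.Hom P ∧ P ≤ centralizerIn S Q ∧
        (∀ x : P, φ x ∈ centralizerIn S Q) ∧ good P (toFun φ) := by
    intro P φ
    refine and_congr_right fun _ => and_congr_right fun _ => and_congr_right fun _ => ?_
    constructor
    · rintro ⟨ψ, hψ, h1, h2⟩
      refine ⟨toFun ψ, mor_toFun hψ, fun x hx => ?_, fun x hx => ?_⟩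
      · rw [toFun_apply ψ (Subgroup.mem_sup_left hx), toFun_apply φ hx]; exact h1 ⟨x, hx⟩
      · rw [toFun_apply ψ (Subgroup.mem_sup_right hx)]; exact h2 ⟨x, hx⟩
    · rintro ⟨h, ⟨ψ, hψ, he⟩, h1, h2⟩
      refine ⟨ψ, hψ, fun x => ?_, fun x => ?_⟩
      · rw [he]; exact (h1 x x.2).trans (toFun_coe φ x)
      · rw [he]; exact h2 x x.2
  refine ⟨{ Hom := F.centralizerHom Q
            le_of_mem := fun h => ⟨h.2.1, h.2.2.1⟩
            injective_of_mem := fun h => F.injective_of_mem h.1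
            conj_mem := ?_
            comp_mem := ?_
            inv_mem := ?_ }, fun P => rfl⟩
  · intro P g hP hg
    have hgS := (mem_centralizerIn.1 hg).1
    refine (hgood _ _).2 ⟨F.conj_mem (hP.trans inf_le_left) hgS, hP,
      fun x => (centralizerIn S Q).mul_mem ((centralizerIn S Q).mul_mem hg (hP x.2))
        ((centralizerIn S Q).inv_mem hg),
      cj g, mor_cj (sup_le (hP.trans inf_le_left) hQ) hgS,
      fun x hx => (toFun_apply (Cfsg.conjHom P g) hx).symm, (mem_centralizerIn.1 hg).2⟩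
  · intro P R φ ψ hφ hψ hR
    obtain ⟨h1, hP, h1C, f, hf, hf1, hf2⟩ := (hgood _ _).1 hφ
    obtain ⟨h2, -, h2C, g, hg, hg1, hg2⟩ := (hgood _ _).1 hψ
    refine (hgood _ _).2 ⟨F.comp_mem h1 h2 hR, hP, fun x => h2C _, g ∘ f,
      hf.comp hg fun x hx => mor_sup_induction hf (fun a ha => ?_) (fun b hb => ?_) hx,
      fun x hx => ?_, fun x hx => ?_⟩
    · rw [hf1 a ha, toFun_apply φ ha]; exact Subgroup.mem_sup_left (hR _)
    · rw [hf2 b hb]; exact Subgroup.mem_sup_right hb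
    · rw [Function.comp_apply, hf1 x hx, toFun_apply φ hx, hg1 _ (hR _), toFun_apply ψ (hR _),
        toFun_apply _ hx]
      rfl
    · rw [Function.comp_apply, hf2 x hx, hg2 x hx]
  · intro P φ hφ
    obtain ⟨h1, hP, h1C, f, hf, hf1, hf2⟩ := (hgood _ _).1 hφ
    obtain ⟨ψ, hψ, hi⟩ := F.inv_mem h1
    obtain ⟨fi, hfi, hfif, -, -⟩ := hf.exists_inv
    have hle : φ.range ⊔ Q ≤ im (P ⊔ Q) f := by
      refine sup_le ?_ fun x hx => hf2 x hx ▸ apply_mem_im (Subgroup.mem_sup_right hx)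
      rintro _ ⟨x, rfl⟩
      rw [← toFun_coe φ x, ← hf1 x x.2]
      exact apply_mem_im (Subgroup.mem_sup_left x.2)
    refine ⟨ψ, (hgood _ _).2 ⟨hψ, ?_, ?_, fi, hfi.restrict_to hle, ?_, ?_⟩, hi⟩
    · rintro _ ⟨x, rfl⟩; exact h1C x
    · rintro ⟨_, x, rfl⟩; rw [hi]; exact hP x.2
    · rintro _ ⟨x, rfl⟩
      rw [toFun_apply ψ ⟨x, rfl⟩, hi x, ← toFun_coe φ x, ← hf1 x x.2,
        hfif _ (Subgroup.mem_sup_left x.2)]
    · intro x hx
      conv_lhs => rw [← hf2 x hx]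
      exact hfif _ (Subgroup.mem_sup_right hx)

/-- Let F′ ≤ F be saturated fusion systems over the same finite p-group S. Suppose that for every subgroup Z ≤ S of order p that is fully centralized in F′, the maps of F and of F′ with source Z coincide and the centralizer systems C_F(Z) and C_{F′}(Z) coincide. Then F = F′. -/
theorem result {Ω : Type*} [Group Ω] {S : Subgroup Ω} [Finite S] (p : ℕ) [Fact p.Prime] (hS : IsPGroup p S) (F : Cfsg.FusionSystem S) (hF : F.IsSaturated p) (F' : Cfsg.FusionSystem S) (hF' : F'.IsSaturated p) (hle : F' ≤ F) (hZ : ∀ Z : Subgroup Ω, Z ≤ S → Nat.card Z = p → F'.IsFullyCentralized Z → F.Hom Z = F'.Hom Z ∧ ∀ (C C' : Cfsg.FusionSystem (Cfsg.FusionSystem.centralizerIn S Z)), F.IsCentralizerSystem Z C → F'.IsCentralizerSystem Z C' → ∀ P : Subgroup Ω, C.Hom P = C'.Hom P) (P : Subgroup Ω) : F.Hom P = F'.Hom P := by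
  refine Set.Subset.antisymm (fun φ hφ => (mor_iff_hom fun x => (toFun_coe φ x).symm).1 ?_) (hle P)
  set f := toFun φ with hfdef
  have hf : Mor F P f := mor_toFun hφ
  have hPS : P ≤ S := hf.le
  by_cases hbot : P = ⊥
  · subst hbot
    refine (mor_id bot_le).congr fun x hx => ?_
    rw [Subgroup.mem_bot.1 hx, hf.map_one]
  -- a subgroup of order `p` in the centre of `P`
  haveI := finite_of_le hPS
  haveI : Nontrivial P := (Subgroup.nontrivial_iff_ne_bot P).2 hbot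
  have hPp := hS.to_le hPS
  haveI := hPp.center_nontrivial
  obtain ⟨k, hk, hkc⟩ := (hPp.to_subgroup (Subgroup.center P)).nontrivial_iff_card.1 inferInstance
  obtain ⟨z, hz⟩ := exists_prime_orderOf_dvd_card' (G := Subgroup.center P) p
    (hkc ▸ dvd_pow_self p hk.ne')
  set Z := Subgroup.zpowers ((z : P) : Ω) with hZdef
  have hzP : ((z : P) : Ω) ∈ P := (z : P).2
  have hZP : Z ≤ P := Subgroup.zpowers_le.2 hzP
  have hZS := hZP.trans hPS
  have hZcard : Nat.card Z = p := by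
    rw [hZdef, Nat.card_zpowers, Subgroup.orderOf_coe, Subgroup.orderOf_coe, hz]
  have hPC : P ≤ centralizerIn S Z := fun x hx => mem_centralizerIn.2 ⟨hPS hx, fun y hy => by
    have hc := Subgroup.mem_center_iff.1 z.2 ⟨x, hx⟩
    have hcomm : Commute x ((z : P) : Ω) := congrArg Subtype.val hc
    obtain ⟨i, rfl⟩ := Subgroup.mem_zpowers_iff.1 hy
    rw [cj_apply, (hcomm.zpow_right i).eq, mul_inv_cancel_right]⟩
  obtain ⟨W, hZW, hW⟩ := exists_fullyCentralized (F := F') hZS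
  obtain ⟨b, hb, hbW⟩ := isConj_iff.1 hZW
  obtain ⟨b', hb', hbag, hbC⟩ := exists_extension_centralizer
    (receptive_of_fullyCentralized hS hF' hW) hb hbW
  obtain ⟨hWhom, hWC⟩ := hZ W hW.1 (by rw [← isConj_card hZW, hZcard]) hW
  obtain ⟨bi, hbi, hbib, -, hbiZ⟩ := hb.exists_inv
  rw [hbW] at hbi hbiZ
  have h1 : Mor F' W (f ∘ bi) := by
    obtain ⟨χ, hχ, hχe⟩ := (mor_mono hle hbi).comp (hf.restrict_to hZP) hbiZ
    exact ⟨χ, hWhom ▸ hχ, hχe⟩
  obtain ⟨c, hc, hcf, -, -⟩ := h1.exists_inv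
  have himW : im W (f ∘ bi) = im Z f := by
    rw [← hbi.im_comp]
    congr 1
    exact hbi.im_eq_of_le hZS (im_le_iff.2 hbiZ) (isConj_card hZW).le
  rw [himW] at hc
  have hcW : im (im Z f) c = W := by
    rw [← himW, h1.im_comp]
    exact (im_congr hcf).trans (im_id W)
  obtain ⟨c', hc', hcag, hcC⟩ := exists_extension_centralizer
    (receptive_of_fullyCentralized hS hF' hW) hc hcW
  have hfC : ∀ x ∈ P, f x ∈ centralizerIn S (im Z f) := fun x hx =>
    mem_centralizerIn.2 ⟨hf.apply_mem hx, fun y hy => by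
      obtain ⟨u, hu, rfl⟩ := (hf.restrict_to hZP).mem_im.1 hy
      rw [← hf.map_cj hx (hZP hu), (mem_centralizerIn.1 (hPC hx)).2 u hu]⟩
  -- the transported map fixes `W`
  have hb'P := hb'.restrict_to (hPC.trans le_sup_right)
  set P1 := im P b' with hP1
  obtain ⟨b'i, hb'i, hb'ib, -, hb'iP⟩ := hb'P.exists_inv
  have hθ : Mor F P1 (c' ∘ f ∘ b'i) :=
    ((mor_mono hle hb'i).comp hf hb'iP).comp (mor_mono hle (hc'.restrict_to le_sup_right))
      fun x hx => hfC _ (hb'iP x hx)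
  have hWP1 : W ≤ P1 := by
    rw [← hbW, im_le_iff]
    intro x hx
    rw [← hbag x hx]
    exact apply_mem_im (hZP hx)
  have hP1C : P1 ≤ centralizerIn S W := im_le_iff.2 fun x hx => hbC x (hPC hx)
  have hθW : ∀ w ∈ W, (c' ∘ f ∘ b'i) w = w := by
    intro w hw
    obtain ⟨u, hu, rfl⟩ := hb.mem_im.1 (hbW.symm ▸ hw)
    have e1 : b'i (b u) = u := by rw [← hbag u hu, hb'ib u (hZP hu)]
    have e2 : f (bi (b u)) = f u := by rw [hbib u hu]
    simp only [Function.comp_apply, e1]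
    rw [hcag _ (apply_mem_im hu), ← e2]
    exact hcf _ (hbW ▸ apply_mem_im hu)
  obtain ⟨C, hC⟩ := exists_centralizerSystem F W hW.1
  obtain ⟨C', hC'⟩ := exists_centralizerSystem F' W hW.1
  obtain ⟨χ, hχ, hχe⟩ := hθ
  have hmem : χ ∈ F.centralizerHom W P1 := by
    refine ⟨hχ, hP1C, fun x => ?_, ?_⟩
    · rw [hχe]; exact hcC _ (hfC _ (hb'iP x x.2))
    · have hm : Mor F (P1 ⊔ W) (c' ∘ f ∘ b'i) := by
        rw [sup_eq_left.2 hWP1]; exact ⟨χ, hχ, hχe⟩
      obtain ⟨χ', hχ', hχ'e⟩ := hm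
      exact ⟨χ', hχ', fun x => (hχ'e _).trans (hχe x).symm,
        fun x => (hχ'e _).trans (hθW x x.2)⟩
  rw [← hC P1, hWC C C' hC hC' P1, hC' P1] at hmem
  have hθ' : Mor F' P1 (c' ∘ f ∘ b'i) := ⟨χ, hmem.1, hχe⟩
  obtain ⟨c'i, hc'i, hc'ic, -, -⟩ := hc'.exists_inv
  refine ((hb'P.comp hθ' fun x hx => apply_mem_im hx).comp hc'i fun x hx => ?_).congr
    fun x hx => ?_
  · show c' (f (b'i (b' x))) ∈ _
    rw [hb'ib x hx]
    exact apply_mem_im (Subgroup.mem_sup_right (hfC x hx))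
  · show c'i (c' (f (b'i (b' x)))) = f x
    rw [hb'ib x hx]
    exact hc'ic _ (Subgroup.mem_sup_right (hfC x hx))

end Cfsg.Agent.S5333
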