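import Cfsg.Statements.S5334
import Cfsg.Agent.Lib.FusCentric

set_option autoImplicit false
open Cfsg

namespace Cfsg.Agent.S5334

open Cfsg.FusionSystem Cfsg.Agent.FusionSysBasic Cfsg.Agent.FusCentric

/-- Let F′ ≤ F be saturated fusion systems over the same finite p-group S, let Q and R be F-centric subgroups, φ a map of F with source Q and values in R, and ψ a map of F with source R. If two of φ, ψ and the composite ψ ∘ φ are maps of F′ then so is the third. -/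
theorem result {Ω : Type*} [Group Ω] {S : Subgroup Ω} [Finite S] (p : ℕ) [Fact p.Prime] (hS : IsPGroup p S) (F : Cfsg.FusionSystem S) (hF : F.IsSaturated p) (F' : Cfsg.FusionSystem S) (hF' : F'.IsSaturated p) (hle : F' ≤ F) (Q R : Subgroup Ω) (hQ : F.IsCentric Q) (hR : F.IsCentric R) (φ : ↥Q →* Ω) (hφ : φ ∈ F.Hom Q) (hφR : ∀ x : Q, φ x ∈ R) (ψ : ↥R →* Ω) (hψ : ψ ∈ F.Hom R) : (φ ∈ F'.Hom Q → ψ ∈ F'.Hom R → ψ.comp (φ.codRestrict R hφR) ∈ F'.Hom Q) ∧ (ψ ∈ F'.Hom R → ψ.comp (φ.codRestrict R hφR) ∈ F'.Hom Q → φ ∈ F'.Hom Q) ∧ (φ ∈ F'.Hom Q → ψ.comp (φ.codRestrict R hφR) ∈ F'.Hom Q → ψ ∈ F'.Hom R) := by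
  set f := toFun φ with hf
  set g := toFun ψ with hg
  have hfR : ∀ x ∈ Q, f x ∈ R := fun x hx => by rw [hf, toFun_apply φ hx]; exact hφR _
  have hcomp : ∀ x : Q, (ψ.comp (φ.codRestrict R hφR)) x = (g ∘ f) x := by
    intro x
    rw [Function.comp_apply, hf, toFun_coe, hg, toFun_apply ψ (hφR x)]
    rfl
  have e1 := (mor_iff_hom (F := F') fun x => (toFun_coe φ x).symm)
  have e2 := (mor_iff_hom (F := F') fun x => (toFun_coe ψ x).symm)
  have e3 := mor_iff_hom (F := F') hcomp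
  refine ⟨fun h1 h2 => e3.1 ((e1.2 h1).comp (e2.2 h2) hfR), fun h2 h3 => e1.1 ?_, fun h1 h3 =>
    e2.1 ?_⟩
  · obtain ⟨gi, hgi, hgig, -, -⟩ := (e2.2 h2).exists_inv
    exact ((e3.2 h3).comp hgi fun x hx => apply_mem_im (hfR x hx)).congr
      fun x hx => hgig _ (hfR x hx)
  · obtain ⟨fi, hfi, hfif, hffi, hfiQ⟩ := (e1.2 h1).exists_inv
    have h4 : Mor F' (im Q f) g := (hfi.comp (e3.2 h3) hfiQ).congr fun y hy =>
      congrArg g (hffi y hy)
    exact mor_sub_of_centric hS hF hF' hle (mor_toFun hψ) _ le_rfl (im_le_iff.2 hfR)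
      (centric_conj hQ (isConj_iff.2 ⟨f, mor_toFun hφ, rfl⟩)) h4

end Cfsg.Agent.S5334
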