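import Cfsg.Statements.S5335
import Cfsg.Agent.Lib.FusCentric

set_option autoImplicit false
open Cfsg

namespace Cfsg.Agent.S5335

open Cfsg.FusionSystem Cfsg.Agent.FusionSysBasic Cfsg.Agent.FusionSysSaturated Cfsg.Agent.FusCentric

/-- Let F′ ≤ F be saturated fusion systems over the same finite p-group S. If the maps of F and of F′ with source Q coincide for every F-centric subgroup Q that is minimal among F-centric subgroups, then F = F′. -/
theorem result {Ω : Type*} [Group Ω] {S : Subgroup Ω} [Finite S] (p : ℕ) [Fact p.Prime] (hS : IsPGroup p S) (F : Cfsg.FusionSystem S) (hF : F.IsSaturated p) (F' : Cfsg.FusionSystem S) (hF' : F'.IsSaturated p) (hle : F' ≤ F) (hmin : ∀ Q : Subgroup Ω, F.IsCentric Q → (∀ R : Subgroup Ω, R < Q → ¬ F.IsCentric R) → F.Hom Q = F'.Hom Q) (P : Subgroup Ω) : F.Hom P = F'.Hom P := by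
  refine hom_eq_of_centric hS hF hF' hle (fun R hR f hf => ?_) P
  have hfin : {Q : Subgroup Ω | Q ≤ R ∧ F.IsCentric Q}.Finite := by
    refine Set.Finite.of_finite_image (f := fun Q : Subgroup Ω => Q.subgroupOf S) (Set.toFinite _) ?_
    intro A hA B hB e
    have := congrArg (Subgroup.map S.subtype) e
    simpa [Subgroup.subgroupOf_map_subtype, inf_eq_left.mpr (hA.1.trans hR.1),
      inf_eq_left.mpr (hB.1.trans hR.1)] using this
  obtain ⟨Q, ⟨hQR, hQ⟩, hQmin⟩ :=
    Set.exists_min_image _ (fun Q : Subgroup Ω => Nat.card Q) hfin ⟨R, le_rfl, hR⟩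
  have heq := hmin Q hQ fun T hT hTc => hT.ne
    (eq_of_le_of_card_ge hQ.1 hT.le (hQmin T ⟨hT.le.trans hQR, hTc⟩))
  obtain ⟨φ, hφ, he⟩ := hf.restrict_to hQR
  exact mor_sub_of_centric hS hF hF' hle hf _ le_rfl hQR hQ ⟨φ, heq ▸ hφ, he⟩

end Cfsg.Agent.S5335
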