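import Cfsg.Statements.S5338
import Cfsg.Agent.Lib.FusionFrattini88
import Cfsg.Agent.Lib.FusionSysAlperin

set_option autoImplicit false
open Cfsg

namespace Cfsg.Agent.S5338

open Cfsg.FusionSystem Cfsg.Agent.FusionSysBasic Cfsg.Agent.FusionSysSaturated
open Cfsg.Agent.FusionSysAlperin

variable {Ω : Type*} [Group Ω] {S : Subgroup Ω} {F F' : Cfsg.FusionSystem S}

theorem conj_mem (hle : F' ≤ F)
    (hinv : ∀ (Q : Subgroup Ω) (φ : ↥Q →* Ω), φ ∈ F.Hom Q → ∀ (R : Subgroup Ω) (hRQ : R ≤ Q)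
      (ψ : ↥R →* Ω), ψ ∈ F'.Hom R → ∀ (hψQ : ∀ x : R, ψ x ∈ Q),
      ∃ χ ∈ F'.Hom ((R.subgroupOf Q).map φ), ∀ (x : R)
        (hx : φ ⟨(x : Ω), hRQ x.2⟩ ∈ (R.subgroupOf Q).map φ),
        χ ⟨φ ⟨(x : Ω), hRQ x.2⟩, hx⟩ = φ ⟨ψ x, hψQ x⟩)
    {R : Subgroup Ω} (hR : R ≤ S) {a m : MulAut R} (ha : a ∈ F.autGroup R)
    (hm : m ∈ F'.autGroup R) : a * m * a⁻¹ ∈ F'.autGroup R := by
  obtain ⟨χ, hχ, he⟩ := hinv R _ (mor_afun_iff.mp ((mem_autGroup hR).mp ha)) R le_rfl _
    (mor_afun_iff.mp ((mem_autGroup hR).mp hm)) (fun x => (m x).2)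
  have hT : (R.subgroupOf R).map (R.subtype.comp a.toMonoidHom) = R := by
    rw [Subgroup.subgroupOf_self, ← MonoidHom.range_eq_map]
    refine le_antisymm ?_ fun y hy => ⟨a.symm ⟨y, hy⟩, by simp⟩
    rintro _ ⟨x, rfl⟩
    exact (a x).2
  have h1 : Mor F' R (toFun χ) := by
    have h := mor_toFun hχ
    simp only [hT] at h
    exact h
  refine (mem_autGroup hR).mpr (h1.congr fun y hy => ?_)
  have hy' : y ∈ (R.subgroupOf R).map (R.subtype.comp a.toMonoidHom) := hT.symm ▸ hy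
  rw [toFun_apply χ hy', afun_apply _ hy]
  have hx : (R.subtype.comp a.toMonoidHom) ⟨((a⁻¹ ⟨y, hy⟩ : R) : Ω), (a⁻¹ ⟨y, hy⟩).2⟩ = y := by
    simp
  have h2 := he (a⁻¹ ⟨y, hy⟩) (by rw [hx]; exact hy')
  calc χ ⟨y, hy'⟩ = _ := congrArg χ (Subtype.ext hx.symm)
    _ = _ := h2
    _ = _ := by simp

/-- Let F be a saturated fusion system over a finite p-group S and F′ ≤ F a saturated subsystem over all of S that is invariant under F in the conjugation sense: for every map φ of F with source Q and every map ψ of F′ between subgroups R ≤ Q (with values in Q), the transported map φψφ⁻¹ defined on φ(R) is again a map of F′. If moreover Aut_{F′}(S) = Aut_F(S), then F′ = F. -/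
theorem result {Ω : Type*} [Group Ω] {S : Subgroup Ω} [Finite S] (p : ℕ) [Fact p.Prime] (hS : IsPGroup p S) (F : Cfsg.FusionSystem S) (hF : F.IsSaturated p) (F' : Cfsg.FusionSystem S) (hF' : F'.IsSaturated p) (hle : F' ≤ F) (hinv : ∀ (Q : Subgroup Ω) (φ : ↥Q →* Ω), φ ∈ F.Hom Q → ∀ (R : Subgroup Ω) (hRQ : R ≤ Q) (ψ : ↥R →* Ω), ψ ∈ F'.Hom R → ∀ (hψQ : ∀ x : R, ψ x ∈ Q), ∃ χ ∈ F'.Hom ((R.subgroupOf Q).map φ), ∀ (x : R) (hx : φ ⟨(x : Ω), hRQ x.2⟩ ∈ (R.subgroupOf Q).map φ), χ ⟨φ ⟨(x : Ω), hRQ x.2⟩, hx⟩ = φ ⟨ψ x, hψQ x⟩) (htop : F'.autGroup S = F.autGroup S) (P : Subgroup Ω) : F'.Hom P = F.Hom P := by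
  refine Set.Subset.antisymm (hle P) ?_
  suffices key : ∀ (d : ℕ) (P : Subgroup Ω) (f : Ω → Ω), Mor F P f →
      Nat.card S - Nat.card P ≤ d → Mor F' P f from
    fun φ hφ => (mor_iff_hom fun x => (toFun_coe φ x).symm).mp (key _ P _ (mor_toFun hφ) le_rfl)
  intro d
  induction d using Nat.strong_induction_on with
  | _ d IH =>
    intro P f hf hd
    by_cases hPS : P = S
    · subst hPS
      obtain ⟨α, hα, hαf⟩ := hf.exists_aut (hf.im_self fun x hx => hf.apply_mem hx)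
      exact ((mem_autGroup le_rfl).mp (htop ▸ hα)).congr hαf
    have hP : P < S := lt_of_le_of_ne hf.le hPS
    have big : ∀ {N : Subgroup Ω} {g : Ω → Ω}, Mor F N g → Nat.card P < Nat.card N → Mor F' N g := by
      intro N g hg hlt
      have : Nat.card N ≤ Nat.card S := Subgroup.card_le_of_le hg.le
      exact IH (Nat.card S - Nat.card N) (by omega) N g hg le_rfl
    have hN : ∀ {X : Subgroup Ω}, X ≤ S → Nat.card X = Nat.card P →
        Nat.card P < Nat.card (normalizerIn S X) := by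
      intro X hX e
      rw [← e]
      refine Cfsg.Agent.FusionFrattini88.card_lt_normalizerIn hS le_rfl
        (lt_of_le_of_ne hX fun h => hPS (eq_of_le_of_card_ge le_rfl hP.le ?_))
      rw [← e, h]
    obtain ⟨R, hPR, hR⟩ := exists_fullyNormalized (F := F) hP.le
    have hPQ : F.IsConj P (im P f) := isConj_iff.mpr ⟨f, hf, rfl⟩
    obtain ⟨g, hg, -, hgP⟩ := exists_map_to_fullyNormalized hS hF hR hPR
    obtain ⟨h, hh, -, hhQ⟩ :=
      exists_map_to_fullyNormalized hS hF hR (isConj_trans (isConj_symm hPQ) hPR)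
    have hQc : Nat.card ↥(im P f) = Nat.card P := hf.card_im
    have hgP' := (big hg (hN hP.le rfl)).restrict_to (le_normalizerIn hP.le)
    have hhQ' := (big hh (hN hf.im_le hQc)).restrict_to (le_normalizerIn hf.im_le)
    obtain ⟨gi', hgi', hgig, hggi, hgiP⟩ := hgP'.exists_inv
    obtain ⟨hi', hhi', hhih, -, -⟩ := hhQ'.exists_inv
    rw [hgP] at hgi' hgiP hggi
    rw [hhQ] at hhi'
    have hα' : Mor F R (h ∘ f ∘ gi') :=
      ((mor_mono hle hgi').comp hf hgiP).comp (mor_mono hle hhQ') fun x hx =>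
        apply_mem_im (hgiP x hx)
    have himR : ∀ x ∈ R, (h ∘ f ∘ gi') x ∈ R := fun x hx => by
      have := apply_mem_im (f := h) (apply_mem_im (f := f) (hgiP x hx))
      rwa [hhQ] at this
    obtain ⟨α, hα, hαe⟩ := hα'.exists_aut (hα'.im_self himR)
    obtain ⟨β, hβ, m, hm, -, rfl, e, he, hee⟩ := Cfsg.Agent.FusionFrattini88.frattini_ext hS hF hR
      (F'.autGroup R) (fun a ha m hm _ => conj_mem hle hinv hR.1 ha hm) (le_refl (normalizerIn S R))
      (fun g hg => autInducedBy_le hR.1 ((autInducedBy_eq_range S R).ge ⟨_, rfl⟩)) hα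
    rw [sup_normalizerIn hR.1] at he
    have hβ' : Mor F' R (afun β) :=
      ((big he (hN hR.1 (isConj_card hPR).symm)).restrict_to (le_normalizerIn hR.1)).congr hee
    have hα2 : Mor F' R (afun (β * m)) :=
      (mem_autGroup hR.1).mp (mul_mem (mem_autGroup_of_mor hβ') hm)
    have hgR : ∀ x ∈ P, g x ∈ R := fun x hx => hgP ▸ apply_mem_im hx
    refine ((hgP'.comp hα2 hgR).comp hhi' fun x hx => afun_mem _ (hgR x hx)).congr fun x hx => ?_
    show hi' (afun (β * m) (g x)) = f x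
    rw [hαe _ (hgR x hx)]
    show hi' (h (f (gi' (g x)))) = f x
    rw [hgig x hx, hhih _ (apply_mem_im hx)]

end Cfsg.Agent.S5338
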