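import Cfsg.Statements.S5341
import Cfsg.Agent.Lib.FusionKit88

set_option autoImplicit false
open Cfsg

namespace Cfsg.Agent.S5341

open Cfsg.FusionSystem Cfsg.Agent.FusionSysBasic Cfsg.Agent.FusionSysSaturated
open Cfsg.Agent.FusionKit88

/-- Let F be a saturated fusion system over a finite p-group S, T a subgroup strongly closed in F, and F′ any fusion system over T all of whose maps are maps of F. For a subgroup Q ≤ T: if Q is fully centralized in F then it is fully centralized in F′, and if Q is fully normalized in F then it is fully normalized in F′. -/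
theorem result {Ω : Type*} [Group Ω] {S : Subgroup Ω} [Finite S] (p : ℕ) [Fact p.Prime] (hS : IsPGroup p S) (F : Cfsg.FusionSystem S) (hF : F.IsSaturated p) (T : Subgroup Ω) (hT : F.StronglyClosed T) (F' : Cfsg.FusionSystem T) (hsub : F'.IsSubsystemOf F) (Q : Subgroup Ω) (hQT : Q ≤ T) : (F.IsFullyCentralized Q → F'.IsFullyCentralized Q) ∧ (F.IsFullyNormalized Q → F'.IsFullyNormalized Q) := by
  refine ⟨fun hQ => ⟨hQT, fun R hR => ?_⟩, fullyNormalized_sub hS hF hsub hT hQT⟩
  obtain ⟨f, hf, him⟩ := isConj_iff.mp (isConj_symm (sub_isConj hsub hR))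
  obtain ⟨f', hf', -, hC⟩ :=
    exists_extension_centralizer (receptive_of_fullyCentralized hS hF hQ) hf him
  exact card_le_of_mor
    ((hf'.restrict_to le_sup_right).restrict_to (inf_le_inf_right _ hT.1 :
      centralizerIn T R ≤ centralizerIn S R))
    (inf_le_left.trans hT.1)
    fun x hx => ⟨closed_apply' hT hf' (Subgroup.mem_sup_right ⟨hT.1 hx.1, hx.2⟩) hx.1,
      (hC x ⟨hT.1 hx.1, hx.2⟩).2⟩

end Cfsg.Agent.S5341
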