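import Cfsg.Statements.S5343
import Cfsg.Agent.Lib.FusionIso88
import Cfsg.Agent.Lib.FusionRealized87
import Cfsg.Agent.S5336
import Cfsg.Agent.Lib.PGroupsBasic

set_option autoImplicit false
universe u
open Cfsg Cfsg.FusionSystem Cfsg.Agent.FusionSysBasic Cfsg.Agent.FusionSysSaturated
  Cfsg.Agent.FusionRealized87 Cfsg.Agent.FusionIso88

namespace Cfsg.Agent.S5343

section

variable {Ω : Type*} [Group Ω] {S : Subgroup Ω} {F : Cfsg.FusionSystem S} {G : Type*} [Group G]
  {ι : S →* G}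

theorem img_up {P : Subgroup Ω} (hP : P ≤ S) : img (up ι) P = upS ι P := by
  refine le_antisymm (img_le_iff.2 fun x hx => up_mem_upS ι hP hx) fun y hy => ?_
  obtain ⟨x, hx, -, rfl⟩ := (mem_upS ι).1 hy
  exact apply_mem_img hx

theorem bij_up (hF : F.IsRealizedBy ι) : Bij S ι.range (up ι) (down ι) :=
  ⟨fun _ hx => up_mem_range ι hx, fun y _ => down_mem ι y, fun _ hx => down_up hF hx,
    fun _ hy => up_down ι hy, fun _ hx _ hy => up_mul ι hx hy⟩

theorem tr_of_realized (hF : F.IsRealizedBy ι) : Tr F (groupFusionSystem ι.range) (up ι) (down ι) := by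
  have hB := bij_up hF
  refine ⟨hB, fun {P f} hf => ?_, fun {P f} hf => ?_⟩
  · obtain ⟨hP, hfS, g, hg⟩ := (mor_iff hF).1 hf
    refine FusionSysGroup.mor_group_iff.2 ⟨hB.img_le hP, g, fun y hy => ?_, fun y hy => ?_⟩
    all_goals obtain ⟨x, hx, rfl⟩ := (hB.mem_img hP).1 hy
    · simp only [Function.comp_apply, hB.left x (hP hx), hg x hx]
    · rw [← hg x hx]; exact up_mem_range ι (hfS x hx)
  · obtain ⟨hP, g, hg, hgS⟩ := FusionSysGroup.mor_group_iff.1 hf
    refine (mor_iff hF).2 ⟨hB.symm.img_le hP, fun x _ => down_mem ι _, g, fun x hx => ?_⟩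
    obtain ⟨y, hy, rfl⟩ := (hB.symm.mem_img hP).1 hx
    simp only [Function.comp_apply, hB.right y (hP hy), hg y hy, up_down ι (hgS y hy)]

variable {p : ℕ} [Fact p.Prime] [Finite G]

/-- Realization is kept modulo a normal subgroup of order prime to `p`. -/
theorem realized_quotient (hF : F.IsRealizedBy ι) (T : Sylow p G) (hT : (T : Subgroup G) = ι.range)
    (N : Subgroup G) [N.Normal] (hN : (Nat.card N).Coprime p) :
    F.IsRealizedBy ((QuotientGroup.mk' N).comp ι) := by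
  classical
  have hdisj : ∀ {P : Subgroup G}, IsPGroup p P → N ⊓ P = ⊥ := by
    intro P hP
    obtain ⟨k, hk⟩ := IsPGroup.iff_card.1 hP
    exact HallCore.disjoint_of_coprime_card (hk ▸ (hN.pow_right k))
  have hTp : IsPGroup p ι.range := hT ▸ T.2
  refine ⟨fun x y h => hF.1 ?_, fun P hP φ hφS => ⟨fun hm => ?_, fun ⟨g, hg⟩ => ?_⟩⟩
  · have h1 : (ι x)⁻¹ * ι y ∈ N ⊓ ι.range :=
      ⟨QuotientGroup.eq.1 h, ι.range.mul_mem (ι.range.inv_mem ⟨x, rfl⟩) ⟨y, rfl⟩⟩
    rw [hdisj hTp, Subgroup.mem_bot] at h1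
    exact inv_mul_eq_one.1 h1
  · obtain ⟨g, hg⟩ := (hF.2 P hP φ hφS).1 hm
    refine ⟨QuotientGroup.mk' N g, fun x => ?_⟩
    simp only [MonoidHom.comp_apply, hg x, map_mul, map_inv]
  obtain ⟨g, rfl⟩ := QuotientGroup.mk'_surjective N g
  let A : Subgroup G := im (upS ι P) (cj g)
  let B' : Subgroup G :=
    ((φ.range).subgroupOf S).map ι
  have hB'p : IsPGroup p B' := hTp.to_le (Subgroup.map_le_range ι _)
  have hB'mem : ∀ x : P, up ι (φ x) ∈ B' := fun x =>
    (mem_upS ι).2 ⟨φ x, ⟨x, rfl⟩, hφS x, rfl⟩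
  have hrel : ∀ x : P, (cj g (up ι x))⁻¹ * up ι (φ x) ∈ N := fun x => by
    refine QuotientGroup.eq.1 ?_
    have h := hg x
    simp only [MonoidHom.comp_apply] at h
    rw [cj_apply, up_apply ι (hP x.2), up_apply ι (hφS x)]
    show QuotientGroup.mk' N _ = QuotientGroup.mk' N _
    rw [h, map_mul, map_mul, map_inv]
  have hAp : IsPGroup p A := by
    obtain ⟨k, hk⟩ := IsPGroup.iff_card.1 (hTp.to_le (upS_le ι P))
    exact IsPGroup.of_card (n := k) (by rw [FusionSysGroup.card_im_cj, hk])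
  have hAle : A ≤ N ⊔ B' := im_le_iff.2 fun y hy => by
    obtain ⟨x, hx, -, rfl⟩ := (mem_upS ι).1 hy
    have e : cj g (up ι x) = up ι (φ ⟨x, hx⟩) * ((cj g (up ι x))⁻¹ * up ι (φ ⟨x, hx⟩))⁻¹ := by
      rw [mul_inv_rev, inv_inv, mul_inv_cancel_left]
    rw [e]
    exact mul_mem (Subgroup.mem_sup_right (hB'mem ⟨x, hx⟩))
      (inv_mem (Subgroup.mem_sup_left (hrel ⟨x, hx⟩)))
  -- `B'` is a Sylow subgroup of `N ⊔ B'`
  set X := N ⊔ B' with hX
  have hXc : Nat.card X = Nat.card N * Nat.card B' := PGroupsBasic.card_sup_of_normal (hdisj hB'p)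
  have hidx : ¬ p ∣ (B'.subgroupOf X).index := by
    have h := (B'.subgroupOf X).card_mul_index
    rw [Nat.card_congr (Subgroup.subgroupOfEquivOfLe (le_sup_right : B' ≤ X)).toEquiv, hXc,
      mul_comm (Nat.card N)] at h
    rw [Nat.eq_of_mul_eq_mul_left Nat.card_pos h]
    exact (Fact.out (p := p.Prime)).coprime_iff_not_dvd.1 hN.symm
  let R : Sylow p X := (hB'p.comap_subtype (K := X)).toSylow hidx
  obtain ⟨d, hd⟩ := FusionSysGroup.exists_cj_le R (hAp.comap_subtype (K := X))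
  have hdX : (d : G) ∈ ((B' ⊔ N : Subgroup G) : Set G) := by
    rw [sup_comm]; exact d.2
  rw [Subgroup.mul_normal] at hdX
  obtain ⟨b, hb, n, hn, hbn⟩ := Set.mem_mul.1 hdX
  refine (hF.2 P hP φ hφS).2 ⟨n * g, fun x => ?_⟩
  have hA : cj g (up ι x) ∈ A := apply_mem_im (up_mem_upS ι hP x.2)
  have h1 : cj (d : G) (cj g (up ι x)) ∈ B' := hd ⟨_, hAle hA⟩ hA
  rw [← hbn, ← cj_cj] at h1
  have h2 : cj n (cj g (up ι x)) ∈ B' := by
    have := B'.mul_mem (B'.mul_mem (B'.inv_mem hb) h1) hb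
    simpa [cj_apply, mul_assoc] using this
  have h3 : (cj n (cj g (up ι x)))⁻¹ * up ι (φ x) ∈ N ⊓ B' := by
    refine ⟨?_, B'.mul_mem (B'.inv_mem h2) (hB'mem x)⟩
    refine QuotientGroup.eq.1 (Eq.trans ?_ (QuotientGroup.eq.2 (hrel x)))
    show QuotientGroup.mk' N (cj n _) = QuotientGroup.mk' N _
    have hn1 : QuotientGroup.mk' N n = 1 := (QuotientGroup.eq_one_iff n).2 hn
    rw [cj_apply, map_mul, map_mul, map_inv, hn1, one_mul, inv_one, mul_one]
  rw [hdisj hB'p, Subgroup.mem_bot, inv_mul_eq_one, cj_cj, cj_apply] at h3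
  rw [← up_apply ι (hφS x), ← h3, up_apply ι (hP x.2)]

end

/-- Let F be a simple saturated fusion system over a finite p-group S that is realized by some finite group on a Sylow p-subgroup. Then F is realized by a finite simple group on a Sylow p-subgroup. -/
theorem result {Ω : Type u} [Group Ω] {S : Subgroup Ω} [Finite S] (p : ℕ) [Fact p.Prime] (hS : IsPGroup p S) (F : Cfsg.FusionSystem S) (hsimple : F.IsSimple p) (hreal : F.IsRealizable p) : ∃ (G : Type u) (_ : Group G) (_ : Finite G) (_ : IsSimpleGroup G) (ι : ↥S →* G), F.IsRealizedBy ι ∧ ∃ T : Sylow p G, (T : Subgroup G) = ι.range := by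
  classical
  have hex : ∃ n, ∃ (G : Type u) (_ : Group G) (_ : Finite G) (ι : S →* G),
      (F.IsRealizedBy ι ∧ ∃ T : Sylow p G, (T : Subgroup G) = ι.range) ∧ Nat.card G = n := by
    obtain ⟨G, _, _, ι, h⟩ := hreal
    exact ⟨_, G, _, inferInstance, ι, h, rfl⟩
  obtain ⟨G, iG, iF, ι, ⟨hF, T, hT⟩, hcard⟩ := Nat.find_spec hex
  have hmin : ∀ (H : Type u) [Group H] [Finite H] (κ : S →* H), F.IsRealizedBy κ →
      (∃ R : Sylow p H, (R : Subgroup H) = κ.range) → Nat.card G ≤ Nat.card H :=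
    fun H _ _ κ h1 h2 => hcard ▸ Nat.find_min' hex ⟨H, inferInstance, inferInstance, κ, ⟨h1, h2⟩, rfl⟩
  refine ⟨G, iG, iF, ?_, ι, hF, T, hT⟩
  have hsimp : (groupFusionSystem (T : Subgroup G)).IsSimple p := by
    have h := (tr_of_realized hF).simple hS hsimple
    rw [hT]; exact h
  refine S5336.result p T hsimp ?_ fun H hTH hne => ?_
  · by_contra hne
    set N := Cfsg.pPrimeCore p G
    have hN : (Nat.card N).Coprime p := HallCore.coprime_card_pPrimeCore p G
    haveI : N.Normal := HallCore.pPrimeCore_normal p G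
    have h := hmin (G ⧸ N) ((QuotientGroup.mk' N).comp ι) (realized_quotient hF T hT N hN)
      ⟨T.mapSurjective (QuotientGroup.mk'_surjective N), by
        rw [Sylow.coe_mapSurjective, hT, MonoidHom.range_comp]⟩
    rw [Subgroup.card_eq_card_quotient_mul_card_subgroup N] at h
    have h2 : 1 < Nat.card N := (Subgroup.one_lt_card_iff_ne_bot N).2 hne
    exact absurd h (Nat.not_le.2 (lt_mul_of_one_lt_right Nat.card_pos h2))
  · by_contra hall
    push Not at hall
    have hιH : ∀ x, ι x ∈ H := fun x => hTH (hT ▸ ⟨x, rfl⟩)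
    let κ : S →* H := ι.codRestrict H hιH
    have hκ : F.IsRealizedBy κ := by
      refine ⟨fun x y e => hF.1 (congrArg Subtype.val e), fun P hP φ hφS => ⟨fun hm => ?_, fun ⟨g, hg⟩ =>
        (hF.2 P hP φ hφS).2 ⟨g, fun x => congrArg Subtype.val (hg x)⟩⟩⟩
      have h1 := (tr_of_realized hF).mor (mor_toFun hm)
      rw [← hT] at h1
      obtain ⟨ψ, hψ, hψe⟩ := h1
      rw [← hall] at hψ
      obtain ⟨-, -, g, hg, hge⟩ := hψ
      refine ⟨⟨g, hg⟩, fun x => Subtype.ext ?_⟩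
      have h2 := hge ⟨up ι x, apply_mem_img x.2⟩
      rw [hψe] at h2
      simp only [Function.comp_apply, down_up hF (hP x.2), toFun_coe] at h2
      rw [up_apply ι (hφS x), up_apply ι (hP x.2)] at h2
      exact h2
    have h := hmin H κ hκ ⟨T.subtype hTH, by
      rw [Sylow.coe_subtype, hT]
      ext z
      rw [Subgroup.mem_subgroupOf]
      exact ⟨fun ⟨x, e⟩ => ⟨x, Subtype.ext e⟩, fun ⟨x, e⟩ => ⟨x, congrArg Subtype.val e⟩⟩⟩
    exact hne (Subgroup.eq_top_of_le_card H h)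

end Cfsg.Agent.S5343
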