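import Cfsg.Statements.S5345

set_option autoImplicit false
open Cfsg

namespace Cfsg.Agent.S5345

/-- Let D be a conjugation-invariant generating set of 3-transpositions of a finite group G and T a Sylow 2-subgroup of G. Then the members of D lying in T generate an abelian subgroup, and their number is the width of D (the largest number of pairwise commuting members of D). -/
theorem result {G : Type*} [Group G] [Finite G] {D : Set G} (hD : Cfsg.IsThreeTranspositionGroup D) (T : Sylow 2 G) : IsMulCommutative (Subgroup.closure {d : G | d ∈ D ∧ d ∈ T}) ∧ {d : G | d ∈ D ∧ d ∈ T}.ncard = Cfsg.commutingWidth D := by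
  classical
  obtain ⟨⟨hord, h23⟩, hconj, -⟩ := hD
  have hcomm : ∀ a b : G, a ∈ D → b ∈ D → a ∈ T → b ∈ T → Commute a b := by
    intro a b ha hb haT hbT
    have h2 : (a * b) ^ 2 = 1 := by
      rcases h23 a ha b hb with h | h
      · exact h
      · obtain ⟨k, hk⟩ := T.isPGroup' ⟨a * b, mul_mem haT hbT⟩
        have hk' : (a * b) ^ 2 ^ k = 1 := by simpa using congrArg Subtype.val hk
        have hg := pow_gcd_eq_one.mpr ⟨hk', h⟩
        have hcop : Nat.Coprime (2 ^ k) 3 := Nat.Coprime.pow_left _ (by norm_num)
        rw [hcop, pow_one] at hg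
        simp [hg]
    have haa : a⁻¹ = a := inv_eq_of_mul_eq_one_right (by
      have := pow_orderOf_eq_one a
      rwa [hord a ha, pow_two] at this)
    have hbb : b⁻¹ = b := inv_eq_of_mul_eq_one_right (by
      have := pow_orderOf_eq_one b
      rwa [hord b hb, pow_two] at this)
    show a * b = b * a
    calc a * b = (a * b)⁻¹ := (inv_eq_of_mul_eq_one_right (by rw [← pow_two]; exact h2)).symm
      _ = b * a := by rw [mul_inv_rev, haa, hbb]
  have hfin : {d : G | d ∈ D ∧ d ∈ T}.Finite := Set.toFinite _
  refine ⟨Subgroup.isMulCommutative_closure (fun a ha b hb => hcomm a b ha.1 hb.1 ha.2 hb.2), ?_⟩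
  apply le_antisymm
  · refine le_csSup ?_ ⟨_, fun x hx => hx.1, hfin,
      fun a ha b hb => hcomm a b ha.1 hb.1 ha.2 hb.2, rfl⟩
    refine ⟨Nat.card G, ?_⟩
    rintro n ⟨E, -, -, -, rfl⟩
    exact Set.ncard_le_card E
  · refine csSup_le' ?_
    rintro n ⟨E, hED, -, hEc, rfl⟩
    have : IsMulCommutative (Subgroup.closure E) :=
      Subgroup.isMulCommutative_closure (fun a ha b hb => hEc a ha b hb)
    have hp : IsPGroup 2 (Subgroup.closure E) := by
      intro x
      refine ⟨1, ?_⟩
      apply Subtype.ext
      rw [SubmonoidClass.coe_pow, pow_one, OneMemClass.coe_one]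
      refine Subgroup.closure_induction (p := fun y _ => y ^ 2 = 1)
        (fun y hy => ?_) (one_pow 2) (fun y z hy' hz' hy hz => ?_) (fun y _ hy => ?_) x.2
      · have := pow_orderOf_eq_one y
        rwa [hord y (hED hy)] at this
      · have hyz : Commute y z := by
          exact congrArg Subtype.val (mul_comm' (⟨y, hy'⟩ : Subgroup.closure E) ⟨z, hz'⟩)
        rw [hyz.mul_pow, hy, hz, one_mul]
      · rw [inv_pow, hy, inv_one]
    obtain ⟨Q, hQ⟩ := hp.exists_le_sylow
    obtain ⟨g, hg⟩ := MulAction.exists_smul_eq G Q T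
    refine Set.ncard_le_ncard_of_injOn (fun x => g * x * g⁻¹) ?_ ?_ hfin
    · intro x hx
      refine ⟨hconj g x (hED hx), ?_⟩
      rw [← hg]
      exact ⟨x, hQ (Subgroup.subset_closure hx), rfl⟩
    · intro a _ b _ hab
      simpa using hab

end Cfsg.Agent.S5345
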