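import Cfsg.Statements.S5346
import Cfsg.Agent.Lib.ThreeTransPerp
import Cfsg.Agent.Lib.HallCore

set_option autoImplicit false
open Cfsg

namespace Cfsg.Agent.S5346

/-- Let D be a conjugation-invariant generating set of 3-transpositions of a finite group G and d a member of D. Then D has width 1 (no two different members of D commute) if and only if G is the product of the subgroup generated by d with the largest normal 3-subgroup of G. -/
theorem result {G : Type*} [Group G] [Finite G] {D : Set G} (hD : Cfsg.IsThreeTranspositionGroup D) {d : G} (hd : d ∈ D) : Cfsg.commutingWidth D = 1 ↔ Subgroup.zpowers d ⊔ Cfsg.pCore 3 G = ⊤ := by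
  obtain ⟨hset, hconj, hgen⟩ := hD
  haveI hN : (Cfsg.pCore 3 G).Normal := Cfsg.Agent.HallCore.pCore_normal 3 G
  have hP := Cfsg.Agent.HallCore.isPGroup_pCore 3 G
  have hbdd : BddAbove {n : ℕ | ∃ E : Set G, E ⊆ D ∧ E.Finite ∧
      (∀ a ∈ E, ∀ b ∈ E, Commute a b) ∧ E.ncard = n} :=
    ⟨Nat.card G, by rintro n ⟨E, -, -, -, rfl⟩; exact Set.ncard_le_card E⟩
  constructor
  · intro hw
    have h1 : ∀ a ∈ D, ∀ b ∈ D, Commute a b → a = b := by
      intro a ha b hb hab
      by_contra hne
      have h2 : ({a, b} : Set G).ncard ≤ Cfsg.commutingWidth D := le_csSup hbdd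
        ⟨{a, b}, by simp [Set.insert_subset_iff, ha, hb], Set.toFinite _,
          by
            rintro x (rfl | rfl) y (rfl | rfl)
            exacts [Commute.refl _, hab, hab.symm, Commute.refl _], rfl⟩
      rw [hw, Set.ncard_pair hne] at h2
      omega
    rw [eq_top_iff, ← hgen, Subgroup.closure_le]
    intro e he
    have : e = d * (d * e) := by rw [← mul_assoc, Cfsg.Agent.ThreeTrans.mul_self hset hd, one_mul]
    rw [this]
    exact mul_mem (le_sup_left (a := Subgroup.zpowers d) (Subgroup.mem_zpowers d))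
      (le_sup_right (a := Subgroup.zpowers d)
        (Cfsg.Agent.ThreeTransPerp.mul_mem_pCore_of_width_one hset hconj h1 hd he))
  · intro htop
    have hnot : ∀ x ∈ D, x ∉ Cfsg.pCore 3 G := by
      intro x hx hmem
      obtain ⟨k, hk⟩ := hP ⟨x, hmem⟩
      have hk' : orderOf x ∣ 3 ^ k := orderOf_dvd_of_pow_eq_one (by simpa using congrArg Subtype.val hk)
      rw [hset.1 x hx] at hk'
      exact absurd (Nat.prime_two.dvd_of_dvd_pow hk') (by norm_num)
    have himg : ∀ x ∈ D, (QuotientGroup.mk x : G ⧸ Cfsg.pCore 3 G) = QuotientGroup.mk d := by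
      intro x hx
      have hxm : x ∈ Subgroup.zpowers d ⊔ Cfsg.pCore 3 G := by rw [htop]; exact Subgroup.mem_top x
      obtain ⟨u, hu, v, hv, rfl⟩ := Subgroup.mem_sup_of_normal_right.mp hxm
      obtain ⟨k, rfl⟩ := Subgroup.mem_zpowers_iff.mp hu
      have h1 : d ^ k = 1 ∨ d ^ k = d := by
        rcases Int.even_or_odd k with ⟨m, rfl⟩ | ⟨m, rfl⟩
        · left; rw [← two_mul, zpow_mul, zpow_two, Cfsg.Agent.ThreeTrans.mul_self hset hd, one_zpow]
        · right
          rw [zpow_add, zpow_one, zpow_mul, zpow_two, Cfsg.Agent.ThreeTrans.mul_self hset hd,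
            one_zpow, one_mul]
      rcases h1 with h1 | h1
      · rw [h1, one_mul] at hx
        exact absurd hv (hnot v hx)
      · rw [h1, QuotientGroup.eq, mul_inv_rev, mul_assoc, inv_mul_cancel, mul_one]
        exact inv_mem hv
    apply le_antisymm
    · refine csSup_le' ?_
      rintro n ⟨E, hED, hEfin, hEc, rfl⟩
      rw [Set.ncard_le_one hEfin]
      intro a ha b hb
      have hab : (QuotientGroup.mk a : G ⧸ Cfsg.pCore 3 G) = QuotientGroup.mk b :=
        (himg a (hED ha)).trans (himg b (hED hb)).symm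
      rw [QuotientGroup.eq, Cfsg.Agent.ThreeTrans.inv_self hset (hED ha)] at hab
      obtain ⟨k, hk⟩ := hP ⟨_, hab⟩
      have hk' : (a * b) ^ 3 ^ k = 1 := by simpa using congrArg Subtype.val hk
      have h2 : (a * b) ^ 2 = 1 := by
        rw [(hEc a ha b hb).mul_pow, pow_two, pow_two, Cfsg.Agent.ThreeTrans.mul_self hset (hED ha),
          Cfsg.Agent.ThreeTrans.mul_self hset (hED hb), one_mul]
      have hg := pow_gcd_eq_one.mpr ⟨h2, hk'⟩
      have hcop : Nat.Coprime 2 (3 ^ k) := Nat.Coprime.pow_right _ (by norm_num)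
      rw [hcop, pow_one] at hg
      exact (eq_inv_of_mul_eq_one_left hg).trans (Cfsg.Agent.ThreeTrans.inv_self hset (hED hb))
    · refine le_csSup hbdd ⟨{d}, by simpa using hd, Set.finite_singleton d, ?_, by simp⟩
      rintro x rfl y rfl
      exact Commute.refl _

end Cfsg.Agent.S5346
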