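import Cfsg.Statements.S5347

set_option autoImplicit false
open Cfsg

namespace Cfsg.Agent.S5347

/-- Let D be a conjugation-invariant generating set of 3-transpositions of a finite group G, p a prime bigger than 3, and P a p-subgroup of G. If a member d of D normalizes P then d centralizes P. -/
theorem result {G : Type*} [Group G] [Finite G] {D : Set G} (hD : Cfsg.IsThreeTranspositionGroup D) {p : ℕ} (hp : p.Prime) (hp3 : 3 < p) (P : Subgroup G) (hP : IsPGroup p P) {d : G} (hd : d ∈ D) (hnorm : d ∈ Subgroup.normalizer (P : Set G)) : ∀ x ∈ P, Commute d x := by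
  intro x hx
  obtain ⟨⟨hord, h23⟩, hconj, -⟩ := hD
  have hd1 : d * d = 1 := by
    have := pow_orderOf_eq_one d
    rwa [hord d hd, pow_two] at this
  have hdi : d⁻¹ = d := inv_eq_of_mul_eq_one_right hd1
  have hy : d * (x * d * x⁻¹) ∈ P := by
    have h1 : d * x * d⁻¹ ∈ P := ((Subgroup.mem_normalizer_iff.mp hnorm) x).mp hx
    rw [hdi] at h1
    have h2 := P.mul_mem h1 (P.inv_mem hx)
    simpa only [mul_assoc] using h2
  obtain ⟨k, hk⟩ := hP ⟨_, hy⟩
  have hk' : (d * (x * d * x⁻¹)) ^ p ^ k = 1 := by simpa using congrArg Subtype.val hk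
  have hne : ∀ n : ℕ, n = 2 ∨ n = 3 → (d * (x * d * x⁻¹)) ^ n = 1 → d * (x * d * x⁻¹) = 1 := by
    intro n hn hn1
    have hcop : Nat.Coprime (p ^ k) n := by
      apply Nat.Coprime.pow_left
      rw [hp.coprime_iff_not_dvd]
      intro hdv
      have := Nat.le_of_dvd (by omega) hdv
      omega
    have := pow_gcd_eq_one.mpr ⟨hk', hn1⟩
    rwa [hcop, pow_one] at this
  have heq : d * (x * d * x⁻¹) = 1 := by
    rcases h23 d hd _ (hconj x d hd) with h | h
    · exact hne 2 (Or.inl rfl) h
    · exact hne 3 (Or.inr rfl) h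
  have h2 : x * d * x⁻¹ = d := by
    exact (eq_inv_of_mul_eq_one_right heq).trans hdi
  show d * x = x * d
  calc d * x = x * d * x⁻¹ * x := by rw [h2]
    _ = x * d := by group

end Cfsg.Agent.S5347
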