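import Cfsg.Statements.S5348

set_option autoImplicit false
open Cfsg

namespace Cfsg.Agent.S5348

/-- Let D be a conjugation-invariant generating set of 3-transpositions of a finite group G and d a member of D. Let V be the set of members of D commuting with exactly the same members of D as d, and W the set of members w of D such that the members of D other than w commuting with w are precisely the members of D other than d commuting with d. Then V = {d} or W = {d}. -/
theorem result {G : Type*} [Group G] [Finite G] {D : Set G} (hD : Cfsg.IsThreeTranspositionGroup D) {d : G} (hd : d ∈ D) : {v : G | v ∈ D ∧ ∀ e ∈ D, Commute v e ↔ Commute d e} = {d} ∨ {w : G | w ∈ D ∧ {y : G | y ∈ D ∧ y ≠ d ∧ Commute d y} = {y : G | y ∈ D ∧ y ≠ w ∧ Commute w y}} = {d} := by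
  classical
  by_contra h
  push Not at h
  obtain ⟨hV, hW⟩ := h
  have hdV : d ∈ {v : G | v ∈ D ∧ ∀ e ∈ D, Commute v e ↔ Commute d e} :=
    ⟨hd, fun e _ => Iff.rfl⟩
  have hdW : d ∈ {w : G | w ∈ D ∧ {y : G | y ∈ D ∧ y ≠ d ∧ Commute d y} =
      {y : G | y ∈ D ∧ y ≠ w ∧ Commute w y}} := ⟨hd, rfl⟩
  have hex : ∀ s : Set G, d ∈ s → s ≠ {d} → ∃ v ∈ s, v ≠ d := by
    intro s hs hne
    by_contra hc
    push Not at hc
    exact hne (Set.eq_singleton_iff_unique_mem.mpr ⟨hs, hc⟩)
  obtain ⟨v, ⟨hvD, hv⟩, hvd⟩ := hex _ hdV hV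
  obtain ⟨w, ⟨hwD, hw⟩, hwd⟩ := hex _ hdW hW
  have hdv : Commute d v := (hv v hvD).mp (Commute.refl v)
  have hwv : v ∈ {y : G | y ∈ D ∧ y ≠ w ∧ Commute w y} := by
    rw [← hw]; exact ⟨hvD, hvd, hdv⟩
  have hdw : Commute d w := (hv w hwD).mp hwv.2.2.symm
  have hww : w ∈ {y : G | y ∈ D ∧ y ≠ w ∧ Commute w y} := by
    rw [← hw]; exact ⟨hwD, hwd, hdw⟩
  exact hww.2.1 rfl

end Cfsg.Agent.S5348
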