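import Cfsg.Statements.S5351
import Cfsg.Agent.Lib.ThreeTrans
import Cfsg.Agent.Lib.ThreeTransPerp
import Cfsg.Agent.Lib.ComponentsFitting
import Cfsg.Agent.S5347
import Cfsg.Agent.S5348
import Cfsg.Agent.S5349
import Cfsg.Agent.S5350

set_option autoImplicit false
open Cfsg

namespace Cfsg.Agent.S5351

open Cfsg.Agent

variable {G : Type*} [Group G] {D : Set G}

/-- The conjugates of `d` under a subgroup. -/
def orb (E : Subgroup G) (d : G) : Set G := {x | ∃ g ∈ E, x = g * d * g⁻¹}

theorem orb_subset (hconj : ∀ g : G, ∀ d ∈ D, g * d * g⁻¹ ∈ D) (E : Subgroup G) {d : G}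
    (hd : d ∈ D) : orb E d ⊆ D := by
  rintro _ ⟨g, -, rfl⟩
  exact hconj g d hd

theorem orb_conj {E : Subgroup G} [E.Normal] {d h : G}
    (hh : h ∈ Subgroup.closure (orb E d)) : ∃ k ∈ E, h * d * h⁻¹ = k * d * k⁻¹ := by
  have hN := (inferInstance : E.Normal).conj_mem
  induction hh using Subgroup.closure_induction with
  | mem x hx =>
    obtain ⟨g, hg, rfl⟩ := hx
    refine ⟨g * (d * g⁻¹ * d⁻¹), E.mul_mem hg (hN _ (E.inv_mem hg) d), ?_⟩
    group
  | one => exact ⟨1, E.one_mem, rfl⟩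
  | mul a b _ _ iha ihb =>
    obtain ⟨k, hk, ea⟩ := iha
    obtain ⟨m, hm, eb⟩ := ihb
    refine ⟨a * m * a⁻¹ * k, E.mul_mem (hN m hm a) hk, ?_⟩
    calc a * b * d * (a * b)⁻¹ = a * (b * d * b⁻¹) * a⁻¹ := by group
      _ = (a * m * a⁻¹) * (a * d * a⁻¹) * (a * m * a⁻¹)⁻¹ := by rw [eb]; group
      _ = _ := by rw [ea]; group
  | inv a _ iha =>
    obtain ⟨k, hk, ea⟩ := iha
    refine ⟨a⁻¹ * k⁻¹ * a, by simpa using hN _ (E.inv_mem hk) a⁻¹, ?_⟩
    have e : k⁻¹ * (a * d * a⁻¹) * k = d := by rw [ea]; group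
    calc a⁻¹ * d * a⁻¹⁻¹ = a⁻¹ * d * a := by group
      _ = a⁻¹ * (k⁻¹ * (a * d * a⁻¹) * k) * a := by rw [e]
      _ = _ := by group

variable [Finite G]

/-- A `p`-group inside `G` normalized by the layer meets it in a group centralized by it. -/
theorem commute_layer {p : ℕ} [Fact p.Prime] {A : Subgroup G} (hA : IsPGroup p A)
    (hn : ∀ g ∈ Cfsg.layer G, ∀ a ∈ A, g * a * g⁻¹ ∈ A) (hnormal : (Cfsg.layer G).Normal) {x : G}
    (hx : x ∈ A) (hxE : x ∈ Cfsg.layer G) : ∀ g ∈ Cfsg.layer G, g * x = x * g := by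
  haveI := hnormal
  have hsub : (A ⊓ Cfsg.layer G).IsSubnormal := by
    haveI : ((A ⊓ Cfsg.layer G).subgroupOf (Cfsg.layer G)).Normal :=
      ⟨fun a ha g => ⟨hn g g.2 a ha.1, (g * a * g⁻¹).2⟩⟩
    have := ComponentsBasic.isSubnormal_map_normal (K := Cfsg.layer G)
      (H := (A ⊓ Cfsg.layer G).subgroupOf (Cfsg.layer G)) (Subgroup.Normal.isSubnormal inferInstance)
    rwa [Subgroup.subgroupOf_map_subtype, inf_of_le_left (inf_le_right : _ ⊓ _ ≤ _)] at this
  haveI : Group.IsNilpotent ↥(A ⊓ Cfsg.layer G) := (hA.to_le inf_le_left).isNilpotent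
  have hF := ComponentsFitting.subnormal_nilpotent_le_fitting hsub inferInstance ⟨hx, hxE⟩
  intro g hg
  have h1 := (Subgroup.commutator_eq_bot_iff_le_centralizer.mp
    (ComponentsFitting.layer_commute_fitting (G := G))) hg
  exact (Subgroup.mem_centralizer_iff.mp h1 x hF).symm

/-- If the products of conjugates of `d` under the layer lie in a `p`-group, `d` centralizes it. -/
theorem commute_of_pGroup {p : ℕ} [Fact p.Prime] {d : G} (hd2 : d * d = 1)
    (hnormal : (Cfsg.layer G).Normal)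
    (hp : IsPGroup p ↥(Subgroup.closure
      {z : G | ∃ a ∈ orb (Cfsg.layer G) d, ∃ b ∈ orb (Cfsg.layer G) d, z = a * b})) :
    ∀ g ∈ Cfsg.layer G, d * g = g * d := by
  set E := Cfsg.layer G with hE
  set A := Subgroup.closure {z : G | ∃ a ∈ orb E d, ∃ b ∈ orb E d, z = a * b} with hA
  have hn : ∀ g ∈ E, ∀ a ∈ A, g * a * g⁻¹ ∈ A := by
    intro g hg a ha
    induction ha using Subgroup.closure_induction with
    | mem x hx =>
      obtain ⟨_, ⟨k, hk, rfl⟩, _, ⟨m, hm, rfl⟩, rfl⟩ := hx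
      exact Subgroup.subset_closure ⟨_, ⟨g * k, E.mul_mem hg hk, rfl⟩, _,
        ⟨g * m, E.mul_mem hg hm, rfl⟩, by group⟩
    | one => simp
    | mul a b _ _ iha ihb =>
      rw [show g * (a * b) * g⁻¹ = g * a * g⁻¹ * (g * b * g⁻¹) by group]
      exact A.mul_mem iha ihb
    | inv a _ iha =>
      rw [show g * a⁻¹ * g⁻¹ = (g * a * g⁻¹)⁻¹ by group]
      exact A.inv_mem iha
  have hdi : d⁻¹ = d := inv_eq_of_mul_eq_one_right hd2
  have hcz : ∀ g ∈ E, d * g * d⁻¹ * g⁻¹ ∈ E ∧ ∀ k ∈ E,
      k * (d * g * d⁻¹ * g⁻¹) = (d * g * d⁻¹ * g⁻¹) * k := by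
    intro g hg
    have hmE : d * g * d⁻¹ * g⁻¹ ∈ E := E.mul_mem (hnormal.conj_mem g hg d) (E.inv_mem hg)
    refine ⟨hmE, commute_layer hp hn hnormal (Subgroup.subset_closure
      ⟨d, ⟨1, E.one_mem, by group⟩, g * d * g⁻¹, ⟨g, hg, rfl⟩, ?_⟩) hmE⟩
    rw [hdi]; group
  -- the commutator with `d` is a homomorphism from the layer to an abelian group
  have hmul : ∀ g ∈ E, ∀ h ∈ E, d * (g * h) * d⁻¹ * (g * h)⁻¹ =
      (d * g * d⁻¹ * g⁻¹) * (d * h * d⁻¹ * h⁻¹) := by
    intro g hg h hh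
    calc d * (g * h) * d⁻¹ * (g * h)⁻¹ = d * g * d⁻¹ * (d * h * d⁻¹ * h⁻¹) * g⁻¹ := by group
      _ = d * g * d⁻¹ * ((d * h * d⁻¹ * h⁻¹) * g⁻¹) := by group
      _ = d * g * d⁻¹ * (g⁻¹ * (d * h * d⁻¹ * h⁻¹)) := by
        rw [(hcz h hh).2 g⁻¹ (E.inv_mem hg)]
      _ = _ := by group
  let c : E →* Subgroup.center E :=
    MonoidHom.mk' (fun g => ⟨⟨_, (hcz g g.2).1⟩,
      Subgroup.mem_center_iff.mpr fun k => Subtype.ext ((hcz g g.2).2 k k.2)⟩)
      (fun g h => Subtype.ext (Subtype.ext (hmul g g.2 h h.2)))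
  intro g hg
  have hle : commutator E ≤ c.ker := by
    rw [commutator_def, Subgroup.commutator_le]
    intro a _ b _
    rw [MonoidHom.mem_ker, map_commutatorElement, commutatorElement_eq_one_iff_commute]
    exact Subtype.ext (Subgroup.mem_center_iff.mp (c b).2 (c a : E))
  have htop : (⟨g, hg⟩ : E) ∈ commutator E := by
    have h1 : (commutator E).map E.subtype = E := by
      rw [Subgroup.map_subtype_commutator, hE]
      exact ComponentsBasic.layer_perfect
    have hg' : g ∈ (commutator E).map E.subtype := h1.symm ▸ hg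
    obtain ⟨y, hy, e⟩ := hg'
    rwa [show y = ⟨g, hg⟩ from Subtype.ext e] at hy
  have h2 : d * g * d⁻¹ * g⁻¹ = 1 := congrArg (fun x : Subgroup.center E => ((x : E) : G)) (hle htop)
  calc d * g = (d * g * d⁻¹ * g⁻¹) * g * d := by group
    _ = g * d := by rw [h2, one_mul]

/-- Let D be a conjugacy class of 3-transpositions generating the finite group G, with at least two members. Then for every prime p > 3 the largest normal p-subgroup of G is central, and exactly one of the following holds: the largest normal 2-subgroup of G is not central; the largest normal 3-subgroup of G is not central; the layer of G (the product of its components) is non-trivial. -/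
theorem result {G : Type*} [Group G] [Finite G] {D : Set G} (hD : Cfsg.IsThreeTranspositionClass D) (hD2 : ∃ a ∈ D, ∃ b ∈ D, a ≠ b) : (∀ p : ℕ, p.Prime → 3 < p → Cfsg.pCore p G ≤ Subgroup.center G) ∧ ((¬ Cfsg.pCore 2 G ≤ Subgroup.center G ∧ Cfsg.pCore 3 G ≤ Subgroup.center G ∧ Cfsg.layer G = ⊥) ∨ (Cfsg.pCore 2 G ≤ Subgroup.center G ∧ ¬ Cfsg.pCore 3 G ≤ Subgroup.center G ∧ Cfsg.layer G = ⊥) ∨ (Cfsg.pCore 2 G ≤ Subgroup.center G ∧ Cfsg.pCore 3 G ≤ Subgroup.center G ∧ Cfsg.layer G ≠ ⊥)) := by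
  have hset := hD.1
  have hconj := ThreeTrans.conjInv hD
  have hgrp : Cfsg.IsThreeTranspositionGroup D := ⟨hset, hconj, hD.2.2⟩
  have htop : ∀ {N : Subgroup G}, (∀ d ∈ D, ∀ x ∈ N, Commute d x) → N ≤ Subgroup.center G := by
    intro N h x hx
    refine Subgroup.mem_center_iff.mpr fun g => ?_
    have hle : Subgroup.closure D ≤ Subgroup.centralizer {x} := (Subgroup.closure_le _).mpr fun d hd =>
      Subgroup.mem_centralizer_singleton_iff.mpr (h d hd x hx)
    exact Subgroup.mem_centralizer_singleton_iff.mp (hle (hD.2.2 ▸ Subgroup.mem_top g))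
  have hbig : ∀ p : ℕ, p.Prime → 3 < p → Cfsg.pCore p G ≤ Subgroup.center G := fun p hp h3 =>
    htop fun d hd x hx => S5347.result hgrp hp h3 _ (HallCore.isPGroup_pCore p G) hd
      ((HallCore.pCore_normal p G).conj_mem |> fun h => Subgroup.mem_normalizer_iff.mpr fun y =>
        ⟨fun hy => h y hy d, fun hy => by simpa [mul_assoc] using h _ hy d⁻¹⟩) x hx
  have hmove : ∀ p : ℕ, ¬ Cfsg.pCore p G ≤ Subgroup.center G → ∀ d ∈ D,
      ∃ x ∈ Cfsg.pCore p G, x * d * x⁻¹ ≠ d := by
    intro p hnc d hd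
    by_contra hno
    push Not at hno
    refine hnc (htop fun e he x hx => ?_)
    obtain ⟨d0, hd0, hDd⟩ := hD.2.1
    have h1 : IsConj d0 d := by rw [hDd] at hd; exact hd
    have h2 : IsConj d0 e := by rw [hDd] at he; exact he
    obtain ⟨h, rfl⟩ := isConj_iff.mp (h1.symm.trans h2)
    have hx' : h⁻¹ * x * h ∈ Cfsg.pCore p G := by
      simpa using (HallCore.pCore_normal p G).conj_mem x hx h⁻¹
    have h3 : Commute (h⁻¹ * x * h) d := by
      rw [commute_iff_eq]
      calc h⁻¹ * x * h * d = h⁻¹ * x * h * d * (h⁻¹ * x * h)⁻¹ * (h⁻¹ * x * h) := by group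
        _ = _ := by rw [hno _ hx']
    have h4 := h3.symm
    rw [← Commute.conj_iff h] at h4
    simpa [mul_assoc] using h4
  have hln : (Cfsg.layer G).Normal := inferInstance
  have hlayer : (∀ d ∈ D, ∀ g ∈ Cfsg.layer G, d * g = g * d) → Cfsg.layer G = ⊥ := by
    intro h
    rw [← ComponentsBasic.layer_perfect, eq_bot_iff, Subgroup.commutator_le]
    intro a _ b hb
    rw [Subgroup.mem_bot, commutatorElement_eq_one_iff_commute]
    exact Subgroup.mem_center_iff.mp (htop h hb) a
  have hfit : ∀ {p : ℕ}, p.Prime → ∀ x ∈ Cfsg.pCore p G, ∀ g ∈ Cfsg.layer G, Commute g x := by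
    intro p hp x hx g hg
    exact (Subgroup.mem_centralizer_iff.mp
      ((Subgroup.commutator_eq_bot_iff_le_centralizer.mp ComponentsFitting.layer_commute_fitting) hg)
      x (ComponentsFitting.pCore_le_fitting hp hx)).symm
  -- first case: the 2-core is not central
  have hcase2 : ¬ Cfsg.pCore 2 G ≤ Subgroup.center G →
      Cfsg.pCore 3 G ≤ Subgroup.center G ∧ Cfsg.layer G = ⊥ := by
    intro hnc
    constructor
    · by_contra hnc3
      obtain ⟨d, hd, -⟩ := id hD2
      obtain ⟨x, hx, hxd⟩ := hmove 2 hnc d hd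
      obtain ⟨y, hy, hyd⟩ := hmove 3 hnc3 d hd
      rcases S5348.result hgrp hd with h | h
      · rw [(S5349.result hD hD2 hd).2] at h
        exact hxd (h.subset ⟨x, hx, rfl⟩)
      · rw [(S5350.result hD hD2 hd).2] at h
        exact hyd (h.subset ⟨y, hy, rfl⟩)
    · refine hlayer fun d hd => ?_
      haveI : Fact (Nat.Prime 2) := ⟨Nat.prime_two⟩
      refine commute_of_pGroup (p := 2) (ThreeTrans.mul_self hset hd) hln ?_
      obtain ⟨x, hx, hxd⟩ := hmove 2 hnc d hd
      set v := x * d * x⁻¹ with hv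
      have hvD : v ∈ D := hconj x d hd
      have hVv : ∀ e ∈ D, Commute v e ↔ Commute d e :=
        ((S5349.result hD hD2 hd).2.symm.subset ⟨x, hx, rfl⟩).2
      have hdv : Commute d v := (hVv v hvD).mp (Commute.refl v)
      have hz : d * v ∈ Cfsg.pCore 2 G := ThreeTrans.sameV_mul_mem_pCore hset hconj hd ⟨hvD, hVv⟩
      have key : ∀ e ∈ orb (Cfsg.layer G) d, Commute d e := by
        rintro _ ⟨g, hg, rfl⟩
        by_contra hne
        have he := hconj g d hd
        have hve : ¬ Commute v (g * d * g⁻¹) := fun hc => hne ((hVv _ he).mp hc)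
        obtain ⟨φ, hφ, ha, hb, hc⟩ := S5344.result hset hd he hvD (Ne.symm hxd) hdv hne
          (fun hc => hve hc.symm)
        have e1 : Commute g (d * v) := hfit Nat.prime_two _ hz g hg
        have e2 : Commute d (d * v) := (Commute.refl d).mul_right hdv
        have e3 : Commute (g * d * g⁻¹) (d * v) := (e1.mul_left e2).mul_left e1.inv_left
        rw [← hc, ← hb, ← ha] at e3
        have h5 : Equiv.swap (1 : Fin 4) 2 * (Equiv.swap 0 1 * Equiv.swap 2 3) =
            Equiv.swap 0 1 * Equiv.swap 2 3 * Equiv.swap 1 2 :=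
          hφ (by simp only [map_mul]; exact e3.eq)
        exact absurd h5 (by decide +kernel)
      have hall : ∀ a ∈ orb (Cfsg.layer G) d, ∀ b ∈ orb (Cfsg.layer G) d, Commute a b := by
        rintro _ ⟨g, hg, rfl⟩ _ ⟨k, hk, rfl⟩
        have := key _ ⟨g⁻¹ * k, mul_mem (inv_mem hg) hk, rfl⟩
        rw [← Commute.conj_iff g] at this
        simpa [mul_assoc] using this
      have hcomm := Subgroup.isMulCommutative_closure hall
      refine fun z => ⟨1, Subtype.ext ?_⟩
      simp only [pow_one, SubgroupClass.coe_pow, OneMemClass.coe_one]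
      have hz2 : (z : G) ∈ Subgroup.closure (orb (Cfsg.layer G) d) := by
        refine (Subgroup.closure_le _).mpr ?_ z.2
        rintro _ ⟨a, ha, b, hb, rfl⟩
        exact mul_mem (Subgroup.subset_closure ha) (Subgroup.subset_closure hb)
      clear_value v
      generalize (z : G) = w at hz2
      induction hz2 using Subgroup.closure_induction with
      | mem a ha => rw [pow_two]; exact ThreeTrans.mul_self hset (orb_subset hconj _ hd ha)
      | one => simp
      | mul a b ha hb iha ihb =>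
        have hab : Commute a b := congrArg Subtype.val (hcomm.1.1 ⟨a, ha⟩ ⟨b, hb⟩)
        rw [hab.mul_pow, iha, ihb, one_mul]
      | inv a _ iha => rw [inv_pow, iha, inv_one]
  have hcase3 : ¬ Cfsg.pCore 3 G ≤ Subgroup.center G → Cfsg.layer G = ⊥ := by
    intro hnc
    refine hlayer fun d hd => ?_
    haveI : Fact (Nat.Prime 3) := ⟨Nat.prime_three⟩
    refine commute_of_pGroup (p := 3) (ThreeTrans.mul_self hset hd) hln ?_
    obtain ⟨x, hx, hxd⟩ := hmove 3 hnc d hd
    set w := x * d * x⁻¹ with hw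
    have hwD : w ∈ D := hconj x d hd
    have hW : ThreeTransPerp.SameW D d w := (S5350.result hD hD2 hd).2.symm.subset ⟨x, hx, rfl⟩
    have hdw : ¬ Commute d w := fun hc => hxd (hW.eq_of_commute hc)
    have hz3 : d * w ∈ Cfsg.pCore 3 G := by
      have h := (HallCore.pCore_normal 3 G).conj_mem x hx d
      rw [hw, show d * (x * d * x⁻¹) = (d * x * d) * x⁻¹ by group]
      rw [ThreeTrans.inv_self hset hd] at h
      exact mul_mem h (inv_mem hx)
    have key : ∀ e ∈ orb (Cfsg.layer G) d, Commute d e → e = d := by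
      rintro _ ⟨g, hg, rfl⟩ hc
      by_contra hne
      have he := hconj g d hd
      have e1 : Commute (g * d * g⁻¹) (d * w) :=
        hc.symm.mul_right (hW.commute_of_commute he hne hc).symm
      have e2 : Commute g (d * w) := hfit Nat.prime_three _ hz3 g hg
      have e3 : Commute d (d * w) := by
        have h' := ((e2.inv_left).mul_left e1).mul_left e2
        rwa [show g⁻¹ * (g * d * g⁻¹) * g = d by group] at h'
      apply hdw
      have h4 := ((Commute.refl d).inv_right).mul_right e3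
      rwa [inv_mul_cancel_left] at h4
    -- width one inside the subgroup generated by the orbit
    set H := Subgroup.closure (orb (Cfsg.layer G) d) with hH
    set D' : Set H := {y : H | (y : G) ∈ orb (Cfsg.layer G) d} with hD'
    have hmemD : ∀ a ∈ D', (a : G) ∈ D := fun a ha => orb_subset hconj _ hd ha
    have hset' : Cfsg.IsThreeTranspositionSet D' := by
      refine ⟨fun a ha => ?_, fun a ha b hb => ?_⟩
      · rw [← Subgroup.orderOf_coe]; exact hset.1 _ (hmemD a ha)
      · exact (hset.2 _ (hmemD a ha) _ (hmemD b hb)).imp (fun h => Subtype.ext (by simpa using h))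
          fun h => Subtype.ext (by simpa using h)
    have hconj' : ∀ h : H, ∀ a ∈ D', h * a * h⁻¹ ∈ D' := by
      rintro h a ⟨k, hk, ha⟩
      obtain ⟨m, hm, e⟩ := orb_conj h.2
      refine ⟨(h : G) * k * (h : G)⁻¹ * m, mul_mem (hln.conj_mem k hk h) hm, ?_⟩
      simp only [Subgroup.coe_mul, Subgroup.coe_inv, ha]
      calc (h : G) * (k * d * k⁻¹) * (h : G)⁻¹
          = (h : G) * k * (h : G)⁻¹ * ((h : G) * d * (h : G)⁻¹) * ((h : G) * k * (h : G)⁻¹)⁻¹ := by
            group
        _ = _ := by rw [e]; group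
    have hw1 : ∀ a ∈ D', ∀ b ∈ D', Commute a b → a = b := by
      rintro a ⟨g, hg, ha⟩ b ⟨k, hk, hb⟩ hab
      have h' : Commute (g⁻¹ * (a : G) * g⁻¹⁻¹) (g⁻¹ * (b : G) * g⁻¹⁻¹) :=
        (Commute.conj_iff g⁻¹).mpr (congrArg Subtype.val hab)
      have h1 : g⁻¹ * (b : G) * g = d := by
        refine key _ ⟨g⁻¹ * k, mul_mem (inv_mem hg) hk, by rw [hb]; group⟩ ?_
        convert h' using 1
        · rw [ha]; group
        · group
      refine Subtype.ext (mul_right_cancel (b := g) (mul_left_cancel (a := g⁻¹) ?_))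
      rw [← mul_assoc, ← mul_assoc, h1, ha]
      group
    refine ((HallCore.isPGroup_pCore 3 H).map H.subtype).to_le ((Subgroup.closure_le _).mpr ?_)
    rintro _ ⟨a, ha, b, hb, rfl⟩
    exact ⟨_, ThreeTransPerp.mul_mem_pCore_of_width_one hset' hconj' hw1
      (a := ⟨a, Subgroup.subset_closure ha⟩) (b := ⟨b, Subgroup.subset_closure hb⟩) ha hb, rfl⟩
  have hboth : Cfsg.pCore 2 G ≤ Subgroup.center G → Cfsg.pCore 3 G ≤ Subgroup.center G →
      Cfsg.layer G ≠ ⊥ := by
    intro h2 h3 hbot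
    have hF : Cfsg.fittingSubgroup G ≤ Subgroup.center G := by
      rw [ComponentsFitting.fittingSubgroup_eq_iSup]
      refine iSup_le fun q => ?_
      have hq := Nat.prime_of_mem_primeFactors q.2
      by_cases h4 : 3 < (q : ℕ)
      · exact hbig q hq h4
      · rcases (show (q : ℕ) = 2 ∨ (q : ℕ) = 3 by have := hq.two_le; omega) with e | e <;> rw [e]
        exacts [h2, h3]
    obtain ⟨a, ha, b, hb, hab⟩ := hD2
    apply hab
    have hc : ∀ g : G, g ∈ Subgroup.center G := fun g =>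
      hF (ComponentsFitting.centralizer_fitting_le_of_layer_eq_bot hbot
        (Subgroup.mem_centralizer_iff.mpr fun z hz =>
          (Subgroup.mem_center_iff.mp (hF hz) g).symm))
    obtain ⟨d0, -, hDd⟩ := hD.2.1
    rw [hDd] at ha hb
    obtain ⟨g, rfl⟩ := isConj_iff.mp ((show IsConj d0 a from ha).symm.trans hb)
    rw [Subgroup.mem_center_iff.mp (hc a) g, mul_inv_cancel_right]
  refine ⟨hbig, ?_⟩
  by_cases h2 : Cfsg.pCore 2 G ≤ Subgroup.center G
  · by_cases h3 : Cfsg.pCore 3 G ≤ Subgroup.center G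
    · exact Or.inr (Or.inr ⟨h2, h3, hboth h2 h3⟩)
    · exact Or.inr (Or.inl ⟨h2, h3, hcase3 h3⟩)
  · exact Or.inl ⟨h2, hcase2 h2⟩

end Cfsg.Agent.S5351
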