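import Cfsg.Statements.S5355
import Cfsg.Agent.Lib.ThreeTrans

set_option autoImplicit false
open Cfsg

namespace Cfsg.Agent.S5355

open Cfsg.Agent

/-- Let D be a conjugacy class of 3-transpositions generating the finite group G, with at least two members, and d a member of D. Suppose that every member of D commuting with d commutes with exactly the same members of D as d does, and that exactly one member of D other than d commutes with d. Then G is isomorphic to the symmetric group of degree 4. -/
theorem result {G : Type*} [Group G] [Finite G] {D : Set G} (hD : Cfsg.IsThreeTranspositionClass D) (hD2 : ∃ a ∈ D, ∃ b ∈ D, a ≠ b) {d : G} (hd : d ∈ D) (hV : {y : G | y ∈ D ∧ Commute d y} = {v : G | v ∈ D ∧ ∀ e ∈ D, Commute v e ↔ Commute d e}) (hm : {y : G | y ∈ D ∧ Commute d y}.ncard = 2) : Nonempty (G ≃* Equiv.Perm (Fin 4)) := by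
  have hset := hD.1
  have hconj := ThreeTrans.conjInv hD
  -- the partner of `d`
  have hex : ∀ a ∈ D, ∃ b, b ∈ D ∧ b ≠ a ∧ Commute a b ∧
      (∀ e ∈ D, Commute b e ↔ Commute a e) ∧ ∀ y ∈ D, Commute a y → y = a ∨ y = b := by
    intro a ha
    obtain ⟨d0, -, hd0⟩ := hD.2.1
    have hd' : IsConj d0 d := by rw [hd0] at hd; exact hd
    have ha' : IsConj d0 a := by rw [hd0] at ha; exact ha
    obtain ⟨g, rfl⟩ := isConj_iff.mp (hd'.symm.trans ha')
    obtain ⟨p, q, hpq, hset2⟩ := Set.ncard_eq_two.mp hm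
    have hdmem : d ∈ {y : G | y ∈ D ∧ Commute d y} := ⟨hd, Commute.refl d⟩
    obtain ⟨v, hv, hvd, hall⟩ : ∃ v, (v ∈ D ∧ Commute d v) ∧ v ≠ d ∧
        ∀ y, y ∈ D → Commute d y → y = d ∨ y = v := by
      have hp : p ∈ {y : G | y ∈ D ∧ Commute d y} := by rw [hset2]; exact Or.inl rfl
      have hq : q ∈ {y : G | y ∈ D ∧ Commute d y} := by rw [hset2]; exact Or.inr rfl
      have hall : ∀ y, y ∈ D → Commute d y → y = p ∨ y = q := fun y hy hc => by
        have : y ∈ {y : G | y ∈ D ∧ Commute d y} := ⟨hy, hc⟩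
        rw [hset2] at this
        exact this
      rcases hall d hd (Commute.refl d) with h | h
      · exact ⟨q, hq, h ▸ hpq.symm, fun y hy hc => (hall y hy hc).imp (fun e => e.trans h.symm) id⟩
      · exact ⟨p, hp, h ▸ hpq, fun y hy hc => (hall y hy hc).symm.imp (fun e => e.trans h.symm) id⟩
    have hv' : v ∈ {v : G | v ∈ D ∧ ∀ e ∈ D, Commute v e ↔ Commute d e} := hV ▸ hv
    have hsame : ThreeTrans.SameV D d v := hv'
    refine ⟨g * v * g⁻¹, hconj g v hv.1, fun h => hvd (by simpa using h),
      (Commute.conj_iff g).mpr hv.2, (hsame.conj hconj g).2, fun y hy hc => ?_⟩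
    have hy' : g⁻¹ * y * g ∈ D := by simpa using hconj g⁻¹ y hy
    have hc' : Commute d (g⁻¹ * y * g) := by
      rw [← Commute.conj_iff g]
      have : g * (g⁻¹ * y * g) * g⁻¹ = y := by group
      rwa [this]
    rcases hall _ hy' hc' with h | h
    · left; rw [← h]; group
    · right; rw [← h]; group
  obtain ⟨v, hv, hvd, hdv, hvV, hdall⟩ := hex d hd
  obtain ⟨e, he, hde⟩ := ThreeTrans.exists_not_commute hD hD2 hd
  have hve : ¬ Commute v e := fun hc => hde ((hvV e he).mp hc)
  obtain ⟨φ, hinj, ha, hb, hc⟩ := S5344.result hset hd he hv hvd.symm hdv hde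
    (fun hc => hve hc.symm)
  have hswapD : ∀ i j : Fin 4, i ≠ j → φ (Equiv.swap i j) ∈ D := by
    intro i j hij
    obtain ⟨k, hk⟩ : ∃ k : Equiv.Perm (Fin 4), k * Equiv.swap 0 1 * k⁻¹ = Equiv.swap i j :=
      isConj_iff.mp (Equiv.Perm.isConj_swap (by decide) hij)
    rw [← hk, map_mul, map_mul, map_inv, ha]
    exact hconj _ d hd
  suffices hsix : D ⊆ φ.range by
    have htop : φ.range = ⊤ := by
      rw [eq_top_iff, ← hD.2.2]
      exact (Subgroup.closure_le _).mpr hsix
    exact ⟨(MulEquiv.ofBijective φ ⟨hinj, MonoidHom.range_eq_top.mp htop⟩).symm⟩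
  intro f hf
  by_contra hout
  -- the action of `f` on the product of a commuting pair outside of which it lies
  obtain ⟨f', hf', hff', hcff', hfV, hfall⟩ := hex f hf
  have hpair : ∀ i j k l : Fin 4, i ≠ j → k ≠ l → Equiv.swap i j ≠ Equiv.swap k l →
      Commute (Equiv.swap i j) (Equiv.swap k l) →
      f * (φ (Equiv.swap i j) * φ (Equiv.swap k l)) * f =
        φ (Equiv.swap i j) * φ (Equiv.swap k l) * (f * f') ∧
        Commute (φ (Equiv.swap i j) * φ (Equiv.swap k l)) (f * f') := by
    intro i j k l hij hkl hne hcom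
    set s := φ (Equiv.swap i j) with hs
    set t := φ (Equiv.swap k l) with ht
    have hsD : s ∈ D := hswapD i j hij
    have htD : t ∈ D := hswapD k l hkl
    have hst : s ≠ t := fun h => hne (hinj h)
    obtain ⟨s', -, -, -, -, hsall⟩ := hex s hsD
    have hts' : t = s' := (hsall t htD (hcom.map φ)).resolve_left hst.symm
    have hsf : ¬ Commute s f := by
      intro hc
      rcases hsall f hf hc with h | h
      · exact hout ⟨_, h.symm⟩
      · exact hout ⟨_, (h.trans hts'.symm).symm⟩
    obtain ⟨t', -, -, -, -, htall⟩ := hex t htD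
    have hst' : s = t' := (htall s hsD (hcom.map φ).symm).resolve_left hst
    have htf : ¬ Commute t f := by
      intro hc
      rcases htall f hf hc with h | h
      · exact hout ⟨_, h.symm⟩
      · exact hout ⟨_, (h.trans hst'.symm).symm⟩
    obtain ⟨ψ, hψ, hA, hB, hC⟩ := S5344.result hset hsD hf htD hst (hcom.map φ) hsf
      (fun h => htf h.symm)
    have h03 : ψ (Equiv.swap 0 3) = f' := by
      have hmem : ψ (Equiv.swap 0 3) ∈ D := by
        obtain ⟨k, hk⟩ : ∃ k : Equiv.Perm (Fin 4), k * Equiv.swap 0 1 * k⁻¹ = Equiv.swap 0 3 :=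
          isConj_iff.mp (Equiv.Perm.isConj_swap (by decide) (by decide))
        rw [← hk, map_mul, map_mul, map_inv, hA]
        exact hconj _ s hsD
      have hcm : Commute (Equiv.swap (1 : Fin 4) 2) (Equiv.swap 0 3) :=
        (commute_iff_eq _ _).mpr (by decide +kernel)
      refine (hfall _ hmem (hB ▸ hcm.map ψ)).resolve_left ?_
      rw [← hB]
      exact fun h => absurd (hψ h) (by decide +kernel)
    have e1 : Equiv.swap (1 : Fin 4) 2 * (Equiv.swap 0 1 * Equiv.swap 2 3) * Equiv.swap 1 2 =
        Equiv.swap 0 1 * Equiv.swap 2 3 * (Equiv.swap 1 2 * Equiv.swap 0 3) := by decide +kernel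
    have e2 : Commute (Equiv.swap (0 : Fin 4) 1 * Equiv.swap 2 3)
        (Equiv.swap 1 2 * Equiv.swap 0 3) := (commute_iff_eq _ _).mpr (by decide +kernel)
    have e1' := congrArg ψ e1
    have e2' := e2.map ψ
    simp only [map_mul, hA, hB, hC, h03] at e1' e2'
    exact ⟨e1', e2'⟩
  obtain ⟨hA, cA⟩ := hpair 0 1 2 3 (by decide) (by decide) (by decide +kernel)
    ((commute_iff_eq _ _).mpr (by decide +kernel))
  obtain ⟨hB, cB⟩ := hpair 1 2 0 3 (by decide) (by decide) (by decide +kernel)
    ((commute_iff_eq _ _).mpr (by decide +kernel))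
  obtain ⟨hC, -⟩ := hpair 0 2 1 3 (by decide) (by decide) (by decide +kernel)
    ((commute_iff_eq _ _).mpr (by decide +kernel))
  set A := φ (Equiv.swap 0 1) * φ (Equiv.swap 2 3)
  set B := φ (Equiv.swap 1 2) * φ (Equiv.swap 0 3)
  set C := φ (Equiv.swap 0 2) * φ (Equiv.swap 1 3)
  set Y := f * f'
  have hABC : A * B = C := by
    simp only [A, B, C, ← map_mul]
    exact congrArg φ (by decide +kernel)
  have hff : f * f = 1 := ThreeTrans.mul_self hset hf
  have hYY : Y * Y = 1 := by
    simp only [Y]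
    rw [hcff'.symm.mul_mul_mul_comm, hff, ThreeTrans.mul_self hset hf', one_mul]
  have hC' : f * C * f = C := by
    calc f * C * f = (f * A * f) * (f * B * f) := by
          rw [← hABC, show f * A * f * (f * B * f) = f * A * (f * f) * B * f by
            simp only [mul_assoc], hff, mul_one]
          simp only [mul_assoc]
      _ = A * (Y * B) * Y := by rw [hA, hB]; simp only [mul_assoc]
      _ = A * B * (Y * Y) := by rw [← cB.eq]; simp only [mul_assoc]
      _ = C := by rw [hYY, mul_one, hABC]
  rw [hC', left_eq_mul] at hC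
  apply hff'
  rw [← ThreeTrans.inv_self hset hf]
  exact eq_inv_of_mul_eq_one_right hC

end Cfsg.Agent.S5355
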