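import Cfsg.Statements.S5356
import Cfsg.Agent.Lib.ThreeTrans
import Cfsg.Agent.Lib.ThreeTransPerp
import Cfsg.Agent.S5349

set_option autoImplicit false
open Cfsg

namespace Cfsg.Agent.S5356

open Cfsg.Agent

universe u

variable {G : Type u} [Group G] [Finite G] {D : Set G}

/-- Every member commuting with a member has the same commuting partners. -/
def Hyp (D : Set G) : Prop :=
  ∀ a ∈ D, ∀ b ∈ D, Commute a b → ∀ e ∈ D, Commute b e ↔ Commute a e

theorem exists_lift {M : Subgroup G} [M.Normal] (hM : IsPGroup 2 M)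
    (hset : Cfsg.IsThreeTranspositionSet D) {a b : G} (ha : a ∈ D) (hb : b ∈ D)
    (h : Commute (QuotientGroup.mk a : G ⧸ M) (QuotientGroup.mk b)) : Commute a b := by
  have h2 : (a * b) ^ 2 ∈ M := by
    rw [← QuotientGroup.eq_one_iff, QuotientGroup.mk_pow, QuotientGroup.mk_mul, h.mul_pow,
      ← QuotientGroup.mk_pow, ← QuotientGroup.mk_pow, pow_two, pow_two,
      ThreeTrans.mul_self hset ha, ThreeTrans.mul_self hset hb, QuotientGroup.mk_one, one_mul]
  obtain ⟨k, hk⟩ := hM ⟨_, h2⟩
  refine ThreeTrans.commute_of_two_pow hset ha hb (k := k + 1) ?_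
  rw [pow_succ', pow_mul]
  simpa using congrArg Subtype.val hk

theorem notMem_two (hD : Cfsg.IsThreeTranspositionClass D)
    (hnc : ∃ a ∈ D, ∃ b ∈ D, ¬ Commute a b) {N : Subgroup G} [N.Normal] (hN : IsPGroup 2 N)
    {d : G} (hd : d ∈ D) : d ∉ N := by
  intro hdN
  obtain ⟨a, ha, b, hb, hab⟩ := hnc
  refine hab (exists_lift hN hD.1 ha hb ?_)
  have hall : ∀ x ∈ D, (QuotientGroup.mk x : G ⧸ N) = 1 := by
    intro x hx
    obtain ⟨d0, -, hDd⟩ := hD.2.1
    rw [hDd] at hx hd
    obtain ⟨g, rfl⟩ := isConj_iff.mp ((show IsConj d0 d from hd).symm.trans hx)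
    exact (QuotientGroup.eq_one_iff _).mpr ((inferInstance : N.Normal).conj_mem d hdN g)
  rw [hall a ha, hall b hb]

theorem quotient_class (hD : Cfsg.IsThreeTranspositionClass D)
    (hnc : ∃ a ∈ D, ∃ b ∈ D, ¬ Commute a b) {N : Subgroup G} [N.Normal] (hN : IsPGroup 2 N) :
    Cfsg.IsThreeTranspositionClass (QuotientGroup.mk' N '' D) := by
  refine ⟨⟨?_, ?_⟩, ?_, ?_⟩
  · rintro _ ⟨a, ha, rfl⟩
    refine orderOf_eq_prime ?_ fun h => notMem_two hD hnc hN ha ((QuotientGroup.eq_one_iff _).mp h)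
    rw [← map_pow, pow_two, ThreeTrans.mul_self hD.1 ha, map_one]
  · rintro _ ⟨a, ha, rfl⟩ _ ⟨b, hb, rfl⟩
    exact (hD.1.2 a ha b hb).imp (fun h => by rw [← map_mul, ← map_pow, h, map_one])
      fun h => by rw [← map_mul, ← map_pow, h, map_one]
  · obtain ⟨d0, hd0, hDd⟩ := hD.2.1
    refine ⟨_, ⟨d0, hd0, rfl⟩, Set.ext fun x => ⟨?_, fun hx => ?_⟩⟩
    · rintro ⟨a, ha, rfl⟩
      rw [hDd] at ha
      exact (QuotientGroup.mk' N).map_isConj (show IsConj d0 a from ha)
    · obtain ⟨c, hc⟩ := isConj_iff.mp (show IsConj _ x from hx)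
      obtain ⟨g, rfl⟩ := QuotientGroup.mk'_surjective N c
      exact ⟨g * d0 * g⁻¹, ThreeTrans.conjInv hD g d0 hd0, by
        rw [← hc, map_mul, map_mul, map_inv]⟩
  · rw [← MonoidHom.map_closure, hD.2.2,
      Subgroup.map_top_of_surjective _ (QuotientGroup.mk'_surjective N)]

theorem width_one_quotient (hD : Cfsg.IsThreeTranspositionClass D)
    (hnc : ∃ a ∈ D, ∃ b ∈ D, ¬ Commute a b) (hV : Hyp D) {e : G} (he : e ∈ D) :
    haveI := HallCore.pCore_normal 2 G
    Subgroup.zpowers (QuotientGroup.mk' (Cfsg.pCore 2 G) e) ⊔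
      Cfsg.pCore 3 (G ⧸ Cfsg.pCore 2 G) = ⊤ := by
  haveI := HallCore.pCore_normal 2 G
  have hN := HallCore.isPGroup_pCore 2 G
  have hcl := quotient_class hD hnc hN
  have h1 : ∀ a ∈ QuotientGroup.mk' (Cfsg.pCore 2 G) '' D,
      ∀ b ∈ QuotientGroup.mk' (Cfsg.pCore 2 G) '' D, Commute a b → a = b := by
    rintro _ ⟨a, ha, rfl⟩ _ ⟨b, hb, rfl⟩ h
    have hab := exists_lift hN hD.1 ha hb h
    have := ThreeTrans.sameV_mul_mem_pCore hD.1 (ThreeTrans.conjInv hD) ha ⟨hb, hV a ha b hb hab⟩
    show (QuotientGroup.mk a : G ⧸ Cfsg.pCore 2 G) = QuotientGroup.mk b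
    rw [QuotientGroup.eq, ThreeTrans.inv_self hD.1 ha]
    exact this
  rw [eq_top_iff, ← hcl.2.2, Subgroup.closure_le]
  intro x hx
  have : x = QuotientGroup.mk' _ e * (QuotientGroup.mk' (Cfsg.pCore 2 G) e * x) := by
    rw [← mul_assoc, ThreeTrans.mul_self hcl.1 ⟨e, he, rfl⟩, one_mul]
  rw [this]
  exact mul_mem (Subgroup.mem_sup_left (Subgroup.mem_zpowers _)) (Subgroup.mem_sup_right
    (ThreeTransPerp.mul_mem_pCore_of_width_one hcl.1 (ThreeTrans.conjInv hcl) h1 ⟨e, he, rfl⟩ hx))

theorem gen_top (hD : Cfsg.IsThreeTranspositionClass D)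
    (hnc : ∃ a ∈ D, ∃ b ∈ D, ¬ Commute a b) (hV : Hyp D) (P : Sylow 3 G) {e : G} (he : e ∈ D) :
    Subgroup.zpowers e ⊔ (P : Subgroup G) ⊔ Cfsg.pCore 2 G = ⊤ := by
  haveI := HallCore.pCore_normal 2 G
  haveI : Fact (Nat.Prime 3) := ⟨Nat.prime_three⟩
  have hs := QuotientGroup.mk'_surjective (Cfsg.pCore 2 G)
  have h : (Subgroup.zpowers e ⊔ (P : Subgroup G)).map (QuotientGroup.mk' (Cfsg.pCore 2 G)) = ⊤ := by
    rw [eq_top_iff, ← width_one_quotient hD hnc hV he, Subgroup.map_sup, MonoidHom.map_zpowers]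
    refine sup_le_sup_left ?_ _
    rw [← Sylow.coe_mapSurjective hs P]
    exact HallCore.pCore_le_sylow _
  have := congrArg (Subgroup.comap (QuotientGroup.mk' (Cfsg.pCore 2 G))) h
  rwa [Subgroup.comap_map_eq, QuotientGroup.ker_mk', Subgroup.comap_top] at this

theorem normalizes_of_trivial (hD : Cfsg.IsThreeTranspositionClass D)
    (hnc : ∃ a ∈ D, ∃ b ∈ D, ¬ Commute a b) (hV : Hyp D) (h2 : Cfsg.pCore 2 G = ⊥) (P : Sylow 3 G)
    {e : G} (he : e ∈ D) : e ∈ Subgroup.normalizer (P : Set G) := by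
  haveI : Fact (Nat.Prime 3) := ⟨Nat.prime_three⟩
  haveI hN3 := HallCore.pCore_normal 3 G
  have h1 : ∀ a ∈ D, ∀ b ∈ D, Commute a b → a = b := by
    intro a ha b hb hab
    have := ThreeTrans.sameV_mul_mem_pCore hD.1 (ThreeTrans.conjInv hD) ha ⟨hb, hV a ha b hb hab⟩
    rw [h2, Subgroup.mem_bot] at this
    exact ((eq_inv_of_mul_eq_one_right this).trans (ThreeTrans.inv_self hD.1 ha)).symm
  have htop : ∀ x : G, ∃ u ∈ Subgroup.zpowers e, ∃ v ∈ Cfsg.pCore 3 G, u * v = x := by
    intro x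
    refine Subgroup.mem_sup_of_normal_right.mp ?_
    have : (⊤ : Subgroup G) ≤ Subgroup.zpowers e ⊔ Cfsg.pCore 3 G := by
      rw [← hD.2.2, Subgroup.closure_le]
      intro y hy
      have : y = e * (e * y) := by rw [← mul_assoc, ThreeTrans.mul_self hD.1 he, one_mul]
      rw [this]
      exact mul_mem (Subgroup.mem_sup_left (Subgroup.mem_zpowers _)) (Subgroup.mem_sup_right
        (ThreeTransPerp.mul_mem_pCore_of_width_one hD.1 (ThreeTrans.conjInv hD) h1 he hy))
    exact this (Subgroup.mem_top x)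
  have hP : (P : Subgroup G) = Cfsg.pCore 3 G := by
    refine le_antisymm (fun x hx => ?_) (HallCore.pCore_le_sylow P)
    obtain ⟨u, hu, v, hv, rfl⟩ := htop x
    have huP : u ∈ (P : Subgroup G) := by
      have := mul_mem hx (inv_mem (HallCore.pCore_le_sylow P hv))
      rwa [mul_inv_cancel_right] at this
    have hu2 : orderOf u ∣ 2 := (orderOf_dvd_of_mem_zpowers hu).trans (hD.1.1 e he).dvd
    obtain ⟨k, hk⟩ := IsPGroup.iff_orderOf.mp P.2 ⟨u, huP⟩
    rw [← Subgroup.orderOf_coe] at hk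
    have h4 : orderOf u = 1 := by
      have h5 : Nat.Coprime 2 (3 ^ k) := Nat.Coprime.pow_right _ (by norm_num)
      exact Nat.eq_one_of_dvd_coprimes h5 hu2 hk.dvd
    rw [orderOf_eq_one_iff.mp h4, one_mul]
    exact hv
  rw [show (P : Set G) = ((P : Subgroup G) : Set G) from rfl, hP, Subgroup.normalizer_eq_top]
  trivial

/-- If a product of conjugates of an element fixed point freely permuting a module stays in a
subgroup, so does the element. -/
theorem mem_of_step {M T : Subgroup G} [M.Normal] (hMc : ∀ a ∈ M, ∀ b ∈ M, a * b = b * a)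
    {y m : G} (hm : m ∈ M) (hfix : ∀ x ∈ M, y * x = x * y → x = 1)
    (hTM : T ≤ M) (hTy : ∀ q ∈ T, y * q * y⁻¹ ∈ T) (hstep : m⁻¹ * (y * m * y⁻¹) ∈ T)
    (hm2 : m * m = 1) (hodd : Odd (orderOf y)) : m ∈ T := by
  have hMn := (inferInstance : M.Normal).conj_mem
  have main : ∀ j : ℕ, (m * y) ^ j * (y ^ j)⁻¹ * (m ^ j)⁻¹ ∈ T ∧
      (m * y) ^ j * (y ^ j)⁻¹ ∈ M := by
    intro j
    induction j with
    | zero => simp
    | succ j ih =>
      set f := (m * y) ^ j * (y ^ j)⁻¹ with hf
      have hf' : (m * y) ^ (j + 1) * (y ^ (j + 1))⁻¹ = m * (y * f * y⁻¹) := by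
        rw [hf, pow_succ' (m * y), pow_succ' y]
        group
      rw [hf']
      have hq := ih.1
      refine ⟨?_, mul_mem hm (hMn f ih.2 y)⟩
      set q := f * (m ^ j)⁻¹ with hqd
      have hyj : ∀ i : ℕ, (m ^ i)⁻¹ * (y * m ^ i * y⁻¹) ∈ T := by
        intro i
        induction i with
        | zero => simp
        | succ i ih' =>
          have e : (m ^ (i + 1))⁻¹ * (y * m ^ (i + 1) * y⁻¹) =
              m⁻¹ * ((m ^ i)⁻¹ * (y * m ^ i * y⁻¹)) * (y * m * y⁻¹) := by
            rw [pow_succ]; group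
          rw [e, hMc _ (inv_mem hm) _ (hTM ih'), mul_assoc]
          exact mul_mem ih' hstep
      have e : m * (y * f * y⁻¹) * (m ^ (j + 1))⁻¹ =
          m * ((y * q * y⁻¹) * (y * m ^ j * y⁻¹) * (m ^ j)⁻¹) * m⁻¹ := by
        rw [hqd, pow_succ']; group
      have hb : y * m ^ j * y⁻¹ * (m ^ j)⁻¹ ∈ T := by
        rw [hMc _ (hMn _ (pow_mem hm j) y) _ (inv_mem (pow_mem hm j))]
        exact hyj j
      have hin : (y * q * y⁻¹) * (y * m ^ j * y⁻¹) * (m ^ j)⁻¹ ∈ T := by
        rw [mul_assoc (y * q * y⁻¹)]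
        exact mul_mem (hTy q hq) hb
      rw [e, hMc m hm _ (hTM hin), mul_inv_cancel_right]
      exact hin
  obtain ⟨hT, hfM⟩ := main (orderOf y)
  rw [pow_orderOf_eq_one, inv_one, mul_one] at hT hfM
  have h1 : (m * y) ^ orderOf y = 1 := by
    refine hfix _ hfM ?_
    have e : y * (m * y) ^ orderOf y * y⁻¹ = (y * m) ^ orderOf y := by
      rw [← conj_pow]; group
    have e' : (y * m) ^ orderOf y = m⁻¹ * (m * y) ^ orderOf y * m := by
      have := conj_pow (i := orderOf y) (a := m⁻¹) (b := m * y)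
      rw [inv_inv] at this
      rw [← this]; group
    rw [e', hMc _ (inv_mem hm) _ hfM, inv_mul_cancel_right] at e
    exact mul_inv_eq_iff_eq_mul.mp e
  rw [h1, one_mul] at hT
  obtain ⟨k, hk⟩ := hodd
  rw [hk, pow_succ, pow_mul, pow_two, hm2, one_pow, one_mul] at hT
  simpa using inv_mem hT

/-- The case of a minimal normal 2-subgroup meeting the normalizer of a Sylow 3-subgroup trivially. -/
theorem step (hD : Cfsg.IsThreeTranspositionClass D) (hD2 : ∃ a ∈ D, ∃ b ∈ D, a ≠ b)
    (hnc : ∃ a ∈ D, ∃ b ∈ D, ¬ Commute a b) (hV : Hyp D) {M : Subgroup G} [M.Normal]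
    (hMc : ∀ a ∈ M, ∀ b ∈ M, a * b = b * a) (hM2 : ∀ a ∈ M, a * a = 1)
    (hMO : ∀ a ∈ M, ∀ g ∈ Cfsg.pCore 2 G, g * a = a * g)
    (hmin : ∀ N : Subgroup G, N.Normal → N ≤ M → N ≠ ⊥ → N = M)
    (P : Sylow 3 G) {e : G} (he : e ∈ D) {m : G} (hm : m ∈ M)
    (ht : m * e ∈ Subgroup.normalizer (P : Set G)) :
    ∃ f ∈ D, ∃ R : Sylow 3 G, f ∈ Subgroup.normalizer (R : Set G) := by
  haveI : Fact (Nat.Prime 3) := ⟨Nat.prime_three⟩
  have hMn := (inferInstance : M.Normal).conj_mem
  have hMp : IsPGroup 2 M := fun x => ⟨1, Subtype.ext (by simpa [pow_two] using hM2 x x.2)⟩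
  have hMle : M ≤ Cfsg.pCore 2 G := HallCore.le_pCore hMp
  have hee := ThreeTrans.mul_self hD.1 he
  have hei := ThreeTrans.inv_self hD.1 he
  have hdisj : ∀ x, x ∈ (P : Subgroup G) → x ∈ M → x = 1 := fun x hxP hxM =>
    Subgroup.disjoint_def.mp (IsPGroup.disjoint_of_ne 3 2 (by norm_num) _ _ P.2 hMp) hxP hxM
  by_cases hMP : ∀ x ∈ M, ∀ q ∈ (P : Subgroup G), x * q = q * x
  · refine ⟨e, he, P, ?_⟩
    have hmN : m ∈ Subgroup.normalizer (P : Set G) := by
      refine Subgroup.mem_normalizer_iff.mpr fun q => ⟨fun hq => ?_, fun hq => ?_⟩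
      · rw [hMP m hm q hq, mul_inv_cancel_right]; exact hq
      · have h1 := hMP m hm _ hq
        have : m * q * m⁻¹ = q :=
          mul_left_cancel (a := m) (by rw [h1]; group)
        rwa [this] at hq
    have := mul_mem (inv_mem hmN) ht
    rwa [inv_mul_cancel_left] at this
  push Not at hMP
  obtain ⟨x0, hx0, q0, hq0, hne0⟩ := hMP
  let t := m * e
  -- the kernel of the action on the minimal normal subgroup
  let K : Subgroup P :=
    { carrier := {q | ∀ x ∈ M, (q : G) * x = x * q}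
      one_mem' := by simp
      mul_mem' := fun {a b} ha hb x hx => by
        simp only [Subgroup.coe_mul]; rw [mul_assoc, hb x hx, ← mul_assoc, ha x hx, mul_assoc]
      inv_mem' := fun {a} ha x hx => by
        simp only [Subgroup.coe_inv]
        rw [inv_mul_eq_iff_eq_mul, ← mul_assoc, ha x hx, mul_inv_cancel_right] }
  haveI hKn : K.Normal := ⟨fun q hq g x hx => by
    have := hq _ (hMn x hx (g : G)⁻¹)
    rw [inv_inv] at this
    simp only [Subgroup.coe_mul, Subgroup.coe_inv]
    calc (g : G) * q * (g : G)⁻¹ * x = g * (q * ((g : G)⁻¹ * x * g)) * (g : G)⁻¹ := by group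
      _ = _ := by rw [this]; group⟩
  haveI : Nontrivial (P ⧸ K) := by
    refine ⟨⟨QuotientGroup.mk ⟨q0, hq0⟩, 1, fun h => hne0 ?_⟩⟩
    exact ((QuotientGroup.eq_one_iff _).mp h x0 hx0).symm
  haveI := (P.2.to_quotient K).center_nontrivial
  obtain ⟨z, hz⟩ : ∃ z : Subgroup.center (P ⧸ K), orderOf z = 3 := by
    refine exists_prime_orderOf_dvd_card' 3 ?_
    obtain ⟨k, hk⟩ := IsPGroup.iff_card.mp ((P.2.to_quotient K).to_subgroup (Subgroup.center (P ⧸ K)))
    rw [hk]
    refine dvd_pow_self 3 fun h0 => ?_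
    rw [h0, pow_zero] at hk
    exact (Finite.one_lt_card (α := Subgroup.center (P ⧸ K))).ne' hk
  obtain ⟨y0, hy0⟩ := QuotientGroup.mk_surjective (z : P ⧸ K)
  have hy0ne : y0 ∉ K := fun h => by
    rw [← Subgroup.orderOf_coe, ← hy0, (QuotientGroup.eq_one_iff _).mpr h, orderOf_one] at hz
    norm_num at hz
  -- conjugation by `t` on the Sylow subgroup
  have hcmem : ∀ q : P, t * (q : G) * t⁻¹ ∈ (P : Subgroup G) := fun q =>
    (Subgroup.mem_normalizer_iff.mp ht q).mp q.2
  have ht2 : t * t = 1 ∧ e * m * e = m := by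
    have hN : ∀ x ∈ M, x ∈ Subgroup.normalizer (P : Set G) → x = 1 := by
      intro x hx hxN
      have hcen : ∀ q ∈ (P : Subgroup G), x * q = q * x := by
        intro q hq
        have h1 : x * q * x⁻¹ * q⁻¹ = 1 := by
          refine hdisj _ (mul_mem ((Subgroup.mem_normalizer_iff.mp hxN q).mp hq) (inv_mem hq)) ?_
          rw [show x * q * x⁻¹ * q⁻¹ = x * (q * x⁻¹ * q⁻¹) by group]
          exact mul_mem hx (hMn _ (inv_mem hx) q)
        have := mul_inv_eq_one.mp h1
        exact mul_inv_eq_iff_eq_mul.mp this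
      -- the fixed points of `P` form a normal subgroup
      let C : Subgroup G := M ⊓ Subgroup.centralizer (P : Set G)
      have hsub : (⊤ : Subgroup G) ≤ Subgroup.normalizer (C : Set G) := by
        rw [← gen_top hD hnc hV P he]
        have hk : ∀ g : G, (∀ y ∈ C, g * y * g⁻¹ ∈ C) → g ∈ Subgroup.normalizer (C : Set G) :=
          fun g h => Subgroup.mem_normalizer_fintype (S := (C : Set G)) h
        refine sup_le (sup_le (Subgroup.zpowers_le.mpr (hk e fun y hy => ?_)) fun g hg => hk g fun y hy => ?_)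
          fun g hg => hk g fun y hy => ?_
        · refine ⟨hMn y hy.1 e, Subgroup.mem_centralizer_iff.mpr fun q hq => ?_⟩
          have h2 := hcen
          have hy' : ∀ q ∈ (P : Subgroup G), q * y = y * q := Subgroup.mem_centralizer_iff.mp hy.2
          have hq' : t⁻¹ * q * t ∈ (P : Subgroup G) := by
            have := (Subgroup.mem_normalizer_iff.mp ((Subgroup.normalizer (P : Set G)).inv_mem ht) q).mp hq
            rwa [inv_inv] at this
          have e1 : e * y * e⁻¹ = t * y * t⁻¹ := by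
            show _ = m * e * y * (m * e)⁻¹
            have := hMc m hm _ (hMn y hy.1 e)
            calc e * y * e⁻¹ = e * y * e⁻¹ * m * m⁻¹ := by group
              _ = m * (e * y * e⁻¹) * m⁻¹ := by rw [this]
              _ = _ := by group
          rw [e1]
          calc q * (t * y * t⁻¹) = t * ((t⁻¹ * q * t) * y) * t⁻¹ := by group
            _ = t * (y * (t⁻¹ * q * t)) * t⁻¹ := by rw [hy' _ hq']
            _ = _ := by group
        · have := (Subgroup.mem_centralizer_iff.mp hy.2) g hg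
          rw [this, mul_inv_cancel_right]; exact hy
        · rw [hMO y hy.1 g hg, mul_inv_cancel_right]; exact hy
      have hCn : C.Normal := Subgroup.normalizer_eq_top_iff.mp (top_le_iff.mp hsub)
      by_contra hx1
      have hCne : C ≠ ⊥ := fun h => hx1 (Subgroup.mem_bot.mp
        (h ▸ (⟨hx, Subgroup.mem_centralizer_iff.mpr fun q hq => (hcen q hq).symm⟩ : x ∈ C)))
      have hCM := hmin C hCn inf_le_left hCne
      exact hne0 ((Subgroup.mem_centralizer_iff.mp (hCM.symm ▸ hx0 : x0 ∈ C).2 q0 hq0).symm)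
    have h1 : t * t = 1 := by
      refine hN _ ?_ (mul_mem ht ht)
      show m * e * (m * e) ∈ M
      rw [show m * e * (m * e) = m * (e * m * e) by group]
      exact mul_mem hm (by simpa [hei] using hMn m hm e)
    refine ⟨h1, ?_⟩
    have h2 : m * (e * m * e) = 1 := by rw [← h1]; show _ = m * e * (m * e); group
    exact (eq_inv_of_mul_eq_one_right h2).trans (inv_eq_of_mul_eq_one_right (hM2 m hm))
  obtain ⟨htt, heme⟩ := ht2
  have hti : t⁻¹ = t := inv_eq_of_mul_eq_one_right htt
  have htM : ∀ x ∈ M, t * x * t = e * x * e := by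
    intro x hx
    have hx' : e * x * e ∈ M := by simpa [hei] using hMn x hx e
    calc t * x * t = m * e * x * (m * e) := rfl
      _ = m * (e * x * e) * (e * m * e) := by
        rw [show m * (e * x * e) * (e * m * e) = m * e * x * ((e * e) * m * e) by group, hee, one_mul]
      _ = _ := by rw [heme, hMc m hm _ hx', mul_assoc, hM2 m hm, mul_one]
  let c : P → P := fun q => ⟨t * (q : G) * t, by have h := hcmem q; rwa [hti] at h⟩
  have hcc : ∀ q, c (c q) = q := fun q => Subtype.ext (by
    show t * (t * (q : G) * t) * t = q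
    rw [show t * (t * (q : G) * t) * t = (t * t) * q * (t * t) by group, htt, one_mul, mul_one])
  have hcmul : ∀ a b, c (a * b) = c a * c b := fun a b => Subtype.ext (by
    show t * ((a : G) * b) * t = t * a * t * (t * b * t)
    rw [show t * (a : G) * t * (t * b * t) = t * a * (t * t) * b * t by group, htt]
    group)
  have hcK : ∀ k ∈ K, c k ∈ K := by
    intro k hk x hx
    have h1 := hk _ (hMn x hx t)
    rw [hti] at h1
    show t * (k : G) * t * x = x * (t * k * t)
    calc t * (k : G) * t * x = t * ((k : G) * (t * x * t)) * t := by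
          rw [show t * ((k : G) * (t * x * t)) * t = t * k * t * x * (t * t) by group, htt, mul_one]
      _ = t * (t * x * t * k) * t := by rw [h1]
      _ = (t * t) * x * (t * k * t) := by group
      _ = _ := by rw [htt, one_mul]
  have hMn2 : ∀ q : P, ∀ x ∈ M, (q : G) * x * (q : G)⁻¹ ∈ M := fun q x hx => hMn x hx q
  have hQmk : ∀ {a b : P}, (QuotientGroup.mk a : P ⧸ K) = QuotientGroup.mk b →
      ∀ x ∈ M, (a : G) * x * (a : G)⁻¹ = b * x * (b : G)⁻¹ := by
    intro a b h x hx
    have hk := QuotientGroup.eq.mp h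
    have h1 := hk x hx
    simp only [Subgroup.coe_mul, Subgroup.coe_inv] at h1
    calc (a : G) * x * (a : G)⁻¹ = a * (x * ((a : G)⁻¹ * b)) * (b : G)⁻¹ := by group
      _ = a * ((a : G)⁻¹ * b * x) * (b : G)⁻¹ := by rw [h1]
      _ = _ := by group
  -- fixed point freeness
  have hfpf : ∀ y : P, y ∉ K → (∀ q : P, Commute (QuotientGroup.mk y : P ⧸ K) (QuotientGroup.mk q)) →
      ((QuotientGroup.mk (c y) : P ⧸ K) = QuotientGroup.mk y ∨
        (QuotientGroup.mk (c y) : P ⧸ K) = (QuotientGroup.mk y)⁻¹) →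
      ∀ x ∈ M, (y : G) * x = x * y → x = 1 := by
    intro y hy hyc hyt x hx hxy
    by_contra hx1
    apply hy
    let C : Subgroup G := M ⊓ Subgroup.centralizer {(y : G)}
    have hCmem : ∀ {x : G}, x ∈ C ↔ x ∈ M ∧ (y : G) * x = x * y := by
      intro x
      simp [C, Subgroup.mem_centralizer_singleton_iff, eq_comm]
    have hsub : (⊤ : Subgroup G) ≤ Subgroup.normalizer (C : Set G) := by
      rw [← gen_top hD hnc hV P he]
      have hk : ∀ g : G, (∀ w ∈ C, g * w * g⁻¹ ∈ C) → g ∈ Subgroup.normalizer (C : Set G) :=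
        fun g h => Subgroup.mem_normalizer_fintype (S := (C : Set G)) h
      have htrans : ∀ (g : G) (b : P), g⁻¹ * (y : G) * g = (b : G) →
          (∀ w ∈ M, (y : G) * w = w * y → (b : G) * w * (b : G)⁻¹ = w) →
          ∀ w ∈ C, g * w * g⁻¹ ∈ C := by
        intro g b hg hb w hw
        obtain ⟨hwM, hwy⟩ := hCmem.mp hw
        refine hCmem.mpr ⟨hMn w hwM g, ?_⟩
        have h1 := mul_inv_eq_iff_eq_mul.mp (hb w hwM hwy)
        rw [← hg] at h1
        calc (y : G) * (g * w * g⁻¹) = g * (g⁻¹ * (y : G) * g * w) * g⁻¹ := by group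
          _ = g * (w * (g⁻¹ * (y : G) * g)) * g⁻¹ := by rw [h1]
          _ = _ := by group
      refine sup_le (sup_le (Subgroup.zpowers_le.mpr (hk e fun w hw => ?_)) fun g hg => hk g fun w hw => ?_)
        fun g hg => hk g fun w hw => ?_
      · obtain ⟨hwM, -⟩ := hCmem.mp hw
        rw [hei, ← htM w hwM]
        have := htrans t (c y) (by rw [hti]) (fun w hwM hwy => ?_) w hw
        · rwa [hti] at this
        rcases hyt with h | h
        · rw [hQmk h w hwM, hwy, mul_inv_cancel_right]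
        · rw [← QuotientGroup.mk_inv] at h
          rw [hQmk h w hwM, Subgroup.coe_inv, inv_inv, mul_assoc, ← hwy, inv_mul_cancel_left]
      · refine htrans g (⟨g, hg⟩⁻¹ * y * ⟨g, hg⟩) (by simp) (fun w hwM hwy => ?_) w hw
        have h : (QuotientGroup.mk (⟨g, hg⟩⁻¹ * y * ⟨g, hg⟩) : P ⧸ K) = QuotientGroup.mk y := by
          rw [QuotientGroup.mk_mul, QuotientGroup.mk_mul, mul_assoc, (hyc _).eq,
            QuotientGroup.mk_inv, inv_mul_cancel_left]
        rw [hQmk h w hwM, hwy, mul_inv_cancel_right]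
      · rw [hMO w (hCmem.mp hw).1 g hg, mul_inv_cancel_right]; exact hw
    have hCn : C.Normal := Subgroup.normalizer_eq_top_iff.mp (top_le_iff.mp hsub)
    have hCne : C ≠ ⊥ := fun h => hx1 (Subgroup.mem_bot.mp (h ▸ hCmem.mpr ⟨hx, hxy⟩))
    have hCM := hmin C hCn inf_le_left hCne
    intro w hw
    exact (hCmem.mp (hCM.symm ▸ hw : w ∈ C)).2
  have hcen0 : ∀ q : P, Commute (QuotientGroup.mk y0 : P ⧸ K) (QuotientGroup.mk q) := fun q => by
    rw [hy0]; exact (Subgroup.mem_center_iff.mp z.2 _).symm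
  have hck : ∀ a b : P, (QuotientGroup.mk a : P ⧸ K) = QuotientGroup.mk b →
      (QuotientGroup.mk (c a) : P ⧸ K) = QuotientGroup.mk (c b) := by
    intro a b h
    have h1 := hcK _ (QuotientGroup.eq.mp h)
    rw [hcmul] at h1
    have h2 : c a⁻¹ = (c a)⁻¹ := eq_inv_of_mul_eq_one_left (by
      rw [← hcmul, inv_mul_cancel]; exact Subtype.ext (by show t * 1 * t = 1; rw [mul_one, htt]))
    exact QuotientGroup.eq.mpr (h2 ▸ h1)
  by_cases hinv : y0 * c y0 ∈ K
  · -- `t` inverts `y0` on `M`: an explicit conjugating element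
    have h1 : (QuotientGroup.mk (c y0) : P ⧸ K) = (QuotientGroup.mk y0)⁻¹ :=
      (inv_eq_of_mul_eq_one_right (by rw [← QuotientGroup.mk_mul]; exact (QuotientGroup.eq_one_iff _).mpr hinv)).symm
    have hfix := hfpf y0 hy0ne hcen0 (Or.inr h1)
    have hy3 : (QuotientGroup.mk (y0 ^ 3) : P ⧸ K) = QuotientGroup.mk 1 := by
      have hzz := pow_orderOf_eq_one (z : P ⧸ K)
      rw [Subgroup.orderOf_coe, hz] at hzz
      rw [QuotientGroup.mk_pow, hy0, QuotientGroup.mk_one, hzz]
    set r := (y0 : G) with hr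
    have h3 := hQmk hy3 m hm
    simp only [SubgroupClass.coe_pow, OneMemClass.coe_one, one_mul, inv_one, mul_one, ← hr] at h3
    set a := r * m * r⁻¹ with ha
    set b := r * a * r⁻¹ with hb
    have haM : a ∈ M := hMn m hm r
    have hbM : b ∈ M := hMn a haM r
    have hsum : m * a * b = 1 := by
      refine hfix _ (mul_mem (mul_mem hm haM) hbM) ?_
      have e3 : r * b * r⁻¹ = m := by
        rw [hb, ha]
        exact (by rw [pow_three]; group : r * (r * (r * m * r⁻¹) * r⁻¹) * r⁻¹ = r ^ 3 * m * (r ^ 3)⁻¹).trans h3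
      have e4 : r * (m * a * b) * r⁻¹ = m * a * b := by
        calc r * (m * a * b) * r⁻¹ = (r * m * r⁻¹) * (r * a * r⁻¹) * (r * b * r⁻¹) := by group
          _ = a * b * m := by rw [← ha, ← hb, e3]
          _ = m * (a * b) := hMc _ (mul_mem haM hbM) m hm
          _ = _ := (mul_assoc m a b).symm
      exact mul_inv_eq_iff_eq_mul.mp e4
    have htm : t * m * t = m := (htM m hm).trans heme
    have htb : t * a * t = b := by
      have h4 := hQmk (show (QuotientGroup.mk (c y0) : P ⧸ K) = QuotientGroup.mk (y0 ^ 2) by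
        rw [h1, QuotientGroup.mk_pow, inv_eq_iff_mul_eq_one, ← pow_succ', ← QuotientGroup.mk_pow]
        exact hy3) m hm
      simp only [SubgroupClass.coe_pow, ← hr] at h4
      have h5 : ((c y0 : P) : G) = t * r * t := rfl
      rw [h5] at h4
      calc t * a * t = t * r * (t * (t * m * t) * t) * r⁻¹ * t := by
            rw [show t * (t * m * t) * t = (t * t) * m * (t * t) by group, htt, one_mul, mul_one, ha]
            group
        _ = t * r * t * m * (t * r * t)⁻¹ := by
            have h7 : (t * r * t)⁻¹ = t * r⁻¹ * t :=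
              inv_eq_of_mul_eq_one_right (by
                calc t * r * t * (t * r⁻¹ * t) = t * r * (t * t) * r⁻¹ * t := by group
                  _ = t * t := by rw [htt, mul_one, mul_inv_cancel_right, htt]
                  _ = 1 := htt)
            rw [htm, h7]; group
        _ = _ := by rw [h4, hb, ha, pow_two]; group
    refine ⟨a * e * a⁻¹, ThreeTrans.conjInv hD a e he, P, ?_⟩
    have : a * e * a⁻¹ = m * e := by
      have h6 : e * a⁻¹ * e = b := by
        rw [inv_eq_of_mul_eq_one_right (hM2 a haM), ← htM a haM, htb]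
      have h7 : a * b = m := by
        have := eq_inv_of_mul_eq_one_right (show m * (a * b) = 1 by rw [← mul_assoc]; exact hsum)
        rw [this, inv_eq_of_mul_eq_one_right (hM2 m hm)]
      calc a * e * a⁻¹ = a * e * a⁻¹ * (e * e) := by rw [hee, mul_one]
        _ = a * (e * a⁻¹ * e) * e := by group
        _ = _ := by rw [h6, h7]
    rw [this]; exact ht
  · -- a nontrivial element commuting with `t`
    set y1 := y0 * c y0 with hy1
    have hc1 : ∀ q : P, Commute (QuotientGroup.mk y1 : P ⧸ K) (QuotientGroup.mk q) := by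
      intro q
      rw [hy1, QuotientGroup.mk_mul]
      refine (hcen0 q).mul_left ?_
      have h := congrArg (fun v : P ⧸ K => v) (hck (y0 * c q) (c q * y0) (by
        rw [QuotientGroup.mk_mul, QuotientGroup.mk_mul]; exact (hcen0 (c q)).eq))
      simp only [hcmul, hcc, QuotientGroup.mk_mul] at h
      exact h
    have hk : (QuotientGroup.mk (c y1) : P ⧸ K) = QuotientGroup.mk y1 := by
      rw [hy1, hcmul, hcc, QuotientGroup.mk_mul, QuotientGroup.mk_mul]
      exact (hcen0 (c y0)).eq.symm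
    set k := y1⁻¹ * c y1 with hkd
    have hkK : k ∈ K := QuotientGroup.eq.mp hk.symm
    have hckk : c k = k⁻¹ := by
      rw [hkd, hcmul, hcc]
      have : c y1⁻¹ = (c y1)⁻¹ := eq_inv_of_mul_eq_one_left (by
        rw [← hcmul, inv_mul_cancel]; exact Subtype.ext (by show t * 1 * t = 1; rw [mul_one, htt]))
      rw [this]; group
    obtain ⟨a, hka⟩ : ∃ a : ℕ, orderOf k = 2 * a + 1 := by
      obtain ⟨i, hi⟩ := IsPGroup.iff_orderOf.mp P.2 k
      exact hi ▸ Odd.pow (by decide)
    set j := a + 1 with hj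
    set y := y1 * k ^ j with hy
    have hcy : c y = y := by
      have hcpow : ∀ i : ℕ, c (k ^ i) = (k ^ i)⁻¹ := by
        intro i
        induction i with
        | zero => rw [pow_zero, inv_one]; exact Subtype.ext (show t * 1 * t = 1 by rw [mul_one, htt])
        | succ i ih => rw [pow_succ, hcmul, ih, hckk, ← mul_inv_rev, ← pow_succ', ← pow_succ]
      rw [hy, hcmul, hcpow, show c y1 = y1 * k by rw [hkd]; group, mul_assoc]
      congr 1
      rw [mul_inv_eq_iff_eq_mul, ← pow_add, show j + j = orderOf k + 1 by omega, pow_succ,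
        pow_orderOf_eq_one, one_mul]
    have hyk : (QuotientGroup.mk y : P ⧸ K) = QuotientGroup.mk y1 := by
      rw [hy, QuotientGroup.mk_mul, (QuotientGroup.eq_one_iff _).mpr (pow_mem hkK j), mul_one]
    have hfix := hfpf y (fun h => hinv ((QuotientGroup.eq_one_iff _).mp
        (hyk.symm.trans ((QuotientGroup.eq_one_iff _).mpr h))))
      (fun q => hyk ▸ hc1 q) (Or.inl (by rw [hcy]))
    have hty : t * (y : G) * t = y := congrArg Subtype.val hcy
    -- the set of translations of `e` inside `D`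
    have hconj := ThreeTrans.conjInv hD
    let T : Subgroup G :=
      { carrier := {q | q ∈ M ∧ e * q ∈ D}
        one_mem' := ⟨M.one_mem, by rw [mul_one]; exact he⟩
        mul_mem' := fun {q1 q2} h1 h2 => by
          refine ⟨M.mul_mem h1.1 h2.1, ?_⟩
          have h3 : e * q1 ∈ {v : G | ∃ g ∈ Cfsg.pCore 2 G, v = g * e * g⁻¹} := by
            rw [← (S5349.result hD hD2 he).2, (S5349.result hD hD2 he).1]
            exact ⟨h1.2, by rw [inv_mul_cancel_left]; exact hMle h1.1⟩
          obtain ⟨g, hg, hge⟩ := h3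
          have h4 := hconj g _ h2.2
          rw [show g * (e * q2) * g⁻¹ = g * e * g⁻¹ * (g * q2 * g⁻¹) by group, ← hge,
            hMO q2 h2.1 g hg, mul_inv_cancel_right, mul_assoc] at h4
          exact h4
        inv_mem' := fun {q} h => by
          have : q⁻¹ = q := inv_eq_of_mul_eq_one_right (hM2 q h.1)
          rw [this]; exact h }
    have hstep : m⁻¹ * ((y : G) * m * (y : G)⁻¹) ∈ T := by
      refine ⟨mul_mem (inv_mem hm) (hMn m hm y), ?_⟩
      have e1 : (y : G) * e * (y : G)⁻¹ = e * (m⁻¹ * ((y : G) * m * (y : G)⁻¹)) := by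
        have he2 : e = t * m := by
          show e = m * e * m
          calc e = (m * m) * e := by rw [hM2 m hm, one_mul]
            _ = m * ((m * e) * (e * e)) := by rw [hee]; group
            _ = m * ((e * m * e) * e * e * e) := by
              rw [heme]; group
            _ = m * (e * m * (e * e) * (e * e)) := by group
            _ = _ := by rw [hee]; group
        have hyt : (y : G) * t = t * y := by
          calc (y : G) * t = t * y * t * t := by rw [hty]
            _ = _ := by rw [mul_assoc, htt, mul_one]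
        calc (y : G) * e * (y : G)⁻¹ = ((y : G) * t) * m * (y : G)⁻¹ := by rw [he2]; group
          _ = t * ((y : G) * m * (y : G)⁻¹) := by rw [hyt]; group
          _ = _ := by
            conv_rhs => rw [he2]
            group
      rw [← e1]; exact hconj _ e he
    have hTy : ∀ q ∈ T, (y : G) * q * (y : G)⁻¹ ∈ T := by
      intro q hq
      have h1 : m⁻¹ * ((y : G) * m * (y : G)⁻¹) * ((y : G) * q * (y : G)⁻¹) ∈ T := by
        refine ⟨mul_mem hstep.1 (hMn q hq.1 y), ?_⟩
        have h2 := hconj y _ hq.2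
        have e1 : (y : G) * e * (y : G)⁻¹ = e * (m⁻¹ * ((y : G) * m * (y : G)⁻¹)) := by
          have he2 : e = t * m := by
            show e = m * e * m
            calc e = e * (e * m * e) * m := by
                  rw [heme, mul_assoc, hM2 m hm, mul_one]
              _ = (e * e) * m * e * m := by group
              _ = _ := by rw [hee, one_mul]
          have hyt : (y : G) * t = t * y := by
            calc (y : G) * t = t * y * t * t := by rw [hty]
              _ = _ := by rw [mul_assoc, htt, mul_one]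
          calc (y : G) * e * (y : G)⁻¹ = ((y : G) * t) * m * (y : G)⁻¹ := by rw [he2]; group
            _ = t * ((y : G) * m * (y : G)⁻¹) := by rw [hyt]; group
            _ = _ := by
              conv_rhs => rw [he2]
              group
        rw [show (y : G) * (e * q) * (y : G)⁻¹ = ((y : G) * e * (y : G)⁻¹) * ((y : G) * q * (y : G)⁻¹)
          by group, e1, mul_assoc] at h2
        exact h2
      have := T.mul_mem (T.inv_mem hstep) h1
      rwa [inv_mul_cancel_left] at this
    have hmT : m ∈ T := mem_of_step hMc hm hfix (fun q hq => hq.1) hTy hstep (hM2 m hm) (by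
      obtain ⟨i, hi⟩ := IsPGroup.iff_orderOf.mp P.2 y
      rw [Subgroup.orderOf_coe, hi]
      exact Odd.pow (by decide))
    refine ⟨e * m, hmT.2, P, ?_⟩
    have : e * m = m * e := by
      calc e * m = e * m * (e * e) := by rw [hee, mul_one]
        _ = (e * m * e) * e := by group
        _ = _ := by rw [heme]
    rw [this]; exact ht

theorem main : ∀ (n : ℕ) (G : Type u) [Group G] [Finite G] (D : Set G),
    Cfsg.IsThreeTranspositionClass D → (∃ a ∈ D, ∃ b ∈ D, a ≠ b) →
    (∃ a ∈ D, ∃ b ∈ D, ¬ Commute a b) → Hyp D → Nat.card G ≤ n →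
    ∃ f ∈ D, ∃ R : Sylow 3 G, f ∈ Subgroup.normalizer (R : Set G) := by
  intro n
  induction n with
  | zero => intro G _ _ D _ _ _ _ h; exact absurd h (Nat.not_le.mpr Nat.card_pos)
  | succ n ih =>
    intro G _ _ D hD hD2 hnc hV hcard
    haveI : Fact (Nat.Prime 3) := ⟨Nat.prime_three⟩
    haveI : Fact (Nat.Prime 2) := ⟨Nat.prime_two⟩
    by_cases h2 : Cfsg.pCore 2 G = ⊥
    · obtain ⟨d, hd, -⟩ := id hD2
      exact ⟨d, hd, default, normalizes_of_trivial hD hnc hV h2 default hd⟩
    haveI hOn := HallCore.pCore_normal 2 G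
    have hO := HallCore.isPGroup_pCore 2 G
    -- central involutions of the largest normal 2-subgroup
    let Z : Subgroup G :=
      { carrier := {x | x ∈ Cfsg.pCore 2 G ∧ x * x = 1 ∧ ∀ g ∈ Cfsg.pCore 2 G, g * x = x * g}
        one_mem' := ⟨one_mem _, one_mul _, fun g _ => by rw [mul_one, one_mul]⟩
        mul_mem' := fun {a b} ha hb => ⟨mul_mem ha.1 hb.1, by
            rw [show a * b * (a * b) = a * (b * a) * b by group, ← ha.2.2 b hb.1 |>.symm,
              show a * (a * b) * b = (a * a) * (b * b) by group, ha.2.1, hb.2.1, one_mul],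
          fun g hg => by rw [← mul_assoc, ha.2.2 g hg, mul_assoc, hb.2.2 g hg, mul_assoc]⟩
        inv_mem' := fun {a} ha => by
          rw [inv_eq_of_mul_eq_one_right ha.2.1]; exact ha }
    have hZn : Z.Normal := ⟨fun x hx g => ⟨hOn.conj_mem x hx.1 g,
      by rw [show g * x * g⁻¹ * (g * x * g⁻¹) = g * (x * x) * g⁻¹ by group, hx.2.1]; group,
      fun k hk => by
        have h := hx.2.2 _ (hOn.conj_mem k hk g⁻¹)
        rw [inv_inv] at h
        calc k * (g * x * g⁻¹) = g * (g⁻¹ * k * g * x) * g⁻¹ := by group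
          _ = g * (x * (g⁻¹ * k * g)) * g⁻¹ := by rw [h]
          _ = _ := by group⟩⟩
    have hZne : Z ≠ ⊥ := by
      haveI : Nontrivial (Cfsg.pCore 2 G) := (Subgroup.nontrivial_iff_ne_bot _).mpr h2
      haveI := hO.center_nontrivial
      obtain ⟨z, hz⟩ : ∃ z : Subgroup.center (Cfsg.pCore 2 G), orderOf z = 2 := by
        refine exists_prime_orderOf_dvd_card' 2 ?_
        obtain ⟨k, hk⟩ := IsPGroup.iff_card.mp (hO.to_subgroup (Subgroup.center _))
        rw [hk]
        refine dvd_pow_self 2 fun h0 => ?_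
        rw [h0, pow_zero] at hk
        exact (Finite.one_lt_card (α := Subgroup.center (Cfsg.pCore 2 G))).ne' hk
      intro h
      have hz2 : ((z : Cfsg.pCore 2 G) : G) * (z : Cfsg.pCore 2 G) = 1 := by
        have := congrArg (fun v : Subgroup.center (Cfsg.pCore 2 G) => ((v : Cfsg.pCore 2 G) : G))
          (pow_orderOf_eq_one z)
        rw [hz] at this
        simpa [pow_two] using this
      have : ((z : Cfsg.pCore 2 G) : G) ∈ Z := ⟨(z : Cfsg.pCore 2 G).2, hz2,
        fun g hg => congrArg Subtype.val (Subgroup.mem_center_iff.mp z.2 ⟨g, hg⟩)⟩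
      rw [h, Subgroup.mem_bot] at this
      have h1 : z = 1 := Subtype.ext (Subtype.ext this)
      rw [h1, orderOf_one] at hz
      norm_num at hz
    obtain ⟨M, ⟨hMn, hMZ, hMne⟩, hmin⟩ :=
      (Set.toFinite {M : Subgroup G | M.Normal ∧ M ≤ Z ∧ M ≠ ⊥}).exists_minimal ⟨Z, hZn, le_rfl, hZne⟩
    haveI := hMn
    have hMp : IsPGroup 2 M := hO.to_le fun x hx => (hMZ hx).1
    have hlt : Nat.card (G ⧸ M) ≤ n := by
      have h1 := Subgroup.card_eq_card_quotient_mul_card_subgroup M
      haveI : Nontrivial M := (Subgroup.nontrivial_iff_ne_bot M).mpr hMne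
      have h3 := Finite.one_lt_card (α := M)
      have h4 := Nat.card_pos (α := G ⧸ M)
      nlinarith
    obtain ⟨a, ha, b, hb, hab⟩ := id hnc
    have hq := quotient_class hD hnc hMp
    have hne : QuotientGroup.mk' M a ≠ QuotientGroup.mk' M b := fun h => hab
      (exists_lift hMp hD.1 ha hb (by
        rw [show (QuotientGroup.mk a : G ⧸ M) = QuotientGroup.mk b from h]))
    obtain ⟨f, ⟨e, he, rfl⟩, R, hR⟩ := ih (G ⧸ M) (QuotientGroup.mk' M '' D) hq
      ⟨_, ⟨a, ha, rfl⟩, _, ⟨b, hb, rfl⟩, hne⟩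
      ⟨_, ⟨a, ha, rfl⟩, _, ⟨b, hb, rfl⟩, fun h => hab (exists_lift hMp hD.1 ha hb h)⟩
      (by
        rintro _ ⟨x, hx, rfl⟩ _ ⟨y, hy, rfl⟩ hxy _ ⟨w, hw, rfl⟩
        have := hV x hx y hy (exists_lift hMp hD.1 hx hy hxy) w hw
        exact ⟨fun h => (this.mp (exists_lift hMp hD.1 hy hw h)).map _,
          fun h => (this.mpr (exists_lift hMp hD.1 hx hw h)).map _⟩) hlt
    obtain ⟨P, hP⟩ := Sylow.mapSurjective_surjective (QuotientGroup.mk'_surjective M) 3 R
    set X := (P : Subgroup G) ⊔ M with hX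
    have hXR : (R : Subgroup (G ⧸ M)).comap (QuotientGroup.mk' M) = X := by
      rw [← hP, Sylow.coe_mapSurjective, Subgroup.comap_map_eq, QuotientGroup.ker_mk']
    have heX : ∀ x, x ∈ X ↔ e * x * e⁻¹ ∈ X := by
      intro x
      rw [← hXR, Subgroup.mem_comap, Subgroup.mem_comap, map_mul, map_mul, map_inv]
      exact Subgroup.mem_normalizer_iff.mp hR _
    have hle1 : (P : Subgroup G) ≤ X := le_sup_left
    have hle2 : ((MulAut.conj e • P : Sylow 3 G) : Subgroup G) ≤ X := by
      rintro _ ⟨q, hq', rfl⟩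
      exact (heX q).mp (hle1 hq')
    obtain ⟨x, hx⟩ := MulAction.exists_smul_eq X (P.subtype hle1)
      ((MulAut.conj e • P : Sylow 3 G).subtype hle2)
    rw [Sylow.smul_subtype] at hx
    have hx' := Sylow.subtype_injective hx
    obtain ⟨q, hq', m, hm, hqm⟩ := Subgroup.mem_sup_of_normal_right.mp x.2
    refine step hD hD2 hnc hV (fun u hu v hv => ((hMZ hu).2.2 v (hMZ hv).1).symm)
      (fun u hu => (hMZ hu).2.1) (fun u hu g hg => (hMZ hu).2.2 g hg)
      (fun N hN hle hne' => le_antisymm hle (hmin ⟨hN, hle.trans hMZ, hne'⟩ hle)) P he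
      (m := q * m⁻¹ * q⁻¹) (hMn.conj_mem _ (inv_mem hm) q) ?_
    rw [← Sylow.smul_eq_iff_mem_normalizer]
    have e1 : q * m⁻¹ * q⁻¹ = q * (x : G)⁻¹ := by rw [← hqm]; group
    have hex : e • P = (x : G) • P := hx'.symm
    rw [e1, mul_smul, mul_smul, hex, inv_smul_smul]
    exact Sylow.smul_eq_iff_mem_normalizer.mpr (Subgroup.le_normalizer hq')

/-- Let D be a conjugacy class of 3-transpositions generating the finite group G, with at least two members, and d a member of D such that every member of D commuting with d commutes with exactly the same members of D as d. Then there is a Sylow 3-subgroup P of G normalized by d such that G is generated by d, P and the largest normal 2-subgroup of G. -/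
theorem result {G : Type*} [Group G] [Finite G] {D : Set G} (hD : Cfsg.IsThreeTranspositionClass D) (hD2 : ∃ a ∈ D, ∃ b ∈ D, a ≠ b) {d : G} (hd : d ∈ D) (hV : {y : G | y ∈ D ∧ Commute d y} = {v : G | v ∈ D ∧ ∀ e ∈ D, Commute v e ↔ Commute d e}) : ∃ P : Sylow 3 G, d ∈ Subgroup.normalizer (P : Set G) ∧ Subgroup.zpowers d ⊔ (P : Subgroup G) ⊔ Cfsg.pCore 2 G = ⊤ := by
  have hset := hD.1
  have hconj := ThreeTrans.conjInv hD
  obtain ⟨d0, hd0, hDd⟩ := id hD.2.1
  have hcl : ∀ a ∈ D, ∀ b ∈ D, ∃ g : G, g * a * g⁻¹ = b := by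
    intro a ha b hb
    rw [hDd] at ha hb
    exact isConj_iff.mp ((show IsConj d0 a from ha).symm.trans hb)
  have hVall : Hyp D := by
    intro a ha b hb hab e he
    obtain ⟨g, rfl⟩ := hcl d hd a ha
    have hb' : g⁻¹ * b * g ∈ D := by simpa using hconj g⁻¹ b hb
    have hc : Commute d (g⁻¹ * b * g) := by
      rw [← Commute.conj_iff g]
      simpa [mul_assoc] using hab
    have hs : ThreeTrans.SameV D d (g⁻¹ * b * g) := hV.subset ⟨hb', hc⟩
    have h := (hs.conj hconj g).2 e he
    simpa [mul_assoc] using h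
  obtain ⟨e', he', hde⟩ := ThreeTrans.exists_not_commute hD hD2 hd
  have hnc : ∃ a ∈ D, ∃ b ∈ D, ¬ Commute a b := ⟨d, hd, e', he', hde⟩
  haveI : Fact (Nat.Prime 3) := ⟨Nat.prime_three⟩
  obtain ⟨f, hf, R, hR⟩ := main _ G D hD hD2 hnc hVall le_rfl
  obtain ⟨g, hg⟩ := hcl f hf d hd
  refine ⟨g • R, ?_, gen_top hD hnc hVall _ hd⟩
  rw [← Sylow.smul_eq_iff_mem_normalizer, ← hg, mul_smul, mul_smul, inv_smul_smul,
    Sylow.smul_eq_iff_mem_normalizer.mpr hR]

end Cfsg.Agent.S5356
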