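import Cfsg.Statements.S5363

set_option autoImplicit false
open Cfsg

namespace Cfsg.Agent.S5363

/-- Let D be a conjugation-invariant set of involutions of a finite group G. Then every product of two members of D has odd order or order 2 if and only if, for every a in D and every b in D different from a and commuting with a, the members of D commuting with a b are exactly those commuting with both a and b. -/
theorem result {G : Type*} [Group G] [Finite G] {D : Set G} (hinv : ∀ d ∈ D, orderOf d = 2) (hconj : ∀ g : G, ∀ d ∈ D, g * d * g⁻¹ ∈ D) : (∀ a ∈ D, ∀ b ∈ D, Odd (orderOf (a * b)) ∨ orderOf (a * b) = 2) ↔ ∀ a ∈ D, ∀ b ∈ D, b ≠ a → Commute a b → {y : G | y ∈ D ∧ Commute (a * b) y} = {y : G | y ∈ D ∧ Commute a y} ∩ {y : G | y ∈ D ∧ Commute b y} := by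
  have hd1 : ∀ d ∈ D, d * d = 1 := by
    intro d hd
    have := pow_orderOf_eq_one d
    rwa [hinv d hd, pow_two] at this
  have hdi : ∀ d ∈ D, d⁻¹ = d := fun d hd => inv_eq_of_mul_eq_one_right (hd1 d hd)
  have hcomm2 : ∀ a ∈ D, ∀ b ∈ D, (a * b) ^ 2 = 1 → Commute a b := by
    intro a ha b hb h
    show a * b = b * a
    calc a * b = (a * b)⁻¹ := (inv_eq_of_mul_eq_one_right (by rw [← pow_two]; exact h)).symm
      _ = b * a := by rw [mul_inv_rev, hdi a ha, hdi b hb]
  have hflip : ∀ a ∈ D, ∀ b ∈ D, ∀ n : ℕ, a * (a * b) ^ n = ((a * b) ^ n)⁻¹ * a := by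
    intro a ha b hb n
    induction n with
    | zero => simp
    | succ n ih =>
      have h1 : a * (a * b) = (a * b)⁻¹ * a := by
        rw [mul_inv_rev, hdi a ha, hdi b hb, ← mul_assoc, hd1 a ha, one_mul, mul_assoc,
          hd1 a ha, mul_one]
      rw [pow_succ, ← mul_assoc, ih, mul_assoc, h1, ← mul_assoc, ← mul_inv_rev, ← pow_succ',
        pow_succ]
  constructor
  · intro hod a ha b hb hne hab
    ext y
    simp only [Set.mem_inter_iff, Set.mem_setOf_eq]
    constructor
    · rintro ⟨hy, hyz⟩
      suffices h : Commute a y by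
        refine ⟨⟨hy, h⟩, hy, ?_⟩
        have : b = a * (a * b) := by rw [← mul_assoc, hd1 a ha, one_mul]
        rw [this]
        exact h.mul_left hyz
      rcases hod a ha y hy with hodd | h2
      · have hflip' := hflip a ha y hy
        have hza : Commute (a * b) a := (Commute.refl a).mul_left hab.symm
        have hzr : Commute (a * b) (a * y) := hza.mul_right hyz
        obtain ⟨j, hj⟩ := hodd
        have hpow : (a * y) ^ (2 * j + 1) = 1 := by rw [← hj, pow_orderOf_eq_one]
        have h2j : ((a * y) ^ j) * ((a * y) ^ j) = y * a := by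
          rw [← pow_add, ← two_mul]
          have := eq_inv_of_mul_eq_one_left (show (a * y) ^ (2 * j) * (a * y) = 1 by
            rw [← pow_succ]; exact hpow)
          rw [this, mul_inv_rev, hdi a ha, hdi y hy]
        have hk : (a * y) ^ j * a * ((a * y) ^ j)⁻¹ = y := by
          have h3 : a * ((a * y) ^ j)⁻¹ = (a * y) ^ j * a := by
            rw [mul_inv_eq_iff_eq_mul, mul_assoc, hflip', ← mul_assoc, mul_inv_cancel, one_mul]
          rw [mul_assoc, h3, ← mul_assoc, h2j, mul_assoc, hd1 a ha, mul_one]
        have hb' : y * (a * b) ∈ D := by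
          have := hconj ((a * y) ^ j) b hb
          have hbe : b = a * (a * b) := by rw [← mul_assoc, hd1 a ha, one_mul]
          rw [hbe, ← mul_assoc _ a (a * b), mul_assoc _ (a * b),
            ((hzr.pow_right j).inv_right).eq, ← mul_assoc, hk] at this
          exact this
        have hz2 : orderOf (a * b) = 2 := by
          rw [orderOf_eq_prime_iff]
          refine ⟨?_, fun h => hne ?_⟩
          · rw [hab.mul_pow, pow_two, pow_two, hd1 a ha, hd1 b hb, one_mul]
          · calc b = a * (a * b) := by rw [← mul_assoc, hd1 a ha, one_mul]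
              _ = a := by rw [h, mul_one]
        have hord : orderOf (a * y * (a * b)) = orderOf (a * y) * 2 := by
          rw [hzr.symm.orderOf_mul_eq_mul_orderOf_of_coprime, hz2]
          rw [hz2, Nat.coprime_two_right]
          exact ⟨j, hj⟩
        have hone : orderOf (a * y) = 1 := by
          rcases hod a ha _ hb' with h | h
          · rw [← mul_assoc, hord, Nat.odd_mul] at h
            exact absurd h.2 (by decide)
          · rw [← mul_assoc, hord] at h
            omega
        have hay : y = a := by
          rw [orderOf_eq_one_iff] at hone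
          rw [← hdi a ha]
          exact (inv_eq_of_mul_eq_one_right hone).symm
        rw [hay]
      · exact hcomm2 a ha y hy (by rw [← h2, pow_orderOf_eq_one])
    · rintro ⟨⟨hy, hay⟩, -, hby⟩
      exact ⟨hy, hay.mul_left hby⟩
  · intro h a ha b hb
    by_contra hc
    rw [not_or] at hc
    obtain ⟨hno, hn2⟩ := hc
    obtain ⟨m, hm⟩ := Nat.not_odd_iff_even.mp hno
    have hpos : 0 < orderOf (a * b) := orderOf_pos _
    have hflip' := hflip a ha b hb
    have hz2 : (a * b) ^ m * (a * b) ^ m = 1 := by
      rw [← pow_add, ← hm, pow_orderOf_eq_one]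
    have hzi : ((a * b) ^ m)⁻¹ = (a * b) ^ m := inv_eq_of_mul_eq_one_right hz2
    have hza : Commute a ((a * b) ^ m) := by
      show a * (a * b) ^ m = (a * b) ^ m * a
      rw [hflip', hzi]
    have hzb : Commute b ((a * b) ^ m) := by
      have : b = a * (a * b) := by rw [← mul_assoc, hd1 a ha, one_mul]
      conv_lhs => rw [this]
      exact hza.mul_left ((Commute.refl (a * b)).pow_right m)
    have hz1 : (a * b) ^ m ≠ 1 := pow_ne_one_of_lt_orderOf (by omega) (by omega)
    have hcD : a * (a * b) ^ m ∈ D := by
      rcases Nat.even_or_odd' m with ⟨i, rfl | rfl⟩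
      · have := hconj ((a * b) ^ i)⁻¹ a ha
        rw [inv_inv, ← hflip', mul_assoc, ← pow_add, ← two_mul] at this
        exact this
      · have := hconj ((a * b) ^ i)⁻¹ b hb
        have hbe : b = a * (a * b) := by rw [← mul_assoc, hd1 a ha, one_mul]
        nth_rewrite 2 [hbe] at this
        rw [inv_inv, ← mul_assoc _ a (a * b), ← hflip', mul_assoc, mul_assoc, ← pow_succ',
          ← pow_add] at this
        rw [show 2 * i + 1 = i + (i + 1) by omega]
        exact this
    have hne : a * (a * b) ^ m ≠ a := fun e => hz1 (mul_eq_left.mp e)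
    have hset := h a ha _ hcD hne ((Commute.refl a).mul_right hza)
    have hbm : b ∈ {y : G | y ∈ D ∧ Commute (a * (a * (a * b) ^ m)) y} :=
      ⟨hb, by rw [← mul_assoc, hd1 a ha, one_mul]; exact hzb.symm⟩
    rw [hset] at hbm
    have hab : Commute a b := hbm.1.2
    have h2 : (a * b) ^ 2 = 1 := by rw [hab.mul_pow, pow_two, pow_two, hd1 a ha, hd1 b hb, one_mul]
    have := orderOf_dvd_of_pow_eq_one h2
    have := Nat.le_of_dvd (by omega) this
    omega

end Cfsg.Agent.S5363
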