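import Cfsg.Statements.S5365
import Cfsg.Agent.Lib.ThreeTrans
import Cfsg.Agent.Lib.CoxeterTypeA
import Cfsg.Agent.Lib.ComponentsCores

set_option autoImplicit false
open Cfsg
set_option maxHeartbeats 3200000
set_option linter.style.haveILetI false
set_option linter.unusedSectionVars false

namespace Cfsg.Agent.S5365

open Cfsg.Agent.ThreeTrans

section
theorem addA {A : Type*} [AddCommGroup A] (e : ∀ w : A, w + w + w = 0) {X u r s : A}
    (h : -X + (u + (u + (-r + s))) = X + (r + s)) : X = u + -r := by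
  rw [← sub_eq_zero]
  calc X - (u + -r) = (X - (u + -r)) + (X - (u + -r)) + (X - (u + -r)) +
        ((-X + (u + (u + (-r + s)))) - (X + (r + s))) := by abel
    _ = 0 := by rw [e, h, sub_self, add_zero]

theorem addD {A : Type*} [AddCommGroup A] (e : ∀ w : A, w + w + w = 0) {U u r s : A}
    (h : U + (-u + -(u + (-r + s))) = -(U + (-r + -s))) : U = u + s := by
  rw [← sub_eq_zero]
  calc U - (u + s) = (U - (u + s)) + (U - (u + s)) + (U - (u + s)) -
        ((U + (-u + -(u + (-r + s)))) - -(U + (-r + -s))) := by abel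
    _ = 0 := by rw [e, h, sub_self, sub_zero]

variable {G : Type*} [Group G] {D : Set G}

/-- The commuting neighbours of an element. -/
def nb (D : Set G) (d : G) : Set G := {y : G | y ∈ D ∧ y ≠ d ∧ Commute d y}

/-- All neighbours of `z` have the same neighbours. -/
def Good (D : Set G) (z : G) : Prop := ∀ x ∈ nb D z, ∀ y ∈ nb D z, nb D x = nb D y

theorem nb_symm {d a : G} (hd : d ∈ D) (h : a ∈ nb D d) : d ∈ nb D a :=
  ⟨hd, h.2.1.symm, h.2.2.symm⟩

theorem nb_conj (hconj : ∀ g : G, ∀ d ∈ D, g * d * g⁻¹ ∈ D) (g : G) {d y : G} (h : y ∈ nb D d) :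
    g * y * g⁻¹ ∈ nb D (g * d * g⁻¹) :=
  ⟨hconj g y h.1, fun e => h.2.1 (mul_left_cancel (mul_right_cancel e)), (commute_conj_iff g d y).2 h.2.2⟩

theorem nb_conj' (hconj : ∀ g : G, ∀ d ∈ D, g * d * g⁻¹ ∈ D) (g : G) {d y : G}
    (h : y ∈ nb D (g * d * g⁻¹)) : g⁻¹ * y * g ∈ nb D d := by
  have := nb_conj hconj g⁻¹ h
  simpa [mul_assoc] using this

theorem good_conj (hconj : ∀ g : G, ∀ d ∈ D, g * d * g⁻¹ ∈ D) (g : G) {z : G} (h : Good D z) :
    Good D (g * z * g⁻¹) := by
  have key : ∀ w, nb D (g * w * g⁻¹) = (fun y => g * y * g⁻¹) '' nb D w := by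
    intro w
    ext y
    constructor
    · exact fun hy => ⟨g⁻¹ * y * g, nb_conj' hconj g hy, by simp [mul_assoc]⟩
    · rintro ⟨x, hx, rfl⟩; exact nb_conj hconj g hx
  intro x hx y hy
  rw [key] at hx hy
  obtain ⟨x, hx, rfl⟩ := hx
  obtain ⟨y, hy, rfl⟩ := hy
  rw [key, key, h x hx y hy]

variable [Finite G] (hD : Cfsg.IsThreeTranspositionSet D) (hconj : ∀ g : G, ∀ d ∈ D, g * d * g⁻¹ ∈ D)
  (hloc : ∀ d ∈ D, Nonempty (↥(Subgroup.closure (nb D d)) ≃* Equiv.Perm (Fin 3)))

include hD hconj hloc in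
theorem exists_pair {d : G} (hd : d ∈ D) : ∃ a ∈ nb D d, ∃ b ∈ nb D d, ¬ Commute a b := by
  by_contra h
  push Not at h
  obtain ⟨e⟩ := hloc d hd
  haveI := Subgroup.isMulCommutative_closure (k := nb D d) (fun x hx y hy => (h x hx y hy).eq)
  have hc : ∀ u v : Equiv.Perm (Fin 3), u * v = v * u := fun u v => by
    have h := congrArg e (IsMulCommutative.is_comm.comm (e.symm u) (e.symm v))
    rwa [map_mul, map_mul, e.apply_symm_apply, e.apply_symm_apply] at h
  have h2 : ¬ ∀ u v : Equiv.Perm (Fin 3), u * v = v * u := by decide +revert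
  exact h2 hc

include hD hconj hloc in
theorem three {d a b x : G} (hd : d ∈ D) (ha : a ∈ nb D d) (hb : b ∈ nb D d) (hab : ¬ Commute a b)
    (hx : x ∈ nb D d) : x = a ∨ x = b ∨ x = a * b * a := by
  obtain ⟨e⟩ := hloc d hd
  have hc : a * b * a ∈ nb D d := by
    have h := nb_conj hconj a hb
    rwa [inv_self hD ha.1, show a * d * a = d by
      rw [← ha.2.2.eq, mul_assoc, mul_self hD ha.1, mul_one]] at h
  have hf : Function.Injective (fun z : Subgroup.closure (nb D d) => e z) := e.injective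
  let mk : ∀ z, z ∈ nb D d → {u : Equiv.Perm (Fin 3) // u * u = 1 ∧ u ≠ 1} := fun z hz =>
    ⟨e ⟨z, Subgroup.subset_closure hz⟩, by
      rw [← map_mul, ← map_one e]
      exact congrArg e (Subtype.ext (mul_self hD hz.1)), by
      rw [← map_one e]
      exact fun h => ne_one hD hz.1 (congrArg Subtype.val (e.injective h))⟩
  have hinj : ∀ u v hu hv, mk u hu = mk v hv → u = v := fun u v hu hv h =>
    congrArg Subtype.val (e.injective (congrArg Subtype.val h))
  have key : ∀ p q r s : {u : Equiv.Perm (Fin 3) // u * u = 1 ∧ u ≠ 1},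
      p ≠ q → p ≠ r → q ≠ r → s = p ∨ s = q ∨ s = r := by
    intro p q r s h1 h2 h3
    by_contra h
    push Not at h
    have h4 : ({p, q, r, s} : Finset {u : Equiv.Perm (Fin 3) // u * u = 1 ∧ u ≠ 1}).card = 4 := by
      simp [h1, h2, h3, h.1.symm, h.2.1.symm, h.2.2.symm]
    have h5 := Finset.card_le_univ ({p, q, r, s} : Finset {u : Equiv.Perm (Fin 3) // u * u = 1 ∧ u ≠ 1})
    have h6 : Fintype.card {u : Equiv.Perm (Fin 3) // u * u = 1 ∧ u ≠ 1} = 3 := by decide +kernel
    omega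
  have n1 : a ≠ b := fun h => hab (h ▸ Commute.refl a)
  have n2 : a ≠ a * b * a := fun h => hab (by
    have h' : a * 1 = a * (b * a) := by rw [mul_one, ← mul_assoc]; exact h
    have := eq_inv_of_mul_eq_one_left (mul_left_cancel h').symm
    rw [inv_self hD ha.1] at this
    rw [this])
  have n3 : b ≠ a * b * a := fun h => hab (by
    show a * b = b * a
    calc a * b = a * (a * b * a) := by rw [← h]
      _ = b * a := by rw [← mul_assoc, ← mul_assoc, mul_self hD ha.1, one_mul])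
  rcases key (mk a ha) (mk b hb) (mk _ hc) (mk x hx) (fun h => n1 (hinj _ _ ha hb h))
      (fun h => n2 (hinj _ _ ha hc h)) (fun h => n3 (hinj _ _ hb hc h)) with h | h | h
  · exact Or.inl (hinj _ _ hx ha h)
  · exact Or.inr (Or.inl (hinj _ _ hx hb h))
  · exact Or.inr (Or.inr (hinj _ _ hx hc h))

include hD hconj hloc in
theorem not_commute {d a b : G} (hd : d ∈ D) (ha : a ∈ nb D d) (hb : b ∈ nb D d) (hab : a ≠ b) :
    ¬ Commute a b := by
  intro h
  obtain ⟨p, hp, q, hq, hpq⟩ := exists_pair hD hconj hloc hd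
  have hr : ¬ Commute p (p * q * p) := by
    intro h
    apply hpq
    have h2 := (commute_conj_iff p p (p * q * p)).2 h
    rw [inv_self hD hp.1] at h2
    simpa [mul_assoc, mul_self hD hp.1, ← mul_assoc p p] using h2
  have hs : ¬ Commute q (p * q * p) := by
    intro h
    apply hpq
    rw [braid hD hp.1 hq.1 hpq] at h
    have h2 := (commute_conj_iff q q (q * p * q)).2 h
    rw [inv_self hD hq.1] at h2
    have h3 : Commute q p := by simpa [mul_assoc, mul_self hD hq.1, ← mul_assoc q q] using h2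
    exact h3.symm
  rcases three hD hconj hloc hd hp hq hpq ha with rfl | rfl | rfl <;>
    rcases three hD hconj hloc hd hp hq hpq hb with rfl | rfl | rfl <;>
    first | exact hab rfl | exact hpq h | exact hpq h.symm | exact hr h | exact hr h.symm |
      exact hs h | exact hs h.symm

include hD hconj hloc in
theorem mem_third {d a b : G} (hd : d ∈ D) (ha : a ∈ nb D d) (hb : b ∈ nb D d) :
    a * b * a ∈ nb D d := by
  have h := nb_conj hconj a hb
  rwa [inv_self hD ha.1, show a * d * a = d by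
    rw [← ha.2.2.eq, mul_assoc, mul_self hD ha.1, mul_one]] at h

include hD hconj hloc in
theorem three' {d a b x : G} (hd : d ∈ D) (ha : a ∈ nb D d) (hb : b ∈ nb D d) (hab : a ≠ b)
    (hx : x ∈ nb D d) : x = a ∨ x = b ∨ x = a * b * a :=
  three hD hconj hloc hd ha hb (not_commute hD hconj hloc hd ha hb hab) hx

include hD hconj hloc in
theorem nb_eq {x y d e : G} (hx : x ∈ D) (hy : y ∈ D) (hde : d ≠ e) (h1 : d ∈ nb D x) (h2 : e ∈ nb D x)
    (h3 : d ∈ nb D y) (h4 : e ∈ nb D y) : nb D x = nb D y := by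
  ext z
  constructor <;> intro hz
  · rcases three' hD hconj hloc hx h1 h2 hde hz with rfl | rfl | rfl
    · exact h3
    · exact h4
    · exact mem_third hD hconj hloc hy h3 h4
  · rcases three' hD hconj hloc hy h3 h4 hde hz with rfl | rfl | rfl
    · exact h1
    · exact h2
    · exact mem_third hD hconj hloc hx h1 h2

include hD hconj hloc in
/-- A commuting pair `x, y` and an element `g` commuting with neither give a neighbour of `g`. -/
theorem edge_mem {g x y : G} (hg : g ∈ D) (hx : x ∈ D) (hy : y ∈ D) (hxy : Commute x y) (hne : x ≠ y)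
    (h1 : ¬ Commute g x) (h2 : ¬ Commute g y) : (x * y) * g * (x * y)⁻¹ ∈ nb D g := by
  refine ⟨hconj _ g hg, ?_, ?_⟩
  · intro h
    apply hne
    have h3 : y * g * y = x * g * x := by
      rw [mul_inv_rev, inv_self hD hx, inv_self hD hy] at h
      calc y * g * y = (x * x) * (y * g * y) * (x * x) := by rw [mul_self hD hx, one_mul, mul_one]
        _ = x * (x * y * g * (y * x)) * x := by simp only [mul_assoc]
        _ = x * g * x := by rw [h]
    rw [← braid hD hg hy h2, ← braid hD hg hx h1] at h3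
    exact (mul_left_cancel (mul_right_cancel h3)).symm
  · have h3 : Commute (g * x * g⁻¹) (g * y * g⁻¹) := (commute_conj_iff g x y).2 hxy
    rw [inv_self hD hg, braid hD hg hx h1, braid hD hg hy h2] at h3
    have h4 := (commute_conj_iff x _ _).2 h3
    rw [inv_self hD hx] at h4
    rw [mul_inv_rev, inv_self hD hx, inv_self hD hy]
    have e1 : x * (x * g * x) * x = g := by
      simp only [mul_assoc, mul_self hD hx, mul_one]; rw [← mul_assoc, mul_self hD hx, one_mul]
    rw [e1] at h4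
    simpa only [mul_assoc] using h4

include hD hconj hloc in
theorem edge_inj {g x y z : G} (hg : g ∈ D) (hy : y ∈ D) (hz : z ∈ D)
    (h2 : ¬ Commute g y) (h3 : ¬ Commute g z)
    (h : (x * y) * g * (x * y)⁻¹ = (x * z) * g * (x * z)⁻¹) : y = z := by
  rw [mul_inv_rev, mul_inv_rev, inv_self hD hy, inv_self hD hz] at h
  have h4 : x * (y * g * y) * x⁻¹ = x * (z * g * z) * x⁻¹ := by simpa only [mul_assoc] using h
  have h5 := mul_left_cancel (mul_right_cancel h4)
  rw [← braid hD hg hy h2, ← braid hD hg hz h3] at h5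
  exact mul_left_cancel (mul_right_cancel h5)

set_option synthInstance.maxSize 4096 in
set_option synthInstance.maxHeartbeats 400000 in
theorem colouring : ∀ da db dc : Fin 3, da ≠ db → db ≠ dc → da ≠ dc →
    ∀ ae₁, ae₁ ≠ da → ∀ ae₂, ae₂ ≠ da → ae₂ ≠ ae₁ →
    ∀ bg₁, bg₁ ≠ db → ∀ bg₂, bg₂ ≠ db → bg₂ ≠ bg₁ →
    ∀ ch₁, ch₁ ≠ dc → ∀ ch₂, ch₂ ≠ dc → ch₂ ≠ ch₁ →
    ∀ eh : Fin 3, eh ≠ ae₁ → eh ≠ ch₂ → ∀ eg, eg ≠ ae₁ → eg ≠ eh → eg ≠ bg₂ →
    ∀ fh, fh ≠ ae₂ → fh ≠ ch₁ → ∀ fg, fg ≠ ae₂ → fg ≠ fh → fg ≠ bg₁ →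
    ∀ gh, gh ≠ bg₁ → gh ≠ fg → gh ≠ ch₂ → gh ≠ eh →
    ∀ hg : Fin 3, hg ≠ bg₂ → hg ≠ eg → hg ≠ ch₁ → hg ≠ fh → False := by
  decide +kernel

end

theorem caseA {G : Type*} [Group G] [Finite G] {D : Set G} (hD : Cfsg.IsThreeTranspositionSet D) (hconj : ∀ g : G, ∀ d ∈ D, g * d * g⁻¹ ∈ D)
    (hloc1 : ∀ d ∈ D, Nonempty (↥(Subgroup.closure (nb D d)) ≃* Equiv.Perm (Fin 3)))
    (hcard : ∀ d ∈ D, Nat.card (Cfsg.pCore 3 ↥(Subgroup.centralizer ({d} : Set G))) = 3)
    (hK : ∃ d ∈ D, ∃ a ∈ nb D d, ∃ b ∈ nb D d, a ≠ b ∧ ∃ e, e ≠ d ∧ e ∈ nb D a ∧ e ∈ nb D b) :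
    Nonempty (↥(Subgroup.closure D) ≃* Equiv.Perm (Fin 3) × Equiv.Perm (Fin 3)) := by
  classical
  have hinv : ∀ {x : G}, x ∈ D → x * x = 1 := fun hx => mul_self hD hx
  have hnc := fun {d a b : G} (hd : d ∈ D) (ha : a ∈ nb D d) (hb : b ∈ nb D d) (h : a ≠ b) =>
    not_commute hD hconj hloc1 hd ha hb h
  obtain ⟨d, hd, a, ha, b, hb, hab, e, hed, hea, heb⟩ := hK
  have hd_a := nb_symm hd ha
  have hd_b := nb_symm hd hb
  have hne' : d ≠ e := hed.symm
  have Cab : nb D a = nb D b := nb_eq hD hconj hloc1 ha.1 hb.1 hne' hd_a hea hd_b heb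
  have CT : ∀ x ∈ nb D d, nb D x = nb D a := by
    intro x hx
    rcases three' hD hconj hloc1 hd ha hb hab hx with rfl | rfl | rfl
    · rfl
    · exact Cab.symm
    · refine nb_eq hD hconj hloc1 hx.1 ha.1 hne' (nb_symm hd hx) ?_ hd_a hea
      have h := nb_conj hconj a (y := e) (d := b) heb
      rw [inv_self hD ha.1] at h
      rwa [show a * e * a = e by rw [hea.2.2.eq, mul_assoc, hinv ha.1, mul_one]] at h
  have CT' : ∀ x ∈ nb D a, nb D x = nb D d := fun x hx =>
    nb_eq hD hconj hloc1 hx.1 hd hab (nb_symm ha.1 hx) (nb_symm hb.1 (Cab ▸ hx)) ha hb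
  have gd : Good D d := fun x hx y hy => by rw [CT x hx, CT y hy]
  have ga : Good D a := fun x hx y hy => by rw [CT' x hx, CT' y hy]
  have six_good : ∀ x, x ∈ nb D d ∨ x ∈ nb D a → Good D x := by
    rintro x (hx | hx)
    · intro u hu v hv; rw [CT x hx] at hu hv; exact ga u hu v hv
    · intro u hu v hv; rw [CT' x hx] at hu hv; exact gd u hu v hv
  have out_nc : ∀ g ∈ D, g ∉ nb D d → g ∉ nb D a → ∀ x, x ∈ nb D d ∨ x ∈ nb D a → ¬ Commute g x := by
    intro g hg hg1 hg2 x hx hc
    rcases hx with hx | hx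
    · exact hg2 (CT x hx ▸ ⟨hg, fun h => hg1 (h ▸ hx), hc.symm⟩)
    · exact hg1 (CT' x hx ▸ ⟨hg, fun h => hg2 (h ▸ hx), hc.symm⟩)
  have allgood : ∀ z ∈ D, Good D z := by
    intro z hz
    by_cases h1 : z ∈ nb D d
    · exact six_good z (Or.inl h1)
    by_cases h2 : z ∈ nb D a
    · exact six_good z (Or.inr h2)
    have hnz := out_nc z hz h1 h2 a (Or.inl ha)
    have h3 := good_conj hconj (a * z) ga
    rwa [mul_inv_rev, inv_self hD ha.1, inv_self hD hz,
      show a * z * a * (z * a) = z by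
        have hb3 := braid hD ha.1 hz (fun h => hnz h.symm)
        rw [hb3]
        simp only [mul_assoc]
        rw [← mul_assoc z z, hinv hz, one_mul, hinv ha.1, mul_one]] at h3
  have hempty : ∀ g ∈ D, g ∈ nb D d ∨ g ∈ nb D a := by
    intro g hg
    by_contra hout
    push Not at hout
    obtain ⟨hg1, hg2⟩ := hout
    have gnc := out_nc g hg hg1 hg2
    let R : Set G := {w | ∃ z ∈ D, ∃ x ∈ nb D z, ∃ y ∈ nb D z, w = x * y}
    have prods : ∀ z ∈ D, ∀ p ∈ nb D z, ∀ q ∈ nb D z, p ≠ q → ∀ x ∈ nb D z, ∀ y ∈ nb D z,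
        x * y = 1 ∨ x * y = p * q ∨ x * y = (p * q)⁻¹ := by
      intro z hz p hp q hq hpq x hx y hy
      have hb3 := braid hD hp.1 hq.1 (hnc hz hp hq hpq)
      have hinvpq : (p * q)⁻¹ = q * p := by rw [mul_inv_rev, inv_self hD hp.1, inv_self hD hq.1]
      have hp2 : ∀ w, p * (p * w) = w := fun w => by rw [← mul_assoc, hinv hp.1, one_mul]
      have hq2 : ∀ w, q * (q * w) = w := fun w => by rw [← mul_assoc, hinv hq.1, one_mul]
      rw [hinvpq]
      rcases three' hD hconj hloc1 hz hp hq hpq hx with rfl | rfl | rfl <;>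
        rcases three' hD hconj hloc1 hz hp hq hpq hy with rfl | rfl | rfl
      · exact Or.inl (hinv hx.1)
      · exact Or.inr (Or.inl rfl)
      · exact Or.inr (Or.inr (by rw [← mul_assoc, ← mul_assoc, hinv hx.1, one_mul]))
      · exact Or.inr (Or.inr rfl)
      · exact Or.inl (hinv hx.1)
      · exact Or.inr (Or.inl (by rw [hb3, mul_assoc, hq2]))
      · exact Or.inr (Or.inl (by rw [mul_assoc, hinv hp.1, mul_one]))
      · exact Or.inr (Or.inr (by rw [hb3, mul_assoc, hinv hq.1, mul_one]))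
      · exact Or.inl (by simp only [mul_assoc]; rw [hp2, hq2, hinv hp.1])
    have hR3 : ∀ w ∈ R, w ^ 3 = 1 := by
      rintro _ ⟨z, hz, x, hx, y, hy, rfl⟩
      rcases eq_or_ne x y with rfl | h
      · rw [hinv hx.1, one_pow]
      · exact cube_of_not_commute hD hx.1 hy.1 (hnc hz hx hy h)
    -- a rotation maps every triple to itself
    have stab : ∀ p q : G, ∀ z₀ ∈ D, p ∈ nb D z₀ → q ∈ nb D z₀ → p ≠ q → ∀ z ∈ D, ∀ w ∈ nb D z,
        p * q * w * (p * q)⁻¹ ∈ nb D z := by
      intro p q z₀ hz₀ hp hq hpq z hz w hw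
      have hpqC : nb D p = nb D q := allgood z₀ hz₀ p hp q hq
      rw [mul_inv_rev, inv_self hD hp.1, inv_self hD hq.1]
      by_cases hwp : Commute p w
      · by_cases hwpe : w = p
        · subst hwpe
          have hzw := nb_symm hz hw
          have hz₀w := nb_symm hz₀ hp
          have e : nb D z = nb D z₀ := allgood w hp.1 z hzw z₀ hz₀w
          rw [e]
          have h1 := mem_third hD hconj hloc1 hz₀ hq hp
          have h2 := mem_third hD hconj hloc1 hz₀ hp h1
          simpa only [mul_assoc] using h2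
        · have hwq : w ∈ nb D q := hpqC ▸ ⟨hw.1, hwpe, hwp⟩
          rw [show p * q * w * (q * p) = w by
            rw [mul_assoc p q w, hwq.2.2.eq, mul_assoc p, mul_assoc w, ← mul_assoc q q, hinv hq.1,
              one_mul, ← mul_assoc, hwp.eq, mul_assoc, hinv hp.1, mul_one]]
          exact hw
      by_cases hwq : Commute q w
      · by_cases hwqe : w = q
        · subst hwqe
          have e : nb D z = nb D z₀ := allgood w hq.1 z (nb_symm hz hw) z₀ (nb_symm hz₀ hq)
          rw [e]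
          have h2 := mem_third hD hconj hloc1 hz₀ hp (mem_third hD hconj hloc1 hz₀ hq hq)
          simpa only [mul_assoc] using h2
        · exact absurd (hpqC.symm ▸ (⟨hw.1, hwqe, hwq⟩ : w ∈ nb D q) : w ∈ nb D p).2.2 hwp
      have hp' := nb_conj hconj w hp
      have hq' := nb_conj hconj w hq
      rw [inv_self hD hw.1, ← braid hD hp.1 hw.1 hwp] at hp'
      rw [inv_self hD hw.1, ← braid hD hq.1 hw.1 hwq] at hq'
      have hp'' := nb_conj hconj p hp'
      have hq'' := nb_conj hconj p hq'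
      rw [inv_self hD hp.1] at hp'' hq''
      rw [show p * (p * w * p) * p = w by
        simp only [mul_assoc, hinv hp.1, mul_one]; rw [← mul_assoc, hinv hp.1, one_mul]] at hp''
      set z' := p * (w * z₀ * w) * p with hz'
      have hz'D : z' ∈ D := conj_mem hD hconj hp.1 (conj_mem hD hconj hw.1 hz₀)
      have e : nb D z = nb D z' := allgood w hw.1 z (nb_symm hz hw) z' (nb_symm hz'D hp'')
      rw [e]
      simpa only [mul_assoc] using hq''
    have hRcomm : ∀ u ∈ R, ∀ v ∈ R, u * v = v * u := by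
      rintro _ ⟨z₀, hz₀, p, hp, q, hq, rfl⟩ _ ⟨z, hz, x, hx, y, hy, rfl⟩
      rcases eq_or_ne p q with rfl | hpq
      · rw [hinv hp.1, one_mul, mul_one]
      rcases eq_or_ne x y with rfl | hxy
      · rw [hinv hx.1, one_mul, mul_one]
      have h3 : (p * q) ^ 3 = 1 := cube_of_not_commute hD hp.1 hq.1 (hnc hz₀ hp hq hpq)
      have hx' := stab p q z₀ hz₀ hp hq hpq z hz x hx
      have hy' := stab p q z₀ hz₀ hp hq hpq z hz y hy
      have hcases := prods z hz x hx y hy hxy _ hx' _ hy'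
      have hval : p * q * x * (p * q)⁻¹ * (p * q * y * (p * q)⁻¹) =
          (p * q) * (x * y) * (p * q)⁻¹ := by group
      rw [hval] at hcases
      generalize p * q = u at h3 hcases ⊢
      have hv1 : x * y ≠ 1 := fun h => hxy (by
        rw [← inv_self hD hy.1]; exact eq_inv_of_mul_eq_one_left h)
      generalize x * y = v at hcases hv1 ⊢
      rcases hcases with h | h | h
      · exact absurd (conj_eq_one_iff.1 h) hv1
      · exact mul_inv_eq_iff_eq_mul.1 h
      · have h2 : u ^ 2 * v * (u ^ 2)⁻¹ = v := by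
          calc u ^ 2 * v * (u ^ 2)⁻¹ = u * (u * v * u⁻¹) * u⁻¹ := by
                rw [pow_two, mul_inv_rev]; simp only [mul_assoc]
            _ = u * v⁻¹ * u⁻¹ := by rw [h]
            _ = (u * v * u⁻¹)⁻¹ := by rw [mul_inv_rev, mul_inv_rev, inv_inv, mul_assoc]
            _ = v := by rw [h, inv_inv]
        have hu : u = u ^ 2 * u ^ 2 := by
          rw [← pow_add, show 2 + 2 = 3 + 1 from rfl, pow_add, h3, one_mul, pow_one]
        have h4 : Commute (u ^ 2) v := by
          show u ^ 2 * v = v * u ^ 2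
          exact mul_inv_eq_iff_eq_mul.1 h2
        have h5 : Commute (u ^ 2 * u ^ 2) v := h4.mul_left h4
        rw [← hu] at h5
        exact h5.eq
    let N : Subgroup G := Subgroup.closure R
    haveI hNc : IsMulCommutative N := Subgroup.isMulCommutative_closure hRcomm
    have hN3 : ∀ w ∈ N, w ^ 3 = 1 := by
      intro w hw
      induction hw using Subgroup.closure_induction with
      | mem x hx => exact hR3 x hx
      | one => exact one_pow 3
      | mul x y hx hy hx' hy' =>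
        have hc : Commute x y :=
          congrArg Subtype.val (hNc.is_comm.comm ⟨x, hx⟩ ⟨y, hy⟩)
        rw [hc.mul_pow, hx', hy', one_mul]
      | inv x _ hx => rw [inv_pow, hx, inv_one]
    have hNconj : ∀ (k : G), ∀ w ∈ N, k * w * k⁻¹ ∈ N := by
      intro k w hw
      induction hw using Subgroup.closure_induction with
      | mem x hx =>
        obtain ⟨z, hz, x, hx, y, hy, rfl⟩ := hx
        exact Subgroup.subset_closure ⟨k * z * k⁻¹, hconj k z hz, _, nb_conj hconj k hx, _,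
          nb_conj hconj k hy, by group⟩
      | one => simp
      | mul x y _ _ hx hy => rw [show k * (x * y) * k⁻¹ = (k * x * k⁻¹) * (k * y * k⁻¹) by group]; exact mul_mem hx hy
      | inv x _ hx => rw [show k * x⁻¹ * k⁻¹ = (k * x * k⁻¹)⁻¹ by group]; exact inv_mem hx
    -- choose the second element of the first triple
    obtain ⟨b', hb', hb'a, e', he', he'd, hke⟩ : ∃ b' ∈ nb D d, b' ≠ a ∧ ∃ e' ∈ nb D a, e' ≠ d ∧
        (a * e') * g * (a * e')⁻¹ = (d * b') * g * (d * b')⁻¹ := by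
      refine ?_
      have hc := mem_third hD hconj hloc1 hd ha hb
      set c := a * b * a with hcdef
      have hca : c ≠ a := fun h => hnc hd ha hb hab (by
        have h2 : b = a := by
          calc b = a * (a * b * a) * a := by
                simp only [mul_assoc, hinv ha.1, mul_one]; rw [← mul_assoc, hinv ha.1, one_mul]
            _ = a := by rw [← hcdef, h, hinv ha.1, one_mul]
        exact absurd h2 hab.symm)
      have hbc : b ≠ c := fun h => hnc hd ha hb hab (by
        show a * b = b * a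
        calc a * b = a * (a * b * a) := by rw [← hcdef, ← h]
          _ = b * a := by rw [← mul_assoc, ← mul_assoc, hinv ha.1, one_mul])
      have kd : ∀ x ∈ nb D d, (d * x) * g * (d * x)⁻¹ ∈ nb D g := fun x hx =>
        edge_mem hD hconj hloc1 hg hd hx.1 hx.2.2 hx.2.1.symm (gnc d (Or.inr hd_a)) (gnc x (Or.inl hx))
      have kinj : ∀ x ∈ nb D d, ∀ y ∈ nb D d,
          (d * x) * g * (d * x)⁻¹ = (d * y) * g * (d * y)⁻¹ → x = y := fun x hx y hy h =>
        edge_inj hD hconj hloc1 hg hx.1 hy.1 (gnc x (Or.inl hx)) (gnc y (Or.inl hy)) h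
      have ke := edge_mem hD hconj hloc1 hg ha.1 hea.1 hea.2.2 hea.2.1.symm
        (gnc a (Or.inl ha)) (gnc e (Or.inr hea))
      have hna : (a * e) * g * (a * e)⁻¹ ≠ (d * a) * g * (d * a)⁻¹ := by
        rw [ha.2.2.eq]
        exact fun h => hed (edge_inj hD hconj hloc1 hg hea.1 hd (gnc e (Or.inr hea))
          (gnc d (Or.inr hd_a)) h)
      have hab' : (d * a) * g * (d * a)⁻¹ ≠ (d * b) * g * (d * b)⁻¹ := fun h => hab (kinj a ha b hb h)
      rcases three' hD hconj hloc1 hg (kd a ha) (kd b hb) hab' ke with h | h | h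
      · exact absurd h hna
      · exact ⟨b, hb, hab.symm, e, hea, hed, h⟩
      · refine ⟨c, hc, hca, e, hea, hed, ?_⟩
        rcases three' hD hconj hloc1 hg (kd a ha) (kd b hb) hab' (kd c hc) with h2 | h2 | h2
        · exact absurd (kinj c hc a ha h2) hca
        · exact absurd (kinj c hc b hb h2).symm hbc
        · rw [h, h2]
    set r := a * b' with hr
    set s := d * e' with hs
    have hrR : r ∈ N := Subgroup.subset_closure ⟨d, hd, a, ha, b', hb', rfl⟩
    have hsR : s ∈ N := Subgroup.subset_closure ⟨a, ha.1, d, hd_a, e', he', rfl⟩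
    have ncab' : ¬ Commute a b' := hnc hd ha hb' hb'a.symm
    have ncde' : ¬ Commute d e' := hnc ha.1 hd_a he' he'd.symm
    have cbe : Commute b' e' := (CT b' hb' ▸ he' : e' ∈ nb D b').2.2
    have aia : a⁻¹ = a := inv_self hD ha.1
    have did : d⁻¹ = d := inv_self hD hd
    have gig : g⁻¹ = g := inv_self hD hg
    have bib : b'⁻¹ = b' := inv_self hD hb'.1
    have eie : e'⁻¹ = e' := inv_self hD he'.1
    -- the four elementary actions
    have Ar : MulAut.conj a r = r⁻¹ := by
      rw [MulAut.conj_apply, hr, mul_inv_rev, aia, bib, ← mul_assoc, hinv ha.1, one_mul]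
    have As : MulAut.conj a s = s := by
      rw [MulAut.conj_apply, (ha.2.2.symm.mul_right he'.2.2).eq, mul_assoc, mul_inv_cancel, mul_one]
    have Dr : MulAut.conj d r = r := by
      rw [MulAut.conj_apply, (ha.2.2.mul_right hb'.2.2).eq, mul_assoc, mul_inv_cancel, mul_one]
    have Ds : MulAut.conj d s = s⁻¹ := by
      rw [MulAut.conj_apply, hs, mul_inv_rev, did, eie, ← mul_assoc, hinv hd, one_mul]
    -- the element fixed by `g`
    have ht : MulAut.conj g (r⁻¹ * s) = r⁻¹ * s := by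
      have h1 : r⁻¹ * s = (d * b')⁻¹ * (a * e') := by
        rw [hr, hs, mul_inv_rev, mul_inv_rev, aia, did, bib]
        simp only [mul_assoc]
        rw [← mul_assoc a d, ← ha.2.2.eq, mul_assoc]
      rw [h1, MulAut.conj_apply]
      calc g * ((d * b')⁻¹ * (a * e')) * g⁻¹
          = (d * b')⁻¹ * ((d * b') * g * (d * b')⁻¹) * (a * e') * g⁻¹ := by group
        _ = (d * b')⁻¹ * ((a * e') * g * (a * e')⁻¹) * (a * e') * g⁻¹ := by rw [hke]
        _ = (d * b')⁻¹ * (a * e') := by group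
    have mem : ∀ k, ∀ w ∈ N, MulAut.conj k w ∈ N := hNconj
    have cm : ∀ u ∈ N, ∀ v ∈ N, u * v = v * u := fun u hu v hv =>
      congrArg Subtype.val (hNc.is_comm.comm ⟨u, hu⟩ ⟨v, hv⟩)
    have brA : ∀ x ∈ D, ¬ Commute g x → ∀ w,
        MulAut.conj x (MulAut.conj g (MulAut.conj x w)) = MulAut.conj g (MulAut.conj x (MulAut.conj g w)) := by
      intro x hx hxg w
      rw [← MulAut.mul_apply, ← MulAut.mul_apply, ← MulAut.mul_apply, ← MulAut.mul_apply, ← map_mul,
        ← map_mul, ← map_mul, ← map_mul, braid hD hx hg (fun h => hxg h.symm)]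
    letI : CommGroup N := { (inferInstance : Group N) with mul_comm := hNc.is_comm.comm }
    have e3 : ∀ w : N, w * w * w = 1 := fun w => Subtype.ext (by
      have := hN3 w w.2; rwa [pow_succ, pow_two] at this)
    set u := MulAut.conj g r with hu
    set v := MulAut.conj g s with hv
    have huN : u ∈ N := mem g r hrR
    have hvN : v ∈ N := mem g s hsR
    -- the other action on `u`
    set X := MulAut.conj a u with hX
    have hXN : X ∈ N := mem a u huN
    have hvu : v = u * (r⁻¹ * s) := by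
      rw [map_mul, map_inv, ← hu, ← hv] at ht
      rw [← ht, mul_inv_cancel_left]
    have gX : MulAut.conj g X = X⁻¹ := by
      have h1 := brA a ha.1 (gnc a (Or.inl ha)) r
      rw [Ar, map_inv, map_inv, ← hu, ← hX] at h1
      exact h1.symm
    have gY : MulAut.conj g (MulAut.conj a v) = MulAut.conj a v := by
      have h1 := brA a ha.1 (gnc a (Or.inl ha)) s
      rw [As, ← hv] at h1
      exact h1.symm
    have hXval : X = u * r⁻¹ := by
      have hY : MulAut.conj a v = X * (r * s) := by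
        rw [hvu, map_mul, map_mul, map_inv, Ar, As, inv_inv, ← hX]
      rw [hY, map_mul, map_mul, gX, ← hu, ← hv, hvu] at gY
      exact congrArg (fun w : Additive N => ((Additive.toMul w : N) : G))
        (addA (A := Additive N) (fun w => e3 w) (X := Additive.ofMul ⟨X, hXN⟩)
          (u := Additive.ofMul ⟨u, huN⟩) (r := Additive.ofMul ⟨r, hrR⟩) (s := Additive.ofMul ⟨s, hsR⟩)
          (congrArg Additive.ofMul (Subtype.ext gY)))
    set Y := MulAut.conj d v with hY
    have gYd : MulAut.conj g Y = Y⁻¹ := by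
      have h1 := brA d hd (gnc d (Or.inr hd_a)) s
      rw [Ds, map_inv, map_inv, ← hv, ← hY] at h1
      exact h1.symm
    have gUd : MulAut.conj g (MulAut.conj d u) = MulAut.conj d u := by
      have h1 := brA d hd (gnc d (Or.inr hd_a)) r
      rw [Dr, ← hu] at h1
      exact h1.symm
    have hDu : MulAut.conj d u = u * s := by
      set U := MulAut.conj d u with hU
      have hUN : U ∈ N := mem d u huN
      have hY2 : Y = U * (r⁻¹ * s⁻¹) := by rw [hY, hvu, map_mul, map_mul, map_inv, Dr, Ds, ← hU]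
      rw [hY2, map_mul, map_mul, map_inv, map_inv, gUd, ← hu, ← hv, hvu] at gYd
      exact congrArg (fun w : Additive N => ((Additive.toMul w : N) : G))
        (addD (A := Additive N) (fun w => e3 w) (U := Additive.ofMul ⟨U, hUN⟩)
          (u := Additive.ofMul ⟨u, huN⟩) (r := Additive.ofMul ⟨r, hrR⟩) (s := Additive.ofMul ⟨s, hsR⟩)
          (congrArg Additive.ofMul (Subtype.ext gYd)))
    -- the centraliser of `d` in `N` is generated by `r`
    have hcenter : ∀ w ∈ N, MulAut.conj d w = w → w ∈ Subgroup.zpowers r := by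
      intro w hw hwd
      let Cd := Subgroup.centralizer ({d} : Set G)
      let M : Subgroup Cd := N.subgroupOf Cd
      haveI : M.Normal := ⟨fun n hn k => hNconj k.1 n.1 hn⟩
      have hM : IsPGroup 3 M := fun k => ⟨1, by
        apply Subtype.ext; apply Subtype.ext
        simpa using hN3 _ k.2⟩
      have hle : M ≤ Cfsg.pCore 3 Cd := ComponentsCores.le_pCore' hM
      have hrC : r ∈ Cd := by
        rw [Subgroup.mem_centralizer_singleton_iff]
        exact ((ha.2.2.mul_right hb'.2.2).eq).symm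
      have hwC : w ∈ Cd := by
        rw [Subgroup.mem_centralizer_singleton_iff]
        rw [MulAut.conj_apply] at hwd
        exact (mul_inv_eq_iff_eq_mul.1 hwd).symm
      have hr3 : orderOf (⟨r, hrC⟩ : Cd) = 3 := by
        haveI : Fact (Nat.Prime 3) := ⟨Nat.prime_three⟩
        rw [← Subgroup.orderOf_coe]
        refine orderOf_eq_prime (hN3 r hrR) ?_
        intro h
        exact hb'a (by rw [← bib]; exact (eq_inv_of_mul_eq_one_left h).symm)
      have heq : Subgroup.zpowers (⟨r, hrC⟩ : Cd) = Cfsg.pCore 3 Cd := by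
        refine Subgroup.eq_of_le_of_card_ge (Subgroup.zpowers_le.2 (hle hrR)) ?_
        rw [hcard d hd, Nat.card_zpowers, hr3]
      have hwz : (⟨w, hwC⟩ : Cd) ∈ Subgroup.zpowers (⟨r, hrC⟩ : Cd) := heq ▸ hle hw
      obtain ⟨n, hn⟩ := Subgroup.mem_zpowers_iff.1 hwz
      exact Subgroup.mem_zpowers_iff.2 ⟨n, by simpa using congrArg Subtype.val hn⟩
    obtain ⟨i, hi⟩ := Subgroup.mem_zpowers_iff.1 (hcenter (u * s⁻¹) (mul_mem huN (inv_mem hsR)) (by
      rw [map_mul, map_inv, hDu, Ds, inv_inv, mul_assoc]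
      congr 1
      exact eq_inv_of_mul_eq_one_left (by
        have := hN3 s hsR; rwa [pow_succ, pow_two] at this)))
    -- conjugate that relation by `a`
    have h2 : (r ^ i) * r⁻¹ = (r ^ i)⁻¹ := by
      have h := congrArg (MulAut.conj a) hi
      rw [map_zpow, Ar, inv_zpow, map_mul, map_inv, As, ← hX, hXval] at h
      rw [h, hi, mul_assoc, mul_assoc, cm _ (inv_mem hrR) _ (inv_mem hsR)]
    have h3 : r ^ i = r⁻¹ := by
      have h4 : r ^ i * r ^ i = r := by
        calc r ^ i * r ^ i = r ^ i * (r ^ i * r⁻¹) * r := by group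
          _ = r := by rw [h2]; group
      have h5 : r * r * r = 1 := by have := hN3 r hrR; rwa [pow_succ, pow_two] at this
      have h6 : r ^ i * r ^ i * r ^ i = 1 := by
        have := hN3 _ (zpow_mem hrR i); rwa [pow_succ, pow_two] at this
      rw [h4] at h6
      exact eq_inv_of_mul_eq_one_right h6
    have hufix : u = r⁻¹ * s := by
      rw [← h3, hi, inv_mul_cancel_right]
    have hreq : r = r⁻¹ * s := (MulAut.conj g).injective (by rw [ht, ← hu, hufix])
    have h7 : r = r⁻¹ * s⁻¹ :=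
      calc r = MulAut.conj d r := Dr.symm
        _ = MulAut.conj d (r⁻¹ * s) := congrArg (MulAut.conj d) hreq
        _ = r⁻¹ * s⁻¹ := by rw [map_mul, map_inv, Dr, Ds]
    have h8 : s = s⁻¹ := mul_left_cancel (hreq.symm.trans h7)
    apply ncde'
    refine commute_of_sq hD hd he'.1 ?_
    rw [← hs, pow_two]
    exact mul_eq_one_iff_eq_inv.2 h8
  -- the direct product
  let H : Subgroup G := Subgroup.closure (nb D d)
  let K : Subgroup G := Subgroup.closure (nb D a)
  have hcomm : ∀ x ∈ H, ∀ y ∈ K, Commute x y := by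
    have h1 : H ≤ Subgroup.centralizer (nb D a) := by
      rw [Subgroup.closure_le]
      intro x hx y hy
      rw [← CT x hx] at hy
      exact hy.2.2.eq.symm
    have h2 : K ≤ Subgroup.centralizer (H : Set G) := by
      rw [Subgroup.closure_le]
      intro y hy x hx
      exact (h1 hx y hy).symm
    exact fun x hx y hy => h2 hy x hx
  have htriv : ∀ x, x ∈ H → x ∈ K → x = 1 := by
    intro x hxH hxK
    obtain ⟨ε⟩ := hloc1 d hd
    have hcen : ∀ σ, ε ⟨x, hxH⟩ * σ = σ * ε ⟨x, hxH⟩ := by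
      intro σ
      rw [← ε.apply_symm_apply σ, ← map_mul, ← map_mul]
      exact congrArg ε (Subtype.ext (hcomm _ (ε.symm σ).2 x hxK).eq.symm)
    have h3 : ∀ u : Equiv.Perm (Fin 3), (∀ σ, u * σ = σ * u) → u = 1 := by decide +kernel
    have h4 := h3 _ hcen
    rw [← map_one ε] at h4
    exact congrArg Subtype.val (ε.injective h4)
  have hHD : H ≤ Subgroup.closure D := Subgroup.closure_mono fun x hx => hx.1
  have hKD : K ≤ Subgroup.closure D := Subgroup.closure_mono fun x hx => hx.1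
  let φ : H × K →* Subgroup.closure D :=
    { toFun := fun p => ⟨p.1 * p.2, mul_mem (hHD p.1.2) (hKD p.2.2)⟩
      map_one' := by simp
      map_mul' := fun p q => Subtype.ext (by
        show (p.1 * q.1 : G) * (p.2 * q.2) = (p.1 * p.2 : G) * (q.1 * q.2)
        exact Commute.mul_mul_mul_comm (hcomm _ q.1.2 _ p.2.2) _ _) }
  have hinj : Function.Injective φ := by
    refine (injective_iff_map_eq_one φ).2 fun p hp => ?_
    have h1 : (p.1 : G) * p.2 = 1 := congrArg Subtype.val hp
    have h2 : (p.1 : G) = 1 := htriv _ p.1.2 (by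
      rw [eq_inv_of_mul_eq_one_left h1]; exact inv_mem p.2.2)
    rw [h2, one_mul] at h1
    exact Prod.ext (Subtype.ext h2) (Subtype.ext h1)
  have hsurj : Function.Surjective φ := by
    have hle : Subgroup.closure D ≤ φ.range.map (Subgroup.closure D).subtype := by
      rw [Subgroup.closure_le]
      intro x hx
      rcases hempty x hx with h | h
      · exact ⟨φ (⟨x, Subgroup.subset_closure h⟩, 1), ⟨_, rfl⟩, mul_one x⟩
      · exact ⟨φ (1, ⟨x, Subgroup.subset_closure h⟩), ⟨_, rfl⟩, one_mul x⟩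
    intro y
    obtain ⟨z, ⟨p, hp⟩, hz⟩ := hle y.2
    exact ⟨p, by rw [hp]; exact Subtype.ext hz⟩
  obtain ⟨ε₁⟩ := hloc1 d hd
  obtain ⟨ε₂⟩ := hloc1 a ha.1
  exact ⟨((MulEquiv.ofBijective φ ⟨hinj, hsurj⟩).symm).trans (MulEquiv.prodCongr ε₁ ε₂)⟩

theorem caseB {G : Type*} [Group G] [Finite G] {D : Set G} (hD : Cfsg.IsThreeTranspositionSet D) (hconj : ∀ g : G, ∀ d ∈ D, g * d * g⁻¹ ∈ D) (hne : D.Nonempty)
    (hloc1 : ∀ d ∈ D, Nonempty (↥(Subgroup.closure (nb D d)) ≃* Equiv.Perm (Fin 3)))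
    (hK : ∀ d ∈ D, ∀ a ∈ nb D d, ∀ b ∈ nb D d, a ≠ b → ∀ e, e ≠ d → e ∈ nb D a → e ∉ nb D b) :
    Nonempty (↥(Subgroup.closure D) ≃* Equiv.Perm (Fin 5)) := by
  classical
  have hinv : ∀ {x : G}, x ∈ D → x * x = 1 := fun hx => mul_self hD hx
  have hnc := fun {d a b : G} (hd : d ∈ D) (ha : a ∈ nb D d) (hb : b ∈ nb D d) (h : a ≠ b) =>
    not_commute hD hconj hloc1 hd ha hb h
  have hB : ∀ d ∈ D, ∀ a ∈ nb D d, ∀ b ∈ nb D d, a ≠ b → ∀ e, e ∈ nb D a → e ∈ nb D b → e = d := by
    intro d hd a ha b hb hab e h1 h2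
    by_contra hne
    exact hK d hd a ha b hb hab e hne h1 h2
  obtain ⟨d, hd⟩ := hne
  obtain ⟨a, ha, b, hb, hab⟩ := exists_pair hD hconj hloc1 hd
  have hab' : a ≠ b := fun h => hab (h ▸ Commute.refl a)
  have hbr := braid hD ha.1 hb.1 hab
  set c := a * b * a with hc_def
  have hc : c ∈ nb D d := mem_third hD hconj hloc1 hd ha hb
  have cinv : c⁻¹ = c := inv_self hD hc.1
  have ainv : a⁻¹ = a := inv_self hD ha.1
  have binv : b⁻¹ = b := inv_self hD hb.1
  have dinv : d⁻¹ = d := inv_self hD hd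
  have a2 : ∀ w, a * (a * w) = w := fun w => by rw [← mul_assoc, hinv ha.1, one_mul]
  have b2 : ∀ w, b * (b * w) = w := fun w => by rw [← mul_assoc, hinv hb.1, one_mul]
  have cac : c * a * c⁻¹ = b := by
    rw [cinv]
    calc c * a * c = (a * b * a) * a * (a * b * a) := rfl
      _ = a * (b * a * b) * a := by simp only [mul_assoc, a2]
      _ = a * (a * b * a) * a := by rw [show b * a * b = a * b * a from hbr.symm]
      _ = b := by simp only [mul_assoc, a2, hinv ha.1, mul_one]
  have cbc : c * b * c⁻¹ = a := by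
    rw [cinv]
    calc c * b * c = (b * a * b) * b * (b * a * b) := by rw [← hbr]
      _ = b * (a * b * a) * b := by simp only [mul_assoc, b2]
      _ = b * (b * a * b) * b := by rw [show a * b * a = b * a * b from hbr]
      _ = a := by simp only [mul_assoc, b2, hinv hb.1, mul_one]
  have bab : b * a * b⁻¹ = c := by rw [binv]; exact hbr.symm
  have hac : a ≠ c := fun h => hab' (by rw [← cac, ← h]; simp)
  have hbc : b ≠ c := fun h => hab' (by rw [← cbc, ← h]; simp)
  have fixd : ∀ x ∈ nb D d, x * d * x⁻¹ = d := fun x hx => by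
    rw [← hx.2.2.eq, mul_assoc, mul_inv_cancel, mul_one]
  have fixd' : ∀ x ∈ nb D d, d * x * d⁻¹ = x := fun x hx => by
    rw [hx.2.2.eq, mul_assoc, mul_inv_cancel, mul_one]
  -- second sphere: closed
  have step : ∀ p ∈ nb D d, ∀ q ∈ nb D d, p ≠ q → ∀ x ∈ nb D p, x ≠ d →
      (q * d) * x * (q * d)⁻¹ ∈ nb D x ∧ (q * d) * x * (q * d)⁻¹ ∈ nb D (q * p * q⁻¹) ∧
      (q * d) * x * (q * d)⁻¹ ≠ p := by
    intro p hp q hq hpq x hx hxd
    have nxd : ¬ Commute x d := hnc hp.1 hx (nb_symm hd hp) hxd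
    have nxq : ¬ Commute x q := by
      intro h
      by_cases hxq : x = q
      · exact hnc hd hp hq hpq (hxq ▸ hx.2.2)
      · exact hxd (hB d hd p hp q hq hpq x hx ⟨hx.1, hxq, h.symm⟩)
    have h := nb_conj hconj (q * d) hx
    rw [show q * d * p * (q * d)⁻¹ = q * p * q⁻¹ by
      calc q * d * p * (q * d)⁻¹ = q * (d * p * d⁻¹) * q⁻¹ := by group
        _ = _ := by rw [fixd' p hp]] at h
    refine ⟨edge_mem hD hconj hloc1 hx.1 hq.1 hd hq.2.2.symm hq.2.1 nxq nxd, h, fun he => ?_⟩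
    have h4 := h.2.2
    rw [he] at h4
    have hne2 : q * p * q⁻¹ ≠ p := fun h5 => hnc hd hp hq hpq (by
      show p * q = q * p
      exact (mul_inv_eq_iff_eq_mul.1 h5).symm)
    exact hnc hd (by
      have := mem_third hD hconj hloc1 hd hq hp
      rwa [show q * p * q⁻¹ = q * p * q by rw [inv_self hD hq.1]]) hp hne2 h4
  obtain ⟨e₀, he₀, f₀, hf₀, hef⟩ := exists_pair hD hconj hloc1 ha.1
  obtain ⟨e, he, hed⟩ : ∃ e ∈ nb D a, e ≠ d := by
    by_cases h : e₀ = d
    · exact ⟨f₀, hf₀, fun h2 => hef (h.trans h2.symm ▸ Commute.refl f₀)⟩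
    · exact ⟨e₀, he₀, h⟩
  -- the representation
  set s := (c * d) * e * (c * d)⁻¹ with hs
  have hsD : s ∈ D := hconj _ e he.1
  have conj_cd : ∀ w, (c * d)⁻¹ * w * (c * d) = d * (c * w * c⁻¹) * d⁻¹ := by
    intro w
    rw [mul_inv_rev, cinv, dinv]
    simp only [mul_assoc]
  have nds : ¬ Commute d s := by
    intro h
    have h2 := (commute_conj_iff (c * d)⁻¹ d s).2 h
    rw [inv_inv, conj_cd, fixd c hc, hs, mul_inv_cancel_right,
      show (c * d)⁻¹ * ((c * d) * e * (c * d)⁻¹) * (c * d) = e by group] at h2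
    exact hnc ha.1 (nb_symm hd ha) he hed.symm h2
  have hsa : ¬ Commute s a := by
    intro h
    have h2 := (commute_conj_iff (c * d)⁻¹ s a).2 h
    rw [inv_inv, show (c * d)⁻¹ * s * (c * d) = e by rw [hs]; group, conj_cd, cac, fixd' b hb] at h2
    by_cases heb : e = b
    · exact hab (heb ▸ he.2.2)
    · exact hed (hB d hd a ha b hb hab' e he ⟨he.1, heb, h2.symm⟩)
  have hsb : Commute s b := by
    apply (commute_conj_iff (c * d)⁻¹ s b).1
    rw [inv_inv, show (c * d)⁻¹ * s * (c * d) = e by rw [hs]; group, conj_cd, cbc, fixd' a ha]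
    exact he.2.2.symm
  have hlift : (CoxeterMatrix.A 4).IsLiftable ![d, s, a, b] := by
    have sq : ∀ {x y : G}, x ∈ D → y ∈ D → Commute x y → (x * y) ^ 2 = 1 := fun hx hy h => by
      rw [h.mul_pow, pow_two, pow_two, hinv hx, hinv hy, one_mul]
    have cu : ∀ {x y : G}, x ∈ D → y ∈ D → ¬ Commute x y → (x * y) ^ 3 = 1 := fun hx hy h =>
      cube_of_not_commute hD hx hy h
    intro i j
    fin_cases i <;> fin_cases j <;> simp [CoxeterMatrix.A]
    all_goals first
      | exact hinv hd | exact hinv hsD | exact hinv ha.1 | exact hinv hb.1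
      | exact cu hd hsD nds | exact cu hsD hd (fun h => nds h.symm)
      | exact cu hsD ha.1 hsa | exact cu ha.1 hsD (fun h => hsa h.symm)
      | exact cu ha.1 hb.1 hab | exact cu hb.1 ha.1 (fun h => hab h.symm)
      | exact sq hd ha.1 ha.2.2 | exact sq ha.1 hd ha.2.2.symm
      | exact sq hd hb.1 hb.2.2 | exact sq hb.1 hd hb.2.2.symm
      | exact sq hsD hb.1 hsb | exact sq hb.1 hsD hsb.symm
  obtain ⟨cs, hcs⟩ := CoxeterTypeA.exists_coxeterSystem 4
  let φ : Equiv.Perm (Fin 5) →* G := cs.lift ⟨![d, s, a, b], hlift⟩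
  have hφ : ∀ i : Fin 4, φ (cs.simple i) = ![d, s, a, b] i := fun i => cs.lift_apply_simple hlift i
  have rd : d ∈ φ.range := ⟨_, hφ 0⟩
  have rs : s ∈ φ.range := ⟨_, hφ 1⟩
  have ra : a ∈ φ.range := ⟨_, hφ 2⟩
  have rb : b ∈ φ.range := ⟨_, hφ 3⟩
  have rc : c ∈ φ.range := mul_mem (mul_mem ra rb) ra
  have re : e ∈ φ.range := by
    rw [show e = (c * d)⁻¹ * s * (c * d) by rw [hs]; group]
    exact mul_mem (mul_mem (inv_mem (mul_mem rc rd)) rs) (mul_mem rc rd)
  have rnd : ∀ x ∈ nb D d, x ∈ φ.range := by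
    intro x hx
    rcases three hD hconj hloc1 hd ha hb hab hx with rfl | rfl | rfl
    · exact ra
    · exact rb
    · exact rc
  have rna : ∀ x ∈ nb D a, x ∈ φ.range := by
    intro x hx
    rcases three' hD hconj hloc1 ha.1 (nb_symm hd ha) he hed.symm hx with rfl | rfl | rfl
    · exact rd
    · exact re
    · exact mul_mem (mul_mem rd re) rd
  have rn : ∀ p ∈ nb D d, ∀ x ∈ nb D p, x ∈ φ.range := by
    intro p hp x hx
    rcases three hD hconj hloc1 hd ha hb hab hp with rfl | rfl | rfl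
    · exact rna x hx
    · have h := nb_conj' hconj c (d := a) (y := x) (by rwa [cac])
      rw [show x = c * (c⁻¹ * x * c) * c⁻¹ by group]
      exact mul_mem (mul_mem rc (rna _ h)) (inv_mem rc)
    · have h := nb_conj' hconj b (d := a) (y := x) (by rwa [bab])
      rw [show x = b * (b⁻¹ * x * b) * b⁻¹ by group]
      exact mul_mem (mul_mem rb (rna _ h)) (inv_mem rb)
  -- the closed ball
  have others : ∀ p ∈ nb D d, ∃ q ∈ nb D d, ∃ q' ∈ nb D d, p ≠ q ∧ p ≠ q' ∧ q ≠ q' := by
    intro p hp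
    rcases three hD hconj hloc1 hd ha hb hab hp with rfl | rfl | rfl
    · exact ⟨b, hb, c, hc, hab', hac, hbc⟩
    · exact ⟨a, ha, c, hc, hab'.symm, hbc, hac⟩
    · exact ⟨a, ha, b, hb, hac.symm, hbc.symm, hab'⟩
  have closed : ∀ p ∈ nb D d, ∀ x ∈ nb D p, ∀ y ∈ nb D x, y ∈ φ.range := by
    intro p hp x hx y hy
    by_cases hxd : x = d
    · exact rnd y (hxd ▸ hy)
    obtain ⟨q, hq, q', hq', h1, h2, h3⟩ := others p hp
    obtain ⟨A1, B1, C1⟩ := step p hp q hq h1 x hx hxd
    obtain ⟨A2, B2, C2⟩ := step p hp q' hq' h2 x hx hxd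
    have hm1 : q * p * q⁻¹ ∈ nb D d := by
      have h := nb_conj hconj q hp
      rwa [fixd q hq] at h
    have hm2 : q' * p * q'⁻¹ ∈ nb D d := by
      have h := nb_conj hconj q' hp
      rwa [fixd q' hq'] at h
    have hne2 : (q * d) * x * (q * d)⁻¹ ≠ (q' * d) * x * (q' * d)⁻¹ := by
      intro h
      apply h3
      have nx : ∀ r ∈ nb D d, p ≠ r → ¬ Commute x r := by
        intro r hr hpr hcr
        by_cases hxr : x = r
        · exact hnc hd hp hr hpr (hxr ▸ hx.2.2)
        · exact hxd (hB d hd p hp r hr hpr x hx ⟨hx.1, hxr, hcr.symm⟩)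
      rw [← hq.2.2.eq, ← hq'.2.2.eq] at h
      exact edge_inj hD hconj hloc1 hx.1 hq.1 hq'.1 (nx q hq h1) (nx q' hq' h2) h
    have hyy : y = p ∨ y = (q * d) * x * (q * d)⁻¹ ∨ y = (q' * d) * x * (q' * d)⁻¹ := by
      have h5 := fun {z : G} (hz : z ∈ nb D x) => three' hD hconj hloc1 hx.1 (nb_symm hp.1 hx) A1 C1.symm hz
      rcases h5 hy with h | h | h
      · exact Or.inl h
      · exact Or.inr (Or.inl h)
      · rcases h5 A2 with h6 | h6 | h6
        · exact absurd h6 C2
        · exact absurd h6.symm hne2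
        · exact Or.inr (Or.inr (h.trans h6.symm))
    rcases hyy with rfl | rfl | rfl
    · exact rnd _ hp
    · exact rn _ hm1 _ B1
    · exact rn _ hm2 _ B2
  have hall : ∀ g ∈ D, g ∈ φ.range := by
    intro g hg
    by_contra hgo
    have n0 : ¬ Commute g d := fun h => by
      by_cases hgd : g = d
      · exact hgo (hgd ▸ rd)
      · exact hgo (rnd g ⟨hg, hgd, h.symm⟩)
    have n1 : ∀ p ∈ nb D d, ¬ Commute g p := fun p hp h => by
      by_cases hgp : g = p
      · exact hgo (hgp ▸ rnd p hp)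
      · exact hgo (rn p hp g ⟨hg, hgp, h.symm⟩)
    have n2 : ∀ p ∈ nb D d, ∀ x ∈ nb D p, ¬ Commute g x := fun p hp x hx h => by
      by_cases hgx : g = x
      · exact hgo (hgx ▸ rn p hp x hx)
      · exact hgo (closed p hp x hx g ⟨hg, hgx, h.symm⟩)
    -- ten vertices
    have hf : d * e * d⁻¹ ∈ nb D a := by
      have h := nb_conj hconj d he
      rwa [fixd' a ha] at h
    set f := d * e * d⁻¹ with hf_def
    have hef : e ≠ f := fun h => hnc ha.1 (nb_symm hd ha) he hed.symm (by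
      show d * e = e * d
      exact mul_inv_eq_iff_eq_mul.1 h.symm)
    have hfd : f ≠ d := fun h => hed (mul_right_cancel
      (show e * d⁻¹ = d * d⁻¹ from mul_left_cancel (a := d) (by
        rw [← mul_assoc, ← hf_def, h, mul_inv_cancel, mul_one])))
    have cb : ∀ x ∈ nb D a, c * x * c⁻¹ ∈ nb D b := fun x hx => by
      have h := nb_conj hconj c hx
      rwa [cac] at h
    have bc : ∀ x ∈ nb D a, b * x * b⁻¹ ∈ nb D c := fun x hx => by
      have h := nb_conj hconj b hx
      rwa [bab] at h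
    set g₁ := c * e * c⁻¹ with hg1
    set g₂ := c * f * c⁻¹ with hg2
    set h₁ := b * e * b⁻¹ with hh1
    set h₂ := b * f * b⁻¹ with hh2
    have hg₁ : g₁ ∈ nb D b := cb e he
    have hg₂ : g₂ ∈ nb D b := cb f hf
    have hh₁ : h₁ ∈ nb D c := bc e he
    have hh₂ : h₂ ∈ nb D c := bc f hf
    have dd : ∀ w, d * (d * w * d⁻¹) * d⁻¹ = w := fun w => by
      rw [dinv, ← mul_assoc, ← mul_assoc, hinv hd, one_mul, mul_assoc, hinv hd, mul_one]
    have E1 : h₂ ∈ nb D e := by
      have h := (step a ha b hb hab' e he hed).1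
      rwa [show b * d * e * (b * d)⁻¹ = h₂ by rw [hh2, hf_def]; group] at h
    have E2 : g₂ ∈ nb D e := by
      have h := (step a ha c hc hac e he hed).1
      rwa [show c * d * e * (c * d)⁻¹ = g₂ by rw [hg2, hf_def]; group] at h
    have E3 : h₁ ∈ nb D f := by
      have h := (step a ha b hb hab' f hf hfd).1
      rwa [show b * d * f * (b * d)⁻¹ = h₁ by
        rw [hh1, ← dd e, ← hf_def]; group] at h
    have E4 : g₁ ∈ nb D f := by
      have h := (step a ha c hc hac f hf hfd).1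
      rwa [show c * d * f * (c * d)⁻¹ = g₁ by
        rw [hg1, ← dd e, ← hf_def]; group] at h
    have cbac : c * b = a * c := mul_inv_eq_iff_eq_mul.1 cbc
    have cross : ∀ x y, x ∈ nb D a → c * y * c⁻¹ ∈ nb D x → b * y * b⁻¹ ∈ nb D (c * x * c⁻¹) := by
      intro x y hx hy
      have h1 := nb_conj hconj a hy
      rw [show a * x * a⁻¹ = x by
        rw [hx.2.2.eq, mul_assoc, mul_inv_cancel, mul_one]] at h1
      have h2 := nb_conj hconj c h1
      rwa [show c * (a * (c * y * c⁻¹) * a⁻¹) * c⁻¹ = b * y * b⁻¹ by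
        calc c * (a * (c * y * c⁻¹) * a⁻¹) * c⁻¹ = (c * (a * c)) * y * (c * (a * c))⁻¹ := by group
          _ = _ := by rw [← cbac, ← mul_assoc, hinv hc.1, one_mul]] at h2
    have E5 : h₂ ∈ nb D g₁ := cross e f he E2
    have E6 : h₁ ∈ nb D g₂ := cross f e hf E4
    -- colours
    let Kc : G → G → G := fun x y => (x * y) * g * (x * y)⁻¹
    have mk : ∀ {x y}, x ∈ D → y ∈ nb D x → ¬ Commute g x → ¬ Commute g y → Kc x y ∈ nb D g :=
      fun hx hy h1 h2 => edge_mem hD hconj hloc1 hg hx hy.1 hy.2.2 hy.2.1.symm h1 h2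
    obtain ⟨p₀, hp₀, q₀, hq₀, hpq₀⟩ := exists_pair hD hconj hloc1 hg
    let col : G → Fin 3 := fun w => if w = p₀ then 0 else if w = q₀ then 1 else 2
    have colinj : ∀ u ∈ nb D g, ∀ v ∈ nb D g, col u = col v → u = v := by
      have hne' : q₀ ≠ p₀ := fun h => hpq₀ (h ▸ Commute.refl _)
      have hr1 : p₀ * q₀ * p₀ ≠ p₀ := fun h => hne' (by
        have := mul_right_cancel (h.trans (one_mul p₀).symm)
        rw [← inv_self hD hp₀.1]; exact eq_inv_of_mul_eq_one_right this)
      have hr2 : p₀ * q₀ * p₀ ≠ q₀ := fun h => hpq₀ (by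
        show p₀ * q₀ = q₀ * p₀
        nth_rw 2 [← h]
        rw [mul_assoc, hinv hp₀.1, mul_one])
      intro u hu v hv huv
      rcases three hD hconj hloc1 hg hp₀ hq₀ hpq₀ hu with rfl | rfl | rfl <;>
        rcases three hD hconj hloc1 hg hp₀ hq₀ hpq₀ hv with rfl | rfl | rfl <;>
        simp [col, hne', hne'.symm, hr1, hr1.symm, hr2, hr2.symm] at huv ⊢
    have dist : ∀ {x y z}, x ∈ D → y ∈ nb D x → z ∈ nb D x → ¬ Commute g x → ¬ Commute g y →
        ¬ Commute g z → y ≠ z → col (Kc x y) ≠ col (Kc x z) := by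
      intro x y z hx hy hz h1 h2 h3 hyz h
      exact hyz (edge_inj hD hconj hloc1 hg hy.1 hz.1 h2 h3
        (colinj _ (mk hx hy h1 h2) _ (mk hx hz h1 h3) h))
    have sym : ∀ {x y}, Commute x y → col (Kc x y) = col (Kc y x) := fun h => by
      show col ((_ * _) * g * (_ * _)⁻¹) = _
      rw [h.eq]
    have nne : ∀ {x y z}, y ∈ nb D x → ¬ Commute z x → y ≠ z := fun hy h h' => h (h' ▸ hy.2.2.symm)
    have na := n1 a ha
    have nb' := n1 b hb
    have nc := n1 c hc
    have ne_ := n2 a ha e he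
    have nf := n2 a ha f hf
    have ng1 := n2 b hb g₁ hg₁
    have ng2 := n2 b hb g₂ hg₂
    have nh1 := n2 c hc h₁ hh₁
    have nh2 := n2 c hc h₂ hh₂
    have da := nb_symm hd ha
    have db := nb_symm hd hb
    have dc := nb_symm hd hc
    have g12 : g₁ ≠ g₂ := fun h => hef (mul_left_cancel (mul_right_cancel h))
    have h12 : h₁ ≠ h₂ := fun h => hef (mul_left_cancel (mul_right_cancel h))
    have g1d : g₁ ≠ d := fun h => hed (mul_left_cancel (mul_right_cancel (h.trans (fixd c hc).symm)))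
    have g2d : g₂ ≠ d := fun h => hfd (mul_left_cancel (mul_right_cancel (h.trans (fixd c hc).symm)))
    have h1d : h₁ ≠ d := fun h => hed (mul_left_cancel (mul_right_cancel (h.trans (fixd b hb).symm)))
    have h2d : h₂ ≠ d := fun h => hfd (mul_left_cancel (mul_right_cancel (h.trans (fixd b hb).symm)))
    have ba_ne : ∀ x, x ∈ nb D b → x ≠ a := fun x hx h => hab (h ▸ hx.2.2).symm
    have ca_ne : ∀ x, x ∈ nb D c → x ≠ a := fun x hx h => hnc hd ha hc hac (h ▸ hx.2.2).symm
    have cb_ne : ∀ x, x ∈ nb D c → x ≠ b := fun x hx h => hnc hd hb hc hbc (h ▸ hx.2.2).symm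
    have g_h : ∀ x y, x ∈ nb D b → y ∈ nb D c → x ≠ d → x ≠ y := fun x y hx hy hxd h =>
      hxd (hB d hd b hb c hc hbc x hx (h ▸ hy))
    have e_g : ∀ x y, x ∈ nb D a → y ∈ nb D b → x ≠ d → x ≠ y := fun x y hx hy hxd h =>
      hxd (hB d hd a ha b hb hab' x hx (h ▸ hy))
    have e_h : ∀ x y, x ∈ nb D a → y ∈ nb D c → x ≠ d → x ≠ y := fun x y hx hy hxd h =>
      hxd (hB d hd a ha c hc hac x hx (h ▸ hy))
    have eS := nb_symm ha.1 he
    have fS := nb_symm ha.1 hf
    have g1S := nb_symm hb.1 hg₁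
    have g2S := nb_symm hb.1 hg₂
    have h1S := nb_symm hc.1 hh₁
    have h2S := nb_symm hc.1 hh₂
    have E1s := nb_symm he.1 E1
    have E2s := nb_symm he.1 E2
    have E3s := nb_symm hf.1 E3
    have E4s := nb_symm hf.1 E4
    have E5s := nb_symm hg₁.1 E5
    have E6s := nb_symm hg₂.1 E6
    refine colouring (col (Kc d a)) (col (Kc d b)) (col (Kc d c)) ?_ ?_ ?_
      (col (Kc a e)) ?_ (col (Kc a f)) ?_ ?_
      (col (Kc b g₁)) ?_ (col (Kc b g₂)) ?_ ?_
      (col (Kc c h₁)) ?_ (col (Kc c h₂)) ?_ ?_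
      (col (Kc e h₂)) ?_ ?_ (col (Kc e g₂)) ?_ ?_ ?_
      (col (Kc f h₁)) ?_ ?_ (col (Kc f g₁)) ?_ ?_ ?_
      (col (Kc g₁ h₂)) ?_ ?_ ?_ ?_ (col (Kc g₂ h₁)) ?_ ?_ ?_ ?_
    · exact dist hd ha hb n0 na nb' hab'
    · exact dist hd hb hc n0 nb' nc hbc
    · exact dist hd ha hc n0 na nc hac
    · rw [sym (x := d) ha.2.2]; exact dist ha.1 he da na ne_ n0 hed
    · rw [sym (x := d) ha.2.2]; exact dist ha.1 hf da na nf n0 hfd
    · exact dist ha.1 hf he na nf ne_ hef.symm
    · rw [sym (x := d) hb.2.2]; exact dist hb.1 hg₁ db nb' ng1 n0 g1d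
    · rw [sym (x := d) hb.2.2]; exact dist hb.1 hg₂ db nb' ng2 n0 g2d
    · exact dist hb.1 hg₂ hg₁ nb' ng2 ng1 g12.symm
    · rw [sym (x := d) hc.2.2]; exact dist hc.1 hh₁ dc nc nh1 n0 h1d
    · rw [sym (x := d) hc.2.2]; exact dist hc.1 hh₂ dc nc nh2 n0 h2d
    · exact dist hc.1 hh₂ hh₁ nc nh2 nh1 h12.symm
    · rw [sym (x := a) he.2.2]; exact dist he.1 E1 eS ne_ nh2 na (ca_ne _ hh₂)
    · rw [sym (x := e) E1.2.2, sym (x := c) hh₂.2.2]
      exact dist hh₂.1 E1s h2S nh2 ne_ nc (fun h => hnc hd ha hc hac (h ▸ he.2.2))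
    · rw [sym (x := a) he.2.2]; exact dist he.1 E2 eS ne_ ng2 na (ba_ne _ hg₂)
    · exact dist he.1 E2 E1 ne_ ng2 nh2 (g_h _ _ hg₂ hh₂ g2d)
    · rw [sym (x := e) E2.2.2, sym (x := b) hg₂.2.2]
      exact dist hg₂.1 E2s g2S ng2 ne_ nb' (fun h => hab (h ▸ he.2.2))
    · rw [sym (x := a) hf.2.2]; exact dist hf.1 E3 fS nf nh1 na (ca_ne _ hh₁)
    · rw [sym (x := f) E3.2.2, sym (x := c) hh₁.2.2]
      exact dist hh₁.1 E3s h1S nh1 nf nc (fun h => hnc hd ha hc hac (h ▸ hf.2.2))
    · rw [sym (x := a) hf.2.2]; exact dist hf.1 E4 fS nf ng1 na (ba_ne _ hg₁)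
    · exact dist hf.1 E4 E3 nf ng1 nh1 (g_h _ _ hg₁ hh₁ g1d)
    · rw [sym (x := f) E4.2.2, sym (x := b) hg₁.2.2]
      exact dist hg₁.1 E4s g1S ng1 nf nb' (fun h => hab (h ▸ hf.2.2))
    · rw [sym (x := b) hg₁.2.2]; exact dist hg₁.1 E5 g1S ng1 nh2 nb' (cb_ne _ hh₂)
    · rw [sym (x := f) E4.2.2]; exact dist hg₁.1 E5 E4s ng1 nh2 nf (e_h _ _ hf hh₂ hfd).symm
    · rw [sym (x := g₁) E5.2.2, sym (x := c) hh₂.2.2]
      exact dist hh₂.1 E5s h2S nh2 ng1 nc (fun h => hnc hd hb hc hbc (h ▸ hg₁.2.2))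
    · rw [sym (x := g₁) E5.2.2, sym (x := e) E1.2.2]
      exact dist hh₂.1 E5s E1s nh2 ng1 ne_ (e_g _ _ he hg₁ hed).symm
    · rw [sym (x := b) hg₂.2.2]; exact dist hg₂.1 E6 g2S ng2 nh1 nb' (cb_ne _ hh₁)
    · rw [sym (x := e) E2.2.2]; exact dist hg₂.1 E6 E2s ng2 nh1 ne_ (e_h _ _ he hh₁ hed).symm
    · rw [sym (x := g₂) E6.2.2, sym (x := c) hh₁.2.2]
      exact dist hh₁.1 E6s h1S nh1 ng2 nc (fun h => hnc hd hb hc hbc (h ▸ hg₂.2.2))
    · rw [sym (x := g₂) E6.2.2, sym (x := f) E3.2.2]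
      exact dist hh₁.1 E6s E3s nh1 ng2 nf (e_g _ _ hf hg₂ hfd).symm
  have hrange : φ.range = Subgroup.closure D := by
    refine le_antisymm ?_ ((Subgroup.closure_le _).2 hall)
    rintro _ ⟨σ, rfl⟩
    induction σ using cs.simple_induction with
    | simple i =>
      rw [hφ]
      apply Subgroup.subset_closure
      fin_cases i
      · exact hd
      · exact hsD
      · exact ha.1
      · exact hb.1
    | one => rw [map_one]; exact one_mem _
    | mul x y hx hy => rw [map_mul]; exact mul_mem hx hy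
  have hker : φ.ker = ⊥ := by
    by_contra hk
    have hle : alternatingGroup (Fin 5) ≤ φ.ker :=
      Equiv.Perm.alternatingGroup_le_of_normal (by simp) ((Subgroup.nontrivial_iff_ne_bot _).2 hk)
    have h01 : cs.simple 0 * cs.simple 1 ∈ alternatingGroup (Fin 5) := by
      rw [Equiv.Perm.mem_alternatingGroup, map_mul, hcs, hcs, Equiv.Perm.sign_swap (by decide), Equiv.Perm.sign_swap (by decide)]
      decide
    have h := hle h01
    rw [MonoidHom.mem_ker, map_mul, hφ, hφ] at h
    exact nds (by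
      have h' : d = s⁻¹ := eq_inv_of_mul_eq_one_left h
      rw [inv_self hD hsD] at h'
      rw [h'])
  exact ⟨(MulEquiv.subgroupCongr hrange.symm).trans
    (MonoidHom.ofInjective ((MonoidHom.ker_eq_bot_iff φ).1 hker)).symm⟩

/-- Let D be a non-empty conjugation-invariant set of involutions of a finite group G satisfying the 3-transposition order conditions, and suppose that for every d in D the members of D other than d commuting with d generate a subgroup isomorphic to the symmetric group of degree 3, and the largest normal 3-subgroup of the centralizer of d has order 3. Then the subgroup generated by D is isomorphic to the symmetric group of degree 5 or to the direct product of two symmetric groups of degree 3. -/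
theorem result {G : Type*} [Group G] [Finite G] {D : Set G} (hD : Cfsg.IsThreeTranspositionSet D) (hconj : ∀ g : G, ∀ d ∈ D, g * d * g⁻¹ ∈ D) (hne : D.Nonempty) (hloc : ∀ d ∈ D, Nonempty (↥(Subgroup.closure {y : G | y ∈ D ∧ y ≠ d ∧ Commute d y}) ≃* Equiv.Perm (Fin 3)) ∧ Nat.card (Cfsg.pCore 3 ↥(Subgroup.centralizer ({d} : Set G))) = 3) : Nonempty (↥(Subgroup.closure D) ≃* Equiv.Perm (Fin 5)) ∨ Nonempty (↥(Subgroup.closure D) ≃* Equiv.Perm (Fin 3) × Equiv.Perm (Fin 3)) := by
  have hloc1 : ∀ d ∈ D, Nonempty (↥(Subgroup.closure (nb D d)) ≃* Equiv.Perm (Fin 3)) :=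
    fun d hd => (hloc d hd).1
  by_cases hK : ∃ d ∈ D, ∃ a ∈ nb D d, ∃ b ∈ nb D d, a ≠ b ∧ ∃ e, e ≠ d ∧ e ∈ nb D a ∧ e ∈ nb D b
  · exact Or.inr (caseA hD hconj hloc1 (fun d hd => (hloc d hd).2) hK)
  · exact Or.inl (caseB hD hconj hne hloc1 (fun d hd a ha b hb hab e he h1 h2 =>
      hK ⟨d, hd, a, ha, b, hb, hab, e, he, h1, h2⟩))


end Cfsg.Agent.S5365
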