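import Cfsg.Statements.S5366

set_option autoImplicit false
open Cfsg

namespace Cfsg.Agent.S5366

open Cfsg.LineSystem

section

variable {X : Type*} {L : Set (Set X)}

theorem three_of_mem {l : Set X} (h : l.ncard = 3) {x : X} (hx : x ∈ l) :
    ∃ y z, y ∈ l ∧ z ∈ l ∧ x ≠ y ∧ x ≠ z ∧ y ≠ z ∧ l = {x, y, z} := by
  obtain ⟨a, b, c, hab, hac, hbc, rfl⟩ := Set.ncard_eq_three.mp h
  rcases hx with rfl | rfl | rfl
  · exact ⟨b, c, by simp, by simp, hab, hac, hbc, rfl⟩
  · exact ⟨a, c, by simp, by simp, hab.symm, hbc, hac, by rw [Set.insert_comm]⟩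
  · refine ⟨a, b, by simp, by simp, hac.symm, hbc.symm, hab, ?_⟩
    ext w; simp; tauto

theorem lineMap_eq (hPL : IsPartialLinear L) (h3 : ∀ l ∈ L, l.ncard = 3) {x y z : X}
    (hxy : x ≠ y) (hxz : x ≠ z) (hyz : y ≠ z) (h : ({x, y, z} : Set X) ∈ L) :
    lineMap L x y = z := by
  have hex : ∃ z : X, z ≠ x ∧ z ≠ y ∧ x ≠ y ∧ ({x, y, z} : Set X) ∈ L :=
    ⟨z, hxz.symm, hyz.symm, hxy, h⟩
  unfold lineMap
  simp only [dif_pos hex]
  obtain ⟨h1, h2, -, h4⟩ := hex.choose_spec
  have heq := hPL _ h _ h4 x y hxy (by simp) (by simp) (by simp) (by simp)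
  have hmem : hex.choose ∈ ({x, y, z} : Set X) := by rw [heq]; simp
  simpa [h1, h2] using hmem

theorem lineMap_of_not {x y : X} (h : ¬ ∃ z : X, z ≠ x ∧ z ≠ y ∧ x ≠ y ∧ ({x, y, z} : Set X) ∈ L) :
    lineMap L x y = y := by
  unfold lineMap
  simp only [dif_neg h]

theorem lineMap_spec (hPL : IsPartialLinear L) (h3 : ∀ l ∈ L, l.ncard = 3) {x y : X}
    (h : lineMap L x y ≠ y) :
    y ≠ x ∧ lineMap L x y ≠ x ∧ lineMap L x y ≠ y ∧ ({x, y, lineMap L x y} : Set X) ∈ L := by
  by_cases hex : ∃ z : X, z ≠ x ∧ z ≠ y ∧ x ≠ y ∧ ({x, y, z} : Set X) ∈ L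
  · obtain ⟨z, hzx, hzy, hxy, hl⟩ := hex
    rw [lineMap_eq hPL h3 hxy hzx.symm hzy.symm hl]
    exact ⟨hxy.symm, hzx, hzy, hl⟩
  · exact absurd (lineMap_of_not hex) h

theorem lineMap_invol (hPL : IsPartialLinear L) (h3 : ∀ l ∈ L, l.ncard = 3) (x w : X) :
    lineMap L x (lineMap L x w) = w := by
  by_cases h : lineMap L x w = w
  · rw [h, h]
  · obtain ⟨hwx, hzx, hzw, hl⟩ := lineMap_spec hPL h3 h
    exact lineMap_eq hPL h3 hzx.symm hwx.symm hzw (by rwa [Set.pair_comm (lineMap L x w) w])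

theorem lineMap_equivariant (hPL : IsPartialLinear L) (h3 : ∀ l ∈ L, l.ncard = 3)
    {σ : Equiv.Perm X} (hσ : IsIso L L σ) (y w : X) :
    lineMap L (σ y) (σ w) = σ (lineMap L y w) := by
  have himg : ∀ a b c : X, σ '' ({a, b, c} : Set X) = {σ a, σ b, σ c} := fun a b c => by
    simp [Set.image_insert_eq]
  by_cases h : lineMap L y w = w
  · rw [h]
    by_contra hne
    obtain ⟨hwy, hzy, hzw, hl⟩ := lineMap_spec hPL h3 hne
    set z := σ.symm (lineMap L (σ y) (σ w)) with hz
    have hσz : σ z = lineMap L (σ y) (σ w) := σ.apply_symm_apply _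
    rw [← hσz] at hzy hzw hl
    rw [← himg, ← hσ] at hl
    have := lineMap_eq hPL h3 (fun e => hwy (congrArg σ e).symm)
      (fun e => hzy (congrArg σ e).symm) (fun e => hzw (congrArg σ e).symm) hl
    exact hzw (by rw [← this, h])
  · obtain ⟨hwy, hzy, hzw, hl⟩ := lineMap_spec hPL h3 h
    rw [hσ, himg] at hl
    exact lineMap_eq hPL h3 (σ.injective.ne hwy.symm) (σ.injective.ne hzy.symm)
      (σ.injective.ne hzw.symm) hl

/-- In a plane the reflection in a point maps a line not through the point to a line. -/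
def PlaneClosed {P : Type*} (M : Set (Set P)) : Prop :=
  ∀ p : P, ∀ n ∈ M, p ∉ n → ∃ τ : P → P, τ '' n ∈ M ∧
    ∀ q ∈ n, (τ q ≠ q ∧ τ q ≠ p ∧ ({p, q, τ q} : Set P) ∈ M) ∨
      (τ q = q ∧ ∀ k ∈ M, p ∈ k → q ∉ k)

theorem closed_affine : PlaneClosed Cfsg.affinePlaneThree := by
  rintro p n ⟨v, w, hw, rfl⟩ hp
  refine ⟨fun q => -p - q, ⟨-p - v, -w, neg_ne_zero.mpr hw, ?_⟩, fun q hq => Or.inl ?_⟩
  · ext x
    constructor
    · rintro ⟨_, ⟨c, rfl⟩, rfl⟩
      exact ⟨c, by simp [smul_neg]; abel⟩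
    · rintro ⟨c, rfl⟩
      exact ⟨v + c • w, ⟨c, rfl⟩, by simp [smul_neg]; abel⟩
  · have hqp : q ≠ p := fun e => hp (e ▸ hq)
    have hz : ∀ a b : ZMod 3, (-a - b = b → b = a) ∧ (-a - b = a → b = a) := by decide
    refine ⟨fun e => hqp (funext fun i => (hz _ _).1 ?_), fun e => hqp (funext fun i => (hz _ _).2 ?_),
      p, q - p, sub_ne_zero.mpr hqp, ?_⟩
    · simpa using congrFun e i
    · simpa using congrFun e i
    · have e3 : p + (2 : ZMod 3) • (q - p) = -p - q := by
        funext i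
        simp only [Pi.sub_apply, Pi.neg_apply, Pi.add_apply, Pi.smul_apply, smul_eq_mul]
        exact (show ∀ a b : ZMod 3, a + 2 * (b - a) = -a - b by decide) _ _
      ext x
      simp only [Set.mem_insert_iff, Set.mem_singleton_iff]
      constructor
      · rintro (rfl | rfl | rfl)
        · exact ⟨0, by simp⟩
        · exact ⟨1, by simp⟩
        · exact ⟨2, e3.symm⟩
      · rintro ⟨c, rfl⟩
        rcases (show ∀ c : ZMod 3, c = 0 ∨ c = 1 ∨ c = 2 by decide) c with rfl | rfl | rfl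
        · left; simp
        · right; left; simp
        · right; right; exact e3

/-- The permutation of points of the dual plane attached to a point. -/
def dualRefl (p q : Cfsg.DualAffinePoint) : Cfsg.DualAffinePoint :=
  if h : (p.val ∩ q.val).card = 1 ∧ (symmDiff p.val q.val).card = 2 then ⟨_, h.2⟩ else q

theorem dual_check1 : ∀ (p : Cfsg.DualAffinePoint) (i : Fin 4), i ∈ p.val →
    ∃ j : Fin 4, ∀ r : Cfsg.DualAffinePoint,
      j ∉ r.val ↔ ∃ q : Cfsg.DualAffinePoint, i ∉ q.val ∧ dualRefl p q = r := by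
  decide +kernel

theorem dual_check2 : ∀ (p : Cfsg.DualAffinePoint) (q : Cfsg.DualAffinePoint), p ≠ q →
    (dualRefl p q ≠ q ∧ dualRefl p q ≠ p ∧ ∃ i : Fin 4, ∀ r : Cfsg.DualAffinePoint,
        i ∉ r.val ↔ r = p ∨ r = q ∨ r = dualRefl p q) ∨
      (dualRefl p q = q ∧ ∀ i : Fin 4, i ∉ p.val → i ∈ q.val) := by
  decide +kernel

theorem closed_dual : PlaneClosed Cfsg.dualAffinePlaneTwo := by
  rintro p n ⟨i, rfl⟩ hp
  have hip : i ∈ p.val := Classical.not_not.mp hp
  obtain ⟨j, hj⟩ := dual_check1 p i hip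
  refine ⟨dualRefl p, ⟨j, ?_⟩, fun q hq => ?_⟩
  · ext r
    exact (hj r).symm
  · rcases dual_check2 p q (fun e => hq (e ▸ hip)) with ⟨h1, h2, k, hk⟩ | ⟨h1, h2⟩
    · exact Or.inl ⟨h1, h2, k, Set.ext fun r => (hk r).symm⟩
    · refine Or.inr ⟨h1, ?_⟩
      rintro _ ⟨k, rfl⟩ hpk hqk
      exact hqk (h2 k hpk)

theorem image_in_plane (hPL : IsPartialLinear L) (h3 : ∀ l ∈ L, l.ncard = 3) {P : Type*}
    {M : Set (Set P)} (hM : PlaneClosed M) {S : Set X} (hS : IsSubspace L S)
    (hiso : Isomorphic (restrict L S) M) {x : X} {l : Set X} (hl : l ∈ L) (hx : x ∈ S)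
    (hlS : l ⊆ S) (hxl : x ∉ l) : lineMap L x '' l ∈ L := by
  obtain ⟨e, he⟩ := hiso
  set p := e ⟨x, hx⟩ with hp
  set n := e '' {s : S | (s : X) ∈ l} with hn
  have hnM : n ∈ M := (he _).mp ⟨l, hl, hlS, rfl⟩
  have hpn : p ∉ n := fun h => hxl ((e.injective.mem_set_image).mp h)
  obtain ⟨τ, hτ, hpt⟩ := hM p n hnM hpn
  have back : ∀ k ∈ M, (Subtype.val '' (e ⁻¹' k)) ∈ L := by
    intro k hk
    rw [← e.image_preimage k] at hk
    obtain ⟨l', hl', hl'S, hk'⟩ := (he _).mpr hk
    rw [hk']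
    convert hl' using 1
    ext w
    exact ⟨fun ⟨s, hs, hw⟩ => hw ▸ hs, fun hw => ⟨⟨w, hl'S hw⟩, hw, rfl⟩⟩
  have key : ∀ (w : X) (hw : w ∈ l),
      lineMap L x w = (e.symm (τ (e ⟨w, hlS hw⟩)) : X) := by
    intro w hw
    set q := e ⟨w, hlS hw⟩ with hq
    have hqn : q ∈ n := ⟨_, hw, rfl⟩
    have hxw : x ≠ w := fun e' => hxl (e' ▸ hw)
    rcases hpt q hqn with ⟨h1, h2, hk⟩ | ⟨h1, hk⟩
    · have hz := back _ hk
      have hset : Subtype.val '' (e ⁻¹' {p, q, τ q}) = ({x, w, (e.symm (τ q) : X)} : Set X) := by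
        rw [← Equiv.image_symm_eq_preimage]
        simp [Set.image_insert_eq, hp, hq]
      rw [hset] at hz
      refine lineMap_eq hPL h3 hxw (fun e' => h2 ?_) (fun e' => h1 ?_) hz
      · rw [hp, show (⟨x, hx⟩ : S) = e.symm (τ q) from Subtype.ext e', Equiv.apply_symm_apply]
      · conv_rhs => rw [hq, show (⟨w, hlS hw⟩ : S) = e.symm (τ q) from Subtype.ext e',
          Equiv.apply_symm_apply]
    · rw [h1, hq, Equiv.symm_apply_apply]
      refine lineMap_of_not ?_
      rintro ⟨z, hzx, hzw, -, hlz⟩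
      have hsub := hS _ hlz x hx w (hlS hw) hxw (by simp) (by simp)
      refine hk _ ((he _).mp ⟨_, hlz, hsub, rfl⟩) ?_ ?_
      · exact (e.injective.mem_set_image).mpr (by simp)
      · exact (e.injective.mem_set_image).mpr (by simp)
  have : lineMap L x '' l = Subtype.val '' (e ⁻¹' (τ '' n)) := by
    ext z
    constructor
    · rintro ⟨w, hw, rfl⟩
      refine ⟨e.symm (τ (e ⟨w, hlS hw⟩)), ?_, (key w hw).symm⟩
      show e (e.symm _) ∈ τ '' n
      rw [Equiv.apply_symm_apply]
      exact ⟨_, ⟨_, hw, rfl⟩, rfl⟩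
    · rintro ⟨s, ⟨_, ⟨⟨w, hwS⟩, hw, rfl⟩, hs⟩, rfl⟩
      refine ⟨w, hw, (key w hw).trans ?_⟩
      rw [hs, Equiv.symm_apply_apply]
  rw [this]
  exact back _ hτ

theorem lineMap_image (hL : Cfsg.IsFischerSpace L) (x : X) (l : Set X) (hl : l ∈ L) :
    lineMap L x '' l ∈ L := by
  obtain ⟨hPL, h3, hplane⟩ := hL
  by_cases hxl : x ∈ l
  · obtain ⟨y, z, -, -, hxy, hxz, hyz, rfl⟩ := three_of_mem (h3 l hl) hxl
    have h1 := lineMap_eq hPL h3 hxy hxz hyz hl
    have h2 : lineMap L x z = y := lineMap_eq hPL h3 hxz hxy hyz.symm (by rwa [Set.pair_comm z y])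
    have h0 : lineMap L x x = x := lineMap_of_not (fun ⟨_, _, _, h, _⟩ => h rfl)
    rw [Set.image_insert_eq, Set.image_insert_eq, Set.image_singleton, h0, h1, h2, Set.pair_comm]
    exact hl
  by_cases hcol : ∃ y ∈ l, lineMap L x y ≠ y
  · obtain ⟨y, hy, hne⟩ := hcol
    obtain ⟨-, -, -, hm⟩ := lineMap_spec hPL h3 hne
    set m : Set X := {x, y, lineMap L x y} with hmdef
    have hsub : IsSubspace L (span L (l ∪ m)) := fun k hk a ha b hb hab hak hbk =>
      Set.subset_sInter fun T hT => hT.2 k hk a (ha T hT) b (hb T hT) hab hak hbk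
    have hle : l ∪ m ⊆ span L (l ∪ m) := Set.subset_sInter fun T hT => hT.1
    have hlne : l ≠ m := fun e => hxl (e ▸ by simp [hmdef])
    rcases hplane l hl m hm hlne ⟨y, hy, by simp [hmdef]⟩ with h | h
    · exact image_in_plane hPL h3 closed_dual hsub h hl (hle (Or.inr (by simp [hmdef])))
        (fun w hw => hle (Or.inl hw)) hxl
    · exact image_in_plane hPL h3 closed_affine hsub h hl (hle (Or.inr (by simp [hmdef])))
        (fun w hw => hle (Or.inl hw)) hxl
  · push Not at hcol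
    rw [Set.image_congr hcol, Set.image_id']
    exact hl

end

/-- Let L be a nondegenerate Fischer space on the point type X (every point on a line). Then for every point x the map t(x) — sending a point collinear with x to the third point of their common line and fixing every other point — is a permutation of X of order 2 and an automorphism of the line system; and the set of all t(x) satisfies the 3-transposition order conditions in the permutation group of X (any two have product of order at most 3). -/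
theorem result {X : Type*} (L : Set (Set X)) (hL : Cfsg.IsFischerSpace L) (hnd : Cfsg.LineSystem.IsNondegenerate L) : (∀ x : X, ∃ σ : Equiv.Perm X, ⇑σ = Cfsg.LineSystem.lineMap L x ∧ orderOf σ = 2 ∧ Cfsg.LineSystem.IsIso L L σ) ∧ Cfsg.IsThreeTranspositionSet {σ : Equiv.Perm X | ∃ x : X, ⇑σ = Cfsg.LineSystem.lineMap L x} := by
  have hPL := hL.1
  have h3 := hL.2.1
  let T : X → Equiv.Perm X := fun x =>
    { toFun := lineMap L x
      invFun := lineMap L x
      left_inv := lineMap_invol hPL h3 x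
      right_inv := lineMap_invol hPL h3 x }
  have hT : ∀ x, (T x : X → X) = lineMap L x := fun x => rfl
  have hT2 : ∀ x, T x * T x = 1 := fun x => Equiv.ext fun w => lineMap_invol hPL h3 x w
  have hiso : ∀ x, Cfsg.LineSystem.IsIso L L (T x) := by
    intro x l
    constructor
    · exact fun hl => lineMap_image hL x l hl
    · intro hl
      have := lineMap_image hL x _ hl
      rwa [hT, Set.image_image, show (fun w => lineMap L x (lineMap L x w)) = id from
        funext (lineMap_invol hPL h3 x), Set.image_id] at this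
  have hord : ∀ x, orderOf (T x) = 2 := by
    intro x
    refine orderOf_eq_prime (by rw [pow_two]; exact hT2 x) fun h => ?_
    obtain ⟨l, hl, hxl⟩ := hnd x
    obtain ⟨y, z, hy, hz, hxy, hxz, hyz, hlxyz⟩ := three_of_mem (h3 l hl) hxl
    have h1 : T x y = z := lineMap_eq hPL h3 hxy hxz hyz (hlxyz ▸ hl)
    rw [h, Equiv.Perm.one_apply] at h1
    exact hyz h1
  refine ⟨fun x => ⟨T x, hT x, hord x, hiso x⟩, ?_, ?_⟩
  · rintro σ ⟨x, hx⟩
    rw [show σ = T x from Equiv.ext fun w => congrFun hx w]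
    exact hord x
  · rintro σ ⟨x, hx⟩ τ ⟨y, hy⟩
    rw [show σ = T x from Equiv.ext fun w => congrFun hx w,
      show τ = T y from Equiv.ext fun w => congrFun hy w]
    have hconj : ∀ x y, T x * T y * T x = T (T x y) := by
      intro x y
      refine Equiv.ext fun w => ?_
      show lineMap L x (lineMap L y (lineMap L x w)) = lineMap L (lineMap L x y) w
      have key := lineMap_equivariant hPL h3 (hiso x) y (lineMap L x w)
      rw [hT, lineMap_invol hPL h3 x w] at key
      exact key.symm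
    have hsq := fun x => hT2 x
    by_cases hcol : lineMap L x y = y
    · left
      have h1 := hconj x y
      rw [hT, hcol] at h1
      rw [pow_two, show T x * T y * (T x * T y) = T x * T y * T x * T y by simp only [mul_assoc],
        h1, hsq]
    · right
      have h1 := hconj x y
      have h2 := hconj y x
      obtain ⟨hyx, hzx, hzy, hline⟩ := lineMap_spec hPL h3 hcol
      have hsym : lineMap L y x = lineMap L x y :=
        lineMap_eq hPL h3 hyx hzy.symm hzx.symm (by rwa [Set.insert_comm] at hline)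
      rw [hT] at h1 h2
      rw [hsym, ← h1] at h2
      calc (T x * T y) ^ 3 = T x * T y * T x * (T y * T x * T y) := by
            rw [pow_succ, pow_two]; simp only [mul_assoc]
        _ = T x * T y * T x * (T x * T y * T x) := by rw [h2]
        _ = T x * T y * (T x * T x) * T y * T x := by simp only [mul_assoc]
        _ = 1 := by rw [hsq, mul_one, mul_assoc _ (T y) (T y), hsq, mul_one, hsq]

end Cfsg.Agent.S5366
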