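import Cfsg.Statements.S5367
import Cfsg.Agent.Lib.ThreeTrans

set_option autoImplicit false
open Cfsg

namespace Cfsg.Agent.S5367

open Cfsg.Agent.ThreeTrans

section

variable {G : Type*} [Group G] {D : Set G}

theorem line_of_two (hset : Cfsg.IsThreeTranspositionSet D)
    {l : Set D} (hl : l ∈ Cfsg.threeTranspositionLines D)
    {x y : D} (hx : x ∈ l) (hy : y ∈ l) (hxy : x ≠ y) :
    ¬ Commute (x : G) y ∧
      l = {z : D | (z : G) = x ∨ (z : G) = y ∨ (z : G) = (y : G) * x * y} := by
  obtain ⟨p, q, hpq, rfl⟩ := hl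
  have hqi : (q : G)⁻¹ = q := inv_self hset q.2
  have hpp := mul_self hset p.2
  have hqq := mul_self hset q.2
  have hbr := braid hset p.2 q.2 hpq
  simp only [Set.mem_setOf_eq, hqi] at hx hy ⊢
  -- the six possible ordered pairs
  have hr1 : ¬ Commute (p : G) (q * p * q) := by
    intro h
    rw [← hbr] at h
    apply hpq
    have h2 := (Commute.conj_iff (p : G)).mpr h
    rw [inv_self hset p.2] at h2
    have e1 : (p : G) * p * p = p := by rw [hpp, one_mul]
    have e2 : (p : G) * (p * q * p) * p = q := by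
      simp only [mul_assoc]; rw [hpp, mul_one, ← mul_assoc, hpp, one_mul]
    rwa [e1, e2] at h2
  have hr2 : ¬ Commute (q : G) (q * p * q) := by
    intro h
    apply hpq
    have h2 := (Commute.conj_iff (q : G)).mpr h
    rw [hqi] at h2
    have e1 : (q : G) * q * q = q := by rw [hqq, one_mul]
    have e2 : (q : G) * (q * p * q) * q = p := by
      simp only [mul_assoc]; rw [hqq, mul_one, ← mul_assoc, hqq, one_mul]
    rw [e1, e2] at h2
    exact h2.symm
  have e3 : (q * p * q : G) * p * (q * p * q) = q := by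
    calc (q * p * q : G) * p * (q * p * q) = (p * q * p) * p * (p * q * p) := by rw [hbr]
      _ = p * q * (p * p) * (p * q * p) := by simp only [mul_assoc]
      _ = p * (q * p * q) * p := by rw [hpp, mul_one]; simp only [mul_assoc]
      _ = p * (p * q * p) * p := by rw [hbr]
      _ = q := by simp only [mul_assoc]; rw [hpp, mul_one, ← mul_assoc, hpp, one_mul]
  have e4 : (q * p * q : G) * q * (q * p * q) = p := by
    calc (q * p * q : G) * q * (q * p * q) = q * p * (q * q) * q * p * q := by simp only [mul_assoc]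
      _ = q * (p * q * p) * q := by rw [hqq, mul_one]; simp only [mul_assoc]
      _ = q * (q * p * q) * q := by rw [hbr]
      _ = p := by simp only [mul_assoc]; rw [hqq, mul_one, ← mul_assoc, hqq, one_mul]
  have e5 : (p : G) * (q * p * q) * p = q := by
    rw [← hbr]; simp only [mul_assoc]; rw [hpp, mul_one, ← mul_assoc, hpp, one_mul]
  have e6 : (q : G) * (q * p * q) * q = p := by
    simp only [mul_assoc]; rw [hqq, mul_one, ← mul_assoc, hqq, one_mul]
  have hne : (x : G) ≠ y := fun h => hxy (Subtype.ext h)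
  rcases hx with hx | hx | hx <;> rcases hy with hy | hy | hy <;> rw [hx, hy] at hne ⊢
  all_goals first
    | exact absurd rfl hne
    | constructor
  all_goals first
    | exact hpq
    | exact fun h => hpq h.symm
    | exact hr1
    | exact hr2
    | exact fun h => hr1 h.symm
    | exact fun h => hr2 h.symm
    | skip
  all_goals
    ext z
    simp only [Set.mem_setOf_eq, e3, e4, e5, e6, hbr]
    try tauto

theorem isPartialLinear (hset : Cfsg.IsThreeTranspositionSet D)
    (_hconj : ∀ g : G, ∀ d ∈ D, g * d * g⁻¹ ∈ D) :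
    Cfsg.LineSystem.IsPartialLinear (Cfsg.threeTranspositionLines D) := by
  intro l hl m hm x y hxy hxl hyl hxm hym
  rw [(line_of_two hset hl hxl hyl hxy).2, (line_of_two hset hm hxm hym hxy).2]

theorem mk_line (hset : Cfsg.IsThreeTranspositionSet D) {x y : D} (h : ¬ Commute (x : G) y) :
    {z : D | (z : G) = x ∨ (z : G) = y ∨ (z : G) = (y : G) * x * y} ∈
      Cfsg.threeTranspositionLines D := by
  refine ⟨x, y, h, ?_⟩
  rw [inv_self hset y.2]

theorem third_ne (hset : Cfsg.IsThreeTranspositionSet D) {x y : G} (hx : x ∈ D) (hy : y ∈ D)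
    (h : ¬ Commute x y) : x ≠ y ∧ y * x * y ≠ x ∧ y * x * y ≠ y := by
  have hyy := mul_self hset hy
  refine ⟨fun e => h (e ▸ Commute.refl x), fun e => h ?_, fun e => h ?_⟩
  · show x * y = y * x
    calc x * y = y * x * y * y := by rw [e]
      _ = y * x := by rw [mul_assoc, hyy, mul_one]
  · have : x = y := by
      calc x = y * (y * x * y) * y := by
            simp only [mul_assoc]; rw [hyy, mul_one, ← mul_assoc, hyy, one_mul]
        _ = y := by rw [e, hyy, one_mul]
    exact this ▸ Commute.refl x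

theorem ncard_line (hset : Cfsg.IsThreeTranspositionSet D)
    (hconj : ∀ g : G, ∀ d ∈ D, g * d * g⁻¹ ∈ D) :
    ∀ l ∈ Cfsg.threeTranspositionLines D, l.ncard = 3 := by
  rintro l ⟨x, y, hxy, rfl⟩
  obtain ⟨h1, h2, h3⟩ := third_ne hset x.2 y.2 hxy
  rw [Set.ncard_eq_three]
  refine ⟨x, y, ⟨(y : G) * x * y, conj_mem hset hconj y.2 x.2⟩, fun e => h1 (congrArg _ e),
    fun e => h2 (congrArg Subtype.val e).symm, fun e => h3 (congrArg Subtype.val e).symm, ?_⟩
  ext z
  simp [Subtype.ext_iff, inv_self hset y.2]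

theorem exists_other (hset : Cfsg.IsThreeTranspositionSet D)
    (hconj : ∀ g : G, ∀ d ∈ D, g * d * g⁻¹ ∈ D) {l : Set D}
    (hl : l ∈ Cfsg.threeTranspositionLines D) (a : D) : ∃ b ∈ l, b ≠ a := by
  obtain ⟨x, y, z, hxy, -, -, rfl⟩ := Set.ncard_eq_three.mp (ncard_line hset hconj l hl)
  by_cases h : x = a
  · exact ⟨y, by simp, fun e => hxy (h.trans e.symm)⟩
  · exact ⟨x, by simp, h⟩

/-- A model of a plane inside the line system of `D`. -/
theorem plane_of_model (hset : Cfsg.IsThreeTranspositionSet D) {P : Type*} (M : Set (Set P))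
    (f : P → D) (hf : Function.Injective f) (op : P → P → P) (adj : P → P → Prop)
    (hadj : ∀ p q, ¬ Commute (f p : G) (f q) ↔ adj p q)
    (hop : ∀ p q, adj p q → (f q : G) * f p * f q = f (op p q))
    (hM : ∀ m : Set P, m ∈ M ↔ ∃ p q, adj p q ∧ m = {r | r = p ∨ r = q ∨ r = op p q})
    (T : Set D) (hT : T ⊆ Set.range f)
    (hgen : ∀ U : Set D, T ⊆ U →
      (∀ p q, adj p q → f p ∈ U → f q ∈ U → f (op p q) ∈ U) → Set.range f ⊆ U) :
    Cfsg.LineSystem.Isomorphic
      (Cfsg.LineSystem.restrict (Cfsg.threeTranspositionLines D)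
        (Cfsg.LineSystem.span (Cfsg.threeTranspositionLines D) T)) M := by
  set L := Cfsg.threeTranspositionLines D with hL
  have himg : ∀ p q, adj p q →
      {z : D | (z : G) = f p ∨ (z : G) = f q ∨ (z : G) = (f q : G) * f p * f q} =
        f '' {r | r = p ∨ r = q ∨ r = op p q} := by
    intro p q hpq
    ext z
    simp only [Set.mem_setOf_eq, Set.mem_image, hop p q hpq, ← Subtype.ext_iff]
    constructor
    · rintro (h | h | h)
      · exact ⟨p, Or.inl rfl, h.symm⟩
      · exact ⟨q, Or.inr (Or.inl rfl), h.symm⟩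
      · exact ⟨_, Or.inr (Or.inr rfl), h.symm⟩
    · rintro ⟨r, rfl | rfl | rfl, rfl⟩ <;> simp
  have hline : ∀ l ∈ L, ∀ p q, p ≠ q → f p ∈ l → f q ∈ l →
      adj p q ∧ l = f '' {r | r = p ∨ r = q ∨ r = op p q} := by
    intro l hl p q hpq hp hq
    obtain ⟨h1, h2⟩ := line_of_two hset hl hp hq (hf.ne hpq)
    have := (hadj p q).mp h1
    exact ⟨this, h2.trans (himg p q this)⟩
  have hspan : Cfsg.LineSystem.span L T = Set.range f := by
    apply subset_antisymm
    · apply Set.sInter_subset_of_mem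
      refine ⟨hT, fun l hl x hx y hy hne hxl hyl => ?_⟩
      obtain ⟨p, rfl⟩ := hx
      obtain ⟨q, rfl⟩ := hy
      rw [(hline l hl p q (fun e => hne (e ▸ rfl)) hxl hyl).2]
      exact Set.image_subset_range _ _
    · apply Set.subset_sInter
      rintro U ⟨hTU, hU⟩
      refine hgen U hTU fun p q hpq hp hq => ?_
      have hnc := (hadj p q).mpr hpq
      have hne : f p ≠ f q := fun e => hnc (by rw [e])
      have hsub := hU _ (mk_line hset hnc) (f p) hp (f q) hq hne (Or.inl rfl) (Or.inr (Or.inl rfl))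
      exact hsub (Or.inr (Or.inr (hop p q hpq).symm))
  rw [hspan]
  refine ⟨(Equiv.ofInjective f hf).symm, fun s => ?_⟩
  set e := (Equiv.ofInjective f hf).symm with he
  have hes : ∀ r : P, e ⟨f r, r, rfl⟩ = r := fun r => by
    rw [he, Equiv.symm_apply_eq]; rfl
  constructor
  · rintro ⟨l, hl, hsub, rfl⟩
    rw [hM]
    obtain ⟨x, y, hxy, rfl⟩ := id hl
    obtain ⟨p, hp⟩ := hsub (show x ∈ _ from Or.inl rfl)
    obtain ⟨q, hq⟩ := hsub (show y ∈ _ from Or.inr (Or.inl rfl))
    subst hp hq
    have hpq : p ≠ q := fun e => hxy (e ▸ Commute.refl _)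
    obtain ⟨ha, hle⟩ := hline _ hl p q hpq (Or.inl rfl) (Or.inr (Or.inl rfl))
    refine ⟨p, q, ha, ?_⟩
    rw [hle]
    ext r
    constructor
    · rintro ⟨⟨z, hz⟩, ⟨r', hr', rfl⟩, rfl⟩
      rw [hes]
      exact hr'
    · intro hr
      exact ⟨⟨f r, r, rfl⟩, ⟨r, hr, rfl⟩, hes r⟩
  · intro h
    obtain ⟨p, q, hpq, hs⟩ := (hM _).mp h
    refine ⟨_, mk_line hset ((hadj p q).mpr hpq), ?_, ?_⟩
    · rw [himg p q hpq]; exact Set.image_subset_range _ _
    · rw [himg p q hpq]
      ext x
      have hx : f (e x) = (x : D) := congrArg Subtype.val ((Equiv.ofInjective f hf).apply_symm_apply x)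
      rw [Set.mem_setOf_eq, ← hx, hf.mem_set_image, ← hs, e.injective.mem_set_image]

/-- The transposition of a two-element subset. -/
abbrev adjDual (p q : Cfsg.DualAffinePoint) : Prop := (p.val ∩ q.val).card = 1

theorem dual_swap : ∀ p : Cfsg.DualAffinePoint, ∃ i j : Fin 4, i ≠ j ∧ p.val = {i, j} := by
  decide +kernel

theorem dual_card : ∀ i j : Fin 4, i ≠ j → ({i, j} : Finset (Fin 4)).card = 2 := by decide

theorem dual_facts : ∀ i j k l : Fin 4, i ≠ j → k ≠ l →
    (({i, j} : Finset (Fin 4)) ∩ {k, l}).card = 1 →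
      Equiv.swap i j * Equiv.swap k l ≠ Equiv.swap k l * Equiv.swap i j ∧
      ∃ m n : Fin 4, m ≠ n ∧ symmDiff ({i, j} : Finset (Fin 4)) {k, l} = {m, n} ∧
        Equiv.swap k l * Equiv.swap i j * Equiv.swap k l = Equiv.swap m n := by
  decide +kernel

theorem dual_facts' : ∀ i j k l : Fin 4, i ≠ j → k ≠ l →
    (({i, j} : Finset (Fin 4)) ∩ {k, l}).card ≠ 1 →
      Equiv.swap i j * Equiv.swap k l = Equiv.swap k l * Equiv.swap i j := by
  decide +kernel

theorem dual_swap_inj : ∀ i j k l : Fin 4, i ≠ j → k ≠ l →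
    Equiv.swap i j = Equiv.swap k l → ({i, j} : Finset (Fin 4)) = {k, l} := by
  decide +kernel

theorem dual_lines : ∀ p q : Cfsg.DualAffinePoint, adjDual p q →
    ∃ i : Fin 4, ∀ r : Cfsg.DualAffinePoint,
      (i ∉ r.val ↔ r = p ∨ r = q ∨ r.val = symmDiff p.val q.val) := by
  decide +kernel

theorem dual_lines' : ∀ i : Fin 4, ∃ p q : Cfsg.DualAffinePoint, adjDual p q ∧
    ∀ r : Cfsg.DualAffinePoint, (i ∉ r.val ↔ r = p ∨ r = q ∨ r.val = symmDiff p.val q.val) := by
  decide +kernel

theorem dual_case (hset : Cfsg.IsThreeTranspositionSet D)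
    (hconj : ∀ g : G, ∀ d ∈ D, g * d * g⁻¹ ∈ D) {l m : Set D}
    (hl : l ∈ Cfsg.threeTranspositionLines D) (hm : m ∈ Cfsg.threeTranspositionLines D)
    (hlm : l ≠ m) {a b u : D} (hal : a ∈ l) (ham : a ∈ m) (hb : b ∈ l) (hu : u ∈ m)
    (hba : b ≠ a) (hua : u ≠ a) (hbu : Commute (b : G) u) :
    Cfsg.LineSystem.Isomorphic
      (Cfsg.LineSystem.restrict (Cfsg.threeTranspositionLines D)
        (Cfsg.LineSystem.span (Cfsg.threeTranspositionLines D) (l ∪ m)))
      Cfsg.dualAffinePlaneTwo := by
  obtain ⟨hab, hleq⟩ := line_of_two hset hl hb hal hba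
  obtain ⟨hau, hmeq⟩ := line_of_two hset hm ham hu hua.symm
  have hbne : (b : G) ≠ u := fun e =>
    hlm (isPartialLinear hset hconj l hl m hm a b hba.symm hal hb ham
      ((Subtype.ext e : b = u) ▸ hu))
  obtain ⟨φ, hinj, h01, h12, h23⟩ :=
    Cfsg.Agent.S5344.result hset b.2 a.2 u.2 hbne hbu hab hau
  have hswapD : ∀ i j : Fin 4, i ≠ j → φ (Equiv.swap i j) ∈ D := by
    intro i j hij
    obtain ⟨k, hk⟩ : ∃ k : Equiv.Perm (Fin 4), k * Equiv.swap 0 1 * k⁻¹ = Equiv.swap i j :=
      isConj_iff.mp (Equiv.Perm.isConj_swap (by decide) hij)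
    rw [← hk, map_mul, map_mul, map_inv, h01]
    exact hconj _ (b : G) b.2
  choose I J hIJ hval using dual_swap
  let f : Cfsg.DualAffinePoint → D := fun p => ⟨φ (Equiv.swap (I p) (J p)), hswapD _ _ (hIJ p)⟩
  have hfv : ∀ (p : Cfsg.DualAffinePoint) (i j : Fin 4), i ≠ j → p.val = {i, j} →
      (f p : G) = φ (Equiv.swap i j) := by
    intro p i j hij hp
    show φ (Equiv.swap (I p) (J p)) = φ (Equiv.swap i j)
    congr 1
    have hset' : ({I p, J p} : Finset (Fin 4)) = {i, j} := (hval p).symm.trans hp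
    exact (show ∀ i j k l : Fin 4, i ≠ j → k ≠ l → ({i, j} : Finset (Fin 4)) = {k, l} →
      Equiv.swap i j = Equiv.swap k l from by decide +kernel) _ _ _ _ (hIJ p) hij hset'
  have hf : Function.Injective f := by
    intro p q h
    apply Subtype.ext
    rw [hval p, hval q]
    exact dual_swap_inj _ _ _ _ (hIJ p) (hIJ q) (hinj (congrArg Subtype.val h))
  let op : Cfsg.DualAffinePoint → Cfsg.DualAffinePoint → Cfsg.DualAffinePoint := fun p q =>
    if h : (symmDiff p.val q.val).card = 2 then ⟨_, h⟩ else p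
  have hadj : ∀ p q, ¬ Commute (f p : G) (f q) ↔ adjDual p q := by
    intro p q
    show ¬ Commute (φ _) (φ _) ↔ _
    rw [adjDual, hval p, hval q, commute_iff_eq, ← map_mul, ← map_mul, hinj.eq_iff]
    constructor
    · intro h
      by_contra hc
      exact h (dual_facts' _ _ _ _ (hIJ p) (hIJ q) hc)
    · intro h
      exact (dual_facts _ _ _ _ (hIJ p) (hIJ q) h).1
  have hop : ∀ p q, adjDual p q → (f q : G) * f p * f q = f (op p q) := by
    intro p q h
    rw [adjDual, hval p, hval q] at h
    obtain ⟨-, x, y, hxy, hsd, he⟩ := dual_facts _ _ _ _ (hIJ p) (hIJ q) h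
    have hcard : (symmDiff p.val q.val).card = 2 := by
      rw [hval p, hval q, hsd]; exact dual_card x y hxy
    rw [hfv (op p q) x y hxy (by simp only [op, dif_pos hcard]; rw [hval p, hval q, hsd]), ← he,
      map_mul, map_mul]
  have hopval : ∀ p q, adjDual p q → ∀ r, (r = op p q ↔ r.val = symmDiff p.val q.val) := by
    intro p q h r
    have h' : (({I p, J p} : Finset (Fin 4)) ∩ {I q, J q}).card = 1 := by
      rw [← hval p, ← hval q]; exact h
    obtain ⟨-, x, y, hxy, hsd, -⟩ := dual_facts _ _ _ _ (hIJ p) (hIJ q) h'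
    have hcard : (symmDiff p.val q.val).card = 2 := by
      rw [hval p, hval q, hsd]; exact dual_card x y hxy
    simp only [op, dif_pos hcard, Subtype.ext_iff]
  let pt : ∀ i j : Fin 4, i ≠ j → Cfsg.DualAffinePoint := fun i j h => ⟨{i, j}, dual_card i j h⟩
  have hpt : ∀ i j h, (f (pt i j h) : G) = φ (Equiv.swap i j) := fun i j h =>
    hfv (pt i j h) i j h rfl
  have hfb : f (pt 0 1 (by decide)) = b := Subtype.ext ((hpt 0 1 (by decide)).trans h01)
  have hfa : f (pt 1 2 (by decide)) = a := Subtype.ext ((hpt 1 2 (by decide)).trans h12)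
  have hfu : f (pt 2 3 (by decide)) = u := Subtype.ext ((hpt 2 3 (by decide)).trans h23)
  have e02 : (a : G) * b * a = φ (Equiv.swap 0 2) := by
    rw [← h01, ← h12, ← map_mul, ← map_mul]; exact congrArg φ (by decide +kernel)
  have e13 : (u : G) * a * u = φ (Equiv.swap 1 3) := by
    rw [← h12, ← h23, ← map_mul, ← map_mul]; exact congrArg φ (by decide +kernel)
  refine plane_of_model hset _ f hf op adjDual hadj hop ?_ (l ∪ m) ?_ ?_
  · intro s
    constructor
    · rintro ⟨i, rfl⟩
      obtain ⟨p, q, hpq, hr⟩ := dual_lines' i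
      refine ⟨p, q, hpq, Set.ext fun r => ?_⟩
      simp only [Set.mem_setOf_eq, hr, hopval p q hpq]
    · rintro ⟨p, q, hpq, rfl⟩
      obtain ⟨i, hr⟩ := dual_lines p q hpq
      refine ⟨i, Set.ext fun r => ?_⟩
      simp only [Set.mem_setOf_eq, hr, hopval p q hpq]
  · rw [hleq, hmeq]
    rintro z ((hz | hz | hz) | (hz | hz | hz))
    · exact ⟨_, hfb.trans (Subtype.ext hz).symm⟩
    · exact ⟨_, hfa.trans (Subtype.ext hz).symm⟩
    · exact ⟨pt 0 2 (by decide), Subtype.ext ((hpt 0 2 (by decide)).trans (e02.symm.trans hz.symm))⟩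
    · exact ⟨_, hfa.trans (Subtype.ext hz).symm⟩
    · exact ⟨_, hfu.trans (Subtype.ext hz).symm⟩
    · exact ⟨pt 1 3 (by decide), Subtype.ext ((hpt 1 3 (by decide)).trans (e13.symm.trans hz.symm))⟩
  · intro U hTU hU
    have h01' : f (pt 0 1 (by decide)) ∈ U := hfb ▸ hTU (Or.inl hb)
    have h12' : f (pt 1 2 (by decide)) ∈ U := hfa ▸ hTU (Or.inl hal)
    have h23' : f (pt 2 3 (by decide)) ∈ U := hfu ▸ hTU (Or.inr hu)
    have step : ∀ (i j k l m n : Fin 4) (h1 : i ≠ j) (h2 : k ≠ l) (h3 : m ≠ n),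
        (({i, j} : Finset (Fin 4)) ∩ {k, l}).card = 1 →
        symmDiff ({i, j} : Finset (Fin 4)) {k, l} = {m, n} →
        f (pt i j h1) ∈ U → f (pt k l h2) ∈ U → f (pt m n h3) ∈ U := by
      intro i j k l m n h1 h2 h3 hc hs hi hk
      have := hU (pt i j h1) (pt k l h2) hc hi hk
      rwa [← (hopval _ _ hc (pt m n h3)).mpr hs.symm] at this
    have h02' := step 0 1 1 2 0 2 (by decide) (by decide) (by decide) (by decide) (by decide)
      h01' h12'
    have h13' := step 1 2 2 3 1 3 (by decide) (by decide) (by decide) (by decide) (by decide)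
      h12' h23'
    have h03' := step 0 1 1 3 0 3 (by decide) (by decide) (by decide) (by decide) (by decide)
      h01' h13'
    rintro _ ⟨r, rfl⟩
    rcases (show ∀ r : Cfsg.DualAffinePoint, r.val = {0, 1} ∨ r.val = {0, 2} ∨ r.val = {0, 3} ∨
      r.val = {1, 2} ∨ r.val = {1, 3} ∨ r.val = {2, 3} from by decide +kernel) r with
      h | h | h | h | h | h
    · exact (Subtype.ext h : r = pt 0 1 (by decide)) ▸ h01'
    · exact (Subtype.ext h : r = pt 0 2 (by decide)) ▸ h02'
    · exact (Subtype.ext h : r = pt 0 3 (by decide)) ▸ h03'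
    · exact (Subtype.ext h : r = pt 1 2 (by decide)) ▸ h12'
    · exact (Subtype.ext h : r = pt 1 3 (by decide)) ▸ h13'
    · exact (Subtype.ext h : r = pt 2 3 (by decide)) ▸ h23'

/-- Nine points from three pairwise non-commuting members. -/
def nine (a b u : G) (v : Fin 2 → ZMod 3) : G :=
  if v 0 = 0 then (if v 1 = 0 then a else if v 1 = 1 then u else a * u * a)
  else if v 0 = 1 then (if v 1 = 0 then b else if v 1 = 1 then a * (b * u * b) * a
    else a * (b * (a * u * a) * b) * a)
  else (if v 1 = 0 then a * b * a else if v 1 = 1 then b * (a * u * a) * b else b * u * b)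

theorem nine_vec : ∀ v : Fin 2 → ZMod 3, v = ![0, 0] ∨ v = ![1, 0] ∨ v = ![2, 0] ∨ v = ![0, 1] ∨
    v = ![0, 2] ∨ v = ![1, 1] ∨ v = ![1, 2] ∨ v = ![2, 1] ∨ v = ![2, 2] := by decide +kernel

theorem affine_case (hset : Cfsg.IsThreeTranspositionSet D)
    (hconj : ∀ g : G, ∀ d ∈ D, g * d * g⁻¹ ∈ D) {l m : Set D}
    (hl : l ∈ Cfsg.threeTranspositionLines D) (hm : m ∈ Cfsg.threeTranspositionLines D)
    (hlm : l ≠ m) {a b u : D} (hal : a ∈ l) (ham : a ∈ m) (hb : b ∈ l) (hu : u ∈ m)
    (hba : b ≠ a) (hua : u ≠ a)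
    (hall : ∀ b ∈ l, ∀ u ∈ m, b ≠ a → u ≠ a → ¬ Commute (b : G) u) :
    Cfsg.LineSystem.Isomorphic
      (Cfsg.LineSystem.restrict (Cfsg.threeTranspositionLines D)
        (Cfsg.LineSystem.span (Cfsg.threeTranspositionLines D) (l ∪ m)))
      Cfsg.affinePlaneThree := by
  obtain ⟨hab, hleq⟩ := line_of_two hset hl hb hal hba
  obtain ⟨hau, hmeq⟩ := line_of_two hset hm hu ham hua
  set A := (a : G) with hA
  set B := (b : G) with hB
  set U := (u : G) with hU
  have aa := mul_self hset a.2
  have bb := mul_self hset b.2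
  have uu := mul_self hset u.2
  rw [← hA] at aa
  rw [← hB] at bb
  rw [← hU] at uu
  let C : D := ⟨A * B * A, conj_mem hset hconj a.2 b.2⟩
  let W : D := ⟨A * U * A, conj_mem hset hconj a.2 u.2⟩
  have hCl : C ∈ l := by rw [hleq]; exact Or.inr (Or.inr rfl)
  have hWm : W ∈ m := by rw [hmeq]; exact Or.inr (Or.inr rfl)
  have hCa : C ≠ a := fun e => (third_ne hset b.2 a.2 hab).2.2 (congrArg Subtype.val e)
  have hWa : W ≠ a := fun e => (third_ne hset u.2 a.2 hau).2.2 (congrArg Subtype.val e)
  have hbu : ¬ Commute B U := hall b hb u hu hba hua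
  have hcu : ¬ Commute (A * B * A) U := hall C hCl u hu hCa hua
  have hbw : ¬ Commute B (A * U * A) := hall b hb W hWm hba hWa
  have brab := braid hset b.2 a.2 hab
  have brau := braid hset u.2 a.2 hau
  have brbu := braid hset b.2 u.2 hbu
  have brcu := braid hset C.2 u.2 hcu
  have brbw := braid hset b.2 W.2 hbw
  simp only [C, W, ← hA, ← hB, ← hU] at brab brau brbu brcu brbw
  have hmem : ∀ v, nine A B U v ∈ D := by
    intro v
    have hc := fun {x y : G} (hx : x ∈ D) (hy : y ∈ D) => conj_mem hset hconj hx hy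
    rcases nine_vec v with rfl | rfl | rfl | rfl | rfl | rfl | rfl | rfl | rfl <;>
      simp only [nine, Matrix.cons_val_zero, Matrix.cons_val_one, Matrix.cons_val_fin_one] <;>
      simp (config := { decide := true }) only [if_true, if_false]
    exacts [a.2, b.2, hc a.2 b.2, u.2, hc a.2 u.2, hc a.2 (hc b.2 u.2),
      hc a.2 (hc b.2 (hc a.2 u.2)), hc b.2 (hc a.2 u.2), hc b.2 u.2]
  let f : (Fin 2 → ZMod 3) → D := fun v => ⟨nine A B U v, hmem v⟩
  have e00 : (f ![0, 0] : G) = A := rfl
  have e10 : (f ![1, 0] : G) = B := rfl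
  have e20 : (f ![2, 0] : G) = A * B * A := rfl
  have e01 : (f ![0, 1] : G) = U := rfl
  have e02 : (f ![0, 2] : G) = A * U * A := rfl
  have e11 : (f ![1, 1] : G) = A * (B * U * B) * A := rfl
  have e12 : (f ![1, 2] : G) = A * (B * (A * U * A) * B) * A := rfl
  have e21 : (f ![2, 1] : G) = B * (A * U * A) * B := rfl
  have e22 : (f ![2, 2] : G) = B * U * B := rfl
  have invA : ∀ x : G, A * (A * x * A) * A = x := fun x => by
    simp only [mul_assoc]; rw [aa, mul_one, ← mul_assoc, aa, one_mul]
  have invB : ∀ x : G, B * (B * x * B) * B = x := fun x => by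
    simp only [mul_assoc]; rw [bb, mul_one, ← mul_assoc, bb, one_mul]
  have invU : ∀ x : G, U * (U * x * U) * U = x := fun x => by
    simp only [mul_assoc]; rw [uu, mul_one, ← mul_assoc, uu, one_mul]
  have k1 : B * (A * (B * U * B) * A) * B = A * (B * (A * U * A) * B) * A := by
    calc B * (A * (B * U * B) * A) * B = (B * A * B) * U * (B * A * B) := by simp only [mul_assoc]
      _ = (A * B * A) * U * (A * B * A) := by rw [brab]
      _ = _ := by simp only [mul_assoc]
  have k2 : U * (A * (B * U * B) * A) * U = B * (A * U * A) * B := by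
    calc U * (A * (B * U * B) * A) * U = U * A * (B * U * B) * A * U := by simp only [mul_assoc]
      _ = U * A * (U * B * U) * A * U := by rw [brbu]
      _ = (U * A * U) * B * (U * A * U) := by simp only [mul_assoc]
      _ = (A * U * A) * B * (A * U * A) := by rw [brau]
      _ = _ := brbw.symm
  have k3 : U * (A * B * A) * U = A * (B * (A * U * A) * B) * A := by
    rw [← brcu]; simp only [mul_assoc]
  -- the three generating reflections
  have gA : ∀ v, A * (f v : G) * A = f (-v) := by
    intro v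
    rcases nine_vec v with rfl | rfl | rfl | rfl | rfl | rfl | rfl | rfl | rfl
    · rw [show -(![0, 0] : Fin 2 → ZMod 3) = ![0, 0] by decide, e00, aa, one_mul]
    · rw [show -(![1, 0] : Fin 2 → ZMod 3) = ![2, 0] by decide, e10, e20]
    · rw [show -(![2, 0] : Fin 2 → ZMod 3) = ![1, 0] by decide, e20, e10, invA]
    · rw [show -(![0, 1] : Fin 2 → ZMod 3) = ![0, 2] by decide, e01, e02]
    · rw [show -(![0, 2] : Fin 2 → ZMod 3) = ![0, 1] by decide, e02, e01, invA]
    · rw [show -(![1, 1] : Fin 2 → ZMod 3) = ![2, 2] by decide, e11, e22, invA]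
    · rw [show -(![1, 2] : Fin 2 → ZMod 3) = ![2, 1] by decide, e12, e21, invA]
    · rw [show -(![2, 1] : Fin 2 → ZMod 3) = ![1, 2] by decide, e21, e12]
    · rw [show -(![2, 2] : Fin 2 → ZMod 3) = ![1, 1] by decide, e22, e11]
  have gB : ∀ v, B * (f v : G) * B = f (-v - ![1, 0]) := by
    intro v
    rcases nine_vec v with rfl | rfl | rfl | rfl | rfl | rfl | rfl | rfl | rfl
    · rw [show -(![0, 0] : Fin 2 → ZMod 3) - ![1, 0] = ![2, 0] by decide, e00, e20, brab]
    · rw [show -(![1, 0] : Fin 2 → ZMod 3) - ![1, 0] = ![1, 0] by decide, e10, bb, one_mul]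
    · rw [show -(![2, 0] : Fin 2 → ZMod 3) - ![1, 0] = ![0, 0] by decide, e20, e00, ← brab, invB]
    · rw [show -(![0, 1] : Fin 2 → ZMod 3) - ![1, 0] = ![2, 2] by decide, e01, e22]
    · rw [show -(![0, 2] : Fin 2 → ZMod 3) - ![1, 0] = ![2, 1] by decide, e02, e21]
    · rw [show -(![1, 1] : Fin 2 → ZMod 3) - ![1, 0] = ![1, 2] by decide, e11, e12, k1]
    · rw [show -(![1, 2] : Fin 2 → ZMod 3) - ![1, 0] = ![1, 1] by decide, e12, e11, ← k1, invB]
    · rw [show -(![2, 1] : Fin 2 → ZMod 3) - ![1, 0] = ![0, 2] by decide, e21, e02, invB]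
    · rw [show -(![2, 2] : Fin 2 → ZMod 3) - ![1, 0] = ![0, 1] by decide, e22, e01, invB]
  have gU : ∀ v, U * (f v : G) * U = f (-v - ![0, 1]) := by
    intro v
    rcases nine_vec v with rfl | rfl | rfl | rfl | rfl | rfl | rfl | rfl | rfl
    · rw [show -(![0, 0] : Fin 2 → ZMod 3) - ![0, 1] = ![0, 2] by decide, e00, e02, brau]
    · rw [show -(![1, 0] : Fin 2 → ZMod 3) - ![0, 1] = ![2, 2] by decide, e10, e22, brbu]
    · rw [show -(![2, 0] : Fin 2 → ZMod 3) - ![0, 1] = ![1, 2] by decide, e20, e12, k3]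
    · rw [show -(![0, 1] : Fin 2 → ZMod 3) - ![0, 1] = ![0, 1] by decide, e01, uu, one_mul]
    · rw [show -(![0, 2] : Fin 2 → ZMod 3) - ![0, 1] = ![0, 0] by decide, e02, e00, ← brau, invU]
    · rw [show -(![1, 1] : Fin 2 → ZMod 3) - ![0, 1] = ![2, 1] by decide, e11, e21, k2]
    · rw [show -(![1, 2] : Fin 2 → ZMod 3) - ![0, 1] = ![2, 0] by decide, e12, e20, ← k3, invU]
    · rw [show -(![2, 1] : Fin 2 → ZMod 3) - ![0, 1] = ![1, 1] by decide, e21, e11, ← k2, invU]
    · rw [show -(![2, 2] : Fin 2 → ZMod 3) - ![0, 1] = ![1, 0] by decide, e22, e10, brbu, invU]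
  have hconjf : ∀ p v, (f p : G) * f v * f p = f (-v - p) := by
    have hcomp : ∀ (g h : G) (p q : Fin 2 → ZMod 3), (∀ v, g * (f v : G) * g = f (-v - p)) →
        (∀ v, h * (f v : G) * h = f (-v - q)) →
        ∀ v, h * g * h * (f v : G) * (h * g * h) = f (-v - (-p - q)) := by
      intro g h p q hg hh v
      calc h * g * h * (f v : G) * (h * g * h) = h * (g * (h * (f v : G) * h) * g) * h := by
            simp only [mul_assoc]
        _ = f (-v - (-p - q)) := by
          rw [hh, hg, hh]; congr 2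
          funext i
          simp only [Pi.sub_apply, Pi.neg_apply]
          generalize v i = x
          generalize p i = y
          generalize q i = z
          revert x y z
          decide
    have g00 : ∀ v, A * (f v : G) * A = f (-v - ![0, 0]) := fun v => by
      rw [gA, show (![0, 0] : Fin 2 → ZMod 3) = 0 by decide, sub_zero]
    have g20 : ∀ v, A * B * A * (f v : G) * (A * B * A) = f (-v - ![2, 0]) := fun v => by
      rw [hcomp B A _ _ gB g00 v,
        show -(![1, 0] : Fin 2 → ZMod 3) - ![0, 0] = ![2, 0] by decide]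
    have g02 : ∀ v, A * U * A * (f v : G) * (A * U * A) = f (-v - ![0, 2]) := fun v => by
      rw [hcomp U A _ _ gU g00 v,
        show -(![0, 1] : Fin 2 → ZMod 3) - ![0, 0] = ![0, 2] by decide]
    have g22 : ∀ v, B * U * B * (f v : G) * (B * U * B) = f (-v - ![2, 2]) := fun v => by
      rw [hcomp U B _ _ gU gB v,
        show -(![0, 1] : Fin 2 → ZMod 3) - ![1, 0] = ![2, 2] by decide]
    have g21 : ∀ v, B * (A * U * A) * B * (f v : G) * (B * (A * U * A) * B) =
        f (-v - ![2, 1]) := fun v => by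
      rw [hcomp (A * U * A) B _ _ g02 gB v,
        show -(![0, 2] : Fin 2 → ZMod 3) - ![1, 0] = ![2, 1] by decide]
    intro p
    rcases nine_vec p with rfl | rfl | rfl | rfl | rfl | rfl | rfl | rfl | rfl <;> intro v
    · exact g00 v
    · exact gB v
    · exact g20 v
    · exact gU v
    · exact g02 v
    · rw [e11, hcomp (B * U * B) A _ _ g22 g00 v,
        show -(![2, 2] : Fin 2 → ZMod 3) - ![0, 0] = ![1, 1] by decide]
    · rw [e12, hcomp _ A _ _ g21 g00 v,
        show -(![2, 1] : Fin 2 → ZMod 3) - ![0, 0] = ![1, 2] by decide]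
    · exact g21 v
    · exact g22 v
  have hf : Function.Injective f := by
    intro p q h
    by_contra hne
    have key : ∀ t, (f t : G) = f 0 → t = 0 := by
      intro t ht
      have hB0 : (b : G) ≠ a := fun e => hba (Subtype.ext e)
      have hU0 : (u : G) ≠ a := fun e => hua (Subtype.ext e)
      have hne' : ∀ x y : G, x ≠ y → A * x * A ≠ A * y * A := fun x y hxy e => hxy
        (by rw [← invA x, e, invA])
      have hBU : B * U * B ≠ A := by
        intro e
        apply hcu
        have hCU : A * B * A = U :=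
          brab.symm.trans ((congrArg (fun x => B * x * B) e).symm.trans (invB _))
        rw [hCU]
      have hBW : B * (A * U * A) * B ≠ A := by
        intro e
        have hUB : U = B := by
          rw [← invA U, show A * U * A = B * A * B from (invB _).symm.trans (congrArg (fun x => B * x * B) e), brab, invA]
        exact hbu (by rw [hUB])
      rcases nine_vec t with rfl | rfl | rfl | rfl | rfl | rfl | rfl | rfl | rfl
      · decide
      all_goals exfalso
      all_goals rw [show (f 0 : G) = A from rfl] at ht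
      · exact hB0 (e10 ▸ ht)
      · exact hne' B A hB0 (by rw [← e20, ht, aa, one_mul])
      · exact hU0 (e01 ▸ ht)
      · exact hne' U A hU0 (by rw [← e02, ht, aa, one_mul])
      · exact hne' _ A hBU (by rw [← e11, ht, aa, one_mul])
      · exact hne' _ A hBW (by rw [← e12, ht, aa, one_mul])
      · exact hBW (e21 ▸ ht)
      · exact hBU (e22 ▸ ht)
    simp only [Subtype.ext_iff] at h
    have h2 : A * (f p : G) * A = A * (f q : G) * A := by rw [h]
    rw [gA, gA] at h2
    have h3 : ∀ t, (f t : G) * f (-p) * f t = f t * f (-q) * f t := fun t => by rw [h2]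
    simp only [hconjf, neg_neg] at h3
    have h4 := key (p - q) (by rw [h3 q, sub_self])
    exact hne (sub_eq_zero.mp h4)
  let op : (Fin 2 → ZMod 3) → (Fin 2 → ZMod 3) → (Fin 2 → ZMod 3) := fun p q => -p - q
  refine plane_of_model hset _ f hf op (fun p q => p ≠ q) ?_ ?_ ?_ (l ∪ m) ?_ ?_
  · intro p q
    refine ⟨fun h e => h (e ▸ Commute.refl _), fun hpq hc => hpq ?_⟩
    have h1 := hconjf q p
    rw [← hc.eq, mul_assoc, mul_self hset (f q).2, mul_one] at h1
    have h2 := hf (Subtype.ext h1)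
    funext i
    have h3 := congrFun h2 i
    simp only [Pi.sub_apply, Pi.neg_apply] at h3
    revert h3
    generalize p i = x
    generalize q i = y
    revert x y
    decide
  · intro p q _
    rw [hconjf]
  · intro s
    constructor
    · rintro ⟨v, w, hw, rfl⟩
      refine ⟨v, v + w, fun e => hw (left_eq_add.mp e), Set.ext fun r => ?_⟩
      simp only [Set.mem_setOf_eq, op]
      have e2 : ∀ c : ZMod 3, c = 0 ∨ c = 1 ∨ c = 2 := by decide
      have e3 : -v - (v + w) = v + (2 : ZMod 3) • w := by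
        funext i
        simp only [Pi.sub_apply, Pi.neg_apply, Pi.add_apply, Pi.smul_apply, smul_eq_mul]
        generalize v i = x
        generalize w i = y
        revert x y
        decide
      constructor
      · rintro ⟨c, rfl⟩
        rcases e2 c with rfl | rfl | rfl
        · left; simp
        · right; left; simp
        · right; right; rw [e3]
      · rintro (rfl | rfl | rfl)
        · exact ⟨0, by simp⟩
        · exact ⟨1, by simp⟩
        · exact ⟨2, e3⟩
    · rintro ⟨p, q, hpq, rfl⟩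
      refine ⟨p, q - p, sub_ne_zero.mpr (Ne.symm hpq), Set.ext fun r => ?_⟩
      simp only [Set.mem_setOf_eq, op]
      have e3 : p + (2 : ZMod 3) • (q - p) = -p - q := by
        funext i
        simp only [Pi.sub_apply, Pi.neg_apply, Pi.add_apply, Pi.smul_apply, smul_eq_mul]
        generalize p i = x
        generalize q i = y
        revert x y
        decide
      constructor
      · rintro (rfl | rfl | rfl)
        · exact ⟨0, by simp⟩
        · exact ⟨1, by simp⟩
        · exact ⟨2, e3.symm⟩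
      · rintro ⟨c, rfl⟩
        rcases (show ∀ c : ZMod 3, c = 0 ∨ c = 1 ∨ c = 2 by decide) c with rfl | rfl | rfl
        · left; simp
        · right; left; simp
        · right; right; exact e3
  · rw [hleq, hmeq]
    rintro z ((hz | hz | hz) | (hz | hz | hz))
    · exact ⟨![1, 0], Subtype.ext (e10.trans hz.symm)⟩
    · exact ⟨![0, 0], Subtype.ext (e00.trans hz.symm)⟩
    · exact ⟨![2, 0], Subtype.ext (e20.trans hz.symm)⟩
    · exact ⟨![0, 1], Subtype.ext (e01.trans hz.symm)⟩
    · exact ⟨![0, 0], Subtype.ext (e00.trans hz.symm)⟩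
    · exact ⟨![0, 2], Subtype.ext (e02.trans hz.symm)⟩
  · intro U' hTU hU'
    have h10 : f ![1, 0] ∈ U' := (Subtype.ext e10 : f ![1, 0] = b) ▸ hTU (Or.inl hb)
    have h00 : f ![0, 0] ∈ U' := (Subtype.ext e00 : f ![0, 0] = a) ▸ hTU (Or.inl hal)
    have h01 : f ![0, 1] ∈ U' := (Subtype.ext e01 : f ![0, 1] = u) ▸ hTU (Or.inr hu)
    have step : ∀ p q r : Fin 2 → ZMod 3, p ≠ q → -p - q = r → f p ∈ U' → f q ∈ U' → f r ∈ U' :=
      fun p q r hpq hr hp hq => hr ▸ hU' p q hpq hp hq
    have h20 := step _ _ ![2, 0] (by decide) (by decide) h00 h10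
    have h02 := step _ _ ![0, 2] (by decide) (by decide) h00 h01
    have h22 := step _ _ ![2, 2] (by decide) (by decide) h10 h01
    have h21 := step _ _ ![2, 1] (by decide) (by decide) h10 h02
    have h12 := step _ _ ![1, 2] (by decide) (by decide) h20 h01
    have h11 := step _ _ ![1, 1] (by decide) (by decide) h20 h02
    rintro _ ⟨r, rfl⟩
    rcases nine_vec r with rfl | rfl | rfl | rfl | rfl | rfl | rfl | rfl | rfl <;> assumption

end

/-- Let D be a conjugation-invariant generating set of 3-transpositions of a finite group G. Then the line system on D whose lines are the triples {x, y, y x y⁻¹} for non-commuting members x, y of D is a Fischer space: two points lie on at most one line, lines have three points, and two different meeting lines generate a subspace isomorphic to the dual affine plane of order two or to the affine plane of order three. -/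
theorem result {G : Type*} [Group G] [Finite G] {D : Set G} (hD : Cfsg.IsThreeTranspositionGroup D) : Cfsg.IsFischerSpace (Cfsg.threeTranspositionLines D) := by
  obtain ⟨hset, hconj, -⟩ := hD
  refine ⟨isPartialLinear hset hconj, ncard_line hset hconj, ?_⟩
  intro l hl m hm hlm hne
  obtain ⟨a, hal, ham⟩ := hne
  obtain ⟨b0, hb0, hb0a⟩ := exists_other hset hconj hl a
  obtain ⟨u0, hu0, hu0a⟩ := exists_other hset hconj hm a
  by_cases hcase : ∃ b ∈ l, ∃ u ∈ m, b ≠ a ∧ u ≠ a ∧ Commute (b : G) (u : G)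
  · left
    obtain ⟨b, hb, u, hu, hba, hua, hbu⟩ := hcase
    exact dual_case hset hconj hl hm hlm hal ham hb hu hba hua hbu
  · right
    push Not at hcase
    exact affine_case hset hconj hl hm hlm hal ham hb0 hu0 hb0a hu0a hcase

end Cfsg.Agent.S5367
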