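import Cfsg.Statements.S5370
import Cfsg.Agent.Lib.ThreeTransM22Pres51
-- import your own Cfsg.Agent.* helpers here

set_option autoImplicit false
open Cfsg

namespace Cfsg.Agent.S5370

theorem image_symm {H : Type*} [Group H] [Finite H] {D : Set H} (hD : Cfsg.IsThreeTranspositionGroup D)
    (hprim : Cfsg.IsPrimitiveUnderConj D) (e : Cfsg.Spor.Fi22 ≃* H)
    (he : ∀ x, e (PresentedGroup.of x) ∈ D) :
    e.symm '' D = {z | IsConj (PresentedGroup.of Cfsg.Spor.Fi22.Gen.a : Cfsg.Spor.Fi22) z} := by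
  have ht := ThreeTransRel.tsys_of_group hD
  ext z
  constructor
  · rintro ⟨y, hy, rfl⟩
    obtain ⟨g, hg⟩ := hprim.1 _ (he .a) y hy
    exact isConj_iff.mpr ⟨e.symm g, e.injective (by simp [hg])⟩
  · intro hz
    obtain ⟨k, rfl⟩ := isConj_iff.mp hz
    exact ⟨e (k * PresentedGroup.of .a * k⁻¹), by simpa using ht.conj (e k) _ (he .a), e.symm_apply_apply _⟩

/-- Uniqueness of the 3-transposition groups of type M(22). Let G₁ and G₂ be finite groups with trivial centres, each generated by a conjugation-invariant set of 3-transpositions Dᵢ on which it acts primitively, such that for some member d of Dᵢ the subgroup generated by the members of Dᵢ other than d commuting with d has central largest normal 2- and 3-subgroups, and suppose each Gᵢ with Dᵢ is of type M(22). Then there is an isomorphism from G₁ to G₂ carrying D₁ onto D₂. -/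
theorem result {G₁ G₂ : Type*} [Group G₁] [Finite G₁] [Group G₂] [Finite G₂] {D₁ : Set G₁} {D₂ : Set G₂} (hD₁ : Cfsg.IsThreeTranspositionGroup D₁) (hprim₁ : Cfsg.IsPrimitiveUnderConj D₁) (hZ₁ : Subgroup.center G₁ = ⊥) (d₁ : G₁) (hd₁ : d₁ ∈ D₁) (h3₁ : Cfsg.pCore 3 ↥(Subgroup.closure {y : G₁ | y ∈ D₁ ∧ y ≠ d₁ ∧ Commute d₁ y}) ≤ Subgroup.center ↥(Subgroup.closure {y : G₁ | y ∈ D₁ ∧ y ≠ d₁ ∧ Commute d₁ y})) (h2₁ : Cfsg.pCore 2 ↥(Subgroup.closure {y : G₁ | y ∈ D₁ ∧ y ≠ d₁ ∧ Commute d₁ y}) ≤ Subgroup.center ↥(Subgroup.closure {y : G₁ | y ∈ D₁ ∧ y ≠ d₁ ∧ Commute d₁ y})) (hD₂ : Cfsg.IsThreeTranspositionGroup D₂) (hprim₂ : Cfsg.IsPrimitiveUnderConj D₂) (hZ₂ : Subgroup.center G₂ = ⊥) (d₂ : G₂) (hd₂ : d₂ ∈ D₂) (h3₂ : Cfsg.pCore 3 ↥(Subgroup.closure {y : G₂ | y ∈ D₂ ∧ y ≠ d₂ ∧ Commute d₂ y}) ≤ Subgroup.center ↥(Subgroup.closure {y : G₂ | y ∈ D₂ ∧ y ≠ d₂ ∧ Commute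 d₂ y})) (h2₂ : Cfsg.pCore 2 ↥(Subgroup.closure {y : G₂ | y ∈ D₂ ∧ y ≠ d₂ ∧ Commute d₂ y}) ≤ Subgroup.center ↥(Subgroup.closure {y : G₂ | y ∈ D₂ ∧ y ≠ d₂ ∧ Commute d₂ y})) (ht₁ : Cfsg.IsOfTypeM22 G₁ D₁) (ht₂ : Cfsg.IsOfTypeM22 G₂ D₂) : ∃ e : G₁ ≃* G₂, e '' D₁ = D₂ := by
  obtain ⟨e₁, he₁⟩ := ThreeTransM22Pres51.exists_equiv hD₁ hprim₁ ht₁
  obtain ⟨e₂, he₂⟩ := ThreeTransM22Pres51.exists_equiv hD₂ hprim₂ ht₂
  refine ⟨e₁.symm.trans e₂, ?_⟩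
  have h : e₁.symm '' D₁ = e₂.symm '' D₂ := (image_symm hD₁ hprim₁ e₁ he₁).trans (image_symm hD₂ hprim₂ e₂ he₂).symm
  rw [show (⇑(e₁.symm.trans e₂) : G₁ → G₂) = e₂ ∘ e₁.symm from rfl, Set.image_comp, h, ← Set.image_comp]
  simp

end Cfsg.Agent.S5370
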