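import Cfsg.Statements.S5378
import Cfsg.Agent.Lib.LargeExtraspecialSetting
import Cfsg.Agent.Lib.ConwayTypeOrder62
import Cfsg.Agent.Lib.ConwayTypeSplit62
import Cfsg.Agent.Lib.ConwayTypeSeparate62

set_option autoImplicit false
open Cfsg

namespace Cfsg.Agent.S5378

/-- Let G be a finite group of Conway type: it has an involution z whose centralizer C has generalized Fitting subgroup Q extraspecial of order 2^9 with C/Q isomorphic to the commutator subgroup of the isometry group of the hyperbolic quadratic form in dimension 8 over the field with two elements, and some conjugate of z other than z lies in Q. Then G has exactly three conjugacy classes of involutions. -/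
theorem result {G : Type*} [Group G] [Finite G] (z : G) (hz : orderOf z = 2) (Q : Subgroup (Subgroup.centralizer ({z} : Set G))) [Q.Normal] (hF : Cfsg.generalizedFittingSubgroup (Subgroup.centralizer ({z} : Set G)) = Q) (hQ : Cfsg.IsExtraspecial 2 Q) (hcard : Nat.card Q = 2 ^ 9) (e : (Subgroup.centralizer ({z} : Set G)) ⧸ Q ≃* Cfsg.Omega (ZMod 2) (Cfsg.quadFormPlus 4 (ZMod 2))) (hnwc : ∃ g : G, (∃ hq : g * z * g⁻¹ ∈ Subgroup.centralizer ({z} : Set G), (⟨g * z * g⁻¹, hq⟩ : Subgroup.centralizer ({z} : Set G)) ∈ Q) ∧ g * z * g⁻¹ ≠ z) : ∃ a b c : G, orderOf a = 2 ∧ orderOf b = 2 ∧ orderOf c = 2 ∧ ¬ IsConj a b ∧ ¬ IsConj a c ∧ ¬ IsConj b c ∧ ∀ x : G, orderOf x = 2 → IsConj x a ∨ IsConj x b ∨ IsConj x c := by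
  obtain ⟨hL, -⟩ := LargeExtraspecialSetting.lhyp_of_fitting hz Q hF hQ
  set Q₀ := Q.map (Subgroup.centralizer ({z} : Set G)).subtype with hQ₀
  have hC : Nat.card (Subgroup.centralizer ({z} : Set G)) = 512 * 174182400 := by
    rw [Subgroup.card_eq_card_quotient_mul_card_subgroup Q, Nat.card_congr e.toEquiv,
      show Nat.card ↥(Cfsg.Omega (ZMod 2) (Cfsg.quadFormPlus 4 (ZMod 2))) = 174182400 from
        ConwayTypeOrder62.card_omega, hcard]
    norm_num
  have H : ConwayTypeCoord62.Hyp Q₀ z := ⟨hL, by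
    rw [hQ₀, Subgroup.card_map_of_injective (Subgroup.subtype_injective _), hcard]; norm_num, hC⟩
  obtain ⟨g, ⟨hq, hgQ⟩, hgz⟩ := hnwc
  obtain ⟨ν, d, ρ, D⟩ := ConwayTypeRadical62.exists_ctx H (g := g) ⟨_, hgQ, rfl⟩ hgz
  obtain ⟨f0, g0, B0, f1, g1, B1, -, hα0, -, -, hα1, -⟩ := ConwayTypeModel62.chosen
  obtain ⟨y, hy, hyy, hy1⟩ := D.exists_rep (f0.trans B0.symm) (g0.trans B0.symm) hα0
  obtain ⟨y', hy', hyy', hy1'⟩ := D.exists_rep (f1.trans B1.symm) (g1.trans B1.symm) hα1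
  obtain ⟨n1, n2, n3⟩ := D.separate hy hy'
  refine ⟨z, y, y', hz, orderOf_eq_prime (by rw [pow_two]; exact hyy) hy1,
    orderOf_eq_prime (by rw [pow_two]; exact hyy') hy1', n1, n2, n3, fun x hx => ?_⟩
  obtain ⟨g₁, hg₁⟩ := D.in_C hx
  have hxx : x * x = 1 := by rw [← pow_two, ← hx]; exact pow_orderOf_eq_one x
  obtain ⟨g₂, hg₂⟩ := D.into_R (Subgroup.mem_centralizer_singleton_iff.mp hg₁) (by
    calc g₁ * x * g₁⁻¹ * (g₁ * x * g₁⁻¹) = g₁ * (x * x) * g₁⁻¹ := by group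
      _ = 1 := by rw [hxx]; group)
  have hconj : IsConj x (g₂ * (g₁ * x * g₁⁻¹) * g₂⁻¹) :=
    isConj_iff.mpr ⟨g₂ * g₁, by group⟩
  rcases D.class_R hy hy' hg₂ (by
      calc g₂ * (g₁ * x * g₁⁻¹) * g₂⁻¹ * (g₂ * (g₁ * x * g₁⁻¹) * g₂⁻¹)
          = g₂ * g₁ * (x * x) * g₁⁻¹ * g₂⁻¹ := by group
        _ = 1 := by rw [hxx]; group)
      (fun h => by
        have h1 : g₁ * x * g₁⁻¹ = 1 := conj_eq_one_iff.mp h
        have h2 : x = 1 := conj_eq_one_iff.mp h1
        rw [h2] at hx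
        simp at hx) with h | h | h
  · exact Or.inl (hconj.trans h)
  · exact Or.inr (Or.inl (hconj.trans h))
  · exact Or.inr (Or.inr (hconj.trans h))

end Cfsg.Agent.S5378
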