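import Cfsg.Statements.S5379
import Cfsg.Agent.Lib.LargeExtraspecialSetting
import Cfsg.Agent.Lib.SuzTypeOrder62
import Cfsg.Agent.Lib.SuzTypeClasses62

set_option autoImplicit false
open Cfsg

namespace Cfsg.Agent.S5379

/-- Let G be a finite group of Suzuki sporadic type: it has an involution z whose centralizer C has generalized Fitting subgroup Q extraspecial of order 2^7 with C/Q isomorphic to the commutator subgroup of the isometry group of the elliptic quadratic form in dimension 6 over the field with two elements, and some conjugate of z other than z lies in Q. Then G has exactly two conjugacy classes of involutions. -/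
theorem result {G : Type*} [Group G] [Finite G] (z : G) (hz : orderOf z = 2) (Q : Subgroup (Subgroup.centralizer ({z} : Set G))) [Q.Normal] (hF : Cfsg.generalizedFittingSubgroup (Subgroup.centralizer ({z} : Set G)) = Q) (hQ : Cfsg.IsExtraspecial 2 Q) (hcard : Nat.card Q = 2 ^ 7) (e : (Subgroup.centralizer ({z} : Set G)) ⧸ Q ≃* Cfsg.Omega (ZMod 2) (Cfsg.quadFormMinus 2 (ZMod 2) 1 1)) (hnwc : ∃ g : G, (∃ hq : g * z * g⁻¹ ∈ Subgroup.centralizer ({z} : Set G), (⟨g * z * g⁻¹, hq⟩ : Subgroup.centralizer ({z} : Set G)) ∈ Q) ∧ g * z * g⁻¹ ≠ z) : ∃ a b : G, orderOf a = 2 ∧ orderOf b = 2 ∧ ¬ IsConj a b ∧ ∀ x : G, orderOf x = 2 → IsConj x a ∨ IsConj x b := by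
  obtain ⟨hL, -⟩ := LargeExtraspecialSetting.lhyp_of_fitting hz Q hF hQ
  set Q₀ := Q.map (Subgroup.centralizer ({z} : Set G)).subtype with hQ₀
  have hC : Nat.card (Subgroup.centralizer ({z} : Set G)) = 128 * 25920 := by
    rw [Subgroup.card_eq_card_quotient_mul_card_subgroup Q, Nat.card_congr e.toEquiv,
      SuzTypeOrder62.card_omega, hcard]
    norm_num
  have H : SuzTypeCoord62.Hyp Q₀ z := ⟨hL, by
    rw [hQ₀, Subgroup.card_map_of_injective (Subgroup.subtype_injective _), hcard]; norm_num, hC⟩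
  obtain ⟨g, ⟨hq, hgQ⟩, hgz⟩ := hnwc
  obtain ⟨ν, d, ρ, D⟩ := SuzTypeRadical62.exists_ctx H (g := g) ⟨_, hgQ, rfl⟩ hgz
  obtain ⟨a₀, ha₀, b₀, hb₀, hα, hβ, hsq, hne⟩ := D.exists_y
  refine ⟨z, a₀ * b₀, hz, orderOf_eq_prime (by rw [pow_two]; exact hsq) hne,
    D.not_conj ha₀ hb₀ hα hβ, fun x hx => ?_⟩
  obtain ⟨g₁, hg₁⟩ := D.in_C hx
  have hxx : x * x = 1 := by rw [← pow_two, ← hx]; exact pow_orderOf_eq_one x
  obtain ⟨g₂, hg₂⟩ := D.into_R (Subgroup.mem_centralizer_singleton_iff.mp hg₁) (by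
    calc g₁ * x * g₁⁻¹ * (g₁ * x * g₁⁻¹) = g₁ * (x * x) * g₁⁻¹ := by group
      _ = 1 := by rw [hxx]; group)
  have hconj : IsConj x (g₂ * (g₁ * x * g₁⁻¹) * g₂⁻¹) :=
    isConj_iff.mpr ⟨g₂ * g₁, by group⟩
  rcases D.class_R ha₀ hb₀ hα hβ hg₂ (by
      calc g₂ * (g₁ * x * g₁⁻¹) * g₂⁻¹ * (g₂ * (g₁ * x * g₁⁻¹) * g₂⁻¹)
          = g₂ * g₁ * (x * x) * g₁⁻¹ * g₂⁻¹ := by group
        _ = 1 := by rw [hxx]; group)
      (fun h => by
        have h1 : g₁ * x * g₁⁻¹ = 1 := conj_eq_one_iff.mp h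
        have h2 : x = 1 := conj_eq_one_iff.mp h1
        rw [h2] at hx
        simp at hx) with h | h
  · exact Or.inl (hconj.trans h)
  · exact Or.inr (hconj.trans h)

end Cfsg.Agent.S5379
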