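import Cfsg.Statements.S5382
import Cfsg.Agent.Lib.J2TypeSetting79
import Cfsg.Agent.Lib.J2TypeFive79
import Cfsg.Agent.Lib.J2TypeNorm79

set_option autoImplicit false
open Cfsg

namespace Cfsg.Agent.S5382

/-- Let G be a finite group of Hall–Janko type: it has more than one class of involutions and an involution z whose centralizer C has generalized Fitting subgroup Q extraspecial of order 32 with C/Q isomorphic to the commutator subgroup of the isometry group of the elliptic quadratic form in dimension 4 over the field with two elements (the alternating group of degree 5), with z not weakly closed in Q. Then for every involution t not conjugate to z, the centralizer of t is isomorphic to the direct product of an elementary abelian group of order 4 and the alternating group of degree 5, and the normalizer of the largest normal 2-subgroup of that centralizer is isomorphic to the direct product of the alternating groups of degrees 4 and 5. -/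
theorem result {G : Type*} [Group G] [Finite G] (z : G) (hz : orderOf z = 2) (Q : Subgroup (Subgroup.centralizer ({z} : Set G))) [Q.Normal] (hF : Cfsg.generalizedFittingSubgroup (Subgroup.centralizer ({z} : Set G)) = Q) (hQ : Cfsg.IsExtraspecial 2 Q) (hcard : Nat.card Q = 2 ^ 5) (e : (Subgroup.centralizer ({z} : Set G)) ⧸ Q ≃* Cfsg.Omega (ZMod 2) (Cfsg.quadFormMinus 1 (ZMod 2) 1 1)) (hnwc : ∃ g : G, (∃ hq : g * z * g⁻¹ ∈ Subgroup.centralizer ({z} : Set G), (⟨g * z * g⁻¹, hq⟩ : Subgroup.centralizer ({z} : Set G)) ∈ Q) ∧ g * z * g⁻¹ ≠ z) (hcl : ∃ x y : G, orderOf x = 2 ∧ orderOf y = 2 ∧ ¬ IsConj x y) (t : G) (ht : orderOf t = 2) (htz : ¬ IsConj t z) : Nonempty (↥(Subgroup.centralizer ({t} : Set G)) ≃* (Multiplicative (ZMod 2) × Multiplicative (ZMod 2)) × alternatingGroup (Fin 5)) ∧ Nonempty (↥(Subgroup.normalizer (((Cfsg.pCore 2 ↥(Subgroup.centralizer ({t} : Set G))).map (Subgroup.subtype (Subgroup.centralizer ({t} : Set G))) : Subgroup G) : Set G)) ≃* alternatingGroup (Fin 4) × alternatingGroup (Fin 5)) := by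
  have hJ := J2TypeSetting79.hyp_of_setting hz Q hF hQ hcard e hnwc hcl
  obtain ⟨a, u, u', y, C, K, hK, h60, -⟩ := J2TypeFive79.exists_kern_order hJ
  obtain ⟨g, rfl⟩ := isConj_iff.1
    ((J2TypeClasses79.conj_cases C.loc ht).resolve_left fun h => htz h.symm)
  set f : G ≃* G := MulAut.conj g
  have hC : Subgroup.centralizer ({g * u * g⁻¹} : Set G) =
      (Subgroup.centralizer ({u} : Set G)).map f.toMonoidHom :=
    J2TypeNorm79.centralizer_conj g u
  let φ : ↥(Subgroup.centralizer ({u} : Set G)) ≃* ↥(Subgroup.centralizer ({g * u * g⁻¹} : Set G)) :=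
    (f.subgroupMap _).trans (MulEquiv.subgroupCongr hC.symm)
  obtain ⟨e1⟩ := J2TypeNorm79.cent_equiv C hK h60
  obtain ⟨e2⟩ := J2TypeNorm79.norm_equiv C hK h60
  refine ⟨⟨φ.symm.trans e1⟩, ?_⟩
  have hp : (Cfsg.pCore 2 ↥(Subgroup.centralizer ({g * u * g⁻¹} : Set G))).map
      (Subgroup.centralizer ({g * u * g⁻¹} : Set G)).subtype =
      (J2TypeCent79.W C).map f.toMonoidHom := by
    rw [← J2TypeNorm79.pCore_eq C hK h60, Subgroup.map_map, ← HallCore.map_equiv_pCore φ,
      Subgroup.map_map]
    rfl
  rw [hp, ← Subgroup.map_equiv_normalizer_eq]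
  exact ⟨(f.subgroupMap _).symm.trans e2⟩

end Cfsg.Agent.S5382
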