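import Cfsg.Statements.S5385
import Cfsg.Agent.Lib.LargeExtraspecialSetting
import Cfsg.Agent.Lib.ConwayTypeOrder62
import Cfsg.Agent.Lib.ConwayTypeSplit62
import Cfsg.Agent.Lib.ConwayFiveMain30

set_option autoImplicit false
open Cfsg

namespace Cfsg.Agent.S5385

/-- Let G be a finite group of Conway type (involution z with generalized Fitting subgroup Q of its centralizer C extraspecial of order 2^9, C/Q the commutator subgroup of the isometry group of the hyperbolic quadratic form in dimension 8 over the field with two elements, z not weakly closed in Q), and let B be a subgroup of C of order 5 such that the centralizer of B in Q is extraspecial of order 32 containing no elementary abelian subgroup of order 8 (the quaternion-times-dihedral type). Then the layer L of the centralizer of B in G is isomorphic to the Hall–Janko group and the centralizer of L is isomorphic to the alternating group of degree 5. -/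
theorem result {G : Type*} [Group G] [Finite G] (z : G) (hz : orderOf z = 2) (Q : Subgroup (Subgroup.centralizer ({z} : Set G))) [Q.Normal] (hF : Cfsg.generalizedFittingSubgroup (Subgroup.centralizer ({z} : Set G)) = Q) (hQ : Cfsg.IsExtraspecial 2 Q) (hcard : Nat.card Q = 2 ^ 9) (e : (Subgroup.centralizer ({z} : Set G)) ⧸ Q ≃* Cfsg.Omega (ZMod 2) (Cfsg.quadFormPlus 4 (ZMod 2))) (hnwc : ∃ g : G, (∃ hq : g * z * g⁻¹ ∈ Subgroup.centralizer ({z} : Set G), (⟨g * z * g⁻¹, hq⟩ : Subgroup.centralizer ({z} : Set G)) ∈ Q) ∧ g * z * g⁻¹ ≠ z) (B : Subgroup (Subgroup.centralizer ({z} : Set G))) (hB : Nat.card B = 5) (hCQ : Cfsg.IsExtraspecial 2 ↥(Q ⊓ Subgroup.centralizer (B : Set (Subgroup.centralizer ({z} : Set G))))) (hCQcard : Nat.card ↥(Q ⊓ Subgroup.centralizer (B : Set (Subgroup.centralizer ({z} : Set G)))) = 32) (hminus : ∀ A : Subgroup (Subgroup.centralizer ({z} : Set G)), A ≤ Q ⊓ Subgroup.centralizer (B : Set (Subgroup.centralizer ({z} : Set G))) → Cfsg.IsElementaryAbelian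 2 A → Nat.card A ≤ 4) : Cfsg.Spor.IsoJ2 ↥(Cfsg.layer ↥(Subgroup.centralizer ((B.map (Subgroup.subtype (Subgroup.centralizer ({z} : Set G)))) : Set G))) ∧ Nonempty (↥(Subgroup.centralizer (((Cfsg.layer ↥(Subgroup.centralizer ((B.map (Subgroup.subtype (Subgroup.centralizer ({z} : Set G)))) : Set G))).map (Subgroup.subtype _)) : Set G)) ≃* alternatingGroup (Fin 5)) := by
  haveI : Fact (Nat.Prime 5) := ⟨by norm_num⟩
  obtain ⟨hL, -⟩ := LargeExtraspecialSetting.lhyp_of_fitting hz Q hF hQ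
  set Q₀ := Q.map (Subgroup.centralizer ({z} : Set G)).subtype with hQ₀
  have hC : Nat.card (Subgroup.centralizer ({z} : Set G)) = 512 * 174182400 := by
    rw [Subgroup.card_eq_card_quotient_mul_card_subgroup Q, Nat.card_congr e.toEquiv,
      show Nat.card ↥(Cfsg.Omega (ZMod 2) (Cfsg.quadFormPlus 4 (ZMod 2))) = 174182400 from
        ConwayTypeOrder62.card_omega, hcard]
    norm_num
  have H : ConwayTypeCoord62.Hyp Q₀ z := ⟨hL, by
    rw [hQ₀, Subgroup.card_map_of_injective (Subgroup.subtype_injective _), hcard]; norm_num, hC⟩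
  obtain ⟨g, ⟨hq, hgQ⟩, hgz⟩ := hnwc
  obtain ⟨ν, d, ρ, D⟩ := ConwayTypeRadical62.exists_ctx H (g := g) ⟨_, hgQ, rfl⟩ hgz
  obtain ⟨b, hbB, hb1⟩ : ∃ b ∈ B, b ≠ 1 := by
    refine (Subgroup.ne_bot_iff_exists_ne_one (H := B)).mp (fun h => ?_) |>.elim
      fun x hx => ⟨x.1, x.2, fun e => hx (Subtype.ext e)⟩
    rw [h, Subgroup.card_bot] at hB
    omega
  have hb5 : orderOf b = 5 := by
    have h := orderOf_dvd_natCard (⟨b, hbB⟩ : B)
    rw [hB, ← Subgroup.orderOf_coe] at h
    exact ((Nat.dvd_prime (by norm_num)).mp h).resolve_left fun h1 => hb1 (orderOf_eq_one_iff.mp h1)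
  have hBz : B = Subgroup.zpowers b := by
    refine (Subgroup.eq_of_le_of_card_ge (Subgroup.zpowers_le.mpr hbB) ?_).symm
    rw [hB, Nat.card_zpowers, hb5]
  have hbz : (b : G) * z = z * (b : G) := Subgroup.mem_centralizer_singleton_iff.mp b.2
  have hA : ∀ a ∈ Subgroup.zpowers (b : G), ∀ x ∈ Q₀, a * x * a⁻¹ ∈ Q₀ := fun a ha x hx =>
    hL.norm a (Subgroup.mem_centralizer_singleton_iff.mp (Subgroup.zpowers_le.mpr b.2 ha)) x hx
  have hE := LargeExtraspecialAct.ext_centralizer hL.toExt hA (by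
    rw [Nat.card_zpowers, Subgroup.orderOf_coe, hb5]; decide)
  have h32 : Nat.card ↥(Q₀ ⊓ Subgroup.centralizer (Subgroup.zpowers (b : G) : Set G)) = 32 := by
    rw [← hCQcard, ← Subgroup.card_map_of_injective
      (Subgroup.subtype_injective (Subgroup.centralizer ({z} : Set G)))]
    congr 1
    rw [hBz]
    refine congrArg (fun K : Subgroup G => ↥K) ?_
    ext x
    simp only [Subgroup.zpowers_eq_closure, Subgroup.centralizer_closure, Subgroup.mem_inf,
      Subgroup.mem_map, Subgroup.mem_centralizer_singleton_iff, hQ₀]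
    constructor
    · rintro ⟨⟨y, hy, rfl⟩, hx⟩
      exact ⟨y, ⟨hy, Subtype.ext hx⟩, rfl⟩
    · rintro ⟨y, ⟨hy, hy'⟩, rfl⟩
      exact ⟨⟨y, hy, rfl⟩, congrArg Subtype.val hy'⟩
  obtain ⟨w, hwQ, hwb, hww, hw1, hwz⟩ : ∃ w, w ∈ Q₀ ∧ w * (b : G) = (b : G) * w ∧ w * w = 1 ∧
      w ≠ 1 ∧ w ≠ z := by
    by_contra hno
    have hno' : IsEmpty {x : ↥(Q₀ ⊓ Subgroup.centralizer (Subgroup.zpowers (b : G) : Set G)) //
        (x : G) * x = 1 ∧ (x : G) ≠ 1 ∧ (x : G) ≠ z} :=
      ⟨fun x => hno ⟨x.1, x.1.2.1,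
        (Subgroup.mem_centralizer_iff.mp x.1.2.2 _ (Subgroup.mem_zpowers _)).symm, x.2⟩⟩
    rcases J2TypePoints79.count_invol hE h32 with h | h <;> rw [Nat.card_of_isEmpty] at h <;> omega
  obtain ⟨c, -, hc⟩ := H.transitive D.sing (show ConwayTypeCoord62.Sing Q₀ z w from ⟨hwQ, hww, hw1, hwz⟩)
  have hconj : c * g * z * (c * g)⁻¹ = w := by rw [← hc]; group
  obtain ⟨ν₁, d₁, ρ₁, D₁⟩ := ConwayTypeRadical62.exists_ctx H (g := c * g)
    (by rw [hconj]; exact hwQ) (by rw [hconj]; exact hwz)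
  revert ρ₁ D₁
  rw [hconj]
  intro ρ₁ D₁
  obtain ⟨ν₂, d₂, ρ₂, S⟩ := ConwayFiveStd30.exists_std D₁
    ⟨(b : G), ConwayTypeCoord62.mem_Sx.mpr ⟨hbz, hwb.symm⟩⟩ (by
      rw [← Subgroup.orderOf_coe]
      exact (Subgroup.orderOf_coe b).trans hb5)
  refine ConwayFiveMain30.main S _ ?_
  rw [hBz, MonoidHom.map_zpowers, Subgroup.zpowers_eq_closure, Subgroup.centralizer_closure]
  rfl

end Cfsg.Agent.S5385
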