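import Cfsg.Statements.S5387
import Cfsg.Agent.Lib.L34MultiplierBound

set_option autoImplicit false
open Cfsg

namespace Cfsg.Agent.S5387

open scoped commutatorElement

/-- Up to isomorphism there is at most one quasisimple group whose centre is elementary abelian of order 4 and whose central quotient is isomorphic to the projective special linear group of dimension 3 over the field with four elements: any two such groups are isomorphic. -/
theorem result {L₁ L₂ : Type*} [Group L₁] [Finite L₁] [Group L₂] [Finite L₂] (F : Type) [Field F] [Fintype F] (hF : Fintype.card F = 4) (h₁ : Cfsg.IsQuasisimple L₁) (h₂ : Cfsg.IsQuasisimple L₂) (hc₁ : Nat.card (Subgroup.center L₁) = 4) (hc₂ : Nat.card (Subgroup.center L₂) = 4) (he₁ : ∀ x ∈ Subgroup.center L₁, x * x = 1) (he₂ : ∀ x ∈ Subgroup.center L₂, x * x = 1) (e₁ : L₁ ⧸ Subgroup.center L₁ ≃* Matrix.ProjectiveSpecialLinearGroup (Fin 3) F) (e₂ : L₂ ⧸ Subgroup.center L₂ ≃* Matrix.ProjectiveSpecialLinearGroup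 (Fin 3) F) : Nonempty (L₁ ≃* L₂) := by
  set σ₁ := e₁.toMonoidHom.comp (QuotientGroup.mk' (Subgroup.center L₁)) with hσ₁
  set σ₂ := e₂.toMonoidHom.comp (QuotientGroup.mk' (Subgroup.center L₂)) with hσ₂
  have s₁ : Function.Surjective σ₁ := e₁.surjective.comp (QuotientGroup.mk'_surjective _)
  have s₂ : Function.Surjective σ₂ := e₂.surjective.comp (QuotientGroup.mk'_surjective _)
  have k₁ : σ₁.ker = Subgroup.center L₁ := by
    ext x; simp [hσ₁, MonoidHom.mem_ker]
  have k₂ : σ₂.ker = Subgroup.center L₂ := by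
    ext x; simp [hσ₂, MonoidHom.mem_ker]
  let M : Subgroup (L₁ × L₂) := (σ₁.comp (MonoidHom.fst L₁ L₂)).eqLocus (σ₂.comp (MonoidHom.snd L₁ L₂))
  let D : Subgroup (L₁ × L₂) := ⁅M, M⁆
  have hDM : D ≤ M := Subgroup.commutator_le_self M
  have p₁ : D.map (MonoidHom.fst L₁ L₂) = ⊤ := by
    have : M.map (MonoidHom.fst L₁ L₂) = ⊤ := by
      rw [eq_top_iff]
      intro x _
      obtain ⟨y, hy⟩ := s₂ (σ₁ x)
      exact ⟨(x, y), hy.symm, rfl⟩
    rw [Subgroup.map_commutator, this, ← commutator_def]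
    exact h₁.1.commutator_eq_top
  have p₂ : D.map (MonoidHom.snd L₁ L₂) = ⊤ := by
    have : M.map (MonoidHom.snd L₁ L₂) = ⊤ := by
      rw [eq_top_iff]
      intro y _
      obtain ⟨x, hx⟩ := s₁ (σ₂ y)
      exact ⟨(x, y), hx, rfl⟩
    rw [Subgroup.map_commutator, this, ← commutator_def]
    exact h₂.1.commutator_eq_top
  let π₁ : D →* L₁ := (MonoidHom.fst L₁ L₂).comp D.subtype
  let π₂ : D →* L₂ := (MonoidHom.snd L₁ L₂).comp D.subtype
  have sπ₁ : Function.Surjective π₁ := fun x => by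
    obtain ⟨m, hm, hx⟩ : x ∈ D.map (MonoidHom.fst L₁ L₂) := p₁ ▸ Subgroup.mem_top x
    exact ⟨⟨m, hm⟩, hx⟩
  have sπ₂ : Function.Surjective π₂ := fun x => by
    obtain ⟨m, hm, hx⟩ : x ∈ D.map (MonoidHom.snd L₁ L₂) := p₂ ▸ Subgroup.mem_top x
    exact ⟨⟨m, hm⟩, hx⟩
  set σ : D →* Matrix.ProjectiveSpecialLinearGroup (Fin 3) F := σ₁.comp π₁ with hσ
  have hσ' : σ = σ₂.comp π₂ := MonoidHom.ext fun d => hDM d.2
  have hs : Function.Surjective σ := s₁.comp sπ₁
  have hz : ∀ d : L₁ × L₂, d ∈ M → σ₁ d.1 = 1 →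
      d.1 ∈ Subgroup.center L₁ ∧ d.2 ∈ Subgroup.center L₂ := fun d hd h => by
    refine ⟨k₁ ▸ h, k₂ ▸ ?_⟩
    exact (hd.symm : σ₂ d.2 = σ₁ d.1).trans h
  have hc : σ.ker ≤ Subgroup.center D := fun d hd => by
    obtain ⟨a, b⟩ := hz d (hDM d.2) hd
    refine Subgroup.mem_center_iff.2 fun g => Subtype.ext (Prod.ext ?_ ?_)
    · exact Subgroup.mem_center_iff.1 a _
    · exact Subgroup.mem_center_iff.1 b _
  have he : ∀ z : D, σ z = 1 → z * z = 1 := fun d hd => by
    obtain ⟨a, b⟩ := hz d (hDM d.2) hd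
    exact Subtype.ext (Prod.ext (he₁ _ a) (he₂ _ b))
  have hperf : commutator D = ⊤ := by
    apply Subgroup.map_injective D.subtype_injective
    rw [commutator_def, Subgroup.map_commutator, ← MonoidHom.range_eq_map, Subgroup.range_subtype]
    refine le_antisymm (Subgroup.commutator_le_self D) ?_
    refine Subgroup.commutator_le.2 fun g hg h hh => ?_
    have dec : ∀ g ∈ M, ∃ d ∈ D, ∃ z : L₁ × L₂, (∀ y, Commute y z) ∧ g = d * z := by
      intro g hg
      obtain ⟨d, hd⟩ := hs (σ₁ g.1)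
      refine ⟨d.1, d.2, d.1⁻¹ * g, ?_, (mul_inv_cancel_left _ _).symm⟩
      have hk : σ₁ ((d.1⁻¹ * g).1) = 1 := by
        show σ₁ ((d.1.1)⁻¹ * g.1) = 1
        rw [map_mul, map_inv, ← hd]
        exact inv_mul_cancel _
      obtain ⟨a, b⟩ := hz _ (mul_mem (inv_mem (hDM d.2)) hg) hk
      exact fun y => Prod.ext (Subgroup.mem_center_iff.1 a _) (Subgroup.mem_center_iff.1 b _)
    obtain ⟨d, hd, z, hzc, rfl⟩ := dec g hg
    obtain ⟨d', hd', z', hzc', rfl⟩ := dec h hh
    have : ⁅d * z, d' * z'⁆ = ⁅d, d'⁆ := by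
      have e1 : z * (d' * z') * z⁻¹ = d' * z' := by
        rw [← (hzc (d' * z')).eq, mul_inv_cancel_right]
      have e2 : z' * d⁻¹ * z'⁻¹ = d⁻¹ := by rw [← (hzc' d⁻¹).eq, mul_inv_cancel_right]
      calc ⁅d * z, d' * z'⁆ = d * (z * (d' * z') * z⁻¹) * d⁻¹ * (z'⁻¹ * d'⁻¹) := by
            simp only [commutatorElement_def, mul_inv_rev, mul_assoc]
        _ = d * d' * (z' * d⁻¹ * z'⁻¹) * d'⁻¹ := by rw [e1]; simp only [mul_assoc]
        _ = _ := by rw [e2, commutatorElement_def]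
    rw [this]
    exact Subgroup.commutator_mem_commutator hd hd'
  have hle := L34MultiplierBound.card_ker_le σ hF hs hc he hperf
  have hcard : ∀ {L : Type _} [Group L] (τ : L →* Matrix.ProjectiveSpecialLinearGroup (Fin 3) F),
      Function.Surjective τ → Nat.card L =
        Nat.card (Matrix.ProjectiveSpecialLinearGroup (Fin 3) F) * Nat.card τ.ker := by
    intro L _ τ hτ
    rw [Subgroup.card_eq_card_quotient_mul_card_subgroup τ.ker]
    exact congrArg (· * _) (Nat.card_congr (QuotientGroup.quotientKerEquivOfSurjective τ hτ).toEquiv)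
  have h3 := hcard σ hs
  have c1 : Nat.card L₁ = Nat.card (Matrix.ProjectiveSpecialLinearGroup (Fin 3) F) * 4 := by
    rw [Subgroup.card_eq_card_quotient_mul_card_subgroup (Subgroup.center L₁), hc₁,
      Nat.card_congr e₁.toEquiv]
  have c2 : Nat.card L₂ = Nat.card (Matrix.ProjectiveSpecialLinearGroup (Fin 3) F) * 4 := by
    rw [Subgroup.card_eq_card_quotient_mul_card_subgroup (Subgroup.center L₂), hc₂,
      Nat.card_congr e₂.toEquiv]
  have u : Nat.card D ≤ Nat.card (Matrix.ProjectiveSpecialLinearGroup (Fin 3) F) * 4 :=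
    h3 ▸ Nat.mul_le_mul_left _ hle
  have l1 := Nat.card_le_card_of_surjective π₁ sπ₁
  have l2 := Nat.card_le_card_of_surjective π₂ sπ₂
  have b₁ : Function.Bijective π₁ :=
    (Nat.bijective_iff_surjective_and_card π₁).2 ⟨sπ₁, le_antisymm (c1 ▸ u) l1⟩
  have b₂ : Function.Bijective π₂ :=
    (Nat.bijective_iff_surjective_and_card π₂).2 ⟨sπ₂, le_antisymm (c2 ▸ u) l2⟩
  exact ⟨(MulEquiv.ofBijective π₁ b₁).symm.trans (MulEquiv.ofBijective π₂ b₂)⟩

end Cfsg.Agent.S5387
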