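import Cfsg.Statements.S5393
import Cfsg.Agent.Lib.LeechFrame
import Cfsg.Agent.Lib.GolayPerm

set_option autoImplicit false
open Cfsg

namespace Cfsg.Agent.S5393

open Cfsg.Agent Cfsg.Agent.LeechFrame

/-- The length-24 code built from the squares modulo 23 contains the all-ones word, and the code modulo the all-ones word is an irreducible module over the field with two elements for the code's automorphism group: a subspace of the code that contains the all-ones word and is invariant under every coordinate permutation preserving the code is either the span of the all-ones word or the whole code. -/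
theorem result : (fun _ : Cfsg.GolayPt => (1 : ZMod 2)) ∈ Cfsg.golayCode ∧ ∀ W : Submodule (ZMod 2) (Cfsg.GolayPt → ZMod 2), (fun _ => (1 : ZMod 2)) ∈ W → W ≤ Cfsg.golayCode → (∀ σ ∈ Cfsg.M24, ∀ w ∈ W, (fun p => w (σ.symm p)) ∈ W) → W = Submodule.span (ZMod 2) {fun _ => (1 : ZMod 2)} ∨ W = Cfsg.golayCode := by
  refine ⟨LeechFrame.one_mem, fun W h1 hle hinv => ?_⟩
  obtain ⟨k, hk⟩ := (IsPGroup.iff_card (p := 2) (G := Multiplicative W)).mp
    (fun x => ⟨1, by
      apply Multiplicative.toAdd.injective
      have : (x.toAdd : W) + x.toAdd = 0 := by
        apply Subtype.ext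
        funext i
        exact CharTwo.add_self_eq_zero _
      simpa [pow_two] using this⟩)
  rw [Nat.card_congr Multiplicative.toAdd] at hk
  have hW : Nat.card W ≤ 4096 := by
    rw [← GolayBasic.card_golayCode]
    exact Nat.card_le_card_of_injective _ (Submodule.inclusion_injective hle)
  have hshift : ∀ s : ZMod 23, ∀ w ∈ W, (fun p => w (shift s p)) ∈ W := by
    intro s w hw
    have hmem : shift (-s) ∈ Cfsg.M24 := by
      rw [GolayPerm.mem_M24_iff]
      rintro _ ⟨u, hu, rfl⟩
      refine ⟨_, codeStable_shift (-(-s)) u hu, ?_⟩
      ext p
      rw [mem_support₂, ← shift_symm, ← Finset.inv_smul_mem_iff, mem_support₂]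
      rfl
    have := hinv _ hmem w hw
    rwa [shift_symm, neg_neg] at this
  letI : MulAction (Multiplicative (ZMod 23)) W :=
    { smul := fun s w => ⟨fun p => (w : _ → ZMod 2) (shift s.toAdd p), hshift _ _ w.2⟩
      one_smul := fun w => Subtype.ext (funext fun p => by
        show (w : _ → ZMod 2) (shift (0 : ZMod 23) p) = _
        cases p <;> simp [shift_none, shift_some])
      mul_smul := fun s t w => Subtype.ext (funext fun p => by
        show (w : _ → ZMod 2) (shift (s.toAdd + t.toAdd) p) =
          (w : _ → ZMod 2) (shift t.toAdd (shift s.toAdd p))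
        cases p <;> simp [shift_none, shift_some, add_assoc]) }
  have : Fact (Nat.Prime 23) := ⟨by norm_num⟩
  have hp : IsPGroup 23 (Multiplicative (ZMod 23)) :=
    IsPGroup.of_card (n := 1) (by simp)
  have hmod := hp.card_modEq_card_fixedPoints W
  have hfix : Nat.card (MulAction.fixedPoints (Multiplicative (ZMod 23)) W) = 2 := by
    rw [Nat.card_eq_two_iff]
    refine ⟨⟨0, fun s => Subtype.ext rfl⟩, ⟨⟨_, h1⟩, fun s => Subtype.ext rfl⟩, ?_, ?_⟩
    · intro h
      exact zero_ne_one (congrFun (congrArg (fun x : MulAction.fixedPoints _ W =>
        ((x : W) : Cfsg.GolayPt → ZMod 2)) h) none)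
    · refine Set.eq_univ_of_forall fun ⟨⟨w, hw⟩, hfx⟩ => ?_
      have hc : ∀ x : ZMod 23, w (some x) = w (some 0) := by
        intro x
        have := congrFun (congrArg Subtype.val (hfx (Multiplicative.ofAdd x))) (some 0)
        change w (shift x (some 0)) = w (some 0) at this
        simpa [shift_some] using this
      have horth := code_orth (hle hw) LeechFrame.one_mem
      have hw' : w (some 0) = w none := by
        simp only [Pi.one_apply, mul_one, Fintype.sum_option, hc, Finset.sum_const,
          Finset.card_univ, ZMod.card, nsmul_eq_mul] at horth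
        revert horth
        generalize w none = a
        generalize w (some 0) = b
        revert a b
        decide
      simp only [Set.mem_insert_iff, Set.mem_singleton_iff, Subtype.mk.injEq]
      rcases z2 (w none) with h | h
      · left
        refine Subtype.ext (Subtype.ext (funext fun p => ?_))
        show w p = 0
        cases p with
        | none => exact h
        | some x => rw [hc, hw', h]
      · right
        refine Subtype.ext (Subtype.ext (funext fun p => ?_))
        show w p = 1
        cases p with
        | none => exact h
        | some x => rw [hc, hw', h]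
  rw [hk, hfix] at hmod
  have hk12 : k ≤ 12 := (Nat.pow_le_pow_iff_right (le_refl 2)).mp
    (show 2 ^ k ≤ 2 ^ 12 by rw [← hk]; exact hW)
  have hk' : k = 1 ∨ k = 12 := by
    interval_cases k <;> first | (left; rfl) | (right; rfl) | (exact absurd hmod (by decide))
  rcases hk' with rfl | rfl
  · left
    apply le_antisymm
    · intro w hw
      by_contra hns
      have h0 : w ≠ 0 := fun h => hns (h ▸ Submodule.zero_mem _)
      have h1' : w ≠ fun _ => 1 := fun h => hns (h ▸ Submodule.mem_span_singleton_self _)
      have hinj : Function.Injective (![⟨0, W.zero_mem⟩, ⟨_, h1⟩, ⟨w, hw⟩] : Fin 3 → W) := by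
        have hne : (0 : Cfsg.GolayPt → ZMod 2) ≠ fun _ => 1 := fun h => by simpa using congrFun h none
        intro a b hab
        fin_cases a <;> fin_cases b <;>
          simp [Subtype.ext_iff, h0, h0.symm, h1', h1'.symm, hne, hne.symm] at hab ⊢
      have := Nat.card_le_card_of_injective _ hinj
      rw [hk, Nat.card_fin] at this
      norm_num at this
    · exact (Submodule.span_singleton_le_iff_mem _ _).mpr h1
  · right
    apply SetLike.coe_injective
    refine Set.eq_of_subset_of_ncard_le hle ?_
    rw [← Nat.card_coe_set_eq, ← Nat.card_coe_set_eq]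
    exact le_of_eq (GolayBasic.card_golayCode.trans hk.symm)

end Cfsg.Agent.S5393
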