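import Cfsg.Statements.S5395
import Cfsg.Agent.Lib.PGroupsBasic

set_option autoImplicit false
open Cfsg

namespace Cfsg.Agent.S5395

theorem card_hom_le {Z : Type*} [CommGroup Z] [Finite Z] (hZ : Nat.card Z = 2) :
    ∀ (n : ℕ) (V : Type*) [Group V] [Finite V], Nat.card V = n → (∀ v : V, v * v = 1) →
      Nat.card (V →* Z) ≤ Nat.card V := by
  intro n
  induction n using Nat.strong_induction_on with
  | _ n ih =>
    intro V _ _ hn hexp
    have : Finite (V →* Z) := Finite.of_injective _ DFunLike.coe_injective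
    rcases subsingleton_or_nontrivial V with h | h
    · have : Subsingleton (V →* Z) := ⟨fun f g => MonoidHom.ext fun v => by
        rw [Subsingleton.elim v 1, map_one, map_one]⟩
      calc Nat.card (V →* Z) ≤ 1 := Finite.card_le_one_iff_subsingleton.mpr this
        _ ≤ Nat.card V := Finite.card_pos
    obtain ⟨v, hv⟩ := exists_ne (1 : V)
    have hab : ∀ a b : V, a * b = b * a := fun a b => by
      have hi : ∀ c : V, c⁻¹ = c := fun c => inv_eq_of_mul_eq_one_right (hexp c)
      calc a * b = (a * b)⁻¹ := (hi _).symm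
        _ = b * a := by rw [mul_inv_rev, hi, hi]
    have : (Subgroup.zpowers v).Normal := ⟨fun a ha b => by
      rwa [hab b a, mul_inv_cancel_right]⟩
    set W := V ⧸ Subgroup.zpowers v
    have hvord : orderOf v = 2 := orderOf_eq_prime (by rw [pow_two]; exact hexp v) hv
    have hcard : Nat.card V = Nat.card W * 2 := by
      rw [Subgroup.card_eq_card_quotient_mul_card_subgroup (Subgroup.zpowers v),
        Nat.card_zpowers, hvord]
    have hWlt : Nat.card W < n := by
      have : 0 < Nat.card W := Finite.card_pos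
      omega
    have hWexp : ∀ w : W, w * w = 1 := by
      intro w
      obtain ⟨x, rfl⟩ := QuotientGroup.mk_surjective w
      rw [← QuotientGroup.mk_mul, hexp x, QuotientGroup.mk_one]
    have := ih _ hWlt W rfl hWexp
    let ev : (V →* Z) →* Z :=
      { toFun := fun f => f v, map_one' := rfl, map_mul' := fun _ _ => rfl }
    have hker : Nat.card ev.ker ≤ Nat.card (W →* Z) := by
      have : Finite (W →* Z) := Finite.of_injective _ DFunLike.coe_injective
      refine Nat.card_le_card_of_injective (fun f => QuotientGroup.lift (Subgroup.zpowers v) f.1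
        (Subgroup.zpowers_le.mpr f.2)) ?_
      intro f g hfg
      refine Subtype.ext (MonoidHom.ext fun x => ?_)
      exact DFunLike.congr_fun hfg (QuotientGroup.mk x)
    calc Nat.card (V →* Z) = Nat.card ev.ker * Nat.card ev.range := by
          rw [← Subgroup.index_ker, Subgroup.card_mul_index]
      _ ≤ Nat.card W * 2 := Nat.mul_le_mul (hker.trans this) (hZ ▸ Subgroup.card_le_card_group _)
      _ = Nat.card V := hcard.symm

theorem inner_of_central {E : Type*} [Group E] [Finite E]
    (hcomm : commutator E = Subgroup.center E) (hZ : Nat.card (Subgroup.center E) = 2)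
    (hsq : ∀ a : E, a * a ∈ Subgroup.center E) (φ : E ≃* E)
    (hφ : ∀ x : E, φ x * x⁻¹ ∈ Subgroup.center E) : ∃ g : E, ∀ x : E, φ x = g * x * g⁻¹ := by
  letI : CommGroup ↥(Subgroup.center E) :=
    { (inferInstance : Group ↥(Subgroup.center E)) with
      mul_comm := fun a b => Subtype.ext (Subgroup.mem_center_iff.mp b.2 a) }
  have hc : ∀ z ∈ Subgroup.center E, ∀ g : E, g * z = z * g := fun z hz g =>
    Subgroup.mem_center_iff.mp hz g
  -- a homomorphism to the centre attached to each element
  let δ : E → E →* Subgroup.center E := fun g =>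
    { toFun := fun x => ⟨g * x * g⁻¹ * x⁻¹, by
        rw [← hcomm]
        exact Subgroup.commutator_mem_commutator (Subgroup.mem_top g) (Subgroup.mem_top x)⟩
      map_one' := Subtype.ext (by simp)
      map_mul' := fun x y => Subtype.ext (by
        show g * (x * y) * g⁻¹ * (x * y)⁻¹ = g * x * g⁻¹ * x⁻¹ * (g * y * g⁻¹ * y⁻¹)
        have hy : g * y * g⁻¹ * y⁻¹ ∈ Subgroup.center E := by
          rw [← hcomm]
          exact Subgroup.commutator_mem_commutator (Subgroup.mem_top g) (Subgroup.mem_top y)
        calc g * (x * y) * g⁻¹ * (x * y)⁻¹ = g * x * g⁻¹ * (g * y * g⁻¹ * y⁻¹) * x⁻¹ := by group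
          _ = g * x * g⁻¹ * x⁻¹ * (g * y * g⁻¹ * y⁻¹) := by
            rw [mul_assoc (g * x * g⁻¹), ← hc _ hy x⁻¹, ← mul_assoc]) }
  have hkill : ∀ g z, z ∈ Subgroup.center E → δ g z = 1 := fun g z hz => Subtype.ext (by
    show g * z * g⁻¹ * z⁻¹ = 1
    rw [hc z hz g]; group)
  let lam : E →* Subgroup.center E :=
    { toFun := fun x => ⟨φ x * x⁻¹, hφ x⟩
      map_one' := Subtype.ext (by simp)
      map_mul' := fun x y => Subtype.ext (by
        show φ (x * y) * (x * y)⁻¹ = φ x * x⁻¹ * (φ y * y⁻¹)
        calc φ (x * y) * (x * y)⁻¹ = φ x * (φ y * y⁻¹) * x⁻¹ := by rw [map_mul]; group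
          _ = φ x * x⁻¹ * (φ y * y⁻¹) := by
            rw [mul_assoc (φ x), ← hc _ (hφ y) x⁻¹, ← mul_assoc]) }
  have hlam : Subgroup.center E ≤ lam.ker := by
    refine le_trans (le_of_eq hcomm.symm) ?_
    rw [commutator_def, Subgroup.commutator_le]
    intro a _ b _
    rw [MonoidHom.mem_ker, map_commutatorElement]
    exact commutatorElement_eq_one_iff_mul_comm.mpr (Subtype.ext
      (Subgroup.mem_center_iff.mp (lam b).2 _))
  let θ : E ⧸ Subgroup.center E → (E ⧸ Subgroup.center E →* Subgroup.center E) := fun q =>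
    QuotientGroup.lift _ (δ q.out) (fun z hz => hkill _ z hz)
  have hθinj : Function.Injective θ := by
    intro a b hab
    rw [← Quotient.out_eq a, ← Quotient.out_eq b]
    refine QuotientGroup.eq.mpr (Subgroup.mem_center_iff.mpr fun x => ?_)
    have h1 : a.out * x * a.out⁻¹ * x⁻¹ = b.out * x * b.out⁻¹ * x⁻¹ :=
      congrArg Subtype.val (DFunLike.congr_fun hab (QuotientGroup.mk x))
    have h2 : a.out * x * a.out⁻¹ = b.out * x * b.out⁻¹ := mul_right_cancel h1
    calc x * (a.out⁻¹ * b.out) = a.out⁻¹ * (a.out * x * a.out⁻¹) * b.out := by group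
      _ = a.out⁻¹ * b.out * x := by rw [h2]; group
  have hle : Nat.card (E ⧸ Subgroup.center E →* Subgroup.center E) ≤
      Nat.card (E ⧸ Subgroup.center E) := by
    have hexp : ∀ v : E ⧸ Subgroup.center E, v * v = 1 := fun v => by
      obtain ⟨x, rfl⟩ := QuotientGroup.mk_surjective v
      exact (QuotientGroup.eq_one_iff _).mpr (hsq x)
    exact card_hom_le (Z := ↥(Subgroup.center E)) hZ (Nat.card (E ⧸ Subgroup.center E))
      (E ⧸ Subgroup.center E) rfl hexp
  have : Finite (E ⧸ Subgroup.center E →* Subgroup.center E) :=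
    Finite.of_injective _ DFunLike.coe_injective
  obtain ⟨q, hq⟩ := (hθinj.bijective_of_nat_card_le hle).2
    (QuotientGroup.lift _ lam hlam)
  refine ⟨q.out, fun x => ?_⟩
  have h1 : q.out * x * q.out⁻¹ * x⁻¹ = φ x * x⁻¹ :=
    congrArg Subtype.val (DFunLike.congr_fun hq (QuotientGroup.mk x))
  exact (mul_right_cancel h1).symm

/-- For a finite extraspecial 2-group E, an automorphism of E that induces the identity on E modulo its centre is inner (so these automorphisms form exactly the inner automorphism group, an elementary abelian 2-group of order |E|/2). -/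
theorem result {E : Type*} [Group E] [Finite E] (hE : Cfsg.IsExtraspecial 2 E) (φ : E ≃* E) (hφ : ∀ x : E, φ x * x⁻¹ ∈ Subgroup.center E) : ∃ g : E, ∀ x : E, φ x = g * x * g⁻¹ := by
  obtain ⟨⟨hp, hfrat, hcomm⟩, hZ⟩ := hE
  refine inner_of_central hcomm hZ (fun a => ?_) φ hφ
  have : Fact (Nat.Prime 2) := ⟨Nat.prime_two⟩
  rw [← hfrat, ← pow_two]
  exact Cfsg.Agent.PGroupsBasic.pow_mem_frattini hp a

end Cfsg.Agent.S5395
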