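import Cfsg.Statements.S5396
import Cfsg.Agent.Lib.LargeExtraspecial

set_option autoImplicit false
open Cfsg

namespace Cfsg.Agent.S5396

open scoped commutatorElement

variable {n : ℕ}

/-- The coordinate space. -/
abbrev V (n : ℕ) := Fin n → ZMod 2 × ZMod 2

/-- The cocycle. -/
def B (b : ZMod 2) (i0 : Fin n) (v w : V n) : ZMod 2 :=
  ∑ i, (v i).1 * (w i).2 + b * ((v i0).1 * (w i0).1 + (v i0).2 * (w i0).2)

theorem B_add_left (b : ZMod 2) (i0 : Fin n) (u v w : V n) :
    B b i0 (u + v) w = B b i0 u w + B b i0 v w := by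
  simp only [B, Pi.add_apply, Prod.fst_add, Prod.snd_add, add_mul, Finset.sum_add_distrib]
  ring

theorem B_add_right (b : ZMod 2) (i0 : Fin n) (u v w : V n) :
    B b i0 u (v + w) = B b i0 u v + B b i0 u w := by
  simp only [B, Pi.add_apply, Prod.fst_add, Prod.snd_add, mul_add, Finset.sum_add_distrib]
  ring

theorem B_zero_left (b : ZMod 2) (i0 : Fin n) (w : V n) : B b i0 0 w = 0 := by simp [B]

theorem B_zero_right (b : ZMod 2) (i0 : Fin n) (w : V n) : B b i0 w 0 = 0 := by simp [B]

/-- The central extension defined by the cocycle. -/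
@[ext] structure Ext (n : ℕ) (b : ZMod 2) (i0 : Fin n) where
  v : V n
  a : ZMod 2

variable {b : ZMod 2} {i0 : Fin n}

instance : Mul (Ext n b i0) := ⟨fun e f => ⟨e.v + f.v, e.a + f.a + B b i0 e.v f.v⟩⟩
instance : One (Ext n b i0) := ⟨⟨0, 0⟩⟩
instance : Inv (Ext n b i0) := ⟨fun e => ⟨e.v, e.a + B b i0 e.v e.v⟩⟩

theorem mul_v (e f : Ext n b i0) : (e * f).v = e.v + f.v := rfl
theorem mul_a (e f : Ext n b i0) : (e * f).a = e.a + f.a + B b i0 e.v f.v := rfl
theorem one_v : (1 : Ext n b i0).v = 0 := rfl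
theorem one_a : (1 : Ext n b i0).a = 0 := rfl
theorem inv_v (e : Ext n b i0) : e⁻¹.v = e.v := rfl
theorem inv_a (e : Ext n b i0) : e⁻¹.a = e.a + B b i0 e.v e.v := rfl

theorem vv (v : V n) : v + v = 0 := by
  funext i
  exact Prod.ext (CharTwo.add_self_eq_zero _) (CharTwo.add_self_eq_zero _)

instance instGroup : Group (Ext n b i0) where
  mul_assoc e f g := by
    refine Ext.ext (add_assoc _ _ _) ?_
    simp only [mul_a, mul_v, B_add_left, B_add_right]
    ring
  one_mul e := by
    refine Ext.ext (zero_add _) ?_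
    simp [mul_a, one_v, one_a, B_zero_left]
  mul_one e := by
    refine Ext.ext (add_zero _) ?_
    simp [mul_a, one_v, one_a, B_zero_right]
  inv_mul_cancel e := by
    refine Ext.ext (vv _) ?_
    rw [mul_a, inv_v, inv_a, one_a]
    generalize e.a = x
    generalize B b i0 e.v e.v = y
    revert x y
    decide

/-- The underlying set. -/
def toProd : Ext n b i0 ≃ V n × ZMod 2 where
  toFun e := (e.v, e.a)
  invFun q := ⟨q.1, q.2⟩
  left_inv _ := rfl
  right_inv _ := rfl

instance : Finite (Ext n b i0) := Finite.of_equiv _ toProd.symm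

theorem card_V : Nat.card (V n) = 2 ^ (2 * n) := by
  simp [pow_mul]

theorem card_ext : Nat.card (Ext n b i0) = 2 ^ (2 * n + 1) := by
  rw [Nat.card_congr toProd, Nat.card_prod, card_V, Nat.card_zmod, pow_succ]

theorem polar_eq (v w : V n) :
    B b i0 v w + B b i0 w v = ∑ i, ((v i).1 * (w i).2 + (w i).1 * (v i).2) := by
  simp only [B, Finset.sum_add_distrib]
  have e : b * ((w i0).1 * (v i0).1 + (w i0).2 * (v i0).2) =
      b * ((v i0).1 * (w i0).1 + (v i0).2 * (w i0).2) := by ring
  rw [e]
  linear_combination CharTwo.add_self_eq_zero (b * ((v i0).1 * (w i0).1 + (v i0).2 * (w i0).2))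

theorem nondeg {v : V n} (h : ∀ w, B b i0 v w + B b i0 w v = 0) : v = 0 := by
  funext j
  refine Prod.ext ?_ ?_
  · have := h (Pi.single j (0, 1))
    rw [polar_eq, Finset.sum_eq_single j (fun i _ hi => by simp [hi]) (by simp)] at this
    simpa using this
  · have := h (Pi.single j (1, 0))
    rw [polar_eq, Finset.sum_eq_single j (fun i _ hi => by simp [hi]) (by simp)] at this
    simpa using this

/-- The sign character. -/
def chi (a : ZMod 2) : ℤ := if a = 0 then 1 else -1

theorem chi_add : ∀ a c : ZMod 2, chi (a + c) = chi a * chi c := by decide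

theorem chi_sum {ι : Type} (s : Finset ι) (f : ι → ZMod 2) :
    chi (∑ i ∈ s, f i) = ∏ i ∈ s, chi (f i) := by
  classical
  induction s using Finset.induction with
  | empty => rfl
  | insert a s ha ih => rw [Finset.sum_insert ha, Finset.prod_insert ha, chi_add, ih]

theorem gauss : ∑ v : V n, chi (B b i0 v v) = if b = 0 then 2 ^ n else -(2 ^ n) := by
  classical
  let g : Fin n → ZMod 2 × ZMod 2 → ZMod 2 := fun i p =>
    p.1 * p.2 + if i = i0 then b * (p.1 * p.1 + p.2 * p.2) else 0
  have hB : ∀ v : V n, B b i0 v v = ∑ i, g i (v i) := fun v => by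
    simp [B, g, Finset.sum_add_distrib]
  simp only [hB, chi_sum]
  rw [← Fintype.prod_sum fun i p => chi (g i p)]
  rw [← Finset.mul_prod_erase Finset.univ _ (Finset.mem_univ i0),
    Finset.prod_eq_pow_card (b := (2 : ℤ)) (fun i hi => by
      simp only [g, if_neg (Finset.ne_of_mem_erase hi)]
      decide),
    Finset.card_erase_of_mem (Finset.mem_univ i0), Finset.card_univ, Fintype.card_fin]
  have h0 : ∀ c : ZMod 2, (∑ p : ZMod 2 × ZMod 2, chi (p.1 * p.2 + c * (p.1 * p.1 + p.2 * p.2))) =
      if c = 0 then 2 else -2 := by decide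
  have h1 : (∑ p, chi (g i0 p)) = if b = 0 then 2 else -2 := by
    simp only [g, if_true]
    exact h0 b
  rw [h1]
  have hn : 2 ^ n = 2 * (2 : ℤ) ^ (n - 1) := by
    rw [← pow_succ']; congr 1; have := i0.2; omega
  rw [hn]
  split_ifs <;> ring

/-- Character sums over a subset closed under addition. -/
theorem sum_chi_zero {U : Finset (V n)} (hadd : ∀ u ∈ U, ∀ w ∈ U, u + w ∈ U) (f : V n → ZMod 2)
    (hf : ∀ u w, f (u + w) = f u + f w) {u0 : V n} (hu0 : u0 ∈ U) (h1 : f u0 ≠ 0) :
    ∑ u ∈ U, chi (f u) = 0 := by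
  have e : ∑ u ∈ U, chi (f u) = ∑ u ∈ U, chi (f (u + u0)) := by
    refine Finset.sum_nbij' (fun u => u + u0) (fun u => u + u0) (fun u hu => hadd u hu u0 hu0)
      (fun u hu => hadd u hu u0 hu0) (fun u _ => ?_) (fun u _ => ?_) fun u _ => ?_
    · rw [add_assoc, vv, add_zero]
    · rw [add_assoc, vv, add_zero]
    · rw [add_assoc, vv, add_zero]
  have h2 : chi (f u0) = -1 := if_neg h1
  simp only [hf, chi_add, h2, mul_neg, mul_one, Finset.sum_neg_distrib] at e
  omega

theorem isotropic_bound {U : Finset (V n)} (h0 : (0 : V n) ∈ U) (hadd : ∀ u ∈ U, ∀ w ∈ U, u + w ∈ U)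
    (horth : ∀ u ∈ U, ∀ w ∈ U, B b i0 u w + B b i0 w u = 0) (hQ : ∀ u ∈ U, B b i0 u u = 0) :
    U.card ≤ 2 ^ n ∧ (b ≠ 0 → U.card < 2 ^ n) := by
  classical
  let β : V n → V n → ZMod 2 := fun v u => B b i0 v u + B b i0 u v
  have hr : ∀ v u w, β v (u + w) = β v u + β v w := fun v u w => by
    simp only [β, B_add_left, B_add_right]; ring
  have hl : ∀ v u w, β (u + w) v = β u v + β w v := fun v u w => by
    simp only [β, B_add_left, B_add_right]; ring
  let P := Finset.univ.filter fun v => ∀ u ∈ U, β v u = 0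
  have hinner : ∀ v, ∑ u ∈ U, chi (β v u) = if v ∈ P then (U.card : ℤ) else 0 := by
    intro v
    split_ifs with hv
    · rw [Finset.sum_congr rfl fun u hu => by rw [(Finset.mem_filter.mp hv).2 u hu]]
      simp [chi]
    · simp only [P, Finset.mem_filter, Finset.mem_univ, true_and] at hv
      push Not at hv
      obtain ⟨u0, hu0, h1⟩ := hv
      exact sum_chi_zero hadd (β v) (hr v) hu0 h1
  have hcount : (P.card : ℤ) * U.card = 2 ^ (2 * n) := by
    have e1 : ∑ v : V n, ∑ u ∈ U, chi (β v u) = (P.card : ℤ) * U.card := by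
      simp only [hinner, ← Finset.sum_filter]
      simp
    rw [← e1, Finset.sum_comm, Finset.sum_eq_single (0 : V n) (fun u _ hu => ?_) (absurd h0)]
    · have : ∀ v : V n, chi (β v 0) = 1 := fun v => by simp [β, B_zero_left, B_zero_right, chi]
      rw [Finset.sum_congr rfl fun v _ => this v, Finset.sum_const, Finset.card_univ,
        ← Nat.card_eq_fintype_card, card_V]
      simp
    · obtain ⟨v0, hv0⟩ : ∃ v0, β v0 u ≠ 0 := by
        by_contra hno
        push Not at hno
        exact hu (nondeg fun w => (add_comm _ _).trans (hno w))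
      exact sum_chi_zero (fun _ _ _ _ => Finset.mem_univ _) (fun v => β v u) (hl u)
        (Finset.mem_univ v0) hv0
  have hUP : U ⊆ P := fun u hu => Finset.mem_filter.mpr ⟨Finset.mem_univ _, horth u hu⟩
  have hle : U.card ≤ P.card := Finset.card_le_card hUP
  have hcount' : P.card * U.card = 2 ^ n * 2 ^ n := by
    rw [← pow_add, ← two_mul]; exact_mod_cast hcount
  have hU : U.card ≤ 2 ^ n :=
    Nat.mul_self_le_mul_self_iff.mp ((Nat.mul_le_mul_right _ hle).trans_eq hcount')
  refine ⟨hU, fun hb => lt_of_le_of_ne hU fun heq => ?_⟩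
  have hP : P = U := by
    refine (Finset.eq_of_subset_of_card_le hUP ?_).symm
    rw [heq] at hcount' ⊢
    exact le_of_eq (Nat.eq_of_mul_eq_mul_right (Nat.two_pow_pos n) hcount')
  have hS : ∑ u ∈ U, ∑ v : V n, chi (B b i0 (v + u) (v + u)) = (U.card : ℤ) * U.card := by
    rw [Finset.sum_comm]
    have : ∀ v : V n, ∑ u ∈ U, chi (B b i0 (v + u) (v + u)) =
        chi (B b i0 v v) * if v ∈ P then (U.card : ℤ) else 0 := by
      intro v
      rw [← hinner v, Finset.mul_sum]
      refine Finset.sum_congr rfl fun u hu => ?_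
      rw [← chi_add]
      congr 1
      simp only [β, B_add_left, B_add_right, hQ u hu]
      ring
    rw [Finset.sum_congr rfl fun v _ => this v]
    simp only [mul_ite, mul_zero, Finset.sum_ite_mem, Finset.univ_inter]
    rw [hP, Finset.sum_congr rfl fun v hv => by rw [hQ v hv]]
    simp [chi]
  have hshift : ∀ u : V n, ∑ v : V n, chi (B b i0 (v + u) (v + u)) = -(2 ^ n) := fun u =>
    (Equiv.sum_comp (Equiv.addRight u) (fun v => chi (B b i0 v v))).trans (gauss.trans (if_neg hb))
  rw [Finset.sum_congr rfl fun u _ => hshift u, Finset.sum_const, nsmul_eq_mul, heq] at hS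
  have h2 := Int.pow_pos (n := (2 : ℤ)) (m := n) (by norm_num)
  push_cast at hS
  nlinarith

theorem mem_center_iff' {e : Ext n b i0} : e ∈ Subgroup.center (Ext n b i0) ↔ e.v = 0 := by
  rw [Subgroup.mem_center_iff]
  refine ⟨fun h => nondeg (b := b) (i0 := i0) fun w => ?_, fun h g => ?_⟩
  · have := congrArg Ext.a (h ⟨w, 0⟩)
    simp only [mul_a, zero_add, add_zero] at this
    generalize e.a = x at this
    generalize B b i0 w e.v = y at this ⊢
    generalize B b i0 e.v w = z at this ⊢
    revert this x y z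
    decide
  · refine Ext.ext (add_comm _ _) ?_
    simp only [mul_a, h, B_zero_left, B_zero_right]
    ring

theorem isExtraspecial : Cfsg.IsExtraspecial 2 (Ext n b i0) := by
  have hP : IsPGroup 2 (Ext n b i0) := IsPGroup.of_card card_ext
  have hsq : ∀ e : Ext n b i0, (e * e).v = 0 := fun e => vv e.v
  let z : Ext n b i0 := ⟨0, 1⟩
  have hcases : ∀ e : Ext n b i0, e ∈ Subgroup.center (Ext n b i0) → e = 1 ∨ e = z := by
    intro e he
    rcases (show ∀ x : ZMod 2, x = 0 ∨ x = 1 by decide) e.a with h | h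
    · exact Or.inl (Ext.ext (mem_center_iff'.mp he) h)
    · exact Or.inr (Ext.ext (mem_center_iff'.mp he) h)
  refine ⟨⟨hP, le_antisymm ?_ ?_, le_antisymm ?_ ?_⟩, ?_⟩
  · refine LargeExtraspecial.frattini_le_of_sq_mem _ (fun e => mem_center_iff'.mpr (hsq e))
      fun x y => mem_center_iff'.mpr ?_
    simp only [mul_v, inv_v]
    rw [show x.v + y.v + x.v + y.v = (x.v + y.v) + (x.v + y.v) by abel, vv]
  · intro e he
    rcases hcases e he with rfl | rfl
    · exact one_mem _
    · let e0 : Ext n b i0 := ⟨Pi.single i0 (1, 1), 0⟩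
      have : e0 * e0 = z := by
        refine Ext.ext (vv _) ?_
        show (0 : ZMod 2) + 0 + B b i0 _ _ = 1
        rw [B, Finset.sum_eq_single i0 (fun i _ hi => by simp [e0, hi]) (by simp)]
        simp only [e0, Pi.single_eq_same]
        generalize b = c
        revert c
        decide
      rw [← this]
      exact LargeExtraspecial.sq_mem_frattini hP e0
  · rw [commutator_def, Subgroup.commutator_le]
    intro x _ y _
    rw [commutatorElement_def]
    refine mem_center_iff'.mpr ?_
    simp only [mul_v, inv_v]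
    rw [show x.v + y.v + x.v + y.v = (x.v + y.v) + (x.v + y.v) by abel, vv]
  · intro e he
    rcases hcases e he with rfl | rfl
    · exact one_mem _
    · let e1 : Ext n b i0 := ⟨Pi.single i0 (1, 0), 0⟩
      let e2 : Ext n b i0 := ⟨Pi.single i0 (0, 1), 0⟩
      have : ⁅e1, e2⁆ = z := by
        rw [commutatorElement_def]
        refine Ext.ext ?_ ?_
        · simp only [mul_v, inv_v]
          show _ = (0 : V n)
          rw [show e1.v + e2.v + e1.v + e2.v = (e1.v + e2.v) + (e1.v + e2.v) by abel, vv]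
        · simp only [mul_a, mul_v, inv_a, inv_v, B_add_left]
          have h12 : B b i0 e1.v e2.v = 1 := by
            rw [B, Finset.sum_eq_single i0 (fun i _ hi => by simp [e1, hi]) (by simp)]
            simp [e1, e2]
          have h21 : B b i0 e2.v e1.v = 0 := by
            rw [B, Finset.sum_eq_single i0 (fun i _ hi => by simp [e2, hi]) (by simp)]
            simp [e1, e2]
          rw [h12, h21]
          show _ = (1 : ZMod 2)
          generalize e1.a = p
          generalize e2.a = q
          generalize B b i0 e1.v e1.v = r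
          generalize B b i0 e2.v e2.v = s
          revert p q r s
          decide
      rw [← this, commutator_def]
      exact Subgroup.commutator_mem_commutator (Subgroup.mem_top _) (Subgroup.mem_top _)
  · let f : Subgroup.center (Ext n b i0) ≃ ZMod 2 :=
      { toFun := fun e => e.1.a
        invFun := fun x => ⟨⟨0, x⟩, mem_center_iff'.mpr rfl⟩
        left_inv := fun e => Subtype.ext (Ext.ext (mem_center_iff'.mp e.2).symm rfl)
        right_inv := fun _ => rfl }
    rw [Nat.card_congr f, Nat.card_zmod]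

theorem rank_le {A : Subgroup (Ext n b i0)} (hA : Cfsg.IsElementaryAbelian 2 A) :
    Nat.card A ≤ 2 * 2 ^ n ∧ (b ≠ 0 → Nat.card A < 2 * 2 ^ n) := by
  classical
  let U : Finset (V n) := Finset.univ.filter fun v => ∃ e ∈ A, e.v = v
  have hU : ∀ {v}, v ∈ U ↔ ∃ e ∈ A, e.v = v := fun {v} => by simp [U]
  have hc : ∀ e ∈ A, ∀ f ∈ A, e * f = f * e := fun e he f hf =>
    congrArg Subtype.val (hA.1.1.1 ⟨e, he⟩ ⟨f, hf⟩)
  have hb := isotropic_bound (b := b) (i0 := i0) (U := U) (hU.mpr ⟨1, A.one_mem, rfl⟩)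
    (fun u hu w hw => by
      obtain ⟨e, he, rfl⟩ := hU.mp hu
      obtain ⟨f, hf, rfl⟩ := hU.mp hw
      exact hU.mpr ⟨e * f, A.mul_mem he hf, rfl⟩)
    (fun u hu w hw => by
      obtain ⟨e, he, rfl⟩ := hU.mp hu
      obtain ⟨f, hf, rfl⟩ := hU.mp hw
      have := congrArg Ext.a (hc e he f hf)
      simp only [mul_a] at this
      generalize e.a = p at this
      generalize f.a = q at this
      generalize B b i0 e.v f.v = r at this ⊢
      generalize B b i0 f.v e.v = s at this ⊢
      revert this p q r s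
      decide)
    (fun u hu => by
      obtain ⟨e, he, rfl⟩ := hU.mp hu
      have := congrArg Ext.a ((pow_two e).symm.trans (hA.2 e he))
      simp only [mul_a, one_a] at this
      generalize e.a = p at this
      generalize B b i0 e.v e.v = r at this ⊢
      revert this p r
      decide)
  have hle : Nat.card A ≤ U.card * 2 := by
    have hinj : Function.Injective (fun e : A =>
        ((⟨e.1.v, hU.mpr ⟨e.1, e.2, rfl⟩⟩, e.1.a) : {v // v ∈ U} × ZMod 2)) := by
      intro e f h
      simp only [Prod.mk.injEq, Subtype.mk.injEq] at h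
      exact Subtype.ext (Ext.ext h.1 h.2)
    have := Nat.card_le_card_of_injective _ hinj
    simpa [Nat.card_prod] using this
  exact ⟨by omega, fun h => by have := hb.2 h; omega⟩

/-- The preimage of the standard totally singular subspace. -/
def A0 (b : ZMod 2) (i0 : Fin n) : Subgroup (Ext n b i0) where
  carrier := {e | (∀ i, (e.v i).2 = 0) ∧ b * (e.v i0).1 = 0}
  one_mem' := ⟨fun _ => rfl, mul_zero _⟩
  mul_mem' := fun {e f} he hf => ⟨fun i => by
      show (e.v i + f.v i).2 = 0
      rw [Prod.snd_add, he.1, hf.1, add_zero], by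
      show b * (e.v i0 + f.v i0).1 = 0
      rw [Prod.fst_add, mul_add, he.2, hf.2, add_zero]⟩
  inv_mem' := fun {e} he => he

theorem A0_B {e f : Ext n b i0} (he : e ∈ A0 b i0) (hf : f ∈ A0 b i0) : B b i0 e.v f.v = 0 := by
  rw [B, Finset.sum_eq_zero fun i _ => by rw [hf.1 i, mul_zero], he.1 i0, zero_mul, add_zero,
    ← mul_assoc, he.2, zero_mul, add_zero]

theorem A0_elem : Cfsg.IsElementaryAbelian 2 (A0 b i0) := by
  refine ⟨⟨⟨fun e f => Subtype.ext (Ext.ext (add_comm _ _) ?_)⟩⟩, fun e he => ?_⟩
  · show e.1.a + f.1.a + _ = f.1.a + e.1.a + _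
    rw [A0_B e.2 f.2, A0_B f.2 e.2, add_comm e.1.a]
  · rw [pow_two]
    refine Ext.ext (vv _) ?_
    rw [mul_a, A0_B he he, add_zero, CharTwo.add_self_eq_zero]
    rfl

theorem A0_card : Nat.card (A0 b i0) = 2 ^ (if b = 0 then n + 1 else n) := by
  classical
  by_cases hb : b = 0
  · subst hb
    let f : A0 0 i0 ≃ (Fin n → ZMod 2) × ZMod 2 :=
      { toFun := fun e => (fun i => (e.1.v i).1, e.1.a)
        invFun := fun q => ⟨⟨fun i => (q.1 i, 0), q.2⟩, fun _ => rfl, zero_mul _⟩
        left_inv := fun e => Subtype.ext (Ext.ext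
          (funext fun i => Prod.ext rfl (e.2.1 i).symm) rfl)
        right_inv := fun _ => rfl }
    rw [Nat.card_congr f, if_pos rfl]
    simp [pow_succ]
  · have hb1 : b = 1 := (show ∀ x : ZMod 2, x ≠ 0 → x = 1 by decide) b hb
    subst hb1
    let f : A0 1 i0 ≃ ({j // j ≠ i0} → ZMod 2) × ZMod 2 :=
      { toFun := fun e => (fun i => (e.1.v i).1, e.1.a)
        invFun := fun q => ⟨⟨fun i => (if h : i = i0 then 0 else q.1 ⟨i, h⟩, 0), q.2⟩,
          fun _ => rfl, by simp⟩
        left_inv := fun e => Subtype.ext (Ext.ext (funext fun i => Prod.ext (by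
          show (if h : i = i0 then 0 else (e.1.v i).1) = _
          split_ifs with h
          · subst h
            have := e.2.2
            rw [one_mul] at this
            exact this.symm
          · rfl) (e.2.1 i).symm) rfl)
        right_inv := fun q => Prod.ext (funext fun j => dif_neg j.2) rfl }
    rw [Nat.card_congr f, if_neg hb]
    have hn := i0.2
    rw [Nat.card_prod, Nat.card_fun, Nat.card_zmod, Nat.card_eq_fintype_card,
      Fintype.card_subtype_compl]
    simp only [Fintype.card_fin, Fintype.card_subtype_eq]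
    rw [← pow_succ]
    congr 1
    omega

/-- For every n ≥ 1 there exist finite extraspecial 2-groups of order 2^(2n+1) whose 2-rank (the largest rank of an elementary abelian subgroup) is n, and ones whose 2-rank is n + 1 (so for each such order there are two non-isomorphic extraspecial 2-groups, told apart by their 2-rank). -/
theorem result (n : ℕ) (hn : 1 ≤ n) : ∀ r ∈ ({n, n + 1} : Set ℕ), ∃ (E : Type) (_ : Group E) (_ : Finite E), Cfsg.IsExtraspecial 2 E ∧ Nat.card E = 2 ^ (2 * n + 1) ∧ sSup {k : ℕ | ∃ A : Subgroup E, Cfsg.IsElementaryAbelian 2 A ∧ Nat.card A = 2 ^ k} = r := by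
  have key : ∀ (b : ZMod 2) (i0 : Fin n),
      sSup {k : ℕ | ∃ A : Subgroup (Ext n b i0), Cfsg.IsElementaryAbelian 2 A ∧ Nat.card A = 2 ^ k} =
        if b = 0 then n + 1 else n := by
    intro b i0
    refine IsGreatest.csSup_eq ⟨⟨A0 b i0, A0_elem, A0_card⟩, ?_⟩
    rintro k ⟨A, hA, hk⟩
    have h := rank_le hA
    rw [hk, ← pow_succ'] at h
    split_ifs with hb
    · exact (Nat.pow_le_pow_iff_right (by norm_num)).mp h.1
    · exact Nat.lt_succ_iff.mp ((Nat.pow_lt_pow_iff_right (by norm_num)).mp (h.2 hb))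
  intro r hr
  simp only [Set.mem_insert_iff, Set.mem_singleton_iff] at hr
  rcases hr with hr | hr <;> rw [hr]
  · exact ⟨Ext n 1 ⟨0, hn⟩, inferInstance, inferInstance, isExtraspecial, card_ext,
      (key _ _).trans (if_neg one_ne_zero)⟩
  · exact ⟨Ext n 0 ⟨0, hn⟩, inferInstance, inferInstance, isExtraspecial, card_ext,
      (key _ _).trans (if_pos rfl)⟩

end Cfsg.Agent.S5396
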