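import Cfsg.Statements.S5397
import Cfsg.Agent.Lib.LargeExtraspecialSetting
import Cfsg.Agent.Lib.ConwayTypeOrder62
import Cfsg.Agent.Lib.Co1Dual89
import Cfsg.Agent.Lib.Co1Split89

set_option autoImplicit false
open Cfsg

namespace Cfsg.Agent.S5397

/-- Let G be a finite group of Conway type (involution z with generalized Fitting subgroup Q of its centralizer C extraspecial of order 2^9, C/Q the commutator subgroup of the isometry group of the hyperbolic quadratic form in dimension 8 over the field with two elements, z not weakly closed in Q). Then G has an elementary abelian subgroup A of order 2^11 containing z whose normalizer N is a split extension of A with N/A isomorphic to the automorphism group of the length-24 code built from the squares modulo 23, and N has exactly two orbits on the non-identity elements of A. -/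
theorem result {G : Type*} [Group G] [Finite G] (z : G) (hz : orderOf z = 2) (Q : Subgroup (Subgroup.centralizer ({z} : Set G))) [Q.Normal] (hF : Cfsg.generalizedFittingSubgroup (Subgroup.centralizer ({z} : Set G)) = Q) (hQ : Cfsg.IsExtraspecial 2 Q) (hcard : Nat.card Q = 2 ^ 9) (e : (Subgroup.centralizer ({z} : Set G)) ⧸ Q ≃* Cfsg.Omega (ZMod 2) (Cfsg.quadFormPlus 4 (ZMod 2))) (hnwc : ∃ g : G, (∃ hq : g * z * g⁻¹ ∈ Subgroup.centralizer ({z} : Set G), (⟨g * z * g⁻¹, hq⟩ : Subgroup.centralizer ({z} : Set G)) ∈ Q) ∧ g * z * g⁻¹ ≠ z) : ∃ A : Subgroup G, Cfsg.IsElementaryAbelian 2 A ∧ Nat.card A = 2 ^ 11 ∧ z ∈ A ∧ ∃ _ : (A.subgroupOf (Subgroup.normalizer (A : Set G))).Normal, Nonempty (↥(Subgroup.normalizer (A : Set G)) ⧸ A.subgroupOf (Subgroup.normalizer (A : Set G)) ≃* ↥Cfsg.M24) ∧ (∃ K : Subgroup ↥(Subgroup.normalizer (A : Set G)), (A.subgroupOf (Subgroup.normalizer (A : Set G))).IsComplement' K) ∧ ∃ a ∈ A, ∃ b ∈ A, a ≠ 1 ∧ b ≠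 1 ∧ (∀ n ∈ Subgroup.normalizer (A : Set G), n * a * n⁻¹ ≠ b) ∧ ∀ c ∈ A, c ≠ 1 → ∃ n ∈ Subgroup.normalizer (A : Set G), n * c * n⁻¹ = a ∨ n * c * n⁻¹ = b := by
  obtain ⟨hL, -⟩ := LargeExtraspecialSetting.lhyp_of_fitting hz Q hF hQ
  set Q₀ := Q.map (Subgroup.centralizer ({z} : Set G)).subtype with hQ₀
  have hC : Nat.card (Subgroup.centralizer ({z} : Set G)) = 512 * 174182400 := by
    rw [Subgroup.card_eq_card_quotient_mul_card_subgroup Q, Nat.card_congr e.toEquiv,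
      show Nat.card ↥(Cfsg.Omega (ZMod 2) (Cfsg.quadFormPlus 4 (ZMod 2))) = 174182400 from
        ConwayTypeOrder62.card_omega, hcard]
    norm_num
  have H : ConwayTypeCoord62.Hyp Q₀ z := ⟨hL, by
    rw [hQ₀, Subgroup.card_map_of_injective (Subgroup.subtype_injective _), hcard]; norm_num, hC⟩
  obtain ⟨g₀, ⟨hq, hgQ⟩, hgz⟩ := hnwc
  obtain ⟨ν₀, d₀, ρ₀, D₀⟩ := ConwayTypeRadical62.exists_ctx H (g := g₀) ⟨_, hgQ, rfl⟩ hgz
  obtain ⟨ν, d, ρ, g, s, F⟩ := Co1Frame89.exists_fr D₀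
  obtain ⟨kw, K⟩ := Co1Frame89.exists_lifts F
  obtain ⟨h, C⟩ := Co1Frame89.exists_classes F K
  obtain ⟨φ, hk, hs⟩ := Co1Frame89.quotient_M24 F K C
  have hcA : Nat.card ↥(Co1Frame89.subA F K) = 2 ^ 11 := by
    let f : Fin 2048 → ↥(Co1Frame89.subA F K) := fun i =>
      ⟨Co1Frame89.psi z (g₀ * z * g₀⁻¹) g s kw i, i, i.2, rfl⟩
    have hf : Function.Bijective f := by
      refine ⟨fun i j e => Fin.ext (Co1Frame89.psi_inj F K i.2 j.2 (congrArg Subtype.val e)), ?_⟩
      rintro ⟨_, i, hi, rfl⟩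
      exact ⟨⟨i, hi⟩, rfl⟩
    rw [← Nat.card_eq_of_bijective f hf, Nat.card_fin]
    norm_num
  have hEA : Cfsg.IsElementaryAbelian 2 (Co1Frame89.subA F K) := by
    refine ⟨⟨⟨fun x y => ?_⟩⟩, fun x => ?_⟩
    · obtain ⟨_, i, hi, rfl⟩ := x
      obtain ⟨_, j, hj, rfl⟩ := y
      exact Subtype.ext (Co1Frame89.psi_comm F K i j)
    · intro hx
      obtain ⟨i, hi, rfl⟩ := hx
      rw [pow_two]
      exact Co1Frame89.psi_sq F K i
  haveI hn : ((Co1Frame89.subA F K).subgroupOf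
      (Subgroup.normalizer (Co1Frame89.subA F K : Set G))).Normal := hk ▸ φ.normal_ker
  refine ⟨Co1Frame89.subA F K, hEA, hcA, Co1Frame89.z_mem_A F K, hn,
    ⟨(QuotientGroup.quotientMulEquivOfEq hk.symm).trans
      (QuotientGroup.quotientKerEquivOfSurjective φ hs)⟩, Co1Frame89.exists_split F K hk hs hcA, ?_⟩
  obtain ⟨p1, -, -⟩ := Co1Frame89.psi_one F K
  have h1 : Co1Frame89.psi z (g₀ * z * g₀⁻¹) g s kw 1 ≠ 1 := fun e => by
    have := Co1Frame89.psi_inj F K (i := 1) (j := 0) (by norm_num) (by norm_num)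
      (e.trans (Co1Frame89.psi_zero F K).symm)
    omega
  have h40 : Co1Frame89.psi z (g₀ * z * g₀⁻¹) g s kw 40 ≠ 1 := fun e => by
    have := Co1Frame89.psi_inj F K (i := 40) (j := 0) (by norm_num) (by norm_num)
      (e.trans (Co1Frame89.psi_zero F K).symm)
    omega
  refine ⟨_, ⟨1, by norm_num, rfl⟩, _, ⟨40, by norm_num, rfl⟩, h1, h40, fun n _ e => ?_, ?_⟩
  · have hcj : IsConj z (Co1Frame89.psi z (g₀ * z * g₀⁻¹) g s kw 40) :=
      isConj_iff.mpr ⟨n, by rw [← e, p1]⟩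
    have := (C.iff 40 (by norm_num)).mp hcj
    exact absurd this (by decide +kernel)
  · rintro _ ⟨i, hi, rfl⟩ hc
    have hne : i ≠ 0 := fun e => hc (by rw [e]; exact Co1Frame89.psi_zero F K)
    cases hb : Co1Calc89.tb Co1Check89.classK i
    · obtain ⟨-, n, hn', en⟩ := C.relJ i hi hne hb
      exact ⟨n⁻¹, inv_mem hn', Or.inr (by rw [← en]; group)⟩
    · obtain ⟨-, n, hn', en⟩ := C.relK i hi hb
      exact ⟨n⁻¹, inv_mem hn', Or.inl (by rw [← en]; group)⟩

end Cfsg.Agent.S5397
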