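import Cfsg.Statements.S5398
import Cfsg.Agent.Lib.ThreeTransM22Classes72

set_option autoImplicit false
open Cfsg

namespace Cfsg.Agent.S5398

/-- Let G be a finite group with trivial centre generated by a conjugation-invariant set D of 3-transpositions on which it acts primitively, such that for some d in D the subgroup generated by the members of D other than d commuting with d has central largest normal 2- and 3-subgroups, and suppose G with D is of type M(22). Then G has exactly 3 conjugacy classes of involutions: every involution is a product of m distinct pairwise commuting members of D for some m between 1 and 3; for each such m these products form one non-empty conjugacy class; and the value of m is determined by the involution. -/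
theorem result {G : Type*} [Group G] [Finite G] {D : Set G} (hD : Cfsg.IsThreeTranspositionGroup D) (hprim : Cfsg.IsPrimitiveUnderConj D) (d : G) (hd : d ∈ D) (h3 : Cfsg.pCore 3 ↥(Subgroup.closure {y : G | y ∈ D ∧ y ≠ d ∧ Commute d y}) ≤ Subgroup.center ↥(Subgroup.closure {y : G | y ∈ D ∧ y ≠ d ∧ Commute d y})) (h2 : Cfsg.pCore 2 ↥(Subgroup.closure {y : G | y ∈ D ∧ y ≠ d ∧ Commute d y}) ≤ Subgroup.center ↥(Subgroup.closure {y : G | y ∈ D ∧ y ≠ d ∧ Commute d y})) (ht : Cfsg.IsOfTypeM22 G D) : (∀ x : G, orderOf x = 2 → ∃ m : ℕ, 1 ≤ m ∧ m ≤ 3 ∧ (∃ l : List G, l.Nodup ∧ l.length = m ∧ (∀ a ∈ l, a ∈ D) ∧ (∀ a ∈ l, ∀ b ∈ l, Commute a b) ∧ l.prod = x)) ∧ (∀ m : ℕ, 1 ≤ m → m ≤ 3 → (∃ x : G, orderOf x = 2 ∧ (∃ l : List G, l.Nodup ∧ l.length = m ∧ (∀ a ∈ l, a ∈ D) ∧ (∀ a ∈ l, ∀ b ∈ l, Commute a b) ∧ l.prod = x)) ∧ ∀ x y : G, (∃ l : List G, l.Nodup ∧ l.length = m ∧ (∀ a ∈ l, a ∈ D) ∧ (∀ a ∈ l, ∀ b ∈ l, Commute a b) ∧ l.prod = x) → (∃ l : List G, l.Nodup ∧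 l.length = m ∧ (∀ a ∈ l, a ∈ D) ∧ (∀ a ∈ l, ∀ b ∈ l, Commute a b) ∧ l.prod = y) → IsConj x y) ∧ ∀ (m m' : ℕ) (x : G), 1 ≤ m → m ≤ 3 → 1 ≤ m' → m' ≤ 3 → (∃ l : List G, l.Nodup ∧ l.length = m ∧ (∀ a ∈ l, a ∈ D) ∧ (∀ a ∈ l, ∀ b ∈ l, Commute a b) ∧ l.prod = x) → (∃ l : List G, l.Nodup ∧ l.length = m' ∧ (∀ a ∈ l, a ∈ D) ∧ (∀ a ∈ l, ∀ b ∈ l, Commute a b) ∧ l.prod = x) → m = m' := by
  classical
  refine ⟨fun x hx => ?_, fun m hm1 hm3 => ⟨?_, ?_⟩, ?_⟩
  · obtain ⟨l, hl, h1, h3, hp⟩ := ThreeTransM22Classes72.exists_product hD hprim ht hx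
    exact ⟨l.length, h1, h3, l, hl.nodup, rfl, hl.mem, hl.comm, hp⟩
  · obtain ⟨s, hs, a, ha, b, hb, hab, hne⟩ :=
      ThreeTransM22Cent72.exists_near_pair (ThreeTransRel.tsys_of_group hD) hprim ht
    have hC : ThreeTransRel.CList D [s, a, b] := by
      refine ⟨fun x hx => ?_, by simp [ha.2.1.symm, hb.2.1.symm, hne], fun x hx y hy => ?_⟩
      · simp at hx; rcases hx with rfl | rfl | rfl
        exacts [hs, ha.1, hb.1]
      · have h1 := ha.2.2
        have h2 := hb.2.2
        simp at hx hy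
        rcases hx with rfl | rfl | rfl <;> rcases hy with rfl | rfl | rfl <;>
          first | exact Commute.refl _ | exact h1 | exact h1.symm | exact h2 | exact h2.symm |
            exact hab | exact hab.symm
    have hsub : ∀ k, ThreeTransRel.CList D ([s, a, b].take k) := fun k => hC.sublist (List.take_sublist _ _)
    have hlen : ([s, a, b].take m).length = m := by simp; omega
    refine ⟨([s, a, b].take m).prod, ?_, [s, a, b].take m, (hsub m).nodup, hlen, (hsub m).mem,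
      (hsub m).comm, rfl⟩
    refine orderOf_eq_prime (by rw [pow_two]; exact (hsub m).prod_sq (ThreeTransRel.tsys_of_group hD))
      fun h1 => ?_
    have := ThreeTransDescent.no_short (ThreeTransRel.tsys_of_group hD) ht.1 ⟨hsub m, h1⟩
      (fun x hx => ThreeTrans.ne_one hD.1 ((hsub m).mem x hx)) (by omega)
    rw [this] at hlen
    simp at hlen
    omega
  · rintro x y ⟨l, h1, h2, h3, h4, rfl⟩ ⟨l', h1', h2', h3', h4', rfl⟩
    exact ThreeTransM22Classes72.isConj_products hD hprim ht ⟨h3, h1, h4⟩ ⟨h3', h1', h4'⟩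
      (h2.trans h2'.symm) (by omega) (by omega)
  · rintro m m' x hm1 hm3 hm1' hm3' ⟨l, h1, rfl, h3, h4, rfl⟩ ⟨l', h1', rfl, h3', h4', he⟩
    rcases le_total l.length l'.length with h | h
    · exact ThreeTransM22Classes72.length_unique hD hprim ht ⟨h3, h1, h4⟩ ⟨h3', h1', h4'⟩ hm1 h hm3'
        he.symm
    · exact (ThreeTransM22Classes72.length_unique hD hprim ht ⟨h3', h1', h4'⟩ ⟨h3, h1, h4⟩ hm1' h hm3
        he).symm

end Cfsg.Agent.S5398
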