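import Cfsg.Statements.S5399
import Cfsg.Agent.Lib.ThreeTransM23Classes59

set_option autoImplicit false
open Cfsg

namespace Cfsg.Agent.S5399

/-- Let G be a finite group with trivial centre generated by a conjugation-invariant set D of 3-transpositions on which it acts primitively, such that for some d in D the subgroup generated by the members of D other than d commuting with d has central largest normal 2- and 3-subgroups, and suppose G with D is of type M(23). Then G has exactly 3 conjugacy classes of involutions: every involution is a product of m distinct pairwise commuting members of D for some m between 1 and 3; for each such m these products form one non-empty conjugacy class; and the value of m is determined by the involution. -/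
theorem result {G : Type*} [Group G] [Finite G] {D : Set G} (hD : Cfsg.IsThreeTranspositionGroup D) (hprim : Cfsg.IsPrimitiveUnderConj D) (d : G) (hd : d ∈ D) (h3 : Cfsg.pCore 3 ↥(Subgroup.closure {y : G | y ∈ D ∧ y ≠ d ∧ Commute d y}) ≤ Subgroup.center ↥(Subgroup.closure {y : G | y ∈ D ∧ y ≠ d ∧ Commute d y})) (h2 : Cfsg.pCore 2 ↥(Subgroup.closure {y : G | y ∈ D ∧ y ≠ d ∧ Commute d y}) ≤ Subgroup.center ↥(Subgroup.closure {y : G | y ∈ D ∧ y ≠ d ∧ Commute d y})) (ht : Cfsg.IsOfTypeM23 G D) : (∀ x : G, orderOf x = 2 → ∃ m : ℕ, 1 ≤ m ∧ m ≤ 3 ∧ (∃ l : List G, l.Nodup ∧ l.length = m ∧ (∀ a ∈ l, a ∈ D) ∧ (∀ a ∈ l, ∀ b ∈ l, Commute a b) ∧ l.prod = x)) ∧ (∀ m : ℕ, 1 ≤ m → m ≤ 3 → (∃ x : G, orderOf x = 2 ∧ (∃ l : List G, l.Nodup ∧ l.length = m ∧ (∀ a ∈ l, a ∈ D) ∧ (∀ a ∈ l, ∀ b ∈ l, Commute a b) ∧ l.prod = x)) ∧ ∀ x y : G, (∃ l : List G, l.Nodup ∧ l.length = m ∧ (∀ a ∈ l, a ∈ D) ∧ (∀ a ∈ l, ∀ b ∈ l, Commute a b) ∧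 l.prod = x) → (∃ l : List G, l.Nodup ∧ l.length = m ∧ (∀ a ∈ l, a ∈ D) ∧ (∀ a ∈ l, ∀ b ∈ l, Commute a b) ∧ l.prod = y) → IsConj x y) ∧ ∀ (m m' : ℕ) (x : G), 1 ≤ m → m ≤ 3 → 1 ≤ m' → m' ≤ 3 → (∃ l : List G, l.Nodup ∧ l.length = m ∧ (∀ a ∈ l, a ∈ D) ∧ (∀ a ∈ l, ∀ b ∈ l, Commute a b) ∧ l.prod = x) → (∃ l : List G, l.Nodup ∧ l.length = m' ∧ (∀ a ∈ l, a ∈ D) ∧ (∀ a ∈ l, ∀ b ∈ l, Commute a b) ∧ l.prod = x) → m = m' := by
  obtain ⟨d₁, X⟩ := ThreeTransM23Local59.exists_ctx hD hprim hd h3 h2 ht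
  refine ⟨fun x hx => ?_, fun m hm1 hm3 => ⟨?_, ?_⟩, ?_⟩
  · obtain ⟨l, hl, h1, h3, hp⟩ := ThreeTransM23Classes59.exists_product X hx
    exact ⟨l.length, h1, h3, l, hl.nodup, rfl, hl.mem, hl.comm, hp⟩
  · obtain ⟨l, hl, hlen⟩ := ThreeTransM23Classes59.exists_chain X
    have hs : ThreeTransRel.CList D (l.take m) := hl.sublist (List.take_sublist _ _)
    have hlen' : (l.take m).length = m := by rw [List.length_take, hlen]; omega
    exact ⟨(l.take m).prod, ThreeTransM23Classes59.order_product X hs (by omega) (by omega),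
      l.take m, hs.nodup, hlen', hs.mem, hs.comm, rfl⟩
  · rintro x y ⟨l, h1, h2, h3, h4, rfl⟩ ⟨l', h1', h2', h3', h4', rfl⟩
    exact ThreeTransM23Classes59.isConj_products X ⟨h3, h1, h4⟩ ⟨h3', h1', h4'⟩
      (h2.trans h2'.symm) (by omega) (by omega)
  · rintro m m' x - hm3 - hm3' ⟨l, h1, rfl, h3, h4, rfl⟩ ⟨l', h1', rfl, h3', h4', he⟩
    exact ThreeTransM23Classes59.length_eq X ⟨h3, h1, h4⟩ ⟨h3', h1', h4'⟩ hm3 hm3' he.symm

end Cfsg.Agent.S5399
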