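import Cfsg.Statements.S5400
import Cfsg.Agent.Lib.ThreeTransM24Classes88

set_option autoImplicit false
open Cfsg

namespace Cfsg.Agent.S5400

/-- Let G be a finite group with trivial centre generated by a conjugation-invariant set D of 3-transpositions on which it acts primitively, such that for some d in D the subgroup generated by the members of D other than d commuting with d has central largest normal 2- and 3-subgroups, and suppose G with D is of type M(24). Then G has exactly 4 conjugacy classes of involutions: every involution is a product of m distinct pairwise commuting members of D for some m between 1 and 4; for each such m these products form one non-empty conjugacy class; and the value of m is determined by the involution. -/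
theorem result {G : Type*} [Group G] [Finite G] {D : Set G} (hD : Cfsg.IsThreeTranspositionGroup D) (hprim : Cfsg.IsPrimitiveUnderConj D) (d : G) (hd : d ∈ D) (h3 : Cfsg.pCore 3 ↥(Subgroup.closure {y : G | y ∈ D ∧ y ≠ d ∧ Commute d y}) ≤ Subgroup.center ↥(Subgroup.closure {y : G | y ∈ D ∧ y ≠ d ∧ Commute d y})) (h2 : Cfsg.pCore 2 ↥(Subgroup.closure {y : G | y ∈ D ∧ y ≠ d ∧ Commute d y}) ≤ Subgroup.center ↥(Subgroup.closure {y : G | y ∈ D ∧ y ≠ d ∧ Commute d y})) (ht : Cfsg.IsOfTypeM24 G D) : (∀ x : G, orderOf x = 2 → ∃ m : ℕ, 1 ≤ m ∧ m ≤ 4 ∧ (∃ l : List G, l.Nodup ∧ l.length = m ∧ (∀ a ∈ l, a ∈ D) ∧ (∀ a ∈ l, ∀ b ∈ l, Commute a b) ∧ l.prod = x)) ∧ (∀ m : ℕ, 1 ≤ m → m ≤ 4 → (∃ x : G, orderOf x = 2 ∧ (∃ l : List G, l.Nodup ∧ l.length = m ∧ (∀ a ∈ l, a ∈ D) ∧ (∀ a ∈ l, ∀ b ∈ l, Commute a b) ∧ l.prod = x)) ∧ ∀ x y : G, (∃ l : List G, l.Nodup ∧ l.length = m ∧ (∀ a ∈ l, a ∈ D) ∧ (∀ a ∈ l, ∀ b ∈ l, Commute a b)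 ∧ l.prod = x) → (∃ l : List G, l.Nodup ∧ l.length = m ∧ (∀ a ∈ l, a ∈ D) ∧ (∀ a ∈ l, ∀ b ∈ l, Commute a b) ∧ l.prod = y) → IsConj x y) ∧ ∀ (m m' : ℕ) (x : G), 1 ≤ m → m ≤ 4 → 1 ≤ m' → m' ≤ 4 → (∃ l : List G, l.Nodup ∧ l.length = m ∧ (∀ a ∈ l, a ∈ D) ∧ (∀ a ∈ l, ∀ b ∈ l, Commute a b) ∧ l.prod = x) → (∃ l : List G, l.Nodup ∧ l.length = m' ∧ (∀ a ∈ l, a ∈ D) ∧ (∀ a ∈ l, ∀ b ∈ l, Commute a b) ∧ l.prod = x) → m = m' := by
  obtain hX := ThreeTransM24Local88.ctx_all hD hprim hd h3 h2 ht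
  refine ⟨fun x hx => ?_, fun m hm1 hm4 => ⟨?_, ?_⟩, ?_⟩
  · obtain ⟨l, hl, h1, h4, hp⟩ := ThreeTransM24Classes88.exists_product hX ⟨d, hd⟩ hx
    exact ⟨l.length, h1, h4, l, hl.nodup, rfl, hl.mem, hl.comm, hp⟩
  · obtain ⟨l, hl, hlen⟩ := ThreeTransM24Classes88.exists_chain (hX d hd)
    have hs : ThreeTransRel.CList D (l.take m) := hl.sublist (List.take_sublist _ _)
    have hlen' : (l.take m).length = m := by rw [List.length_take, hlen]; omega
    exact ⟨(l.take m).prod, ThreeTransM24Classes88.order_product (hX d hd) hs (by omega) (by omega),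
      l.take m, hs.nodup, hlen', hs.mem, hs.comm, rfl⟩
  · rintro x y ⟨l, h1, h2, h3, h4, rfl⟩ ⟨l', h1', h2', h3', h4', rfl⟩
    exact ThreeTransM24Classes88.isConj_products (hX d hd) ⟨h3, h1, h4⟩ ⟨h3', h1', h4'⟩
      (h2.trans h2'.symm) (by omega) (by omega)
  · rintro m m' x - hm4 - hm4' ⟨l, h1, rfl, h3, h4, rfl⟩ ⟨l', h1', rfl, h3', h4', he⟩
    exact ThreeTransM24Classes88.length_eq (hX d hd) ⟨h3, h1, h4⟩ ⟨h3', h1', h4'⟩ hm4 hm4' he.symm

end Cfsg.Agent.S5400
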