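import Cfsg.Statements.S5405
import Cfsg.Agent.Lib.H1OrthCocycle

set_option autoImplicit false
open scoped MatrixGroups
open Cfsg

namespace Cfsg.Agent.S5405

open Cfsg.Agent.H1Orth

def eM1 : (Fin 1 ⊕ Fin 1) ⊕ Fin 2 ≃ Fin 4 :=
  (Equiv.sumCongr finSumFinEquiv (Equiv.refl _)).trans finSumFinEquiv

def eM2 : (Fin 2 ⊕ Fin 2) ⊕ Fin 2 ≃ Fin 6 :=
  (Equiv.sumCongr finSumFinEquiv (Equiv.refl _)).trans finSumFinEquiv

def eP4 : Fin 4 ⊕ Fin 4 ≃ Fin 8 := finSumFinEquiv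

def qM1 (x : ℕ) : Bool :=
  (x.testBit 0 && x.testBit 1).xor (x.testBit 2 || x.testBit 3)

def qM2 (x : ℕ) : Bool :=
  ((x.testBit 0 && x.testBit 2).xor (x.testBit 1 && x.testBit 3)).xor (x.testBit 4 || x.testBit 5)

def qP4 (x : ℕ) : Bool :=
  (((x.testBit 0 && x.testBit 4).xor (x.testBit 1 && x.testBit 5)).xor
    (x.testBit 2 && x.testBit 6)).xor (x.testBit 3 && x.testBit 7)

set_option maxRecDepth 100000 in
def mM1 : Model (Cfsg.quadFormMinus 1 (ZMod 2) 1 1) where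
  n := 4
  e := eM1
  q := qM1
  hq := by decide +kernel
  hadd := by
    intro u v w
    simp only [pol, quadFormMinus, Pi.add_apply, Fin.sum_univ_one]
    ring_nf
    simp [show (2 : ZMod 2) = 0 from rfl, show (4 : ZMod 2) = 0 from rfl]

set_option maxRecDepth 100000 in
def mM2 : Model (Cfsg.quadFormMinus 2 (ZMod 2) 1 1) where
  n := 6
  e := eM2
  q := qM2
  hq := by decide +kernel
  hadd := by
    intro u v w
    simp only [pol, quadFormMinus, Pi.add_apply, Fin.sum_univ_two]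
    ring_nf
    simp [show (2 : ZMod 2) = 0 from rfl, show (4 : ZMod 2) = 0 from rfl]

set_option maxRecDepth 100000 in
def mP4 : Model (Cfsg.quadFormPlus 4 (ZMod 2)) where
  n := 8
  e := eP4
  q := qP4
  hq := by decide +kernel
  hadd := by
    intro u v w
    simp only [pol, quadFormPlus, Pi.add_apply, Fin.sum_univ_four]
    ring_nf
    simp [show (2 : ZMod 2) = 0 from rfl, show (4 : ZMod 2) = 0 from rfl]

def wsM1 : List (ℕ × List Bool) :=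
  [(4, [false, true, true, false, true]), (5, [true, true, true, false, true, false]), (6,
    [true, false, true, true, true]), (8, [true, false, true, true, false]), (9, [false, true,
    false, true, true, true]), (10, [true, true, true, false, true]), (12, [true, true, false,
    true, true, true, false, true, true, false]), (13, [false, true, true, false, true, true,
    false]), (14, [true, false, true, true, true, false, true])]

def treeM2 : List (ℕ × ℕ × ℕ) :=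
  [(7, 5, 0), (10, 5, 0), (11, 5, 0), (13, 5, 0), (14, 5, 0), (16, 5, 0), (17, 5, 2), (18, 5,
    2), (20, 5, 2), (24, 5, 2), (32, 5, 0), (47, 5, 2), (48, 5, 0), (63, 5, 2), (25, 7, 2), (34,
    7, 2), (35, 7, 2), (36, 7, 2), (44, 7, 2), (57, 7, 2), (22, 11, 2), (38, 11, 2), (49, 11,
    2), (51, 11, 2), (56, 11, 2), (60, 11, 2), (50, 17, 0), (52, 17, 0), (54, 17, 0), (33, 18,
    0), (40, 18, 0), (41, 18, 0), (19, 34, 0), (28, 34, 0), (31, 34, 0)]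

def treeP4 : List (ℕ × ℕ × ℕ) :=
  [(19, 17, 0), (23, 17, 0), (27, 17, 0), (31, 17, 0), (34, 17, 0), (35, 17, 0), (38, 17, 0),
    (42, 17, 0), (46, 17, 0), (49, 17, 0), (50, 17, 0), (53, 17, 0), (57, 17, 0), (61, 17, 0),
    (68, 17, 0), (76, 17, 0), (83, 17, 0), (91, 17, 0), (98, 17, 0), (106, 17, 0), (113, 17, 0),
    (121, 17, 0), (136, 17, 0), (140, 17, 0), (147, 17, 0), (151, 17, 0), (162, 17, 0), (166,
    17, 0), (177, 17, 0), (181, 17, 0), (196, 17, 0), (200, 17, 0), (211, 17, 0), (223, 17, 0),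
    (226, 17, 0), (238, 17, 0), (241, 17, 0), (253, 17, 0), (21, 19, 0), (25, 19, 0), (29, 19,
    0), (39, 19, 0), (43, 19, 0), (47, 19, 0), (54, 19, 0), (58, 19, 0), (62, 19, 0), (81, 19,
    0), (89, 19, 0), (99, 19, 0), (107, 19, 0), (114, 19, 0), (122, 19, 0), (145, 19, 0), (149,
    19, 0), (163, 19, 0), (167, 19, 0), (178, 19, 0), (182, 19, 0), (209, 19, 0), (221, 19, 0),
    (227, 19, 0), (239, 19, 0), (242, 19, 0), (254, 19, 0), (71, 23, 0), (79, 23, 0), (86, 23,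
    0), (94, 23, 0), (100, 23, 0), (108, 23, 0), (138, 23, 0), (142, 23, 0), (169, 23, 0), (173,
    23, 0), (184, 23, 0), (188, 23, 0), (197, 23, 0), (201, 23, 0), (212, 23, 0), (216, 23, 0),
    (247, 23, 0), (251, 23, 0), (70, 27, 0), (78, 27, 0), (101, 27, 0), (109, 27, 0), (116, 27,
    0), (124, 27, 0), (137, 27, 0), (141, 27, 0), (152, 27, 0), (156, 27, 0), (187, 27, 0),
    (191, 27, 0), (199, 27, 0), (203, 27, 0), (214, 27, 0), (218, 27, 0), (228, 27, 0), (232,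
    27, 0), (69, 31, 0), (77, 31, 0), (84, 31, 0), (92, 31, 0), (119, 31, 0), (127, 31, 0),
    (139, 31, 0), (143, 31, 0), (154, 31, 0), (158, 31, 0), (168, 31, 0), (172, 31, 0), (198,
    31, 0), (202, 31, 0), (229, 31, 0), (233, 31, 0), (244, 31, 0), (248, 31, 0)]

/-- Vanishing of first cohomology on the natural module for three small orthogonal groups over the field with two elements: for the commutator subgroup of the isometry group of the elliptic quadratic form in dimension 4, of the elliptic form in dimension 6, and of the hyperbolic form in dimension 8, every crossed homomorphism into the natural module (a map f with f(gh) = f(g) + g·f(h)) is principal (of the form g ↦ g·v − v). -/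
theorem result : (∀ f : ↥(Cfsg.Omega (ZMod 2) (Cfsg.quadFormMinus 1 (ZMod 2) 1 1)) → ((Fin 1 ⊕ Fin 1) ⊕ Fin 2 → ZMod 2), (∀ g h : ↥(Cfsg.Omega (ZMod 2) (Cfsg.quadFormMinus 1 (ZMod 2) 1 1)), f (g * h) = f g + Matrix.mulVec (((g : ↥(Cfsg.isometryGroup (ZMod 2) (Cfsg.quadFormMinus 1 (ZMod 2) 1 1))) : GL ((Fin 1 ⊕ Fin 1) ⊕ Fin 2) (ZMod 2)) : Matrix ((Fin 1 ⊕ Fin 1) ⊕ Fin 2) ((Fin 1 ⊕ Fin 1) ⊕ Fin 2) (ZMod 2)) (f h)) → ∃ v : (Fin 1 ⊕ Fin 1) ⊕ Fin 2 → ZMod 2, ∀ g : ↥(Cfsg.Omega (ZMod 2) (Cfsg.quadFormMinus 1 (ZMod 2) 1 1)), f g = Matrix.mulVec (((g : ↥(Cfsg.isometryGroup (ZMod 2) (Cfsg.quadFormMinus 1 (ZMod 2) 1 1))) : GL ((Fin 1 ⊕ Fin 1) ⊕ Fin 2) (ZMod 2)) : Matrix ((Fin 1 ⊕ Fin 1) ⊕ Fin 2) ((Fin 1 ⊕ Fin 1) ⊕ Fin 2) (ZMod 2)) v - v) ∧ (∀ f : ↥(Cfsg.Omega (ZMod 2) (Cfsg.quadFormMinus 2 (ZMod 2) 1 1)) → ((Fin 2 ⊕ Fin 2) ⊕ Fin 2 → ZMod 2), (∀ g h : ↥(Cfsg.Omega (ZMod 2) (Cfsg.quadFormMinus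 2 (ZMod 2) 1 1)), f (g * h) = f g + Matrix.mulVec (((g : ↥(Cfsg.isometryGroup (ZMod 2) (Cfsg.quadFormMinus 2 (ZMod 2) 1 1))) : GL ((Fin 2 ⊕ Fin 2) ⊕ Fin 2) (ZMod 2)) : Matrix ((Fin 2 ⊕ Fin 2) ⊕ Fin 2) ((Fin 2 ⊕ Fin 2) ⊕ Fin 2) (ZMod 2)) (f h)) → ∃ v : (Fin 2 ⊕ Fin 2) ⊕ Fin 2 → ZMod 2, ∀ g : ↥(Cfsg.Omega (ZMod 2) (Cfsg.quadFormMinus 2 (ZMod 2) 1 1)), f g = Matrix.mulVec (((g : ↥(Cfsg.isometryGroup (ZMod 2) (Cfsg.quadFormMinus 2 (ZMod 2) 1 1))) : GL ((Fin 2 ⊕ Fin 2) ⊕ Fin 2) (ZMod 2)) : Matrix ((Fin 2 ⊕ Fin 2) ⊕ Fin 2) ((Fin 2 ⊕ Fin 2) ⊕ Fin 2) (ZMod 2)) v - v) ∧ (∀ f : ↥(Cfsg.Omega (ZMod 2) (Cfsg.quadFormPlus 4 (ZMod 2))) → (Fin 4 ⊕ Fin 4 → ZMod 2), (∀ g h : ↥(Cfsg.Omega (ZMod 2) (Cfsg.quadFormPlus 4 (ZMod 2))), f (g * h) = f g + Matrix.mulVec (((g : ↥(Cfsg.isometryGroup (ZMod 2) (Cfsg.quadFormPlus 4 (ZMod 2)))) : GL (Fin 4 ⊕ Fin 4) (ZMod 2)) : Matrix (Fin 4 ⊕ Fin 4) (Fin 4 ⊕ Fin 4)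 (ZMod 2)) (f h)) → ∃ v : Fin 4 ⊕ Fin 4 → ZMod 2, ∀ g : ↥(Cfsg.Omega (ZMod 2) (Cfsg.quadFormPlus 4 (ZMod 2))), f g = Matrix.mulVec (((g : ↥(Cfsg.isometryGroup (ZMod 2) (Cfsg.quadFormPlus 4 (ZMod 2)))) : GL (Fin 4 ⊕ Fin 4) (ZMod 2)) : Matrix (Fin 4 ⊕ Fin 4) (Fin 4 ⊕ Fin 4) (ZMod 2)) v - v) := by
  refine ⟨fun f hf => ?_, fun f hf => ?_, fun f hf => ?_⟩
  · exact mM1.h1_of_rel [1, 2, 4, 8] 3 [5, 14, 4, 8] [5, 10] wsM1 (by decide +kernel)
      (by decide +kernel) (by decide +kernel) (by decide +kernel) (by decide +kernel)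
      (by decide) (by decide) (by decide +kernel) (by decide +kernel) (by decide +kernel)
      (by decide +kernel) (by decide +kernel) f hf
  · exact mM2.h1_of_tree [1, 2, 4, 8, 16, 32] 5 [11, 5, 10, 7, 32, 16]
      [[11, 5, 10, 7, 16, 32], [17, 5, 10, 18, 16, 47]] treeM2 (by decide +kernel)
      (by decide +kernel) (by decide +kernel) (by decide +kernel) (by decide +kernel)
      (by decide +kernel) f hf
  · exact mP4.h1_of_tree [17, 35, 54, 71, 84, 101, 122, 242] 17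
      [35, 17, 34, 19, 140, 68, 136, 76] [] treeP4 (by decide +kernel)
      (by decide +kernel) (by decide +kernel) (by decide +kernel) (by decide +kernel)
      (by decide +kernel) f hf

end Cfsg.Agent.S5405
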