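import Cfsg.Statements.S5407
import Cfsg.Agent.Lib.MonsterLocal

set_option autoImplicit false
open Cfsg Cfsg.Agent

namespace Cfsg.Agent.S5407

/-- Let G be a finite group of Monster type at the involution z with Q the extraspecial normal subgroup of order 2^25 of C = C_G(z) (so C/Q is identified with the first Conway group with Q modulo its centre the Leech lattice modulo 2, and z is not weakly closed in Q). Then under any such identification ψ of the Leech lattice modulo 2 with Q modulo its centre, an element x of Q is a conjugate of z other than z exactly when x modulo the centre is the image under ψ of a lattice vector of squared length 64 in the coordinates used here, that is, of norm 8 in the customary normalisation in which the minimal vectors have norm 4 (twice the minimal norm). -/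
theorem result {G : Type*} [Group G] [Finite G] (z : G) (Q : Subgroup (Subgroup.centralizer ({z} : Set G))) [Q.Normal] (hM : Cfsg.IsOfMonsterType z Q) (e : (Subgroup.centralizer ({z} : Set G)) ⧸ Q ≃* Cfsg.Spor.Co1) (ψ : Cfsg.leechLattice → Q ⧸ Subgroup.center Q) (hψ : Cfsg.IsLeechModTwoIso Q e ψ) (x : Q) : (IsConj z ((x : Subgroup.centralizer ({z} : Set G)) : G) ∧ ((x : Subgroup.centralizer ({z} : Set G)) : G) ≠ z) ↔ ∃ v : Cfsg.leechLattice, Cfsg.sqNorm (v : Cfsg.GolayPt → ℤ) = 64 ∧ ψ v = QuotientGroup.mk x := by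
  have S := MonsterLocal.setup_of hM hψ
  refine ⟨fun h => S.class64 h.1 h.2, ?_⟩
  rintro ⟨w, hw, hwx⟩
  obtain ⟨g, ⟨c, hc, hcs⟩, hgz⟩ := S.nwc
  have hcs' : (c : G) = g * z * g⁻¹ := hcs
  have hconj : IsConj z ((⟨c, hc⟩ : Q) : G) := isConj_iff.mpr ⟨g, hcs'.symm⟩
  have hne : ((⟨c, hc⟩ : Q) : G) ≠ z := fun e1 => hgz (hcs'.symm.trans e1)
  obtain ⟨v, hv, hva⟩ := S.class64 hconj hne
  obtain ⟨k, rfl⟩ := Cfsg.Agent.LeechOrbit.exists_smul_eq (N := 64) (Or.inr (Or.inr rfl))
    (v := v) (w := w) (by exact_mod_cast hv) (by exact_mod_cast hw)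
  have hx : ((x : Subgroup.centralizer ({z} : Set G)) : G) ≠ 1 ∧
      ((x : Subgroup.centralizer ({z} : Set G)) : G) ≠ z := by
    have hnot : ¬ ψ (k • v) = QuotientGroup.mk (1 : Q) := fun e1 => by
      obtain ⟨u, hu⟩ := (S.iso.2.2.1 _).mp e1
      have h0 := Cfsg.Agent.LeechMod2.eq_zero_of_mem_twice (x := ((k • v : leechLattice) : GolayPt → ℤ))
        (Cfsg.Agent.LeechIndex.mem_twiceLeech.mpr ⟨u, u.2, by rw [hu, AddSubgroup.coe_add, two_nsmul]⟩) hw.le
      rw [h0] at hw
      simp [Cfsg.sqNorm] at hw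
    rw [hwx, S.mk_eq] at hnot
    simpa using hnot
  obtain ⟨h, -, hh⟩ := S.exists_conj hva hwx hx
  exact ⟨hconj.trans (isConj_iff.mpr ⟨h, hh⟩), hx.2⟩

end Cfsg.Agent.S5407
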