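import Cfsg.Statements.S5408
import Cfsg.Agent.Lib.LeechFrame

set_option autoImplicit false
open Cfsg

namespace Cfsg.Agent.S5408

open Cfsg.Agent.LeechFrame

section Algebra

variable {Q : Type*} [Group Q]

/-- The class of a frame relation: any step from difference `e` to difference `d`. -/
abbrev Step (e d : ZMod 23) : Prop :=
  ∃ x : ZMod 23, x ≠ 0 ∧ x + e ≠ 0 ∧ (x ^ 21 - (x + e) ^ 21 = d ∨ x ^ 21 - (x + e) ^ 21 = -d)

theorem steps_cover : ∀ d : ZMod 23, d ≠ 0 → Step 1 d ∨ ∃ e, Step 1 e ∧ Step e d := by
  decide +kernel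

/-- A function of pairs of points invariant under translations and the inversion is constant. -/
theorem pair_const {α : Type*} (f : GolayPt → GolayPt → α)
    (hsymm : ∀ i j, f i j = f j i)
    (hshift : ∀ s i j, f (shift s i) (shift s j) = f i j)
    (hinv : ∀ i j, f (projInv i) (projInv j) = f i j) :
    ∀ i j, i ≠ j → f i j = f (some 0) (some 1) := by
  set F : ZMod 23 → α := fun d => f (some 0) (some d) with hF
  have hfin : ∀ x y, f (some x) (some y) = F (y - x) := by
    intro x y
    show f (some x) (some y) = f (some 0) (some (y - x))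
    rw [← hshift x (some 0) (some (y - x))]
    simp [shift_some]
  have hneg : ∀ d, F (-d) = F d := by
    intro d
    rw [hF]
    show f (some 0) (some (-d)) = f (some 0) (some d)
    rw [hsymm (some 0) (some (-d)), hfin]
    simp [hF]
  have hpI : ∀ x : ZMod 23, x ≠ 0 → projInv (some x) = some (-(x ^ 21)) := by
    intro x hx
    show projInvFun (some x) = _
    simp [projInvFun, hx]
  have hstep : ∀ e d, Step e d → F d = F e := by
    rintro e d ⟨x, hx, hxe, h⟩
    have h1 := hinv (some x) (some (x + e))
    rw [hpI x hx, hpI _ hxe, hfin, hfin, add_sub_cancel_left,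
      show -(x + e) ^ 21 - -(x ^ 21) = x ^ 21 - (x + e) ^ 21 by ring] at h1
    rcases h with h | h
    · rw [← h1, h]
    · rw [← h1, h, hneg]
  have hall : ∀ d, d ≠ 0 → F d = F 1 := by
    intro d hd
    rcases steps_cover d hd with h | ⟨e, h, h'⟩
    · exact hstep 1 d h
    · rw [hstep e d h', hstep 1 e h]
  have hnone : ∀ y, f none (some y) = F 1 := by
    have h1 : f none (some 1) = F 1 := by
      have := hinv none (some 1)
      rw [hpI 1 (by decide)] at this
      rw [← this]
      show f (some 0) (some _) = F 1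
      exact hall _ (by decide)
    intro y
    rw [← hshift (1 - y) none (some y), shift_none, shift_some]
    simpa using h1
  intro i j hij
  rcases i with _ | x <;> rcases j with _ | y
  · exact absurd rfl hij
  · exact hnone y
  · rw [hsymm]; exact hnone x
  · rw [hfin]
    exact hall _ (sub_ne_zero.mpr fun h => hij (by rw [h]))

end Algebra

variable {C : Type*} [Group C]

theorem frame_subgroup (Q : Subgroup C) [Q.Normal] (hcard : Nat.card Q = 2 ^ (2 * 12 + 1))
    (hZ : Nat.card (Subgroup.center Q) = 2)
    (hcomm : ∀ a b : Q, a * b * a⁻¹ * b⁻¹ ∈ Subgroup.center Q)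
    (hsq : ∀ a : Q, a * a ∈ Subgroup.center Q)
    (ψ : Cfsg.leechLattice → Q ⧸ Subgroup.center Q)
    (hadd : ∀ v w, ψ (v + w) = ψ v * ψ w) (hsurj : Function.Surjective ψ)
    (hker : ∀ v, ψ v = 1 ↔ ∃ w, v = w + w)
    (hinv : ∀ g : ↥Cfsg.Co0, ∃ h : C, ∀ v, ∀ q : Q, ψ v = QuotientGroup.mk q →
      ψ (g • v) = QuotientGroup.mk ⟨h * q * h⁻¹, (inferInstance : Q.Normal).conj_mem _ q.2 h⟩) :
    ∃ E : Subgroup Q, Cfsg.IsElementaryAbelian 2 E ∧ Nat.card E = 2 ^ 13 := by
  have : Finite Q := Nat.finite_of_card_ne_zero (by rw [hcard]; norm_num)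
  have hcen : ∀ z ∈ (Subgroup.center Q), ∀ x : Q, x * z = z * x := fun z hz x => Subgroup.mem_center_iff.mp hz x
  have hz2 : ∀ z ∈ (Subgroup.center Q), z * z = 1 := by
    intro z hz
    have := congrArg Subtype.val (pow_card_eq_one' (x := (⟨z, hz⟩ : (Subgroup.center Q))))
    rw [hZ] at this
    simpa [pow_two] using this
  -- representatives
  choose r hr using fun v => QuotientGroup.mk_surjective (ψ v)
  have hrep : ∀ a b : Q, (QuotientGroup.mk a : Q ⧸ (Subgroup.center Q)) = QuotientGroup.mk b → ∃ z ∈ (Subgroup.center Q), b = a * z :=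
    fun a b h => ⟨a⁻¹ * b, QuotientGroup.eq.mp h, by group⟩
  set σ : Cfsg.leechLattice → Q := fun v => r v * r v with hσ
  set β : Cfsg.leechLattice → Cfsg.leechLattice → Q :=
    fun v w => r v * r w * (r v)⁻¹ * (r w)⁻¹ with hβ
  have hσ' : ∀ v q, ψ v = QuotientGroup.mk q → q * q = σ v := by
    intro v q hq
    obtain ⟨z, hz, rfl⟩ := hrep (r v) q ((hr v).trans hq)
    calc r v * z * (r v * z) = r v * r v * (z * z) := by
          rw [mul_assoc, ← mul_assoc z, ← hcen z hz (r v)]; simp only [mul_assoc]
      _ = σ v := by rw [hz2 z hz, mul_one]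
  have hσZ : ∀ v, σ v ∈ (Subgroup.center Q) := fun v => hsq _
  have hβZ : ∀ v w, β v w ∈ (Subgroup.center Q) := fun v w => hcomm _ _
  have hσmul : ∀ v w, σ (v + w) = σ v * σ w * β v w := by
    intro v w
    rw [← hσ' (v + w) (r v * r w) (by rw [hadd, ← hr v, ← hr w]; rfl)]
    show r v * r w * (r v * r w) = _
    have hb : r w * r v = (β v w) * (r v * r w) := by
      have h1 : r v * r w = β v w * (r w * r v) := by simp only [hβ]; group
      calc r w * r v = β v w * β v w * (r w * r v) := by rw [hz2 _ (hβZ v w), one_mul]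
        _ = β v w * (r v * r w) := by rw [mul_assoc, ← h1]
    calc r v * r w * (r v * r w) = r v * (r w * r v) * r w := by simp only [mul_assoc]
      _ = r v * (β v w * (r v * r w)) * r w := by rw [hb]
      _ = (r v * r v * (r w * r w)) * β v w := by
          rw [← hcen _ (hβZ v w) (r v * r w)]
          simp only [mul_assoc]
          rw [← hcen _ (hβZ v w) (r w)]
      _ = _ := rfl
  have hψsame : ∀ v w, ψ v = ψ w → σ v = σ w := fun v w h =>
    (hσ' w (r v) ((h.symm.trans (hr v).symm))) ▸ rfl
  -- bilinearity of the commutator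
  have hβadd : ∀ u v w, β (u + v) w = β u w * β v w := by
    intro u v w
    obtain ⟨z, hz, h⟩ := hrep (r u * r v) (r (u + v)) (by
      rw [hr (u + v), hadd, ← hr u, ← hr v]; rfl)
    show r (u + v) * r w * (r (u + v))⁻¹ * (r w)⁻¹ = _
    rw [h]
    have h1 : r u * r v * z * r w * (r u * r v * z)⁻¹ * (r w)⁻¹ =
        r u * β v w * (r w * (r u)⁻¹ * (r w)⁻¹) := by
      rw [mul_assoc (r u * r v) z (r w), ← hcen z hz (r w)]
      simp only [hβ]
      group
    rw [h1, hcen _ (hβZ v w) (r u)]
    have h2 : β v w * r u * (r w * (r u)⁻¹ * (r w)⁻¹) = β v w * β u w := by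
      simp only [hβ]; group
    rw [h2]
    exact (hcen _ (hβZ v w) _).symm
  have hψneg : ∀ v, ψ (-v) = ψ v := by
    intro v
    have h1 : ψ (v + v) = 1 := (hker _).mpr ⟨v, rfl⟩
    have h2 : ψ (-v) * ψ (v + v) = ψ v := by rw [← hadd]; congr 1; abel
    rwa [h1, mul_one] at h2
  have hσg : ∀ (g : ↥Cfsg.Co0) v, σ v = 1 ↔ σ (g • v) = 1 := by
    intro g v
    obtain ⟨h, hh⟩ := hinv g
    rw [← hσ' _ _ (hh v (r v) (hr v).symm)]
    constructor
    · intro hv
      have hv' : ((r v : Q) : C) * r v = 1 := congrArg Subtype.val hv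
      apply Subtype.ext
      show h * (r v : C) * h⁻¹ * (h * (r v : C) * h⁻¹) = 1
      calc _ = h * ((r v : C) * r v) * h⁻¹ := by group
        _ = 1 := by rw [hv']; group
    · intro hv
      have hv' : h * (r v : C) * h⁻¹ * (h * (r v : C) * h⁻¹) = 1 := congrArg Subtype.val hv
      apply Subtype.ext
      show (r v : C) * r v = 1
      calc (r v : C) * r v = h⁻¹ * (h * (r v : C) * h⁻¹ * (h * (r v : C) * h⁻¹)) * h := by group
        _ = 1 := by rw [hv']; group
  -- everything takes values in a group of order two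
  have hZ2 : ∀ a ∈ (Subgroup.center Q), ∀ b ∈ (Subgroup.center Q), (a = 1 ↔ b = 1) → a = b := by
    intro a ha b hb hab
    by_cases h : a = 1
    · rw [h, hab.mp h]
    · obtain ⟨x, y, hxy, huniv⟩ := Nat.card_eq_two_iff.mp hZ
      have : ∀ c : (Subgroup.center Q), c = x ∨ c = y := fun c => by
        have := Set.mem_univ c
        rw [← huniv] at this
        simpa using this
      have hb1 : b ≠ 1 := fun e => h (hab.mpr e)
      rcases this ⟨a, ha⟩ with e1 | e1 <;> rcases this ⟨b, hb⟩ with e2 | e2 <;>
        rcases this 1 with e3 | e3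
      all_goals first
        | exact congrArg Subtype.val (e1.trans e2.symm)
        | exact absurd (congrArg Subtype.val (e1.trans e3.symm)) h
        | exact absurd (congrArg Subtype.val (e2.trans e3.symm)) hb1
  have hσeq : ∀ (g : ↥Cfsg.Co0) v, σ (g • v) = σ v := fun g v =>
    hZ2 _ (hσZ _) _ (hσZ _) (hσg g v).symm
  have hUU : ∀ i j, σ (U i) = σ (U j) := fun i j => hψsame _ _ (by
    rw [U_eq i j, hadd, (hker (M i j + M i j)).mpr ⟨_, rfl⟩, mul_one])
  have hPM : ∀ i j, i ≠ j → σ (P i j) = σ (M i j) := by
    intro i j hij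
    obtain ⟨g, hg | hg⟩ := exists_sign_M_P i j hij
    · rw [← hg, hσeq]
    · rw [← hσeq g (M i j), hg]
      exact (hψsame _ _ (hψneg _)).symm
  have hβU : ∀ i j, i ≠ j → β (M i j) (U j) = σ (U none) := by
    intro i j hij
    have h := hσmul (M i j) (U j)
    rw [← P_eq, hPM i j hij, mul_assoc, eq_comm, mul_eq_left] at h
    rw [← hUU j none]
    calc β (M i j) (U j) = σ (U j) * σ (U j) * β (M i j) (U j) := by
          rw [hz2 _ (hσZ _), one_mul]
      _ = σ (U j) := by rw [mul_assoc, h, mul_one]
  have hβsame : ∀ v w w', ψ w = ψ w' → β v w = β v w' := by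
    intro v w w' h
    obtain ⟨z, hz, e'⟩ := hrep (r w) (r w') (by rw [hr, hr, h])
    show r v * r w * (r v)⁻¹ * (r w)⁻¹ = r v * r w' * (r v)⁻¹ * (r w')⁻¹
    rw [e', mul_inv_rev, ← mul_assoc (r v) (r w) z,
      mul_assoc (r v * r w) z ((r v)⁻¹), ← hcen z hz (r v)⁻¹]
    group
  have hβU' : ∀ i j k, β (M i j) (U k) = β (M i j) (U j) := fun i j k => hβsame _ _ _ (by
    rw [U_eq k j, hadd, (hker (M k j + M k j)).mpr ⟨_, rfl⟩, mul_one])
  have hU0 : ∀ i, σ (U i) = 1 := by
    intro i
    rw [hUU i none]
    have h := hβadd (M none (some 0)) (M (some 0) (some 1)) (U (some 1))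
    rw [M_add, hβU none (some 1) (by simp), hβU' none (some 0) (some 1),
      hβU none (some 0) (by simp), hβU (some 0) (some 1) (by decide), hz2 _ (hσZ _)] at h
    exact h
  have hconst : ∀ i j, i ≠ j → σ (M i j) = σ (M (some 0) (some 1)) := by
    have hperm : ∀ π : Equiv.Perm Cfsg.GolayPt, CodeStable π → CodeStable π.symm →
        ∀ i j, σ (M (π i) (π j)) = σ (M i j) := by
      intro π hπ hπ' i j
      obtain ⟨g, hg⟩ := exists_perm hπ hπ'
      rw [← hσeq g (M (π i) (π j)), perm_M hg]
    exact pair_const (fun i j => σ (M i j))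
      (fun i j => hψsame _ _ (by rw [M_swap, hψneg]))
      (fun s => hperm (shift s) (codeStable_shift s) (by rw [shift_symm]; exact codeStable_shift _))
      (hperm Cfsg.projInv codeStable_projInv (by rw [projInv_symm]; exact codeStable_projInv))
  set a := σ (M (some 0) (some 1)) with ha
  have hadj : ∀ i j k, i ≠ j → j ≠ k → i ≠ k → β (M i j) (M j k) = a := by
    intro i j k h1 h2 h3
    have h := hσmul (M i j) (M j k)
    rw [M_add, hconst i k h3, hconst i j h1, hconst j k h2, hz2 a (hσZ _), one_mul] at h
    exact h.symm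
  have hneg1 : ∀ v w, β (-v) w = β v w := by
    intro v w
    have h1 := hβadd (-v) v w
    rw [neg_add_cancel] at h1
    have h2 := hβadd 0 0 w
    rw [add_zero, left_eq_mul] at h2
    rw [h2] at h1
    calc β (-v) w = β (-v) w * (β v w * β v w) := by rw [hz2 _ (hβZ _ _), mul_one]
      _ = β v w := by rw [← mul_assoc, ← h1, one_mul]
  have hswap : ∀ v w, β v w = β w v := by
    intro v w
    calc β v w = β v w * (β w v * β w v) := by rw [hz2 _ (hβZ _ _), mul_one]
      _ = β w v := by simp only [hβ]; group
  have hdisj : ∀ i j k l, i ≠ j → i ≠ k → i ≠ l → j ≠ k → j ≠ l → k ≠ l →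
      β (M i j) (M k l) = 1 := by
    intro i j k l h1 h2 h3 h4 h5 h6
    rw [hswap, ← M_add k j l, hβadd, hswap (M k j), hswap (M j l), hadj i j l h1 h5 h3,
      M_swap k j, hswap, hneg1, hswap, hadj i j k h1 h4 h2, hz2 a (hσZ _)]
  have ha1 : a = 1 := by
    -- a code word of weight twelve gives a relation
    let w : Cfsg.leechLattice := M (some 0) (some 1) + M (some 2) (some 3) + M (some 4) (some 6) +
      M (some 8) (some 9) + M (some 12) (some 13) + M (some 16) (some 18)
    have hy : ∃ y, w = y + y := by
      let f : Cfsg.GolayPt → ℤ := two (some 0) (some 1) 2 (-2) + two (some 2) (some 3) 2 (-2) +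
        two (some 4) (some 6) 2 (-2) + two (some 8) (some 9) 2 (-2) +
        two (some 12) (some 13) 2 (-2) + two (some 16) (some 18) 2 (-2)
      have hf : f ∈ Cfsg.leechLattice := by
        have hA : ∀ i, (gen 0 i = 0 → f i = 0) ∧ (gen 0 i ≠ 0 → f i = 2 ∨ f i = -2) := by
          decide +kernel
        refine leechSet_le ⟨0, fun i => ?_, ?_, fun k => ?_⟩
        · unfold Int.ModEq
          by_cases h : gen 0 i = 0
          · rw [(hA i).1 h]
          · rcases (hA i).2 h with h' | h' <;> rw [h'] <;> norm_num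
        · have : ∑ i, f i = 0 := by decide +kernel
          rw [this]
          rfl
        · by_cases h2 : k % 4 = 2
          · refine ⟨gen 0, gen_mem 0, ?_⟩
            ext i
            rw [mem_support₂, Finset.mem_filter]
            unfold Int.ModEq
            by_cases h : gen 0 i = 0
            · simp [(hA i).1 h, h, h2]
            · rcases (hA i).2 h with h' | h' <;> simp [h', h, h2]
          · by_cases h0 : k % 4 = 0
            · refine ⟨gen 0 + 1, Submodule.add_mem _ (gen_mem 0) LeechFrame.one_mem, ?_⟩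
              ext i
              rw [mem_support₂, Finset.mem_filter]
              unfold Int.ModEq
              rcases z2 (gen 0 i) with h | h
              · simp [(hA i).1 h, h, h0]
              · rcases (hA i).2 (by rw [h]; decide) with h' | h' <;>
                  simp [h', h, h0, show (1 : ZMod 2) + 1 = 0 from by decide]
            · convert empty_mem using 1
              refine Finset.filter_false_of_mem fun i _ => ?_
              unfold Int.ModEq
              by_cases h : gen 0 i = 0
              · rw [(hA i).1 h]; omega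
              · rcases (hA i).2 h with h' | h' <;> rw [h'] <;> omega
      refine ⟨⟨f, hf⟩, Subtype.ext (funext fun l => ?_)⟩
      simp only [w, f, AddSubgroup.coe_add, M, two, Pi.add_apply, Pi.single_apply]
      simp only [← add_assoc]
      simp only [show ∀ (p : Prop) [Decidable p], (if p then (4 : ℤ) else 0) =
        (if p then 2 else 0) + (if p then 2 else 0) from fun p _ => by split_ifs <;> rfl,
        show ∀ (p : Prop) [Decidable p], (if p then (-4 : ℤ) else 0) =
        (if p then -2 else 0) + (if p then -2 else 0) from fun p _ => by split_ifs <;> rfl]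
      ring
    obtain ⟨y, hy⟩ := hy
    have h1 : β w (M (some 1) none) = 1 := by
      rw [hy, hβadd, hz2 _ (hβZ _ _)]
    simp only [w, hβadd] at h1
    rw [hadj _ _ _ (by decide) (by simp) (by simp),
      hdisj (some 2) (some 3) _ _ (by decide) (by decide) (by simp) (by decide) (by simp) (by simp),
      hdisj (some 4) (some 6) _ _ (by decide) (by decide) (by simp) (by decide) (by simp) (by simp),
      hdisj (some 8) (some 9) _ _ (by decide) (by decide) (by simp) (by decide) (by simp) (by simp),
      hdisj (some 12) (some 13) _ _ (by decide) (by decide) (by simp) (by decide) (by simp)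
        (by simp),
      hdisj (some 16) (some 18) _ _ (by decide) (by decide) (by simp) (by decide) (by simp)
        (by simp)] at h1
    simpa using h1
  -- the subgroup
  have hgen : ∀ k, σ (frameGen k) = 1 := by
    rintro (_ | k)
    · exact hU0 _
    · show σ (M _ _) = 1
      rw [hconst _ _ ((by decide : ∀ k, infoPt k ≠ some 0) k), ha1]
  have hpair : ∀ k l, β (frameGen k) (frameGen l) = 1 := by
    have hne : ∀ k, infoPt k ≠ some 0 := by decide
    have hinj : ∀ k l, infoPt k = infoPt l → k = l := by decide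
    have hMU : ∀ k, β (M (infoPt k) (some 0)) (U (some 0)) = 1 := fun k => by
      rw [hβU _ _ (hne k), hU0]
    have hself : ∀ v, β v v = 1 := fun v => by simp only [hβ]; group
    rintro (_ | k) (_ | l)
    · exact hself _
    · rw [hswap]; exact hMU l
    · exact hMU k
    · by_cases hkl : k = l
      · subst hkl; exact hself _
      · show β (M (infoPt k) (some 0)) (M (infoPt l) (some 0)) = 1
        rw [hswap, M_swap (infoPt l), hneg1, hswap,
          hadj _ _ _ (hne k) (hne l).symm (fun e => hkl (hinj _ _ e)), ha1]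
  set S : Set Q := ((Subgroup.center Q) : Set Q) ∪ Set.range fun k => r (frameGen k) with hS
  have hab : IsMulCommutative (Subgroup.closure S) := by
    refine Subgroup.isMulCommutative_closure fun x hx y hy => ?_
    rcases hx with hx | ⟨k, rfl⟩
    · exact (hcen x hx y).symm
    rcases hy with hy | ⟨l, rfl⟩
    · exact hcen y hy _
    have h := hpair k l
    simp only [hβ] at h
    rw [mul_inv_eq_one, mul_inv_eq_iff_eq_mul] at h
    exact h
  have hexp : ∀ x ∈ Subgroup.closure S, x ^ 2 = 1 := by
    intro x hx
    induction hx using Subgroup.closure_induction with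
    | mem y hy =>
      rw [pow_two]
      rcases hy with hy | ⟨k, rfl⟩
      · exact hz2 y hy
      · exact hgen k
    | one => exact one_pow 2
    | mul y y' hy hy' h h' =>
      have : Commute y y' := congrArg Subtype.val
        (mul_comm' (⟨y, hy⟩ : Subgroup.closure S) ⟨y', hy'⟩)
      rw [this.mul_pow, h, h', one_mul]
    | inv y _ h => rw [inv_pow, h, inv_one]
  -- counting
  have himg : ∀ c : Option (Fin 11) → Bool,
      ψ (∑ k, (if c k then (1 : ℤ) else 0) • frameGen k) ∈
        (Subgroup.closure S).map (QuotientGroup.mk' (Subgroup.center Q)) := by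
    let A : AddSubgroup Cfsg.leechLattice :=
      { carrier := {v | ψ v ∈ (Subgroup.closure S).map (QuotientGroup.mk' (Subgroup.center Q))}
        zero_mem' := by
          show ψ 0 ∈ (Subgroup.closure S).map (QuotientGroup.mk' (Subgroup.center Q))
          rw [(hker 0).mpr ⟨0, (add_zero _).symm⟩]
          exact Subgroup.one_mem _
        add_mem' := fun {v w} hv hw => by
          show ψ (v + w) ∈ (Subgroup.closure S).map (QuotientGroup.mk' (Subgroup.center Q))
          rw [hadd]
          exact Subgroup.mul_mem _ hv hw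
        neg_mem' := fun {v} hv => by
          show ψ (-v) ∈ (Subgroup.closure S).map (QuotientGroup.mk' (Subgroup.center Q))
          rw [hψneg]
          exact hv }
    intro c
    refine AddSubgroup.sum_mem A fun k _ => AddSubgroup.zsmul_mem A ?_ _
    show ψ (frameGen k) ∈ (Subgroup.closure S).map (QuotientGroup.mk' (Subgroup.center Q))
    rw [← hr]
    exact ⟨_, Subgroup.subset_closure (Or.inr ⟨k, rfl⟩), rfl⟩
  have hinj : Function.Injective fun c : Option (Fin 11) → Bool =>
      (⟨_, himg c⟩ : (Subgroup.closure S).map (QuotientGroup.mk' (Subgroup.center Q))) := by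
    intro c c' h
    have h1 : ψ (∑ k, ((if c k then (1 : ℤ) else 0) - (if c' k then 1 else 0)) • frameGen k) = 1 := by
      simp only [sub_smul, Finset.sum_sub_distrib]
      rw [sub_eq_add_neg]
      have h' := congrArg Subtype.val h
      simp only at h'
      rw [hadd, hψneg, h', ← hadd]
      exact (hker _).mpr ⟨_, rfl⟩
    funext k
    have := frame_independent _ ((hker _).mp h1) k
    revert this
    cases c k <;> cases c' k <;> simp
  have h12 : 2 ^ 12 ≤ Nat.card ((Subgroup.closure S).map (QuotientGroup.mk' (Subgroup.center Q))) := by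
    have := Nat.card_le_card_of_injective _ hinj
    simpa [Nat.card_eq_fintype_card, Fintype.card_fun] using this
  have hbig : 2 * Nat.card ((Subgroup.closure S).map (QuotientGroup.mk' (Subgroup.center Q))) =
      Nat.card (Subgroup.closure S) := by
    have hle : (Subgroup.center Q) ≤ Subgroup.closure S := fun x hx => Subgroup.subset_closure (Or.inl hx)
    set f := (QuotientGroup.mk' (Subgroup.center Q)).domRestrict (Subgroup.closure S) with hf
    have hk : f.ker = (Subgroup.center Q).subgroupOf (Subgroup.closure S) := by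
      rw [hf, MonoidHom.ker_domRestrict, QuotientGroup.ker_mk']
    rw [← Subgroup.index_mul_card f.ker, Subgroup.index_ker, hk,
      Nat.card_congr (Subgroup.subgroupOfEquivOfLe hle).toEquiv, hZ, mul_comm, hf,
      MonoidHom.domRestrict_range]
  have hpE : IsPGroup 2 (Subgroup.closure S) := fun x =>
    ⟨1, Subtype.ext (by simpa using hexp x x.2)⟩
  have : Fact (Nat.Prime 2) := ⟨Nat.prime_two⟩
  obtain ⟨n, hn⟩ := IsPGroup.iff_card.mp hpE
  have h13 : 13 ≤ n := by
    have : 2 ^ 13 ≤ 2 ^ n := by rw [← hn, ← hbig]; omega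
    exact (Nat.pow_le_pow_iff_right (by norm_num)).mp this
  obtain ⟨K, hK⟩ := Sylow.exists_subgroup_card_pow_prime (G := Subgroup.closure S) 2
    (n := 13) (by rw [hn]; exact pow_dvd_pow 2 h13)
  refine ⟨K.map (Subgroup.closure S).subtype, ⟨⟨⟨fun x y => ?_⟩⟩, ?_⟩, ?_⟩
  · obtain ⟨_, a', _, rfl⟩ := x
    obtain ⟨_, b', _, rfl⟩ := y
    exact Subtype.ext (congrArg Subtype.val (mul_comm' a' b') :)
  · rintro _ ⟨a', -, rfl⟩
    exact hexp a' a'.2
  · rw [Subgroup.card_subtype]
    exact hK

/-- Let G be a finite group of Monster type at the involution z with Q the extraspecial normal subgroup of order 2^25 of C = C_G(z) (so C/Q is identified with the first Conway group with Q modulo its centre the Leech lattice modulo 2, and z is not weakly closed in Q). Then Q is of plus type: it contains an elementary abelian subgroup of order 2^13. -/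
theorem result {G : Type*} [Group G] [Finite G] (z : G) (Q : Subgroup (Subgroup.centralizer ({z} : Set G))) [Q.Normal] (hM : Cfsg.IsOfMonsterType z Q) : ∃ E : Subgroup Q, Cfsg.IsElementaryAbelian 2 E ∧ Nat.card E = 2 ^ 13 := by
  obtain ⟨⟨_, _, hQ, hcard, _⟩, e, ψ, hadd, hsurj, hker, heq⟩ := hM
  obtain ⟨⟨hp, hfrat, hcomm⟩, hZ⟩ := hQ
  have hinv : ∀ (g : ↥Cfsg.Co0), ∃ h : Subgroup.centralizer ({z} : Set G),
      ∀ v, ∀ q : Q, ψ v = QuotientGroup.mk q → ψ (g • v) = QuotientGroup.mk
        ⟨h * q * h⁻¹, (inferInstance : Q.Normal).conj_mem _ q.2 h⟩ := by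
    intro g
    obtain ⟨h', hh'⟩ := e.surjective (QuotientGroup.mk g)
    obtain ⟨h, rfl⟩ := QuotientGroup.mk_surjective h'
    exact ⟨h, heq h g hh'.symm⟩
  have hcomm' : ∀ a b : Q, a * b * a⁻¹ * b⁻¹ ∈ Subgroup.center Q := fun a b => by
    rw [← hcomm]
    exact Subgroup.commutator_mem_commutator (Subgroup.mem_top a) (Subgroup.mem_top b)
  have hsq : ∀ a : Q, a * a ∈ Subgroup.center Q := by
    intro a
    obtain ⟨v, hv⟩ := hsurj (QuotientGroup.mk a)
    have := hadd v v
    rw [(hker (v + v)).mpr ⟨v, rfl⟩, hv, ← QuotientGroup.mk_mul] at this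
    exact (QuotientGroup.eq_one_iff _).mp this.symm
  exact frame_subgroup Q hcard hZ hcomm' hsq ψ hadd hsurj hker hinv

end Cfsg.Agent.S5408
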