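import Cfsg.Statements.S5413
import Cfsg.Agent.Lib.MonsterFive72Local

set_option autoImplicit false
open Cfsg

namespace Cfsg.Agent.S5413

/-- Let G be a finite group of Monster type at the involution z with Q the extraspecial normal subgroup of order 2^25 of C = C_G(z) (so C/Q is identified with the first Conway group with Q modulo its centre the Leech lattice modulo 2, and z is not weakly closed in Q). Let s be a conjugate of z in Q other than z and let B be a Sylow 5-subgroup of the joint centralizer of z and s. Then the centralizer of B modulo B is a group of Harada–Norton type (an involution whose centralizer D has generalized Fitting subgroup R extraspecial of order 2^9 with D/R the wreath product of the alternating group of degree 5 by a group of order 2, the involution not weakly closed in R). -/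
theorem result {G : Type*} [Group G] [Finite G] (z : G) (Q : Subgroup (Subgroup.centralizer ({z} : Set G))) [Q.Normal] (hM : Cfsg.IsOfMonsterType z Q) (s : G) (hsQ : ∃ hsc : s ∈ Subgroup.centralizer ({z} : Set G), (⟨s, hsc⟩ : Subgroup.centralizer ({z} : Set G)) ∈ Q) (hs : IsConj z s) (hs1 : s ≠ z) (B : Subgroup G) (hB : B ≤ Subgroup.centralizer ({z, s} : Set G)) (hBp : Nat.card B = 5 ^ (Nat.card ↥(Subgroup.centralizer ({z, s} : Set G))).factorization 5) [hn : (B.subgroupOf (Subgroup.centralizer (B : Set G))).Normal] : Cfsg.IsOfHaradaNortonType (↥(Subgroup.centralizer (B : Set G)) ⧸ B.subgroupOf (Subgroup.centralizer (B : Set G))) := by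
  obtain ⟨hsc, hsQ⟩ := hsQ
  obtain ⟨e, ψ, hψ⟩ := hM.2
  have S0 := MonsterLocal.setup_of hM hψ
  obtain ⟨a, has⟩ : ∃ a : Q, ((a : Subgroup.centralizer ({z} : Set G)) : G) = s := ⟨⟨⟨s, hsc⟩, hsQ⟩, rfl⟩
  obtain ⟨e₁, ψ₁, S, ha⟩ := MonsterFischer17.exists_frame_setup S0 (a := a) (by rw [has]; exact hs)
    (by rw [has]; exact hs1)
  have hs0 : s ≠ 1 := has ▸ MonsterFischer17.ne_one_of_conj (a := a) (by rw [has]; exact hs) S
  have haz : ((a : Subgroup.centralizer ({z} : Set G)) : G) ≠ 1 ∧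
      ((a : Subgroup.centralizer ({z} : Set G)) : G) ≠ z := by rw [has]; exact ⟨hs0, hs1⟩
  have hsQg : s ∈ Q.map (Subgroup.centralizer ({z} : Set G)).subtype := has ▸ S.coe_mem a
  have hL : ∀ x, x ∈ Subgroup.centralizer ({z, s} : Set G) ↔ x * z = z * x ∧ x * s = s * x := by
    intro x
    simp only [Subgroup.mem_centralizer_iff, Set.mem_insert_iff, Set.mem_singleton_iff, forall_eq_or_imp,
      forall_eq]
    exact ⟨fun h => ⟨h.1.symm, h.2.symm⟩, fun h => ⟨h.1.symm, h.2.symm⟩⟩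
  have hLeq : Subgroup.centralizer ({z, s} : Set G) =
      Subgroup.centralizer ({z} : Set G) ⊓ Subgroup.centralizer ({s} : Set G) := by
    ext x
    rw [hL, Subgroup.mem_inf, Subgroup.mem_centralizer_singleton_iff, Subgroup.mem_centralizer_singleton_iff]
  haveI : Fact (Nat.Prime 5) := ⟨by norm_num⟩
  have hfac : (Nat.card ↥(Subgroup.centralizer ({z, s} : Set G))).factorization 5 = 1 := by
    rw [hLeq, ← has]; exact MonsterFive72.card_L S ha haz
  have hB5 : Nat.card B = 5 := by rw [hBp, hfac, pow_one]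
  haveI : Nontrivial B := Finite.one_lt_card_iff_nontrivial.mp (by rw [hB5]; norm_num)
  obtain ⟨⟨y, hyB⟩, hy1⟩ := exists_ne (1 : B)
  have hy1' : y ≠ 1 := fun h => hy1 (Subtype.ext h)
  have hoy : orderOf y = 5 := by
    have h : orderOf y ∣ 5 := by
      rw [← hB5, show y = ((⟨y, hyB⟩ : B) : G) from rfl, Subgroup.orderOf_coe]
      exact orderOf_dvd_natCard _
    exact ((Nat.dvd_prime (by norm_num)).mp h).resolve_left fun h1 => hy1' (orderOf_eq_one_iff.mp h1)
  obtain ⟨h1, h2⟩ := (hL y).mp (hB hyB)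
  let yC : Subgroup.centralizer ({z} : Set G) := ⟨y, Subgroup.mem_centralizer_singleton_iff.mpr h1⟩
  obtain ⟨τ, -, i, hi, hτ⟩ := MonsterFive72.five_over S ha haz (y := yC) hoy (by rw [has]; exact h2)
  -- the generator over `u`
  have hoy1 : orderOf (y ^ i) = 5 := by
    rw [(Nat.Coprime.orderOf_pow (by rw [hoy]; exact (Nat.Prime.coprime_iff_not_dvd (by norm_num)).mpr hi)), hoy]
  have hBy : B = Subgroup.zpowers (y ^ i) :=
    (Subgroup.eq_of_le_of_card_ge (Subgroup.zpowers_le.mpr (pow_mem hyB i))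
      (by rw [hB5, Nat.card_zpowers, hoy1])).symm
  -- an element normalising `B` and moving `z` to `s`
  obtain ⟨q, hq, eq⟩ := S.lh.partner s hsQg hs0 hs1
  obtain ⟨g, hg⟩ := isConj_iff.mp hs
  have Pr : LargeExtraspecialPair.Pair (Q.map (Subgroup.centralizer ({z} : Set G)).subtype)
      ((Q.map (Subgroup.centralizer ({z} : Set G)).subtype).map (MulAut.conj g).toMonoidHom) z s := by
    have := LargeExtraspecialPair.pair_of_conj S.lh (g := g) (by rw [hg]; exact hsQg)
      (by rw [hg]; exact hs1) (by rw [S.card]; norm_num)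
    rwa [hg] at this
  obtain ⟨-, q', hq', eq'⟩ := Pr.exists_q
  set n := q * q' with hn'
  have hqz : q * z * q⁻¹ = z := mul_inv_eq_iff_eq_mul.mpr (S.lh.comm q hq)
  have hq's : q' * s * q'⁻¹ = s := mul_inv_eq_iff_eq_mul.mpr (Pr.h'.comm q' hq')
  have hnz : n * z * n⁻¹ = s := by
    calc n * z * n⁻¹ = q * (q' * z * q'⁻¹) * q⁻¹ := by rw [hn']; group
      _ = q * (z * s) * q⁻¹ := by rw [eq']
      _ = (q * z * q⁻¹) * (q * s * q⁻¹) := by group
      _ = s := by rw [hqz, eq, S.lh.toExt.z_mul_z_mul]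
  have hns : n * s * n⁻¹ = z * s := by
    calc n * s * n⁻¹ = q * (q' * s * q'⁻¹) * q⁻¹ := by rw [hn']; group
      _ = z * s := by rw [hq's, eq]
  have hnL : ∀ x ∈ Subgroup.centralizer ({z, s} : Set G),
      n * x * n⁻¹ ∈ Subgroup.centralizer ({z, s} : Set G) := by
    intro x hx
    obtain ⟨h1, h2⟩ := (hL x).mp hx
    have c1 : Commute (n * x * n⁻¹) s := by
      rw [← hnz]; exact (show Commute x z from h1).map (MulAut.conj n).toMonoidHom
    have c2 : Commute (n * x * n⁻¹) (z * s) := by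
      rw [← hns]; exact (show Commute x s from h2).map (MulAut.conj n).toMonoidHom
    refine (hL _).mpr ⟨?_, c1.eq⟩
    have := c2.mul_right c1.inv_right
    rwa [mul_inv_cancel_right] at this
  set y1 := y ^ i with hy1d
  have hy1B : y1 ∈ B := pow_mem hyB i
  obtain ⟨l, hlL, j, hlj⟩ := MonsterSeven71.conj_of_prime (Subgroup.centralizer ({z, s} : Set G))
    (hnL y1 (hB hy1B)) (hB hy1B) (by rw [← hoy1]; exact MulEquiv.orderOf_eq (MulAut.conj n) y1) hoy1
    (by
      rw [Nat.Prime.pow_dvd_iff_le_factorization (by norm_num) Nat.card_pos.ne', hfac]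
      norm_num)
  obtain ⟨hlz, hls⟩ := (hL l).mp hlL
  set m₀ := l * n with hm₀
  have h0y : m₀ * y1 * m₀⁻¹ = y1 ^ j := by
    rw [← hlj, hm₀]; group
  have h0z : m₀ * z * m₀⁻¹ = s := by
    calc m₀ * z * m₀⁻¹ = l * (n * z * n⁻¹) * l⁻¹ := by rw [hm₀]; group
      _ = s := by rw [hnz]; exact mul_inv_eq_iff_eq_mul.mpr hls
  have h0s : m₀ * s * m₀⁻¹ = z * s := by
    calc m₀ * s * m₀⁻¹ = l * (n * s * n⁻¹) * l⁻¹ := by rw [hm₀]; group
      _ = (l * z * l⁻¹) * (l * s * l⁻¹) := by rw [hns]; group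
      _ = z * s := by rw [mul_inv_eq_iff_eq_mul.mpr hlz, mul_inv_eq_iff_eq_mul.mpr hls]
  have h0t : m₀ * (z * s) * m₀⁻¹ = z := by
    have hss : s * s = 1 := Pr.h'.zz
    calc m₀ * (z * s) * m₀⁻¹ = (m₀ * z * m₀⁻¹) * (m₀ * s * m₀⁻¹) := by group
      _ = s * (z * s) := by rw [h0z, h0s]
      _ = (s * z) * s := by group
      _ = z * (s * s) := by rw [← S.lh.comm s hsQg |>.symm, mul_assoc]
      _ = z := by rw [hss, mul_one]
  set m := m₀ * (m₀ * (m₀ * m₀)) with hm
  have hmy : m * y1 = y1 * m := by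
    have h4 : m * y1 * m⁻¹ = y1 ^ (j * j * j * j) := by
      calc m * y1 * m⁻¹ = m₀ * (m₀ * (m₀ * (m₀ * y1 * m₀⁻¹) * m₀⁻¹) * m₀⁻¹) * m₀⁻¹ := by rw [hm]; group
        _ = y1 ^ (j * j * j * j) := by
          rw [h0y, ← conj_pow, h0y, ← pow_mul, ← conj_pow, h0y, ← pow_mul, ← conj_pow, h0y, ← pow_mul]
          congr 1
          ring
    have hj5 : ¬ 5 ∣ j := by
      rintro ⟨t, rfl⟩
      rw [pow_mul, show y1 ^ 5 = 1 from hoy1 ▸ pow_orderOf_eq_one y1, one_pow, conj_eq_one_iff] at h0y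
      rw [h0y, orderOf_one] at hoy1
      norm_num at hoy1
    have hjj : (j * j * j * j) % 5 = 1 := by
      have : j % 5 = 1 ∨ j % 5 = 2 ∨ j % 5 = 3 ∨ j % 5 = 4 := by omega
      rcases this with h | h | h | h <;> simp [Nat.mul_mod, h]
    rw [← pow_mod_orderOf, hoy1, hjj, pow_one] at h4
    exact mul_inv_eq_iff_eq_mul.mp h4
  have hmz : m * z * m⁻¹ = s := by
    calc m * z * m⁻¹ = m₀ * (m₀ * (m₀ * (m₀ * z * m₀⁻¹) * m₀⁻¹) * m₀⁻¹) * m₀⁻¹ := by rw [hm]; group
      _ = s := by rw [h0z, h0s, h0t, h0z]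
  -- twist
  have S2 := S.twist τ
  have hphi : MonsterLocal.phi (e₁.trans (MulAut.conj (QuotientGroup.mk τ : Spor.Co1))) LeechFive72.uC =
      MonsterLocal.phi e₁ (τ⁻¹ * LeechFive72.uC * τ) := by
    simp only [MonsterLocal.phi, MonoidHom.comp_apply, MulEquiv.coe_toMonoidHom, QuotientGroup.mk'_apply]
    rw [MulEquiv.symm_apply_eq, MulEquiv.trans_apply, MulEquiv.apply_symm_apply, MulAut.conj_apply,
      ← QuotientGroup.mk_inv, ← QuotientGroup.mk_mul, ← QuotientGroup.mk_mul]
    exact congrArg QuotientGroup.mk (by group)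
  have hy15 : y1 ^ 5 = 1 := hoy1 ▸ pow_orderOf_eq_one y1
  refine MonsterFive72.large S2 (a := a) (y := yC ^ i) (by rw [hphi]; exact hτ) hy15 ?_ haz hmy ?_ ?_ hBy
  · rw [has]; exact ((show Commute y s from h2).pow_left i).eq
  · rw [hmz]; exact hsQg
  · rw [hmz]; exact hs1

end Cfsg.Agent.S5413
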