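import Cfsg.Statements.S5414
import Cfsg.Agent.Lib.MonsterThompson17
-- import your own Cfsg.Agent.* helpers here

set_option autoImplicit false
open Cfsg

namespace Cfsg.Agent.S5414

/-- Let G be a finite group of Monster type at the involution z with Q the extraspecial normal subgroup of order 2^25 of C = C_G(z) (so C/Q is identified with the first Conway group with Q modulo its centre the Leech lattice modulo 2, and z is not weakly closed in Q). Let s be a conjugate of z in Q other than z and let Y be a subgroup of order 3 of the joint centralizer L of z and s that is not 3-central in L (Y lies in the centre of no Sylow 3-subgroup of L). Then the centralizer of Y modulo Y is a group of Thompson type (an involution whose centralizer D has generalized Fitting subgroup R extraspecial of order 2^9 with D/R the alternating group of degree 9, the involution not weakly closed in R). -/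
theorem result {G : Type*} [Group G] [Finite G] (z : G) (Q : Subgroup (Subgroup.centralizer ({z} : Set G))) [Q.Normal] (hM : Cfsg.IsOfMonsterType z Q) (s : G) (hsQ : ∃ hsc : s ∈ Subgroup.centralizer ({z} : Set G), (⟨s, hsc⟩ : Subgroup.centralizer ({z} : Set G)) ∈ Q) (hs : IsConj z s) (hs1 : s ≠ z) (Y : Subgroup G) (hY : Y ≤ Subgroup.centralizer ({z, s} : Set G)) (hY3 : Nat.card Y = 3) (hnc : ∀ P : Sylow 3 ↥(Subgroup.centralizer ({z, s} : Set G)), ¬ Y.subgroupOf (Subgroup.centralizer ({z, s} : Set G)) ≤ (Subgroup.center ↥(P : Subgroup ↥(Subgroup.centralizer ({z, s} : Set G)))).map (P : Subgroup ↥(Subgroup.centralizer ({z, s} : Set G))).subtype) [hn : (Y.subgroupOf (Subgroup.centralizer (Y : Set G))).Normal] : Cfsg.IsOfThompsonType (↥(Subgroup.centralizer (Y : Set G)) ⧸ Y.subgroupOf (Subgroup.centralizer (Y : Set G))) := by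
  obtain ⟨hsc, hsQ⟩ := hsQ
  obtain ⟨e, ψ, hψ⟩ := hM.2
  have S0 := MonsterLocal.setup_of hM hψ
  obtain ⟨a, has⟩ : ∃ a : Q, ((a : Subgroup.centralizer ({z} : Set G)) : G) = s := ⟨⟨⟨s, hsc⟩, hsQ⟩, rfl⟩
  obtain ⟨e₁, ψ₁, S, ha⟩ := MonsterFischer17.exists_frame_setup S0 (a := a) (by rw [has]; exact hs)
    (by rw [has]; exact hs1)
  have hs0 : s ≠ 1 := has ▸ MonsterFischer17.ne_one_of_conj (a := a) (by rw [has]; exact hs) S
  have haz : ((a : Subgroup.centralizer ({z} : Set G)) : G) ≠ 1 ∧
      ((a : Subgroup.centralizer ({z} : Set G)) : G) ≠ z := by rw [has]; exact ⟨hs0, hs1⟩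
  have hsQg : s ∈ Q.map (Subgroup.centralizer ({z} : Set G)).subtype := has ▸ S.coe_mem a
  have hL : ∀ x, x ∈ Subgroup.centralizer ({z, s} : Set G) ↔ x * z = z * x ∧ x * s = s * x := by
    intro x
    simp only [Subgroup.mem_centralizer_iff, Set.mem_insert_iff, Set.mem_singleton_iff, forall_eq_or_imp,
      forall_eq]
    exact ⟨fun h => ⟨h.1.symm, h.2.symm⟩, fun h => ⟨h.1.symm, h.2.symm⟩⟩
  have hLeq : Subgroup.centralizer ({z, s} : Set G) =
      Subgroup.centralizer ({z} : Set G) ⊓ Subgroup.centralizer ({s} : Set G) := by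
    ext x
    rw [hL, Subgroup.mem_inf, Subgroup.mem_centralizer_singleton_iff, Subgroup.mem_centralizer_singleton_iff]
  haveI : Fact (Nat.Prime 3) := ⟨Nat.prime_three⟩
  haveI : Nontrivial Y := Finite.one_lt_card_iff_nontrivial.mp (by rw [hY3]; norm_num)
  obtain ⟨⟨y, hyY⟩, hy1⟩ := exists_ne (1 : Y)
  have hy1' : y ≠ 1 := fun h => hy1 (Subtype.ext h)
  have hoy : orderOf y = 3 := by
    have h : orderOf y ∣ 3 := by
      rw [← hY3, show y = ((⟨y, hyY⟩ : Y) : G) from rfl, Subgroup.orderOf_coe]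
      exact orderOf_dvd_natCard _
    exact ((Nat.dvd_prime Nat.prime_three).mp h).resolve_left fun h1 => hy1' (orderOf_eq_one_iff.mp h1)
  have hy3 : y ^ 3 = 1 := by rw [← hoy]; exact pow_orderOf_eq_one y
  have hYy : Y = Subgroup.zpowers y :=
    (Subgroup.eq_of_le_of_card_ge (Subgroup.zpowers_le.mpr hyY) (by rw [hY3, Nat.card_zpowers, hoy])).symm
  -- an element moving `z` to `s` and `s` to `zs`
  obtain ⟨q, hq, eq⟩ := S.lh.partner s hsQg hs0 hs1
  obtain ⟨g, hg⟩ := isConj_iff.mp hs
  have Pr : LargeExtraspecialPair.Pair (Q.map (Subgroup.centralizer ({z} : Set G)).subtype)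
      ((Q.map (Subgroup.centralizer ({z} : Set G)).subtype).map (MulAut.conj g).toMonoidHom) z s := by
    have := LargeExtraspecialPair.pair_of_conj S.lh (g := g) (by rw [hg]; exact hsQg)
      (by rw [hg]; exact hs1) (by rw [S.card]; norm_num)
    rwa [hg] at this
  obtain ⟨-, q', hq', eq'⟩ := Pr.exists_q
  set n := q * q' with hn'
  have hqz : q * z * q⁻¹ = z := mul_inv_eq_iff_eq_mul.mpr (S.lh.comm q hq)
  have hq's : q' * s * q'⁻¹ = s := mul_inv_eq_iff_eq_mul.mpr (Pr.h'.comm q' hq')
  have hnz : n * z * n⁻¹ = s := by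
    calc n * z * n⁻¹ = q * (q' * z * q'⁻¹) * q⁻¹ := by rw [hn']; group
      _ = q * (z * s) * q⁻¹ := by rw [eq']
      _ = (q * z * q⁻¹) * (q * s * q⁻¹) := by group
      _ = s := by rw [hqz, eq, S.lh.toExt.z_mul_z_mul]
  have hns : n * s * n⁻¹ = z * s := by
    calc n * s * n⁻¹ = q * (q' * s * q'⁻¹) * q⁻¹ := by rw [hn']; group
      _ = z * s := by rw [hq's, eq]
  have hnL : ∀ x ∈ Subgroup.centralizer ({z, s} : Set G),
      n * x * n⁻¹ ∈ Subgroup.centralizer ({z, s} : Set G) := by
    intro x hx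
    obtain ⟨h1, h2⟩ := (hL x).mp hx
    have c1 : Commute (n * x * n⁻¹) s := by
      rw [← hnz]; exact (show Commute x z from h1).map (MulAut.conj n).toMonoidHom
    have c2 : Commute (n * x * n⁻¹) (z * s) := by
      rw [← hns]; exact (show Commute x s from h2).map (MulAut.conj n).toMonoidHom
    refine (hL _).mpr ⟨?_, c1.eq⟩
    have := c2.mul_right c1.inv_right
    rwa [mul_inv_cancel_right] at this
  let y₁ : MonsterThompson17.La a :=
    ⟨y, by show y ∈ Subgroup.centralizer _ ⊓ Subgroup.centralizer _; rw [has, ← hLeq]; exact hY hyY⟩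
  have hLa : MonsterThompson17.La a = Subgroup.centralizer ({z, s} : Set G) := by
    show Subgroup.centralizer _ ⊓ Subgroup.centralizer _ = _
    rw [has, ← hLeq]
  have hnc' : ∀ P : Sylow 3 (MonsterThompson17.La a), y₁ ∈ P → (∀ p ∈ P, p * y₁ = y₁ * p) → False := by
    have key : ∀ L : Subgroup G, L = Subgroup.centralizer ({z, s} : Set G) → ∀ (w : L), (w : G) = y →
        ∀ P : Sylow 3 L, w ∈ P → (∀ p ∈ P, p * w = w * p) → False := by
      rintro _ rfl w hw P hwP hc
      refine hnc P fun x hx => ?_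
      have hxy : (x : G) ∈ Subgroup.zpowers y := hYy ▸ hx
      obtain ⟨k, hk⟩ := hxy
      obtain rfl : w ^ k = x := Subtype.ext (by rw [Subgroup.coe_zpow, hw]; exact hk)
      have hmem : w ∈ (Subgroup.center ↥(P : Subgroup ↥(Subgroup.centralizer ({z, s} : Set G)))).map
          (P : Subgroup ↥(Subgroup.centralizer ({z, s} : Set G))).subtype := by
        refine ⟨⟨w, hwP⟩, ?_, rfl⟩
        exact Subgroup.mem_center_iff.mpr fun p => Subtype.ext (hc p p.2)
      exact Subgroup.zpow_mem _ hmem k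
    exact key _ hLa y₁ rfl
  have hn' : ∀ x ∈ MonsterThompson17.La a, n * x * n⁻¹ ∈ MonsterThompson17.La a := by rw [hLa]; exact hnL
  let θ : MonsterThompson17.La a →* MonsterThompson17.La a :=
    ((MulAut.conj n).toMonoidHom.comp (MonsterThompson17.La a).subtype).codRestrict _ fun x => hn' x x.2
  have hθ : ∀ x, (θ x : G) = n * (x : G) * n⁻¹ := fun x => rfl
  have hθinj : Function.Injective θ := fun x w h =>
    Subtype.ext ((MulAut.conj n).injective (congrArg Subtype.val h))
  have hy₁ : y₁ ^ 3 = 1 := Subtype.ext hy3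
  have hy₁1 : y₁ ≠ 1 := fun h => hy1' (congrArg Subtype.val h)
  obtain ⟨τ, hτ, hτy⟩ := (MonsterThompson17.classify S ha haz hy₁ hy₁1).resolve_right fun ⟨P, h1, h2⟩ => hnc' P h1 h2
  obtain ⟨τ', hτ', hτy'⟩ := (MonsterThompson17.classify S ha haz (y := θ y₁) (by rw [← map_pow, hy₁, map_one])
    (fun h => hy₁1 (hθinj (h.trans (map_one θ).symm)))).resolve_right fun ⟨P, h1, h2⟩ => by
      let e : MonsterThompson17.La a ≃* MonsterThompson17.La a :=
        MulEquiv.ofBijective θ ⟨hθinj, Finite.surjective_of_injective hθinj⟩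
      refine hnc' (Sylow.ofCard ((P : Subgroup (MonsterThompson17.La a)).comap e.toMonoidHom) ?_) h1 fun p hp => ?_
      · rw [Subgroup.comap_equiv_eq_map_symm', ← Nat.card_congr
          (Subgroup.equivMapOfInjective _ _ e.symm.injective).toEquiv]
        exact P.card_eq_multiplicity
      · exact hθinj (by rw [map_mul, map_mul]; exact h2 (θ p) hp)
  obtain ⟨l₀, hl₀⟩ := MonsterThompson17.exists_lift S ha haz (mul_mem hτ (inv_mem hτ'))
  have hfy : MonsterThompson17.fL a y₁ = MonsterThompson17.fL a (l₀ * θ y₁ * l₀⁻¹) := by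
    rw [map_mul, map_mul, map_inv, hl₀, hτy, hτy']
    simp only [map_mul, map_inv]
    group
  have hfne : MonsterThompson17.fL a y₁ ≠ 1 := by
    rw [hτy]
    refine MonsterThompson17.phi_ne_one (by rw [conj_pow, LeechThompson17.uC_pow, mul_one, mul_inv_cancel]) ?_
    exact fun h => LeechThompson17.uC_ne_one (conj_eq_one_iff.mp h)
  obtain ⟨k, -, hk⟩ := MonsterThompson17.exists_conj_of_map_eq (MonsterThompson17.fL a)
    (MonsterThompson17.fL_ker S) hy₁ (by rw [conj_pow, ← map_pow, hy₁, map_one, mul_one, mul_inv_cancel]) hfne hfy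
  set m := ((k * l₀ : MonsterThompson17.La a) : G) * n with hm
  have hmy : m * y = y * m := by
    have h := congrArg Subtype.val hk
    simp only [Subgroup.coe_mul, Subgroup.coe_inv, hθ] at h
    refine mul_inv_eq_iff_eq_mul.mp (Eq.trans ?_ h)
    rw [hm, Subgroup.coe_mul]
    group
    rfl
  have hmz : m * z * m⁻¹ = s := by
    have h1 : ((k * l₀ : MonsterThompson17.La a) : G) * s = s * ((k * l₀ : MonsterThompson17.La a) : G) :=
      ((hL _).mp (hLa ▸ (k * l₀ : MonsterThompson17.La a).2)).2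
    calc m * z * m⁻¹ = ((k * l₀ : MonsterThompson17.La a) : G) * (n * z * n⁻¹) *
        ((k * l₀ : MonsterThompson17.La a) : G)⁻¹ := by rw [hm]; group
      _ = s := by rw [hnz]; exact mul_inv_eq_iff_eq_mul.mpr h1
  obtain ⟨h1, h2⟩ := (hL y).mp (hY hyY)
  let yC : Subgroup.centralizer ({z} : Set G) := ⟨y, Subgroup.mem_centralizer_singleton_iff.mpr h1⟩
  have S2 := S.twist τ⁻¹
  have hphi : ∀ x : Co0, MonsterLocal.phi (e₁.trans (MulAut.conj (QuotientGroup.mk τ⁻¹ : Spor.Co1))) x =
      MonsterLocal.phi e₁ (τ * x * τ⁻¹) := by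
    intro x
    simp only [MonsterLocal.phi, MonoidHom.comp_apply, MulEquiv.coe_toMonoidHom, QuotientGroup.mk'_apply]
    rw [MulEquiv.symm_apply_eq, MulEquiv.trans_apply, MulEquiv.apply_symm_apply, MulAut.conj_apply,
      ← QuotientGroup.mk_inv, ← QuotientGroup.mk_mul, ← QuotientGroup.mk_mul]
    exact congrArg QuotientGroup.mk (by group)
  exact MonsterThompson17.thompson S2 (a := a) (y := yC) (by rw [hphi]; exact hτy) hy3 (by rw [has]; exact h2) haz
    hmy (by rw [hmz]; exact hsQg) (by rw [hmz]; exact hs1) hYy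

end Cfsg.Agent.S5414
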