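import Cfsg.Statements.S5415
import Cfsg.Agent.Lib.MonsterFischer17

set_option autoImplicit false
open Cfsg

namespace Cfsg.Agent.S5415

/-- Let G be a finite group of Monster type at the involution z with Q the extraspecial normal subgroup of order 2^25 of C = C_G(z) (so C/Q is identified with the first Conway group with Q modulo its centre the Leech lattice modulo 2, and z is not weakly closed in Q). Let s be a conjugate of z in Q other than z and let Y be a subgroup of order 3 of the joint centralizer L of z and s that is 3-central in L (Y lies in the centre of some Sylow 3-subgroup of L). Then the centralizer of Y modulo Y is a group of large Fischer type (an involution whose centralizer D has generalized Fitting subgroup R extraspecial of order 2^13 and normal subgroups R ≤ N ≤ M with N/R of order 3, M/N the projective special unitary group of dimension 4 over the field with nine elements and M of index 2 in D; the involution not weakly closed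 in R). -/
theorem result {G : Type*} [Group G] [Finite G] (z : G) (Q : Subgroup (Subgroup.centralizer ({z} : Set G))) [Q.Normal] (hM : Cfsg.IsOfMonsterType z Q) (s : G) (hsQ : ∃ hsc : s ∈ Subgroup.centralizer ({z} : Set G), (⟨s, hsc⟩ : Subgroup.centralizer ({z} : Set G)) ∈ Q) (hs : IsConj z s) (hs1 : s ≠ z) (Y : Subgroup G) (hY : Y ≤ Subgroup.centralizer ({z, s} : Set G)) (hY3 : Nat.card Y = 3) (hc : ∃ P : Sylow 3 ↥(Subgroup.centralizer ({z, s} : Set G)), Y.subgroupOf (Subgroup.centralizer ({z, s} : Set G)) ≤ (Subgroup.center ↥(P : Subgroup ↥(Subgroup.centralizer ({z, s} : Set G)))).map (P : Subgroup ↥(Subgroup.centralizer ({z, s} : Set G))).subtype) [hn : (Y.subgroupOf (Subgroup.centralizer (Y : Set G))).Normal] : Cfsg.IsOfLargeFischerType (↥(Subgroup.centralizer (Y : Set G)) ⧸ Y.subgroupOf (Subgroup.centralizer (Y : Set G))) := by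
  obtain ⟨hsc, hsQ⟩ := hsQ
  obtain ⟨e, ψ, hψ⟩ := hM.2
  have S0 := MonsterLocal.setup_of hM hψ
  obtain ⟨a, has⟩ : ∃ a : Q, ((a : Subgroup.centralizer ({z} : Set G)) : G) = s := ⟨⟨⟨s, hsc⟩, hsQ⟩, rfl⟩
  obtain ⟨e₁, ψ₁, S, ha⟩ := MonsterFischer17.exists_frame_setup S0 (a := a) (by rw [has]; exact hs)
    (by rw [has]; exact hs1)
  have hs0 : s ≠ 1 := has ▸ MonsterFischer17.ne_one_of_conj (a := a) (by rw [has]; exact hs) S
  have haz : ((a : Subgroup.centralizer ({z} : Set G)) : G) ≠ 1 ∧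
      ((a : Subgroup.centralizer ({z} : Set G)) : G) ≠ z := by rw [has]; exact ⟨hs0, hs1⟩
  have hsQg : s ∈ Q.map (Subgroup.centralizer ({z} : Set G)).subtype := has ▸ S.coe_mem a
  have hL : ∀ x, x ∈ Subgroup.centralizer ({z, s} : Set G) ↔ x * z = z * x ∧ x * s = s * x := by
    intro x
    simp only [Subgroup.mem_centralizer_iff, Set.mem_insert_iff, Set.mem_singleton_iff, forall_eq_or_imp,
      forall_eq]
    exact ⟨fun h => ⟨h.1.symm, h.2.symm⟩, fun h => ⟨h.1.symm, h.2.symm⟩⟩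
  have hLeq : Subgroup.centralizer ({z, s} : Set G) =
      Subgroup.centralizer ({z} : Set G) ⊓ Subgroup.centralizer ({s} : Set G) := by
    ext x
    rw [hL, Subgroup.mem_inf, Subgroup.mem_centralizer_singleton_iff, Subgroup.mem_centralizer_singleton_iff]
  haveI : Fact (Nat.Prime 3) := ⟨Nat.prime_three⟩
  obtain ⟨P, hP⟩ := hc
  set PG := (P : Subgroup ↥(Subgroup.centralizer ({z, s} : Set G))).map (Subgroup.centralizer ({z, s} : Set G)).subtype
    with hPG
  have hfac : (Nat.card ↥(Subgroup.centralizer ({z, s} : Set G))).factorization 3 = 3 := by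
    rw [hLeq, ← has]; exact MonsterFischer17.card_L S ha haz
  have hPGcard : Nat.card PG = 27 := by
    rw [hPG, ← Nat.card_congr (Subgroup.equivMapOfInjective _ _ (Subgroup.subtype_injective _)).toEquiv,
      P.card_eq_multiplicity, hfac]
    norm_num
  have hPGL : PG ≤ Subgroup.centralizer ({z} : Set G) ⊓ Subgroup.centralizer ({s} : Set G) := by
    rw [← hLeq, hPG]
    rintro _ ⟨x, -, rfl⟩
    exact x.2
  haveI : Nontrivial Y := Finite.one_lt_card_iff_nontrivial.mp (by rw [hY3]; norm_num)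
  obtain ⟨⟨y, hyY⟩, hy1⟩ := exists_ne (1 : Y)
  have hy1' : y ≠ 1 := fun h => hy1 (Subtype.ext h)
  have hoy : orderOf y = 3 := by
    have h : orderOf y ∣ 3 := by
      rw [← hY3, show y = ((⟨y, hyY⟩ : Y) : G) from rfl, Subgroup.orderOf_coe]
      exact orderOf_dvd_natCard _
    exact ((Nat.dvd_prime Nat.prime_three).mp h).resolve_left fun h1 => hy1' (orderOf_eq_one_iff.mp h1)
  have hy3 : y ^ 3 = 1 := by rw [← hoy]; exact pow_orderOf_eq_one y
  have hYy : Y = Subgroup.zpowers y :=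
    (Subgroup.eq_of_le_of_card_ge (Subgroup.zpowers_le.mpr hyY) (by rw [hY3, Nat.card_zpowers, hoy])).symm
  have hyPG : y ∈ PG ∧ ∀ p ∈ PG, p * y = y * p := by
    obtain ⟨w, hw, hwy⟩ := hP (show (⟨y, hY hyY⟩ : ↥(Subgroup.centralizer ({z, s} : Set G))) ∈ _ from hyY)
    have hwy' : ((w : ↥(Subgroup.centralizer ({z, s} : Set G))) : G) = y := congrArg Subtype.val hwy
    refine ⟨⟨_, w.2, hwy'⟩, ?_⟩
    rintro _ ⟨p, hp, rfl⟩
    rw [← hwy']
    exact congrArg (fun v : ↥(P : Subgroup ↥(Subgroup.centralizer ({z, s} : Set G))) =>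
      ((v : ↥(Subgroup.centralizer ({z, s} : Set G))) : G)) (Subgroup.mem_center_iff.mp hw ⟨p, hp⟩)
  let yC : Subgroup.centralizer ({z} : Set G) :=
    ⟨y, Subgroup.mem_centralizer_singleton_iff.mpr ((hL y).mp (hY hyY)).1⟩
  obtain ⟨⟨σ, -, hor⟩, hcen⟩ := MonsterFischer17.three_central S ha haz (P := PG) (by rw [has]; exact hPGL) hPGcard (y := yC)
    hyPG.1 hy1' hyPG.2
  -- an element normalising `Y` and moving `z` to `s`
  obtain ⟨q, hq, eq⟩ := S.lh.partner s hsQg hs0 hs1
  obtain ⟨g, hg⟩ := isConj_iff.mp hs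
  have Pr : LargeExtraspecialPair.Pair (Q.map (Subgroup.centralizer ({z} : Set G)).subtype)
      ((Q.map (Subgroup.centralizer ({z} : Set G)).subtype).map (MulAut.conj g).toMonoidHom) z s := by
    have := LargeExtraspecialPair.pair_of_conj S.lh (g := g) (by rw [hg]; exact hsQg)
      (by rw [hg]; exact hs1) (by rw [S.card]; norm_num)
    rwa [hg] at this
  obtain ⟨-, q', hq', eq'⟩ := Pr.exists_q
  set n := q * q' with hn'
  have hqz : q * z * q⁻¹ = z := mul_inv_eq_iff_eq_mul.mpr (S.lh.comm q hq)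
  have hq's : q' * s * q'⁻¹ = s := mul_inv_eq_iff_eq_mul.mpr (Pr.h'.comm q' hq')
  have hnz : n * z * n⁻¹ = s := by
    calc n * z * n⁻¹ = q * (q' * z * q'⁻¹) * q⁻¹ := by rw [hn']; group
      _ = q * (z * s) * q⁻¹ := by rw [eq']
      _ = (q * z * q⁻¹) * (q * s * q⁻¹) := by group
      _ = s := by rw [hqz, eq, S.lh.toExt.z_mul_z_mul]
  have hns : n * s * n⁻¹ = z * s := by
    calc n * s * n⁻¹ = q * (q' * s * q'⁻¹) * q⁻¹ := by rw [hn']; group
      _ = z * s := by rw [hq's, eq]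
  have hnL : ∀ x ∈ Subgroup.centralizer ({z, s} : Set G),
      n * x * n⁻¹ ∈ Subgroup.centralizer ({z, s} : Set G) := by
    intro x hx
    obtain ⟨h1, h2⟩ := (hL x).mp hx
    have c1 : Commute (n * x * n⁻¹) s := by
      rw [← hnz]; exact (show Commute x z from h1).map (MulAut.conj n).toMonoidHom
    have c2 : Commute (n * x * n⁻¹) (z * s) := by
      rw [← hns]; exact (show Commute x s from h2).map (MulAut.conj n).toMonoidHom
    refine (hL _).mpr ⟨?_, c1.eq⟩
    have := c2.mul_right c1.inv_right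
    rwa [mul_inv_cancel_right] at this
  set PG' := (PG.map (MulAut.conj n).toMonoidHom) with hPG'
  have hPG'L : PG' ≤ Subgroup.centralizer ({z, s} : Set G) := by
    rintro _ ⟨x, hx, rfl⟩
    exact hnL x (hLeq.symm ▸ hPGL hx)
  let P' : Sylow 3 ↥(Subgroup.centralizer ({z, s} : Set G)) := Sylow.ofCard (PG'.subgroupOf _) (by
    rw [hfac, Nat.card_congr (Subgroup.subgroupOfEquivOfLe hPG'L).toEquiv, hPG',
      ← Nat.card_congr (Subgroup.equivMapOfInjective PG _ (MulAut.conj n).injective).toEquiv, hPGcard]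
    norm_num)
  obtain ⟨l, hl⟩ := MulAction.exists_smul_eq ↥(Subgroup.centralizer ({z, s} : Set G)) P' P
  set m₀ := (l : G) * n with hm₀
  have hmem : ∀ x, x ∈ PG ↔ ∃ p ∈ PG, m₀ * p * m₀⁻¹ = x := by
    intro x
    constructor
    · rintro ⟨w, hw, rfl⟩
      have h1 : l⁻¹ * w * l ∈ (P' : Subgroup _) := by
        rw [← hl] at hw
        rwa [Sylow.coe_subgroup_smul, SetLike.mem_coe, Subgroup.mem_pointwise_smul_iff_inv_smul_mem, ← map_inv,
          MulAut.smul_def, MulAut.conj_apply, inv_inv] at hw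
      obtain ⟨p, hp, hpe⟩ := h1
      refine ⟨p, hp, ?_⟩
      have hpe' : n * p * n⁻¹ = (l : G)⁻¹ * (w : G) * (l : G) := hpe
      calc m₀ * p * m₀⁻¹ = (l : G) * (n * p * n⁻¹) * (l : G)⁻¹ := by rw [hm₀]; group
        _ = _ := by rw [hpe']; simp only [Subgroup.coe_subtype]; group
    · rintro ⟨p, hp, rfl⟩
      let v : ↥(Subgroup.centralizer ({z, s} : Set G)) := ⟨n * p * n⁻¹, hnL p (hLeq.symm ▸ hPGL hp)⟩
      have hv : v ∈ (P' : Subgroup _) := ⟨p, hp, rfl⟩
      refine ⟨l * v * l⁻¹, ?_, ?_⟩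
      · rw [← hl, SetLike.mem_coe, Sylow.coe_subgroup_smul]
        exact Subgroup.smul_mem_pointwise_smul _ (MulAut.conj l) _ hv
      · show (l : G) * (n * p * n⁻¹) * (l : G)⁻¹ = _
        rw [hm₀]; group
  have hconj : m₀ * y * m₀⁻¹ ∈ Subgroup.zpowers y := by
    refine hcen _ ((hmem _).mpr ⟨y, hyPG.1, rfl⟩) fun p hp => ?_
    obtain ⟨p', hp', rfl⟩ := (hmem p).mp hp
    exact (show Commute p' y from hyPG.2 p' hp').map (MulAut.conj m₀).toMonoidHom
  set m := m₀ * m₀ with hm
  have hmy : m * y = y * m := by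
    obtain ⟨k, hk⟩ := Subgroup.mem_zpowers_iff.mp hconj
    have h2 : m * y * m⁻¹ = y ^ (k * k) := by
      calc m * y * m⁻¹ = m₀ * (m₀ * y * m₀⁻¹) * m₀⁻¹ := by rw [hm]; group
        _ = (m₀ * y * m₀⁻¹) ^ k := by rw [conj_zpow, hk]
        _ = y ^ (k * k) := by rw [← hk, ← zpow_mul]
    have hk3 : ¬ (3 : ℤ) ∣ k := by
      rintro ⟨j, rfl⟩
      rw [zpow_mul, show y ^ (3 : ℤ) = y ^ 3 from zpow_natCast y 3, hy3, one_zpow] at hk
      exact hy1' (conj_eq_one_iff.mp hk.symm)
    have hkk : k * k ≡ 1 [ZMOD ((3 : ℕ) : ℤ)] := by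
      rw [Int.ModEq]
      have : k % 3 = 1 ∨ k % 3 = 2 := by omega
      push_cast
      rw [Int.mul_emod]
      rcases this with h | h <;> rw [h] <;> norm_num
    rw [← hoy] at hkk
    exact mul_inv_eq_iff_eq_mul.mp (h2.trans ((zpow_eq_zpow_iff_modEq.mpr hkk).trans (zpow_one y)))
  obtain ⟨hlz, hls⟩ := (hL _).mp l.2
  have h0z : m₀ * z * m₀⁻¹ = s := by
    calc m₀ * z * m₀⁻¹ = (l : G) * (n * z * n⁻¹) * (l : G)⁻¹ := by rw [hm₀]; group
      _ = s := by rw [hnz]; exact mul_inv_eq_iff_eq_mul.mpr hls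
  have h0s : m₀ * s * m₀⁻¹ = z * s := by
    calc m₀ * s * m₀⁻¹ = (l : G) * (n * s * n⁻¹) * (l : G)⁻¹ := by rw [hm₀]; group
      _ = ((l : G) * z * (l : G)⁻¹) * ((l : G) * s * (l : G)⁻¹) := by rw [hns]; group
      _ = z * s := by rw [mul_inv_eq_iff_eq_mul.mpr hlz, mul_inv_eq_iff_eq_mul.mpr hls]
  have hmz : m * z * m⁻¹ = z * s := by
    calc m * z * m⁻¹ = m₀ * (m₀ * z * m₀⁻¹) * m₀⁻¹ := by rw [hm]; group
      _ = _ := by rw [h0z, h0s]
  have hzsQ : m * z * m⁻¹ ∈ Q.map (Subgroup.centralizer ({z} : Set G)).subtype := by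
    rw [hmz]; exact mul_mem S.lh.mem hsQg
  have hzs1 : m * z * m⁻¹ ≠ z := by
    rw [hmz]; exact fun h => hs0 (mul_eq_left.mp h)
  obtain ⟨h1, h2⟩ := (hL y).mp (hY hyY)
  have S2 := S.twist σ⁻¹
  have hphi : ∀ x : Co0, MonsterLocal.phi (e₁.trans (MulAut.conj (QuotientGroup.mk σ⁻¹ : Spor.Co1))) x =
      MonsterLocal.phi e₁ (σ * x * σ⁻¹) := by
    intro x
    simp only [MonsterLocal.phi, MonoidHom.comp_apply, MulEquiv.coe_toMonoidHom, QuotientGroup.mk'_apply]
    rw [MulEquiv.symm_apply_eq, MulEquiv.trans_apply, MulEquiv.apply_symm_apply, MulAut.conj_apply,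
      ← QuotientGroup.mk_inv, ← QuotientGroup.mk_mul, ← QuotientGroup.mk_mul]
    exact congrArg QuotientGroup.mk (by group)
  rcases hor with hor | hor
  · exact MonsterFischer17.large S2 (a := a) (y := yC) (by rw [hphi]; exact hor) hy3 (by rw [has]; exact h2) haz
      hmy hzsQ hzs1 hYy
  · refine MonsterFischer17.large S2 (a := a) (y := yC⁻¹) (by rw [hphi]; exact hor) ?_ ?_ haz ?_ hzsQ hzs1 ?_
    · show y⁻¹ ^ 3 = 1
      rw [inv_pow, hy3, inv_one]
    · rw [has]; exact (show Commute y s from h2).inv_left.eq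
    · exact (show Commute m y from hmy).inv_right.eq
    · show Y = Subgroup.zpowers y⁻¹
      rw [hYy, Subgroup.zpowers_inv]

end Cfsg.Agent.S5415
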