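import Cfsg.Statements.S5416
import Cfsg.Agent.Lib.MonsterHeld71

set_option autoImplicit false
open Cfsg Cfsg.Agent

namespace Cfsg.Agent.S5416

/-- Let G be a finite group of Monster type at the involution z with Q the extraspecial normal subgroup of order 2^25 of C = C_G(z) (so C/Q is identified with the first Conway group with Q modulo its centre the Leech lattice modulo 2, and z is not weakly closed in Q). Let s be a conjugate of z in Q other than z and let B be a Sylow 7-subgroup of the joint centralizer of z and s. Then the centralizer of B modulo B is a group of Held type (an involution whose centralizer D has generalized Fitting subgroup R extraspecial of order 2^7 with D/R isomorphic to SL(3, 2), exactly 29 of its conjugates lying in R, and the involution not weakly closed in R). -/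
theorem result {G : Type*} [Group G] [Finite G] (z : G) (Q : Subgroup (Subgroup.centralizer ({z} : Set G))) [Q.Normal] (hM : Cfsg.IsOfMonsterType z Q) (s : G) (hsQ : ∃ hsc : s ∈ Subgroup.centralizer ({z} : Set G), (⟨s, hsc⟩ : Subgroup.centralizer ({z} : Set G)) ∈ Q) (hs : IsConj z s) (hs1 : s ≠ z) (B : Subgroup G) (hB : B ≤ Subgroup.centralizer ({z, s} : Set G)) (hBp : Nat.card B = 7 ^ (Nat.card ↥(Subgroup.centralizer ({z, s} : Set G))).factorization 7) [hn : (B.subgroupOf (Subgroup.centralizer (B : Set G))).Normal] : Cfsg.IsOfHeldType (↥(Subgroup.centralizer (B : Set G)) ⧸ B.subgroupOf (Subgroup.centralizer (B : Set G))) := by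
  haveI := Fact.mk (show (7 : ℕ).Prime by norm_num)
  obtain ⟨-, e, ψ, hψ⟩ := id hM
  have S := MonsterLocal.setup_of hM hψ
  obtain ⟨hsc, hsq⟩ := hsQ
  have hB7 : Nat.card B = 7 := by
    rw [hBp, MonsterSeven71.factorization_seven S (a := ⟨⟨s, hsc⟩, hsq⟩) hs hs1, pow_one]
  haveI : IsCyclic B := isCyclic_of_prime_card hB7
  obtain ⟨⟨x, hxB⟩, hgen⟩ := IsCyclic.exists_generator (α := B)
  have hBx : B = Subgroup.zpowers x := le_antisymm (fun b hb => by
    obtain ⟨n, hn⟩ := hgen ⟨b, hb⟩
    exact ⟨n, by simpa using congrArg Subtype.val hn⟩) (Subgroup.zpowers_le.mpr hxB)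
  have hx := Subgroup.mem_centralizer_iff.mp (hB hxB)
  have A : MonsterSeven71.Axis Q x :=
    ⟨by rw [← Nat.card_zpowers, ← hBx, hB7], (hx z (by simp)).symm, s, ⟨⟨s, hsc⟩, hsq, rfl⟩, hs, hs1,
      (hx s (by simp)).symm⟩
  obtain ⟨e', ψ', x₀, S', X, hx₀, -⟩ := A.exists_std S
  refine MonsterSeven71.held S' X ⟨X.ord, MonsterSeven71.Std.cz S' X, s, ⟨⟨s, hsc⟩, hsq, rfl⟩, hs, hs1,
    ((MonsterSeven71.commute_iff' hx₀ s).mpr (hx s (by simp)).symm).eq⟩ _ B (fun g => ?_) (hBx.trans hx₀.symm)
  rw [hBx, ← hx₀]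
  exact MonsterSeven71.centralizer_zpowers_eq x₀ g

end Cfsg.Agent.S5416
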