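import Cfsg.Statements.S5418
import Cfsg.Agent.Lib.MonsterSevenLayer71

set_option autoImplicit false
open Cfsg Cfsg.Agent

namespace Cfsg.Agent.S5418

/-- Let G be a finite group of Monster type at the involution z with Q the extraspecial normal subgroup of order 2^25 of C = C_G(z) (so C/Q is identified with the first Conway group with Q modulo its centre the Leech lattice modulo 2, and z is not weakly closed in Q). Let s be a conjugate of z in Q other than z and let B be a Sylow 7-subgroup of the joint centralizer of z and s. Then the centralizer of B has index 6 in the normalizer of B; and some involution inverting B induces, by conjugation, a non-inner automorphism of the layer of the centralizer of B. -/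
theorem result {G : Type*} [Group G] [Finite G] (z : G) (Q : Subgroup (Subgroup.centralizer ({z} : Set G))) [Q.Normal] (hM : Cfsg.IsOfMonsterType z Q) (s : G) (hsQ : ∃ hsc : s ∈ Subgroup.centralizer ({z} : Set G), (⟨s, hsc⟩ : Subgroup.centralizer ({z} : Set G)) ∈ Q) (hs : IsConj z s) (hs1 : s ≠ z) (B : Subgroup G) (hB : B ≤ Subgroup.centralizer ({z, s} : Set G)) (hBp : Nat.card B = 7 ^ (Nat.card ↥(Subgroup.centralizer ({z, s} : Set G))).factorization 7) : (Subgroup.centralizer (B : Set G)).relIndex (Subgroup.normalizer (B : Set G)) = 6 ∧ ∃ t : G, orderOf t = 2 ∧ (∀ b ∈ B, t * b * t⁻¹ = b⁻¹) ∧ (∀ x ∈ (Cfsg.layer ↥(Subgroup.centralizer (B : Set G))).map (Subgroup.centralizer (B : Set G)).subtype, t * x * t⁻¹ ∈ (Cfsg.layer ↥(Subgroup.centralizer (B : Set G))).map (Subgroup.centralizer (B : Set G)).subtype) ∧ ¬ ∃ l ∈ (Cfsg.layer ↥(Subgroup.centralizer (B : Set G))).map (Subgroup.centralizer (B : Set G)).subtype, ∀ x ∈ (Cfsg.layer ↥(Subgroup.centralizer (B : Set G))).map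 (Subgroup.centralizer (B : Set G)).subtype, t * x * t⁻¹ = l * x * l⁻¹ := by
  haveI := Fact.mk (show (7 : ℕ).Prime by norm_num)
  obtain ⟨-, e, ψ, hψ⟩ := id hM
  have S := MonsterLocal.setup_of hM hψ
  obtain ⟨hsc, hsq⟩ := hsQ
  have hB7 : Nat.card B = 7 := by
    rw [hBp, MonsterSeven71.factorization_seven S (a := ⟨⟨s, hsc⟩, hsq⟩) hs hs1, pow_one]
  have hBle : ∀ b ∈ B, b * z = z * b ∧ b * s = s * b := fun b hb => by
    have h := Subgroup.mem_centralizer_iff.mp (hB hb)
    exact ⟨(h z (by simp)).symm, (h s (by simp)).symm⟩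
  haveI : IsCyclic B := isCyclic_of_prime_card hB7
  obtain ⟨⟨x, hxB⟩, hgen⟩ := IsCyclic.exists_generator (α := B)
  have hBx : B = Subgroup.zpowers x := le_antisymm (fun b hb => by
    obtain ⟨n, hn⟩ := hgen ⟨b, hb⟩
    exact ⟨n, by simpa using congrArg Subtype.val hn⟩) (Subgroup.zpowers_le.mpr hxB)
  have A : MonsterSeven71.Axis Q x :=
    ⟨by rw [← Nat.card_zpowers, ← hBx, hB7], (hBle x hxB).1, s, ⟨⟨s, hsc⟩, hsq, rfl⟩, hs, hs1, (hBle x hxB).2⟩
  obtain ⟨e', ψ', x₀, S', X, hx, -⟩ := A.exists_std S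
  have hB0 : B = Subgroup.zpowers x₀ := hBx.trans hx.symm
  refine ⟨?_, ?_⟩
  · rw [hB0]; exact MonsterSeven71.index_six S' X
  obtain ⟨t, ht2, ht⟩ := MonsterSeven71.exists_involution S' X
  have hinv : ∀ b ∈ B, t * b * t⁻¹ = b⁻¹ := fun b hb => by
    rw [hB0] at hb
    obtain ⟨n, rfl⟩ := hb
    show MulAut.conj t (x₀ ^ n) = (x₀ ^ n)⁻¹
    rw [map_zpow, MulAut.conj_apply, ht, inv_zpow]
  have hX : ∀ g, g ∈ Subgroup.centralizer (B : Set G) ↔ Commute g x := fun g => by
    rw [hBx]; exact MonsterSeven71.centralizer_zpowers_eq x g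
  have htx : t * x = x⁻¹ * t := by rw [← hinv x hxB]; group
  refine ⟨t, ht2, hinv, ?_, A.outer S _ hX htx⟩
  -- conjugation by `t` preserves the layer
  have htn : ∀ g, g ∈ Subgroup.centralizer (B : Set G) → t * g * t⁻¹ ∈ Subgroup.centralizer (B : Set G) := by
    intro g hg
    rw [hX] at hg ⊢
    have h := hg.inv_right.map (MulAut.conj t).toMonoidHom
    simp only [MulEquiv.coe_toMonoidHom, MulAut.conj_apply] at h
    rwa [show t * x⁻¹ * t⁻¹ = x by rw [hinv x⁻¹ (inv_mem hxB), inv_inv]] at h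
  have htt : t * t = 1 := by rw [← pow_two, ← ht2]; exact pow_orderOf_eq_one t
  have hinvol : ∀ g : G, t * (t * g * t⁻¹) * t⁻¹ = g := fun g => by
    calc t * (t * g * t⁻¹) * t⁻¹ = (t * t) * g * (t * t)⁻¹ := by group
      _ = g := by rw [htt]; group
  let φ : Subgroup.centralizer (B : Set G) ≃* Subgroup.centralizer (B : Set G) :=
    { toFun := fun g => ⟨t * g * t⁻¹, htn g g.2⟩
      invFun := fun g => ⟨t * g * t⁻¹, htn g g.2⟩
      left_inv := fun g => Subtype.ext (hinvol g)
      right_inv := fun g => Subtype.ext (hinvol g)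
      map_mul' := fun a b => Subtype.ext (by
        show t * ((a : G) * b) * t⁻¹ = t * a * t⁻¹ * (t * b * t⁻¹)
        group) }
  rintro _ ⟨g, hg, rfl⟩
  exact ⟨φ g, (ComponentsBasic.layer_map_mulEquiv φ) ▸ Subgroup.mem_map_of_mem _ hg, rfl⟩

end Cfsg.Agent.S5418
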