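import Cfsg.Statements.S5421
import Cfsg.Agent.Lib.LargeExtraspecial
import Cfsg.Agent.Lib.HallCore
-- import your own Cfsg.Agent.* helpers here

set_option autoImplicit false
open Cfsg

namespace Cfsg.Agent.S5421

/-- Let Q be an extraspecial 2-subgroup of the finite group G whose centralizer in G is its centre Z and which is normal in the centralizer of Z. If some involution b of Q outside Z has Z inside the largest normal 2-subgroup of the centralizer of b, then Q is a large extraspecial 2-subgroup of G. -/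
theorem result {G : Type*} [Group G] [Finite G] (Q : Subgroup G) (hL1 : Cfsg.IsExtraspecial 2 ↥Q) (hL2 : Subgroup.centralizer (Q : Set G) = ((Subgroup.center ↥Q).map Q.subtype)) (hL3 : Subgroup.centralizer (((Subgroup.center ↥Q).map Q.subtype) : Set G) ≤ Subgroup.normalizer (Q : Set G)) (b : G) (hbQ : b ∈ Q) (hbZ : b ∉ ((Subgroup.center ↥Q).map Q.subtype)) (hb : orderOf b = 2) (hZ : ((Subgroup.center ↥Q).map Q.subtype) ≤ (Cfsg.pCore 2 ↥(Subgroup.centralizer ({b} : Set G))).map (Subgroup.centralizer ({b} : Set G)).subtype) : Cfsg.IsLargeExtraspecial Q := by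
  obtain ⟨z, h, he⟩ := Cfsg.Agent.LargeExtraspecial.exists_lhyp hL1 hL2 hL3
  have hzP := hZ (he ▸ Subgroup.mem_zpowers z)
  have hb1 : b ≠ 1 := fun e => by simp [e] at hb
  have hbz : b ≠ z := fun e => hbZ (he ▸ e ▸ Subgroup.mem_zpowers z)
  have hbb : b * b = 1 := by rw [← pow_two, ← hb, pow_orderOf_eq_one]
  refine h.isLarge_of_involution hbQ hb1 hbz hbb
    (P := (Cfsg.pCore 2 ↥(Subgroup.centralizer ({b} : Set G))).map
      (Subgroup.centralizer ({b} : Set G)).subtype)
    ((Cfsg.Agent.HallCore.isPGroup_pCore 2 _).map _) hzP fun c hc => ?_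
  obtain ⟨w, hw, hwz⟩ := hzP
  refine ⟨⟨c, Subgroup.mem_centralizer_singleton_iff.mpr hc⟩ * w *
    ⟨c, Subgroup.mem_centralizer_singleton_iff.mpr hc⟩⁻¹,
    (Cfsg.Agent.HallCore.pCore_normal 2 _).conj_mem w hw _, ?_⟩
  simp [← hwz]

end Cfsg.Agent.S5421
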