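import Cfsg.Statements.S5422
import Cfsg.Agent.Lib.LargeExtraspecial
-- import your own Cfsg.Agent.* helpers here

set_option autoImplicit false
open Cfsg

namespace Cfsg.Agent.S5422

open Subgroup in
/-- A group with two elements `z, z'` and the four group they generate: the automizer has order 6. -/
theorem relIndex_eq_six {G : Type*} [Group G] [Finite G] (z z' : G) (hz : z * z = 1) (hz' : z' * z' = 1)
    (hne : z' ≠ z) (hz1 : z ≠ 1) (hz'1 : z' ≠ 1) (hc : z' * z = z * z')
    (r r' : G) (hr : r * z * r⁻¹ = z) (hr2 : r * z' * r⁻¹ = z * z')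
    (hr' : r' * z' * r'⁻¹ = z') (hr2' : r' * z * r'⁻¹ = z * z') (V : Subgroup G)
    (hV : V = zpowers z ⊔ zpowers z') :
    (centralizer (V : Set G)).relIndex (normalizer (V : Set G)) = 6 := by
  classical
  have hc' : z * z' = z' * z := hc.symm
  have hzi : z⁻¹ = z := inv_eq_of_mul_eq_one_right hz
  have hz'i : z'⁻¹ = z' := inv_eq_of_mul_eq_one_right hz'
  have e1 : z * (z * z') = z' := by rw [← mul_assoc, hz, one_mul]
  have e2 : z' * (z * z') = z := by rw [hc', ← mul_assoc, hz', one_mul]
  have e3 : z * z' * z = z' := by rw [hc', mul_assoc, hz, mul_one]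
  have e4 : z * z' * z' = z := by rw [mul_assoc, hz', mul_one]
  let W : Subgroup G :=
    { carrier := {x | x = 1 ∨ x = z ∨ x = z' ∨ x = z * z'}
      one_mem' := Or.inl rfl
      mul_mem' := by
        intro a b ha hb
        simp only [Set.mem_setOf_eq] at *
        rcases ha with rfl | rfl | rfl | rfl <;> rcases hb with rfl | rfl | rfl | rfl <;>
          simp [hz, hz', hc, e1, e2, e3, e4] <;> simp [← mul_assoc, hz, hz', e3, e4]
      inv_mem' := by
        intro a ha
        simp only [Set.mem_setOf_eq] at *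
        rcases ha with rfl | rfl | rfl | rfl <;> simp [hzi, hz'i, hc] }
  have hVW : ∀ x, x ∈ V ↔ x = 1 ∨ x = z ∨ x = z' ∨ x = z * z' := by
    intro x
    constructor
    · intro hx
      exact (show V ≤ W by
        rw [hV]; exact sup_le (zpowers_le.mpr (Or.inr (Or.inl rfl)))
          (zpowers_le.mpr (Or.inr (Or.inr (Or.inl rfl))))) hx
    · rw [hV]
      rintro (rfl | rfl | rfl | rfl)
      · exact one_mem _
      · exact mem_sup_left (mem_zpowers _)
      · exact mem_sup_right (mem_zpowers _)
      · exact mul_mem (mem_sup_left (mem_zpowers _)) (mem_sup_right (mem_zpowers _))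
  have hzz'1 : z * z' ≠ 1 := fun e => hne ((eq_inv_of_mul_eq_one_right e).trans hzi)
  have hzz'z : z * z' ≠ z := fun e => hz'1 (mul_eq_left.mp e)
  have hzz'z' : z * z' ≠ z' := fun e => hz1 (mul_eq_right.mp e)
  let T : Type _ := {x : G // x = z ∨ x = z' ∨ x = z * z'}
  have hT : Nat.card T = 3 := by
    have : Nat.card T = ({z, z', z * z'} : Set G).ncard := by
      rw [← Nat.card_coe_set_eq]
      exact Nat.card_congr (Equiv.subtypeEquivRight fun x => by simp)
    rw [this, Set.ncard_insert_of_notMem (by simp [hne.symm, hzz'z.symm]),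
      Set.ncard_pair hzz'z'.symm]
  haveI : Fintype T := Fintype.ofFinite T
  have hmem : ∀ g ∈ normalizer (V : Set G), ∀ x : G,
      (x = z ∨ x = z' ∨ x = z * z') ↔
        ((MulAut.conj g) x = z ∨ (MulAut.conj g) x = z' ∨ (MulAut.conj g) x = z * z') := by
    intro g hg x
    have key : ∀ y, (y ∈ V ∧ y ≠ 1) ↔ (y = z ∨ y = z' ∨ y = z * z') := by
      intro y
      rw [hVW]
      constructor
      · rintro ⟨h1 | h1, h2⟩
        · exact absurd h1 h2
        · exact h1
      · intro h1
        refine ⟨Or.inr h1, ?_⟩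
        rcases h1 with rfl | rfl | rfl <;> assumption
    rw [← key, ← key, MulAut.conj_apply]
    exact and_congr (mem_normalizer_iff.mp hg x) (not_congr conj_eq_one_iff.symm)
  let f : normalizer (V : Set G) →* Equiv.Perm T :=
    { toFun := fun g => Equiv.Perm.subtypePerm (MulAut.conj (g : G)).toEquiv (fun x => (hmem g g.2 x).symm)
      map_one' := by ext x; simp
      map_mul' := fun a b => by ext x; simp [mul_assoc] }
  have hker : f.ker = (centralizer (V : Set G)).subgroupOf (normalizer (V : Set G)) := by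
    ext g
    rw [MonoidHom.mem_ker, mem_subgroupOf, mem_centralizer_iff]
    constructor
    · intro hg x hx
      rcases (hVW x).mp hx with e | e
      · simp [e]
      · have : (g : G) * x * (g : G)⁻¹ = x :=
          congrArg Subtype.val (DFunLike.congr_fun hg (⟨x, e⟩ : T))
        exact (mul_inv_eq_iff_eq_mul.mp this).symm
    · intro hg
      refine Equiv.ext fun x => Subtype.ext ?_
      show (g : G) * x * (g : G)⁻¹ = x
      rw [← hg x ((hVW x).mpr (Or.inr x.2)), mul_inv_cancel_right]
  have hN : ∀ s : G, (∀ x ∈ V, s * x * s⁻¹ ∈ V) → s ∈ normalizer (V : Set G) :=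
    fun s hs => mem_normalizer_fintype hs
  have hcmul : ∀ s a b : G, s * (a * b) * s⁻¹ = (s * a * s⁻¹) * (s * b * s⁻¹) :=
    fun s a b => by group
  have hrN : r ∈ normalizer (V : Set G) := hN r fun x hx => by
    rw [hVW] at hx ⊢
    rcases hx with rfl | rfl | rfl | rfl <;> simp [hr, hr2, hcmul, e1]
  have hr'N : r' ∈ normalizer (V : Set G) := hN r' fun x hx => by
    rw [hVW] at hx ⊢
    rcases hx with rfl | rfl | rfl | rfl <;> simp [hr', hr2', hcmul, e4]
  let a := f ⟨r, hrN⟩
  let b := f ⟨r', hr'N⟩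
  let zT : T := ⟨z, Or.inl rfl⟩
  let wT : T := ⟨z', Or.inr (Or.inl rfl)⟩
  let uT : T := ⟨z * z', Or.inr (Or.inr rfl)⟩
  have haz : a zT = zT := Subtype.ext hr
  have haw : a wT = uT := Subtype.ext hr2
  have hbw : b wT = wT := Subtype.ext hr'
  have hbz : b zT = uT := Subtype.ext hr2'
  have hzw : zT ≠ wT := fun e => hne (congrArg Subtype.val e).symm
  have huz : uT ≠ zT := fun e => hzz'z (congrArg Subtype.val e)
  have huw : uT ≠ wT := fun e => hzz'z' (congrArg Subtype.val e)
  have ha : a ≠ 1 := fun e => huw (by rw [e] at haw; exact haw.symm)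
  have hb : b ≠ 1 := fun e => huz (by rw [e] at hbz; exact hbz.symm)
  have hab : a ≠ b := fun e => huz (by rw [← e, haz] at hbz; exact hbz.symm)
  have hau : a uT = wT := Subtype.ext (by
    show r * (z * z') * r⁻¹ = z'
    rw [hcmul, hr, hr2, e1])
  have hab1 : a * b ≠ 1 := by
    intro e
    have := DFunLike.congr_fun e zT
    rw [Equiv.Perm.mul_apply, hbz, hau, Equiv.Perm.one_apply] at this
    exact hzw this.symm
  have haba : a * b ≠ a := fun e => hb (mul_eq_left.mp e)
  have habb : a * b ≠ b := fun e => ha (mul_eq_right.mp e)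
  have h4 : 4 ≤ Nat.card f.range := by
    have hsub : ({1, a, b, a * b} : Set (Equiv.Perm T)) ⊆ f.range := by
      have ha' : a ∈ f.range := ⟨_, rfl⟩
      have hb' : b ∈ f.range := ⟨_, rfl⟩
      intro x hx
      rcases hx with rfl | rfl | rfl | rfl
      · exact one_mem _
      · exact ha'
      · exact hb'
      · exact mul_mem ha' hb'
    have hn : ({1, a, b, a * b} : Set (Equiv.Perm T)).ncard = 4 := by
      rw [Set.ncard_insert_of_notMem (by simp [ha.symm, hb.symm, hab1.symm]),
        Set.ncard_insert_of_notMem (by simp [hab, haba.symm]), Set.ncard_pair habb.symm]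
    rw [← hn, ← SetLike.coe_sort_coe, Nat.card_coe_set_eq]
    exact Set.ncard_le_ncard hsub (Set.toFinite _)
  have hdvd : Nat.card f.range ∣ 6 := by
    have := Subgroup.card_subgroup_dvd_card f.range
    rwa [Nat.card_perm, hT] at this
  have h6 : Nat.card f.range = 6 := by
    have hle := Nat.le_of_dvd (by norm_num) hdvd
    interval_cases (Nat.card f.range) <;> norm_num at hdvd <;> rfl
  rw [relIndex, ← hker, index_ker]
  exact h6

/-- Let Q be an extraspecial 2-subgroup of the finite group G whose centralizer in G is its centre Z and which is normal in the centralizer of Z; suppose Q has width at least 2 (order 2^(2w+1) with w ≥ 2) and g is an element of G not normalizing Z with g Z g⁻¹ inside Q. Then Z lies inside g Q g⁻¹; writing V for the subgroup generated by Z and g Z g⁻¹ (a four-group), the normalizer of V induces on V its full automorphism group, that is, the centralizer of V has index 6 in the normalizer of V; and Q is a large extraspecial 2-subgroup of G. -/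
theorem result {G : Type*} [Group G] [Finite G] (Q : Subgroup G) (hL1 : Cfsg.IsExtraspecial 2 ↥Q) (hL2 : Subgroup.centralizer (Q : Set G) = ((Subgroup.center ↥Q).map Q.subtype)) (hL3 : Subgroup.centralizer (((Subgroup.center ↥Q).map Q.subtype) : Set G) ≤ Subgroup.normalizer (Q : Set G)) (w : ℕ) (hw : 2 ≤ w) (hcard : Nat.card ↥Q = 2 ^ (2 * w + 1)) (g : G) (hg : g ∉ Subgroup.normalizer (((Subgroup.center ↥Q).map Q.subtype) : Set G)) (hZg : (((Subgroup.center ↥Q).map Q.subtype)).map (MulAut.conj g).toMonoidHom ≤ Q) : ((Subgroup.center ↥Q).map Q.subtype) ≤ (Q).map (MulAut.conj g).toMonoidHom ∧ (Subgroup.centralizer ((((Subgroup.center ↥Q).map Q.subtype) ⊔ (((Subgroup.center ↥Q).map Q.subtype)).map (MulAut.conj g).toMonoidHom : Subgroup G) : Set G)).relIndex (Subgroup.normalizer ((((Subgroup.center ↥Q).map Q.subtype) ⊔ (((Subgroup.center ↥Q).map Q.subtype)).map (MulAut.conj g).toMonoidHom : Subgroup G) : Set G)) = 6 ∧ Cfsg.IsLargeExtraspecial Q := by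
  obtain ⟨z, h, he⟩ := Cfsg.Agent.LargeExtraspecial.exists_lhyp hL1 hL2 hL3
  have h32 : 32 ≤ Nat.card Q := by
    rw [hcard]
    exact le_trans (by norm_num : 32 ≤ 2 ^ 5) (Nat.pow_le_pow_right (by norm_num) (by omega))
  set z' := g * z * g⁻¹ with hz'
  rw [he] at hg hZg ⊢
  rw [MonoidHom.map_zpowers] at hZg ⊢
  simp only [MulEquiv.coe_toMonoidHom, MulAut.conj_apply, ← hz'] at hZg ⊢
  have hgQ : z' ∈ Q := hZg (Subgroup.mem_zpowers z')
  have hgz : z' ≠ z := by
    intro e
    apply hg
    refine Subgroup.mem_normalizer_fintype fun x hx => ?_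
    have hgc : g * z * g⁻¹ = z := e
    rcases h.eq_of_mem_zpowers hx with e' | e' <;> simp [e', hgc, Subgroup.mem_zpowers z]
  have hmem := h.z_mem_conj hgQ hgz h32
  refine ⟨Subgroup.zpowers_le.mpr hmem, ?_, h.isLarge_of_conj hgQ hgz h32⟩
  have h' := h.map_conj g
  obtain ⟨r, hr, er⟩ := h.partner z' hgQ h'.ne_one hgz
  obtain ⟨r', hr', er'⟩ := h'.partner z hmem h.ne_one hgz.symm
  have hc : z' * z = z * z' := h.comm z' hgQ
  exact relIndex_eq_six z z' h.zz h'.zz hgz h.ne_one h'.ne_one hc r r'
    (mul_inv_eq_iff_eq_mul.mpr (h.comm r hr)) er (mul_inv_eq_iff_eq_mul.mpr (h'.comm r' hr'))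
    (er'.trans hc) _ rfl

end Cfsg.Agent.S5422
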