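import Cfsg.Statements.S5425
import Cfsg.Agent.Lib.GolayOctadStab
import Cfsg.Agent.Lib.LargeExtraspecialAffineInst

set_option autoImplicit false
open Cfsg

namespace Cfsg.Agent.S5425

/-- In the Mathieu group of degree 24 (the automorphism group of the length-24 binary Golay code, acting on the 24 coordinates), let z be an involution whose fixed points form an octad (the support of a code word of weight 8), and let Q be the largest normal 2-subgroup of the centralizer C of z. Then Q is extraspecial of order 2^7 with an elementary abelian subgroup of order 16 (plus type), Q is a large extraspecial 2-subgroup, and C is the split extension of Q by the special linear group of degree 3 over the field with two elements. -/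
theorem result (z : ↥Cfsg.M24) (hz : orderOf z = 2) (hfix : (Finset.univ.filter fun p : Cfsg.GolayPt => (z : Equiv.Perm Cfsg.GolayPt) p = p) ∈ Cfsg.octads) (Q : Subgroup ↥Cfsg.M24) (hQ : Q = (Cfsg.pCore 2 ↥(Subgroup.centralizer ({z} : Set ↥Cfsg.M24))).map (Subgroup.centralizer ({z} : Set ↥Cfsg.M24)).subtype) : Cfsg.IsExtraspecial 2 ↥Q ∧ Nat.card ↥Q = 2 ^ 7 ∧ (∃ E : Subgroup ↥Cfsg.M24, E ≤ Q ∧ Cfsg.IsElementaryAbelian 2 E ∧ Nat.card ↥E = 2 ^ 4) ∧ Cfsg.IsLargeExtraspecial Q ∧ ∃ K : Subgroup ↥Cfsg.M24, K ≤ Subgroup.centralizer ({z} : Set ↥Cfsg.M24) ∧ Q ⊓ K = ⊥ ∧ Q ⊔ K = Subgroup.centralizer ({z} : Set ↥Cfsg.M24) ∧ Nonempty (↥K ≃* Matrix.SpecialLinearGroup (Fin 3) (ZMod 2)) := by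
  classical
  have hz1 : z ≠ 1 := fun e => by rw [e, orderOf_one] at hz; omega
  have hzp := GolayOctadStab.mem_pfix_of_filter rfl (z := z)
  set o := Finset.univ.filter fun p : Cfsg.GolayPt => (z : Equiv.Perm Cfsg.GolayPt) p = p with ho
  obtain ⟨φ, hφ, hφz, hrange, hcol⟩ := GolayOctadStab.exists_embedding hfix hzp hz1
  obtain ⟨hQe, hcard, hE, K, hK1, hK2, hK3, ⟨eK⟩⟩ :=
    LargeExtraspecialAffine.structure_of_model φ hφ z hrange Q hQ
  have L := LargeExtraspecialAffine.lhyp φ hφ z hφz hrange (by norm_num)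
  rw [← hQe] at L
  obtain ⟨x, hx, h1, h2⟩ := L.big
  set b : LargeExtraspecialAffine.Pb 3 := ⟨0, 0, 1, Pi.single 0 1⟩ with hb
  have hbQ : φ b ∈ Q := hQe ▸ ⟨b, LargeExtraspecialAffine.mem_rad.mpr rfl, rfl⟩
  have hbne : b ≠ 1 ∧ b ≠ LargeExtraspecialAffine.zP 3 := by
    constructor <;> intro e <;> have := congrFun (congrArg LargeExtraspecialAffine.Pb.col e) 0 <;>
      simp [hb, LargeExtraspecialAffine.one_col, LargeExtraspecialAffine.zP] at this
  have hbP : φ b ∈ GolayOctadStab.pfix o := hcol b ⟨rfl, rfl⟩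
  have hb1 : φ b ≠ 1 := by rw [ne_eq, map_eq_one_iff _ hφ]; exact hbne.1
  have h2P : IsPGroup 2 (GolayOctadStab.pfix o) := fun g => ⟨1, by
    rw [pow_one]; exact Subtype.ext ((GolayOctadStab.isElementaryAbelian_pfix hfix).2 g g.2)⟩
  refine ⟨L.toExt.isExtraspecial hx h1 h2, hcard, hE, ?_, K, hK1, hK2, hK3, ⟨eK.trans
    (MulEquiv.ofBijective Matrix.SpecialLinearGroup.toGL
      ⟨Matrix.SpecialLinearGroup.toGL_injective, fun A => ⟨⟨A, ?_⟩, Units.ext rfl⟩⟩).symm⟩⟩
  · refine L.isLarge_of_involution hbQ hb1 (by rw [← hφz]; exact hφ.ne hbne.2)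
      (GolayOctadStab.pfix_sq hfix hbP) h2P hzp fun c hc => ?_
    exact GolayOctadStab.pfix_conj (GolayOctadStab.mem_soct_of_commute hfix hbP hb1 hc) hzp
  · exact LargeExtraspecialAffine.det_eq_one
      (N := ((A⁻¹ : GL (Fin 3) (ZMod 2)) : Matrix (Fin 3) (Fin 3) (ZMod 2))) A.mul_inv

end Cfsg.Agent.S5425
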