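import Cfsg.Statements.S5426
import Cfsg.Agent.Lib.LargeExtraspecialStructure

set_option autoImplicit false
open Cfsg

namespace Cfsg.Agent.S5426

/-- Let Q be a large extraspecial 2-subgroup of the finite group G (extraspecial; centralizer equal to its centre; normal in the centralizer of its centre; normalizing no non-trivial subgroup of odd order) with centre generated by z, and let M be the normal closure of z in G. Then one of the following holds: Q is normal in G; or M is abelian and the generalized Fitting subgroup of G is its largest normal 2-subgroup; or M is the generalized Fitting subgroup of G and is a non-abelian simple group; or M is the generalized Fitting subgroup of G and is the direct product of a non-abelian simple subgroup L and its conjugate u L u⁻¹ by some u in Q (the two meet trivially and commute elementwise), with z = z₁ (u z₁ u⁻¹) for some z₁ in L whose centralizer in L is a Sylow 2-subgroup of L with Frattini subgroup inside the subgroup generated by z₁, and Q is not the largest normal 2-subgroup of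 the centralizer of z. -/
theorem result {G : Type*} [Group G] [Finite G] (Q : Subgroup G) (hQ : Cfsg.IsLargeExtraspecial Q) (z : G) (hz : ((Subgroup.center ↥Q).map Q.subtype) = Subgroup.zpowers z) (M : Subgroup G) (hM : M = Subgroup.normalClosure ({z} : Set G)) : Q.Normal ∨ (IsMulCommutative ↥M ∧ Cfsg.generalizedFittingSubgroup G = Cfsg.pCore 2 G) ∨ (M = Cfsg.generalizedFittingSubgroup G ∧ IsSimpleGroup ↥M ∧ ¬ IsMulCommutative ↥M) ∨ (M = Cfsg.generalizedFittingSubgroup G ∧ ∃ (L : Subgroup G) (u : G), u ∈ Q ∧ IsSimpleGroup ↥L ∧ ¬ IsMulCommutative ↥L ∧ L ⊓ (L).map (MulAut.conj u).toMonoidHom = ⊥ ∧ (∀ x ∈ L, ∀ y ∈ (L).map (MulAut.conj u).toMonoidHom, x * y = y * x) ∧ L ⊔ (L).map (MulAut.conj u).toMonoidHom = M ∧ ∃ z₁ ∈ L, z = z₁ * (u * z₁ * u⁻¹) ∧ (∃ R : Sylow 2 ↥L, (R : Subgroup ↥L) = (Subgroup.centralizer ({z₁} : Set G)).subgroupOf L ∧ (frattini ↥(R : Subgroup ↥L)).map ((L.subtype).comp (R : Subgroup ↥L).subtype) ≤ Subgroup.zpowers z₁) ∧ Q ≠ (Cfsg.pCore 2 ↥(Subgroup.centralizer ({z} : Set G))).map (Subgroup.centralizer ({z} :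 Set G)).subtype) := by
  obtain ⟨z', hl, hz'⟩ := LargeExtraspecial.exists_lhyp hQ.1 hQ.2.1 hQ.2.2.1
  have hzz : z = z' := by
    rcases hl.eq_of_mem_zpowers (x := z) (by rw [← hz', hz]; exact Subgroup.mem_zpowers z) with e | e
    · exfalso
      have h1 : z' ∈ Subgroup.zpowers z := by rw [← hz, hz']; exact Subgroup.mem_zpowers z'
      rw [e, Subgroup.zpowers_one_eq_bot, Subgroup.mem_bot] at h1
      exact hl.ne_one h1
    · exact e
  subst hzz
  have h : LargeExtraspecialStructure.LH Q z := ⟨hl, hQ.2.2.2⟩
  subst hM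
  by_cases hR : Cfsg.pCore 2 G = ⊥
  · have hgen := LargeExtraspecialStructure.gen_eq_layer h hR
    have hn := LargeExtraspecialStructure.normalClosure_eq h hR
    rcases LargeExtraspecialStructure.structure_trivial h hR with hs |
      ⟨L, u, hu, hLs, hLna, h1, h2, h3, z₁, hz₁, h4, h5, h6⟩
    · refine Or.inr (Or.inr (Or.inl ⟨hn.trans hgen.symm, ?_⟩))
      rw [hn]
      exact hs
    · exact Or.inr (Or.inr (Or.inr ⟨hn.trans hgen.symm, L, u, hu, hLs, hLna, h1, h2, h3.trans hn.symm,
        z₁, hz₁, h4, h5, h6⟩))
  · exact Or.inr (Or.inl (LargeExtraspecialStructure.abelian_case h hR))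

end Cfsg.Agent.S5426
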