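import Cfsg.Statements.S5427
import Cfsg.Agent.Lib.LargeExtraspecial
import Cfsg.Agent.Lib.LargeExtraspecialSetting
import Cfsg.Agent.Lib.HallCore

set_option autoImplicit false
open Cfsg

namespace Cfsg.Agent.S5427

open LargeExtraspecial in
/-- With a large extraspecial subgroup every non-trivial normal subgroup contains the central involution. -/
theorem z_mem_normal {G : Type*} [Group G] [Finite G] {Q : Subgroup G} {z : G} (h : LHyp Q z)
    (hL : Cfsg.IsLargeExtraspecial Q) {N : Subgroup G} [hN : N.Normal] (hne : N ≠ ⊥) : z ∈ N := by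
  classical
  haveI : Fact (Nat.Prime 2) := ⟨Nat.prime_two⟩
  have heven : 2 ∣ Nat.card N := by
    by_contra hodd
    exact hne (hL.2.2.2 N (Nat.odd_iff.mpr (by omega))
      (le_top.trans (Subgroup.normalizer_eq_top N).ge))
  obtain ⟨S, hS⟩ := h.toExt.isPGroup.exists_le_sylow
  obtain ⟨x, hx⟩ := exists_prime_orderOf_dvd_card' 2 heven
  have hx2 : IsPGroup 2 (Subgroup.zpowers (x : G)) :=
    IsPGroup.of_card (n := 1) (by rw [Nat.card_zpowers, Subgroup.orderOf_coe, hx, pow_one])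
  obtain ⟨S', hS'⟩ := hx2.exists_le_sylow
  obtain ⟨g, hg⟩ := MulAction.exists_smul_eq G S' S
  set y : G := g * x * g⁻¹ with hy
  have hyN : y ∈ N := hN.conj_mem _ x.2 g
  have hyS : y ∈ (S : Subgroup G) := by
    rw [← hg]
    exact ⟨x, hS' (Subgroup.mem_zpowers _), rfl⟩
  have hy1 : y ≠ 1 := fun e => by
    rw [hy, conj_eq_one_iff, OneMemClass.coe_eq_one] at e
    rw [e, orderOf_one] at hx
    omega
  let T := ↥(S : Subgroup G)
  letI : MulAction T ↥N :=
    { smul := fun s n => ⟨s.1 * n * s.1⁻¹, hN.conj_mem _ n.2 _⟩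
      one_smul := fun n => Subtype.ext (by show (1 : G) * n * (1 : G)⁻¹ = n; group)
      mul_smul := fun s t n => Subtype.ext (by
        show (s.1 * t.1) * n * (s.1 * t.1)⁻¹ = s.1 * (t.1 * n * t.1⁻¹) * s.1⁻¹; group) }
  have h1 : (1 : ↥N) ∈ MulAction.fixedPoints T ↥N := fun s => Subtype.ext (by
    show s.1 * 1 * s.1⁻¹ = 1; group)
  obtain ⟨n, hn, hn1⟩ :=
    S.isPGroup'.exists_fixed_point_of_prime_dvd_card_of_fixed_point (α := ↥N) heven h1
  have hnfix : ∀ q ∈ Q, (n : G) * q = q * n := fun q hq => by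
    have : q * n * q⁻¹ = n := congrArg Subtype.val (hn ⟨q, hS hq⟩)
    exact (mul_inv_eq_iff_eq_mul.mp this).symm
  rcases h.cent n hnfix with e | e
  · exact absurd (Subtype.ext e).symm hn1
  · exact e ▸ n.2

/-- Let z be an involution of the finite group G whose centralizer C has generalized Fitting subgroup Q, an extraspecial 2-group of width at least 2 (order 2^(2w+1), w ≥ 2). Let K be a subgroup of G such that the subgroup U generated by the K-conjugates of z is abelian and C is generated by the C-conjugates of U. Suppose that either some K-conjugate of z other than z lies in Q, or some element u of U ∩ Q outside the subgroup generated by z has z in the largest normal 2-subgroup of its centralizer. Then G is simple and Q is a large extraspecial 2-subgroup of G. -/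
theorem result {G : Type*} [Group G] [Finite G] (z : G) (hz : orderOf z = 2) (Q : Subgroup G) (hQC : Q ≤ Subgroup.centralizer ({z} : Set G)) (hF : (Cfsg.generalizedFittingSubgroup ↥(Subgroup.centralizer ({z} : Set G))).map (Subgroup.centralizer ({z} : Set G)).subtype = Q) (hQ : Cfsg.IsExtraspecial 2 ↥Q) (w : ℕ) (hw : 2 ≤ w) (hcard : Nat.card ↥Q = 2 ^ (2 * w + 1)) (K U : Subgroup G) (hU : U = Subgroup.closure {x : G | ∃ k ∈ K, x = k * z * k⁻¹}) (hUab : IsMulCommutative ↥U) (hgen : Subgroup.closure {x : G | ∃ c ∈ Subgroup.centralizer ({z} : Set G), ∃ u ∈ U, x = c * u * c⁻¹} = Subgroup.centralizer ({z} : Set G)) (h3 : (∃ k ∈ K, k * z * k⁻¹ ∈ Q ∧ k * z * k⁻¹ ≠ z) ∨ ∃ u ∈ U ⊓ Q, u ∉ Subgroup.zpowers z ∧ (∃ hz' : z ∈ Subgroup.centralizer ({u} : Set G), (⟨z, hz'⟩ : ↥(Subgroup.centralizer ({u} : Set G))) ∈ Cfsg.pCore 2 ↥(Subgroup.centralizer ({u} : Set G)))) : IsSimpleGroup G ∧ Cfsg.IsLargeExtraspecial Q := by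
  classical
  haveI : Fact (Nat.Prime 2) := ⟨Nat.prime_two⟩
  have L := LargeExtraspecialSetting.lhyp_of_fitting_map hz Q hF hQ
  have h32 : 32 ≤ Nat.card Q := by
    rw [hcard]
    calc 32 = 2 ^ 5 := by norm_num
      _ ≤ _ := Nat.pow_le_pow_right (by norm_num) (by omega)
  have hUsq : ∀ u ∈ U, u * u = 1 := by
    intro u hu
    rw [hU] at hu
    induction hu using Subgroup.closure_induction with
    | mem x hx =>
      obtain ⟨k, -, rfl⟩ := hx
      have := L.zz
      calc k * z * k⁻¹ * (k * z * k⁻¹) = k * (z * z) * k⁻¹ := by group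
        _ = 1 := by rw [this]; group
    | one => exact one_mul 1
    | mul x y hx hy ex ey =>
      have hc : x * y = y * x := congrArg Subtype.val (hUab.is_comm.comm
        (⟨x, hU ▸ hx⟩ : ↥U) ⟨y, hU ▸ hy⟩)
      calc x * y * (x * y) = x * y * (y * x) := by rw [← hc]
        _ = x * (y * y) * x := by group
        _ = 1 := by rw [ey, mul_one, ex]
    | inv x _ ex => rw [← mul_inv_rev, ex, inv_one]
  have hL : Cfsg.IsLargeExtraspecial Q := by
    rcases h3 with ⟨k, -, hkQ, hkz⟩ | ⟨u, ⟨huU, huQ⟩, huz, hz', hzP⟩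
    · exact L.isLarge_of_conj hkQ hkz h32
    · refine L.isLarge_of_involution huQ (fun e => huz (e ▸ one_mem _))
        (fun e => huz (e ▸ Subgroup.mem_zpowers z)) (hUsq u huU)
        (P := (Cfsg.pCore 2 ↥(Subgroup.centralizer ({u} : Set G))).map
          (Subgroup.centralizer ({u} : Set G)).subtype) ?_ ⟨_, hzP, rfl⟩ fun c hc => ?_
      · exact (HallCore.isPGroup_pCore 2 _).map _
      · exact ⟨_, (HallCore.pCore_normal 2 _).conj_mem _ hzP ⟨c, Subgroup.mem_centralizer_singleton_iff.mpr hc⟩, rfl⟩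
  refine ⟨?_, hL⟩
  haveI : Nontrivial G := ⟨⟨z, 1, L.ne_one⟩⟩
  refine ⟨fun N hN => or_iff_not_imp_left.mpr fun hne => ?_⟩
  haveI := hN
  have hzN : z ∈ N := z_mem_normal L hL hne
  have hCN : Subgroup.centralizer ({z} : Set G) ≤ N := by
    rw [← hgen, Subgroup.closure_le]
    rintro _ ⟨c, -, u, hu, rfl⟩
    refine hN.conj_mem u ?_ c
    rw [hU] at hu
    refine (Subgroup.closure_le N).mpr ?_ hu
    rintro _ ⟨k, -, rfl⟩
    exact hN.conj_mem z hzN k
  obtain ⟨T, hT⟩ := (L.toExt.isPGroup.comap_of_injective N.subtype N.subtype_injective).exists_le_sylow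
  have hfr := Sylow.normalizer_sup_eq_top T
  rw [eq_top_iff, ← hfr]
  refine sup_le (fun g hg => hCN ?_) le_rfl
  rw [Subgroup.mem_centralizer_singleton_iff]
  have hzT : z ∈ (T : Subgroup ↥N).map N.subtype := ⟨⟨z, hzN⟩, hT L.mem, rfl⟩
  have hcz : ∀ x ∈ (T : Subgroup ↥N).map N.subtype, x * z = z * x := by
    haveI : Nontrivial ↥(T : Subgroup ↥N) := ⟨⟨⟨⟨z, hzN⟩, hT L.mem⟩, 1, fun e =>
      L.ne_one (congrArg (fun v : ↥(T : Subgroup ↥N) => ((v : ↥N) : G)) e)⟩⟩
    obtain ⟨c, hc, hc1⟩ := (Subgroup.ne_bot_iff_exists_ne_one.mp T.isPGroup'.isNilpotent.center_ne_bot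
      |> fun ⟨c, h⟩ => (⟨c.1, c.2, fun e => h (Subtype.ext e)⟩ :
        ∃ c, c ∈ Subgroup.center ↥(T : Subgroup ↥N) ∧ c ≠ 1))
    have hceq : ((c : ↥N) : G) = z := by
      refine (L.cent _ fun q hq => ?_).resolve_left fun e => hc1 (Subtype.ext (Subtype.ext e))
      have hqN : q ∈ N := hCN (hQC hq)
      exact congrArg (fun v : ↥(T : Subgroup ↥N) => ((v : ↥N) : G))
        (Subgroup.mem_center_iff.mp hc ⟨⟨q, hqN⟩, hT hq⟩).symm
    rintro _ ⟨x, hx, rfl⟩
    rw [← hceq]
    exact congrArg (fun v : ↥(T : Subgroup ↥N) => ((v : ↥N) : G)) (Subgroup.mem_center_iff.mp hc ⟨x, hx⟩)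
  have hgz : g * z * g⁻¹ ∈ (T : Subgroup ↥N).map N.subtype := (Subgroup.mem_normalizer_iff.mp hg z).mp hzT
  -- the conjugate of `z` is again central in the Sylow subgroup
  have hgc : ∀ q ∈ Q, (g * z * g⁻¹) * q = q * (g * z * g⁻¹) := by
    intro q hq
    have hqT : q ∈ (T : Subgroup ↥N).map N.subtype := ⟨⟨q, hCN (hQC hq)⟩, hT hq, rfl⟩
    have hmem : g⁻¹ * q * g ∈ (T : Subgroup ↥N).map N.subtype :=
      (Subgroup.mem_normalizer_iff''.mp hg q).mp hqT
    have e := congrArg (fun v => g * v * g⁻¹) (hcz _ hmem)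
    calc g * z * g⁻¹ * q = g * (z * (g⁻¹ * q * g)) * g⁻¹ := by group
      _ = g * (g⁻¹ * q * g * z) * g⁻¹ := e.symm
      _ = q * (g * z * g⁻¹) := by group
  rcases L.cent _ hgc with e | e
  · exact absurd (conj_eq_one_iff.mp e) L.ne_one
  · exact mul_inv_eq_iff_eq_mul.mp e

end Cfsg.Agent.S5427
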