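import Cfsg.Statements.S5428
import Cfsg.Agent.Lib.LargeExtraspecialSetting
import Cfsg.Agent.Lib.HallCore
-- import your own Cfsg.Agent.* helpers here

set_option autoImplicit false
open Cfsg

namespace Cfsg.Agent.S5428

open Subgroup in
/-- A finite group with a central involution of odd index is the product of a normal subgroup of odd
order and the group generated by the involution. -/
theorem odd_times_two {D : Type*} [Group D] [Finite D] (z : D) (hz : orderOf z = 2)
    (hc : ∀ d, d * z = z * d) (h4 : ¬ 4 ∣ Nat.card D) :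
    ∃ K : Subgroup D, K.Normal ∧ Odd (Nat.card K) ∧ ∀ d, ∃ k ∈ K, d = k ∨ d = k * z := by
  have hzz : z * z = 1 := by rw [← pow_two, ← hz, pow_orderOf_eq_one]
  haveI hZn : (zpowers z).Normal := ⟨fun x hx g => by
    obtain ⟨j, rfl⟩ := mem_zpowers_iff.mp hx
    rw [((show Commute g z from hc g).zpow_right j).eq, mul_inv_cancel_right]
    exact zpow_mem_zpowers z j⟩
  have hcard := (zpowers z).card_mul_index
  rw [Nat.card_zpowers, hz] at hcard
  have hodd : Odd (zpowers z).index := by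
    rw [← Nat.not_even_iff_odd, even_iff_two_dvd]
    exact fun hd => h4 (hcard ▸ Nat.mul_dvd_mul_left 2 hd)
  obtain ⟨K, hK⟩ := exists_right_complement'_of_coprime (N := zpowers z) (by
    rw [Nat.card_zpowers, hz]; exact Nat.coprime_two_left.mpr hodd)
  have hdec : ∀ d, ∃ k ∈ K, d = k ∨ d = k * z := by
    intro d
    obtain ⟨⟨⟨a, ha⟩, ⟨k, hk⟩⟩, e : a * k = d⟩ := hK.2 d
    refine ⟨k, hk, ?_⟩
    obtain ⟨j, rfl⟩ := mem_zpowers_iff.mp ha
    rcases Int.even_or_odd j with ⟨i, rfl⟩ | ⟨i, rfl⟩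
    · left; rw [← e, ← two_mul, zpow_mul, zpow_two, hzz, one_zpow, one_mul]
    · right; rw [← e, zpow_add, zpow_mul, zpow_two, hzz, one_zpow, one_mul, zpow_one, ← hc]
  refine ⟨K, ⟨fun k hk d => ?_⟩, ?_, hdec⟩
  · obtain ⟨k', hk', e⟩ := hdec d
    rcases e with rfl | rfl
    · exact K.mul_mem (K.mul_mem hk' hk) (K.inv_mem hk')
    · have : k' * z * k * (k' * z)⁻¹ = k' * k * k'⁻¹ := by
        rw [mul_assoc k' z k, ← hc k]; group
      rw [this]
      exact K.mul_mem (K.mul_mem hk' hk) (K.inv_mem hk')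
  · have h1 := hK.card_mul
    rw [Nat.card_zpowers, hz] at h1
    have : Nat.card K = (zpowers z).index := by omega
    rwa [this]

/-- Let z be an involution of the finite group G whose centralizer C has generalized Fitting subgroup Q extraspecial (as a 2-group), let A be a subgroup of C of odd order, and let R be the centralizer of A in Q; suppose R has order at least 32, the largest normal subgroup of odd order of the centralizer of the subgroup generated by A and R lies in A, the order of that centralizer is not divisible by 4, and g is an element of G with g z g⁻¹ in R but outside the centre Z of Q. Let M be the subgroup generated by A and the centralizer of A (A is normal in it). Then: the centralizer in M of the subgroup generated by R and A, joined with A, equals the subgroup generated by A and Z; the image of R in M/A is a large extraspecial 2-subgroup of M/A; and g z g⁻¹ is conjugate to z inside the subgroup generated by R and the centralizer of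 A in g Q g⁻¹. -/
theorem result {G : Type*} [Group G] [Finite G] (z : G) (hz : orderOf z = 2) (Q : Subgroup G) (hQC : Q ≤ Subgroup.centralizer ({z} : Set G)) (hF : (Cfsg.generalizedFittingSubgroup ↥(Subgroup.centralizer ({z} : Set G))).map (Subgroup.centralizer ({z} : Set G)).subtype = Q) (hQ : Cfsg.IsExtraspecial 2 ↥Q) (A : Subgroup G) (hA : A ≤ Subgroup.centralizer ({z} : Set G)) (hAodd : Odd (Nat.card ↥A)) (R : Subgroup G) (hR : R = Q ⊓ Subgroup.centralizer (A : Set G)) (hR32 : 32 ≤ Nat.card ↥R) (hO : (Cfsg.oddCore ↥(Subgroup.centralizer ((A ⊔ R : Subgroup G) : Set G))).map (Subgroup.centralizer ((A ⊔ R : Subgroup G) : Set G)).subtype ≤ A) (h4 : ¬ 4 ∣ Nat.card ↥(Subgroup.centralizer ((A ⊔ R : Subgroup G) : Set G))) (g : G) (hgR : g * z * g⁻¹ ∈ R) (hgZ : g * z * g⁻¹ ∉ ((Subgroup.center ↥Q).map Q.subtype)) (M : Subgroup G) (hM : M = Subgroup.centralizer (A : Set G) ⊔ A) [hn : (A.subgroupOf M).Normal] : (M ⊓ Subgroup.centralizer ((R ⊔ A : Subgroup G) : Set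 G)) ⊔ A = A ⊔ ((Subgroup.center ↥Q).map Q.subtype) ∧ Cfsg.IsLargeExtraspecial ((R.subgroupOf M).map (QuotientGroup.mk' (A.subgroupOf M))) ∧ ∃ x ∈ R ⊔ ((Q).map (MulAut.conj g).toMonoidHom ⊓ Subgroup.centralizer (A : Set G)), x * (g * z * g⁻¹) * x⁻¹ = z := by
  classical
  have h := LargeExtraspecialSetting.lhyp_of_fitting_map hz Q hF hQ
  rw [h.center_eq] at hgZ ⊢
  have hAz : ∀ a ∈ A, a * z = z * a := fun a ha =>
    (Subgroup.mem_centralizer_singleton_iff.mp (hA ha))
  have hAQ : ∀ a ∈ A, ∀ x ∈ Q, a * x * a⁻¹ ∈ Q := fun a ha => h.norm a (hAz a ha)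
  have hRQ : R ≤ Q := hR ▸ inf_le_left
  have hRA : ∀ x ∈ R, ∀ a ∈ A, a * x = x * a := by
    intro x hx a ha
    rw [hR] at hx
    exact Subgroup.mem_centralizer_iff.mp hx.2 a ha
  have hRe : LargeExtraspecial.Ext R z := hR ▸ LargeExtraspecialAct.ext_centralizer h.toExt hAQ hAodd
  have h32 : 32 ≤ Nat.card Q := hR32.trans (Nat.le_of_dvd Nat.card_pos (Subgroup.card_dvd_of_le hRQ))
  set z' := g * z * g⁻¹ with hz'
  have hz'z : z' ≠ z := fun e => hgZ (e ▸ Subgroup.mem_zpowers z)
  have hz'Q : z' ∈ Q := hRQ hgR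
  have h' := h.map_conj g
  have hmem := h.z_mem_conj hz'Q hz'z h32
  have hAQ' : ∀ a ∈ A, ∀ x ∈ Q.map (MulAut.conj g).toMonoidHom,
      a * x * a⁻¹ ∈ Q.map (MulAut.conj g).toMonoidHom :=
    fun a ha => h'.norm a (hRA z' hgR a ha)
  obtain ⟨x, hx, ex⟩ := LargeExtraspecialAct.partner_fixed h'.toExt hAQ' hAodd hmem hAz h.ne_one
    (Ne.symm hz'z)
  obtain ⟨r, hr, er⟩ := hRe.partner z' hgR h'.ne_one hz'z
  have hzz' : z * z' = z' * z := (h.comm z' hz'Q).symm
  have hfin : (x⁻¹ * r) * z' * (x⁻¹ * r)⁻¹ = z := by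
    calc (x⁻¹ * r) * z' * (x⁻¹ * r)⁻¹ = x⁻¹ * (r * z' * r⁻¹) * x := by group
      _ = x⁻¹ * (x * z * x⁻¹) * x := by rw [er, hzz', ex]
      _ = z := by group
  -- the centralizer of `A` and `R`
  set D := Subgroup.centralizer ((A ⊔ R : Subgroup G) : Set G) with hD
  have hDmem : ∀ d, d ∈ D ↔ (∀ a ∈ A, a * d = d * a) ∧ (∀ y ∈ R, y * d = d * y) := by
    intro d
    rw [hD, Subgroup.mem_centralizer_iff]
    refine ⟨fun hd => ⟨fun a ha => hd a (Subgroup.mem_sup_left ha), fun y hy => hd y (Subgroup.mem_sup_right hy)⟩,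
      fun hd y hy => ?_⟩
    have : A ⊔ R ≤ Subgroup.centralizer ({d} : Set G) :=
      sup_le (fun a ha => Subgroup.mem_centralizer_singleton_iff.mpr (hd.1 a ha))
        (fun a ha => Subgroup.mem_centralizer_singleton_iff.mpr (hd.2 a ha))
    exact Subgroup.mem_centralizer_singleton_iff.mp (this hy)
  have hzD : z ∈ D := (hDmem z).mpr ⟨hAz, fun y hy => h.comm y (hRQ hy)⟩
  have hDdec : ∀ d ∈ D, ∃ a ∈ A, d = a ∨ d = a * z := by
    obtain ⟨K, hKn, hKo, hK⟩ := odd_times_two (⟨z, hzD⟩ : D)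
      (by rw [← Subgroup.orderOf_coe]; exact hz) (fun d => Subtype.ext
        (((hDmem _).mp d.2).2 z hRe.mem).symm) h4
    intro d hd
    obtain ⟨k, hk, e⟩ := hK ⟨d, hd⟩
    refine ⟨k, hO ⟨k, ?_, rfl⟩, ?_⟩
    · exact HallCore.le_pPrimeCore (hN := hKn) (Nat.coprime_two_right.mpr hKo) hk
    · rcases e with e | e
      · exact Or.inl (congrArg Subtype.val e)
      · exact Or.inr (congrArg Subtype.val e)
  -- elements of `M`
  have hAM : A ≤ M := hM ▸ le_sup_right
  have hCM : Subgroup.centralizer (A : Set G) ≤ M := hM ▸ le_sup_left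
  have hCA : ∀ m ∈ M, ∃ c ∈ Subgroup.centralizer (A : Set G), ∃ a ∈ A, m = c * a := by
    intro m hm
    rw [hM, ← SetLike.mem_coe, Subgroup.coe_mul_of_right_le_normalizer_left
      (Subgroup.centralizer (A : Set G)) A fun a ha => ?_] at hm
    · obtain ⟨c, hc, a, ha, rfl⟩ := hm
      exact ⟨c, hc, a, ha, rfl⟩
    · refine Subgroup.mem_normalizer_fintype fun c hc => ?_
      have : a * c * a⁻¹ = c := by
        rw [Subgroup.mem_centralizer_iff.mp hc a ha, mul_inv_cancel_right]
      exact this.symm ▸ hc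
  have hRM : R ≤ M := fun y hy => hCM (Subgroup.mem_centralizer_iff.mpr (hRA y hy))
  refine ⟨?_, ?_, ⟨x⁻¹ * r, (R ⊔ _).mul_mem ((R ⊔ _).inv_mem (Subgroup.mem_sup_right hx))
    (Subgroup.mem_sup_left hr), hfin⟩⟩
  · apply le_antisymm
    · refine sup_le ?_ le_sup_left
      rintro d ⟨-, hd⟩
      rw [SetLike.mem_coe, sup_comm R A, ← hD] at hd
      obtain ⟨a, ha, e | e⟩ := hDdec d hd
      · exact e ▸ Subgroup.mem_sup_left ha
      · exact e ▸ mul_mem (Subgroup.mem_sup_left ha) (Subgroup.mem_sup_right (Subgroup.mem_zpowers z))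
    · refine sup_le le_sup_right (Subgroup.zpowers_le.mpr (Subgroup.mem_sup_left ⟨hRM hRe.mem, ?_⟩))
      rw [SetLike.mem_coe, sup_comm R A, ← hD]
      exact hzD
  · set π := QuotientGroup.mk' (A.subgroupOf M)
    set R1 := R.subgroupOf M
    have hR1 : LargeExtraspecial.Ext R1 (⟨z, hRM hRe.mem⟩ : M) := by
      refine ⟨hRe.mem, fun e => hRe.ne_one (congrArg Subtype.val e), Subtype.ext hRe.zz,
        fun y hy => Subtype.ext (hRe.comm _ hy), fun y hy => ?_, fun y hy w hw => ?_, fun y hy h1 h2 => ?_⟩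
      · exact (hRe.sq _ hy).imp Subtype.ext Subtype.ext
      · exact (hRe.conj _ hy _ hw).imp Subtype.ext Subtype.ext
      · obtain ⟨w, hw, e⟩ := hRe.partner _ hy (fun e => h1 (Subtype.ext e)) (fun e => h2 (Subtype.ext e))
        exact ⟨⟨w, hRM hw⟩, hw, Subtype.ext e⟩
    have hinj : ∀ y ∈ R1, π y = 1 → y = 1 := fun y hy e =>
      Subtype.ext (hRe.eq_one_of_mem_odd hAodd ((QuotientGroup.eq_one_iff y).mp e) hy)
    have hbar := LargeExtraspecialSetting.ext_map_injOn π hR1 hinj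
    -- a lift in `C(A)`
    have hlift : ∀ q : ↥M ⧸ A.subgroupOf M, ∃ m : M, π m = q ∧ ∀ a ∈ A, a * (m : G) = m * a := by
      intro q
      obtain ⟨⟨m, hm⟩, rfl⟩ := QuotientGroup.mk'_surjective _ q
      obtain ⟨c, hc, a, ha, rfl⟩ := hCA m hm
      refine ⟨⟨c, hCM hc⟩, QuotientGroup.eq.mpr ?_, Subgroup.mem_centralizer_iff.mp hc⟩
      show c⁻¹ * (c * a) ∈ A
      rwa [inv_mul_cancel_left]
    have hexact : ∀ (m : M), (∀ a ∈ A, a * (m : G) = m * a) → ∀ y : M, y ∈ R1 →
        π m * π y = π y * π m → (m : G) * y = y * m := by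
      intro m hm y hy e
      rw [← map_mul, ← map_mul] at e
      have hmem : ((y : G) * m)⁻¹ * (m * y) ∈ A := (QuotientGroup.eq (s := A.subgroupOf M)).mp e.symm
      set e' := ((y : G) * m)⁻¹ * (m * y) with he'
      have hcomm : e' * y = y * e' := hRA y hy e' hmem
      have heq : (m : G)⁻¹ * y * m = y * e'⁻¹ := by rw [he']; group
      have h4y : ((m : G)⁻¹ * y * m) ^ 4 = 1 := by
        have : ((m : G)⁻¹ * y * m) ^ 4 = (m : G)⁻¹ * (y : G) ^ 4 * m := by
          have := conj_pow (i := 4) (a := (m : G)⁻¹) (b := (y : G))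
          rwa [inv_inv] at this
        rw [this, (show (y : G) ^ 4 = 1 from hRe.pow_four hy), mul_one, inv_mul_cancel]
      have h4e : e' ^ (2 ^ 2) = 1 := by
        have hc : Commute (y : G) e'⁻¹ := (Commute.inv_right (show Commute (y : G) e' from hcomm.symm))
        rw [heq, hc.mul_pow, (show (y : G) ^ 4 = 1 from hRe.pow_four hy), one_mul, inv_pow, inv_eq_one] at h4y
        exact h4y
      have := LargeExtraspecial.eq_one_of_mem_odd_of_pow_two hAodd hmem h4e
      rw [he', inv_mul_eq_one] at this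
      exact this.symm
    have hL : LargeExtraspecial.LHyp (R1.map π) (π ⟨z, hRM hRe.mem⟩) := by
      refine ⟨hbar, ?_, ?_, ?_⟩
      · intro q hq
        obtain ⟨m, rfl, hm⟩ := hlift q
        have hmD : (m : G) ∈ D := (hDmem _).mpr ⟨hm, fun y hy => (hexact m hm ⟨y, hRM hy⟩ hy
          (hq (π ⟨y, hRM hy⟩) ⟨_, hy, rfl⟩)).symm⟩
        obtain ⟨a, ha, e | e⟩ := hDdec _ hmD
        · left
          refine (QuotientGroup.eq_one_iff m).mpr ?_
          rw [Subgroup.mem_subgroupOf, e]; exact ha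
        · right
          have : m = ⟨a, hAM ha⟩ * ⟨z, hRM hRe.mem⟩ := Subtype.ext e
          rw [this, map_mul, show π ⟨a, hAM ha⟩ = 1 from (QuotientGroup.eq_one_iff _).mpr ha, one_mul]
      · intro q hq _ hy
        obtain ⟨m, rfl, hm⟩ := hlift q
        obtain ⟨y, hy, rfl⟩ := hy
        have hmz := hexact m hm ⟨z, hRM hRe.mem⟩ hRe.mem hq
        refine ⟨m * y * m⁻¹, ?_, by rw [map_mul, map_mul, map_inv]⟩
        show (m : G) * y * (m : G)⁻¹ ∈ R
        have hy' : (y : G) ∈ R := hy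
        rw [hR] at hy' ⊢
        refine ⟨h.norm _ hmz _ hy'.1, Subgroup.mul_mem _ (Subgroup.mul_mem _ ?_ hy'.2) (Subgroup.inv_mem _ ?_)⟩ <;>
          exact Subgroup.mem_centralizer_iff.mpr hm
      · refine ⟨π ⟨z', hRM hgR⟩, ⟨_, hgR, rfl⟩, fun e => h'.ne_one (congrArg Subtype.val (hinj ⟨z', hRM hgR⟩ hgR e)), fun e => hz'z ?_⟩
        have := hinj (⟨z', hRM hgR⟩ * ⟨z, hRM hRe.mem⟩⁻¹) (R1.mul_mem hgR (R1.inv_mem hRe.mem))
          (by rw [map_mul, map_inv, e, mul_inv_cancel])
        exact mul_inv_eq_one.mp (congrArg Subtype.val this)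
    have hxM : (x : G) ∈ M := hCM hx.2
    set y : M := (⟨x, hxM⟩⁻¹ * ⟨r, hRM hr⟩)⁻¹
    have hyz : y * ⟨z, hRM hRe.mem⟩ * y⁻¹ = ⟨z', hRM hgR⟩ := Subtype.ext (by
      simp only [y, Subgroup.coe_mul, Subgroup.coe_inv]
      conv_lhs => rw [← hfin]
      group)
    refine hL.isLarge_of_conj (g := π y) ?_ ?_ ?_
    · rw [← map_mul, ← map_inv, ← map_mul, hyz]
      exact ⟨_, hgR, rfl⟩
    · rw [← map_mul, ← map_inv, ← map_mul, hyz]
      intro e
      have := hinj (⟨z', hRM hgR⟩ * ⟨z, hRM hRe.mem⟩⁻¹) (R1.mul_mem hgR (R1.inv_mem hRe.mem))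
        (by rw [map_mul, map_inv, e, mul_inv_cancel])
      exact hz'z (mul_inv_eq_one.mp (congrArg Subtype.val this))
    · have hinjf : Function.Injective (π.subgroupMap R1) := by
        intro a b e
        have e' : π a = π b := congrArg Subtype.val e
        have := hinj ((a : M) * (b : M)⁻¹) (R1.mul_mem a.2 (R1.inv_mem b.2))
          (by rw [map_mul, map_inv, e', mul_inv_cancel])
        exact Subtype.ext (mul_inv_eq_one.mp this)
      refine hR32.trans (le_of_eq ?_)
      rw [← Nat.card_congr (Subgroup.subgroupOfEquivOfLe hRM).toEquiv]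
      exact Nat.card_congr (Equiv.ofBijective _ ⟨hinjf, π.subgroupMap_surjective R1⟩)

end Cfsg.Agent.S5428
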