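import Cfsg.Statements.S5429
import Cfsg.Agent.Lib.LargeExtraspecialSetting
import Cfsg.Agent.Lib.HallCore
-- import your own Cfsg.Agent.* helpers here

set_option autoImplicit false
open Cfsg

namespace Cfsg.Agent.S5429

/-- Let z be an involution of the finite group G with centralizer C whose generalized Fitting subgroup Q is extraspecial of width at least 3 (order 2^(2w+1), w ≥ 3); let g be an element of G with g z g⁻¹ in Q but outside the centre Z of Q, and t an involution lying in both Q and g Q g⁻¹ that is not conjugate to z; write P for the centralizer of t in Q and suppose that the elements of C acting trivially by conjugation on P modulo the subgroup generated by t and z are exactly the elements of Q. Then the image of P in the centralizer of t modulo the subgroup generated by t is a large extraspecial 2-subgroup there, and g z g⁻¹ is conjugate to z inside the subgroup generated by P and the centralizer of t in g Q g⁻¹. -/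
theorem result {G : Type*} [Group G] [Finite G] (z : G) (hz : orderOf z = 2) (Q : Subgroup G) (hQC : Q ≤ Subgroup.centralizer ({z} : Set G)) (hF : (Cfsg.generalizedFittingSubgroup ↥(Subgroup.centralizer ({z} : Set G))).map (Subgroup.centralizer ({z} : Set G)).subtype = Q) (hQ : Cfsg.IsExtraspecial 2 ↥Q) (w : ℕ) (hw : 3 ≤ w) (hcard : Nat.card ↥Q = 2 ^ (2 * w + 1)) (g : G) (hgQ : g * z * g⁻¹ ∈ Q) (hgZ : g * z * g⁻¹ ∉ ((Subgroup.center ↥Q).map Q.subtype)) (t : G) (ht : orderOf t = 2) (htQ : t ∈ Q ⊓ (Q).map (MulAut.conj g).toMonoidHom) (htz : ¬ IsConj z t) (P : Subgroup G) (hP : P = Q ⊓ Subgroup.centralizer ({t} : Set G)) (hCP : ∀ c ∈ Subgroup.centralizer ({z} : Set G), (∀ x ∈ P, ∃ y ∈ Subgroup.closure ({t, z} : Set G), c * x * c⁻¹ = x * y) ↔ c ∈ Q) [hn : ((Subgroup.zpowers t).subgroupOf (Subgroup.centralizer ({t} : Set G))).Normal] : Cfsg.IsLargeExtraspecial ((P.subgroupOf (Subgroup.centralizer ({t} : Set G))).map (QuotientGroup.mk' ((Subgroup.zpowers t).subgroupOf (Subgroup.centralizer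 ({t} : Set G))))) ∧ ∃ x ∈ P ⊔ ((Q).map (MulAut.conj g).toMonoidHom ⊓ Subgroup.centralizer ({t} : Set G)), x * (g * z * g⁻¹) * x⁻¹ = z := by
  classical
  have h := LargeExtraspecialSetting.lhyp_of_fitting_map hz Q hF hQ
  rw [h.center_eq] at hgZ
  set z' := g * z * g⁻¹ with hz'
  set Q' := Q.map (MulAut.conj g).toMonoidHom with hQ'
  have h' : LargeExtraspecial.LHyp Q' z' := h.map_conj g
  have hz'z : z' ≠ z := fun e => hgZ (e ▸ Subgroup.mem_zpowers z)
  have h128 : 128 ≤ Nat.card Q := by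
    rw [hcard]
    exact le_trans (by norm_num : 128 ≤ 2 ^ 7) (Nat.pow_le_pow_right (by norm_num) (by omega))
  have hmem : z ∈ Q' := h.z_mem_conj hgQ hz'z (by omega)
  obtain ⟨htQ', ht'⟩ : t ∈ Q ∧ t ∈ Q' := htQ
  have htt : t * t = 1 := by rw [← pow_two, ← ht, pow_orderOf_eq_one]
  have hti : t⁻¹ = t := inv_eq_of_mul_eq_one_right htt
  have ht1 : t ≠ 1 := fun e => by simp [e] at ht
  have htz1 : t ≠ z := fun e => htz (e ▸ IsConj.refl z)
  have hcz : t * z = z * t := h.comm t htQ'
  have hct : t * z' = z' * t := h'.comm t ht'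
  have hzz' : z * z' = z' * z := (h.comm z' hgQ).symm
  have hPmem : ∀ x, x ∈ P ↔ x ∈ Q ∧ x * t = t * x := fun x => by
    rw [hP, Subgroup.mem_inf, Subgroup.mem_centralizer_singleton_iff]
  -- conjugates
  have hzz'conj : IsConj z (z * z') := by
    obtain ⟨q, -, eq⟩ := h.partner z' hgQ h'.ne_one hz'z
    exact isConj_iff.mpr ⟨q * g, by rw [← eq, hz']; group⟩
  have hzt : ¬ IsConj z (z * t) := fun hc => by
    obtain ⟨q, -, eq⟩ := h.partner t htQ' ht1 htz1
    exact htz (hc.trans (isConj_iff.mpr ⟨q, eq⟩).symm)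
  have hzz't : z * z' ≠ t := fun e => htz (e ▸ hzz'conj)
  have hz't : z' ≠ t := fun e => htz (e ▸ isConj_iff.mpr ⟨g, rfl⟩)
  obtain ⟨x, hx, hxt, ex⟩ : ∃ x ∈ Q', x * t = t * x ∧ x * z * x⁻¹ = z' * z := by
    by_contra hno
    push Not at hno
    have hc : ∀ s ∈ Q', s * t = t * s → s * z = z * s := fun s hs hst => by
      by_contra hne
      exact hno s hs hst ((h'.toExt.not_comm_iff hmem hs).mp hne)
    rcases h'.toExt.double_centralizer ht' hmem hc with e | e | e | e
    · exact h.ne_one e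
    · exact hz'z e.symm
    · exact htz1 (by rw [e, hti])
    · apply hzz't
      rw [hzz', e, hti, ← mul_assoc, h'.zz, one_mul]
  obtain ⟨r, hr, er⟩ : ∃ r ∈ P, r * z' * r⁻¹ = z * z' := by
    by_contra hno
    push Not at hno
    have hc : ∀ s ∈ Q, s * t = t * s → s * z' = z' * s := fun s hs hst => by
      by_contra hne
      exact hno s ((hPmem s).mpr ⟨hs, hst⟩) ((h.toExt.not_comm_iff hgQ hs).mp hne)
    rcases h.toExt.double_centralizer htQ' hgQ hc with e | e | e | e
    · exact h'.ne_one e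
    · exact hz'z e
    · exact hz't (by rw [e, hti])
    · exact hzz't (by rw [e, hti, ← mul_assoc, h.zz, one_mul])
  have hfin : (x⁻¹ * r) * z' * (x⁻¹ * r)⁻¹ = z := by
    calc (x⁻¹ * r) * z' * (x⁻¹ * r)⁻¹ = x⁻¹ * (r * z' * r⁻¹) * x := by group
      _ = x⁻¹ * (x * z * x⁻¹) * x := by rw [er, hzz', ex]
      _ = z := by group
  refine ⟨?_, ⟨x⁻¹ * r, (P ⊔ _).mul_mem ((P ⊔ _).inv_mem (Subgroup.mem_sup_right
    ⟨hx, Subgroup.mem_centralizer_singleton_iff.mpr hxt⟩)) (Subgroup.mem_sup_left hr), hfin⟩⟩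
  set π := QuotientGroup.mk' ((Subgroup.zpowers t).subgroupOf (Subgroup.centralizer ({t} : Set G)))
    with hπ
  have hker : ∀ c : Subgroup.centralizer ({t} : Set G), π c = 1 ↔ (c : G) = 1 ∨ (c : G) = t := by
    intro c
    rw [hπ, QuotientGroup.mk'_apply, QuotientGroup.eq_one_iff, Subgroup.mem_subgroupOf]
    constructor
    · intro hc
      obtain ⟨j, hj⟩ := Subgroup.mem_zpowers_iff.mp hc
      rw [← hj]
      rcases Int.even_or_odd j with ⟨i, rfl⟩ | ⟨i, rfl⟩
      · left; rw [← two_mul, zpow_mul, zpow_two, htt, one_zpow]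
      · right; rw [zpow_add, zpow_mul, zpow_two, htt, one_zpow, one_mul, zpow_one]
    · rintro (e | e) <;> rw [e]
      · exact one_mem _
      · exact Subgroup.mem_zpowers t
  have heq : ∀ c d : Subgroup.centralizer ({t} : Set G),
      π c = π d ↔ (c : G) = d ∨ (c : G) = t * d := by
    intro c d
    rw [← mul_inv_eq_one, ← map_inv, ← map_mul, hker]
    simp only [Subgroup.coe_mul, Subgroup.coe_inv, mul_inv_eq_one, mul_inv_eq_iff_eq_mul, one_mul]
  have hC : ∀ a, a * t = t * a → a ∈ Subgroup.centralizer ({t} : Set G) :=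
    fun a ha => Subgroup.mem_centralizer_singleton_iff.mpr ha
  set P1 := P.subgroupOf (Subgroup.centralizer ({t} : Set G))
  set zC : Subgroup.centralizer ({t} : Set G) := ⟨z, hC z hcz.symm⟩
  have hzP : zC ∈ P1 := (hPmem z).mpr ⟨h.mem, hcz.symm⟩
  have hdouble : ∀ d ∈ Q, (∀ y ∈ P, y * d = d * y) → d = 1 ∨ d = z ∨ d = t ∨ d = z * t := by
    intro d hd hc
    have := h.toExt.double_centralizer htQ' hd fun s hs hst => hc s ((hPmem s).mpr ⟨hs, hst⟩)
    rwa [hti] at this
  have hpartner : ∀ y : Subgroup.centralizer ({t} : Set G), y ∈ P1 → π y ≠ 1 → π y ≠ π zC →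
      ∃ w : Subgroup.centralizer ({t} : Set G), w ∈ P1 ∧ (w : G) * y * (w : G)⁻¹ = z * y := by
    intro y hy h1 h2
    obtain ⟨hyQ, hyt⟩ := (hPmem _).mp hy
    by_contra hno
    push Not at hno
    have hc : ∀ s ∈ P, s * (y : G) = y * s := fun s hs => by
      by_contra hne
      exact hno ⟨s, hC s ((hPmem s).mp hs).2⟩ hs ((h.toExt.not_comm_iff hyQ ((hPmem s).mp hs).1).mp hne)
    rcases hdouble _ hyQ hc with e | e | e | e
    · exact h1 ((hker y).mpr (Or.inl e))
    · exact h2 ((heq y zC).mpr (Or.inl e))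
    · exact h1 ((hker y).mpr (Or.inr e))
    · exact h2 ((heq y zC).mpr (Or.inr (e.trans hcz.symm)))
  have hext : LargeExtraspecial.Ext (P1.map π) (π zC) := by
    refine ⟨Subgroup.mem_map_of_mem π hzP, fun e => ?_, ?_, ?_, ?_, ?_, ?_⟩
    · rcases (hker zC).mp e with e | e
      · exact h.ne_one e
      · exact htz1 e.symm
    · rw [← map_mul, show zC * zC = 1 from Subtype.ext h.zz, map_one]
    · rintro _ ⟨y, hy, rfl⟩
      rw [← map_mul, ← map_mul]
      exact congrArg π (Subtype.ext (h.comm _ ((hPmem _).mp hy).1))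
    · rintro _ ⟨y, hy, rfl⟩
      rcases h.sq _ ((hPmem _).mp hy).1 with e | e
      · exact Or.inl (by rw [← map_mul, show y * y = 1 from Subtype.ext e, map_one])
      · exact Or.inr (by rw [← map_mul, show y * y = zC from Subtype.ext e])
    · rintro _ ⟨y, hy, rfl⟩ _ ⟨w, hw, rfl⟩
      rcases h.conj _ ((hPmem _).mp hy).1 _ ((hPmem _).mp hw).1 with e | e
      · exact Or.inl (by rw [← map_mul, ← map_inv, ← map_mul, show y * w * y⁻¹ = w from Subtype.ext e])
      · exact Or.inr (by rw [← map_mul, ← map_inv, ← map_mul, show y * w * y⁻¹ = zC * w from Subtype.ext e, map_mul])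
    · rintro _ ⟨y, hy, rfl⟩ h1 h2
      obtain ⟨w, hw, e⟩ := hpartner y hy h1 h2
      exact ⟨π w, Subgroup.mem_map_of_mem π hw,
        by rw [← map_mul, ← map_inv, ← map_mul, show w * y * w⁻¹ = zC * y from Subtype.ext e, map_mul]⟩
  have hcommz : ∀ c : Subgroup.centralizer ({t} : Set G), π c * π zC = π zC * π c →
      (c : G) * z = z * c := by
    intro c e
    rw [← map_mul, ← map_mul, heq] at e
    rcases e with e | e
    · exact e
    · exfalso
      apply hzt
      refine isConj_iff.mpr ⟨c, ?_⟩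
      rw [← hcz]
      exact mul_inv_eq_iff_eq_mul.mpr (e.trans (mul_assoc _ _ _).symm)
  have hz'P : z' ∈ P := (hPmem _).mpr ⟨hgQ, hct.symm⟩
  set zC' : Subgroup.centralizer ({t} : Set G) := ⟨z', hC z' hct.symm⟩
  have hne : π zC' ≠ π zC := fun e => by
    rcases (heq _ _).mp e with e | e
    · exact hz'z e
    · apply hzz't
      show z * z' = t
      rw [show z' = t * z from e, hcz, ← mul_assoc, h.zz, one_mul]
  have hL : LargeExtraspecial.LHyp (P1.map π) (π zC) := by
    refine ⟨hext, ?_, ?_, ⟨π zC', Subgroup.mem_map_of_mem π hz'P, fun e => ?_, hne⟩⟩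
    · intro q hq
      obtain ⟨c, rfl⟩ := QuotientGroup.mk'_surjective _ q
      have hcz' := hcommz c (hq _ (Subgroup.mem_map_of_mem π hzP))
      have hmod : ∀ y ∈ P, (c : G) * y * (c : G)⁻¹ = y ∨ (c : G) * y * (c : G)⁻¹ = t * y := by
        intro y hy
        have e := hq (π ⟨y, hC y ((hPmem y).mp hy).2⟩) (Subgroup.mem_map_of_mem π hy)
        rw [← map_mul, ← map_mul, heq] at e
        rcases e with e | e
        · exact Or.inl (mul_inv_eq_iff_eq_mul.mpr e)
        · exact Or.inr (mul_inv_eq_iff_eq_mul.mpr (e.trans (mul_assoc _ _ _).symm))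
      have hcQ : (c : G) ∈ Q := by
        refine (hCP c (Subgroup.mem_centralizer_singleton_iff.mpr hcz')).mp fun y hy => ?_
        rcases hmod y hy with e | e
        · exact ⟨1, one_mem _, by rw [e, mul_one]⟩
        · exact ⟨t, Subgroup.subset_closure (Or.inl rfl), by rw [e, ((hPmem y).mp hy).2]⟩
      have hcent : ∀ y ∈ P, y * (c : G) = c * y := fun y hy => by
        rcases h.conj _ hcQ y ((hPmem y).mp hy).1 with e | e
        · exact (mul_inv_eq_iff_eq_mul.mp e).symm
        · rcases hmod y hy with e' | e'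
          · exact (mul_inv_eq_iff_eq_mul.mp e').symm
          · exact absurd (mul_right_cancel (e.symm.trans e')) htz1.symm
      rcases hdouble _ hcQ hcent with e | e | e | e
      · exact Or.inl ((hker c).mpr (Or.inl e))
      · exact Or.inr ((heq c zC).mpr (Or.inl e))
      · exact Or.inl ((hker c).mpr (Or.inr e))
      · exact Or.inr ((heq c zC).mpr (Or.inr (e.trans hcz.symm)))
    · intro q hq _ hy
      obtain ⟨c, rfl⟩ := QuotientGroup.mk'_surjective _ q
      obtain ⟨y, hy, rfl⟩ := hy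
      refine ⟨c * y * c⁻¹, ?_, by rw [map_mul, map_mul, map_inv]⟩
      refine (hPmem _).mpr ⟨h.norm _ (hcommz c hq) _ ((hPmem _).mp hy).1, ?_⟩
      exact Subgroup.mem_centralizer_singleton_iff.mp (c * y * c⁻¹).2
    · rcases (hker zC').mp e with e | e
      · exact h'.ne_one e
      · exact hz't e
  set y := ((⟨x, hC x hxt⟩ : Subgroup.centralizer ({t} : Set G))⁻¹ * ⟨r, hC r ((hPmem r).mp hr).2⟩)⁻¹
  have hyz : π y * π zC * (π y)⁻¹ = π zC' := by
    rw [← map_inv, ← map_mul, ← map_mul]
    refine congrArg π (Subtype.ext ?_)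
    simp only [y, zC, zC', Subgroup.coe_mul, Subgroup.coe_inv]
    conv_lhs => rw [← hfin]
    group
  refine hL.isLarge_of_conj (g := π y) (by rw [hyz]; exact Subgroup.mem_map_of_mem π hz'P)
    (by rw [hyz]; exact hne) ?_
  -- order
  have hN : (Subgroup.zpowers t).subgroupOf (Subgroup.centralizer ({t} : Set G)) ≤ P1 := by
    intro c hc
    have : π c = 1 := (QuotientGroup.eq_one_iff c).mpr hc
    rcases (hker c).mp this with e | e
    · rw [show c = 1 from Subtype.ext e]; exact one_mem _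
    · refine (hPmem _).mpr ?_
      show (c : G) ∈ Q ∧ (c : G) * t = t * c
      rw [e]; exact ⟨htQ', rfl⟩
  have hcardP := HallCore.card_map_mk'_mul _ P1 hN
  rw [Nat.card_congr (Subgroup.subgroupOfEquivOfLe (Subgroup.zpowers_le.mpr (hC t rfl))).toEquiv,
    Nat.card_zpowers, ht, Nat.card_congr (Subgroup.subgroupOfEquivOfLe
      (show P ≤ Subgroup.centralizer ({t} : Set G) from hP ▸ inf_le_right)).toEquiv] at hcardP
  have hQP : Nat.card Q ≤ 2 * Nat.card P := by
    obtain ⟨q, hq, eq⟩ := h.partner t htQ' ht1 htz1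
    have hsub : (Q : Set G) ⊆ (P : Set G) ∪ (fun s => q⁻¹ * s) '' (P : Set G) := by
      intro s hs
      by_cases hst : s * t = t * s
      · exact Or.inl ((hPmem s).mpr ⟨hs, hst⟩)
      · exact Or.inr ⟨q * s, (hPmem _).mpr ⟨Q.mul_mem hq hs, mul_inv_eq_iff_eq_mul.mp
          (h.toExt.mul_fix hq eq ((h.toExt.not_comm_iff htQ' hs).mp hst))⟩, by group⟩
    have h1 := (Set.ncard_le_ncard hsub (Set.toFinite _)).trans (Set.ncard_union_le _ _)
    have h2 : ((fun s => q⁻¹ * s) '' (P : Set G)).ncard ≤ (P : Set G).ncard :=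
      Set.ncard_image_le (Set.toFinite _)
    rw [← SetLike.coe_sort_coe, ← SetLike.coe_sort_coe P, Nat.card_coe_set_eq, Nat.card_coe_set_eq]
    omega
  rw [hπ]
  omega

end Cfsg.Agent.S5429
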