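import Cfsg.Statements.S5431
import Cfsg.Agent.Lib.LargeExtraspecialPair

set_option autoImplicit false
open Cfsg

namespace Cfsg.Agent.S5431

/-- Let Q be a large extraspecial 2-subgroup of the finite group G (extraspecial; centralizer equal to its centre; normal in the centralizer of its centre; normalizing no non-trivial subgroup of odd order) with centre generated by z, an involution, of width w ≥ 2 (order 2^(2w+1)); let g be an element outside the centralizer H of z with g z g⁻¹ in Q; write V for the subgroup generated by z and g z g⁻¹, X for the subgroup generated by Q and g Q g⁻¹, R for the subgroup generated by the centralizer of z in g Q g⁻¹ and the centralizer of g z g⁻¹ in Q, and E for the intersection of Q and g Q g⁻¹. Then V is the centre of R, E lies in the second centre of R, R is nilpotent of class at most 3, E and R/E are elementary abelian, R/E is the direct product of the images of the centralizer of g z g⁻¹ in Q and of the centralizer of z in g Q g⁻¹ (R is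 their product and they meet in E), and the commutator subgroup of X and E lies in V. -/
theorem result {G : Type*} [Group G] [Finite G] (Q : Subgroup G) (hQ : Cfsg.IsLargeExtraspecial Q) (z : G) (hz : ((Subgroup.center ↥Q).map Q.subtype) = Subgroup.zpowers z) (hz2 : orderOf z = 2) (w : ℕ) (hw : 2 ≤ w) (hcard : Nat.card ↥Q = 2 ^ (2 * w + 1)) (g : G) (hgH : g ∉ Subgroup.centralizer ({z} : Set G)) (hgQ : g * z * g⁻¹ ∈ Q) (V X R E : Subgroup G) (hV : V = Subgroup.closure ({z, g * z * g⁻¹} : Set G)) (hX : X = Q ⊔ (Q).map (MulAut.conj g).toMonoidHom) (hR : R = ((Q).map (MulAut.conj g).toMonoidHom ⊓ Subgroup.centralizer ({z} : Set G)) ⊔ (Q ⊓ Subgroup.centralizer ({g * z * g⁻¹} : Set G))) (hE : E = Q ⊓ (Q).map (MulAut.conj g).toMonoidHom) : (Subgroup.center ↥R).map R.subtype = V ∧ E ≤ (Subgroup.upperCentralSeries ↥R 2).map R.subtype ∧ Subgroup.upperCentralSeries ↥R 3 = ⊤ ∧ Cfsg.IsElementaryAbelian 2 E ∧ (∀ x ∈ R, ∀ y ∈ R, x * y * x⁻¹ * y⁻¹ ∈ E ∧ x ^ 2 ∈ E) ∧ ((Q).map (MulAut.conj g).toMonoidHom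 ⊓ Subgroup.centralizer ({z} : Set G)) ⊓ (Q ⊓ Subgroup.centralizer ({g * z * g⁻¹} : Set G)) = E ∧ ⁅X, E⁆ ≤ V := by
  obtain ⟨z₀, h, he⟩ := LargeExtraspecial.exists_lhyp_of_large hQ
  obtain rfl : z₀ = z := by
    rcases h.toExt.eq_of_mem_zpowers (x := z) (by rw [← he, hz]; exact Subgroup.mem_zpowers z)
      with e | e
    · rw [e, orderOf_one] at hz2; exact absurd hz2 (by norm_num)
    · exact e.symm
  have h32 : 32 ≤ Nat.card Q := by
    rw [hcard]
    exact le_trans (by norm_num : 32 ≤ 2 ^ 5) (Nat.pow_le_pow_right (by norm_num) (by omega))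
  have hgz : g * z₀ * g⁻¹ ≠ z₀ := fun e =>
    hgH (Subgroup.mem_centralizer_singleton_iff.mpr (mul_inv_eq_iff_eq_mul.mp e))
  have P := LargeExtraspecialPair.pair_of_conj h hgQ hgz h32
  have eV : V = P.V := hV
  have eX : X = P.X := hX
  have eR : R = P.R := hR
  have eE : E = P.E := hE
  subst eV eX eR eE
  have hcR : ∀ r : ↥P.R, r ∈ Subgroup.center ↥P.R ↔ (r : G) ∈ P.V := fun r => by
    rw [Subgroup.mem_center_iff]
    exact ⟨fun hr => P.center_R r.2 fun s hs => congrArg Subtype.val (hr ⟨s, hs⟩),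
      fun hr s => Subtype.ext (P.V_comm s.2 hr)⟩
  have h2 : ∀ r : ↥P.R, (r : G) ∈ P.E → r ∈ Subgroup.upperCentralSeries ↥P.R 2 := fun r hr => by
    rw [Subgroup.mem_upperCentralSeries_succ_iff]
    intro y
    rw [Subgroup.upperCentralSeries_one, hcR, commutatorElement_def]
    have := (P.E_comm_V (P.R_le_X y.2) hr).1
    rw [show ((r * y * r⁻¹ * y⁻¹ : ↥P.R) : G) = ((y : G) * r * (y : G)⁻¹ * (r : G)⁻¹)⁻¹ by
      push_cast; group]
    exact inv_mem this
  refine ⟨?_, fun e he' => ⟨⟨e, (P.E_le_C.trans le_sup_right) he'⟩, h2 _ he', rfl⟩, ?_,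
    ⟨⟨⟨fun a b => Subtype.ext (P.E_comm a.2 b.2)⟩⟩, fun a ha => by
      rw [pow_two]; exact P.E_sq ha⟩,
    fun x hx y hy => ⟨P.R_comm hx hy, P.R_sq hx⟩, P.inf_eq, ?_⟩
  · refine le_antisymm ?_ fun v hv => ⟨⟨v, P.V_le_R hv⟩, (hcR _).mpr hv, rfl⟩
    rintro _ ⟨r, hr, rfl⟩
    exact (hcR r).mp hr
  · refine eq_top_iff.mpr fun r _ => ?_
    rw [Subgroup.mem_upperCentralSeries_succ_iff]
    intro y
    refine h2 _ ?_
    rw [commutatorElement_def]
    exact P.R_comm r.2 y.2
  · refine Subgroup.commutator_le.mpr fun x hx e he' => ?_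
    rw [commutatorElement_def]
    exact (P.E_comm_V hx he').1

end Cfsg.Agent.S5431
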