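import Cfsg.Statements.S5433
import Cfsg.Agent.Lib.LargeExtraspecialAct
-- import your own Cfsg.Agent.* helpers here

set_option autoImplicit false
open Cfsg

namespace Cfsg.Agent.S5433

/-- Let Q be a large extraspecial 2-subgroup of the finite group G (extraspecial; centralizer equal to its centre; normal in the centralizer of its centre; normalizing no non-trivial subgroup of odd order), and L a normal subgroup of G containing Q. Then G is the product of L and the normalizer of Q. -/
theorem result {G : Type*} [Group G] [Finite G] (Q : Subgroup G) (hQ : Cfsg.IsLargeExtraspecial Q) (L : Subgroup G) [L.Normal] (hQL : Q ≤ L) : L ⊔ Subgroup.normalizer (Q : Set G) = ⊤ := by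
  classical
  obtain ⟨z, h, -⟩ := Cfsg.Agent.LargeExtraspecial.exists_lhyp_of_large hQ
  haveI : Fact (Nat.Prime 2) := ⟨Nat.prime_two⟩
  have hp : IsPGroup 2 (Q.subgroupOf L) :=
    h.toExt.isPGroup.of_equiv (Subgroup.subgroupOfEquivOfLe hQL).symm
  obtain ⟨T, hT⟩ := hp.exists_le_sylow
  have hQT : ∀ x ∈ Q, ∃ t : L, t ∈ (T : Subgroup L) ∧ (t : G) = x :=
    fun x hx => ⟨⟨x, hQL hx⟩, hT (Subgroup.mem_subgroupOf.mpr hx), rfl⟩
  obtain ⟨zL, hzT, hzL⟩ := hQT z h.mem
  haveI : Nontrivial (T : Subgroup L) :=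
    ⟨⟨⟨zL, hzT⟩, 1, fun e => h.ne_one (hzL ▸ congrArg (fun t : (T : Subgroup L) => ((t : L) : G)) e)⟩⟩
  haveI := T.isPGroup'.center_nontrivial
  obtain ⟨⟨⟨c, hcT⟩, hcc⟩, hc1⟩ := exists_ne (1 : Subgroup.center (T : Subgroup L))
  have hccomm : ∀ t ∈ (T : Subgroup L), t * c = c * t := fun t ht =>
    congrArg Subtype.val (Subgroup.mem_center_iff.mp hcc ⟨t, ht⟩)
  have hcz : (c : G) = z := by
    rcases h.cent c fun x hx => by
        obtain ⟨t, ht, rfl⟩ := hQT x hx
        exact congrArg Subtype.val (hccomm t ht).symm with e | e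
    · exact absurd (Subtype.ext (Subtype.ext (Subtype.ext e))) hc1
    · exact e
  have hN : Subgroup.normalizer (((T : Subgroup L).map L.subtype : Subgroup G) : Set G) ≤
      Subgroup.normalizer (Q : Set G) := by
    intro g hg
    apply h.mem_normalizer
    have hg' : ∀ t ∈ (T : Subgroup L), ∃ t' : L, t' ∈ (T : Subgroup L) ∧ (t' : G) = g⁻¹ * t * g := by
      intro t ht
      obtain ⟨t', ht', e⟩ := (Subgroup.mem_normalizer_iff''.mp hg (t : G)).mp
        (Subgroup.mem_map.mpr ⟨t, ht, rfl⟩)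
      exact ⟨t', ht', e⟩
    have hcen : ∀ x ∈ Q, (g * z * g⁻¹) * x = x * (g * z * g⁻¹) := by
      intro x hx
      obtain ⟨t, ht, rfl⟩ := hQT x hx
      obtain ⟨t', ht', e⟩ := hg' t ht
      have hcomm : (t' : G) * z = z * t' := by
        rw [← hcz]; exact congrArg Subtype.val (hccomm t' ht')
      rw [e] at hcomm
      calc g * z * g⁻¹ * t = g * (z * (g⁻¹ * t * g)) * g⁻¹ := by group
        _ = g * (g⁻¹ * t * g * z) * g⁻¹ := by rw [hcomm]
        _ = t * (g * z * g⁻¹) := by group
    rcases h.cent _ hcen with e | e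
    · exact absurd (conj_eq_one_iff.mp e) h.ne_one
    · exact mul_inv_eq_iff_eq_mul.mp e
  rw [eq_top_iff, ← Sylow.normalizer_sup_eq_top T]
  exact sup_le (hN.trans le_sup_right) le_sup_left

end Cfsg.Agent.S5433
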