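import Cfsg.Statements.S5434
import Cfsg.Agent.Lib.LargeExtraspecialAct
-- import your own Cfsg.Agent.* helpers here

set_option autoImplicit false
open Cfsg

namespace Cfsg.Agent.S5434

open scoped commutatorElement

/-- Let Q be a large extraspecial 2-subgroup of the finite group G (extraspecial; centralizer equal to its centre; normal in the centralizer of its centre; normalizing no non-trivial subgroup of odd order), and A a non-trivial subgroup of odd order of the normalizer of Q. Then Q is the central product of the centralizer of A in Q and the commutator subgroup [Q, A] (they generate Q and commute elementwise), [Q, A] is extraspecial, and the centralizer of A in Q is either the centre of Q or extraspecial. -/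
theorem result {G : Type*} [Group G] [Finite G] (Q : Subgroup G) (hQ : Cfsg.IsLargeExtraspecial Q) (A : Subgroup G) (hA : A ≤ Subgroup.normalizer (Q : Set G)) (hAodd : Odd (Nat.card ↥A)) (hA1 : A ≠ ⊥) : (Q ⊓ Subgroup.centralizer (A : Set G)) ⊔ ⁅Q, A⁆ = Q ∧ (∀ x ∈ Q ⊓ Subgroup.centralizer (A : Set G), ∀ y ∈ ⁅Q, A⁆, x * y = y * x) ∧ Cfsg.IsExtraspecial 2 ↥⁅Q, A⁆ ∧ (Q ⊓ Subgroup.centralizer (A : Set G) = ((Subgroup.center ↥Q).map Q.subtype) ∨ Cfsg.IsExtraspecial 2 ↥(Q ⊓ Subgroup.centralizer (A : Set G))) := by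
  obtain ⟨z, h, he⟩ := Cfsg.Agent.LargeExtraspecial.exists_lhyp_of_large hQ
  have hAQ : ∀ a ∈ A, ∀ x ∈ Q, a * x * a⁻¹ ∈ Q := fun a ha x hx =>
    (Subgroup.mem_normalizer_iff.mp (hA ha) x).mp hx
  have hC := Cfsg.Agent.LargeExtraspecialAct.ext_centralizer h.toExt hAQ hAodd
  have hle := Cfsg.Agent.LargeExtraspecialAct.commutator_le h.toExt hAQ
  have hcomm : ∀ x ∈ Q ⊓ Subgroup.centralizer (A : Set G), ∀ y ∈ ⁅Q, A⁆, x * y = y * x :=
    fun x hx y hy => Cfsg.Agent.LargeExtraspecialAct.commute_commutator h.toExt hAQ hx hy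
  -- some commutator lies outside the centre
  obtain ⟨w, hw, hw1, hwz⟩ : ∃ w ∈ ⁅Q, A⁆, w ≠ 1 ∧ w ≠ z := by
    by_contra hno
    push Not at hno
    apply hA1
    rw [eq_bot_iff]
    intro a ha
    rw [Subgroup.mem_bot]
    have hfix : ∀ x ∈ Q, a * x = x * a := by
      intro x hx
      apply Cfsg.Agent.LargeExtraspecialAct.fix_mod h.toExt hAQ hAodd ha
      have hcm : ⁅x, a⁆ ∈ ⁅Q, A⁆ := Subgroup.commutator_mem_commutator hx ha
      by_cases h1 : ⁅x, a⁆ = 1
      · left
        rw [commutatorElement_eq_one_iff_mul_comm] at h1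
        rw [← h1, mul_inv_cancel_right]
      · right
        have e := hno _ hcm h1
        have e2 : ⁅x, a⁆⁻¹ = z := by rw [e, h.inv_z]
        rw [← e2, commutatorElement_def]; group
    rcases h.cent a hfix with e | e
    · exact e
    · exact h.eq_one_of_mem_odd hAodd ha (e ▸ h.mem)
  have hzW : z ∈ ⁅Q, A⁆ := by
    obtain ⟨r, hr, er⟩ := h.partner w (hle hw) hw1 hwz
    have := (⁅Q, A⁆).mul_mem
      (Cfsg.Agent.LargeExtraspecialAct.conj_mem_commutator h.toExt hr hw) ((⁅Q, A⁆).inv_mem hw)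
    rwa [er, mul_inv_cancel_right] at this
  have hW := Cfsg.Agent.LargeExtraspecialAct.ext_commutator h.toExt hAQ hAodd hzW
  refine ⟨le_antisymm (sup_le inf_le_left hle) fun y hy => ?_, hcomm,
    hW.isExtraspecial hw hw1 hwz, ?_⟩
  · obtain ⟨c, hc, v, hv, rfl⟩ :=
      Cfsg.Agent.LargeExtraspecialAct.decompose h.toExt hAQ hAodd hy
    exact Subgroup.mul_mem_sup hc hv
  · by_cases hbig : ∃ x ∈ Q ⊓ Subgroup.centralizer (A : Set G), x ≠ 1 ∧ x ≠ z
    · obtain ⟨x, hx, h1, h2⟩ := hbig
      exact Or.inr (hC.isExtraspecial hx h1 h2)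
    · left
      rw [he]
      apply le_antisymm
      · intro x hx
        by_cases h1 : x = 1
        · simp [h1]
        · by_cases h2 : x = z
          · simp [h2]
          · exact absurd ⟨x, hx, h1, h2⟩ hbig
      · exact Subgroup.zpowers_le.mpr hC.mem

end Cfsg.Agent.S5434
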