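import Cfsg.Statements.S5435
import Cfsg.Agent.Lib.LargeExtraspecial
import Cfsg.Agent.Lib.FocalControl
import Cfsg.Agent.Lib.TransferThompson
-- import your own Cfsg.Agent.* helpers here

set_option autoImplicit false
open Cfsg

namespace Cfsg.Agent.S5435

open Subgroup

/-- A subgroup containing all squares and avoiding `u` sits in an index two subgroup avoiding `u`. -/
theorem exists_index_two {P : Type*} [Group P] [Finite P] (N : Subgroup P) (u : P) (hu : u ∉ N)
    (hsq : ∀ x, x * x ∈ N) : ∃ H : Subgroup P, N ≤ H ∧ u ∉ H ∧ H.index = 2 := by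
  obtain ⟨H, hH⟩ := (Set.toFinite {H : Subgroup P | N ≤ H ∧ u ∉ H}).exists_maximal ⟨N, le_rfl, hu⟩
  have hNH : N ≤ H := hH.1.1
  have hcomm : ∀ x y : P, x * y * x⁻¹ * y⁻¹ ∈ N := fun x y => by
    have e : x * y * x⁻¹ * y⁻¹ = (x * y) * (x * y) * ((y⁻¹ * x⁻¹ * y) * (y⁻¹ * x⁻¹ * y)) * (y⁻¹ * y⁻¹) := by
      group
    rw [e]
    exact N.mul_mem (N.mul_mem (hsq _) (hsq _)) (hsq _)
  haveI hn : H.Normal := ⟨fun h hh g => by
    have : g * h * g⁻¹ = (g * h * g⁻¹ * h⁻¹) * h := by group
    rw [this]; exact H.mul_mem (hNH (hcomm g h)) hh⟩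
  have key : ∀ y, y ∉ H → y * u ∈ H := by
    intro y hy
    have hxm : u ∈ H ⊔ zpowers y := by
      by_contra hc
      exact hy (hH.2 ⟨hNH.trans le_sup_left, hc⟩ le_sup_left (mem_sup_right (mem_zpowers y)))
    obtain ⟨a, ha, b, hb, hab⟩ := mem_sup_of_normal_left.mp hxm
    obtain ⟨k, rfl⟩ := mem_zpowers_iff.mp hb
    have hpow : ∀ j : ℤ, y ^ (2 * j) ∈ H := fun j => by
      rw [zpow_mul, zpow_two]
      exact H.zpow_mem (hNH (hsq y)) _
    rcases Int.even_or_odd k with ⟨j, hj⟩ | ⟨j, hj⟩
    · exact absurd (hab ▸ H.mul_mem ha (by rw [hj, ← two_mul]; exact hpow j)) hH.1.2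
    · rw [← hab, hj]
      have e : y * (a * y ^ (2 * j + 1)) = (y * a * y⁻¹) * y ^ (2 * (j + 1)) := by group
      rw [e]
      exact H.mul_mem (hn.conj_mem a ha y) (hpow _)
  refine ⟨H, hNH, hH.1.2, index_eq_two_iff.mpr ⟨u, fun b => ?_⟩⟩
  by_cases hb : b ∈ H
  · exact Or.inr ⟨hb, fun h => hH.1.2 ((mul_mem_cancel_left hb).mp h)⟩
  · exact Or.inl ⟨key b hb, hb⟩

/-- A group of order dividing eight with the relations of `D₈` is `D₈`. -/
theorem iso_dihedral {G : Type*} [Group G] (R : Subgroup G) (a b : G) (ha : a ∈ R) (hb : b ∈ R)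
    (ha4 : a ^ 4 = 1) (ha2 : a ^ 2 ≠ 1) (hbb : b * b = 1) (hba : b * a * b⁻¹ = a⁻¹)
    (hnc : b * a ≠ a * b) (hgen : ∀ x ∈ R, ∃ k : ℕ, x = a ^ k ∨ x = b * a ^ k) :
    Nonempty (↥R ≃* DihedralGroup 4) := by
  have hper : ∀ k : ℕ, a ^ k = a ^ (k % 4) := fun k => by
    conv_lhs => rw [← Nat.mod_add_div k 4, pow_add, pow_mul, ha4, one_pow, mul_one]
  have hadd : ∀ i j : ZMod 4, a ^ (i + j).val = a ^ i.val * a ^ j.val := fun i j => by
    rw [ZMod.val_add, ← hper, pow_add]
  have hswap : ∀ i : ZMod 4, a ^ i.val * b = b * a ^ (-i).val := by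
    intro i
    have h1 : b * a ^ i.val * b⁻¹ = (a ^ i.val)⁻¹ := by rw [← conj_pow, hba, inv_pow]
    have h2 : a ^ (-i).val = (a ^ i.val)⁻¹ := by
      refine eq_inv_of_mul_eq_one_left ?_
      rw [← hadd, neg_add_cancel, ZMod.val_zero, pow_zero]
    have h3 : b⁻¹ = b := inv_eq_of_mul_eq_one_right hbb
    rw [h2, ← h1, h3, ← mul_assoc, ← mul_assoc, hbb, one_mul]
  let f : DihedralGroup 4 →* R :=
    MonoidHom.mk' (fun x => match x with
      | DihedralGroup.r i => ⟨a ^ i.val, R.pow_mem ha _⟩
      | DihedralGroup.sr i => ⟨b * a ^ i.val, R.mul_mem hb (R.pow_mem ha _)⟩)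
      (by
        rintro (i | i) (j | j)
        · exact Subtype.ext (hadd i j)
        · refine Subtype.ext ?_
          show b * a ^ (j - i).val = a ^ i.val * (b * a ^ j.val)
          rw [← mul_assoc, hswap, mul_assoc, ← hadd, sub_eq_neg_add]
        · refine Subtype.ext ?_
          show b * a ^ (i + j).val = b * a ^ i.val * a ^ j.val
          rw [mul_assoc, hadd]
        · refine Subtype.ext ?_
          show a ^ (j - i).val = b * a ^ i.val * (b * a ^ j.val)
          rw [mul_assoc b, ← mul_assoc (a ^ i.val) b, hswap, ← mul_assoc, ← mul_assoc, hbb, one_mul,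
            ← hadd, sub_eq_neg_add])
  have hbpow : ∀ k : ℕ, b ≠ a ^ k := fun k e => hnc (by
    rw [e]; exact (Commute.self_pow a k).eq.symm)
  have hinj : Function.Injective f := by
    rw [injective_iff_map_eq_one]
    rintro (i | i) e
    · have e' : a ^ i.val = 1 := congrArg Subtype.val e
      fin_cases i
      · rfl
      · exact absurd (by rw [pow_two]; exact (by
          have : a = 1 := by simpa [ZMod.val] using e'
          simp [this])) ha2
      · exact absurd (by simpa [ZMod.val] using e') ha2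
      · refine absurd ?_ ha2
        have : a ^ 3 = 1 := by simpa [ZMod.val] using e'
        have h' : a = 1 := by
          rw [← ha4, pow_succ, this, one_mul]
        simp [h']
    · have e' : b * a ^ i.val = 1 := congrArg Subtype.val e
      exfalso
      apply hbpow i.val
      have h3 : b⁻¹ = a ^ i.val := inv_eq_of_mul_eq_one_right e'
      rw [← h3, inv_eq_of_mul_eq_one_right hbb]
  have hsurj : Function.Surjective f := by
    rintro ⟨x, hx⟩
    obtain ⟨k, e | e⟩ := hgen x hx
    · exact ⟨DihedralGroup.r (k : ZMod 4), Subtype.ext (by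
        show a ^ (k : ZMod 4).val = x
        rw [ZMod.val_natCast, ← hper, e])⟩
    · exact ⟨DihedralGroup.sr (k : ZMod 4), Subtype.ext (by
        show b * a ^ (k : ZMod 4).val = x
        rw [ZMod.val_natCast, ← hper, e])⟩
  exact ⟨(MulEquiv.ofBijective f ⟨hinj, hsurj⟩).symm⟩

/-- Let L be a finite non-abelian simple group with an involution z whose centralizer R is a Sylow 2-subgroup of L whose Frattini subgroup is the subgroup generated by z. Then R is dihedral of order 8. -/
theorem result {L : Type*} [Group L] [Finite L] [IsSimpleGroup L] (hL : ¬ IsMulCommutative L) (z : L) (hz : orderOf z = 2) (R : Sylow 2 L) (hR : (R : Subgroup L) = Subgroup.centralizer ({z} : Set L)) (hΦ : (frattini ↥(R : Subgroup L)).map (R : Subgroup L).subtype = Subgroup.zpowers z) : Nonempty (↥(R : Subgroup L) ≃* DihedralGroup 4) := by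
  classical
  haveI : Fact (Nat.Prime 2) := ⟨Nat.prime_two⟩
  have hzz : z * z = 1 := by rw [← pow_two, ← hz, pow_orderOf_eq_one]
  have hz1 : z ≠ 1 := fun e => by simp [e] at hz
  have hzi : z⁻¹ = z := inv_eq_of_mul_eq_one_right hzz
  have hRmem : ∀ x, x ∈ (R : Subgroup L) ↔ x * z = z * x := fun x => by
    rw [hR, mem_centralizer_singleton_iff]
  have hzR : z ∈ (R : Subgroup L) := (hRmem z).mpr rfl
  have hcen : ∀ x ∈ (R : Subgroup L), x * z = z * x := fun x hx => (hRmem x).mp hx
  have hpow01 : ∀ x ∈ Subgroup.zpowers z, x = 1 ∨ x = z := by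
    intro x hx
    obtain ⟨k, rfl⟩ := mem_zpowers_iff.mp hx
    rcases Int.even_or_odd k with ⟨j, rfl⟩ | ⟨j, rfl⟩
    · left; rw [← two_mul, zpow_mul, zpow_two, hzz, one_zpow]
    · right; rw [zpow_add, zpow_mul, zpow_two, hzz, one_zpow, one_mul, zpow_one]
  have hsq : ∀ x ∈ (R : Subgroup L), x * x = 1 ∨ x * x = z := by
    intro x hx
    apply hpow01
    rw [← hΦ]
    exact ⟨_, LargeExtraspecial.sq_mem_frattini R.isPGroup' (⟨x, hx⟩ : (R : Subgroup L)), rfl⟩
  have hcom : ∀ x ∈ (R : Subgroup L), ∀ y ∈ (R : Subgroup L),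
      x * y * x⁻¹ = y ∨ x * y * x⁻¹ = z * y := by
    intro x hx y hy
    have hxy := (R : Subgroup L).mul_mem hx hy
    have hxy' := (R : Subgroup L).mul_mem
      ((R : Subgroup L).mul_mem ((R : Subgroup L).inv_mem hy) ((R : Subgroup L).inv_mem hx)) hy
    have e : x * y * x⁻¹ = (x * y) * (x * y) * ((y⁻¹ * x⁻¹ * y) * (y⁻¹ * x⁻¹ * y)) * (y⁻¹ * y⁻¹) * y := by
      group
    rw [e]
    rcases hsq _ hxy with e1 | e1 <;> rcases hsq _ hxy' with e2 | e2 <;>
      rcases hsq _ ((R : Subgroup L).inv_mem hy) with e3 | e3 <;> rw [e1, e2, e3] <;> simp [hzz]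
  -- a square root of `z`
  obtain ⟨s₀, hs₀, hss₀⟩ : ∃ s ∈ (R : Subgroup L), s * s = z := by
    by_contra hno
    push Not at hno
    have hab : ∀ a b : (R : Subgroup L), a * b * a⁻¹ * b⁻¹ = 1 := by
      intro a b
      have q : ∀ c : (R : Subgroup L), c⁻¹ = c := fun c =>
        inv_eq_of_mul_eq_one_right (Subtype.ext ((hsq c c.2).resolve_right (hno c c.2)))
      rw [q a, q b, mul_assoc (a * b)]
      exact mul_eq_one_iff_eq_inv.mpr (q (a * b)).symm
    have hbot : frattini ↥(R : Subgroup L) ≤ ⊥ :=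
      LargeExtraspecial.frattini_le_of_sq_mem ⊥
        (fun c => Subgroup.mem_bot.mpr (Subtype.ext ((hsq c c.2).resolve_right (hno c c.2))))
        (fun a b => Subgroup.mem_bot.mpr (hab a b))
    rw [le_bot_iff.mp hbot, Subgroup.map_bot] at hΦ
    exact hz1 (Subgroup.mem_bot.mp (hΦ ▸ Subgroup.mem_zpowers z : z ∈ (⊥ : Subgroup L)))
  -- `N(R) = R`
  have hN : ∀ n ∈ normalizer ((R : Subgroup L) : Set L), n ∈ (R : Subgroup L) := by
    intro n hn
    rw [hRmem]
    rcases hsq _ ((mem_normalizer_iff.mp hn s₀).mp hs₀) with e | e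
    · exfalso
      apply hz1
      have : n * z * n⁻¹ = 1 := by
        refine Eq.trans ?_ e
        rw [← hss₀]; group
      exact conj_eq_one_iff.mp this
    · have : n * z * n⁻¹ = z := by
        refine Eq.trans ?_ e
        rw [← hss₀]; group
      exact mul_inv_eq_iff_eq_mul.mp this
  -- central elements of `R` are not fused
  have hfuse : ∀ (x g : L), x ∈ (R : Subgroup L) → (∀ y ∈ (R : Subgroup L), y * x = x * y) →
      g * x * g⁻¹ ∈ (R : Subgroup L) →
      (∀ y ∈ (R : Subgroup L), y * (g * x * g⁻¹) = (g * x * g⁻¹) * y) → g * x * g⁻¹ = x := by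
    intro x g _ hx _ hy
    obtain ⟨n, hn, e⟩ := Sylow.conj_eq_normalizer_conj_of_mem_centralizer R x g⁻¹
      (mem_centralizer_iff.mpr hx) (mem_centralizer_iff.mpr (by rw [inv_inv]; exact hy))
    rw [inv_inv] at e
    rw [e, mul_assoc, ← hx _ (hN n hn), inv_mul_cancel_left]
  have hnc : _root_.commutator L = ⊤ := by
    rcases (inferInstance : (_root_.commutator L).Normal).eq_bot_or_eq_top with e | e
    · exfalso
      apply hL
      rw [_root_.commutator_def, commutator_eq_bot_iff_le_centralizer] at e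
      exact ⟨⟨fun a b => (mem_centralizer_iff.mp (e (mem_top a)) b (mem_top b)).symm⟩⟩
    · exact e
  have hno2 : ∀ M : Subgroup L, M.Normal → M.index ≠ 2 := by
    intro M hM hi
    haveI := hM
    rcases hM.eq_bot_or_eq_top with e | e
    · apply hL
      rw [e, index_bot] at hi
      haveI := isCyclic_of_prime_card (p := 2) hi
      exact ⟨⟨fun a b => letI := IsCyclic.commGroup (α := L); mul_comm a b⟩⟩
    · rw [e, index_top] at hi; omega
  -- some other conjugate of `z` lies in `R`
  obtain ⟨g, hgR, hgz⟩ : ∃ g, g * z * g⁻¹ ∈ (R : Subgroup L) ∧ g * z * g⁻¹ ≠ z := by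
    by_contra hno
    push Not at hno
    have hctrl : ∀ x ∈ (R : Subgroup L), ∀ u : L, u * x * u⁻¹ ∈ (R : Subgroup L) →
        ∃ n ∈ (R : Subgroup L), n * x * n⁻¹ = u * x * u⁻¹ := by
      intro x hx u hy
      set y := u * x * u⁻¹ with hydef
      have hzC : z ∈ centralizer ({y} : Set L) :=
        mem_centralizer_singleton_iff.mpr (hcen y hy).symm
      have hzC' : u * z * u⁻¹ ∈ centralizer ({y} : Set L) := by
        rw [mem_centralizer_singleton_iff, hydef]
        calc u * z * u⁻¹ * (u * x * u⁻¹) = u * (z * x) * u⁻¹ := by group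
          _ = _ := by rw [← hcen x hx]; group
      have hp : ∀ w : centralizer ({y} : Set L), (w : L) * w = 1 → IsPGroup 2 (zpowers w) := by
        intro w hw
        obtain ⟨i, -, hi⟩ := (Nat.dvd_prime_pow Nat.prime_two).mp
          (orderOf_dvd_of_pow_eq_one (x := w) (n := 2 ^ 1) (by rw [pow_one, pow_two]; exact Subtype.ext hw))
        exact IsPGroup.of_card (n := i) (by rw [Nat.card_zpowers]; exact hi)
      have huu : u * z * u⁻¹ * (u * z * u⁻¹) = 1 := by
        calc u * z * u⁻¹ * (u * z * u⁻¹) = u * (z * z) * u⁻¹ := by group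
          _ = 1 := by rw [hzz]; group
      obtain ⟨S₁, hS₁⟩ := (hp ⟨z, hzC⟩ hzz).exists_le_sylow
      obtain ⟨S₂, hS₂⟩ := (hp ⟨_, hzC'⟩ huu).exists_le_sylow
      obtain ⟨c, rfl⟩ := MulAction.exists_smul_eq (centralizer ({y} : Set L)) S₂ S₁
      obtain ⟨T, hT⟩ := ((c • S₂).isPGroup'.map (centralizer ({y} : Set L)).subtype).exists_le_sylow
      obtain ⟨t, rfl⟩ := MulAction.exists_smul_eq L R T
      have hTmem : ∀ w : L, w ∈ ((t • R : Sylow 2 L) : Subgroup L) → t⁻¹ * w * t ∈ (R : Subgroup L) := by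
        intro w hw
        rwa [Sylow.coe_subgroup_smul, mem_pointwise_smul_iff_inv_smul_mem, ← map_inv,
          MulAut.smul_def, MulAut.conj_apply, inv_inv] at hw
      have h1 := hTmem _ (hT ⟨_, hS₁ (mem_zpowers _), rfl⟩)
      have h2 := hTmem ((c : L) * (u * z * u⁻¹) * (c : L)⁻¹) (hT ⟨c * ⟨_, hzC'⟩ * c⁻¹, by
          rw [Sylow.coe_subgroup_smul, SetLike.mem_coe, mem_pointwise_smul_iff_inv_smul_mem,
            ← map_inv, MulAut.smul_def, MulAut.conj_apply, inv_inv]
          have e : c⁻¹ * (c * ⟨_, hzC'⟩ * c⁻¹) * c = (⟨_, hzC'⟩ : centralizer ({y} : Set L)) := by group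
          rw [e]; exact hS₂ (mem_zpowers _), rfl⟩)
      have e1 := hno t⁻¹ (by rw [inv_inv]; exact h1)
      rw [inv_inv] at e1
      have e2 := hno (t⁻¹ * c * u) (by
        have e : (t⁻¹ * c * u) * z * (t⁻¹ * c * u)⁻¹ =
          t⁻¹ * ((c : L) * (u * z * u⁻¹) * (c : L)⁻¹) * t := by group
        rw [e]; exact h2)
      refine ⟨(c : L) * u, (hRmem _).mpr (mul_inv_eq_iff_eq_mul.mp ?_), ?_⟩
      · calc (c : L) * u * z * ((c : L) * u)⁻¹
            = t * ((t⁻¹ * c * u) * z * (t⁻¹ * c * u)⁻¹) * t⁻¹ := by group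
          _ = t * (t⁻¹ * z * t) * t⁻¹ := by rw [e2, e1]
          _ = z := by group
      · have hc := mem_centralizer_singleton_iff.mp c.2
        calc (c : L) * u * x * ((c : L) * u)⁻¹ = (c : L) * (u * x * u⁻¹) * (c : L)⁻¹ := by group
          _ = (c : L) * y * (c : L)⁻¹ := rfl
          _ = y := by rw [hc, mul_inv_cancel_right]
    have h1 := FocalControl.focalSubgroup_le_commutator_of_control _ _ hctrl
    rw [← commutator_inf_eq_focalSubgroup R, hnc, top_inf_eq] at h1
    have h2 : (R : Subgroup L) ≤ Subgroup.zpowers z := by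
      refine h1.trans ((Subgroup.commutator_le).mpr fun a ha b hb => ?_)
      rcases hcom a ha b hb with e | e <;> rw [commutatorElement_def, e]
      · rw [mul_inv_cancel]; exact one_mem _
      · rw [mul_inv_cancel_right]; exact mem_zpowers z
    rcases hpow01 _ (h2 hs₀) with e | e
    · rw [e, one_mul] at hss₀; exact hz1 hss₀.symm
    · rw [e, hzz] at hss₀; exact hz1 hss₀.symm
  -- notation for a conjugate
  have hnotcentral : ∀ h : L, h * z * h⁻¹ ∈ (R : Subgroup L) → h * z * h⁻¹ ≠ z →
      ∃ q ∈ (R : Subgroup L), q * (h * z * h⁻¹) * q⁻¹ = z * (h * z * h⁻¹) := by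
    intro h hh hne
    by_contra hno
    push Not at hno
    exact hne (hfuse z h hzR hcen hh fun y hy =>
      mul_inv_eq_iff_eq_mul.mp ((hcom y hy _ hh).resolve_right (hno y hy)))
  -- elements of the form `z'' v`
  have hclass : ∀ h : L, h * z * h⁻¹ ∈ (R : Subgroup L) → h * z * h⁻¹ ≠ z →
      ∀ v ∈ (R : Subgroup L), (∀ y ∈ (R : Subgroup L), y * v = v * y) → v * v = 1 →
      IsConj (h * z * h⁻¹ * v) v ∨ IsConj (h * z * h⁻¹ * v) (z * v) := by
    intro h hh hne v hv hvc hvv
    set z' := h * z * h⁻¹ with hz'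
    obtain ⟨q, hq, eq⟩ := hnotcentral h hh hne
    have hz'z' : z' * z' = 1 := by
      calc z' * z' = h * (z * z) * h⁻¹ := by rw [hz']; group
        _ = 1 := by rw [hzz]; group
    -- move `z` and `z'` into the other centraliser
    have hback : ∀ w : L, w * z' = z' * w → h⁻¹ * w * h ∈ (R : Subgroup L) := by
      intro w hw
      rw [hRmem]
      calc h⁻¹ * w * h * z = h⁻¹ * (w * z') * h := by rw [hz']; group
        _ = h⁻¹ * (z' * w) * h := by rw [hw]
        _ = _ := by rw [hz']; group
    have hzz' : z * z' = z' * z := (hcen z' hh).symm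
    have h1 := hback z hzz'
    have h1ne : h⁻¹ * z * h ≠ z := fun e => hne (by
      calc z' = h * z * h⁻¹ := hz'
        _ = h * (h⁻¹ * z * h) * h⁻¹ := by rw [e]
        _ = z := by group)
    obtain ⟨q₀, hq₀, eq₀⟩ := hnotcentral h⁻¹ (by rw [inv_inv]; exact h1) (by rw [inv_inv]; exact h1ne)
    rw [inv_inv] at eq₀
    set q' := h * q₀ * h⁻¹ with hq'
    have eq' : q' * z * q'⁻¹ = z' * z := by
      calc q' * z * q'⁻¹ = h * (q₀ * (h⁻¹ * z * h) * q₀⁻¹) * h⁻¹ := by rw [hq']; group
        _ = z' * z := by rw [eq₀, hz']; group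
    have hq'z' : q' * z' * q'⁻¹ = z' := by
      calc q' * z' * q'⁻¹ = h * (q₀ * z * q₀⁻¹) * h⁻¹ := by rw [hq', hz']; group
        _ = z' := by rw [mul_inv_eq_iff_eq_mul.mpr (hcen q₀ hq₀)]
    -- how `q'` acts on `v`
    have hvz' : v * z' = z' * v := (hvc z' hh).symm
    have hv' := hback v hvz'
    have eqv : q' * v * q'⁻¹ = v ∨ q' * v * q'⁻¹ = z' * v := by
      have : q' * v * q'⁻¹ = h * (q₀ * (h⁻¹ * v * h) * q₀⁻¹) * h⁻¹ := by rw [hq']; group
      rw [this]
      rcases hcom q₀ hq₀ _ hv' with e | e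
      · exact Or.inl (by rw [e]; group)
      · exact Or.inr (by rw [e, hz']; group)
    have hq'2 : q'⁻¹ * (z * z') * q' = z := by
      rw [hzz', ← eq']; group
    have hqv : q * v * q⁻¹ = v := mul_inv_eq_iff_eq_mul.mpr (hvc q hq)
    rcases eqv with e | e
    · right
      refine isConj_iff.mpr ⟨q'⁻¹ * q, ?_⟩
      calc q'⁻¹ * q * (z' * v) * (q'⁻¹ * q)⁻¹
          = q'⁻¹ * ((q * z' * q⁻¹) * (q * v * q⁻¹)) * q' := by group
        _ = q'⁻¹ * ((z * z') * v) * q' := by rw [eq, hqv]
        _ = (q'⁻¹ * (z * z') * q') * (q'⁻¹ * (q' * v * q'⁻¹) * q') := by rw [e]; group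
        _ = z * v := by rw [hq'2]; group
    · left
      refine isConj_iff.mpr ⟨q'⁻¹, ?_⟩
      rw [← e]; group
  set z' := g * z * g⁻¹ with hz'def
  obtain ⟨q, hq, eq⟩ := hnotcentral g hgR hgz
  clear_value z'
  rw [← hz'def] at eq
  have hz'1 : z' ≠ 1 := fun e => hz1 (conj_eq_one_iff.mp (hz'def ▸ e))
  have hz'z' : z' * z' = 1 := by
    calc z' * z' = g * (z * z) * g⁻¹ := by rw [hz'def]; group
      _ = 1 := by rw [hzz]; group
  have hzz' : z * z' = z' * z := (hcen z' hgR).symm
  have hqnc : ¬ q * z' = z' * q := fun e => by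
    rw [e, mul_inv_cancel_right] at eq
    exact hz1 (mul_eq_right.mp eq.symm)
  have hmoves : ∀ y ∈ (R : Subgroup L), ¬ y * z' = z' * y → y * z' * y⁻¹ = z * z' := fun y hy hne =>
    (hcom y hy z' hgR).resolve_left fun e => hne (mul_inv_eq_iff_eq_mul.mp e)
  have hprodfix : ∀ y ∈ (R : Subgroup L), ∀ w ∈ (R : Subgroup L), ¬ y * z' = z' * y →
      ¬ w * z' = z' * w → (y * w) * z' = z' * (y * w) := by
    intro y hy w hw hny hnw
    apply mul_inv_eq_iff_eq_mul.mp
    calc y * w * z' * (y * w)⁻¹ = y * (w * z' * w⁻¹) * y⁻¹ := by group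
      _ = (y * z) * z' * y⁻¹ := by rw [hmoves w hw hnw]; group
      _ = z * (y * z' * y⁻¹) := by rw [hcen y hy]; group
      _ = z' := by rw [hmoves y hy hny, ← mul_assoc, hzz, one_mul]
  -- `P = C_R(z')` is elementary abelian
  have hPsq : ∀ p ∈ (R : Subgroup L), p * z' = z' * p → p * p = 1 := by
    intro p hp hpz
    rcases hsq p hp with e | e
    · exact e
    exfalso
    have hpg : g⁻¹ * p * g ∈ (R : Subgroup L) := by
      rw [hRmem]
      calc g⁻¹ * p * g * z = g⁻¹ * (p * z') * g := by rw [hz'def]; group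
        _ = g⁻¹ * (z' * p) * g := by rw [hpz]
        _ = _ := by rw [hz'def]; group
    have e' : g⁻¹ * z * g = g⁻¹ * p * g * (g⁻¹ * p * g) := by rw [← e]; group
    rcases hsq _ hpg with e2 | e2
    · rw [e2] at e'
      apply hz1
      calc z = g * (g⁻¹ * z * g) * g⁻¹ := by group
        _ = 1 := by rw [e']; group
    · rw [e2] at e'
      apply hgz
      calc z' = g * (g⁻¹ * z * g) * g⁻¹ := by rw [e', hz'def]
        _ = z := by group
  have hPcomm : ∀ p ∈ (R : Subgroup L), p * z' = z' * p → ∀ p' ∈ (R : Subgroup L),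
      p' * z' = z' * p' → p * p' = p' * p := by
    intro p hp hpz p' hp' hp'z
    have h3 : (p * p') * z' = z' * (p * p') := by rw [mul_assoc, hp'z, ← mul_assoc, hpz, mul_assoc]
    have e := inv_eq_of_mul_eq_one_right (hPsq _ ((R : Subgroup L).mul_mem hp hp') h3)
    rw [mul_inv_rev, inv_eq_of_mul_eq_one_right (hPsq _ hp hpz),
      inv_eq_of_mul_eq_one_right (hPsq _ hp' hp'z)] at e
    exact e.symm
  have hcentralP : ∀ p ∈ (R : Subgroup L), p * z' = z' * p → ∀ s ∈ (R : Subgroup L),
      ¬ s * z' = z' * s → p * s = s * p → ∀ y ∈ (R : Subgroup L), y * p = p * y := by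
    intro p hp hpz s hs hns hps y hy
    by_cases hyz : y * z' = z' * y
    · exact hPcomm y hy hyz p hp hpz
    · have h3 := hPcomm _ ((R : Subgroup L).mul_mem hs hy) (hprodfix s hs y hy hns hyz) p hp hpz
      rw [mul_assoc, ← mul_assoc p s, hps, mul_assoc] at h3
      exact mul_left_cancel h3
  have hZinP : ∀ p ∈ (R : Subgroup L), p * z' = z' * p →
      (∀ y ∈ (R : Subgroup L), y * p = p * y) ∨
        (∀ y ∈ (R : Subgroup L), y * (z' * p) = (z' * p) * y) := by
    intro p hp hpz
    rcases hcom q hq p hp with e | e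
    · exact Or.inl (hcentralP p hp hpz q hq hqnc (mul_inv_eq_iff_eq_mul.mp e).symm)
    · refine Or.inr (hcentralP _ ((R : Subgroup L).mul_mem hgR hp) ?_ q hq hqnc ?_)
      · rw [mul_assoc, hpz]
      · symm
        apply mul_inv_eq_iff_eq_mul.mp
        calc q * (z' * p) * q⁻¹ = (q * z' * q⁻¹) * (q * p * q⁻¹) := by group
          _ = (z * z') * (z * p) := by rw [eq, e]
          _ = (z * z) * (z' * p) := by
            rw [mul_assoc, ← mul_assoc z' z p, ← hzz']; group
          _ = z' * p := by rw [hzz, one_mul]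
  by_cases hsmall : ∀ v ∈ (R : Subgroup L), (∀ y ∈ (R : Subgroup L), y * v = v * y) → v = 1 ∨ v = z
  · -- `R` is dihedral
    obtain ⟨a, ha, ha2, hna⟩ : ∃ a ∈ (R : Subgroup L), a * a = z ∧ ¬ a * z' = z' * a := by
      rcases hsq q hq with e | e
      · refine ⟨q * z', (R : Subgroup L).mul_mem hq hgR, ?_, fun h' => hqnc ?_⟩
        · calc q * z' * (q * z') = (q * z' * q⁻¹) * (q * q) * z' := by group
            _ = z * (z' * z') := by rw [eq, e]; group
            _ = z := by rw [hz'z', mul_one]
        · rw [← mul_assoc] at h'; exact mul_right_cancel h'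
      · exact ⟨q, hq, e, hqnc⟩
    have hai : a⁻¹ = z * a := by
      refine inv_eq_of_mul_eq_one_right ?_
      rw [← mul_assoc, hcen a ha, mul_assoc, ha2, hzz]
    refine iso_dihedral _ a z' ha hgR (by
      rw [show 4 = 2 + 2 from rfl, pow_add, pow_two, ha2, hzz]) (by rw [pow_two, ha2]; exact hz1)
      hz'z' ?_ (fun e => hna e.symm) ?_
    · have e := hmoves a ha hna
      rw [mul_inv_eq_iff_eq_mul] at e
      calc z' * a * z'⁻¹ = z * ((z * z') * a) * z' := by
            rw [inv_eq_of_mul_eq_one_right hz'z', ← mul_assoc z, ← mul_assoc z, hzz, one_mul]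
        _ = z * (a * z') * z' := by rw [e]
        _ = z * a * (z' * z') := by group
        _ = a⁻¹ := by rw [hz'z', mul_one, hai]
    · have hP4 : ∀ p ∈ (R : Subgroup L), p * z' = z' * p →
          ∃ k : ℕ, p = a ^ k ∨ p = z' * a ^ k := by
        intro p hp hpz
        rcases hZinP p hp hpz with hc | hc
        · rcases hsmall p hp hc with e | e
          · exact ⟨0, Or.inl (by rw [e, pow_zero])⟩
          · exact ⟨2, Or.inl (by rw [e, pow_two, ha2])⟩
        · have ep : p = z' * (z' * p) := by rw [← mul_assoc, hz'z', one_mul]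
          rcases hsmall _ ((R : Subgroup L).mul_mem hgR hp) hc with e | e
          · exact ⟨0, Or.inr (ep.trans (by rw [e, pow_zero]))⟩
          · exact ⟨2, Or.inr (ep.trans (by rw [e, pow_two, ha2]))⟩
      intro x hx
      by_cases hxz : x * z' = z' * x
      · exact hP4 x hx hxz
      · obtain ⟨k, hk⟩ := hP4 (x * a) ((R : Subgroup L).mul_mem hx ha) (hprodfix x hx a ha hxz hna)
        have ha4 : a * a ^ 3 = 1 := by
          rw [← pow_succ', show 3 + 1 = 2 + 2 from rfl, pow_add, pow_two, ha2, hzz]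
        have ex : x = (x * a) * a ^ 3 := by rw [mul_assoc, ha4, mul_one]
        refine ⟨k + 3, ?_⟩
        rcases hk with e | e <;> rw [e] at ex
        · exact Or.inl (by rw [pow_add]; exact ex)
        · exact Or.inr (by rw [pow_add, ← mul_assoc]; exact ex)
  · exfalso
    push Not at hsmall
    obtain ⟨u, huR, huc, hu1, huz⟩ := hsmall
    have huP : u * z' = z' * u := (huc z' hgR).symm
    have huu := hPsq u huR huP
    have hu2 : orderOf u = 2 := orderOf_eq_prime (by rw [pow_two]; exact huu) hu1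
    -- the element outside `P`
    obtain ⟨q₁, hq₁, hnq₁, hq₁c⟩ : ∃ q₁ ∈ (R : Subgroup L), ¬ q₁ * z' = z' * q₁ ∧
        ((∃ h, q₁ = h * z * h⁻¹) ∨
          ∀ h : L, h * z * h⁻¹ ∈ (R : Subgroup L) → (h * z * h⁻¹) * z' = z' * (h * z * h⁻¹)) := by
      by_cases hc : ∃ h : L, h * z * h⁻¹ ∈ (R : Subgroup L) ∧ ¬ (h * z * h⁻¹) * z' = z' * (h * z * h⁻¹)
      · obtain ⟨h, hh, hnh⟩ := hc
        exact ⟨_, hh, hnh, Or.inl ⟨h, rfl⟩⟩
      · push Not at hc
        exact ⟨q, hq, hqnc, Or.inr hc⟩
    have hq₁z : q₁ * z' * q₁⁻¹ = z * z' := hmoves q₁ hq₁ hnq₁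
    let V : Subgroup ↥(R : Subgroup L) := Subgroup.closure {⟨z, hzR⟩, ⟨z', hgR⟩}
    have hV : ∀ v ∈ V, (v : L) = 1 ∨ (v : L) = z ∨ (v : L) = z' ∨ (v : L) = z * z' := by
      intro v hv
      induction hv using Subgroup.closure_induction with
      | mem x hx =>
        rcases hx with e | e
        · exact Or.inr (Or.inl (congrArg Subtype.val e))
        · exact Or.inr (Or.inr (Or.inl (congrArg Subtype.val e)))
      | one => exact Or.inl rfl
      | mul x y _ _ hx hy =>
        rw [coe_mul]
        have f1 : z * (z * z') = z' := by rw [← mul_assoc, hzz, one_mul]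
        have f2 : z' * (z * z') = z := by rw [hzz', ← mul_assoc, hz'z', one_mul]
        have f3 : z * z' * z = z' := by rw [hzz', mul_assoc, hzz, mul_one]
        have f4 : z * z' * z' = z := by rw [mul_assoc, hz'z', mul_one]
        have f5 : z * z' * (z * z') = 1 := by rw [← mul_assoc, f3, hz'z']
        rcases hx with e | e | e | e <;> rcases hy with e' | e' | e' | e' <;> rw [e, e'] <;>
          simp [hzz, hz'z', f1, f2, f3, f4, f5, hzz'.symm]
      | inv x _ hx =>
        rw [coe_inv]
        rcases hx with e | e | e | e <;> rw [e] <;>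
          simp [hzi, inv_eq_of_mul_eq_one_right hz'z', hzz']
    have hzV : (⟨z, hzR⟩ : ↥(R : Subgroup L)) ∈ V := subset_closure (Or.inl rfl)
    haveI hVn : V.Normal := ⟨fun v hv c => by
      rcases hcom c c.2 v v.2 with e | e
      · rw [show c * v * c⁻¹ = v from Subtype.ext e]; exact hv
      · rw [show c * v * c⁻¹ = ⟨z, hzR⟩ * v from Subtype.ext e]; exact V.mul_mem hzV hv⟩
    have hNu : (⟨u, huR⟩ : ↥(R : Subgroup L)) ∉ V ⊔ Subgroup.zpowers ⟨q₁, hq₁⟩ := by
      intro hmem
      obtain ⟨v, hv, w, hw, e⟩ := mem_sup_of_normal_left.mp hmem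
      obtain ⟨k, rfl⟩ := mem_zpowers_iff.mp hw
      have hwV : (⟨q₁, hq₁⟩ : ↥(R : Subgroup L)) ^ k ∈ V ∨
          ∃ v' ∈ V, (⟨q₁, hq₁⟩ : ↥(R : Subgroup L)) ^ k = v' * ⟨q₁, hq₁⟩ := by
        have hsqV : (⟨q₁, hq₁⟩ : ↥(R : Subgroup L)) * ⟨q₁, hq₁⟩ ∈ V := by
          rcases hsq q₁ hq₁ with e' | e'
          · rw [show (⟨q₁, hq₁⟩ : ↥(R : Subgroup L)) * ⟨q₁, hq₁⟩ = 1 from Subtype.ext e']
            exact one_mem _
          · rw [show (⟨q₁, hq₁⟩ : ↥(R : Subgroup L)) * ⟨q₁, hq₁⟩ = ⟨z, hzR⟩ from Subtype.ext e']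
            exact hzV
        rcases Int.even_or_odd k with ⟨j, rfl⟩ | ⟨j, rfl⟩
        · left; rw [← two_mul, zpow_mul, zpow_two]; exact V.zpow_mem hsqV j
        · right; exact ⟨_, V.zpow_mem hsqV j, by rw [zpow_add_one, zpow_mul, zpow_two]⟩
      rcases hwV with hw' | ⟨v', hv', ew⟩
      · have hbad := hV _ (V.mul_mem hv hw')
        rw [e] at hbad
        rcases hbad with e' | e' | e' | e'
        · exact hu1 e'
        · exact huz e'
        · exact hqnc (e' ▸ huc q hq)
        · apply hqnc
          have := huc q hq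
          rw [show u = z * z' from e', ← mul_assoc, hcen q hq, mul_assoc, mul_assoc] at this
          exact mul_left_cancel this
      · apply hnq₁
        have e2 : (⟨q₁, hq₁⟩ : ↥(R : Subgroup L)) = (v * v')⁻¹ * ⟨u, huR⟩ := by rw [← e, ew]; group
        have hvz : ∀ x ∈ V, (x : L) * z' = z' * x := fun x hx => by
          rcases hV x hx with e' | e' | e' | e' <;> rw [e'] <;> simp [hzz'] <;> simp [← hzz', ← mul_assoc]
        have e3 : q₁ = ((v * v')⁻¹ : ↥(R : Subgroup L)) * u := congrArg Subtype.val e2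
        rw [e3, mul_assoc, huP, ← mul_assoc, hvz _ (V.inv_mem (V.mul_mem hv hv')), mul_assoc]
    obtain ⟨H, hNH, huH, hH2⟩ := exists_index_two _ _ hNu (fun x => by
      rcases hsq x x.2 with e | e
      · rw [show x * x = 1 from Subtype.ext e]; exact one_mem _
      · rw [show x * x = ⟨z, hzR⟩ from Subtype.ext e]; exact mem_sup_left hzV)
    obtain ⟨M, hM, hM2, -⟩ := TransferThompson.thompson_transfer R (H.map (R : Subgroup L).subtype)
      (map_subtype_le H) (by
        rw [relIndex, subgroupOf, comap_map_eq_self_of_injective (subtype_injective _)]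
        exact hH2) hu2 huR (by
      rintro c ⟨m, hm, em⟩
      have hmR : (m : L) ∈ (R : Subgroup L) := m.2
      have hconj : IsConj u (m : L) := isConj_iff.mpr ⟨c, em.symm⟩
      have hmm : (m : L) * m = 1 := by
        change (m : L) = _ at em
        rw [em]
        calc c * u * c⁻¹ * (c * u * c⁻¹) = c * (u * u) * c⁻¹ := by group
          _ = 1 := by rw [huu]; group
      -- no central element of `H` is conjugate to `u`
      have hZ : ∀ v ∈ H, (∀ y ∈ (R : Subgroup L), y * (v : L) = v * y) → ¬ IsConj u (v : L) := by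
        intro v hv hvc hcv
        obtain ⟨d, hd⟩ := isConj_iff.mp hcv
        have := hfuse u d huR huc (hd ▸ v.2) (hd ▸ hvc)
        rw [hd] at this
        exact huH ((show v = ⟨u, huR⟩ from Subtype.ext this) ▸ hv)
      have hzH : (⟨z, hzR⟩ : ↥(R : Subgroup L)) ∈ H := hNH (mem_sup_left hzV)
      -- elements `z'' v` of `H`
      have hform : ∀ h (hh : h * z * h⁻¹ ∈ (R : Subgroup L)), h * z * h⁻¹ ≠ z →
          (⟨_, hh⟩ : ↥(R : Subgroup L)) ∈ H →
          (∀ y ∈ (R : Subgroup L), y * ((h * z * h⁻¹) * m) = ((h * z * h⁻¹) * m) * y) → False := by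
        intro h hh hne hH hc
        set v : ↥(R : Subgroup L) := ⟨_, hh⟩ * m
        have hvH : v ∈ H := H.mul_mem hH hm
        have hh2 : (h * z * h⁻¹) * (h * z * h⁻¹) = 1 := by
          calc (h * z * h⁻¹) * (h * z * h⁻¹) = h * (z * z) * h⁻¹ := by group
            _ = 1 := by rw [hzz]; group
        have hmv : (m : L) = h * z * h⁻¹ * (v : L) := by
          show (m : L) = h * z * h⁻¹ * (h * z * h⁻¹ * m)
          rw [← mul_assoc, hh2, one_mul]
        have hvv : (v : L) * v = 1 := hPsq v v.2 (hc z' hgR).symm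
        have hzv : ∀ y ∈ (R : Subgroup L), y * (z * (v : L)) = (z * v) * y := fun y hy => by
          have hcv : y * (v : L) = v * y := hc y hy
          rw [← mul_assoc, hcen y hy, mul_assoc, hcv, mul_assoc]
        rcases hclass h hh hne v v.2 hc hvv with e | e
        · exact hZ v hvH hc (hconj.trans (hmv ▸ e))
        · exact hZ (⟨z, hzR⟩ * v) (H.mul_mem hzH hvH) hzv (hconj.trans (hmv ▸ e))
      by_cases hmz : (m : L) * z' = z' * m
      · rcases hZinP m hmR hmz with hc | hc
        · exact hZ m hm hc hconj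
        · refine hform g (hz'def ▸ hgR) (hz'def ▸ hgz) (hNH (mem_sup_left (subset_closure (Or.inr ?_)))) (hz'def ▸ hc)
          exact Subtype.ext hz'def.symm
      · rcases hq₁c with ⟨h, rfl⟩ | hno
        · have hne : h * z * h⁻¹ ≠ z := fun e => hnq₁ (by rw [e, hzz'])
          refine hform h hq₁ hne (hNH (mem_sup_right (mem_zpowers _))) ?_
          have hfix := hprodfix _ hq₁ m hmR hnq₁ hmz
          have hh2 : (h * z * h⁻¹) * (h * z * h⁻¹) = 1 := by
            calc (h * z * h⁻¹) * (h * z * h⁻¹) = h * (z * z) * h⁻¹ := by group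
              _ = 1 := by rw [hzz]; group
          have h2 := hPsq _ ((R : Subgroup L).mul_mem hq₁ hmR) hfix
          refine hcentralP _ ((R : Subgroup L).mul_mem hq₁ hmR) hfix m hmR hmz ?_
          have e3 := inv_eq_of_mul_eq_one_right h2
          rw [mul_inv_rev, inv_eq_of_mul_eq_one_right hmm, inv_eq_of_mul_eq_one_right hh2] at e3
          rw [← mul_assoc (m : L), e3]
        · -- no conjugate of `z` lies outside `P`
          obtain ⟨d, hd⟩ := isConj_iff.mp hconj.symm
          have hRC : (R : Subgroup L) ≤ centralizer ({u} : Set L) := fun y hy =>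
            mem_centralizer_singleton_iff.mpr (huc y hy)
          let T : Subgroup L := (R : Subgroup L) ⊓ centralizer ({(m : L)} : Set L)
          have hT2 : IsPGroup 2 (T.map (MulAut.conj d).toMonoidHom) :=
            (R.isPGroup'.to_le inf_le_left).map _
          have hTC : T.map (MulAut.conj d).toMonoidHom ≤ centralizer ({u} : Set L) := by
            rintro _ ⟨y, hy, rfl⟩
            rw [mem_centralizer_singleton_iff, MulEquiv.coe_toMonoidHom, MulAut.conj_apply, ← hd]
            have e := mem_centralizer_singleton_iff.mp hy.2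
            calc d * y * d⁻¹ * (d * m * d⁻¹) = d * (y * m) * d⁻¹ := by group
              _ = d * (m * y) * d⁻¹ := by rw [e]
              _ = _ := by group
          obtain ⟨S, hS⟩ := (hT2.of_equiv (subgroupOfEquivOfLe hTC).symm).exists_le_sylow
          obtain ⟨c, hc⟩ := MulAction.exists_smul_eq (centralizer ({u} : Set L)) (R.subtype hRC) S
          subst hc
          set e := (c : L)⁻¹ * d with he
          have hcu := mem_centralizer_singleton_iff.mp c.2
          have hem : e * m * e⁻¹ = u := by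
            calc e * m * e⁻¹ = (c : L)⁻¹ * (d * m * d⁻¹) * c := by rw [he]; group
              _ = (c : L)⁻¹ * (u * c) := by rw [hd]; group
              _ = u := by rw [← hcu, inv_mul_cancel_left]
          have heT : ∀ y ∈ (R : Subgroup L), y * m = m * y → e * y * e⁻¹ ∈ (R : Subgroup L) := by
            intro y hy hym
            have hyT : d * y * d⁻¹ ∈ T.map (MulAut.conj d).toMonoidHom :=
              ⟨y, ⟨hy, mem_centralizer_singleton_iff.mpr hym⟩, rfl⟩
            have h1 := hS (show (⟨_, hTC hyT⟩ : centralizer ({u} : Set L)) ∈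
              (T.map (MulAut.conj d).toMonoidHom).subgroupOf _ from hyT)
            rw [Sylow.coe_subgroup_smul, mem_pointwise_smul_iff_inv_smul_mem, ← map_inv,
              MulAut.smul_def, MulAut.conj_apply, inv_inv, Sylow.coe_subtype, mem_subgroupOf] at h1
            simp only [coe_mul, coe_inv] at h1
            have e1 : e * y * e⁻¹ = (c : L)⁻¹ * (d * y * d⁻¹) * c := by rw [he]; group
            rw [e1]; exact h1
          have hz'' := heT z hzR (hcen m hmR).symm
          have hz''ne : e * z * e⁻¹ ≠ z := by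
            intro h'
            apply hmz
            have heR : e ∈ (R : Subgroup L) := (hRmem e).mpr (mul_inv_eq_iff_eq_mul.mp h')
            have : (m : L) = u := by
              calc (m : L) = e⁻¹ * (e * m * e⁻¹) * e := by group
                _ = u := by rw [hem, mul_assoc, ← huc e heR, inv_mul_cancel_left]
            rw [this]; exact huP
          obtain ⟨r, hr, er⟩ := hnotcentral e hz'' hz''ne
          have hz''P := hno e hz''
          -- `e` maps `C_R(m)` into `P`
          have hmap : ∀ y ∈ (R : Subgroup L), y * m = m * y →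
              e * y * e⁻¹ ∈ (R : Subgroup L) ∧ (e * y * e⁻¹) * z' = z' * (e * y * e⁻¹) := by
            intro y hy hym
            refine ⟨heT y hy hym, ?_⟩
            by_contra hne
            have hc := hcentralP _ hz'' hz''P _ (heT y hy hym) hne (by
              calc e * z * e⁻¹ * (e * y * e⁻¹) = e * (z * y) * e⁻¹ := by group
                _ = _ := by rw [← hcen y hy]; group) r hr
            rw [hc, mul_inv_cancel_right] at er
            exact hz1 (mul_eq_right.mp er.symm)
          let S1 : Set L := {y | y ∈ (R : Subgroup L) ∧ ∀ w ∈ (R : Subgroup L), w * y = y * w}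
          let D : Set L := S1 ∪ (fun y => (m : L) * y) '' S1
          have hDdisj : Disjoint S1 ((fun y => (m : L) * y) '' S1) := by
            rw [Set.disjoint_left]
            rintro y hy ⟨w, hw, rfl⟩
            apply hmz
            have h1 : (m : L) * w * z' = z' * ((m : L) * w) := (hy.2 z' hgR).symm
            rw [mul_assoc, ← hw.2 z' hgR, ← mul_assoc, ← mul_assoc] at h1
            exact mul_right_cancel h1
          have hDcard : D.ncard = 2 * S1.ncard := by
            rw [Set.ncard_union_eq hDdisj (Set.toFinite _) (Set.toFinite _),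
              Set.ncard_image_of_injective _ (mul_right_injective _)]
            omega
          let P' : Set L := {p | p ∈ (R : Subgroup L) ∧ p * z' = z' * p}
          have hP'card : P'.ncard ≤ 2 * S1.ncard := by
            have hsub : P' ⊆ S1 ∪ (fun y => z' * y) '' S1 := by
              rintro p ⟨hp, hpz⟩
              rcases hZinP p hp hpz with h1 | h1
              · exact Or.inl ⟨hp, h1⟩
              · exact Or.inr ⟨z' * p, ⟨(R : Subgroup L).mul_mem hgR hp, h1⟩,
                  by simp only [← mul_assoc, hz'z', one_mul]⟩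
            have h1 := (Set.ncard_le_ncard hsub (Set.toFinite _)).trans (Set.ncard_union_le _ _)
            have h2 : ((fun y => z' * y) '' S1).ncard ≤ S1.ncard :=
              Set.ncard_image_le (Set.toFinite _)
            omega
          have hDR : ∀ y ∈ D, y ∈ (R : Subgroup L) ∧ y * m = m * y := by
            rintro y (hy | ⟨w, hw, rfl⟩)
            · exact ⟨hy.1, (hy.2 m hmR).symm⟩
            · exact ⟨(R : Subgroup L).mul_mem hmR hw.1, by
                show (m : L) * w * m = m * (m * w)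
                rw [mul_assoc, ← hw.2 m hmR]⟩
          have himg : (fun y => e * y * e⁻¹) '' D = P' := by
            refine Set.eq_of_subset_of_ncard_le ?_ ?_ (Set.toFinite _)
            · rintro _ ⟨y, hy, rfl⟩
              exact hmap y (hDR y hy).1 (hDR y hy).2
            · rw [Set.ncard_image_of_injective _ (fun a b h => mul_left_cancel (mul_right_cancel h)), hDcard]
              exact hP'card
          have hpre : ∀ h : L, h * z * h⁻¹ ∈ P' → h * z * h⁻¹ = e * z * e⁻¹ := by
            intro h hh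
            rw [← himg] at hh
            obtain ⟨y, hy, ey⟩ := hh
            simp only at ey
            have eyz : y = (e⁻¹ * h) * z * (e⁻¹ * h)⁻¹ := by
              calc y = e⁻¹ * (e * y * e⁻¹) * e := by group
                _ = _ := by rw [ey]; group
            have hyP := hno (e⁻¹ * h) (eyz ▸ (hDR y hy).1)
            rw [← eyz] at hyP
            rcases hy with hy | ⟨w, hw, rfl⟩
            · have := hfuse z (e⁻¹ * h) hzR hcen (eyz ▸ hy.1) (eyz ▸ hy.2)
              rw [← eyz] at this
              rw [← ey, this]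
            · exfalso
              apply hmz
              rw [mul_assoc, ← hw.2 z' hgR, ← mul_assoc, ← mul_assoc] at hyP
              exact mul_right_cancel hyP
          have h1 := hpre g (by rw [← hz'def]; exact ⟨hgR, rfl⟩)
          have h2 := hpre (q * g) (by
            have e0 : (q * g) * z * (q * g)⁻¹ = z * z' := by rw [← eq, hz'def]; group
            rw [e0]
            exact ⟨(R : Subgroup L).mul_mem hzR hgR, by rw [mul_assoc, ← mul_assoc z' z z', ← hzz']; group⟩)
          apply hz1
          have e0 : (q * g) * z * (q * g)⁻¹ = z * z' := by rw [← eq, hz'def]; group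
          rw [e0, ← h1, ← hz'def] at h2
          exact mul_eq_right.mp h2)
    exact hno2 M hM hM2

end Cfsg.Agent.S5435
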