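import Cfsg.Statements.S5436
import Cfsg.Agent.Lib.LargeExtraspecialSetting
import Cfsg.Agent.S5433
-- import your own Cfsg.Agent.* helpers here

set_option autoImplicit false
open Cfsg

namespace Cfsg.Agent.S5436

/-- Let z be an involution of the finite group G with centralizer H whose generalized Fitting subgroup Q is extraspecial of width at least 2 (order 2^(2w+1), w ≥ 2); suppose some conjugate of z other than z lies in Q, H/Q is a non-abelian simple group, H acts irreducibly by conjugation on Q modulo the subgroup generated by z (the only H-invariant subgroups of Q containing z are that subgroup and Q), and Q is not the subgroup generated by the conjugates of z lying in H. Then G is simple. -/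
theorem result {G : Type*} [Group G] [Finite G] (z : G) (hz : orderOf z = 2) (Q : Subgroup (Subgroup.centralizer ({z} : Set G))) [Q.Normal] (hF : Cfsg.generalizedFittingSubgroup ↥(Subgroup.centralizer ({z} : Set G)) = Q) (hQ : Cfsg.IsExtraspecial 2 ↥Q) (w : ℕ) (hw : 2 ≤ w) (hcard : Nat.card ↥Q = 2 ^ (2 * w + 1)) (hnwc : ∃ g : G, (∃ hq : g * z * g⁻¹ ∈ Subgroup.centralizer ({z} : Set G), (⟨g * z * g⁻¹, hq⟩ : Subgroup.centralizer ({z} : Set G)) ∈ Q) ∧ g * z * g⁻¹ ≠ z) (hsimp : IsSimpleGroup (↥(Subgroup.centralizer ({z} : Set G)) ⧸ Q)) (hna : ¬ IsMulCommutative (↥(Subgroup.centralizer ({z} : Set G)) ⧸ Q)) (hirr : ∀ W : Subgroup (Subgroup.centralizer ({z} : Set G)), W.Normal → W ≤ Q → (W = Q ∨ ∀ x ∈ W, (x : G) ∈ Subgroup.zpowers z)) (hwcl : Subgroup.closure {x : Subgroup.centralizer ({z} : Set G) | IsConj z (x : G)} ≠ Q) : IsSimpleGroup G := by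
  obtain ⟨h, hzC, hzQ⟩ :=
    Cfsg.Agent.LargeExtraspecialSetting.lhyp_of_fitting hz Q hF hQ
  obtain ⟨g, ⟨hgC, hgQ⟩, hgz⟩ := hnwc
  set Q0 := Q.map (Subgroup.centralizer ({z} : Set G)).subtype with hQ0
  have hcard0 : 32 ≤ Nat.card Q0 := by
    rw [hQ0, Subgroup.card_map_of_injective (Subgroup.subtype_injective _), hcard]
    exact le_trans (by norm_num : 32 ≤ 2 ^ 5) (Nat.pow_le_pow_right (by norm_num) (by omega))
  have hgQ0 : g * z * g⁻¹ ∈ Q0 := ⟨⟨_, hgC⟩, hgQ, rfl⟩
  have hlarge := h.isLarge_of_conj hgQ0 hgz hcard0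
  haveI : Nontrivial G := ⟨⟨z, 1, h.ne_one⟩⟩
  refine ⟨fun N hN => ?_⟩
  by_cases hNbot : N = ⊥
  · exact Or.inl hNbot
  right
  haveI := hN
  have hzN : z ∈ N := by
    by_contra hzN
    have hint : ∀ x ∈ Q0, x ∈ N → x = 1 := by
      intro x hx hxN
      by_contra hx1
      by_cases hxz : x = z
      · exact hzN (hxz ▸ hxN)
      · obtain ⟨y, -, ey⟩ := h.partner x hx hx1 hxz
        apply hzN
        have := N.mul_mem (hN.conj_mem x hxN y) (N.inv_mem hxN)
        rwa [ey, mul_inv_cancel_right] at this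
    have hfix : ∀ n ∈ N, n * z = z * n → n = 1 := by
      intro n hn hnz
      suffices hcom : ∀ x ∈ Q0, n * x = x * n by
        rcases h.cent n hcom with e | e
        · exact e
        · exact absurd (e ▸ hn) hzN
      intro x hx
      have h1 : n * x * n⁻¹ * x⁻¹ ∈ N := by
        have e : n * x * n⁻¹ * x⁻¹ = n * (x * n⁻¹ * x⁻¹) := by group
        rw [e]; exact N.mul_mem hn (hN.conj_mem _ (N.inv_mem hn) x)
      exact mul_inv_eq_iff_eq_mul.mp
        (mul_inv_eq_one.mp (hint _ (Q0.mul_mem (h.norm n hnz x hx) (Q0.inv_mem hx)) h1))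
    let φ : N →* N :=
      { toFun := fun a => ⟨z * a * z⁻¹, hN.conj_mem _ a.2 z⟩
        map_one' := Subtype.ext (by simp)
        map_mul' := fun a b => Subtype.ext (by simp [mul_assoc]) }
    have hφ : MonoidHom.FixedPointFree φ := fun a ha =>
      Subtype.ext (hfix a a.2 (mul_inv_eq_iff_eq_mul.mp (congrArg Subtype.val ha)).symm)
    have h2 : Function.Involutive φ := fun a => Subtype.ext (by
      show z * (z * a * z⁻¹) * z⁻¹ = a
      calc z * (z * a * z⁻¹) * z⁻¹ = (z * z) * a * (z * z)⁻¹ := by group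
        _ = a := by rw [h.zz]; group)
    exact hNbot (hlarge.2.2.2 N (hφ.odd_card_of_involutive h2)
      (by rw [Subgroup.normalizer_eq_top]; exact le_top))
  have hz'N : g * z * g⁻¹ ∈ N := hN.conj_mem z hzN g
  have hnotz : ¬ g * z * g⁻¹ ∈ Subgroup.zpowers z := fun hm => by
    rcases h.eq_of_mem_zpowers hm with e | e
    · exact h.ne_one (conj_eq_one_iff.mp e)
    · exact hgz e
  haveI : (N.subgroupOf (Subgroup.centralizer ({z} : Set G))).Normal := inferInstance
  have hQN : Q ≤ N.subgroupOf (Subgroup.centralizer ({z} : Set G)) := by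
    rcases hirr (Q ⊓ N.subgroupOf (Subgroup.centralizer ({z} : Set G))) (Subgroup.normal_inf_normal _ _) inf_le_left with e | e
    · exact e ▸ inf_le_right
    · exact absurd (e ⟨_, hgC⟩ ⟨hgQ, hz'N⟩) hnotz
  rcases ((inferInstance : (N.subgroupOf (Subgroup.centralizer ({z} : Set G))).Normal).map (QuotientGroup.mk' Q) (QuotientGroup.mk'_surjective Q)).eq_bot_or_eq_top with e | e
  · exfalso
    apply hwcl
    have hsub : ∀ x : ↥(Subgroup.centralizer ({z} : Set G)), IsConj z (x : G) → x ∈ Q := by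
      intro x hx
      obtain ⟨c, hc⟩ := isConj_iff.mp hx
      have hxN : x ∈ N.subgroupOf (Subgroup.centralizer ({z} : Set G)) := by
        rw [Subgroup.mem_subgroupOf, ← hc]; exact hN.conj_mem z hzN c
      rw [Subgroup.map_eq_bot_iff, QuotientGroup.ker_mk'] at e
      exact e hxN
    have hle : Subgroup.closure {x : ↥(Subgroup.centralizer ({z} : Set G)) | IsConj z (x : G)} ≤ Q := (Subgroup.closure_le Q).mpr hsub
    haveI : (Subgroup.closure {x : ↥(Subgroup.centralizer ({z} : Set G)) | IsConj z (x : G)}).Normal := by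
      refine ⟨fun a ha c => ?_⟩
      have : Subgroup.closure {x : ↥(Subgroup.centralizer ({z} : Set G)) | IsConj z (x : G)} ≤
          (Subgroup.closure {x : ↥(Subgroup.centralizer ({z} : Set G)) | IsConj z (x : G)}).comap (MulAut.conj c).toMonoidHom := by
        refine (Subgroup.closure_le _).mpr fun x hx => Subgroup.subset_closure ?_
        exact IsConj.trans hx (isConj_iff.mpr ⟨(c : G), rfl⟩)
      exact this ha
    rcases hirr _ inferInstance hle with e' | e'
    · exact e'
    · exact absurd (e' ⟨_, hgC⟩ (Subgroup.subset_closure (isConj_iff.mpr ⟨g, rfl⟩))) hnotz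
  · have hCN : Subgroup.centralizer ({z} : Set G) ≤ N := by
      intro c hc
      have h1 : QuotientGroup.mk' Q ⟨c, hc⟩ ∈ (N.subgroupOf (Subgroup.centralizer ({z} : Set G))).map (QuotientGroup.mk' Q) := by
        rw [e]; exact Subgroup.mem_top _
      obtain ⟨n, hn, hne⟩ := h1
      have h2 : n⁻¹ * ⟨c, hc⟩ ∈ Q := QuotientGroup.eq.mp hne
      have h3 := (N.subgroupOf (Subgroup.centralizer ({z} : Set G))).mul_mem hn (hQN h2)
      rwa [mul_inv_cancel_left, Subgroup.mem_subgroupOf] at h3
    have hQ0N : Q0 ≤ N := fun x hx => by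
      obtain ⟨y, hy, rfl⟩ := hx
      exact Subgroup.mem_subgroupOf.mp (hQN hy)
    rw [eq_top_iff, ← Cfsg.Agent.S5433.result Q0 hlarge N hQ0N]
    exact sup_le le_rfl fun x hx => hCN (Subgroup.mem_centralizer_singleton_iff.mpr
      (h.z_of_mem_normalizer hx))

end Cfsg.Agent.S5436
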