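import Cfsg.Statements.S5437
-- import your own Cfsg.Agent.* helpers here

set_option autoImplicit false
open Cfsg

namespace Cfsg.Agent.S5437

/-- Let I be a set of involutions of the finite group G closed under conjugation, and H a subgroup of G. The following are equivalent: (1) for every member x of I lying in H, the conjugates of x lying in H form a single H-class and the centralizer of x lies in H; (2) for every g outside H, no member of I lies in both H and g H g⁻¹; (3) every member of I lying in H fixes exactly one coset in the action of G on the cosets of H. -/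
theorem result {G : Type*} [Group G] [Finite G] (I : Set G) (hI : ∀ x ∈ I, orderOf x = 2) (hIc : ∀ g : G, ∀ x ∈ I, g * x * g⁻¹ ∈ I) (H : Subgroup G) : ((∀ x ∈ I, x ∈ H → (∀ g : G, g * x * g⁻¹ ∈ H → ∃ h ∈ H, h * x * h⁻¹ = g * x * g⁻¹) ∧ Subgroup.centralizer ({x} : Set G) ≤ H) ↔ (∀ g : G, g ∉ H → ∀ x ∈ I, ¬ (x ∈ H ∧ x ∈ (H : Subgroup G).map (MulAut.conj g).toMonoidHom))) ∧ ((∀ g : G, g ∉ H → ∀ x ∈ I, ¬ (x ∈ H ∧ x ∈ (H : Subgroup G).map (MulAut.conj g).toMonoidHom)) ↔ ∀ x ∈ I, x ∈ H → ∃! c : G ⧸ H, x • c = c) := by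
  refine ⟨⟨fun h1 g hg x hx hxH => ?_, fun h2 x hx hxH => ?_⟩, ⟨fun h2 x hx hxH => ?_, fun h3 g hg x hx hxH => ?_⟩⟩
  · obtain ⟨hxH, y, hy, hyx⟩ := hxH
    simp only [MulEquiv.coe_toMonoidHom, MulAut.conj_apply] at hyx
    have e : g⁻¹ * x * g⁻¹⁻¹ = y := by rw [← hyx]; group
    obtain ⟨h, hh, hhe⟩ := (h1 x hx hxH).1 g⁻¹ (e ▸ hy)
    apply hg
    have hc : g * h ∈ H := by
      apply (h1 x hx hxH).2
      rw [Subgroup.mem_centralizer_singleton_iff]
      calc g * h * x = g * (h * x * h⁻¹) * h := by group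
        _ = x * (g * h) := by rw [hhe]; group
    simpa using H.mul_mem hc (H.inv_mem hh)
  · refine ⟨fun g hg => ?_, fun c hc => ?_⟩
    · refine ⟨g, ?_, rfl⟩
      by_contra hgH
      exact h2 g hgH _ (hIc g x hx) ⟨hg, x, hxH, rfl⟩
    · by_contra hcH
      rw [Subgroup.mem_centralizer_singleton_iff] at hc
      refine h2 c hcH x hx ⟨hxH, x, hxH, ?_⟩
      simp only [MulEquiv.coe_toMonoidHom, MulAut.conj_apply]
      rw [hc, mul_inv_cancel_right]
  · refine ⟨((1 : G) : G ⧸ H), ?_, fun c hc => ?_⟩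
    · beta_reduce
      rw [MulAction.Quotient.smul_coe, QuotientGroup.eq]
      simpa using hxH
    · induction c using QuotientGroup.induction_on with
      | H g =>
        rw [MulAction.Quotient.smul_coe, QuotientGroup.eq, smul_eq_mul] at hc
        rw [QuotientGroup.eq, mul_one]
        by_contra hgH
        refine h2 g (fun hg' => hgH (H.inv_mem hg')) x hx ⟨hxH, g⁻¹ * x * g, ?_, ?_⟩
        · have := H.inv_mem hc
          have e : ((x * g)⁻¹ * g)⁻¹ = g⁻¹ * x * g := by group
          rwa [e] at this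
        · simp only [MulEquiv.coe_toMonoidHom, MulAut.conj_apply]; group
  · obtain ⟨hxH, y, hy, hyx⟩ := hxH
    simp only [MulEquiv.coe_toMonoidHom, MulAut.conj_apply] at hyx
    obtain ⟨c, -, hu⟩ := h3 x hx hxH
    have e1 : x • ((1 : G) : G ⧸ H) = ((1 : G) : G ⧸ H) := by
      rw [MulAction.Quotient.smul_coe, QuotientGroup.eq]
      simpa using hxH
    have e2 : x • (g : G ⧸ H) = (g : G ⧸ H) := by
      rw [MulAction.Quotient.smul_coe, QuotientGroup.eq, smul_eq_mul, ← hyx]
      have : (g * y * g⁻¹ * g)⁻¹ * g = y⁻¹ := by group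
      rw [this]; exact H.inv_mem hy
    have := (hu _ e1).trans (hu _ e2).symm
    rw [QuotientGroup.eq] at this
    exact hg (by simpa using this)

end Cfsg.Agent.S5437
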