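import Cfsg.Statements.S5447
import Cfsg.Agent.Lib.LFFusion89

set_option autoImplicit false
set_option linter.style.haveILetI false
open Cfsg Cfsg.Agent.LFSylow89 Cfsg.Agent.LFFusion89 Cfsg.Agent.LFElem89 Cfsg.Agent.U62Mon93

namespace Cfsg.Agent.S5447

/-- Let G be a finite group of large Fischer type at the involution z: the generalized Fitting subgroup Q of H = C_G(z) is extraspecial of order 2^13, H has normal subgroups Q ≤ H₁ ≤ H₂ with H₁/Q of order 3, H₂/H₁ the projective special unitary group of dimension 4 over the field with nine elements and H₂ of index 2 in H, and some conjugate of z other than z lies in Q. Let T be a Sylow 2-subgroup of G, A its Thompson subgroup and M = N_G(A) its normalizer. Then M controls fusion in A (elements of A conjugate in G are conjugate in M), and M has exactly two orbits on the non-identity elements of A: those conjugate to z in G and those not. -/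
theorem result {G : Type*} [Group G] [Finite G] (z : G) (Q : Subgroup (Subgroup.centralizer ({z} : Set G))) [Q.Normal] (hF : Cfsg.IsOfLargeFischerTypeAt z Q) (T : Sylow 2 G) (A M : Subgroup G) (hA : A = Cfsg.thompsonSubgroupOf 2 (T : Subgroup G)) (hM : M = Subgroup.normalizer (A : Set G)) : (∀ a ∈ A, ∀ g : G, g * a * g⁻¹ ∈ A → ∃ m ∈ M, m * a * m⁻¹ = g * a * g⁻¹) ∧ (∃ a ∈ A, a ≠ 1 ∧ IsConj z a) ∧ (∃ a ∈ A, a ≠ 1 ∧ ¬ IsConj z a) ∧ ∀ a ∈ A, ∀ b ∈ A, a ≠ 1 → b ≠ 1 → (IsConj z a ↔ IsConj z b) → ∃ m ∈ M, m * a * m⁻¹ = b := by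
  classical
  obtain ⟨V, _, zc, π, ρ, q, n, Mb, D⟩ := LFSetting89.exists_data z Q hF
  letI : Fintype (GaloisField 2 2) := Fintype.ofFinite _
  have hF4 : Fintype.card (GaloisField 2 2) = 4 := by
    rw [← Nat.card_eq_fintype_card, GaloisField.card 2 2 two_ne_zero]; norm_num
  obtain ⟨s, hs⟩ := exists_S4 hF4
  obtain ⟨ν, Φ, C⟩ := LFModel89.exists_coord (hyp D) hs
  obtain ⟨-, -, hzA⟩ := AG_facts D C
  obtain ⟨g, hg⟩ := thompson_eq D C hF T
  obtain ⟨x5, x85, a', b0, ⟨h5A, -, h51, -⟩, ⟨n5, -⟩, -⟩ := classes D C hF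
  have hAg : A = cj g (AG D C) := hA.trans hg
  have hmemA : ∀ {a : G}, a ∈ A → g⁻¹ * a * g ∈ AG D C := by
    intro a ha
    rw [hAg] at ha
    obtain ⟨y, hy, rfl⟩ := ha
    simp only [MulEquiv.coe_toMonoidHom, MulAut.conj_apply]
    rwa [show g⁻¹ * (g * y * g⁻¹) * g = y by group]
  have hAmem : ∀ {a : G}, a ∈ AG D C → g * a * g⁻¹ ∈ A := fun ha => hAg ▸ mem_cj_of ha
  have hMmem : ∀ {m : G}, m ∈ Subgroup.normalizer (AG D C : Set G) → g * m * g⁻¹ ∈ M := by
    intro m hm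
    rw [hM]
    refine Subgroup.mem_normalizer_fintype fun x hx => ?_
    have h1 := AG_normal D C hm (hmemA hx)
    have h2 := hAmem h1
    rw [show g * m * g⁻¹ * x * (g * m * g⁻¹)⁻¹ = g * (m * (g⁻¹ * x * g) * m⁻¹) * g⁻¹ by group]
    exact h2
  have hcl : ∀ a : G, IsConj z (g⁻¹ * a * g) ↔ IsConj z a := fun a => by
    have h0 : IsConj a (g⁻¹ * a * g) := isConj_iff.2 ⟨g⁻¹, by group⟩
    exact ⟨fun e => e.trans h0.symm, fun e => e.trans h0⟩
  refine ⟨fun a ha x hx => ?_, ⟨g * z * g⁻¹, hAmem hzA, ?_, isConj_iff.2 ⟨g, rfl⟩⟩,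
    ⟨g * (x5 : G) * g⁻¹, hAmem ⟨x5, h5A, rfl⟩, ?_, ?_⟩, fun a ha b hb ha1 hb1 hab => ?_⟩
  · have e : g⁻¹ * x * g * (g⁻¹ * a * g) * (g⁻¹ * x * g)⁻¹ = g⁻¹ * (x * a * x⁻¹) * g := by group
    obtain ⟨m, hm, hme⟩ := fusion D C hF (hmemA ha) (g := g⁻¹ * x * g) (e ▸ hmemA hx)
    refine ⟨g * m * g⁻¹, hMmem hm, ?_⟩
    rw [show g * m * g⁻¹ * a * (g * m * g⁻¹)⁻¹ = g * (m * (g⁻¹ * a * g) * m⁻¹) * g⁻¹ by group, hme, e]
    group
  · exact fun e => (lhyp D).ne_one (conj_eq_one_iff.1 e)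
  · exact fun e => h51 (Subtype.ext (conj_eq_one_iff.1 e))
  · intro e
    rw [← hcl, show g⁻¹ * (g * (x5 : G) * g⁻¹) * g = (x5 : G) by group] at e
    exact n5 e
  · have key : ∃ m ∈ Subgroup.normalizer (AG D C : Set G), m * (g⁻¹ * a * g) * m⁻¹ = g⁻¹ * b * g := by
      by_cases hca : IsConj z a
      · obtain ⟨x, hx⟩ := isConj_iff.1 (((hcl a).2 hca).symm.trans ((hcl b).2 (hab.1 hca)))
        rw [← hx]
        exact fusion D C hF (hmemA ha) (hx.symm ▸ hmemA hb)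
      · refine trans_R D C hF _ (hmemA ha) _ (hmemA hb) (fun e => ha1 ?_) (fun e => hb1 ?_)
          (fun e => hca ((hcl a).1 e)) (fun e => hca (hab.2 ((hcl b).1 e)))
        · calc a = g * (g⁻¹ * a * g) * g⁻¹ := by group
            _ = 1 := by rw [e]; group
        · calc b = g * (g⁻¹ * b * g) * g⁻¹ := by group
            _ = 1 := by rw [e]; group
    obtain ⟨m, hm, hme⟩ := key
    refine ⟨g * m * g⁻¹, hMmem hm, ?_⟩
    rw [show g * m * g⁻¹ * a * (g * m * g⁻¹)⁻¹ = g * (m * (g⁻¹ * a * g) * m⁻¹) * g⁻¹ by group, hme]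
    group

end Cfsg.Agent.S5447
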