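import Cfsg.Statements.S5448
import Cfsg.Agent.Lib.LFMathieuT89

set_option autoImplicit false
open scoped Pointwise
open Cfsg

namespace Cfsg.Agent.S5448

/-- Let G be a finite group of large Fischer type at the involution z: the generalized Fitting subgroup Q of H = C_G(z) is extraspecial of order 2^13, H has normal subgroups Q ≤ H₁ ≤ H₂ with H₁/Q of order 3, H₂/H₁ the projective special unitary group of dimension 4 over the field with nine elements and H₂ of index 2 in H, and some conjugate of z other than z lies in Q. Let T be a Sylow 2-subgroup of G, A its Thompson subgroup, M = N_G(A) its normalizer, and t an involution of A not conjugate to z in G. Then the centralizer of t in M, modulo A, is isomorphic to the setwise stabilizer of a two-element subset of the 24 points in the Mathieu group of degree 24 (the automorphism group of the smaller Mathieu group on 22 points). -/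
theorem result {G : Type*} [Group G] [Finite G] (z : G) (Q : Subgroup (Subgroup.centralizer ({z} : Set G))) [Q.Normal] (hF : Cfsg.IsOfLargeFischerTypeAt z Q) (T : Sylow 2 G) (A M : Subgroup G) (hA : A = Cfsg.thompsonSubgroupOf 2 (T : Subgroup G)) (hM : M = Subgroup.normalizer (A : Set G)) (t : G) (htA : t ∈ A) (ht2 : orderOf t = 2) (ht : ¬ IsConj z t) : ∃ _ : (A.subgroupOf (M ⊓ Subgroup.centralizer ({t} : Set G))).Normal, Nonempty (↥(M ⊓ Subgroup.centralizer ({t} : Set G)) ⧸ A.subgroupOf (M ⊓ Subgroup.centralizer ({t} : Set G)) ≃* ↥(Cfsg.M24 ⊓ MulAction.stabilizer (Equiv.Perm Cfsg.GolayPt) ({none, some 0} : Set Cfsg.GolayPt))) := by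
  obtain ⟨hea, -, -, -, -, h⟩ := LFMathieuT89.thompson_mathieu z Q hF T A M hA hM
  have ht1 : t ≠ 1 := fun e => by rw [e, orderOf_one] at ht2; omega
  obtain ⟨φ, hs, hk, hst⟩ := h t htA ht1 ht
  set S := M ⊓ Subgroup.centralizer ({t} : Set G)
  let ψ : S →* ↥(Cfsg.M24 ⊓ MulAction.stabilizer (Equiv.Perm Cfsg.GolayPt) ({none, some 0} : Set Cfsg.GolayPt)) :=
    MonoidHom.mk' (fun m => ⟨(φ ⟨m.1, m.2.1⟩).1, (φ ⟨m.1, m.2.1⟩).2,
      (hst ⟨m.1, m.2.1⟩).2 (Subgroup.mem_centralizer_singleton_iff.1 m.2.2)⟩)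
      fun a b => Subtype.ext (by
        show (φ ⟨(a * b : S).1, _⟩).1 = (φ ⟨a.1, a.2.1⟩).1 * (φ ⟨b.1, b.2.1⟩).1
        rw [← Subgroup.coe_mul, ← map_mul]
        rfl)
  have hψs : Function.Surjective ψ := fun σ => by
    obtain ⟨m, hm⟩ := hs ⟨σ.1, σ.2.1⟩
    have hmt : (m : G) ∈ Subgroup.centralizer ({t} : Set G) :=
      Subgroup.mem_centralizer_singleton_iff.2 ((hst m).1 (by rw [hm]; exact σ.2.2))
    have h2 := congrArg Subtype.val hm
    exact ⟨⟨m.1, m.2, hmt⟩, Subtype.ext h2⟩
  have hψk : A.subgroupOf S = ψ.ker := by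
    ext m
    rw [Subgroup.mem_subgroupOf, MonoidHom.mem_ker]
    have e : φ ⟨m.1, m.2.1⟩ = 1 ↔ m.1 ∈ A := by
      rw [← MonoidHom.mem_ker, hk, Subgroup.mem_subgroupOf]
    rw [← e]
    constructor
    · intro h
      have h2 := congrArg Subtype.val h
      exact Subtype.ext h2
    · intro h
      have h2 := congrArg Subtype.val h
      exact Subtype.ext h2
  haveI hn : (A.subgroupOf S).Normal := hψk ▸ MonoidHom.normal_ker ψ
  exact ⟨hn, ⟨(QuotientGroup.quotientMulEquivOfEq hψk).trans
    (QuotientGroup.quotientKerEquivOfSurjective ψ hψs)⟩⟩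

end Cfsg.Agent.S5448
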