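import Cfsg.Statements.S5449
import Cfsg.Agent.Lib.LFU62Coord19
import Cfsg.Agent.Lib.LFU62Final19
import Cfsg.Agent.Lib.LFU62Stab58
import Cfsg.Agent.Lib.U62RecogIdent29

set_option autoImplicit false
open Cfsg
open Cfsg.Agent.U62Mon93 Cfsg.Agent.LFElem89 Cfsg.Agent.LFSetting89

namespace Cfsg.Agent.S5449

/-- Let G be a finite group of large Fischer type at the involution z: the generalized Fitting subgroup Q of H = C_G(z) is extraspecial of order 2^13, H has normal subgroups Q ≤ H₁ ≤ H₂ with H₁/Q of order 3, H₂/H₁ the projective special unitary group of dimension 4 over the field with nine elements and H₂ of index 2 in H, and some conjugate of z other than z lies in Q. Then Q contains a four-group E, not containing z and containing an involution not conjugate to z in G, whose centralizer in G is quasisimple with quotient by E isomorphic to the projective special unitary group of dimension 6 over the field with four elements. -/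
theorem result {G : Type*} [Group G] [Finite G] (z : G) (Q : Subgroup (Subgroup.centralizer ({z} : Set G))) [Q.Normal] (hF : Cfsg.IsOfLargeFischerTypeAt z Q) : ∃ E : Subgroup G, E ≤ (Q.map (Subgroup.centralizer ({z} : Set G)).subtype) ∧ Cfsg.IsElementaryAbelian 2 E ∧ Nat.card E = 4 ∧ z ∉ E ∧ (∃ t ∈ E, orderOf t = 2 ∧ ¬ IsConj z t) ∧ Cfsg.IsQuasisimple ↥(Subgroup.centralizer (E : Set G)) ∧ ∃ (_ : (E.subgroupOf (Subgroup.centralizer (E : Set G))).Normal) (K : Type) (_ : Field K) (_ : Fintype K), Fintype.card K = 4 ∧ Nonempty (↥(Subgroup.centralizer (E : Set G)) ⧸ E.subgroupOf (Subgroup.centralizer (E : Set G)) ≃* Cfsg.PSU 6 K 2) := by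
  classical
  obtain ⟨V, _, zc, π, ρ, q, n, Mb, D⟩ := LFSetting89.exists_data z Q hF
  haveI : Fintype (GaloisField 2 2) := Fintype.ofFinite _
  have hF4 : Fintype.card (GaloisField 2 2) = 4 := by
    rw [← Nat.card_eq_fintype_card, GaloisField.card 2 2 two_ne_zero]; norm_num
  obtain ⟨s, hs⟩ := exists_S4 hF4
  obtain ⟨ν, Φ, C⟩ := LFModel89.exists_coord (hyp D) hs
  have S := LFU62Stab58.stab_facts D C
  obtain ⟨E, K⟩ := LFU62Coord19.exists_facts D C hF
  obtain ⟨hsimp, hiso⟩ := U62RecogIdent29.ident (LFU62Bridge19.setup D C S K) (GaloisField 2 2) hF4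
  exact LFU62Final19.four_group D C S K hsimp hF4 hiso

end Cfsg.Agent.S5449
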