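import Cfsg.Statements.S5452
import Cfsg.Agent.Lib.UnitaryTwoLifts17

set_option autoImplicit false
open Cfsg

namespace Cfsg.Agent.S5452

theorem mul_zpow_self_aux {G : Type*} [Group G] {d : G} (h : d * d = 1) (k : ℤ) :
    (1 : G) = d ^ k * d ^ k := by
  rw [← (Commute.refl d).mul_zpow k, h, one_zpow]


/-- Let G be a finite group with an involution d whose centralizer C is quasisimple with C modulo the subgroup generated by d isomorphic to the projective special unitary group of dimension 6 over the field with four elements, and suppose some conjugate of d other than d commutes with d. Then every involution of C modulo the subgroup generated by d is the image of an involution of C, and d is not a square in G. -/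
theorem result {G : Type*} [Group G] [Finite G] (d : G) (hd : orderOf d = 2) (hq : Cfsg.IsQuasisimple ↥(Subgroup.centralizer ({d} : Set G))) [hzn : ((Subgroup.zpowers d).subgroupOf (Subgroup.centralizer ({d} : Set G))).Normal] (K : Type) [Field K] [Fintype K] (hK : Fintype.card K = 4) (e : ↥(Subgroup.centralizer ({d} : Set G)) ⧸ (Subgroup.zpowers d).subgroupOf (Subgroup.centralizer ({d} : Set G)) ≃* Cfsg.PSU 6 K 2) (hnwc : ∃ g : G, g * d * g⁻¹ ∈ Subgroup.centralizer ({d} : Set G) ∧ g * d * g⁻¹ ≠ d) : (∀ x : ↥(Subgroup.centralizer ({d} : Set G)) ⧸ (Subgroup.zpowers d).subgroupOf (Subgroup.centralizer ({d} : Set G)), orderOf x = 2 → ∃ y : ↥(Subgroup.centralizer ({d} : Set G)), orderOf y = 2 ∧ (QuotientGroup.mk y : ↥(Subgroup.centralizer ({d} : Set G)) ⧸ (Subgroup.zpowers d).subgroupOf (Subgroup.centralizer ({d} : Set G))) = x) ∧ ¬ ∃ g : G, g ^ 2 = d := by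
  classical
  set C := Subgroup.centralizer ({d} : Set G) with hC
  set Z := (Subgroup.zpowers d).subgroupOf C with hZdef
  have hdC : d ∈ C := Subgroup.mem_centralizer_singleton_iff.mpr rfl
  set z : ↥C := ⟨d, hdC⟩ with hzdef
  have hd2 : d * d = 1 := by rw [← pow_two, ← hd]; exact pow_orderOf_eq_one d
  have hz : ∀ c : ↥C, Commute z c := fun c =>
    Subtype.ext (Subgroup.mem_centralizer_singleton_iff.mp c.2).symm
  have hz2 : z * z = 1 := Subtype.ext hd2
  have hz1 : z ≠ 1 := fun h => by
    have h1 : d = 1 := congrArg Subtype.val h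
    rw [h1, orderOf_one] at hd
    omega
  have hπz : (QuotientGroup.mk' Z) z = 1 :=
    (QuotientGroup.eq_one_iff z).mpr (Subgroup.mem_zpowers d)
  have hker : ∀ c : ↥C, (QuotientGroup.mk' Z) c = 1 → c = 1 ∨ c = z := by
    intro c hc
    obtain ⟨n, hn⟩ := Subgroup.mem_zpowers_iff.mp
      (Subgroup.mem_subgroupOf.mp ((QuotientGroup.eq_one_iff c).mp hc))
    rcases Int.even_or_odd n with ⟨k, hk⟩ | ⟨k, hk⟩
    · left
      apply Subtype.ext
      rw [← hn, hk, zpow_add, ← mul_zpow_self_aux hd2 k]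
      rfl
    · right
      apply Subtype.ext
      rw [← hn, hk, zpow_add_one, two_mul, zpow_add, ← mul_zpow_self_aux hd2 k, one_mul]
  haveI hF4 : Cfsg.Agent.UnitaryF4Geo.FourField K := ⟨hK⟩
  have lift : ∀ x : ↥C ⧸ Z, orderOf x = 2 → ∃ y : ↥C, orderOf y = 2 ∧
      (QuotientGroup.mk y : ↥C ⧸ Z) = x := fun x hx => by
    obtain ⟨y, hy, hyx⟩ := Cfsg.Agent.UnitaryTwoLifts17.exists_lift
      (p := e.toMonoidHom.comp (QuotientGroup.mk' Z))
      (e.surjective.comp (QuotientGroup.mk'_surjective Z))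
      (fun c hc => hker c ((map_eq_one_iff e e.injective).mp hc)) hz hz2
      (x := e x) (by rw [MulEquiv.orderOf_eq, hx])
    exact ⟨y, hy, e.injective hyx⟩
  refine ⟨lift, ?_⟩
  rintro ⟨g, hg⟩
  have hgC : g ∈ C := Subgroup.mem_centralizer_singleton_iff.mpr (by
    rw [← hg, pow_two, mul_assoc])
  have hsq : (⟨g, hgC⟩ : ↥C) * ⟨g, hgC⟩ = z := Subtype.ext (by
    show g * g = d
    rw [← hg, pow_two])
  by_cases h1 : (QuotientGroup.mk' Z) ⟨g, hgC⟩ = 1
  · rcases hker _ h1 with h | h <;> rw [h] at hsq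
    · exact hz1 (by rw [← hsq, one_mul])
    · exact hz1 (by rw [← hsq, hz2])
  · have ho : orderOf ((QuotientGroup.mk' Z) ⟨g, hgC⟩) = 2 :=
      orderOf_eq_prime (by rw [pow_two, ← map_mul, hsq, hπz]) h1
    obtain ⟨y, hy, hyx⟩ := lift _ ho
    have hy2 : y * y = 1 := by rw [← pow_two, ← hy]; exact pow_orderOf_eq_one y
    rcases hker (y⁻¹ * ⟨g, hgC⟩) (by
      rw [map_mul, map_inv, QuotientGroup.mk'_apply, hyx]
      exact inv_mul_cancel _) with h | h
    · rw [inv_mul_eq_one] at h
      rw [← h, hy2] at hsq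
      exact hz1 hsq.symm
    · rw [inv_mul_eq_iff_eq_mul] at h
      rw [h, (hz y).mul_mul_mul_comm, hy2, hz2, one_mul] at hsq
      exact hz1 hsq.symm

end Cfsg.Agent.S5452
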