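import Cfsg.Statements.S5453
import Cfsg.Agent.Lib.ThreeTransM22Lifts17

set_option autoImplicit false
open Cfsg

namespace Cfsg.Agent.S5453

theorem mul_zpow_self_aux {G : Type*} [Group G] {d : G} (h : d * d = 1) (k : ℤ) :
    (1 : G) = d ^ k * d ^ k := by
  rw [← (Commute.refl d).mul_zpow k, h, one_zpow]


/-- Let G be a finite group with an involution d whose centralizer C is quasisimple, such that C modulo the subgroup generated by d is of type M(22) with respect to some conjugacy class of 3-transpositions generating it and also has an involution whose own centralizer is quasisimple with quotient by it isomorphic to the projective special unitary group of dimension 6 over the field with four elements and which is not weakly closed in that centralizer; and suppose some conjugate of d other than d commutes with d. Then every involution of C modulo the subgroup generated by d is the image of an involution of C, and d is not a square in G. -/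
theorem result {G : Type*} [Group G] [Finite G] (d : G) (hd : orderOf d = 2) (hq : Cfsg.IsQuasisimple ↥(Subgroup.centralizer ({d} : Set G))) [hzn : ((Subgroup.zpowers d).subgroupOf (Subgroup.centralizer ({d} : Set G))).Normal] (htype : ∃ E : Set (↥(Subgroup.centralizer ({d} : Set G)) ⧸ (Subgroup.zpowers d).subgroupOf (Subgroup.centralizer ({d} : Set G))), Cfsg.IsThreeTranspositionClass E ∧ Cfsg.IsOfTypeM22 _ E) (hinvol : ∃ d' : ↥(Subgroup.centralizer ({d} : Set G)) ⧸ (Subgroup.zpowers d).subgroupOf (Subgroup.centralizer ({d} : Set G)), orderOf d' = 2 ∧ Cfsg.IsQuasisimple ↥(Subgroup.centralizer ({d'} : Set _)) ∧ (∃ (K : Type) (_ : Field K) (_ : Fintype K), Fintype.card K = 4 ∧ ∃ _ : ((Subgroup.zpowers d').subgroupOf (Subgroup.centralizer ({d'} : Set _))).Normal, Nonempty (↥(Subgroup.centralizer ({d'} : Set _)) ⧸ (Subgroup.zpowers d').subgroupOf (Subgroup.centralizer ({d'} : Set _)) ≃* Cfsg.PSU 6 K 2)) ∧ ∃ g, g * d' * g⁻¹ ∈ Subgroup.centralizer ({d'} : Set _) ∧ g * d' * g⁻¹ ≠ d') (hnwc : ∃ g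 : G, g * d * g⁻¹ ∈ Subgroup.centralizer ({d} : Set G) ∧ g * d * g⁻¹ ≠ d) : (∀ x : ↥(Subgroup.centralizer ({d} : Set G)) ⧸ (Subgroup.zpowers d).subgroupOf (Subgroup.centralizer ({d} : Set G)), orderOf x = 2 → ∃ y : ↥(Subgroup.centralizer ({d} : Set G)), orderOf y = 2 ∧ (QuotientGroup.mk y : ↥(Subgroup.centralizer ({d} : Set G)) ⧸ (Subgroup.zpowers d).subgroupOf (Subgroup.centralizer ({d} : Set G))) = x) ∧ ¬ ∃ g : G, g ^ 2 = d := by
  classical
  set C := Subgroup.centralizer ({d} : Set G) with hC
  set K := (Subgroup.zpowers d).subgroupOf C with hK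
  have hdC : d ∈ C := Subgroup.mem_centralizer_singleton_iff.mpr rfl
  set z : ↥C := ⟨d, hdC⟩ with hzdef
  have hd2 : d * d = 1 := by rw [← pow_two, ← hd]; exact pow_orderOf_eq_one d
  have hz : ∀ c : ↥C, Commute z c := fun c =>
    Subtype.ext (Subgroup.mem_centralizer_singleton_iff.mp c.2).symm
  have hz2 : z * z = 1 := Subtype.ext hd2
  have hz1 : z ≠ 1 := fun h => by
    have h1 : d = 1 := congrArg Subtype.val h
    rw [h1, orderOf_one] at hd
    omega
  have hπz : (QuotientGroup.mk' K) z = 1 :=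
    (QuotientGroup.eq_one_iff z).mpr (Subgroup.mem_zpowers d)
  have hker : ∀ c : ↥C, (QuotientGroup.mk' K) c = 1 → c = 1 ∨ c = z := by
    intro c hc
    obtain ⟨n, hn⟩ := Subgroup.mem_zpowers_iff.mp
      (Subgroup.mem_subgroupOf.mp ((QuotientGroup.eq_one_iff c).mp hc))
    rcases Int.even_or_odd n with ⟨k, hk⟩ | ⟨k, hk⟩
    · left
      apply Subtype.ext
      rw [← hn, hk, zpow_add, ← mul_zpow_self_aux hd2 k]
      rfl
    · right
      apply Subtype.ext
      rw [← hn, hk, zpow_add_one, two_mul, zpow_add, ← mul_zpow_self_aux hd2 k, one_mul]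
  obtain ⟨E, hEc, hE22⟩ := htype
  have hcen : Subgroup.center ↥C = K := by
    refine le_antisymm (fun c hc => (QuotientGroup.eq_one_iff c).mp ?_) fun c hc => ?_
    · have h1 : (QuotientGroup.mk' K) c ∈ Subgroup.center (↥C ⧸ K) := by
        refine Subgroup.mem_center_iff.mpr fun g => ?_
        obtain ⟨g, rfl⟩ := QuotientGroup.mk'_surjective K g
        rw [← map_mul, ← map_mul, Subgroup.mem_center_iff.mp hc g]
      rw [hE22.1] at h1
      exact Subgroup.mem_bot.mp h1
    · rcases hker c ((QuotientGroup.eq_one_iff c).mpr hc) with rfl | rfl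
      · exact one_mem _
      · exact Subgroup.mem_center_iff.mpr fun g => (hz g).eq.symm
  haveI := hq.2
  haveI : Nontrivial (↥C ⧸ K) := (QuotientGroup.quotientMulEquivOfEq hcen).symm.toEquiv.nontrivial
  haveI : IsSimpleGroup (↥C ⧸ K) :=
    IsSimpleGroup.isSimpleGroup_of_surjective (QuotientGroup.quotientMulEquivOfEq hcen).toMonoidHom
      (QuotientGroup.quotientMulEquivOfEq hcen).surjective
  have hprim := Cfsg.Agent.ThreeTransM22Lifts17.primitive_of_simple hEc (by
    obtain ⟨-, a, ha, b, hb, hab, -⟩ := hE22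
    exact ⟨a, ha, b, hb, fun h => hab (h ▸ Commute.refl a)⟩)
  have lift : ∀ x : ↥C ⧸ K, orderOf x = 2 → ∃ y : ↥C, orderOf y = 2 ∧
      (QuotientGroup.mk y : ↥C ⧸ K) = x := fun x hx =>
    Cfsg.Agent.ThreeTransM22Lifts17.exists_lift (Cfsg.Agent.ThreeTransM22Lifts17.group_of_class hEc)
      hprim hE22 (QuotientGroup.mk'_surjective K) hker hz hz2 hπz hx
  refine ⟨lift, ?_⟩
  rintro ⟨g, hg⟩
  have hgC : g ∈ C := Subgroup.mem_centralizer_singleton_iff.mpr (by
    rw [← hg, pow_two, mul_assoc])
  have hsq : (⟨g, hgC⟩ : ↥C) * ⟨g, hgC⟩ = z := Subtype.ext (by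
    show g * g = d
    rw [← hg, pow_two])
  by_cases h1 : (QuotientGroup.mk' K) ⟨g, hgC⟩ = 1
  · rcases hker _ h1 with h | h <;> rw [h] at hsq
    · exact hz1 (by rw [← hsq, one_mul])
    · exact hz1 (by rw [← hsq, hz2])
  · have ho : orderOf ((QuotientGroup.mk' K) ⟨g, hgC⟩) = 2 :=
      orderOf_eq_prime (by rw [pow_two, ← map_mul, hsq, hπz]) h1
    obtain ⟨y, hy, hyx⟩ := lift _ ho
    have hy2 : y * y = 1 := by rw [← pow_two, ← hy]; exact pow_orderOf_eq_one y
    rcases hker (y⁻¹ * ⟨g, hgC⟩) (by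
      rw [map_mul, map_inv, QuotientGroup.mk'_apply, hyx]
      exact inv_mul_cancel _) with h | h
    · rw [inv_mul_eq_one] at h
      rw [← h, hy2] at hsq
      exact hz1 hsq.symm
    · rw [inv_mul_eq_iff_eq_mul] at h
      rw [h, (hz y).mul_mul_mul_comm, hy2, hz2, one_mul] at hsq
      exact hz1 hsq.symm

end Cfsg.Agent.S5453
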