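import Cfsg.Statements.S5454
import Cfsg.Agent.Lib.Unit62Count55

set_option autoImplicit false
set_option linter.style.haveILetI false
open Cfsg
open Cfsg.Agent.UnitaryF4Geo Cfsg.Agent.Unit62Cover55 Cfsg.Agent.Unit62Count55

namespace Cfsg.Agent.S5454

/-- Let G be a finite group with an involution d whose centralizer C is quasisimple with C modulo the subgroup generated by d isomorphic to the projective special unitary group of dimension 6 over the field with four elements, and suppose some conjugate of d other than d commutes with d. Let S be a Sylow 2-subgroup of C and A the Thompson subgroup of S (generated by the elementary abelian subgroups of S of largest order), regarded as a subgroup of G. Then A is elementary abelian of order 2^10, exactly 22 conjugates of d lie in A, and the normalizer of A permutes them transitively. -/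
theorem result {G : Type*} [Group G] [Finite G] (d : G) (hd : orderOf d = 2) (hq : Cfsg.IsQuasisimple ↥(Subgroup.centralizer ({d} : Set G))) [hzn : ((Subgroup.zpowers d).subgroupOf (Subgroup.centralizer ({d} : Set G))).Normal] (K : Type) [Field K] [Fintype K] (hK : Fintype.card K = 4) (e : ↥(Subgroup.centralizer ({d} : Set G)) ⧸ (Subgroup.zpowers d).subgroupOf (Subgroup.centralizer ({d} : Set G)) ≃* Cfsg.PSU 6 K 2) (hnwc : ∃ g : G, g * d * g⁻¹ ∈ Subgroup.centralizer ({d} : Set G) ∧ g * d * g⁻¹ ≠ d) (S : Sylow 2 ↥(Subgroup.centralizer ({d} : Set G))) (A : Subgroup G) (hA : A = (Cfsg.thompsonSubgroupOf 2 (S : Subgroup ↥(Subgroup.centralizer ({d} : Set G)))).map (Subgroup.centralizer ({d} : Set G)).subtype) : Cfsg.IsElementaryAbelian 2 A ∧ Nat.card A = 2 ^ 10 ∧ Set.ncard {x : G | x ∈ A ∧ IsConj d x} = 22 ∧ ∀ x ∈ A, ∀ y ∈ A, IsConj d x → IsConj d y → ∃ n ∈ Subgroup.normalizer (A : Set G), n * x * n⁻¹ = y := by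
  classical
  haveI : Fact (Nat.Prime 2) := ⟨Nat.prime_two⟩
  haveI : FourField K := ⟨hK⟩
  set θ : ↥(Subgroup.centralizer ({d} : Set G)) →* Cfsg.PSU 6 K 2 :=
    e.toMonoidHom.comp (QuotientGroup.mk' _) with hθ
  have hdd : d * d = 1 := by rw [← pow_two, ← hd]; exact pow_orderOf_eq_one d
  have hd1 : d ≠ 1 := fun h => by rw [h, orderOf_one] at hd; exact absurd hd (by norm_num)
  have hker : ∀ x, θ x = 1 ↔ x = 1 ∨ x = dd d := by
    intro x
    have h1 : θ x = 1 ↔ (x : G) ∈ Subgroup.zpowers d := by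
      rw [hθ, MonoidHom.comp_apply, MulEquiv.coe_toMonoidHom, e.map_eq_one_iff]
      exact (QuotientGroup.eq_one_iff x).trans Subgroup.mem_subgroupOf
    rw [h1, Subgroup.mem_zpowers_iff]
    constructor
    · rintro ⟨n, hn⟩
      rcases Int.even_or_odd n with ⟨m, rfl⟩ | ⟨m, rfl⟩
      · refine Or.inl (Subtype.ext ?_)
        rw [← hn, ← two_mul, zpow_mul, zpow_two, hdd, one_zpow]; rfl
      · refine Or.inr (Subtype.ext ?_)
        rw [← hn, zpow_add, zpow_mul, zpow_two, hdd, one_zpow, one_mul, zpow_one]; rfl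
    · rintro (h | h) <;> rw [h]
      exacts [⟨0, by simp⟩, ⟨1, by simp [dd]⟩]
  have X : Cov (dd d) θ := ⟨hq.1, e.surjective.comp (QuotientGroup.mk'_surjective _), hker,
    fun x => Subtype.ext (Subgroup.mem_centralizer_singleton_iff.mp x.2).symm,
    fun h => hd1 (congrArg Subtype.val h)⟩
  -- a plane group inside the Sylow subgroup
  obtain ⟨e₀, f₀, hfr₀, -⟩ := Unit62Exist55.exists_plane X (x := (1 : ↥(Subgroup.centralizer ({d} : Set G))))
    (one_mul 1)
  obtain ⟨T, hT⟩ := IsPGroup.exists_le_sylow (P := Eh θ e₀) (X.big_Eh hfr₀).isPGroup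
  obtain ⟨g, hg⟩ := MulAction.exists_smul_eq ↥(Subgroup.centralizer ({d} : Set G)) T S
  set B := (Eh θ e₀).map (MulAut.conj g).toMonoidHom with hB
  have hbig : Big B := by
    refine ⟨?_, ?_, ?_⟩
    · rintro _ ⟨a, ha, rfl⟩; rw [← map_mul, X.Eh_sq hfr₀ ha, map_one]
    · rintro _ ⟨a, ha, rfl⟩ _ ⟨b, hb, rfl⟩; rw [← map_mul, (X.Eh_comm hfr₀ ha hb).eq, map_mul]
    · rw [hB, Subgroup.card_map_of_injective (MulAut.conj g).injective, X.card_Eh hfr₀]
  obtain ⟨e₁, f₁, hfr, hBe⟩ := X.big_cases hbig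
  have hBS : Eh θ e₁ ≤ (S : Subgroup ↥(Subgroup.centralizer ({d} : Set G))) := by
    rw [← hBe]
    rintro _ ⟨a, ha, rfl⟩
    rw [← hg, Sylow.coe_subgroup_smul]
    exact Subgroup.smul_mem_pointwise_smul _ (MulAut.conj g) _ (hT ha)
  have hJ : Cfsg.thompsonSubgroupOf 2 (S : Subgroup ↥(Subgroup.centralizer ({d} : Set G))) = Eh θ e₁ := by
    have hcard1 : Nat.card ↥((Eh θ e₁).subgroupOf (S : Subgroup _)) = 1024 := by
      rw [Nat.card_congr (Subgroup.subgroupOfEquivOfLe hBS).toEquiv, X.card_Eh hfr]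
    have hea : Cfsg.IsElementaryAbelian 2 ((Eh θ e₁).subgroupOf (S : Subgroup _)) :=
      ⟨⟨⟨fun a b => Subtype.ext (Subtype.ext (X.Eh_comm hfr a.2 b.2).eq)⟩⟩,
        fun a ha => Subtype.ext (by rw [SubgroupClass.coe_pow, pow_two]; exact X.Eh_sq hfr ha)⟩
    have hset : Cfsg.maxElementaryAbelianSubgroups 2 ↥(S : Subgroup ↥(Subgroup.centralizer ({d} : Set G)))
        = {(Eh θ e₁).subgroupOf (S : Subgroup _)} := by
      refine Set.eq_singleton_iff_unique_mem.mpr ⟨⟨hea, fun D hD => ?_⟩, ?_⟩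
      · rw [hcard1, ← Subgroup.card_map_of_injective (Subgroup.subtype_injective _) (K := D)]
        refine X.card_le ?_ ?_
        · rintro _ ⟨a, ha, rfl⟩
          rw [← map_mul, ← pow_two, hD.2 a ha, map_one]
        · rintro _ ⟨a, ha, rfl⟩ _ ⟨b, hb, rfl⟩
          rw [← map_mul, ← map_mul]
          exact congrArg _ (congrArg Subtype.val (hD.1.is_comm.comm ⟨a, ha⟩ ⟨b, hb⟩))
      · rintro D ⟨hD, hmax⟩
        have hle : 1024 ≤ Nat.card ↥D := hcard1 ▸ hmax _ hea
        have hbigD : Big (D.map (Subgroup.subtype _)) := by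
          refine ⟨?_, ?_, ?_⟩
          · rintro _ ⟨a, ha, rfl⟩
            rw [← map_mul, ← pow_two, hD.2 a ha, map_one]
          · rintro _ ⟨a, ha, rfl⟩ _ ⟨b, hb, rfl⟩
            rw [← map_mul, ← map_mul]
            exact congrArg _ (congrArg Subtype.val (hD.1.is_comm.comm ⟨a, ha⟩ ⟨b, hb⟩))
          · rw [Subgroup.card_map_of_injective (Subgroup.subtype_injective _)]; exact hle
        have := X.unique_in (B₁ := Eh θ e₁) (B₂ := D.map (Subgroup.subtype _)) S.2 (X.big_Eh hfr) hBS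
          hbigD (Subgroup.map_subtype_le D)
        rw [← this, Subgroup.subgroupOf, Subgroup.comap_map_eq_self_of_injective
          (Subgroup.subtype_injective _)]
    rw [Cfsg.thompsonSubgroupOf, Cfsg.thompsonSubgroup, hset, sSup_singleton,
      Subgroup.subgroupOf_map_subtype, inf_eq_left.mpr hBS]
  rw [hJ] at hA
  subst hA
  refine ⟨⟨⟨⟨fun a b => Subtype.ext (mem_AG_commute X hfr a.2 b.2)⟩⟩, fun a ha => ?_⟩,
    (card_AG X hfr).trans (by norm_num), ncard_eq X hfr hnwc, ?_⟩
  · rw [pow_two]; exact mem_AG_sq X hfr ha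
  · intro x hx y hy hxd hyd
    obtain ⟨n, hn, rfl⟩ := trans X hfr (y := x) ⟨hx, hxd⟩
    obtain ⟨m, hm, rfl⟩ := trans X hfr (y := y) ⟨hy, hyd⟩
    exact ⟨m * n⁻¹, (Subgroup.normalizer _).mul_mem hm ((Subgroup.normalizer _).inv_mem hn), by group⟩

end Cfsg.Agent.S5454
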