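import Cfsg.Statements.S5455
import Cfsg.Agent.Lib.ThreeTransM22Exclude72
import Cfsg.Agent.Lib.ThreeTransM22Split72

set_option autoImplicit false
open Cfsg

namespace Cfsg.Agent.S5455

/-- Let G be a finite group with an involution d whose centralizer C is quasisimple, such that C modulo the subgroup generated by d is of type M(22) with respect to some conjugacy class of 3-transpositions generating it and also has an involution whose own centralizer is quasisimple with quotient by it isomorphic to the projective special unitary group of dimension 6 over the field with four elements and which is not weakly closed in that centralizer; and suppose some conjugate of d other than d commutes with d. Let S be a Sylow 2-subgroup of C and A the Thompson subgroup of S, regarded as a subgroup of G. Then A is elementary abelian of order 2^11, exactly 23 conjugates of d lie in A, and the normalizer of A permutes them transitively. -/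
theorem result {G : Type*} [Group G] [Finite G] (d : G) (hd : orderOf d = 2) (hq : Cfsg.IsQuasisimple ↥(Subgroup.centralizer ({d} : Set G))) [hzn : ((Subgroup.zpowers d).subgroupOf (Subgroup.centralizer ({d} : Set G))).Normal] (htype : ∃ E : Set (↥(Subgroup.centralizer ({d} : Set G)) ⧸ (Subgroup.zpowers d).subgroupOf (Subgroup.centralizer ({d} : Set G))), Cfsg.IsThreeTranspositionClass E ∧ Cfsg.IsOfTypeM22 _ E) (hinvol : ∃ d' : ↥(Subgroup.centralizer ({d} : Set G)) ⧸ (Subgroup.zpowers d).subgroupOf (Subgroup.centralizer ({d} : Set G)), orderOf d' = 2 ∧ Cfsg.IsQuasisimple ↥(Subgroup.centralizer ({d'} : Set _)) ∧ (∃ (K : Type) (_ : Field K) (_ : Fintype K), Fintype.card K = 4 ∧ ∃ _ : ((Subgroup.zpowers d').subgroupOf (Subgroup.centralizer ({d'} : Set _))).Normal, Nonempty (↥(Subgroup.centralizer ({d'} : Set _)) ⧸ (Subgroup.zpowers d').subgroupOf (Subgroup.centralizer ({d'} : Set _)) ≃* Cfsg.PSU 6 K 2)) ∧ ∃ g, g * d' * g⁻¹ ∈ Subgroup.centralizer ({d'} : Set _) ∧ g * d' * g⁻¹ ≠ d') (hnwc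 : ∃ g : G, g * d * g⁻¹ ∈ Subgroup.centralizer ({d} : Set G) ∧ g * d * g⁻¹ ≠ d) (S : Sylow 2 ↥(Subgroup.centralizer ({d} : Set G))) (A : Subgroup G) (hA : A = (Cfsg.thompsonSubgroupOf 2 (S : Subgroup ↥(Subgroup.centralizer ({d} : Set G)))).map (Subgroup.centralizer ({d} : Set G)).subtype) : Cfsg.IsElementaryAbelian 2 A ∧ Nat.card A = 2 ^ 11 ∧ Set.ncard {x : G | x ∈ A ∧ IsConj d x} = 23 ∧ ∀ x ∈ A, ∀ y ∈ A, IsConj d x → IsConj d y → ∃ n ∈ Subgroup.normalizer (A : Set G), n * x * n⁻¹ = y := by
  classical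
  subst hA
  set K := (Subgroup.zpowers d).subgroupOf (Subgroup.centralizer ({d} : Set G)) with hK
  have hdC : d ∈ (Subgroup.centralizer ({d} : Set G)) := Subgroup.mem_centralizer_singleton_iff.mpr rfl
  set z : ↥(Subgroup.centralizer ({d} : Set G)) := ⟨d, hdC⟩ with hzdef
  have hd2 : d * d = 1 := by rw [← pow_two, ← hd]; exact pow_orderOf_eq_one d
  have hz : ∀ c : ↥(Subgroup.centralizer ({d} : Set G)), Commute z c := fun c =>
    Subtype.ext (Subgroup.mem_centralizer_singleton_iff.mp c.2).symm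
  have hz2 : z * z = 1 := Subtype.ext hd2
  have hz1 : z ≠ 1 := fun h => by
    have h1 : d = 1 := congrArg Subtype.val h
    rw [h1, orderOf_one] at hd
    omega
  have hπz : (QuotientGroup.mk' K) z = 1 :=
    (QuotientGroup.eq_one_iff z).mpr (Subgroup.mem_zpowers d)
  have hker : ∀ c : ↥(Subgroup.centralizer ({d} : Set G)), (QuotientGroup.mk' K) c = 1 → c = 1 ∨ c = z := by
    intro c hc
    obtain ⟨n, hn⟩ := Subgroup.mem_zpowers_iff.mp
      (Subgroup.mem_subgroupOf.mp ((QuotientGroup.eq_one_iff c).mp hc))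
    rcases Int.even_or_odd n with ⟨k, hk⟩ | ⟨k, hk⟩
    · left
      apply Subtype.ext
      rw [← hn, hk, zpow_add, ← (Commute.refl d).mul_zpow, hd2, one_zpow]
      rfl
    · right
      apply Subtype.ext
      rw [← hn, hk, zpow_add_one, two_mul, zpow_add, ← (Commute.refl d).mul_zpow, hd2, one_zpow, one_mul]
  obtain ⟨E, hEc, hE22⟩ := htype
  have hcen : Subgroup.center ↥(Subgroup.centralizer ({d} : Set G)) = K := by
    refine le_antisymm (fun c hc => (QuotientGroup.eq_one_iff c).mp ?_) fun c hc => ?_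
    · have h1 : (QuotientGroup.mk' K) c ∈ Subgroup.center (↥(Subgroup.centralizer ({d} : Set G)) ⧸ K) := by
        refine Subgroup.mem_center_iff.mpr fun g => ?_
        obtain ⟨g, rfl⟩ := QuotientGroup.mk'_surjective K g
        rw [← map_mul, ← map_mul, Subgroup.mem_center_iff.mp hc g]
      rw [hE22.1] at h1
      exact Subgroup.mem_bot.mp h1
    · rcases hker c ((QuotientGroup.eq_one_iff c).mpr hc) with rfl | rfl
      · exact one_mem _
      · exact Subgroup.mem_center_iff.mpr fun g => (hz g).eq.symm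
  haveI := hq.2
  haveI : Nontrivial (↥(Subgroup.centralizer ({d} : Set G)) ⧸ K) := (QuotientGroup.quotientMulEquivOfEq hcen).symm.toEquiv.nontrivial
  haveI : IsSimpleGroup (↥(Subgroup.centralizer ({d} : Set G)) ⧸ K) :=
    IsSimpleGroup.isSimpleGroup_of_surjective (QuotientGroup.quotientMulEquivOfEq hcen).toMonoidHom
      (QuotientGroup.quotientMulEquivOfEq hcen).surjective
  have hprim := Cfsg.Agent.ThreeTransM22Lifts17.primitive_of_simple hEc (by
    obtain ⟨-, a, ha, b, hb, hab, -⟩ := hE22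
    exact ⟨a, ha, b, hb, fun h => hab (h ▸ Commute.refl a)⟩)
  have X : ThreeTransM22Cover72.Cov (QuotientGroup.mk' K) z E :=
    ⟨ThreeTransM22Lifts17.group_of_class hEc, hprim, hE22, QuotientGroup.mk'_surjective K, hker, hz, hz2,
      hπz, hz1⟩
  obtain ⟨B, hB, hBS, hu⟩ := X.big_unique S
  obtain ⟨t, ht⟩ := ThreeTransM22Block72.block_nonempty X.grp X.prim X.m22 hB
  obtain ⟨x₀, hx₀'⟩ := X.surj t
  have hx : (QuotientGroup.mk' K) x₀ ∈ E := hx₀' ▸ hB.sub ht
  obtain ⟨hcomm, hsq⟩ := X.preimage_elem hx hB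
  set P := (Subgroup.closure B).comap (QuotientGroup.mk' K) with hP
  -- the Thompson subgroup
  have hJ : Cfsg.thompsonSubgroupOf 2 (S : Subgroup ↥(Subgroup.centralizer ({d} : Set G))) = P := by
    set A0 := P.subgroupOf (S : Subgroup ↥(Subgroup.centralizer ({d} : Set G))) with hA0
    have hcard0 : Nat.card ↥A0 = 2048 := by
      rw [Nat.card_congr (Subgroup.subgroupOfEquivOfLe hBS).toEquiv, X.card_preimage hB]
    have hmap : ∀ A1 : Subgroup ↥(S : Subgroup ↥(Subgroup.centralizer ({d} : Set G))), Cfsg.IsElementaryAbelian 2 A1 →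
        Nat.card ↥A1 ≤ 2048 ∧ (Nat.card ↥A1 = 2048 → A1 = A0) := by
      intro A1 h1
      haveI := h1.1
      have hcard : Nat.card ↥(A1.map (S : Subgroup ↥(Subgroup.centralizer ({d} : Set G))).subtype) = Nat.card ↥A1 :=
        Subgroup.card_map_of_injective (Subgroup.subtype_injective _)
      obtain ⟨hle, heq⟩ := hu (A1.map (S : Subgroup ↥(Subgroup.centralizer ({d} : Set G))).subtype) (Subgroup.map_subtype_le A1)
        (by
          rintro _ ⟨a, ha, rfl⟩ _ ⟨b, hb, rfl⟩
          exact (show Commute a b from congrArg Subtype.val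
            (mul_comm' (⟨a, ha⟩ : ↥A1) ⟨b, hb⟩)).map _)
        (by
          rintro _ ⟨a, ha, rfl⟩
          rw [← map_mul, ← pow_two, h1.2 a ha, map_one])
      refine ⟨hcard ▸ hle, fun h => ?_⟩
      rw [hA0, show P = A1.map (S : Subgroup ↥(Subgroup.centralizer ({d} : Set G))).subtype from (heq (hcard.trans h)).symm, Subgroup.subgroupOf,
        Subgroup.comap_map_eq_self_of_injective (Subgroup.subtype_injective _)]
    have helem : Cfsg.IsElementaryAbelian 2 A0 :=
      ⟨⟨⟨fun a b => Subtype.ext (Subtype.ext (hcomm _ a.2 _ b.2).eq)⟩⟩, fun a ha => Subtype.ext (by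
        rw [Subgroup.coe_pow, pow_two]; exact hsq _ ha)⟩
    have hset : Cfsg.maxElementaryAbelianSubgroups 2 ↥(S : Subgroup ↥(Subgroup.centralizer ({d} : Set G))) = {A0} := by
      ext A1
      constructor
      · rintro ⟨h1, h2⟩
        exact (hmap A1 h1).2 (le_antisymm (hmap A1 h1).1 (hcard0 ▸ h2 A0 helem))
      · rintro rfl
        exact ⟨helem, fun A2 h2 => hcard0.symm ▸ (hmap A2 h2).1⟩
    rw [Cfsg.thompsonSubgroupOf, Cfsg.thompsonSubgroup, hset, sSup_singleton, hA0,
      Subgroup.subgroupOf_map_subtype, inf_eq_left.mpr hBS]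
  rw [hJ, show P.map (Subgroup.centralizer ({d} : Set G)).subtype = ThreeTransM22Fusion72.pre (QuotientGroup.mk' K) B from rfl]
  have hperf : commutator ↥(Subgroup.centralizer ({d} : Set G)) = ⊤ := Group.isPerfect_def.mp hq.1
  refine ⟨⟨⟨⟨fun a b => Subtype.ext
      (ThreeTransM22Fusion72.pre_comm X rfl hB a.2 b.2 hx).eq⟩⟩, fun a ha => ?_⟩,
    ThreeTransM22Fusion72.card_pre X rfl hB, ?_, fun x hxA y hyA hdx hdy => ?_⟩
  · rw [pow_two]; exact ThreeTransM22Fusion72.pre_sq X rfl hB ha hx
  · exact (ThreeTransM22Exclude72.dichotomy23 X rfl hx hB hnwc).resolve_right fun hex =>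
      ThreeTransM22Split72.not_separated X hx hB hperf hex
  · obtain ⟨n, hn, hnx⟩ := ThreeTransM22Fusion72.transitive X rfl hB hx ⟨hxA, hdx⟩
    obtain ⟨m, hm, hmy⟩ := ThreeTransM22Fusion72.transitive X rfl hB hx ⟨hyA, hdy⟩
    refine ⟨m * n⁻¹, Subgroup.mul_mem _ hm (Subgroup.inv_mem _ hn), ?_⟩
    rw [← hnx, ← hmy]; group

end Cfsg.Agent.S5455
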