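import Cfsg.Statements.S5459
import Cfsg.Agent.Lib.IsolatedInv
-- import your own Cfsg.Agent.* helpers here

set_option autoImplicit false
open Cfsg

namespace Cfsg.Agent.S5459

open scoped commutatorElement in
/-- Let G be a finite group with a quasisimple normal subgroup L and an involution d such that G is generated by L and d, the centre of L has odd order, and d inverts every element of the centre of L. If the commuting graph on the conjugacy class of the image of d in G modulo the centre of L is connected, then the commuting graph on the conjugacy class of d is connected. -/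
theorem result {G : Type*} [Group G] [Finite G] (L : Subgroup G) [L.Normal] (hL : Cfsg.IsQuasisimple ↥L) (d : G) (hd : orderOf d = 2) (hgen : L ⊔ Subgroup.zpowers d = ⊤) (hodd : Odd (Nat.card ↥(Subgroup.center ↥L))) (hinv : ∀ c ∈ (Subgroup.center ↥L).map L.subtype, d * c * d⁻¹ = c⁻¹) [hn : ((Subgroup.center ↥L).map L.subtype).Normal] (hconn : (Cfsg.commutingGraph (conjugatesOf (QuotientGroup.mk d : G ⧸ (Subgroup.center ↥L).map L.subtype))).Connected) : (Cfsg.commutingGraph (conjugatesOf d)).Connected := by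
  classical
  set Z0 := (Subgroup.center ↥L).map L.subtype with hZ0
  set S := conjugatesOf d with hS
  have hdd : d * d = 1 := IsolatedInv.sq_of_orderOf_two hd
  have hcentral : ∀ c ∈ Z0, ∀ l ∈ L, c * l = l * c := by
    rintro _ ⟨c, hc, rfl⟩ l hl
    exact (congrArg Subtype.val (Subgroup.mem_center_iff.mp hc ⟨l, hl⟩)).symm
  have hroot : ∀ c ∈ Z0, ∃ f ∈ Z0, f * f = c := by
    intro c hc
    have hcard : Nat.card Z0 = Nat.card (Subgroup.center ↥L) :=
      Subgroup.card_map_of_injective L.subtype_injective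
    obtain ⟨f, hf⟩ : ∃ f : Z0, f * f = ⟨c, hc⟩ := by
      obtain ⟨j, hj⟩ := hcard ▸ hodd
      refine ⟨(⟨c, hc⟩ : Z0) ^ (j + 1), ?_⟩
      rw [← pow_add, show j + 1 + (j + 1) = Nat.card Z0 + 1 by omega, pow_succ, pow_card_eq_one',
        one_mul]
    exact ⟨f, f.2, congrArg Subtype.val hf⟩
  have hinvS : ∀ x ∈ S, ∀ c ∈ Z0, x * c * x⁻¹ = c⁻¹ := by
    intro x hx c hc
    obtain ⟨g, rfl⟩ := isConj_iff.mp hx
    have h1 := hinv _ (by simpa using hn.conj_mem c hc g⁻¹ : g⁻¹ * c * g ∈ Z0)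
    calc g * d * g⁻¹ * c * (g * d * g⁻¹)⁻¹ = g * (d * (g⁻¹ * c * g) * d⁻¹) * g⁻¹ := by group
      _ = c⁻¹ := by rw [h1]; group
  have hconjS : ∀ g, ∀ x ∈ S, g * x * g⁻¹ ∈ S := fun g x hx =>
    (hx : IsConj d x).trans (isConj_iff.mpr ⟨g, rfl⟩)
  have hshift : ∀ x ∈ S, ∀ f ∈ Z0, (f * f) * x = f * x * f⁻¹ := by
    intro x hx f hf
    have h1 := hinvS x hx f hf
    calc f * f * x = f * (x * f * x⁻¹)⁻¹ * x := by rw [h1, inv_inv]
      _ = f * x * f⁻¹ := by group
  -- connectedness relation inside `G`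
  let R : G → G → Prop :=
    Relation.ReflTransGen fun x y => x ∈ S ∧ y ∈ S ∧ Commute x y
  have hRconj : ∀ (g : G) {x y}, R x y → R (g * x * g⁻¹) (g * y * g⁻¹) := fun g x y h =>
    h.lift (fun x => g * x * g⁻¹) fun a b ⟨ha, hb, hab⟩ =>
      ⟨hconjS g a ha, hconjS g b hb, by
        show g * a * g⁻¹ * (g * b * g⁻¹) = g * b * g⁻¹ * (g * a * g⁻¹)
        calc g * a * g⁻¹ * (g * b * g⁻¹) = g * (a * b) * g⁻¹ := by group
          _ = g * (b * a) * g⁻¹ := by rw [hab.eq]
          _ = _ := by group⟩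
  have hRsymm : ∀ {x y}, R x y → R y x := by
    intro x y h
    induction h with
    | refl => exact Relation.ReflTransGen.refl
    | tail _ hstep ih => exact Relation.ReflTransGen.head ⟨hstep.2.1, hstep.1, hstep.2.2.symm⟩ ih
  let K : Subgroup G :=
    { carrier := {g | R d (g * d * g⁻¹)}
      one_mem' := by simpa using (Relation.ReflTransGen.refl : R d d)
      mul_mem' := by
        intro a b ha hb
        refine ha.trans ?_
        have := hRconj a hb
        simpa [mul_assoc] using this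
      inv_mem' := by
        intro a ha
        have := hRsymm (hRconj a⁻¹ ha)
        simpa [mul_assoc] using this }
  have hCK : ∀ g : G, g * d = d * g → g ∈ K := by
    intro g hg
    show R d (g * d * g⁻¹)
    rw [hg, mul_inv_cancel_right]
  let π : G →* G ⧸ Z0 := QuotientGroup.mk' Z0
  -- lift the connecting paths
  have hlift : ∀ u : conjugatesOf (π d), ∃ k ∈ K, π (k * d * k⁻¹) = u := by
    intro u
    have hreach := (SimpleGraph.reachable_iff_reflTransGen _ _).mp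
      (hconn.preconnected ⟨π d, mem_conjugatesOf_self⟩ u)
    induction hreach with
    | refl => exact ⟨1, one_mem _, by simp⟩
    | @tail v w _ hvw ih =>
      obtain ⟨k, hk, hkv⟩ := ih
      obtain ⟨gbar, hgbar⟩ := isConj_iff.mp w.2
      obtain ⟨g, rfl⟩ := QuotientGroup.mk'_surjective Z0 gbar
      set x := k * d * k⁻¹ with hxdef
      set y := g * d * g⁻¹ with hydef
      have hxS : x ∈ S := isConj_iff.mpr ⟨k, rfl⟩
      have hyS : y ∈ S := isConj_iff.mpr ⟨g, rfl⟩
      have hyw : π y = w := by rw [hydef, map_mul, map_mul, map_inv]; exact hgbar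
      have hcom : Commute (π x) (π y) := by
        rw [hkv, hyw]
        rcases (SimpleGraph.fromRel_adj _ v w).mp hvw with ⟨-, h1 | h1⟩
        · exact h1
        · exact h1.symm
      have he : x * y * x⁻¹ * y⁻¹ ∈ Z0 := by
        rw [← QuotientGroup.eq_one_iff]
        show π (x * y * x⁻¹ * y⁻¹) = 1
        rw [map_mul, map_mul, map_mul, map_inv, map_inv, hcom.eq]; group
      obtain ⟨e₂, he₂, hee₂⟩ := hroot _ he
      obtain ⟨e₄, he₄, hee₄⟩ := hroot _ he₂
      set y' := e₄ * y * e₄⁻¹ with hy'def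
      have hy'S : y' ∈ S := hconjS _ _ hyS
      have hy'e : y' = e₂ * y := by rw [hy'def, ← hshift y hyS e₄ he₄, hee₄]
      have hcomm' : Commute x y' := by
        show x * y' = y' * x
        have h1 := hinvS x hxS e₂ he₂
        calc x * y' = (x * e₂ * x⁻¹) * (x * y * x⁻¹ * y⁻¹) * (y * x) := by rw [hy'e]; group
          _ = y' * x := by rw [h1, ← hee₂, hy'e]; group
      refine ⟨e₄ * g, ?_, ?_⟩
      · have e : (e₄ * g) * d * (e₄ * g)⁻¹ = y' := by rw [hy'def, hydef]; group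
        show R d ((e₄ * g) * d * (e₄ * g)⁻¹)
        rw [e]
        exact Relation.ReflTransGen.tail hk ⟨hxS, hy'S, hcomm'⟩
      · have e : (e₄ * g) * d * (e₄ * g)⁻¹ = y' := by rw [hy'def, hydef]; group
        rw [e, hy'def, map_mul, map_mul, map_inv, show π e₄ = 1 from (QuotientGroup.eq_one_iff _).mpr he₄,
          inv_one, one_mul, mul_one, hyw]
  have hKZ : ∀ g : G, ∃ k ∈ K, ∃ c ∈ Z0, g = k * c := by
    intro g
    obtain ⟨k, hk, hkg⟩ := hlift ⟨π (g * d * g⁻¹), π.map_isConj (isConj_iff.mpr ⟨g, rfl⟩)⟩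
    have he : (k⁻¹ * g) * d * (k⁻¹ * g)⁻¹ * d⁻¹ ∈ Z0 := by
      rw [← QuotientGroup.eq_one_iff]
      show π ((k⁻¹ * g) * d * (k⁻¹ * g)⁻¹ * d⁻¹) = 1
      have : (k⁻¹ * g) * d * (k⁻¹ * g)⁻¹ = k⁻¹ * (g * d * g⁻¹) * k := by group
      rw [this, map_mul, map_mul, map_mul]
      simp only at hkg
      rw [← hkg, ← map_mul, ← map_mul, ← map_mul]
      have : k⁻¹ * (k * d * k⁻¹) * k * d⁻¹ = 1 := by group
      rw [this, map_one]
    obtain ⟨f, hf, hff⟩ := hroot _ he
    have hcomm : (f⁻¹ * (k⁻¹ * g)) * d = d * (f⁻¹ * (k⁻¹ * g)) := by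
      have e2 := hshift d mem_conjugatesOf_self f hf
      rw [hff, inv_mul_cancel_right] at e2
      apply mul_inv_eq_iff_eq_mul.mp
      calc f⁻¹ * (k⁻¹ * g) * d * (f⁻¹ * (k⁻¹ * g))⁻¹
          = f⁻¹ * ((k⁻¹ * g) * d * (k⁻¹ * g)⁻¹) * f := by group
        _ = d := by rw [e2]; group
    refine ⟨k * (f⁻¹ * (k⁻¹ * g)), K.mul_mem hk (hCK _ hcomm),
      (f⁻¹ * (k⁻¹ * g))⁻¹ * f * (f⁻¹ * (k⁻¹ * g)), ?_, by group⟩
    simpa using hn.conj_mem f hf (f⁻¹ * (k⁻¹ * g))⁻¹
  have hLK : L ≤ K := by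
    have h1 : L = ⁅L, L⁆ := by
      have := congrArg (Subgroup.map L.subtype) hL.1.commutator_eq_top
      rw [Subgroup.map_subtype_commutator, ← MonoidHom.range_eq_map, Subgroup.range_subtype] at this
      exact this.symm
    rw [h1, Subgroup.commutator_le]
    intro a ha b hb
    obtain ⟨k₁, hk₁, c₁, hc₁, rfl⟩ := hKZ a
    obtain ⟨k₂, hk₂, c₂, hc₂, rfl⟩ := hKZ b
    have hcL : ∀ c ∈ Z0, c ∈ L := fun c hc => Subgroup.map_subtype_le _ hc
    have hk₁L : k₁ ∈ L := by simpa using L.mul_mem ha (L.inv_mem (hcL _ hc₁))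
    have hk₂L : k₂ ∈ L := by simpa using L.mul_mem hb (L.inv_mem (hcL _ hc₂))
    have e : ⁅k₁ * c₁, k₂ * c₂⁆ = ⁅k₁, k₂⁆ := by
      have h1 : c₁ * (k₂ * c₂) * c₁⁻¹ = k₂ * c₂ := by
        rw [hcentral c₁ hc₁ _ hb, mul_inv_cancel_right]
      have h2 : c₂ * k₁⁻¹ * c₂⁻¹ = k₁⁻¹ := by
        rw [hcentral c₂ hc₂ _ (L.inv_mem hk₁L), mul_inv_cancel_right]
      calc ⁅k₁ * c₁, k₂ * c₂⁆ = k₁ * (c₁ * (k₂ * c₂) * c₁⁻¹) * k₁⁻¹ * (k₂ * c₂)⁻¹ := by
            rw [commutatorElement_def]; group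
        _ = k₁ * k₂ * (c₂ * k₁⁻¹ * c₂⁻¹) * k₂⁻¹ := by rw [h1]; group
        _ = ⁅k₁, k₂⁆ := by rw [h2, commutatorElement_def]
    rw [e]
    exact mul_mem (mul_mem (mul_mem hk₁ hk₂) (inv_mem hk₁)) (inv_mem hk₂)
  have hdK : d ∈ K := hCK d rfl
  have hKtop : K = ⊤ := by
    rw [eq_top_iff, ← hgen]
    exact sup_le hLK (Subgroup.zpowers_le.mpr hdK)
  have hreach : ∀ a b : G, R a b → ∀ (ha : a ∈ conjugatesOf d) (hb : b ∈ conjugatesOf d),
      (Cfsg.commutingGraph (conjugatesOf d)).Reachable ⟨a, ha⟩ ⟨b, hb⟩ := by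
    intro a b hab
    induction hab with
    | refl => exact fun _ _ => SimpleGraph.Reachable.refl _
    | @tail u v _ huv ih =>
      intro ha hb
      refine (ih ha huv.1).trans ?_
      by_cases he : u = v
      · subst he; exact SimpleGraph.Reachable.refl _
      · exact SimpleGraph.Adj.reachable
          ((SimpleGraph.fromRel_adj _ _ _).mpr ⟨fun e => he (congrArg Subtype.val e), Or.inl huv.2.2⟩)
  have hall : ∀ x ∈ S, R d x := by
    intro x hx
    obtain ⟨g, rfl⟩ := isConj_iff.mp hx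
    exact (hKtop ▸ Subgroup.mem_top g : g ∈ K)
  haveI : Nonempty ↥(conjugatesOf d) := ⟨⟨d, mem_conjugatesOf_self⟩⟩
  exact ⟨fun x y => hreach _ _ ((hRsymm (hall _ x.2)).trans (hall _ y.2)) x.2 y.2⟩

end Cfsg.Agent.S5459
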