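import Cfsg.Statements.S5465
import Cfsg.Agent.Lib.ThreeTransM24Duo39
import Cfsg.Agent.Lib.ThreeTransM24Layer58
import Cfsg.Agent.Lib.ThreeTransM24Local88

set_option autoImplicit false
open Cfsg

namespace Cfsg.Agent.S5465

/-- Let G be a finite group with trivial centre generated by a conjugation-invariant set D of 3-transpositions on which it acts primitively, such that for some d in D the subgroup generated by the members of D other than d commuting with d has central largest normal 2- and 3-subgroups, and suppose G with D is of type M(24), and let L be the commutator subgroup of G. Let d₁, d₂ be distinct commuting members of D and j = d₁ d₂. Then K, the joint centralizer of d₁ and d₂ in L, is quasisimple, is the generalized Fitting subgroup of the centralizer of j in L, has index 2 in it and contains j, and the centralizer of j in L modulo the subgroup generated by j is isomorphic to the full automorphism group of the Fischer group Fi₂₂ (as presented). -/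
theorem result {G : Type*} [Group G] [Finite G] {D : Set G} (hD : Cfsg.IsThreeTranspositionGroup D) (hprim : Cfsg.IsPrimitiveUnderConj D) (d₀ : G) (hd₀ : d₀ ∈ D) (h3 : Cfsg.pCore 3 ↥(Subgroup.closure {y : G | y ∈ D ∧ y ≠ d₀ ∧ Commute d₀ y}) ≤ Subgroup.center ↥(Subgroup.closure {y : G | y ∈ D ∧ y ≠ d₀ ∧ Commute d₀ y})) (h2 : Cfsg.pCore 2 ↥(Subgroup.closure {y : G | y ∈ D ∧ y ≠ d₀ ∧ Commute d₀ y}) ≤ Subgroup.center ↥(Subgroup.closure {y : G | y ∈ D ∧ y ≠ d₀ ∧ Commute d₀ y})) (h24 : Cfsg.IsOfTypeM24 G D) (L : Subgroup G) (hL : L = commutator G) (d₁ d₂ : G) (h₁ : d₁ ∈ D) (h₂ : d₂ ∈ D) (hne : d₁ ≠ d₂) (hc : Commute d₁ d₂) (K CL : Subgroup G) (hK : K = L ⊓ Subgroup.centralizer ({d₁, d₂} : Set G)) (hCL : CL = L ⊓ Subgroup.centralizer ({d₁ * d₂} : Set G)) [hn : ((Subgroup.zpowers (d₁ * d₂)).subgroupOf CL).Normal] : Cfsg.IsQuasisimple ↥K ∧ K = (Cfsg.generalizedFittingSubgroup ↥CL).map CL.subtype ∧ K ≤ CL ∧ (K.subgroupOf CL).index = 2 ∧ d₁ * d₂ ∈ K ∧ Nonempty (↥CL ⧸ (Subgroup.zpowers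 (d₁ * d₂)).subgroupOf CL ≃* MulAut Cfsg.Spor.Fi22) := by
  subst hL hK hCL
  have hyp := ThreeTransM24Local88.hyp_all hD hprim hd₀ h3 h2 h24
  have H := hyp d₁ h₁
  have hev : ThreeTransM24Inner39.Even D :=
    ⟨(ThreeTransM24Layer58.layer H).1, (ThreeTransM24Layer58.layer H).2⟩
  have hb : d₂ ∈ ThreeTransDescent.near D d₁ := ⟨h₂, hne.symm, hc⟩
  obtain ⟨hq, hz, ⟨iso⟩⟩ := ThreeTransM24Duo39.structure_K H hev hb
  obtain ⟨hle, hidx, hcs⟩ := ThreeTransM24Duo39.index_two H hev hb
  set E := Subgroup.zpowers (d₁ * d₂) with hE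
  set C := commutator G ⊓ Subgroup.centralizer ({d₁ * d₂} : Set G) with hC
  set K := commutator G ⊓ Subgroup.centralizer ({d₁, d₂} : Set G) with hK
  have hzc : E = K ⊓ Subgroup.centralizer (K : Set G) := by
    rw [← hz]; exact ComponentsBasic.map_center_subtype K
  have hEK : E ≤ K := hzc.le.trans inf_le_left
  haveI hn' : (K.subgroupOf C).Normal := Subgroup.normal_of_index_eq_two hidx
  have hcK : Subgroup.centralizer ((K.subgroupOf C : Subgroup ↥C) : Set ↥C) ≤ K.subgroupOf C := by
    intro x hx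
    exact hcs x x.2 fun k hk =>
      (congrArg Subtype.val (Subgroup.mem_centralizer_iff.mp hx ⟨k, hle hk⟩ hk)).symm
  have hq' : Cfsg.IsQuasisimple ↥(K.subgroupOf C) :=
    ComponentsBasic.isQuasisimple_of_mulEquiv (Subgroup.subgroupOfEquivOfLe hle).symm hq
  have hgen : K = (Cfsg.generalizedFittingSubgroup ↥C).map C.subtype := by
    rw [ThreeTransM24Inner39.gen_eq_of_quasisimple hn' hq' hcK]
    exact (Subgroup.map_subgroupOf_eq_of_le hle).symm
  refine ⟨hq, hgen, hle, hidx, hEK (Subgroup.mem_zpowers _), ?_⟩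
  have hcz : E.subgroupOf K = Subgroup.center ↥K := by
    rw [← hz]; exact Subgroup.comap_map_eq_self_of_injective K.subtype_injective _
  have hE' : E.subgroupOf C = K.subgroupOf C ⊓
      Subgroup.centralizer ((K.subgroupOf C : Subgroup ↥C) : Set ↥C) := by
    ext x
    rw [Subgroup.mem_subgroupOf, hzc]
    show ((x : G) ∈ K ∧ (x : G) ∈ Subgroup.centralizer (K : Set G)) ↔
      ((x : G) ∈ K ∧ x ∈ Subgroup.centralizer ((K.subgroupOf C : Subgroup ↥C) : Set ↥C))
    refine and_congr_right fun _ => ?_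
    constructor
    · intro h
      exact Subgroup.mem_centralizer_iff.mpr fun y hy =>
        Subtype.ext (Subgroup.mem_centralizer_iff.mp h y hy)
    · intro h
      exact Subgroup.mem_centralizer_iff.mpr fun y hy =>
        congrArg Subtype.val (Subgroup.mem_centralizer_iff.mp h ⟨y, hle hy⟩ hy)
  haveI : Finite Cfsg.Spor.Fi22 := Finite.of_equiv _ iso.toEquiv
  refine ThreeTransM24Duo39.aut_of_index (K.subgroupOf C) (E.subgroupOf C)
    (fun x hx => hEK hx) hq' hE' hcK ?_ ?_
  · rw [hidx]; exact ThreeTransM24Duo39.card_mulAut_fi22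
  · refine (QuotientGroup.congr _ _ (Subgroup.subgroupOfEquivOfLe hle) ?_).trans iso
    rw [← hcz]
    ext y
    constructor
    · rintro ⟨x, hx, rfl⟩; exact hx
    · intro hy
      exact ⟨⟨⟨(y : G), hle y.2⟩, y.2⟩, hy, Subtype.ext rfl⟩

end Cfsg.Agent.S5465
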