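import Cfsg.Statements.S5466
import Cfsg.Agent.Lib.ThreeTransM24Triple39
import Cfsg.Agent.Lib.ThreeTransM24Layer58
import Cfsg.Agent.Lib.ThreeTransM24Local88
import Cfsg.Agent.S5464

set_option autoImplicit false
open Cfsg

namespace Cfsg.Agent.S5466

/-- Let G be a finite group with trivial centre generated by a conjugation-invariant set D of 3-transpositions on which it acts primitively, such that for some d in D the subgroup generated by the members of D other than d commuting with d has central largest normal 2- and 3-subgroups, and suppose G with D is of type M(24), and let L be the commutator subgroup of G. Let d₁, d₂, d₃ be distinct pairwise commuting members of D, j their product, E the subgroup generated by d₁ d₂ and d₁ d₃ (a four-group lying in L), CL the centralizer of j in L and K its generalized Fitting subgroup. Then K is quasisimple with centre E, K is the centralizer of E in L, K modulo E is isomorphic to the projective special unitary group of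 dimension 6 over the field with four elements, CL/K is isomorphic to the symmetric group of degree 3, and CL modulo E is isomorphic to the full automorphism group of that unitary group. -/
theorem result {G : Type*} [Group G] [Finite G] {D : Set G} (hD : Cfsg.IsThreeTranspositionGroup D) (hprim : Cfsg.IsPrimitiveUnderConj D) (d₀ : G) (hd₀ : d₀ ∈ D) (h3 : Cfsg.pCore 3 ↥(Subgroup.closure {y : G | y ∈ D ∧ y ≠ d₀ ∧ Commute d₀ y}) ≤ Subgroup.center ↥(Subgroup.closure {y : G | y ∈ D ∧ y ≠ d₀ ∧ Commute d₀ y})) (h2 : Cfsg.pCore 2 ↥(Subgroup.closure {y : G | y ∈ D ∧ y ≠ d₀ ∧ Commute d₀ y}) ≤ Subgroup.center ↥(Subgroup.closure {y : G | y ∈ D ∧ y ≠ d₀ ∧ Commute d₀ y})) (h24 : Cfsg.IsOfTypeM24 G D) (L : Subgroup G) (hL : L = commutator G) (d₁ d₂ d₃ : G) (h₁ : d₁ ∈ D) (h₂ : d₂ ∈ D) (h₃ : d₃ ∈ D) (h12 : d₁ ≠ d₂) (h13 : d₁ ≠ d₃) (h23 : d₂ ≠ d₃) (c12 : Commute d₁ d₂) (c13 : Commute d₁ d₃) (c23 : Commute d₂ d₃) (E CL K : Subgroup G) (hE : E = Subgroup.closure ({d₁ * d₂, d₁ *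 d₃} : Set G)) (hCL : CL = L ⊓ Subgroup.centralizer ({d₁ * d₂ * d₃} : Set G)) (hK : K = (Cfsg.generalizedFittingSubgroup ↥CL).map CL.subtype) : Cfsg.IsQuasisimple ↥K ∧ (Subgroup.center ↥K).map K.subtype = E ∧ K = L ⊓ Subgroup.centralizer (E : Set G) ∧ (∃ (_ : (E.subgroupOf K).Normal) (F : Type) (_ : Field F) (_ : Fintype F), Fintype.card F = 4 ∧ Nonempty (↥K ⧸ E.subgroupOf K ≃* Cfsg.PSU 6 F 2)) ∧ ∃ _ : (K.subgroupOf CL).Normal, Nonempty (↥CL ⧸ K.subgroupOf CL ≃* Equiv.Perm (Fin 3)) ∧ E ≤ CL ∧ ∃ (_ : (E.subgroupOf CL).Normal) (F : Type) (_ : Field F) (_ : Fintype F), Fintype.card F = 4 ∧ Nonempty (↥CL ⧸ E.subgroupOf CL ≃* MulAut (Cfsg.PSU 6 F 2)) := by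
  subst hL hE hCL hK
  have hyp := ThreeTransM24Local88.hyp_all hD hprim hd₀ h3 h2 h24
  have hev : ThreeTransM24Inner39.Even D :=
    ⟨(ThreeTransM24Layer58.layer (hyp d₁ h₁)).1, (ThreeTransM24Layer58.layer (hyp d₁ h₁)).2⟩
  have huniq := fun j l l' hl hl' =>
    S5464.result hD hprim d₀ hd₀ h3 h2 (Or.inr h24) 3 le_rfl j l l' hl hl'
  obtain ⟨hq, hz, F, _, _, hF, ⟨iso⟩⟩ :=
    ThreeTransM24Triple39.structure_K hyp hev h₁ h₂ h₃ h12 h13 h23 c12 c13 c23
  have hKeq := ThreeTransM24Triple39.K_eq hyp hev h₁ h₂ h₃ h12 h13 h23 c12 c13 c23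
  obtain ⟨hle, hn, ⟨eS⟩⟩ :=
    ThreeTransM24Triple39.quotient_sym hyp hev h₁ h₂ h₃ h12 h13 h23 c12 c13 c23 huniq
  set E := Subgroup.closure ({d₁ * d₂, d₁ * d₃} : Set G) with hE
  set C := commutator G ⊓ Subgroup.centralizer ({d₁ * d₂ * d₃} : Set G) with hC
  set K := commutator G ⊓ Subgroup.centralizer ({d₁, d₂, d₃} : Set G) with hK
  have hzc : E = K ⊓ Subgroup.centralizer (K : Set G) := by
    rw [← hz]; exact ComponentsBasic.map_center_subtype K
  have hEK : E ≤ K := hzc.le.trans inf_le_left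
  haveI := hn
  have hcK : Subgroup.centralizer ((K.subgroupOf C : Subgroup ↥C) : Set ↥C) ≤ K.subgroupOf C := by
    intro x hx
    rw [Subgroup.mem_subgroupOf, hKeq]
    refine ⟨x.2.1, Subgroup.mem_centralizer_iff.mpr fun y hy => ?_⟩
    exact congrArg Subtype.val (Subgroup.mem_centralizer_iff.mp hx ⟨y, hle (hEK hy)⟩ (hEK hy))
  have e0 := Subgroup.subgroupOfEquivOfLe hle
  have hq' : Cfsg.IsQuasisimple ↥(K.subgroupOf C) := ComponentsBasic.isQuasisimple_of_mulEquiv e0.symm hq
  have hgen : (Cfsg.generalizedFittingSubgroup ↥C).map C.subtype = K := by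
    rw [ThreeTransM24Inner39.gen_eq_of_quasisimple hn hq' hcK]
    exact Subgroup.map_subgroupOf_eq_of_le hle
  rw [hgen]
  have hcz : E.subgroupOf K = Subgroup.center ↥K := by
    rw [← hz]; exact Subgroup.comap_map_eq_self_of_injective K.subtype_injective _
  haveI hnK : (E.subgroupOf K).Normal := by rw [hcz]; infer_instance
  have hE' : E.subgroupOf C = K.subgroupOf C ⊓
      Subgroup.centralizer ((K.subgroupOf C : Subgroup ↥C) : Set ↥C) := by
    ext x
    rw [Subgroup.mem_subgroupOf, hzc]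
    show ((x : G) ∈ K ∧ (x : G) ∈ Subgroup.centralizer (K : Set G)) ↔
      ((x : G) ∈ K ∧ x ∈ Subgroup.centralizer ((K.subgroupOf C : Subgroup ↥C) : Set ↥C))
    refine and_congr_right fun _ => ?_
    constructor
    · intro h
      exact Subgroup.mem_centralizer_iff.mpr fun y hy =>
        Subtype.ext (Subgroup.mem_centralizer_iff.mp h y hy)
    · intro h
      exact Subgroup.mem_centralizer_iff.mpr fun y hy =>
        congrArg Subtype.val (Subgroup.mem_centralizer_iff.mp h ⟨y, hle hy⟩ hy)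
  haveI hnE : (E.subgroupOf C).Normal := by rw [hE']; infer_instance
  refine ⟨hq, hz, hKeq, ⟨hnK, F, inferInstance, inferInstance, hF,
    ⟨(QuotientGroup.quotientMulEquivOfEq hcz).trans iso⟩⟩, hn, ⟨eS⟩, hEK.trans hle, hnE, F,
    inferInstance, inferInstance, hF, ?_⟩
  refine ThreeTransM24Triple39.aut_of_index_six (K.subgroupOf C) (E.subgroupOf C)
    (fun x hx => hEK hx) hq' hE' hcK ?_ hF ?_
  · rw [Subgroup.index_eq_card, Nat.card_congr eS.toEquiv, Nat.card_perm, Nat.card_fin]
    rfl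
  · refine (QuotientGroup.congr _ _ (Subgroup.subgroupOfEquivOfLe hle) ?_).trans iso
    rw [← hcz]
    ext y
    constructor
    · rintro ⟨x, hx, rfl⟩; exact hx
    · intro hy
      exact ⟨⟨⟨(y : G), hle y.2⟩, y.2⟩, hy, Subtype.ext rfl⟩

end Cfsg.Agent.S5466
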