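import Cfsg.Statements.S5472
import Cfsg.Agent.Lib.ThreeTransM22OuterClass48
import Cfsg.Agent.Lib.ThreeTransM22SFixAut48
import Cfsg.Agent.Lib.ThreeTransM22SabFix48

set_option autoImplicit false
open Cfsg

namespace Cfsg.Agent.S5472

open Cfsg.Agent.CosetCertCore Cfsg.Agent.CosetCertTable
open Cfsg.Agent.ThreeTransM22Tab48 Cfsg.Agent.ThreeTransM22Word48 Cfsg.Agent.ThreeTransM22SFix48
open Cfsg.Agent.ThreeTransM22OutData48 (PA PB T7)
open Cfsg.Agent.ThreeTransFi22Out41 (e pi)
open Cfsg.Agent.CosetCertU62 (T22)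
open Cfsg.Agent.ThreeTransAut41 (cntFrom)

set_option maxRecDepth 100000
set_option maxHeartbeats 800000

/-- The action of the second representative on the points. -/
noncomputable def fA (p : Nat) : Nat := pi (T22.run (wd PA) p)

theorem count64 : cntFrom (fun p => Nat.beq (fA p) p) T22.N 0 0 = 64 := by decide +kernel

theorem fA_ok : allFrom (fun p => !Nat.beq (fA p) p || (cm PA p &&
    (Nat.beq p PA.1 || T7.any fun P => !cm P p))) T22.N 0 = true := by
  decide +kernel

theorem pa_self : fA PA.1 = PA.1 := by decide +kernel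

theorem pb_t7 : PB ∈ T7 ∧ PB.1 ≠ PA.1 := by decide +kernel

section

variable {G : Type*} [Group G] [Finite G] {D : Set G} {dN : Nat → G} {s : MulAut G}
  (T : Tab D dN s)
include T

theorem fA_dN {q : Nat} (hq : q < T22.N) :
    fA q < T22.N ∧ (s * MulAut.conj (dN PA.1)) (dN q) = dN (fA q) := by
  have hr := run_lt (wd_lt T (ok T (P := PA) (by simp))) hq
  refine ⟨(pi_spec _ hr).1, ?_⟩
  show s (dN PA.1 * dN q * (dN PA.1)⁻¹) = _
  rw [conj_pt T (ok T (P := PA) (by simp)) hq, T.aut _ hr]
  rfl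

theorem fix_iff (g : G) : (s * MulAut.conj (dN PA.1)) g = g ↔
    g ∈ fixS s ⊓ Subgroup.centralizer ({dN PA.1} : Set G) := by
  set t := s * MulAut.conj (dN PA.1) with ht
  constructor
  · intro hg
    have hta : t (dN PA.1) = dN PA.1 := by rw [(fA_dN T (aN T)).2, pa_self]
    have hall : ∀ q < T22.N, fA q = q →
        Commute (dN PA.1) (dN q) ∧ (q = PA.1 ∨ ∃ P ∈ T7, ¬ Commute (dN P.1) (dN q)) := by
      intro q hq hf
      have h := all_of fA_ok hq
      simp only [show Nat.beq (fA q) q = true from Nat.beq_eq.mpr hf, Bool.not_true, Bool.false_or,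
        Bool.and_eq_true, Bool.or_eq_true, Nat.beq_eq, List.any_eq_true, Bool.not_eq_true'] at h
      refine ⟨(cm_iff T (ok T (by simp)) hq).mp h.1, h.2.imp id ?_⟩
      rintro ⟨P, hP, h1⟩
      refine ⟨P, hP, fun hc => ?_⟩
      rw [(cm_iff T (t7_mem T hP).1 hq).mpr hc] at h1
      exact Bool.noConfusion h1
    obtain ⟨q, hq, e1⟩ := T.surj _ (T.ts.conj g _ (T.mem _ (aN T)))
    have hqf : fA q = q := T.inj _ (fA_dN T hq).1 _ hq (by
      rw [← (fA_dN T hq).2, e1, map_mul, map_mul, map_inv, hg, hta])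
    have hqa : q = PA.1 := by
      refine (hall q hq hqf).2.resolve_right ?_
      rintro ⟨P, hP, hn⟩
      obtain ⟨p1, p2, -, p4⟩ := t7_mem T hP
      have hPN := (ptOk_iff T p1).1
      have htP : t (dN P.1) = dN P.1 := by
        show s (dN PA.1 * dN P.1 * (dN PA.1)⁻¹) = _
        rw [p4.eq, mul_inv_cancel_right, T.aut _ hPN, p2]
      obtain ⟨r, hr, e2⟩ := T.surj _ (T.ts.conj g⁻¹ _ (T.mem _ hPN))
      have hrf : fA r = r := T.inj _ (fA_dN T hr).1 _ hr (by
        rw [← (fA_dN T hr).2, e2, inv_inv, map_mul, map_mul, map_inv, hg, htP])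
      refine hn ?_
      have := (Commute.conj_iff g).mpr (hall r hr hrf).1
      rw [← e1, e2, show g * (g⁻¹ * dN P.1 * g⁻¹⁻¹) * g⁻¹ = dN P.1 by group] at this
      exact this.symm
    have hc : g * dN PA.1 = dN PA.1 * g := mul_inv_eq_iff_eq_mul.mp (by rw [← e1, hqa])
    refine ⟨?_, Subgroup.mem_centralizer_singleton_iff.mpr hc⟩
    show s g = g
    have h1 : s (dN PA.1 * g * (dN PA.1)⁻¹) = g := hg
    rwa [← hc, mul_inv_cancel_right] at h1
  · rintro ⟨h1, h2⟩
    show s (dN PA.1 * g * (dN PA.1)⁻¹) = g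
    rw [← Subgroup.mem_centralizer_singleton_iff.mp h2, mul_inv_cancel_right]
    exact h1

end

/-- Conjugate automorphisms fix equally many members. -/
theorem ncard_conj {G : Type*} [Group G] [Finite G] {D : Set G}
    (hD : Cfsg.IsThreeTranspositionGroup D) (hprim : Cfsg.IsPrimitiveUnderConj D)
    (h22 : Cfsg.IsOfTypeM22 G D) {t u : MulAut G} (h : IsConj t u) :
    {y ∈ D | t y = y}.ncard = {y ∈ D | u y = y}.ncard := by
  obtain ⟨c, rfl⟩ := isConj_iff.mp h
  have hm := fun (β : MulAut G) y (hy : y ∈ D) => ThreeTransM22TwoAutCore48.aut_mem hD hprim h22 β hy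
  have hinv : ∀ y, c (c⁻¹ y) = y := c.apply_symm_apply
  have hinv' : ∀ y, c⁻¹ (c y) = y := c.symm_apply_apply
  have : {y ∈ D | (c * t * c⁻¹) y = y} = c '' {y ∈ D | t y = y} := by
    ext y
    constructor
    · rintro ⟨hy, he⟩
      refine ⟨c⁻¹ y, ⟨hm _ y hy, c.injective ?_⟩, hinv y⟩
      rw [hinv]; exact he
    · rintro ⟨z, ⟨hz, he⟩, rfl⟩
      exact ⟨hm c z hz, by show c (t (c⁻¹ (c z))) = c z; rw [hinv', he]⟩
  rw [this, Set.ncard_image_of_injective _ c.injective]

/-- Let G be a finite group with trivial centre generated by a conjugation-invariant set D of 3-transpositions on which it acts primitively, such that for some d in D the subgroup generated by the members of D other than d commuting with d has central largest normal 2- and 3-subgroups, and suppose G with D is of type M(22). Then G has a non-inner automorphism s of order 2 whose fixed-point subgroup is isomorphic to the full automorphism group of Ω⁺(8, 2) (the commutator subgroup of the isometry group of the hyperbolic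 quadratic form in dimension 8 over the field with two elements), together with distinct commuting members a, b of D fixed by s such that: s, s composed with conjugation by a, and s composed with conjugation by a b represent the three classes (under the automorphism group) of non-inner automorphisms of order 2; the elements fixed by the automorphism s composed with conjugation by a are exactly those fixed by s and commuting with a, and they form a group isomorphic to the direct product of a group of order 2 and the symplectic group of dimension 6 over the field with two elements; and the elements fixed by the automorphism s composed with conjugation by a b form a group whose largest normal 2-subgroup is elementary abelian of order 64 with quotient isomorphic to the full isometry group of the elliptic quadratic form in dimension 6 over the field with two elements. -/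
theorem result {G : Type*} [Group G] [Finite G] {D : Set G} (hD : Cfsg.IsThreeTranspositionGroup D) (hprim : Cfsg.IsPrimitiveUnderConj D) (d₀ : G) (hd₀ : d₀ ∈ D) (h3 : Cfsg.pCore 3 ↥(Subgroup.closure {y : G | y ∈ D ∧ y ≠ d₀ ∧ Commute d₀ y}) ≤ Subgroup.center ↥(Subgroup.closure {y : G | y ∈ D ∧ y ≠ d₀ ∧ Commute d₀ y})) (h2 : Cfsg.pCore 2 ↥(Subgroup.closure {y : G | y ∈ D ∧ y ≠ d₀ ∧ Commute d₀ y}) ≤ Subgroup.center ↥(Subgroup.closure {y : G | y ∈ D ∧ y ≠ d₀ ∧ Commute d₀ y})) (h22 : Cfsg.IsOfTypeM22 G D) : ∃ (s : MulAut G) (a b : G) (Cs : Subgroup G), orderOf s = 2 ∧ s ∉ (MulAut.conj : G →* MulAut G).range ∧ (∀ g : G, g ∈ Cs ↔ s g = g) ∧ Nonempty (↥Cs ≃* MulAut (Cfsg.Omega (ZMod 2) (Cfsg.quadFormPlus 4 (ZMod 2)))) ∧ a ∈ D ∧ b ∈ D ∧ a ≠ b ∧ Commute a b ∧ s a = a ∧ s b = b ∧ (∀ t : MulAut G, orderOf t = 2 → t ∉ (MulAut.conj : G →* MulAut G).range → (IsConj t s ∨ IsConj t (s * MulAut.conj a) ∨ IsConj t (s * MulAut.conj (a * b)))) ∧ ¬ IsConj s (s * MulAut.conj a) ∧ ¬ IsConj s (s * MulAut.conj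 (a * b)) ∧ ¬ IsConj (s * MulAut.conj a) (s * MulAut.conj (a * b)) ∧ (∀ g : G, (s * MulAut.conj a) g = g ↔ g ∈ Cs ⊓ Subgroup.centralizer ({a} : Set G)) ∧ Nonempty (↥(Cs ⊓ Subgroup.centralizer ({a} : Set G)) ≃* Multiplicative (ZMod 2) × Cfsg.PSp 3 (ZMod 2)) ∧ ∃ Csab O : Subgroup G, (∀ g : G, g ∈ Csab ↔ (s * MulAut.conj (a * b)) g = g) ∧ O = (Cfsg.pCore 2 ↥Csab).map Csab.subtype ∧ Cfsg.IsElementaryAbelian 2 O ∧ Nat.card O = 64 ∧ ∃ _ : (O.subgroupOf Csab).Normal, Nonempty (↥Csab ⧸ O.subgroupOf Csab ≃* Cfsg.isometryGroup (ZMod 2) (Cfsg.quadFormMinus 2 (ZMod 2) 1 1)) := by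
  classical
  obtain ⟨dN, s, T⟩ := exists_tab hD hprim h22
  have h360 := ncard_fixed T s pi (fun p hp => ⟨(pi_spec p hp).1, T.aut p hp⟩)
  have h64 := ncard_fixed T (s * MulAut.conj (dN PA.1)) fA (fun p hp => fA_dN T hp)
  have h72 := ncard_fixed T (ThreeTransM22SabFix48.tab dN s) ThreeTransM22SabFix48.fab
    (fun p hp => ThreeTransM22SabFix48.tab_dN T hp)
  rw [fixed360] at h360
  rw [count64] at h64
  rw [ThreeTransM22SabFix48.count72] at h72
  obtain ⟨hb1, hb2, -, hb4⟩ := t7_mem T pb_t7.1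
  have hbN := (ptOk_iff T hb1).1
  obtain ⟨O, hO, hE, hcard, hn, hq⟩ := ThreeTransM22SabFix48.main hD hprim h22 T
  refine ⟨s, dN PA.1, dN PB.1, fixS s,
    orderOf_eq_prime (by rw [pow_two, T.invol]) (fun h => T.outer (h ▸ ⟨1, map_one _⟩)), T.outer,
    fun g => Iff.rfl, ThreeTransM22SFixAut48.nonempty_equiv hD hprim h22 T, T.mem _ (aN T), T.mem _ hbN,
    fun h => pb_t7.2 (T.inj _ (aN T) _ hbN h).symm, hb4, a_fix T, by rw [T.aut _ hbN, hb2], ?_, ?_, ?_, ?_,
    fix_iff T, (structure_two hD hprim h22 T).1, fixS (ThreeTransM22SabFix48.tab dN s), O,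
    fun g => Iff.rfl, hO, hE, hcard, hn, hq⟩
  · intro t ht hto
    exact ThreeTransM22OuterClass48.classes hD hprim h22 T
      (by rw [← pow_two, ← ht, pow_orderOf_eq_one]) hto
  · intro h
    have := ncard_conj hD hprim h22 h
    omega
  · intro h
    have : _ = Set.ncard {y ∈ D | ThreeTransM22SabFix48.tab dN s y = y} := ncard_conj hD hprim h22 h
    omega
  · intro h
    have : _ = Set.ncard {y ∈ D | ThreeTransM22SabFix48.tab dN s y = y} := ncard_conj hD hprim h22 h
    omega

end Cfsg.Agent.S5472
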