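import Cfsg.Statements.S5514
import Cfsg.Agent.Lib.O73Inv99
-- import your own Cfsg.Agent.* helpers here

set_option autoImplicit false
open Cfsg

namespace Cfsg.Agent.S5514

open Cfsg.Agent.O73Group99 Cfsg.Agent.O73Inv99

attribute [local irreducible] repG Cfsg.Agent.O73Group99.uG

/-- A representative in the commutator subgroup. -/
def repO (i : Fin 7) : Om := ⟨repG i, mem_Om_of_cube (repG_cube i)⟩

theorem center_cube {z : Om} (hz : z ∈ Subgroup.center Om) (h3 : z ^ 3 = 1) : z = 1 := by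
  by_contra h1
  obtain ⟨i, h, hh, e⟩ := classify (g := z.1) (congrArg Subtype.val h3)
    (fun e => h1 (Subtype.ext e))
  obtain ⟨r, hr⟩ := repG_not_central i
  have hcom : ∀ k ∈ Om, k * z.1 = z.1 * k := fun k hk =>
    congrArg Subtype.val (Subgroup.mem_center_iff.1 hz ⟨k, hk⟩)
  have : repG i = z.1 := by rw [← e, hcom h hh, mul_inv_cancel_right]
  rw [this] at hr
  exact hr (hcom _ (rootG_mem_Om r.val)).symm

theorem coprime_center : Nat.Coprime (Nat.card (Subgroup.center Om)) 3 := by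
  have : Fact (Nat.Prime 3) := ⟨by norm_num⟩
  refine ((Nat.Prime.coprime_iff_not_dvd (by norm_num : Nat.Prime 3)).2 fun hd => ?_).symm
  obtain ⟨z, hz⟩ := exists_prime_orderOf_dvd_card' 3 hd
  have h3 : z ^ 3 = 1 := by
    have := pow_orderOf_eq_one z
    rwa [hz] at this
  have := center_cube z.2 (congrArg Subtype.val h3)
  have : z = 1 := Subtype.ext this
  rw [this, orderOf_one] at hz
  exact absurd hz (by norm_num)

abbrev prj : Om →* Om ⧸ Subgroup.center Om := QuotientGroup.mk' _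

theorem prj_inj {u v : Om} (hu : u ^ 3 = 1) (hv : v ^ 3 = 1) (h : prj u = prj v) : u = v := by
  obtain ⟨z, hz, rfl⟩ := (QuotientGroup.mk'_eq_mk' _).1 h
  have hc : Commute u z := Subgroup.mem_center_iff.1 hz u
  rw [hc.mul_pow, hu, one_mul] at hv
  rw [center_cube hz hv, mul_one]

theorem exists_lift {x : Om ⧸ Subgroup.center Om} (h3 : x ^ 3 = 1) :
    ∃ a : Om, a ^ 3 = 1 ∧ prj a = x := by
  obtain ⟨a, ha⟩ := QuotientGroup.mk'_surjective _ x
  have hc := coprime_center
  generalize hm : Nat.card (Subgroup.center Om) = m at hc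
  have ha3 : a ^ 3 ∈ Subgroup.center Om :=
    (QuotientGroup.eq_one_iff _).1 (by rw [← QuotientGroup.mk'_apply, map_pow, ha, h3])
  have hz : (a ^ 3) ^ m = 1 := by
    have := pow_card_eq_one' (x := (⟨a ^ 3, ha3⟩ : Subgroup.center Om))
    rw [hm] at this
    exact congrArg Subtype.val this
  refine ⟨a ^ (m * m), ?_, ?_⟩
  · rw [← pow_mul, show m * m * 3 = 3 * m * m by ring, pow_mul, pow_mul, hz, one_pow]
  · rw [map_pow, ha, pow_eq_pow_mod _ h3]
    have hm3 : m % 3 ≠ 0 := fun h => by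
      have := Nat.eq_one_of_dvd_coprimes hc (Nat.dvd_of_mod_eq_zero h) dvd_rfl
      omega
    have h' := Nat.mul_mod m m 3
    have hlt : m % 3 < 3 := Nat.mod_lt _ (by norm_num)
    generalize m % 3 = r at *
    rw [h']
    interval_cases r <;> simp_all

theorem prj_repO_ne (i : Fin 7) : prj (repO i) ≠ 1 := fun h => by
  have := prj_inj (Subtype.ext (repG_cube i) : repO i ^ 3 = 1) (one_pow 3)
    (by rw [h, map_one])
  exact repG_ne_one i (congrArg Subtype.val this)

theorem zpowers_sq {G : Type*} [Group G] {b : G} (h : b ^ 3 = 1) :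
    Subgroup.zpowers (b ^ 2) = Subgroup.zpowers b := by
  refine le_antisymm (Subgroup.zpowers_le.2 (pow_mem (Subgroup.mem_zpowers b) 2))
    (Subgroup.zpowers_le.2 ⟨2, ?_⟩)
  show (b ^ 2) ^ (2 : ℤ) = b
  rw [show (2 : ℤ) = ((2 : ℕ) : ℤ) from rfl, zpow_natCast, ← pow_mul,
    show 2 * 2 = 3 + 1 by norm_num, pow_succ, h, one_mul]

theorem mem_zpowers_cube {G : Type*} [Group G] {b x : G} (h : b ^ 3 = 1)
    (hx : x ∈ Subgroup.zpowers b) : x = 1 ∨ x = b ∨ x = b ^ 2 := by
  obtain ⟨k, rfl⟩ := Subgroup.mem_zpowers_iff.1 hx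
  rw [show b ^ k = b ^ (k % 3) from zpow_eq_zpow_emod' k h]
  have h1 := Int.emod_nonneg k (show (3 : ℤ) ≠ 0 by norm_num)
  have h2 := Int.emod_lt_of_pos k (show (0 : ℤ) < 3 by norm_num)
  push_cast at *
  rcases (by omega : k % 3 = 0 ∨ k % 3 = 1 ∨ k % 3 = 2) with e | e | e <;> rw [e]
  · exact Or.inl (zpow_zero b)
  · exact Or.inr (Or.inl (zpow_one b))
  · exact Or.inr (Or.inr (by norm_cast))


/-- The commutator subgroup of the isometry group of a non-degenerate 7-dimensional quadratic form over the field with three elements, modulo its (trivial) centre — the simple group Ω(7, 3) — has exactly seven conjugacy classes of subgroups of order 3. -/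
theorem result : ∃ Y : Fin 7 → Subgroup (Cfsg.POmega (ZMod 3) (Cfsg.quadFormOdd 3 (ZMod 3))), (∀ i, Nat.card (Y i) = 3) ∧ (∀ i j, (∃ g : Cfsg.POmega (ZMod 3) (Cfsg.quadFormOdd 3 (ZMod 3)), (Y i).map (MulAut.conj g).toMonoidHom = Y j) → i = j) ∧ (∀ X : Subgroup (Cfsg.POmega (ZMod 3) (Cfsg.quadFormOdd 3 (ZMod 3))), Nat.card X = 3 → ∃ i, ∃ g : Cfsg.POmega (ZMod 3) (Cfsg.quadFormOdd 3 (ZMod 3)), X.map (MulAut.conj g).toMonoidHom = Y i) := by
  refine ⟨fun i => Subgroup.zpowers (prj (repO i)), fun i => ?_, ?_, ?_⟩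
  · have : Fact (Nat.Prime 3) := ⟨by norm_num⟩
    rw [Nat.card_zpowers]
    exact orderOf_eq_prime (by rw [← map_pow,
      show repO i ^ 3 = 1 from Subtype.ext (repG_cube i), map_one]) (prj_repO_ne i)
  · rintro i j ⟨g, hg⟩
    dsimp only at hg
    obtain ⟨c, rfl⟩ := QuotientGroup.mk'_surjective _ g
    have hmem : prj (c * repO i * c⁻¹) ∈ Subgroup.zpowers (prj (repO j)) := by
      rw [← hg]
      refine ⟨prj (repO i), Subgroup.mem_zpowers _, ?_⟩
      simp only [MulEquiv.coe_toMonoidHom, MulAut.conj_apply, map_mul, map_inv]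
    have hj3 : repO j ^ 3 = 1 := Subtype.ext (repG_cube j)
    have hc3 : (c * repO i * c⁻¹) ^ 3 = 1 := by
      rw [conj_pow, show repO i ^ 3 = 1 from Subtype.ext (repG_cube i), mul_one, mul_inv_cancel]
    rcases mem_zpowers_cube (by rw [← map_pow, hj3, map_one]) hmem with h | h | h
    · have h1 := prj_inj hc3 (one_pow 3) (by rw [h, map_one])
      exfalso
      refine repG_ne_one i (congrArg Subtype.val (?_ : repO i = 1))
      exact conj_eq_one_iff.1 h1
    · exact eq_of_oconj ⟨c.1, c.2, congrArg Subtype.val (prj_inj hc3 hj3 h)⟩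
    · rw [← map_pow] at h
      have h2 := prj_inj hc3 (by rw [← pow_mul, show 2 * 3 = 3 * 2 by norm_num, pow_mul, hj3,
        one_pow]) h
      exact eq_of_oconj (OConj.trans ⟨c.1, c.2, congrArg Subtype.val h2⟩ (oconj_sq j))
  · intro X hX
    have : Fact (Nat.Prime 3) := ⟨by norm_num⟩
    have hcyc : IsCyclic X := isCyclic_of_prime_card hX
    obtain ⟨x, hx⟩ := (Subgroup.isCyclic_iff_exists_zpowers_eq_top X).1 hcyc
    subst hx
    rw [Nat.card_zpowers] at hX
    have hx3 : x ^ 3 = 1 := by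
      have := pow_orderOf_eq_one x
      rwa [hX] at this
    obtain ⟨a, ha3, rfl⟩ := exists_lift hx3
    have ha1 : a ≠ 1 := by
      rintro rfl
      rw [map_one, orderOf_one] at hX
      exact absurd hX (by norm_num)
    obtain ⟨i, h, hh, e⟩ := classify (g := a.1) (congrArg Subtype.val ha3)
      (fun e => ha1 (Subtype.ext e))
    refine ⟨i, prj ⟨h, hh⟩, ?_⟩
    show (Subgroup.zpowers (prj a)).map _ = Subgroup.zpowers (prj (repO i))
    rw [MonoidHom.map_zpowers]
    congr 1
    have e' : (⟨h, hh⟩ : Om) * a * (⟨h, hh⟩ : Om)⁻¹ = repO i := Subtype.ext e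
    rw [← e']
    simp only [MulEquiv.coe_toMonoidHom, MulAut.conj_apply, map_mul, map_inv]

end Cfsg.Agent.S5514
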