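import Cfsg.Statements.S5516
import Mathlib
import Cfsg.Agent.S5515
import Cfsg.Agent.Lib.DFourThreeClasses29

set_option autoImplicit false
open Cfsg

namespace Cfsg.Agent.S5516

set_option maxHeartbeats 1000000
open Cfsg.Lie Cfsg.Agent.DFourThreeWord29 Cfsg.Agent.DFourThreeClasses29 Cfsg.Agent.DFourOutStructure
open Cfsg.Agent Cfsg.Agent.DFourRoots

theorem center_bot (hs : IsSimpleGroup DFourThreeClasses29.K) :
    Subgroup.center DFourThreeClasses29.K = ⊥ := by
  refine (hs.eq_bot_or_eq_top_of_normal (Subgroup.center DFourThreeClasses29.K) inferInstance).resolve_right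
    fun htop => ?_
  have hc : vK [(14, 1)] * vK [(18, 1)] = vK [(18, 1)] * vK [(14, 1)] :=
    Subgroup.mem_center_iff.1 (show vK [(18, 1)] ∈ Subgroup.center DFourThreeClasses29.K by rw [htop]; exact Subgroup.mem_top _) (vK [(14, 1)])
  have hw : ∀ e ∈ [((14 : ℕ), (1 : ℕ)), (18, 1), (14, 2), (18, 2)], e.1 < 24 := by decide
  have hone : vK [(14, 1), (18, 1), (14, 2), (18, 2)] = 1 := by
    rw [show [((14 : ℕ), (1 : ℕ)), (18, 1), (14, 2), (18, 2)] = [(14, 1)] ++ [(18, 1)] ++ [(14, 2)] ++ [(18, 2)]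
        from rfl, vK_append, vK_append, vK_append, hc, mul_assoc (vK [(18, 1)]), ← vK_append [(14, 1)]]
    have h14 : vK ([(14, 1)] ++ [(14, 2)]) = 1 := by
      rw [vK_append, vK_single (by norm_num), vK_single (by norm_num), ChevAutRigid.xG_mul Xc.C,
        show ((1 : ℕ) : F3) + ((2 : ℕ) : F3) = 0 by decide]
      exact Subtype.ext (ChevalleyCore.xg_zero Xc.C _)
    rw [h14, mul_one, vK_single (by norm_num), vK_single (by norm_num), ChevAutRigid.xG_mul Xc.C,
      show ((1 : ℕ) : F3) + ((2 : ℕ) : F3) = 0 by decide]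
    exact Subtype.ext (ChevalleyCore.xg_zero Xc.C _)
  have := (vK_eq_one hw).1 hone
  revert this
  decide +kernel

theorem exists_embedding {G : Type*} [Group G] [Finite G] {K : Type} [Group K]
    (hcK : Subgroup.center K = ⊥) [hn : (Cfsg.generalizedFittingSubgroup G).Normal]
    (e : ↥(Cfsg.generalizedFittingSubgroup G) ≃* K)
    (hq : G ⧸ Cfsg.generalizedFittingSubgroup G ≃* Equiv.Perm (Fin 3)) :
    ∃ φ : G →* MulAut K, (∀ g x, φ g (e x) = e (MulAut.conjNormal g x)) ∧ Inn K ≤ φ.range ∧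
      Nat.card (φ.range.map (QuotientGroup.mk' (Inn K))) = 6 := by
  set φ : G →* MulAut K := (MulAut.congr e).toMonoidHom.comp MulAut.conjNormal with hφ
  have happ : ∀ g x, φ g (e x) = e (MulAut.conjNormal g x) := fun g x => by
    show e (MulAut.conjNormal g (e.symm (e x))) = _
    rw [e.symm_apply_apply]
  have hcoe : ∀ f : ↥(Cfsg.generalizedFittingSubgroup G), φ (f : G) = MulAut.conj (e f) := by
    intro f
    apply MulEquiv.ext
    intro y
    obtain ⟨x, rfl⟩ := e.surjective y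
    rw [happ, MulAut.conj_apply, ← map_inv, ← map_mul, ← map_mul]
    exact congrArg e (Subtype.ext (by simp [MulAut.conjNormal_apply]))
  have hinj : Function.Injective φ := by
    rw [injective_iff_map_eq_one]
    intro g hg
    have hc : g ∈ Subgroup.centralizer (Cfsg.generalizedFittingSubgroup G : Set G) := by
      rw [Subgroup.mem_centralizer_iff]
      intro f hf
      have h := happ g ⟨f, hf⟩
      rw [hg, MulAut.one_apply] at h
      have h2 : g * f * g⁻¹ = f := by
        simpa [MulAut.conjNormal_apply] using (congrArg Subtype.val (e.injective h)).symm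
      exact (mul_inv_eq_iff_eq_mul.mp h2).symm
    have hmem := ComponentsFitting.centralizer_gen_le hc
    have hz : e ⟨g, hmem⟩ ∈ Subgroup.center K := by
      rw [Subgroup.mem_center_iff]
      intro y
      obtain ⟨x, rfl⟩ := e.surjective y
      rw [← map_mul, ← map_mul]
      exact congrArg e (Subtype.ext (Subgroup.mem_centralizer_iff.mp hc x x.2))
    rw [hcK, Subgroup.mem_bot, MulEquiv.map_eq_one_iff] at hz
    exact congrArg Subtype.val hz
  refine ⟨φ, happ, ?_, ?_⟩
  · rintro _ ⟨k, rfl⟩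
    exact ⟨(e.symm k : G), by rw [hcoe, e.apply_symm_apply]⟩
  · rw [← MonoidHom.range_comp]
    have hker : ((QuotientGroup.mk' (Inn K)).comp φ).ker = Cfsg.generalizedFittingSubgroup G := by
      ext g
      rw [MonoidHom.mem_ker, MonoidHom.comp_apply, QuotientGroup.mk'_apply, QuotientGroup.eq_one_iff]
      constructor
      · rintro ⟨k, hk⟩
        have : φ g = φ (e.symm k : G) := by rw [hcoe, e.apply_symm_apply]; exact hk.symm
        rw [hinj this]; exact (e.symm k).2
      · intro hg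
        exact ⟨e ⟨g, hg⟩, (hcoe ⟨g, hg⟩).symm⟩
    rw [← Subgroup.index_ker, hker, Subgroup.index_eq_card, Nat.card_congr hq.toEquiv]
    simp [Fintype.card_perm, Nat.factorial]

/-- Transport of the classes along an isomorphism. -/
theorem classes_transport {P : Type*} [Group P] (i : DFourThreeClasses29.K ≃* P) :
    ∃ Y : Fin 13 → Subgroup P, (∀ a, Nat.card (Y a) = 3) ∧
      (∀ a b, (∃ g : P, (Y a).map (MulAut.conj g).toMonoidHom = Y b) → a = b) ∧
      ∀ X : Subgroup P, Nat.card X = 3 → ∃ a, ∃ g : P, X.map (MulAut.conj g).toMonoidHom = Y a := by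
  have hcomp : ∀ (Z : Subgroup DFourThreeClasses29.K) (k : DFourThreeClasses29.K),
      (Z.map i.toMonoidHom).map (MulAut.conj (i k)).toMonoidHom =
        (Z.map (MulAut.conj k).toMonoidHom).map i.toMonoidHom := by
    intro Z k
    rw [Subgroup.map_map, Subgroup.map_map]
    refine congrArg (fun f => Z.map f) (MonoidHom.ext fun x => ?_)
    simp
  refine ⟨fun a => (Y a).map i.toMonoidHom, fun a => ?_, ?_, ?_⟩
  · rw [Subgroup.card_map_of_injective i.injective, card_Y]
  · rintro a b ⟨g, hg⟩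
    obtain ⟨k, rfl⟩ := i.surjective g
    rw [hcomp] at hg
    exact Y_inj (Subgroup.map_injective i.injective hg)
  · intro X hX
    obtain ⟨Z, rfl⟩ : ∃ Z : Subgroup DFourThreeClasses29.K, Z.map i.toMonoidHom = X :=
      ⟨_, Subgroup.map_comap_eq_self_of_surjective i.surjective X⟩
    rw [Subgroup.card_map_of_injective i.injective] at hX
    obtain ⟨a, c, hc⟩ := exists_Y hX
    exact ⟨a, i c, by rw [hcomp, hc]⟩

theorem out_equiv : Nonempty (Cfsg.Out DFourThreeClasses29.K ≃* Equiv.Perm (Fin 4)) := by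
  haveI : Fact (Nat.Prime 3) := ⟨Nat.prime_three⟩
  obtain ⟨ek⟩ := kb_equiv_odd (F := F3) Xc (p := 3) (f := 1) (by simp [ZMod.card]) (by norm_num) le_rfl
  obtain ⟨ep⟩ := exists_equiv (F := F3) Xc
  haveI : Subsingleton (F3 ≃+* F3) := ⟨fun a b => RingEquiv.ext fun x =>
    RingHom.congr_fun (Subsingleton.elim (a : F3 →+* F3) (b : F3 →+* F3)) x⟩
  haveI : Unique (F3 ≃+* F3) := ⟨⟨1⟩, fun a => Subsingleton.elim _ _⟩
  exact ⟨ep.symm.trans (MulEquiv.prodUnique.trans ek)⟩

theorem orbits_of {G : Type*} [Group G] [Finite G] [hn : (Cfsg.generalizedFittingSubgroup G).Normal]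
    {K : Type} [Group K] (hcK : Subgroup.center K = ⊥) (eo : Cfsg.Out K ≃* Equiv.Perm (Fin 4))
    (gh : Equiv.Perm (Fin 3) →* MulAut K)
    (hγinj : Function.Injective ((QuotientGroup.mk' (Inn K)).comp gh))
    (Y : Fin 13 → Subgroup K) (canon : Fin 7 → Fin 13) (card_Y : ∀ a, Nat.card (Y a) = 3)
    (canon_inj : ∀ {o o' : Fin 7} {c : K} {ρ : Equiv.Perm (Fin 3)},
      (Y (canon o)).map (MulAut.conj c * gh ρ).toMonoidHom = Y (canon o') → o = o')
    (canon_exists : ∀ {X : Subgroup K}, Nat.card X = 3 →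
      ∃ (o : Fin 7) (c : K) (ρ : Equiv.Perm (Fin 3)), X.map (MulAut.conj c * gh ρ).toMonoidHom = Y (canon o))
    (e : ↥(Cfsg.generalizedFittingSubgroup G) ≃* K)
    (q : G ⧸ Cfsg.generalizedFittingSubgroup G ≃* Equiv.Perm (Fin 3)) :
    ∃ Y : Fin 7 → Subgroup G, (∀ i, Y i ≤ Cfsg.generalizedFittingSubgroup G ∧ Nat.card (Y i) = 3) ∧
      (∀ i j, (∃ g : G, (Y i).map (MulAut.conj g).toMonoidHom = Y j) → i = j) ∧
      ∀ X : Subgroup G, X ≤ Cfsg.generalizedFittingSubgroup G → Nat.card X = 3 →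
        ∃ i, ∃ g : G, X.map (MulAut.conj g).toMonoidHom = Y i := by
  obtain ⟨φ, happ, hle, hcard⟩ := exists_embedding hcK e q
  set γ : Equiv.Perm (Fin 3) →* Cfsg.Out K := (QuotientGroup.mk' (Inn K)).comp gh with hγ
  have hγcard : Nat.card γ.range = 6 := by
    rw [← Nat.card_congr (MonoidHom.ofInjective hγinj).toEquiv]
    simp [Fintype.card_perm, Nat.factorial]
  set π := QuotientGroup.mk' (Inn K) with hπ
  obtain ⟨a, ha⟩ := S5515.conj_of_equiv eo (φ.range.map π) γ.range (S5515.conj_six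
    (by rw [Subgroup.card_map_of_injective eo.injective]; exact hcard)
    (by rw [Subgroup.card_map_of_injective eo.injective]; exact hγcard))
  obtain ⟨b, rfl⟩ := QuotientGroup.mk'_surjective (Inn K) a
  have himg : (φ.range.map (MulAut.conj b).toMonoidHom).map π = γ.range := by
    rw [← ha, Subgroup.map_map, Subgroup.map_map]
    rfl
  set ψ : G →* MulAut K := (MulAut.conj b).toMonoidHom.comp φ with hψ
  set e' : ↥(Cfsg.generalizedFittingSubgroup G) ≃* K := e.trans b with he'
  have happ' : ∀ g x, ψ g (e' x) = e' (MulAut.conjNormal g x) := by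
    intro g x
    show (b * φ g * b⁻¹) (b (e x)) = b (e (MulAut.conjNormal g x))
    rw [MulAut.mul_apply, MulAut.mul_apply, MulAut.inv_apply_self, happ]
  have hshape : ∀ g, ∃ c σ, ψ g = MulAut.conj c * gh σ := by
    intro g
    have hmem : π (ψ g) ∈ γ.range := himg ▸ ⟨_, ⟨φ g, ⟨g, rfl⟩, rfl⟩, rfl⟩
    obtain ⟨σ, hσ⟩ := hmem
    have : ψ g * (gh σ)⁻¹ ∈ Inn K := by
      refine (QuotientGroup.eq_one_iff _).1 ?_
      show π (ψ g * (gh σ)⁻¹) = 1
      rw [map_mul, map_inv, ← hσ]
      exact mul_inv_cancel _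
    obtain ⟨c, hc⟩ := this
    exact ⟨c, σ, by rw [hc, inv_mul_cancel_right]⟩
  have hfull : ∀ c σ, ∃ g, ψ g = MulAut.conj c * gh σ := by
    intro c σ
    have hmem : π (MulAut.conj c * gh σ) ∈ (φ.range.map (MulAut.conj b).toMonoidHom).map π := by
      rw [himg]
      refine ⟨σ, ?_⟩
      rw [map_mul, show π (MulAut.conj c) = 1 from (QuotientGroup.eq_one_iff _).2 ⟨c, rfl⟩, one_mul]
      rfl
    obtain ⟨θ, ⟨θ', ⟨g, rfl⟩, rfl⟩, hθ⟩ := hmem
    have : (ψ g)⁻¹ * (MulAut.conj c * gh σ) ∈ Inn K := QuotientGroup.eq.1 hθ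
    have hIn : Inn K ≤ ψ.range := by
      intro x hx
      obtain ⟨g', hg'⟩ := hle (Subgroup.Normal.conj_mem' inferInstance x hx b)
      exact ⟨g', by show b * φ g' * b⁻¹ = x; rw [hg']; group⟩
    obtain ⟨g', hg'⟩ := hIn this
    exact ⟨g * g', by rw [map_mul, hg']; group⟩
  set T : Subgroup K → Subgroup G := fun Z =>
    Z.map ((Cfsg.generalizedFittingSubgroup G).subtype.comp e'.symm.toMonoidHom) with hT
  have hTinj : Function.Injective T :=
    Subgroup.map_injective ((Cfsg.generalizedFittingSubgroup G).subtype_injective.comp e'.symm.injective)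
  have hTle : ∀ Z, T Z ≤ Cfsg.generalizedFittingSubgroup G := by
    rintro Z _ ⟨z, -, rfl⟩
    exact (e'.symm z).2
  have hTcard : ∀ Z, Nat.card (T Z) = Nat.card Z := fun Z =>
    Subgroup.card_map_of_injective ((Cfsg.generalizedFittingSubgroup G).subtype_injective.comp e'.symm.injective)
  have hTconj : ∀ Z g, (T Z).map (MulAut.conj g).toMonoidHom = T (Z.map (ψ g).toMonoidHom) := by
    intro Z g
    simp only [hT, Subgroup.map_map]
    refine congrArg (fun f => Z.map f) (MonoidHom.ext fun z => ?_)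
    obtain ⟨x, rfl⟩ := e'.surjective z
    simp [happ', MulAut.conjNormal_apply]
  refine ⟨fun o => T (Y (canon o)), fun o => ⟨hTle _, by rw [hTcard, card_Y]⟩, ?_, ?_⟩
  · rintro i j ⟨g, hg⟩
    rw [hTconj] at hg
    obtain ⟨c, σ, hc⟩ := hshape g
    have := hTinj hg
    rw [hc] at this
    exact canon_inj this
  · intro X hXL hX
    obtain ⟨Z, rfl⟩ : ∃ Z, T Z = X := by
      refine ⟨(X.subgroupOf (Cfsg.generalizedFittingSubgroup G)).map e'.toMonoidHom, ?_⟩
      simp only [hT, Subgroup.map_map]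
      rw [show ((Cfsg.generalizedFittingSubgroup G).subtype.comp e'.symm.toMonoidHom).comp e'.toMonoidHom =
        (Cfsg.generalizedFittingSubgroup G).subtype from MonoidHom.ext fun x => by simp,
        Subgroup.map_subgroupOf_eq_of_le hXL]
    rw [hTcard] at hX
    obtain ⟨o, c, ρ, hc⟩ := canon_exists hX
    obtain ⟨g, hg⟩ := hfull c ρ
    exact ⟨o, g, by rw [hTconj, hg, hc]⟩

theorem gamma_injective :
    Function.Injective ((QuotientGroup.mk' (Inn DFourThreeClasses29.K)).comp (gHom Xc)) :=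
  fun a b h => gK_injective Xc (Subtype.ext h)

theorem orbits {G : Type*} [Group G] [Finite G] [hn : (Cfsg.generalizedFittingSubgroup G).Normal]
    (hs : IsSimpleGroup DFourThreeClasses29.K)
    (e : ↥(Cfsg.generalizedFittingSubgroup G) ≃* DFourThreeClasses29.K)
    (q : G ⧸ Cfsg.generalizedFittingSubgroup G ≃* Equiv.Perm (Fin 3)) :
    ∃ Y : Fin 7 → Subgroup G, (∀ i, Y i ≤ Cfsg.generalizedFittingSubgroup G ∧ Nat.card (Y i) = 3) ∧
      (∀ i j, (∃ g : G, (Y i).map (MulAut.conj g).toMonoidHom = Y j) → i = j) ∧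
      ∀ X : Subgroup G, X ≤ Cfsg.generalizedFittingSubgroup G → Nat.card X = 3 →
        ∃ i, ∃ g : G, X.map (MulAut.conj g).toMonoidHom = Y i := by
  obtain ⟨eo⟩ := out_equiv
  exact orbits_of (center_bot hs) eo (gHom Xc) gamma_injective DFourThreeClasses29.Y
    DFourThreeClasses29.canon DFourThreeClasses29.card_Y
    DFourThreeClasses29.canon_inj DFourThreeClasses29.canon_exists e q

/-- PΩ⁺(8, 3) (the commutator subgroup of the isometry group of the hyperbolic quadratic form in dimension 8 over the field with three elements, modulo its centre) has exactly 13 conjugacy classes of subgroups of order 3; and a finite group G whose generalized Fitting subgroup L is isomorphic to PΩ⁺(8, 3) with G/L the symmetric group of degree 3 has exactly 7 orbits, under conjugation, on the subgroups of L of order 3. -/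
theorem result {G : Type*} [Group G] [Finite G] (L : Subgroup G) (hL : L = Cfsg.generalizedFittingSubgroup G) (hF : Nonempty (↥L ≃* Cfsg.POmega (ZMod 3) (Cfsg.quadFormPlus 4 (ZMod 3)))) [hn : L.Normal] (hq : Nonempty (G ⧸ L ≃* Equiv.Perm (Fin 3))) : (∃ Y : Fin 13 → Subgroup (Cfsg.POmega (ZMod 3) (Cfsg.quadFormPlus 4 (ZMod 3))), (∀ i, Nat.card (Y i) = 3) ∧ (∀ i j, (∃ g : Cfsg.POmega (ZMod 3) (Cfsg.quadFormPlus 4 (ZMod 3)), (Y i).map (MulAut.conj g).toMonoidHom = Y j) → i = j) ∧ (∀ X : Subgroup (Cfsg.POmega (ZMod 3) (Cfsg.quadFormPlus 4 (ZMod 3))), Nat.card X = 3 → ∃ i, ∃ g : Cfsg.POmega (ZMod 3) (Cfsg.quadFormPlus 4 (ZMod 3)), X.map (MulAut.conj g).toMonoidHom = Y i)) ∧ ∃ Y : Fin 7 → Subgroup G, (∀ i, Y i ≤ L ∧ Nat.card (Y i) = 3) ∧ (∀ i j, (∃ g : G, (Y i).map (MulAut.conj g).toMonoidHom = Y j) → i = j) ∧ ∀ X : Subgroup G, X ≤ L → Nat.card X = 3 → ∃ i, ∃ g : G, X.map (MulAut.conj g).toMonoidHom = Y i := by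
  haveI : Fact (Nat.Prime 3) := ⟨Nat.prime_three⟩
  subst hL
  obtain ⟨i⟩ := DFourIso.nonempty_equiv (F := ZMod 3)
  obtain ⟨e⟩ := hF
  obtain ⟨q⟩ := hq
  haveI : IsSimpleGroup (Cfsg.POmega (ZMod 3) (Cfsg.quadFormPlus 4 (ZMod 3))) := S0296.result 4 le_rfl
  have hs : IsSimpleGroup DFourThreeClasses29.K := MulEquiv.isSimpleGroup i
  have h1 := classes_transport i
  have e2 := e.trans i.symm
  exact ⟨h1, orbits hs e2 q⟩

end Cfsg.Agent.S5516
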