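import Cfsg.Statements.S5518
import Cfsg.Agent.Lib.ThreeTransM24ThirteenLocal61
import Cfsg.Agent.Lib.ThreeTransM24Local88
import Cfsg.Agent.Lib.ThreeTransM22Pres51
import Cfsg.Agent.S5500
-- import your own Cfsg.Agent.* helpers here

set_option autoImplicit false
open Cfsg

namespace Cfsg.Agent.S5518

/-- Let G be a finite group with trivial centre generated by a conjugation-invariant set D of 3-transpositions on which it acts primitively, such that for some d in D the subgroup generated by the members of D other than d commuting with d has central largest normal 2- and 3-subgroups, and suppose G with D is of type M(24). Then any two subgroups of order 13 are conjugate; and there are members a, b, c, d of D generating the direct product T of two symmetric groups of degree 3 (a, d non-commuting; b, c non-commuting; b and c commuting with a and d) whose centralizer K is isomorphic to the Chevalley group G₂(3), such that for every subgroup B of K of order 13: the normalizer of B lies in the normalizer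 of K, the normalizer F of B in K is a Frobenius group of order 78 with kernel B (order 78, centralizer of B in it equal to B), and the subgroup generated by F and T has index 2 in the normalizer of B. -/
theorem result {G : Type*} [Group G] [Finite G] {D : Set G} (hD : Cfsg.IsThreeTranspositionGroup D) (hprim : Cfsg.IsPrimitiveUnderConj D) (d₀ : G) (hd₀ : d₀ ∈ D) (h3 : Cfsg.pCore 3 ↥(Subgroup.closure {y : G | y ∈ D ∧ y ≠ d₀ ∧ Commute d₀ y}) ≤ Subgroup.center ↥(Subgroup.closure {y : G | y ∈ D ∧ y ≠ d₀ ∧ Commute d₀ y})) (h2 : Cfsg.pCore 2 ↥(Subgroup.closure {y : G | y ∈ D ∧ y ≠ d₀ ∧ Commute d₀ y}) ≤ Subgroup.center ↥(Subgroup.closure {y : G | y ∈ D ∧ y ≠ d₀ ∧ Commute d₀ y})) (h24 : Cfsg.IsOfTypeM24 G D) : (∀ X Y : Subgroup G, Nat.card X = 13 → Nat.card Y = 13 → ∃ g : G, X.map (MulAut.conj g).toMonoidHom = Y) ∧ ∃ (a b c d : G) (T K : Subgroup G), (∀ x ∈ [a, b, c, d], x ∈ D) ∧ ¬ Commute a d ∧ ¬ Commute b c ∧ Commute a b ∧ Commute a c ∧ Commute d b ∧ Commute d c ∧ T = Subgroup.closure ({a, b, c,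 d} : Set G) ∧ K = Subgroup.centralizer (T : Set G) ∧ Nonempty (↥K ≃* ↥(Cfsg.Lie.chevG2.group (ZMod 3))) ∧ ∀ B : Subgroup G, B ≤ K → Nat.card B = 13 → Subgroup.normalizer ((B : Subgroup G) : Set G) ≤ Subgroup.normalizer ((K : Subgroup G) : Set G) ∧ Nat.card ↥(K ⊓ Subgroup.normalizer ((B : Subgroup G) : Set G)) = 78 ∧ K ⊓ Subgroup.centralizer ((B : Subgroup G) : Set G) = B ∧ (((K ⊓ Subgroup.normalizer ((B : Subgroup G) : Set G)) ⊔ T).subgroupOf (Subgroup.normalizer ((B : Subgroup G) : Set G))).index = 2 := by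
  have hyp := ThreeTransM24Local88.hyp_all hD hprim hd₀ h3 h2 h24
  obtain ⟨a, ha, d, hd, had⟩ : ∃ a ∈ D, ∃ d ∈ D, ¬ Commute a d := by
    obtain ⟨-, d, hd, c, hc, hdc, -⟩ := id h24
    exact ⟨d, hd, c, hc, hdc⟩
  obtain ⟨b₁, c₁, b, c, hmem, -, hbc, -, -, -, hiso⟩ :=
    S5500.result hD hprim d₀ hd₀ h3 h2 h24 a d ha hd had
  obtain ⟨hb, hab, hdb⟩ := hmem b (by simp)
  obtain ⟨hc, hac, hdc⟩ := hmem c (by simp)
  have Q : ThreeTransM24Thirteen61.Quad D a b c d :=
    ⟨ha, hb, hc, hd, had, hbc, hab, hac, hdb, hdc⟩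
  have hset : ({a, b, c, d} : Set G) = {a, d, b, c} := by
    ext; simp only [Set.mem_insert_iff, Set.mem_singleton_iff]; tauto
  obtain ⟨hconj, hB⟩ := ThreeTransM24ThirteenLocal61.thirteen
    (fun Y _ _ E h1 h2 h3 => ThreeTransM22Pres51.nonempty_mulEquiv h1 h2 h3) hyp Q (T := _) (K := _) rfl rfl
  refine ⟨hconj, a, b, c, d, _, _, ?_, had, hbc, hab, hac, hdb, hdc, rfl, rfl, ?_, hB⟩
  · intro x hx
    simp only [List.mem_cons, List.mem_nil_iff, or_false] at hx
    rcases hx with rfl | rfl | rfl | rfl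
    exacts [ha, hb, hc, hd]
  · rw [Subgroup.centralizer_closure, hset]
    exact hiso

end Cfsg.Agent.S5518
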