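import Cfsg.Statements.S5519
import Cfsg.Agent.Lib.ThreeTransM22TwoFstar48

set_option autoImplicit false
open Cfsg

namespace Cfsg.Agent.S5519

/-- Let G be a finite group with trivial centre generated by a conjugation-invariant set D of 3-transpositions on which it acts primitively, such that for some d in D the subgroup generated by the members of D other than d commuting with d has central largest normal 2- and 3-subgroups, and suppose G with D is of type M(22). Let d₁, d₂ be distinct commuting members of D and C the centralizer of their product. Then the generalized Fitting subgroup of C is the direct product of a group of order 2 and an extraspecial 2-group of order 2^9, and C modulo it is isomorphic to the full isometry group of the elliptic quadratic form in dimension 6 over the field with two elements. -/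
theorem result {G : Type*} [Group G] [Finite G] {D : Set G} (hD : Cfsg.IsThreeTranspositionGroup D) (hprim : Cfsg.IsPrimitiveUnderConj D) (d₀ : G) (hd₀ : d₀ ∈ D) (h3 : Cfsg.pCore 3 ↥(Subgroup.closure {y : G | y ∈ D ∧ y ≠ d₀ ∧ Commute d₀ y}) ≤ Subgroup.center ↥(Subgroup.closure {y : G | y ∈ D ∧ y ≠ d₀ ∧ Commute d₀ y})) (h2 : Cfsg.pCore 2 ↥(Subgroup.closure {y : G | y ∈ D ∧ y ≠ d₀ ∧ Commute d₀ y}) ≤ Subgroup.center ↥(Subgroup.closure {y : G | y ∈ D ∧ y ≠ d₀ ∧ Commute d₀ y})) (h22 : Cfsg.IsOfTypeM22 G D) (d₁ d₂ : G) (h₁ : d₁ ∈ D) (h₂ : d₂ ∈ D) (hne : d₁ ≠ d₂) (hc : Commute d₁ d₂) (C : Subgroup G) (hC : C = Subgroup.centralizer ({d₁ * d₂} : Set G)) [hn : (Cfsg.generalizedFittingSubgroup ↥C).Normal] : (∃ (E : Type) (_ : Group E) (_ : Finite E), Cfsg.IsExtraspecial 2 E ∧ Nat.card E = 2 ^ 9 ∧ Nonempty (↥(Cfsg.generalizedFittingSubgroup ↥C) ≃* Multiplicative (ZMod 2) × E)) ∧ Nonempty (↥C ⧸ Cfsg.generalizedFittingSubgroup ↥C ≃* Cfsg.isometryGroup (ZMod 2) (Cfsg.quadFormMinus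 2 (ZMod 2) 1 1)) := by
  subst hC
  have ht := ThreeTransRel.tsys_of_group hD
  have hord : ∀ x ∈ D, x ≠ 1 := fun x hx e => by
    have := hD.1.1 x hx
    rw [e, orderOf_one] at this
    norm_num at this
  obtain ⟨N, S⟩ := ThreeTransM22TwoMain48.main hD hprim h22 h₁ h₂ hne hc
  have hF := ThreeTransM22TwoFstar48.gen_eq S
  obtain ⟨E, iE, fE, hext, hcard, ⟨eN⟩⟩ := ThreeTransM22TwoFstar48.split_core S (ht.sq _ h₁)
    (ht.sq _ h₂) hne (hord _ h₁) (hord _ h₂)
  refine ⟨⟨E, iE, fE, hext, hcard, ⟨?_⟩⟩, ?_⟩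
  · exact ((MulEquiv.subgroupCongr hF).trans
      (Subgroup.subgroupOfEquivOfLe (S.le_joint.trans S.joint_le))).trans eN
  · obtain ⟨hn', F, iF, jF, hcF, ⟨e⟩⟩ := S.quot
    obtain ⟨f⟩ := OrthMinusSixTwoAut48.nonempty_equiv hcF
    haveI := hn'
    exact ⟨(QuotientGroup.quotientMulEquivOfEq hF).trans (e.trans f.symm)⟩

end Cfsg.Agent.S5519
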