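import Cfsg.Statements.S5520
import Cfsg.Agent.Lib.U62Classify93

set_option autoImplicit false
open Cfsg Cfsg.Agent.U62Mon93 Cfsg.Agent.U62Twist93 Cfsg.Agent.U62Classify93

namespace Cfsg.Agent.S5520

/-- In the special unitary group of dimension 6 over the field with four elements (determinant-one matrices preserving the standard Hermitian form), the subgroups K whose centre has order 3 with K modulo its centre isomorphic to the projective special unitary group of dimension 4 over the field with nine elements fall into exactly three conjugacy classes. -/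
theorem result (F : Type) [Field F] [Fintype F] (hF : Fintype.card F = 4) (F9 : Type) [Field F9] [Fintype F9] (hF9 : Fintype.card F9 = 9) : ∃ K₁ K₂ K₃ : Subgroup ↥(Cfsg.SU 6 F 2), (∀ K ∈ [K₁, K₂, K₃], Nat.card ↥(Subgroup.center ↥K) = 3 ∧ Nonempty (↥K ⧸ Subgroup.center ↥K ≃* Cfsg.PSU 4 F9 3)) ∧ (¬ ∃ g : ↥(Cfsg.SU 6 F 2), K₁.map (MulAut.conj g).toMonoidHom = K₂) ∧ (¬ ∃ g : ↥(Cfsg.SU 6 F 2), K₁.map (MulAut.conj g).toMonoidHom = K₃) ∧ (¬ ∃ g : ↥(Cfsg.SU 6 F 2), K₂.map (MulAut.conj g).toMonoidHom = K₃) ∧ ∀ K : Subgroup ↥(Cfsg.SU 6 F 2), Nat.card ↥(Subgroup.center ↥K) = 3 → Nonempty (↥K ⧸ Subgroup.center ↥K ≃* Cfsg.PSU 4 F9 3) → ∃ g : ↥(Cfsg.SU 6 F 2), K.map (MulAut.conj g).toMonoidHom = K₁ ∨ K.map (MulAut.conj g).toMonoidHom = K₂ ∨ K.map (MulAut.conj g).toMonoidHom = K₃ := by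
  obtain ⟨s, h⟩ := exists_S4 hF
  refine ⟨Kc h 0, Kc h 1, Kc h 2, fun K hK => ?_, fun ⟨g, hg⟩ => ?_, fun ⟨g, hg⟩ => ?_,
    fun ⟨g, hg⟩ => ?_, fun K hc hi => ?_⟩
  · simp only [List.mem_cons, List.not_mem_nil, or_false] at hK
    rcases hK with rfl | rfl | rfl <;> exact Kc_props h _ F9 hF9
  · exact absurd (eq_of_conj h F9 hF9 hg) (by decide)
  · exact absurd (eq_of_conj h F9 hF9 hg) (by decide)
  · exact absurd (eq_of_conj h F9 hF9 hg) (by decide)
  · obtain ⟨g, a, ha⟩ := exists_conj_Kc h F9 hF9 hc hi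
    rcases (show a = 0 ∨ a = 1 ∨ a = 2 by clear ha; revert a; decide) with rfl | rfl | rfl
    · exact ⟨g, Or.inl ha⟩
    · exact ⟨g, Or.inr (Or.inl ha)⟩
    · exact ⟨g, Or.inr (Or.inr ha)⟩

end Cfsg.Agent.S5520
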