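import Cfsg.Statements.S5521
import Cfsg.Agent.Lib.GolayM24

set_option autoImplicit false
open Cfsg

namespace Cfsg.Agent.S5521

/-- The Mathieu group M₂₄ in its natural action on the 24 coordinate positions of the binary Golay code has minimal base size exactly 7: every set of at most 6 positions is fixed pointwise by some non-identity element of M₂₄, while some set of 7 positions is fixed pointwise only by the identity. -/
theorem result :
    (∀ B : Finset Cfsg.GolayPt, B.card ≤ 6 → ∃ g ∈ Cfsg.M24, g ≠ 1 ∧ ∀ b ∈ B, g b = b) ∧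
    (∃ B : Finset Cfsg.GolayPt, B.card = 7 ∧ ∀ g ∈ Cfsg.M24, (∀ b ∈ B, g b = b) → g = 1) := by
  classical
  constructor
  · intro B hB
    by_contra hne
    have hinj : Function.Injective (fun g : ↥Cfsg.M24 => fun b : ↥B => (g : Equiv.Perm Cfsg.GolayPt) b.1) := by
      intro g h e
      by_contra hgh
      refine hne ⟨((g : Equiv.Perm Cfsg.GolayPt))⁻¹ * (h : Equiv.Perm Cfsg.GolayPt),
        mul_mem (inv_mem g.2) h.2, ?_, fun b hb => ?_⟩
      · rw [ne_eq, inv_mul_eq_one]
        exact fun e' => hgh (Subtype.ext e')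
      · have := congrFun e ⟨b, hb⟩
        simp only at this
        rw [Equiv.Perm.mul_apply, ← this, ← Equiv.Perm.mul_apply, inv_mul_cancel, Equiv.Perm.one_apply]
    have h := Nat.card_le_card_of_injective _ hinj
    rw [GolayM24.card_M24, Nat.card_fun, Nat.card_eq_finsetCard, Nat.card_eq_fintype_card] at h
    have h24 : Fintype.card Cfsg.GolayPt = 24 := rfl
    rw [h24] at h
    have := h.trans (Nat.pow_le_pow_right (by norm_num) hB)
    norm_num at this
  · refine ⟨([23, 0, 12, 14, 16, 17, 1].map GolayBasic.pt).toFinset, by decide +kernel, fun g hg h => ?_⟩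
    have hm : g ∈ GolayPerm.fixList Cfsg.M24 [23, 0, 12, 14, 16, 17, 1] :=
      GolayPerm.mem_fixList.2 ⟨hg, fun b hb => h _ (List.mem_toFinset.2 (List.mem_map_of_mem hb))⟩
    rwa [GolayM24.fixList_base_eq_bot, Subgroup.mem_bot] at hm

end Cfsg.Agent.S5521
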