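import Cfsg.Statements.S5522
import Cfsg.Agent.Lib.GolayWords
import Cfsg.Agent.Lib.GolayOutM11

set_option autoImplicit false
open Cfsg

namespace Cfsg.Agent.S5522

/-- The Mathieu group M₁₁, realised as the stabiliser of one point of the dodecad of squares inside the stabiliser M₁₂ of that dodecad in M₂₄, acts on the twelve coordinate positions outside the dodecad of squares (its 3-transitive action of degree 12); in this action every element of prime order fixes a point, i.e. the action is elusive. -/
theorem result (g : Equiv.Perm Cfsg.GolayPt) (hg : g ∈ Cfsg.Spor.M11) (hord : (orderOf g).Prime) :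
    ∃ x : Cfsg.GolayPt, x ∉ Cfsg.Spor.squareDodecad ∧ g x = x := by
  obtain ⟨w, hw, hwg⟩ := GolayWords.exists_word GolayOutM11.chainT GolayOutM11.memT GolayOutM11.sizeT hg
  have hchk := List.all_eq_true.1 (by decide +kernel :
    (GolayWords.words GolayOutDataM11.lvT).all (fun w =>
      (GolayPerm.pts.any fun i => !(Nat.testBit 340831 i) && GolayChain.wimg w i == i) ||
        ([2, 3, 5, 11].all fun p => GolayPerm.pts.any fun i => GolayWords.wit w p i != i)) = true) w hw
  simp only [Bool.or_eq_true, List.any_eq_true, List.all_eq_true, Bool.and_eq_true, beq_iff_eq,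
    bne_iff_ne, Bool.not_eq_true'] at hchk
  rcases hchk with ⟨i, hi, hout, hfix⟩ | hno
  · refine ⟨GolayBasic.pt i, ?_, GolayBasic.idx_inj ?_⟩
    · rw [GolayM24.squareDodecad_eq, GolayBasic.mem_mset, GolayBasic.idx_pt (GolayPerm.mem_pts.1 hi), hout]
      simp
    · rw [hwg, GolayBasic.idx_pt (GolayPerm.mem_pts.1 hi), hfix]
  · exfalso
    have hd : orderOf g ∣ 7920 := by
      have := orderOf_dvd_natCard (⟨g, hg⟩ : ↥Cfsg.Spor.M11)
      rwa [GolayM24.card_M11, Subgroup.orderOf_mk] at this
    have hp : orderOf g ∈ ([2, 3, 5, 11] : List ℕ) := by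
      rw [show (7920 : ℕ) = 2 ^ 4 * 3 ^ 2 * 5 * 11 from by norm_num] at hd
      rcases (Nat.Prime.dvd_mul hord).1 hd with h | h
      · rcases (Nat.Prime.dvd_mul hord).1 h with h | h
        · rcases (Nat.Prime.dvd_mul hord).1 h with h | h
          · rw [(Nat.prime_dvd_prime_iff_eq hord Nat.prime_two).1 (hord.dvd_of_dvd_pow h)]; decide
          · rw [(Nat.prime_dvd_prime_iff_eq hord Nat.prime_three).1 (hord.dvd_of_dvd_pow h)]; decide
        · rw [(Nat.prime_dvd_prime_iff_eq hord Nat.prime_five).1 h]; decide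
      · rw [(Nat.prime_dvd_prime_iff_eq hord (by norm_num)).1 h]; decide
    obtain ⟨i, hi, hne⟩ := hno _ hp
    apply hne
    have := GolayWords.idx_pow_word hwg (orderOf g) (GolayBasic.pt i)
    rw [pow_orderOf_eq_one, Equiv.Perm.one_apply, GolayBasic.idx_pt (GolayPerm.mem_pts.1 hi)] at this
    exact this.symm

end Cfsg.Agent.S5522
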