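import Cfsg.Statements.S5541
-- import your own Cfsg.Agent.* helpers here

set_option autoImplicit false
open Cfsg

namespace Cfsg.Agent.S5541


theorem nondeg {H : Type*} [Group H] {U : Type*} [AddCommGroup U] [Module ℝ U] [FiniteDimensional ℝ U]
    (ρ : Representation ℝ H U)
    (hirr : ∀ W : Submodule ℝ U, (∀ g : H, W.map (ρ g) ≤ W) → W = ⊥ ∨ W = ⊤)
    (B : LinearMap.BilinForm ℝ U) (hB0 : B ≠ 0)
    (hBi : ∀ (g : H) (u v : U), B (ρ g u) (ρ g v) = B u v) : Function.Bijective B := by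
  have hinj : Function.Injective B := by
    rw [← LinearMap.ker_eq_bot]
    rcases hirr (LinearMap.ker B) (by
      intro g
      rintro _ ⟨u, hu, rfl⟩
      rw [SetLike.mem_coe, LinearMap.mem_ker] at hu
      rw [LinearMap.mem_ker]
      ext v
      have h : ρ g (ρ g⁻¹ v) = v := by
        rw [← Module.End.mul_apply, ← map_mul, mul_inv_cancel, map_one, Module.End.one_apply]
      rw [← h, hBi, hu]; simp) with h | h
    · exact h
    · exact absurd (LinearMap.ker_eq_top.mp h) hB0
  exact ⟨hinj, (LinearMap.injective_iff_surjective_of_finrank_eq_finrank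
    Subspace.dual_finrank_eq.symm).mp hinj⟩

/-- Let ρ be a representation of a group H on a finite-dimensional real vector space U whose only ρ-invariant subspaces are the zero subspace and U, and suppose U carries a non-zero ρ-invariant symmetric bilinear form. Then the following are equivalent: (1) there is a non-zero ρ-equivariant commutative bilinear product on U of which every ρ-equivariant bilinear product is a scalar multiple; (2) there is a non-zero ρ-invariant trilinear form on U that is symmetric under all permutations of its arguments and of which every ρ-invariant trilinear form is a scalar multiple. -/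
theorem result {H : Type*} [Group H] {U : Type*} [AddCommGroup U] [Module ℝ U] [FiniteDimensional ℝ U] (ρ : Representation ℝ H U) (hirr : ∀ W : Submodule ℝ U, (∀ g : H, W.map (ρ g) ≤ W) → W = ⊥ ∨ W = ⊤) (B : LinearMap.BilinForm ℝ U) (hB0 : B ≠ 0) (hBs : ∀ u v, B u v = B v u) (hBi : ∀ (g : H) (u v : U), B (ρ g u) (ρ g v) = B u v) : (∃ m : U →ₗ[ℝ] U →ₗ[ℝ] U, m ≠ 0 ∧ (∀ u v, m u v = m v u) ∧ (∀ (g : H) (u v : U), m (ρ g u) (ρ g v) = ρ g (m u v)) ∧ ∀ m' : U →ₗ[ℝ] U →ₗ[ℝ] U, (∀ (g : H) (u v : U), m' (ρ g u) (ρ g v) = ρ g (m' u v)) → ∃ c : ℝ, m' = c • m) ↔ (∃ t : U →ₗ[ℝ] U →ₗ[ℝ] U →ₗ[ℝ] ℝ, t ≠ 0 ∧ (∀ u v w, t u v w = t v u w ∧ t u v w = t u w v) ∧ (∀ (g : H) (u v w : U), t (ρ g u) (ρ g v) (ρ g w) = t u v w) ∧ ∀ t' : U →ₗ[ℝ] U →ₗ[ℝ] U →ₗ[ℝ] ℝ, (∀ (g : H) (u v w : U), t' (ρ g u) (ρ g v) (ρ g w) = t' u v w) → ∃ c : ℝ, t' = c • t) := by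
  have hbij := nondeg ρ hirr B hB0 hBi
  let e : U ≃ₗ[ℝ] (U →ₗ[ℝ] ℝ) := LinearEquiv.ofBijective B hbij
  have he : ∀ x, e x = B x := fun x => rfl
  -- from products to forms and back
  have back : ∀ t : U →ₗ[ℝ] U →ₗ[ℝ] U →ₗ[ℝ] ℝ, ∃ m : U →ₗ[ℝ] U →ₗ[ℝ] U,
      ∀ u v, B (m u v) = t u v := by
    intro t
    refine ⟨t.compr₂ e.symm.toLinearMap, fun u v => ?_⟩
    rw [← he]
    exact e.apply_symm_apply _
  have eqv : ∀ (m : U →ₗ[ℝ] U →ₗ[ℝ] U),
      (∀ (g : H) (u v : U), m (ρ g u) (ρ g v) = ρ g (m u v)) ↔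
      (∀ (g : H) (u v w : U), B (m (ρ g u) (ρ g v)) (ρ g w) = B (m u v) w) := by
    intro m
    constructor
    · intro h g u v w
      rw [h, hBi]
    · intro h g u v
      apply hbij.1
      ext w
      have hw : ρ g (ρ g⁻¹ w) = w := by
        rw [← Module.End.mul_apply, ← map_mul, mul_inv_cancel, map_one, Module.End.one_apply]
      rw [← hw, h, hBi]
  constructor
  · rintro ⟨m, hm0, hmc, hme, hmu⟩
    let t : U →ₗ[ℝ] U →ₗ[ℝ] U →ₗ[ℝ] ℝ := m.compr₂ B
    have ht : ∀ u v w, t u v w = B (m u v) w := fun u v w => rfl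
    have hinv : ∀ (g : H) (u v w : U), t (ρ g u) (ρ g v) (ρ g w) = t u v w := (eqv m).mp hme
    have huniq : ∀ t' : U →ₗ[ℝ] U →ₗ[ℝ] U →ₗ[ℝ] ℝ,
        (∀ (g : H) (u v w : U), t' (ρ g u) (ρ g v) (ρ g w) = t' u v w) → ∃ c : ℝ, t' = c • t := by
      intro t' ht'
      obtain ⟨m', hm'⟩ := back t'
      obtain ⟨c, hc⟩ := hmu m' ((eqv m').mpr (fun g u v w => by rw [hm', hm']; exact ht' g u v w))
      refine ⟨c, ?_⟩
      ext u v w
      rw [← hm', hc]
      simp [t]
    have ht0 : t ≠ 0 := by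
      intro h
      apply hm0
      ext u v
      apply hbij.1
      rw [LinearMap.zero_apply, LinearMap.zero_apply, map_zero]
      ext w
      have := DFunLike.congr_fun (DFunLike.congr_fun (DFunLike.congr_fun h u) v) w
      simpa [ht] using this
    have h12 : ∀ u v w, t u v w = t v u w := fun u v w => by rw [ht, ht, hmc]
    let s : U →ₗ[ℝ] U →ₗ[ℝ] U →ₗ[ℝ] ℝ :=
      LinearMap.mk₂ ℝ (fun u v => (t u).flip v) (by intros; ext; simp) (by intros; ext; simp)
        (by intros; ext; simp) (by intros; ext; simp)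
    have hs : ∀ u v w, s u v w = t u w v := fun u v w => rfl
    obtain ⟨c, hc⟩ := huniq s (fun g u v w => by rw [hs, hs]; exact hinv g u w v)
    have hc' : ∀ u v w, t u w v = c * t u v w := fun u v w => by rw [← hs, hc]; simp
    have hc1 : c = 1 := by
      by_contra hne
      apply ht0
      ext u v w
      show t u v w = 0
      have h2 : t u v w = c * c * t u v w := by rw [mul_assoc, ← hc', ← hc']
      by_contra hz
      have hcc : c * c = 1 := by
        apply mul_right_cancel₀ hz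
        rw [one_mul, ← h2]
      have hcm : c = -1 := (mul_self_eq_one_iff.mp hcc).resolve_left hne
      subst hcm
      have e1 := h12 u v w
      have e2 := hc' v w u
      have e3 := h12 v w u
      have e4 := hc' w u v
      have e5 := h12 w u v
      have e6 := hc' u v w
      apply hz
      linarith
    refine ⟨t, ht0, fun u v w => ⟨h12 u v w, ?_⟩, hinv, huniq⟩
    rw [hc' u v w, hc1, one_mul]
  · rintro ⟨t, ht0, hts, hti, htu⟩
    obtain ⟨m, hm⟩ := back t
    refine ⟨m, ?_, ?_, (eqv m).mpr (fun g u v w => by rw [hm, hm]; exact hti g u v w), ?_⟩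
    · intro h
      apply ht0
      ext u v w
      rw [← hm, h]
      simp
    · intro u v
      apply hbij.1
      rw [hm, hm]
      ext w
      exact (hts u v w).1
    · intro m' hm'
      obtain ⟨c, hc⟩ := htu (m'.compr₂ B) ((eqv m').mp hm')
      refine ⟨c, ?_⟩
      ext u v
      apply hbij.1
      have := DFunLike.congr_fun (DFunLike.congr_fun hc u) v
      simpa [hm] using this

end Cfsg.Agent.S5541
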