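import Cfsg.Statements.S5543
-- import your own Cfsg.Agent.* helpers here

set_option autoImplicit false
open Cfsg

namespace Cfsg.Agent.S5543


theorem key {V : Type*} [AddCommGroup V] [Module ℝ V] (mul : V →ₗ[ℝ] V →ₗ[ℝ] V) {μ : V ≃ₗ[ℝ] V}
    {B : LinearMap.BilinForm ℝ V} {a v w : V} (h : Cfsg.Axial.IsMajoranaPair mul B μ a)
    (hv : mul a v = (1 / 4 : ℝ) • v) (hw : mul a w = (1 / 4 : ℝ) • w) :
    mul a (mul a (mul v w)) = mul a (mul v w) := by
  have hmem : mul v w ∈ Cfsg.Axial.eigenSum mul a ({1, 0} : Set ℝ) := by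
    have := h.2.2.1.1.2.2.2 (1 / 4) (by simp [Cfsg.Axial.majoranaSpectrum]) (1 / 4)
      (by simp [Cfsg.Axial.majoranaSpectrum]) v (Module.End.mem_eigenspace_iff.mpr hv) w
      (Module.End.mem_eigenspace_iff.mpr hw)
    have hlaw : Cfsg.Axial.monsterLaw (1 / 4 : ℝ) (1 / 32) (1 / 4) (1 / 4) = {1, 0} := by
      unfold Cfsg.Axial.monsterLaw
      norm_num
    rwa [hlaw] at this
  have hle : Cfsg.Axial.eigenSum mul a ({1, 0} : Set ℝ) ≤
      LinearMap.ker ((mul a) ∘ₗ (mul a) - mul a) := by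
    refine iSup₂_le fun c hc z hz => ?_
    rw [Cfsg.Axial.eigen, Module.End.mem_eigenspace_iff] at hz
    rcases hc with rfl | rfl <;> simp [hz]
  have := hle hmem
  simpa [LinearMap.mem_ker, sub_eq_zero] using this

/-- Let V be a finite-dimensional real vector space with a commutative bilinear product and a positive-definite symmetric bilinear form that associates with the product and satisfies the Norton inequality (the Majorana setting of the definitions). Let X be a group of linear automorphisms of V in which every element squares to the identity, and suppose every non-identity element x of X is a Majorana involution with an axial vector a(x) of squared length 1, such that for any two distinct non-identity x, y the product a(x) ∘ a(y) equals (1/8)(a(x) + a(y) − a(xy)) (the dihedral subalgebra of type 2A whose third axis belongs to the involution xy). Then X has order at most 4. -/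
theorem result {V : Type*} [AddCommGroup V] [Module ℝ V] [FiniteDimensional ℝ V] (mul : V →ₗ[ℝ] V →ₗ[ℝ] V) (B : LinearMap.BilinForm ℝ V) (hV : Cfsg.Axial.IsMajoranaAmbient mul B) (X : Subgroup (V ≃ₗ[ℝ] V)) (hX : ∀ x ∈ X, x * x = 1) (ax : (V ≃ₗ[ℝ] V) → V) (hax : ∀ x ∈ X, x ≠ 1 → Cfsg.Axial.IsMajoranaPair mul B x (ax x)) (h1 : ∀ x ∈ X, x ≠ 1 → B (ax x) (ax x) = 1) (h2A : ∀ x ∈ X, ∀ y ∈ X, x ≠ 1 → y ≠ 1 → x ≠ y → mul (ax x) (ax y) = (1 / 8 : ℝ) • (ax x + ax y - ax (x * y))) : Nat.card ↥X ≤ 4 := by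
  obtain ⟨hcomm, hBs, hBpos, -, -⟩ := hV
  by_contra hcard
  push_neg at hcard
  have hfin : Finite ↥X := Nat.finite_of_card_ne_zero (by omega)
  classical
  let S : Set (V ≃ₗ[ℝ] V) := (X : Set (V ≃ₗ[ℝ] V))
  have hS : 4 < S.ncard := by
    rw [← Nat.card_coe_set_eq]
    exact hcard
  have hfinS : S.Finite := Set.toFinite _
  have hex : ∀ T : Finset (V ≃ₗ[ℝ] V), T.card ≤ 4 → ∃ g ∈ X, g ∉ T := by
    intro T hT
    by_contra hno
    push_neg at hno
    have hle : S.ncard ≤ (T : Set (V ≃ₗ[ℝ] V)).ncard :=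
      Set.ncard_le_ncard hno (Finset.finite_toSet T)
    rw [Set.ncard_coe_finset] at hle
    omega
  obtain ⟨x, hx, hx1⟩ := hex {1} (by simp)
  obtain ⟨y, hy, hy1⟩ := hex {1, x} (Finset.card_le_two.trans (by norm_num))
  obtain ⟨z, hz, hz1⟩ := hex {1, x, y, x * y} (Finset.card_le_four)
  simp only [Finset.mem_insert, Finset.mem_singleton, not_or] at hx1 hy1 hz1
  obtain ⟨hy1, hyx⟩ := hy1
  obtain ⟨hz1, hzx, hzy, hzxy⟩ := hz1
  have inv : ∀ s ∈ X, s⁻¹ = s := fun s hs => inv_eq_of_mul_eq_one_left (hX s hs)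
  have com : ∀ s ∈ X, ∀ t ∈ X, s * t = t * s := by
    intro s hs t ht
    calc s * t = (s * t)⁻¹ := (inv _ (X.mul_mem hs ht)).symm
      _ = t * s := by rw [mul_inv_rev, inv s hs, inv t ht]
  have can : ∀ s ∈ X, ∀ t : (V ≃ₗ[ℝ] V), s * (s * t) = t := fun s hs t => by
    rw [← mul_assoc, hX s hs, one_mul]
  have ne1 : ∀ s ∈ X, ∀ t ∈ X, s ≠ t → s * t ≠ 1 := by
    intro s hs t ht hne h
    apply hne
    rw [← inv s hs, inv_eq_of_mul_eq_one_right h]
  have third : ∀ s ∈ X, ∀ t ∈ X, s ≠ 1 → t ≠ 1 → s ≠ t →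
      mul (ax s) (ax t - ax (s * t)) = (1 / 4 : ℝ) • (ax t - ax (s * t)) := by
    intro s hs t ht hs1 ht1 hst
    have e1 := h2A s hs t ht hs1 ht1 hst
    have e2 := h2A s hs (s * t) (X.mul_mem hs ht) hs1 (ne1 s hs t ht hst)
      (fun h => ht1 (by simpa using h))
    rw [can s hs] at e2
    rw [map_sub, e1, e2]
    module
  have inj : ∀ s ∈ X, ∀ t ∈ X, s ≠ 1 → t ≠ 1 → s ≠ t → ax s ≠ ax t := by
    intro s hs t ht hs1 ht1 hst heq
    have e1 := h2A s hs t ht hs1 ht1 hst
    rw [← heq, (hax s hs hs1).2.2.1.1.2.1] at e1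
    have e3 : ax (s * t) = (-6 : ℝ) • ax s := by
      have h8 : (8 : ℝ) • ax s = ax s + ax s - ax (s * t) := by
        conv_lhs => rw [e1]
        module
      linear_combination (norm := module) h8
    have e4 := h1 (s * t) (X.mul_mem hs ht) (ne1 s hs t ht hst)
    rw [e3, map_smul, map_smul, LinearMap.smul_apply, h1 s hs hs1] at e4
    norm_num at e4
  have hxy : x * y ∈ X := X.mul_mem hx hy
  have hxz : x * z ∈ X := X.mul_mem hx hz
  have hyz : y * z ∈ X := X.mul_mem hy hz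
  have hw : x * (y * z) ∈ X := X.mul_mem hx hyz
  have hyz1 : y * z ≠ 1 := ne1 y hy z hz (Ne.symm hzy)
  have hxyz : x ≠ y * z := fun h => hzxy (by rw [h, com y hy z hz, mul_assoc, hX y hy, mul_one])
  have hw1 : x * (y * z) ≠ 1 := ne1 x hx _ hyz hxyz
  have q1 := h2A y hy z hz hy1 hz1 (Ne.symm hzy)
  have hy_xz : y ≠ x * z := fun h => hzxy (by rw [h, can x hx])
  have q2 := h2A y hy (x * z) hxz hy1 (ne1 x hx z hz (Ne.symm hzx)) hy_xz
  have hxy_z : x * y ≠ z := Ne.symm hzxy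
  have q3 := h2A (x * y) hxy z hz (ne1 x hx y hy (Ne.symm hyx)) hz1 hxy_z
  have hxy_xz : x * y ≠ x * z := fun h => hzy (mul_left_cancel h).symm
  have q4 := h2A (x * y) hxy (x * z) hxz (ne1 x hx y hy (Ne.symm hyx))
    (ne1 x hx z hz (Ne.symm hzx)) hxy_xz
  have r2 : y * (x * z) = x * (y * z) := by rw [← mul_assoc, com y hy x hx, mul_assoc]
  have r4 : (x * y) * (x * z) = y * z := by
    rw [com x hx y hy, mul_assoc, can x hx]
  rw [r2] at q2
  rw [mul_assoc] at q3
  rw [r4] at q4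
  have hprod : mul (ax y - ax (x * y)) (ax z - ax (x * z)) =
      (-1 / 4 : ℝ) • (ax (y * z) - ax (x * (y * z))) := by
    simp only [map_sub, LinearMap.sub_apply]
    rw [q1, q2, q3, q4]
    module
  have hk := key mul (hax x hx hx1) (third x hx y hy hx1 hy1 (Ne.symm hyx))
    (third x hx z hz hx1 hz1 (Ne.symm hzx))
  have h6 := third x hx (y * z) hyz hx1 hyz1 hxyz
  rw [hprod, map_smul, h6, map_smul, map_smul, h6, smul_smul, smul_smul, smul_smul] at hk
  have h0 : ax (y * z) - ax (x * (y * z)) = 0 := by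
    have : ((-1 / 4 : ℝ) * (1 / 4) * (1 / 4) - (-1 / 4) * (1 / 4)) •
        (ax (y * z) - ax (x * (y * z))) = 0 := by rw [sub_smul, sub_eq_zero]; exact hk
    exact (smul_eq_zero.mp this).resolve_left (by norm_num)
  exact inj _ hyz _ hw hyz1 hw1 (fun h => hx1 (mul_right_cancel (a := x) (b := y * z) (c := 1) (by rw [one_mul]; exact h.symm))) (sub_eq_zero.mp h0)

end Cfsg.Agent.S5543
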