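import Cfsg.Statements.S5544
-- import your own Cfsg.Agent.* helpers here

set_option autoImplicit false
open Cfsg

namespace Cfsg.Agent.S5544


open Cfsg.Axial

variable {V : Type*} [AddCommGroup V] [Module ℝ V] {mul : V →ₗ[ℝ] V →ₗ[ℝ] V}
  {B : LinearMap.BilinForm ℝ V}

/-- A Majorana involution with an axial vector of unit length. -/
def Ax (mul : V →ₗ[ℝ] V →ₗ[ℝ] V) (B : LinearMap.BilinForm ℝ V) (μ : V ≃ₗ[ℝ] V) (a : V) : Prop :=
  IsMajoranaPair mul B μ a ∧ B a a = 1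

theorem Ax.idem {μ : V ≃ₗ[ℝ] V} {a : V} (h : Ax mul B μ a) : mul a a = a :=
  h.1.2.2.1.1.2.1

theorem Ax.map_mul {μ : V ≃ₗ[ℝ] V} {a : V} (h : Ax mul B μ a) (u v : V) :
    μ (mul u v) = mul (μ u) (μ v) := h.1.1 u v

theorem Ax.map_form {μ : V ≃ₗ[ℝ] V} {a : V} (h : Ax mul B μ a) (u v : V) :
    B (μ u) (μ v) = B u v := h.1.2.1 u v

/-- To prove a linear identity it suffices to check it on the four eigenspaces. -/
theorem Ax.ext_eigen {μ : V ≃ₗ[ℝ] V} {a : V} (h : Ax mul B μ a) {W : Type*} [AddCommGroup W]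
    [Module ℝ W] (f g : V →ₗ[ℝ] W)
    (hfg : ∀ c ∈ majoranaSpectrum, ∀ v : V, mul a v = c • v → f v = g v) (v : V) : f v = g v := by
  have hle : eigenSum mul a majoranaSpectrum ≤ LinearMap.ker (f - g) := by
    refine iSup₂_le fun c hc w hw => ?_
    rw [LinearMap.mem_ker, LinearMap.sub_apply, sub_eq_zero]
    exact hfg c hc w (Module.End.mem_eigenspace_iff.mp hw)
  have := hle (show v ∈ eigenSum mul a majoranaSpectrum by rw [h.1.2.2.1.1.2.2.1]; trivial)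
  rwa [LinearMap.mem_ker, LinearMap.sub_apply, sub_eq_zero] at this

theorem Ax.fix_eigen {μ : V ≃ₗ[ℝ] V} {a : V} (h : Ax mul B μ a) {c : ℝ} {v : V}
    (hc : c ∈ ({1, 0, 1 / 4} : Set ℝ)) (hv : mul a v = c • v) : μ v = v :=
  h.1.2.2.2.1 v (Submodule.mem_iSup_of_mem c
    (Submodule.mem_iSup_of_mem hc (Module.End.mem_eigenspace_iff.mpr hv)))

theorem Ax.neg_eigen {μ : V ≃ₗ[ℝ] V} {a : V} (h : Ax mul B μ a) {v : V}
    (hv : mul a v = (1 / 32 : ℝ) • v) : μ v = -v :=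
  h.1.2.2.2.2 v (Module.End.mem_eigenspace_iff.mpr hv)

theorem Ax.fix_self {μ : V ≃ₗ[ℝ] V} {a : V} (h : Ax mul B μ a) : μ a = a :=
  h.fix_eigen (by simp) (by rw [h.idem, one_smul] : mul a a = (1 : ℝ) • a)

theorem Ax.mul_self {μ : V ≃ₗ[ℝ] V} {a : V} (h : Ax mul B μ a) : μ * μ = 1 := by
  refine LinearEquiv.ext fun v => ?_
  refine h.ext_eigen (μ.toLinearMap ∘ₗ μ.toLinearMap) LinearMap.id (fun c hc v hv => ?_) v
  show μ (μ v) = v
  rcases hc with rfl | rfl | rfl | rfl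
  · rw [h.fix_eigen (by simp) hv, h.fix_eigen (by simp) hv]
  · rw [h.fix_eigen (by simp) hv, h.fix_eigen (by simp) hv]
  · rw [h.fix_eigen (by simp) hv, h.fix_eigen (by simp) hv]
  · rw [h.neg_eigen hv, map_neg, h.neg_eigen hv, neg_neg]

theorem Ax.apply_apply {μ : V ≃ₗ[ℝ] V} {a : V} (h : Ax mul B μ a) (v : V) : μ (μ v) = v := by
  have := congrArg (fun f : V ≃ₗ[ℝ] V => f v) h.mul_self
  simpa using this

/-- An algebra automorphism carrying one axis to another intertwines the involutions. -/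
theorem Ax.conj {μ μ' : V ≃ₗ[ℝ] V} {a a' : V} (h : Ax mul B μ a) (h' : Ax mul B μ' a')
    {f : V ≃ₗ[ℝ] V} (hf : ∀ u v, f (mul u v) = mul (f u) (f v)) (hfa : f a = a') :
    f * μ = μ' * f := by
  refine LinearEquiv.ext fun v => ?_
  refine h.ext_eigen (f.toLinearMap ∘ₗ μ.toLinearMap) (μ'.toLinearMap ∘ₗ f.toLinearMap)
    (fun c hc v hv => ?_) v
  show f (μ v) = μ' (f v)
  have hv' : mul a' (f v) = c • f v := by rw [← hfa, ← hf, hv, map_smul]
  rcases hc with rfl | rfl | rfl | rfl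
  · rw [h.fix_eigen (by simp) hv, h'.fix_eigen (by simp) hv']
  · rw [h.fix_eigen (by simp) hv, h'.fix_eigen (by simp) hv']
  · rw [h.fix_eigen (by simp) hv, h'.fix_eigen (by simp) hv']
  · rw [h.neg_eigen hv, map_neg, h'.neg_eigen hv']

/-- Equal unit vectors. -/
theorem eq_of_form (hV : IsMajoranaAmbient mul B) {x y : V} (hx : B x x = 1) (hy : B y y = 1)
    (hxy : B x y = 1) : x = y := by
  by_contra hne
  have hpos := hV.2.2.1 (x - y) (sub_ne_zero.mpr hne)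
  simp only [map_sub, LinearMap.sub_apply, hx, hy, hxy, hV.2.1 y x] at hpos
  norm_num at hpos

/-- Eigenvectors for different eigenvalues are orthogonal. -/
theorem orth (hV : IsMajoranaAmbient mul B) {a x y : V} {c d : ℝ} (hx : mul a x = c • x)
    (hy : mul a y = d • y) (hcd : c ≠ d) : B x y = 0 := by
  have e : c * B x y = d * B x y := by
    have := hV.2.2.2.1 x a y
    rw [hy, map_smul, hV.1 x a, hx, map_smul, LinearMap.smul_apply] at this
    simpa using this.symm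
  by_contra hne
  exact hcd (mul_right_cancel₀ hne e)

/-- Everything the fusion law says about a second axis, in terms of its conjugate. -/
theorem axis_data (hV : IsMajoranaAmbient mul B) {μ : V ≃ₗ[ℝ] V} {a : V} (h : Ax mul B μ a)
    {b b' σ : V} (hbb : mul b b = b) (hb1 : B b b = 1) (hb' : μ b = b') {g k : ℝ}
    (hg : B a b = g) (hk : B b b' = k) (hσ : mul a b = σ + (1 / 32 : ℝ) • (a + b))
    {q u : V} (hq_def : q = (4 : ℝ) • σ + (1 / 8 - 4 * g) • a + (1 / 16 : ℝ) • (b + b'))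
    (hu_def : u = (3 * g - 1 / 8) • a + (7 / 16 : ℝ) • (b + b') - (4 : ℝ) • σ) :
    mul a b' = σ + (1 / 32 : ℝ) • (a + b') ∧
    μ σ = σ ∧
    mul a σ = ((31 * g - 1) / 32) • a + (7 / 128 : ℝ) • q ∧
    mul a (mul u u) = 0 ∧
    mul a (mul u q) = (1 / 4 : ℝ) • mul u q ∧
    mul a (mul q q) = (g - g ^ 2 - (1 - k) / 64) • a := by
  have fus := h.1.2.2.1.1.2.2.2
  have htop : b ∈ eigenSum mul a majoranaSpectrum := by rw [h.1.2.2.1.1.2.2.1]; trivial
  rw [majoranaSpectrum, eigenSum, iSup_insert, iSup_insert, iSup_pair] at htop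
  simp only [Submodule.mem_sup] at htop
  obtain ⟨p, hp, r, ⟨z, hz, s, ⟨x, hx, w, hw, rfl⟩, rfl⟩, rfl⟩ := htop
  rw [h.1.2.2.1.2, Submodule.mem_span_singleton] at hp
  obtain ⟨c, rfl⟩ := hp
  rw [eigen, Module.End.mem_eigenspace_iff] at hz hx hw
  have haa : mul a a = (1 : ℝ) • a := by rw [h.idem, one_smul]
  have o1 : B a z = 0 := orth hV haa hz (by norm_num)
  have o2 : B a x = 0 := orth hV haa hx (by norm_num)
  have o3 : B a w = 0 := orth hV haa hw (by norm_num)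
  have o4 : B z x = 0 := orth hV hz hx (by norm_num)
  have o5 : B z w = 0 := orth hV hz hw (by norm_num)
  have o6 : B x w = 0 := orth hV hx hw (by norm_num)
  have o1' : B z a = 0 := (hV.2.1 _ _).trans o1
  have o2' : B x a = 0 := (hV.2.1 _ _).trans o2
  have o3' : B w a = 0 := (hV.2.1 _ _).trans o3
  have o4' : B x z = 0 := (hV.2.1 _ _).trans o4
  have o5' : B w z = 0 := (hV.2.1 _ _).trans o5
  have o6' : B w x = 0 := (hV.2.1 _ _).trans o6
  have hcg : c = g := by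
    rw [← hg]
    simp [h.2, o1, o2, o3]
  subst hcg
  have hab : mul a (c • a + (z + (x + w))) = c • a + (1 / 4 : ℝ) • x + (1 / 32 : ℝ) • w := by
    rw [map_add, map_add, map_add, map_smul, h.idem, hz, hx, hw]; module
  have hb'' : b' = c • a + z + x - w := by
    rw [← hb', map_add, map_add, map_add, map_smul, h.fix_self, h.fix_eigen (by simp) hz,
      h.fix_eigen (by simp) hx, h.neg_eigen hw]
    abel
  have hσ' : σ = c • a + (1 / 4 : ℝ) • x + (1 / 32 : ℝ) • w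
      - (1 / 32 : ℝ) • (a + (c • a + (z + (x + w)))) := by
    rw [← hab, hσ]; abel
  have hqx : q = x := by rw [hq_def, hb'', hσ']; module
  have huz : u = z := by rw [hu_def, hb'', hσ']; module
  rw [hqx, huz]
  have hab' : mul a b' = c • a + (1 / 4 : ℝ) • x - (1 / 32 : ℝ) • w := by
    rw [hb'', map_sub, map_add, map_add, map_smul, h.idem, hz, hx, hw]; module
  refine ⟨?_, ?_, ?_, ?_, ?_, ?_⟩
  · rw [hab', hb'', hσ']; module
  · rw [hσ']
    simp only [map_add, map_sub, map_smul, h.fix_self, h.fix_eigen (by simp) hz,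
      h.fix_eigen (by simp) hx, h.neg_eigen hw]
    module
  · rw [hσ']
    simp only [map_add, map_sub, map_smul, h.idem, hz, hx, hw]
    module
  · have l : monsterLaw (1 / 4 : ℝ) (1 / 32) 0 0 = {0} := by unfold monsterLaw; norm_num
    have := fus 0 (by simp [majoranaSpectrum]) 0 (by simp [majoranaSpectrum]) z
      (Module.End.mem_eigenspace_iff.mpr hz) z (Module.End.mem_eigenspace_iff.mpr hz)
    rw [l, eigenSum, iSup_singleton, eigen, Module.End.mem_eigenspace_iff, zero_smul] at this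
    exact this
  · have l : monsterLaw (1 / 4 : ℝ) (1 / 32) 0 (1 / 4) = {1 / 4} := by
      unfold monsterLaw; norm_num
    have := fus 0 (by simp [majoranaSpectrum]) (1 / 4) (by simp [majoranaSpectrum]) z
      (Module.End.mem_eigenspace_iff.mpr hz) x (Module.End.mem_eigenspace_iff.mpr hx)
    rw [l, eigenSum, iSup_singleton, eigen, Module.End.mem_eigenspace_iff] at this
    exact this
  · have l : monsterLaw (1 / 4 : ℝ) (1 / 32) (1 / 4) (1 / 4) = {1, 0} := by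
      unfold monsterLaw; norm_num
    have := fus (1 / 4) (by simp [majoranaSpectrum]) (1 / 4) (by simp [majoranaSpectrum]) x
      (Module.End.mem_eigenspace_iff.mpr hx) x (Module.End.mem_eigenspace_iff.mpr hx)
    rw [l, eigenSum, iSup_pair, Submodule.mem_sup] at this
    obtain ⟨p, hp, d, hd, hpd⟩ := this
    rw [h.1.2.2.1.2, Submodule.mem_span_singleton] at hp
    obtain ⟨t, rfl⟩ := hp
    rw [eigen, Module.End.mem_eigenspace_iff] at hd
    have ot : B a d = 0 := orth hV haa hd (by norm_num)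
    have et : t = (1 / 4 : ℝ) * B x x := by
      have e : B a (mul x x) = t := by
        rw [← hpd, map_add, map_smul, h.2, ot, smul_eq_mul, mul_one, add_zero]
      rw [← e, hV.2.2.2.1, hx, map_smul, LinearMap.smul_apply, smul_eq_mul]
    have e1 : B (mul a (c • a + (z + (x + w)))) (c • a + (z + (x + w))) = c := by
      rw [← hV.2.2.2.1, hbb, hg]
    rw [hab] at e1
    rw [hb''] at hk
    simp only [map_add, map_sub, map_smul, LinearMap.add_apply, LinearMap.sub_apply,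
      LinearMap.smul_apply, smul_eq_mul, h.2, o1, o2, o3, o4, o5, o6, o1', o2', o3', o4', o5', o6']
      at e1 hk hb1
    rw [← hpd, map_add, map_smul, h.idem, hd, zero_smul, add_zero]
    have : t = c - c ^ 2 - (1 - k) / 64 := by
      rw [et]; linear_combination e1 - (1 / 64 : ℝ) * hb1 + (1 / 64 : ℝ) * hk
    rw [this]

/-- The two product formulas obtained from the fusion law at the axis `a₀`. -/
theorem core (hV : IsMajoranaAmbient mul B) {μ₀ μ₁ : V ≃ₗ[ℝ] V} {a₀ a₁ b₁ a₂ b₂ σ σe σo : V}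
    (h₀ : Ax mul B μ₀ a₀) (h₁ : Ax mul B μ₁ a₁) (hb₁ : μ₀ a₁ = b₁) (ha₂ : μ₁ a₀ = a₂)
    (hb₂ : μ₀ a₂ = b₂) {g e o : ℝ} (hg : B a₀ a₁ = g) (he : B a₀ a₂ = e) (ho : B a₁ b₁ = o)
    (hσ : mul a₀ a₁ = σ + (1 / 32 : ℝ) • (a₀ + a₁))
    (hσe : mul a₀ a₂ = σe + (1 / 32 : ℝ) • (a₀ + a₂))
    (hσo : mul a₁ b₁ = σo + (1 / 32 : ℝ) • (a₁ + b₁)) :
    mul a₀ σo = (-32 / 3 * g ^ 2 + 5 / 3 * g - 1 / 24 * o - 127 / 3072) • a₀
      + (32 / 3 * g - 19 / 48) • σ + (1 / 6 * g - 19 / 3072) • (a₁ + b₁)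
      + (7 / 96 : ℝ) • σe + (7 / 6144 : ℝ) • (a₂ + b₂) ∧
    mul σ σ = (7 / 6 * g ^ 2 - 7 / 384 * g + 7 / 1536 * o - 7 / 98304) • a₀
      + (-5 / 12 * g - 13 / 1536) • σ + (49 / 768 * g - 245 / 196608) • (a₁ + b₁)
      - (7 / 1536 : ℝ) • σe + (49 / 196608 : ℝ) • (a₂ + b₂) + (7 / 2048 : ℝ) • σo := by
  have hc := hV.1
  have i2 : mul a₂ a₂ = a₂ := by rw [← ha₂, ← h₁.map_mul, h₀.idem]
  have i1 : mul b₁ b₁ = b₁ := by rw [← hb₁, ← h₀.map_mul, h₁.idem]
  have n2 : B a₂ a₂ = 1 := by rw [← ha₂, h₁.map_form, h₀.2]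
  obtain ⟨p0m1, hfix, p0s, Euu, Euq, Eqq⟩ :=
    axis_data hV h₀ h₁.idem h₁.2 hb₁ hg ho hσ rfl rfl
  obtain ⟨p0m2, -, p0se, -, -, -⟩ :=
    axis_data hV h₀ i2 n2 hb₂ he rfl hσe rfl rfl
  obtain ⟨-, -, p1s, -, -, -⟩ :=
    axis_data hV h₁ (σ := σ) h₀.idem h₀.2 ha₂ ((hV.2.1 _ _).trans hg) he
      (by rw [hc a₁ a₀, hσ, add_comm a₀ a₁]) rfl rfl
  have pm1s : mul b₁ σ = ((31 * g - 1) / 32) • b₁ + (7 / 128 : ℝ) •
      ((4 : ℝ) • σ + (1 / 8 - 4 * g) • b₁ + (1 / 16 : ℝ) • (a₀ + b₂)) := by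
    have := congrArg μ₀ p1s
    simpa only [h₀.map_mul, map_add, map_smul, hb₁, hb₂, hfix, h₀.fix_self] using this
  simp only [map_add, map_sub, map_smul, LinearMap.add_apply, LinearMap.sub_apply,
    LinearMap.smul_apply, hc a₁ a₀, hc b₁ a₀, hc σ a₀, hc σ a₁, hc σ b₁, hc b₁ a₁,
    h₀.idem, h₁.idem, i1, hσ, hσe, hσo, p0m1, p0m2, p0s, p0se, p1s, pm1s] at Euu Euq Eqq
  have hAT : mul a₀ σo = (-32 / 3 * g ^ 2 + 5 / 3 * g - 1 / 24 * o - 127 / 3072) • a₀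
      + (32 / 3 * g - 19 / 48) • σ + (1 / 6 * g - 19 / 3072) • (a₁ + b₁)
      + (7 / 96 : ℝ) • σe + (7 / 6144 : ℝ) • (a₂ + b₂) := by
    linear_combination (norm := module) (-8 / 3 : ℝ) • (Eqq - Euu)
  refine ⟨hAT, ?_⟩
  linear_combination (norm := module)
    (1 / 4 : ℝ) • Euq + (1 / 4 : ℝ) • Euu - (7 / 64 : ℝ) • hAT

theorem fixed_values {g e : ℝ}
    (hQ : 2097152 * g ^ 4 - 2326528 * g ^ 3 + 40960 * g ^ 2 * e + 184320 * g ^ 2 + 8896 * g * e
      - 4800 * g + 128 * e ^ 2 - 167 * e + 39 = 0)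
    (hP : 536870912 * g ^ 5 - 605028352 * g ^ 4 + 26214400 * g ^ 3 * e + 44138496 * g ^ 3
      - 1593344 * g ^ 2 * e - 860160 * g ^ 2 + 94208 * g * e ^ 2 + 165856 * g * e - 2016 * g
      + 2784 * e ^ 2 - 2901 * e + 117 = 0) :
    g = 1 ∨ (g = 1 / 8 ∧ e = 1) ∨ (g = 0 ∧ e = 1) ∨ (g = 13 / 256 ∧ e = 13 / 256) ∨
      (g = 1 / 64 ∧ e = 1 / 64) ∨ (g = 1 / 32 ∧ e = 0) ∨ (g = 1 / 64 ∧ e = 1 / 8) ∨
      (g = 3 / 128 ∧ e = 3 / 128) ∨ (g = 5 / 256 ∧ e = 13 / 256) := by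
  set A := -15728640 * g ^ 3 - 36126720 * g ^ 2 + 381120 * g + 2925 with hA
  set C := -4026531840 * g ^ 5 + 4246732800 * g ^ 4 - 163676160 * g ^ 3 - 5345280 * g ^ 2
    + 294720 * g - 2925 with hC
  have hL : A * e + C = 0 := by
    rw [hA, hC]; linear_combination 4 * hP - (2944 * g + 87) * hQ
  have hf : g * (64 * g - 1) ^ 2 * (256 * g - 5) * (128 * g - 3) * (32 * g - 1) * (256 * g - 13) *
      (8 * g - 1) * (g - 1) = 0 := by
    have : (-722534400 : ℝ) * (g * (64 * g - 1) ^ 2 * (256 * g - 5) * (128 * g - 3) * (32 * g - 1) *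
        (256 * g - 13) * (8 * g - 1) * (g - 1)) = 0 := by
      have key := congrArg (fun t => A ^ 2 * t) hQ
      simp only [mul_zero] at key
      linear_combination (norm := (rw [hA, hC]; ring)) key -
        (128 * A * e - 128 * C + (40960 * g ^ 2 + 8896 * g - 167) * A) * hL
    exact (mul_eq_zero.mp this).resolve_left (by norm_num)
  simp only [mul_eq_zero, sq_eq_zero_iff, pow_eq_zero_iff, ne_eq, OfNat.ofNat_ne_zero,
    not_false_eq_true, sub_eq_zero] at hf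
  rcases hf with (((((((h | h) | h) | h) | h) | h) | h) | h)
  · subst h; right; right; left; refine ⟨rfl, ?_⟩; simp only [hA, hC] at hL; linarith
  · have hg' : g = 1 / 64 := by linarith
    subst hg'
    have : (64 * e - 1) * (8 * e - 1) = 0 := by linear_combination (4 : ℝ) * hQ
    rcases mul_eq_zero.mp this with h | h
    · right; right; right; right; left; exact ⟨rfl, by linarith⟩
    · right; right; right; right; right; right; left; exact ⟨rfl, by linarith⟩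
  · have hg' : g = 5 / 256 := by linarith
    subst hg'; right; right; right; right; right; right; right; right
    refine ⟨rfl, ?_⟩; simp only [hA, hC] at hL; linarith
  · have hg' : g = 3 / 128 := by linarith
    subst hg'; right; right; right; right; right; right; right; left
    refine ⟨rfl, ?_⟩; simp only [hA, hC] at hL; linarith
  · have hg' : g = 1 / 32 := by linarith
    subst hg'; right; right; right; right; right; left
    refine ⟨rfl, ?_⟩; simp only [hA, hC] at hL; linarith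
  · have hg' : g = 13 / 256 := by linarith
    subst hg'; right; right; right; left
    refine ⟨rfl, ?_⟩; simp only [hA, hC] at hL; linarith
  · have hg' : g = 1 / 8 := by linarith
    subst hg'; right; left
    refine ⟨rfl, ?_⟩; simp only [hA, hC] at hL; linarith
  · left; exact h

theorem main (hV : IsMajoranaAmbient mul B) {μ₀ μ₁ : V ≃ₗ[ℝ] V} {a₀ a₁ : V}
    (h₀ : Ax mul B μ₀ a₀) (h₁ : Ax mul B μ₁ a₁) :
    a₁ = a₀ ∨ μ₁ a₀ = a₀ ∨ μ₁ (μ₀ a₁) = a₀ ∨ μ₀ (μ₁ a₀) = μ₁ a₀ ∨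
      μ₀ (μ₁ a₀) = μ₁ (μ₀ a₁) ∨ μ₀ (μ₁ (μ₀ a₁)) = μ₁ (μ₀ a₁) := by
  have hc := hV.1
  have hsy := hV.2.1
  have has := hV.2.2.2.1
  set b₁ := μ₀ a₁ with hb₁
  set a₂ := μ₁ a₀ with ha₂
  set b₂ := μ₀ a₂ with hb₂
  set a₃ := μ₁ b₁ with ha₃
  set g := B a₀ a₁ with hg
  set e := B a₀ a₂ with he
  set o := B a₁ b₁ with ho
  set σ := mul a₀ a₁ - (1 / 32 : ℝ) • (a₀ + a₁) with hσd
  set σe := mul a₀ a₂ - (1 / 32 : ℝ) • (a₀ + a₂) with hσed
  set σo := mul a₁ b₁ - (1 / 32 : ℝ) • (a₁ + b₁) with hσod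
  have hσ : mul a₀ a₁ = σ + (1 / 32 : ℝ) • (a₀ + a₁) := by rw [hσd]; abel
  have hσ' : mul a₁ a₀ = σ + (1 / 32 : ℝ) • (a₁ + a₀) := by rw [hc, hσ, add_comm a₀ a₁]
  have hσe : mul a₀ a₂ = σe + (1 / 32 : ℝ) • (a₀ + a₂) := by rw [hσed]; abel
  have hσo : mul a₁ b₁ = σo + (1 / 32 : ℝ) • (a₁ + b₁) := by rw [hσod]; abel
  have f0 := h₀.fix_self
  have f1 := h₁.fix_self
  have i02 : mul a₂ a₂ = a₂ := by rw [ha₂, ← h₁.map_mul, h₀.idem]
  have i1 : mul b₁ b₁ = b₁ := by rw [hb₁, ← h₀.map_mul, h₁.idem]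
  have i3 : mul a₃ a₃ = a₃ := by rw [ha₃, ← h₁.map_mul, i1]
  have n2 : B a₂ a₂ = 1 := by rw [ha₂, h₁.map_form, h₀.2]
  have n1 : B b₁ b₁ = 1 := by rw [hb₁, h₀.map_form, h₁.2]
  have n3 : B a₃ a₃ = 1 := by rw [ha₃, h₁.map_form, n1]
  have m0b1 : μ₀ b₁ = a₁ := by rw [hb₁, h₀.apply_apply]
  have m1a2 : μ₁ a₂ = a₀ := by rw [ha₂, h₁.apply_apply]
  have m0b2 : μ₀ b₂ = a₂ := by rw [hb₂, h₀.apply_apply]
  have m1a3 : μ₁ a₃ = b₁ := by rw [ha₃, h₁.apply_apply]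
  obtain ⟨p0m1, s_fix0, p0s, -, -, -⟩ :=
    axis_data hV h₀ h₁.idem h₁.2 hb₁.symm hg.symm ho.symm hσ rfl rfl
  obtain ⟨p0m2, se_fix0, p0se, -, -, -⟩ :=
    axis_data hV h₀ i02 n2 hb₂.symm he.symm rfl hσe rfl rfl
  obtain ⟨-, s_fix1, -, -, -, -⟩ :=
    axis_data hV h₁ h₀.idem h₀.2 ha₂.symm ((hsy _ _).trans hg.symm) he.symm hσ' rfl rfl
  obtain ⟨-, so_fix1, -, -, -, -⟩ :=
    axis_data hV h₁ i1 n1 ha₃.symm ho.symm rfl hσo rfl rfl
  have se_fix1 : μ₁ σe = σe := by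
    rw [hσed, map_sub, map_smul, map_add, h₁.map_mul, ← ha₂, m1a2, hc a₂ a₀, add_comm a₂ a₀]
  have so_fix0 : μ₀ σo = σo := by
    rw [hσod, map_sub, map_smul, map_add, h₀.map_mul, ← hb₁, m0b1, hc b₁ a₁, add_comm b₁ a₁]
  -- the form on the vectors
  have F0 := h₀.map_form
  have F1 := h₁.map_form
  have g01 : B a₀ b₁ = g := by rw [← F0, f0, m0b1]
  have g02 : B a₁ a₂ = g := by rw [← F1, f1, m1a2, hsy]
  have g03 : B b₁ b₂ = g := by rw [← F0, m0b1, m0b2, g02]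
  have g23 : B a₂ a₃ = g := by rw [← F1, m1a2, m1a3, g01]
  have e0 : B a₀ b₂ = e := by rw [← F0, f0, m0b2]
  have o1 : B a₁ a₃ = o := by rw [← F1, f1, m1a3]
  have l21 : B b₁ a₂ = B a₀ a₃ := by rw [← F1, m1a2, ← ha₃, hsy]
  have l12 : B a₁ b₂ = B a₀ a₃ := by rw [← F0, ← hb₁, m0b2, l21]
  have s0 : B a₀ σ = (31 * g - 1) / 32 := by
    rw [hσd, map_sub, map_smul, map_add, has, h₀.idem, h₀.2, smul_eq_mul, ← hg]; ring
  have s1 : B a₁ σ = (31 * g - 1) / 32 := by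
    rw [hσd, map_sub, map_smul, map_add, hc a₀ a₁, has, h₁.idem, h₁.2, smul_eq_mul, hsy a₁ a₀,
      ← hg]
    ring
  have sb1 : B b₁ σ = (31 * g - 1) / 32 := by rw [← F0, m0b1, s_fix0, s1]
  have s2 : B a₂ σ = (31 * g - 1) / 32 := by rw [← F1, m1a2, s_fix1, s0]
  have sb2 : B b₂ σ = (31 * g - 1) / 32 := by rw [← F0, m0b2, s_fix0, s2]
  have s3 : B a₃ σ = (31 * g - 1) / 32 := by rw [← F1, m1a3, s_fix1, sb1]
  have se0 : B a₀ σe = (31 * e - 1) / 32 := by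
    rw [hσed, map_sub, map_smul, map_add, has, h₀.idem, h₀.2, smul_eq_mul, ← he]; ring
  have se2 : B a₂ σe = (31 * e - 1) / 32 := by rw [← F1, m1a2, se_fix1, se0]
  have seb2 : B b₂ σe = (31 * e - 1) / 32 := by rw [← F0, m0b2, se_fix0, se2]
  have se1 : B a₁ σe = (31 * g - 1) / 32 + (g + e) / 32 - g / 16 := by
    rw [hσed, map_sub, map_smul, map_add, has, hσ', g02, hsy a₁ a₀, ← hg]
    simp only [map_add, map_smul, LinearMap.add_apply, LinearMap.smul_apply, smul_eq_mul,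
      hsy σ a₂, s2, g02, ← he]
    ring
  have seb1 : B b₁ σe = (31 * g - 1) / 32 + (g + e) / 32 - g / 16 := by
    rw [← F0, m0b1, se_fix0, se1]
  have se3 : B a₃ σe = (31 * g - 1) / 32 + (g + e) / 32 - g / 16 := by
    rw [← F1, m1a3, se_fix1, seb1]
  have so0 : B a₀ σo = (31 * g - 1) / 32 + (g + o) / 32 - g / 16 := by
    rw [hσod, map_sub, map_smul, map_add, has, hσ, g01, ← hg]
    simp only [map_add, map_smul, LinearMap.add_apply, LinearMap.smul_apply, smul_eq_mul,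
      hsy σ b₁, sb1, g01, ← ho]
    ring
  have so2 : B a₂ σo = (31 * g - 1) / 32 + (g + o) / 32 - g / 16 := by
    rw [← F1, m1a2, so_fix1, so0]
  have sob2 : B b₂ σo = (31 * g - 1) / 32 + (g + o) / 32 - g / 16 := by
    rw [← F0, m0b2, so_fix0, so2]
  have so1 : B a₁ σo = (31 * o - 1) / 32 := by
    rw [hσod, map_sub, map_smul, map_add, has, h₁.idem, h₁.2, smul_eq_mul, ← ho]; ring
  have sob1 : B b₁ σo = (31 * o - 1) / 32 := by rw [← F0, m0b1, so_fix0, so1]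
  have so3 : B a₃ σo = (31 * o - 1) / 32 := by rw [← F1, m1a3, so_fix1, sob1]
  -- the products
  obtain ⟨hAT, hZ⟩ := core hV h₀ h₁ hb₁.symm ha₂.symm hb₂.symm hg.symm he.symm ho.symm hσ hσe hσo
  obtain ⟨-, hZ'⟩ := core hV h₁ h₀ ha₂.symm hb₁.symm ha₃.symm ((hsy _ _).trans hg.symm) ho.symm
    he.symm hσ' hσo hσe
  have heo : e = o := by
    have h := congrArg (B a₀) hAT
    rw [has, h₀.idem, so0] at h
    simp only [map_add, map_smul, smul_eq_mul, h₀.2, s0, ← hg, g01, se0, ← he, e0] at h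
    ring_nf at h
    linarith
  have hR : a₃ = b₂ + (256 * g - 6) • (b₁ - a₂)
      + (32768 / 7 * g ^ 2 - 2304 / 7 * g + 128 / 7 * o + 33 / 7) • a₀
      - (32768 / 7 * g ^ 2 - 2304 / 7 * g + 128 / 7 * e + 33 / 7) • a₁
      + (32 : ℝ) • (σo - σe) := by
    linear_combination (norm := module) (-196608 / 49 : ℝ) • (hZ' - hZ)
  rw [← heo] at hR hAT so0 so2 sob2 so1 sob1 so3 o1
  have ho' : B a₁ b₁ = e := heo.symm
  -- the remaining values of the form
  have expand : ∀ x, B x a₃ = B x b₂ + (256 * g - 6) * (B x b₁ - B x a₂)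
      + (32768 / 7 * g ^ 2 - 2304 / 7 * g + 128 / 7 * e + 33 / 7) * (B x a₀ - B x a₁)
      + 32 * (B x σo - B x σe) := by
    intro x
    conv_lhs => rw [hR]
    simp only [map_add, map_sub, map_smul, smul_eq_mul]
    ring
  have hl3 : B a₀ a₃ = -32768 / 7 * g ^ 3 + 36864 / 7 * g ^ 2 - 1920 / 7 * g * e - 2169 / 7 * g
      - 33 / 7 * e + 33 / 7 := by
    rw [expand, e0, g01, ← he, h₀.2, ← hg, so0, se0]; ring
  have hl4 : B a₂ b₂ = 8388608 / 7 * g ^ 4 - 9601024 / 7 * g ^ 3 + 65536 * g ^ 2 * e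
      + 110592 * g ^ 2 - 640 / 7 * g * e - 19840 / 7 * g - 128 / 7 * e ^ 2 - 3 * e + 156 / 7 := by
    have h := expand a₂
    rw [g23, hsy a₂ b₁, l21, hl3, n2, hsy a₂ a₀, ← he, hsy a₂ a₁, g02, so2, se2] at h
    linear_combination -h
  have hl4' : B b₁ a₃ = 8388608 / 7 * g ^ 4 - 9601024 / 7 * g ^ 3 + 65536 * g ^ 2 * e
      + 110592 * g ^ 2 - 640 / 7 * g * e - 19840 / 7 * g - 128 / 7 * e ^ 2 - 3 * e + 156 / 7 := by
    rw [expand, g03, n1, l21, hl3, hsy b₁ a₀, g01, hsy b₁ a₁, ho', sob1, seb1]; ring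
  have hl5 : B b₂ a₃ = -13958643712 / 49 * g ^ 5 + 16273899520 / 49 * g ^ 4
      - 754974720 / 49 * g ^ 3 * e - 1633419264 / 49 * g ^ 3 + 12582912 / 49 * g ^ 2 * e
      + 8683520 / 7 * g ^ 2 + 475136 / 49 * g * e ^ 2 + 259584 / 49 * g * e - 137721 / 7 * g
      - 256 / 49 * e ^ 2 - 5256 / 49 * e + 5512 / 49 := by
    have nb : B b₂ b₂ = 1 := by rw [hb₂, h₀.map_form, n2]
    rw [expand, nb, hsy b₂ b₁, g03, hsy b₂ a₂, hl4, hsy b₂ a₀, e0, hsy b₂ a₁, l12, hl3, sob2, seb2]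
    ring
  -- the product of `a₀` and `a₃`
  have p03 : mul a₀ a₃ = (σe + (1 / 32 : ℝ) • (a₀ + b₂))
      + (256 * g - 6) • ((σ + (1 / 32 : ℝ) • (a₀ + b₁)) - (σe + (1 / 32 : ℝ) • (a₀ + a₂)))
      + (32768 / 7 * g ^ 2 - 2304 / 7 * g + 128 / 7 * e + 33 / 7) • a₀
      - (32768 / 7 * g ^ 2 - 2304 / 7 * g + 128 / 7 * e + 33 / 7) •
          (σ + (1 / 32 : ℝ) • (a₀ + a₁))
      + (32 : ℝ) • (((-32 / 3 * g ^ 2 + 5 / 3 * g - 1 / 24 * e - 127 / 3072) • a₀
          + (32 / 3 * g - 19 / 48) • σ + (1 / 6 * g - 19 / 3072) • (a₁ + b₁)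
          + (7 / 96 : ℝ) • σe + (7 / 6144 : ℝ) • (a₂ + b₂))
        - (((31 * e - 1) / 32) • a₀ + (7 / 128 : ℝ) • ((4 : ℝ) • σe + (1 / 8 - 4 * e) • a₀
            + (1 / 16 : ℝ) • (a₂ + b₂)))) := by
    rw [hR]
    simp only [map_add, map_sub, map_smul, h₀.idem, hσ, hσe, p0m1, p0m2, hAT, p0se]
  have hQ : 2097152 * g ^ 4 - 2326528 * g ^ 3 + 40960 * g ^ 2 * e + 184320 * g ^ 2 + 8896 * g * e
      - 4800 * g + 128 * e ^ 2 - 167 * e + 39 = 0 := by
    have h : B (mul a₀ a₃) a₂ = B a₃ σe + (B a₀ a₃ + g) / 32 := by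
      rw [hc a₀ a₃, ← has, hσe, map_add, map_smul, map_add, smul_eq_mul, hsy a₃ a₀, hsy a₃ a₂, g23]
      ring
    rw [p03, se3, hl3] at h
    simp only [map_add, map_sub, map_smul, LinearMap.add_apply, LinearMap.sub_apply,
      LinearMap.smul_apply, smul_eq_mul, hsy σe a₂, se2, ← he, n2, hsy b₂ a₂, hl4, l21, hl3,
      hsy σ a₂, s2, g02] at h
    linear_combination (-56 / 3 : ℝ) * h
  have hP : 536870912 * g ^ 5 - 605028352 * g ^ 4 + 26214400 * g ^ 3 * e + 44138496 * g ^ 3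
      - 1593344 * g ^ 2 * e - 860160 * g ^ 2 + 94208 * g * e ^ 2 + 165856 * g * e - 2016 * g
      + 2784 * e ^ 2 - 2901 * e + 117 = 0 := by
    have h : B (mul a₀ a₃) a₃ = B a₀ a₃ := by rw [← has, i3]
    rw [p03, hl3] at h
    simp only [map_add, map_sub, map_smul, LinearMap.add_apply, LinearMap.sub_apply,
      LinearMap.smul_apply, smul_eq_mul, hsy σe a₃, se3, hsy σ a₃, s3, hl3, g23, hl4', hl5, o1] at h
    linear_combination (196 / 3 : ℝ) * h
  rcases fixed_values hQ hP with h | ⟨hgv, hev⟩ | ⟨hgv, hev⟩ | ⟨hgv, hev⟩ | ⟨hgv, hev⟩ |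
    ⟨hgv, hev⟩ | ⟨hgv, hev⟩ | ⟨hgv, hev⟩ | ⟨hgv, hev⟩
  · exact Or.inl (eq_of_form hV h₁.2 h₀.2 (by rw [hsy, ← hg, h]))
  · exact Or.inr (Or.inl (eq_of_form hV n2 h₀.2 (by rw [hsy, ← he, hev])))
  · exact Or.inr (Or.inl (eq_of_form hV n2 h₀.2 (by rw [hsy, ← he, hev])))
  · exact Or.inr (Or.inr (Or.inl (eq_of_form hV n3 h₀.2
      (by rw [hsy, hl3, hgv, hev]; norm_num))))
  · exact Or.inr (Or.inr (Or.inl (eq_of_form hV n3 h₀.2
      (by rw [hsy, hl3, hgv, hev]; norm_num))))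
  · exact Or.inr (Or.inr (Or.inr (Or.inl (eq_of_form hV (by rw [hb₂, h₀.map_form, n2]) n2
      (by rw [hsy, hl4, hgv, hev]; norm_num)))))
  · exact Or.inr (Or.inr (Or.inr (Or.inl (eq_of_form hV (by rw [hb₂, h₀.map_form, n2]) n2
      (by rw [hsy, hl4, hgv, hev]; norm_num)))))
  · exact Or.inr (Or.inr (Or.inr (Or.inr (Or.inl (eq_of_form hV
      (by rw [hb₂, h₀.map_form, n2]) n3 (by rw [hl5, hgv, hev]; norm_num))))))
  · refine Or.inr (Or.inr (Or.inr (Or.inr (Or.inr (eq_of_form hV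
      (by rw [h₀.map_form, n3]) n3 ?_)))))
    have h6 : μ₀ a₃ = a₂ + (256 * g - 6) • (a₁ - b₂)
        + (32768 / 7 * g ^ 2 - 2304 / 7 * g + 128 / 7 * e + 33 / 7) • a₀
        - (32768 / 7 * g ^ 2 - 2304 / 7 * g + 128 / 7 * e + 33 / 7) • b₁
        + (32 : ℝ) • (σo - σe) := by
      rw [hR]
      simp only [map_add, map_sub, map_smul, m0b1, m0b2, f0, ← hb₁, ← hb₂, so_fix0, se_fix0]
    rw [h6]
    simp only [map_add, map_sub, map_smul, LinearMap.add_apply, LinearMap.sub_apply,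
      LinearMap.smul_apply, smul_eq_mul, g23, o1, hl5, hl3, hl4', hsy σo a₃, so3, hsy σe a₃, se3,
      hgv, hev]
    norm_num

/-- Let V be a finite-dimensional real vector space with a commutative bilinear product and a positive-definite symmetric bilinear form that associates with the product and satisfies the Norton inequality (the Majorana setting of the definitions). Let μ₀ and μ₁ be Majorana involutions with axial vectors a₀ and a₁ of squared length 1, each involution having no other axial vector. Then the product μ₀μ₁ has order at most 6: some power (μ₀μ₁)^n with 1 ≤ n ≤ 6 is the identity (so the two involutions generate a dihedral group of order at most 12). This is the 6-transposition property of Majorana involutions. -/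
theorem result {V : Type*} [AddCommGroup V] [Module ℝ V] [FiniteDimensional ℝ V] (mul : V →ₗ[ℝ] V →ₗ[ℝ] V) (B : LinearMap.BilinForm ℝ V) (hV : Cfsg.Axial.IsMajoranaAmbient mul B) (μ₀ μ₁ : V ≃ₗ[ℝ] V) (a₀ a₁ : V) (h₀ : Cfsg.Axial.IsMajoranaPair mul B μ₀ a₀) (h₁ : Cfsg.Axial.IsMajoranaPair mul B μ₁ a₁) (hu₀ : ∀ a : V, Cfsg.Axial.IsMajoranaPair mul B μ₀ a → a = a₀) (hu₁ : ∀ a : V, Cfsg.Axial.IsMajoranaPair mul B μ₁ a → a = a₁) (hn₀ : B a₀ a₀ = 1) (hn₁ : B a₁ a₁ = 1) : ∃ n : ℕ, 1 ≤ n ∧ n ≤ 6 ∧ (μ₀ * μ₁) ^ n = 1 := by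
  have A₀ : Ax mul B μ₀ a₀ := ⟨h₀, hn₀⟩
  have A₁ : Ax mul B μ₁ a₁ := ⟨h₁, hn₁⟩
  have s₀ := A₀.mul_self
  have s₁ := A₁.mul_self
  have r₀ : ∀ x : V ≃ₗ[ℝ] V, μ₀ * (μ₀ * x) = x := fun x => by rw [← mul_assoc, s₀, one_mul]
  have r₁ : ∀ x : V ≃ₗ[ℝ] V, μ₁ * (μ₁ * x) = x := fun x => by rw [← mul_assoc, s₁, one_mul]
  rcases main hV A₀ A₁ with h | h | h | h | h | h
  · have e : μ₀ = μ₁ := by
      have := A₁.conj A₀ (f := (1 : V ≃ₗ[ℝ] V)) (fun u v => rfl) h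
      simpa using this.symm
    exact ⟨1, le_rfl, by norm_num, by rw [pow_one, e, s₁]⟩
  · have e := A₀.conj A₀ A₁.map_mul h
    refine ⟨2, by norm_num, by norm_num, ?_⟩
    rw [pow_two, mul_assoc, ← mul_assoc μ₁ μ₀, e, mul_assoc, s₁, mul_one, s₀]
  · have e := A₁.conj A₀ (f := μ₁ * μ₀)
      (fun u v => by simp only [LinearEquiv.mul_apply, A₀.map_mul, A₁.map_mul]) h
    refine ⟨3, by norm_num, by norm_num, ?_⟩
    simp only [pow_succ, pow_zero, one_mul, mul_assoc] at e ⊢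
    rw [e]
    simp only [r₁, r₀, s₁, s₀, mul_one]
  · have e := A₀.conj A₀ (f := μ₁ * μ₀ * μ₁)
      (fun u v => by simp only [LinearEquiv.mul_apply, A₀.map_mul, A₁.map_mul])
      (by simp only [LinearEquiv.mul_apply]; rw [h, A₁.apply_apply])
    refine ⟨4, by norm_num, by norm_num, ?_⟩
    simp only [pow_succ, pow_zero, one_mul, mul_assoc] at e ⊢
    rw [← e]
    simp only [r₁, r₀, s₁, s₀, mul_one]
  · have e := A₀.conj A₁ (f := μ₀ * (μ₁ * (μ₀ * μ₁)))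
      (fun u v => by simp only [LinearEquiv.mul_apply, A₀.map_mul, A₁.map_mul])
      (by simp only [LinearEquiv.mul_apply]; rw [h, A₁.apply_apply, A₀.apply_apply])
    refine ⟨5, by norm_num, by norm_num, ?_⟩
    simp only [pow_succ, pow_zero, one_mul, mul_assoc] at e ⊢
    rw [← e]
    simp only [r₁, r₀, s₁, s₀, mul_one]
  · have e := A₁.conj A₁ (f := μ₀ * (μ₁ * (μ₀ * (μ₁ * μ₀))))
      (fun u v => by simp only [LinearEquiv.mul_apply, A₀.map_mul, A₁.map_mul])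
      (by simp only [LinearEquiv.mul_apply]; rw [h, A₁.apply_apply, A₀.apply_apply])
    refine ⟨6, by norm_num, by norm_num, ?_⟩
    simp only [pow_succ, pow_zero, one_mul, mul_assoc] at e ⊢
    rw [e]
    simp only [r₁, r₀, s₁, s₀, mul_one]

end Cfsg.Agent.S5544
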