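import Cfsg.Statements.S5545
-- import your own Cfsg.Agent.* helpers here

set_option autoImplicit false
open Cfsg

namespace Cfsg.Agent.S5545


open Cfsg.Axial in
/-- Facts about one Majorana axis `a` and a vector decomposed as `g • a + z + q`. -/
theorem fusion {V : Type*} [AddCommGroup V] [Module ℝ V] {mul : V →ₗ[ℝ] V →ₗ[ℝ] V}
    {B : LinearMap.BilinForm ℝ V} (hV : IsMajoranaAmbient mul B) {μ : V ≃ₗ[ℝ] V} {a : V}
    (h : IsMajoranaPair mul B μ a) (hn : B a a = 1) {z q : V} (hz : mul a z = 0)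
    (hq : mul a q = (1 / 4 : ℝ) • q) :
    mul a (mul z z) = 0 ∧ mul a (mul z q) = (1 / 4 : ℝ) • mul z q ∧
      ∃ d : V, mul a d = 0 ∧ mul q q = ((1 / 4 : ℝ) * B q q) • a + d := by
  obtain ⟨hcomm, hBs, hBpos, hassoc, -⟩ := hV
  have fus := h.2.2.1.1.2.2.2
  have hz' : z ∈ eigen mul a 0 := Module.End.mem_eigenspace_iff.mpr (by rw [hz, zero_smul])
  have hq' : q ∈ eigen mul a (1 / 4) := Module.End.mem_eigenspace_iff.mpr hq
  have l00 : monsterLaw (1 / 4 : ℝ) (1 / 32) 0 0 = {0} := by unfold monsterLaw; norm_num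
  have l0q : monsterLaw (1 / 4 : ℝ) (1 / 32) 0 (1 / 4) = {1 / 4} := by unfold monsterLaw; norm_num
  have lqq : monsterLaw (1 / 4 : ℝ) (1 / 32) (1 / 4) (1 / 4) = {1, 0} := by
    unfold monsterLaw; norm_num
  refine ⟨?_, ?_, ?_⟩
  · have := fus 0 (by simp [majoranaSpectrum]) 0 (by simp [majoranaSpectrum]) z hz' z hz'
    rw [l00, eigenSum, iSup_singleton, eigen, Module.End.mem_eigenspace_iff, zero_smul] at this
    exact this
  · have := fus 0 (by simp [majoranaSpectrum]) (1 / 4) (by simp [majoranaSpectrum]) z hz' q hq'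
    rw [l0q, eigenSum, iSup_singleton, eigen, Module.End.mem_eigenspace_iff] at this
    exact this
  · have := fus (1 / 4) (by simp [majoranaSpectrum]) (1 / 4) (by simp [majoranaSpectrum]) q hq' q hq'
    rw [lqq, eigenSum, iSup_pair, Submodule.mem_sup] at this
    obtain ⟨p, hp, d, hd, hpd⟩ := this
    rw [h.2.2.1.2, Submodule.mem_span_singleton] at hp
    obtain ⟨c, rfl⟩ := hp
    rw [eigen, Module.End.mem_eigenspace_iff, zero_smul] at hd
    refine ⟨d, hd, ?_⟩
    have hBd : B a d = 0 := by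
      rw [← h.2.2.1.1.2.1, ← hassoc, hd, map_zero]
    have hc : (1 / 4 : ℝ) * B q q = c := by
      have e : B a (mul q q) = c := by
        rw [← hpd, map_add, map_smul, hn, hBd, smul_eq_mul, mul_one, add_zero]
      rw [← e, hassoc, hq, map_smul, LinearMap.smul_apply, smul_eq_mul]
    rw [hc, hpd]

open Cfsg.Axial in
/-- A vector fixed by the involution has no `1/32` component. -/
theorem decompose {V : Type*} [AddCommGroup V] [Module ℝ V] {mul : V →ₗ[ℝ] V →ₗ[ℝ] V}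
    {B : LinearMap.BilinForm ℝ V} {μ : V ≃ₗ[ℝ] V} {a : V} (h : IsMajoranaPair mul B μ a)
    {b : V} (hb : μ b = b) :
    ∃ (g : ℝ) (z q : V), mul a z = 0 ∧ mul a q = (1 / 4 : ℝ) • q ∧ b = g • a + z + q := by
  have htop : b ∈ eigenSum mul a majoranaSpectrum := by rw [h.2.2.1.1.2.2.1]; trivial
  rw [majoranaSpectrum, eigenSum, iSup_insert, iSup_insert, iSup_pair] at htop
  simp only [Submodule.mem_sup] at htop
  obtain ⟨p, hp, r, ⟨z, hz, s, ⟨q, hq, w, hw, rfl⟩, rfl⟩, rfl⟩ := htop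
  have mem : ∀ (c : ℝ) (v : V), c ∈ ({1, 0, 1 / 4} : Set ℝ) → v ∈ eigen mul a c → μ v = v :=
    fun c v hc hv => h.2.2.2.1 v (Submodule.mem_iSup_of_mem c (Submodule.mem_iSup_of_mem hc hv))
  have h1 := mem 1 p (by simp) hp
  have h2 := mem 0 z (by simp) hz
  have h3 := mem (1 / 4) q (by simp) hq
  have h4 : μ w = -w := h.2.2.2.2 w hw
  rw [map_add, map_add, map_add, h1, h2, h3, h4] at hb
  have hw0 : w = 0 := by
    have : (2 : ℝ) • w = 0 := by linear_combination (norm := module) -hb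
    exact (smul_eq_zero.mp this).resolve_left (by norm_num)
  rw [h.2.2.1.2, Submodule.mem_span_singleton] at hp
  obtain ⟨g, rfl⟩ := hp
  refine ⟨g, z, q, ?_, ?_, ?_⟩
  · rw [eigen, Module.End.mem_eigenspace_iff] at hz; rw [hz, zero_smul]
  · rwa [eigen, Module.End.mem_eigenspace_iff] at hq
  · rw [hw0]; abel

open Cfsg.Axial in
theorem fixed {V : Type*} [AddCommGroup V] [Module ℝ V] {mul : V →ₗ[ℝ] V →ₗ[ℝ] V}
    {B : LinearMap.BilinForm ℝ V} {μ₀ μ₁ : V ≃ₗ[ℝ] V} {a₀ a₁ : V}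
    (h₀ : IsMajoranaPair mul B μ₀ a₀) (h₁ : IsMajoranaPair mul B μ₁ a₁)
    (hu₁ : ∀ a : V, IsMajoranaPair mul B μ₁ a → a = a₁)
    (hc : μ₀ * μ₁ = μ₁ * μ₀) : μ₀ a₁ = a₁ := by
  apply hu₁
  have hm : ∀ u v, μ₀ (mul u v) = mul (μ₀ u) (μ₀ v) := h₀.1
  have he : ∀ (c : ℝ) (v : V), v ∈ eigen mul (μ₀ a₁) c ↔ μ₀.symm v ∈ eigen mul a₁ c := by
    intro c v
    simp only [eigen, Module.End.mem_eigenspace_iff]
    conv_rhs => rw [← μ₀.injective.eq_iff, hm, map_smul, LinearEquiv.apply_symm_apply]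
  have hs : ∀ S : Set ℝ, eigenSum mul (μ₀ a₁) S = (eigenSum mul a₁ S).map μ₀.toLinearMap := by
    intro S
    simp only [eigenSum, Submodule.map_iSup]
    refine iSup_congr fun c => iSup_congr fun _ => ?_
    ext v
    rw [Submodule.mem_map_equiv, he]
  have hc' : ∀ v, μ₁ (μ₀ v) = μ₀ (μ₁ v) := fun v => by
    have := congrArg (fun f : V ≃ₗ[ℝ] V => f v) hc
    simpa using this.symm
  refine ⟨h₁.1, h₁.2.1, ⟨⟨?_, ?_, ?_, ?_⟩, ?_⟩, ?_, ?_⟩
  · simpa using h₁.2.2.1.1.1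
  · rw [← hm, h₁.2.2.1.1.2.1]
  · rw [hs, h₁.2.2.1.1.2.2.1, Submodule.map_top, LinearEquiv.range]
  · intro c hc d hd u hu v hv
    rw [hs, Submodule.mem_map_equiv]
    have := h₁.2.2.1.1.2.2.2 c hc d hd _ ((he c u).mp hu) _ ((he d v).mp hv)
    convert this using 1
    apply μ₀.injective
    simp [hm]
  · ext v
    rw [he, h₁.2.2.1.2, Submodule.mem_span_singleton, Submodule.mem_span_singleton]
    exact exists_congr fun r => by rw [← μ₀.injective.eq_iff, map_smul, LinearEquiv.apply_symm_apply]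
  · intro v hv
    rw [hs, Submodule.mem_map_equiv] at hv
    have := h₁.2.2.2.1 _ hv
    have e := hc' (μ₀.symm v)
    rw [LinearEquiv.apply_symm_apply] at e
    simp only [LinearEquiv.coe_coe] at this ⊢
    rw [e, this, LinearEquiv.apply_symm_apply]
  · intro v hv
    rw [he] at hv
    have := h₁.2.2.2.2 _ hv
    have e := hc' (μ₀.symm v)
    rw [LinearEquiv.apply_symm_apply] at e
    simp only [LinearEquiv.coe_coe] at this ⊢
    rw [e, this, map_neg, LinearEquiv.apply_symm_apply]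

/-- Let V be a finite-dimensional real vector space with a commutative bilinear product and a positive-definite symmetric bilinear form that associates with the product and satisfies the Norton inequality (the Majorana setting of the definitions). Let μ₀, μ₁ be commuting Majorana involutions with distinct axial vectors a₀ ≠ a₁ of squared length 1, each involution having no other axial vector. Then either a₀ and a₁ are orthogonal with a₀ ∘ a₁ = 0 (type 2B), or their inner product is 1/8 and, with a₂ = a₀ + a₁ − 8 a₀ ∘ a₁, the vector a₂ is an idempotent and a₀ ∘ a₂ = (1/8)(a₀ + a₂ − a₁), a₁ ∘ a₂ = (1/8)(a₁ + a₂ − a₀) (type 2A: the three idempotents span a subalgebra with aᵢ ∘ aⱼ = (1/8)(aᵢ + aⱼ − aₖ)). -/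
theorem result {V : Type*} [AddCommGroup V] [Module ℝ V] [FiniteDimensional ℝ V] (mul : V →ₗ[ℝ] V →ₗ[ℝ] V) (B : LinearMap.BilinForm ℝ V) (hV : Cfsg.Axial.IsMajoranaAmbient mul B) (μ₀ μ₁ : V ≃ₗ[ℝ] V) (a₀ a₁ : V) (h₀ : Cfsg.Axial.IsMajoranaPair mul B μ₀ a₀) (h₁ : Cfsg.Axial.IsMajoranaPair mul B μ₁ a₁) (hu₀ : ∀ a : V, Cfsg.Axial.IsMajoranaPair mul B μ₀ a → a = a₀) (hu₁ : ∀ a : V, Cfsg.Axial.IsMajoranaPair mul B μ₁ a → a = a₁) (hn₀ : B a₀ a₀ = 1) (hn₁ : B a₁ a₁ = 1) (hc : μ₀ * μ₁ = μ₁ * μ₀) (hne : a₀ ≠ a₁) : (B a₀ a₁ = 0 ∧ mul a₀ a₁ = 0) ∨ (B a₀ a₁ = 1 / 8 ∧ mul (a₀ + a₁ - (8 : ℝ) • mul a₀ a₁) (a₀ + a₁ - (8 : ℝ) • mul a₀ a₁) = a₀ + a₁ - (8 : ℝ) • mul a₀ a₁ ∧ mul a₀ (a₀ + a₁ - (8 : ℝ) • mul a₀ a₁) = (1 / 8 : ℝ) • (a₀ + (a₀ + a₁ - (8 : ℝ) • mul a₀ a₁) - a₁) ∧ mul a₁ (a₀ + a₁ - (8 : ℝ) • mul a₀ a₁) = (1 / 8 : ℝ) • (a₁ + (a₀ + a₁ - (8 : ℝ) • mul a₀ a₁) - a₀)) := by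
  have hfix₁ : μ₀ a₁ = a₁ := fixed h₀ h₁ hu₁ hc
  have hfix₀ : μ₁ a₀ = a₀ := fixed h₁ h₀ hu₀ hc.symm
  obtain ⟨g, z, q, hz, hq, hb⟩ := decompose h₀ hfix₁
  obtain ⟨g', z', q', hz', hq', ha⟩ := decompose h₁ hfix₀
  obtain ⟨hzz, hzq, d, hd, hqq⟩ := fusion hV h₀ hn₀ hz hq
  obtain ⟨hcomm, hBs, hBpos, hassoc, -⟩ := hV
  have id₀ : mul a₀ a₀ = a₀ := h₀.2.2.1.1.2.1
  have id₁ : mul a₁ a₁ = a₁ := h₁.2.2.1.1.2.1
  have orth0 : ∀ (μ : V ≃ₗ[ℝ] V) (a v : V), Cfsg.Axial.IsMajoranaPair mul B μ a → mul a v = 0 →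
      B a v = 0 := fun μ a v h hv => by rw [← h.2.2.1.1.2.1, ← hassoc, hv, map_zero]
  have orth4 : ∀ (μ : V ≃ₗ[ℝ] V) (a v : V), Cfsg.Axial.IsMajoranaPair mul B μ a →
      mul a v = (1 / 4 : ℝ) • v → B a v = 0 := fun μ a v h hv => by
    have e : B a v = (1 / 4 : ℝ) * B a v := by
      conv_lhs => rw [← h.2.2.1.1.2.1, ← hassoc, hv, map_smul, smul_eq_mul]
    linarith
  have hg : B a₀ a₁ = g := by
    rw [hb, map_add, map_add, map_smul, hn₀, orth0 _ _ _ h₀ hz, orth4 _ _ _ h₀ hq,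
      smul_eq_mul, mul_one, add_zero, add_zero]
  have hgg' : g' = g := by
    rw [← hg, hBs, ha, map_add, map_add, map_smul, hn₁, orth0 _ _ _ h₁ hz', orth4 _ _ _ h₁ hq',
      smul_eq_mul, mul_one, add_zero, add_zero]
  -- the projections attached to `a₀`
  have sep : ∀ (c : ℝ) (u v : V), mul a₀ u = 0 → mul a₀ v = (1 / 4 : ℝ) • v →
      c • a₀ + u + v = 0 → c = 0 ∧ u = 0 ∧ v = 0 := by
    intro c u v hu hv h
    have e0 : c = 0 := by
      have := congrArg (B a₀) h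
      rw [map_add, map_add, map_smul, hn₀, orth0 _ _ _ h₀ hu, orth4 _ _ _ h₀ hv, map_zero,
        smul_eq_mul, mul_one, add_zero, add_zero] at this
      exact this
    subst e0
    have e := congrArg (mul a₀) h
    rw [map_add, map_add, map_smul, hu, hv, map_zero, zero_smul, zero_add, zero_add,
      smul_eq_zero] at e
    have ev : v = 0 := e.resolve_left (by norm_num)
    subst ev
    simpa using h
  -- the square of `a₁`
  have hsq : mul a₁ a₁ = (g ^ 2 + (1 / 4) * B q q) • a₀ + (mul z z + d) +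
      ((g / 2) • q + (2 : ℝ) • mul z q) := by
    rw [hb]
    simp only [map_add, map_smul, LinearMap.add_apply, LinearMap.smul_apply, hcomm z a₀,
      hcomm q a₀, hcomm q z, id₀, hz, hq, hqq]
    module
  obtain ⟨s1, s2, s3⟩ := sep (g ^ 2 + (1 / 4) * B q q - g) (mul z z + d - z)
    ((g / 2) • q + (2 : ℝ) • mul z q - q)
    (by rw [map_sub, map_add, hzz, hd, hz]; simp)
    (by rw [map_sub, map_add, map_smul, map_smul, hzq, hq]; module)
    (by rw [id₁] at hsq; linear_combination (norm := module) -hsq + hb)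
  -- `a₁ ∘ (a₁ ∘ a₀)` in two ways
  have h01 : mul a₀ a₁ = g • a₀ + (1 / 4 : ℝ) • q := by
    rw [hb, map_add, map_add, map_smul, id₀, hz, hq, add_zero]
  have h10 : mul a₁ a₀ = g • a₁ + (1 / 4 : ℝ) • q' := by
    rw [ha, map_add, map_add, map_smul, id₁, hz', hq', add_zero, hgg']
  have two : mul a₁ (mul a₁ a₀) = (3 * g / 4) • a₁ + (1 / 4 : ℝ) • mul a₁ a₀ := by
    rw [h10, map_add, map_smul, map_smul, id₁, hq']
    module
  have lhs : mul a₁ (g • a₀ + (1 / 4 : ℝ) • q) = (g ^ 2 + B q q / 16) • a₀ + (1 / 4 : ℝ) • d +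
      ((5 * g / 16) • q + (1 / 4 : ℝ) • mul z q) := by
    rw [map_add, map_smul, map_smul, hcomm a₁ a₀, h01, hb]
    simp only [map_add, map_smul, LinearMap.add_apply, LinearMap.smul_apply, hq, hqq]
    module
  have two0 := two
  rw [hcomm a₁ a₀, h01] at two
  rw [lhs, hb] at two
  obtain ⟨t1, t2, t3⟩ := sep (g ^ 2 + B q q / 16 - 3 * g / 4 * g - g / 4)
    ((1 / 4 : ℝ) • d - (3 * g / 4) • z)
    ((5 * g / 16) • q + (1 / 4 : ℝ) • mul z q - (3 * g / 4) • q - (1 / 16 : ℝ) • q)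
    (by rw [map_sub, map_smul, map_smul, hd, hz]; simp)
    (by rw [map_sub, map_sub, map_add]; simp only [map_smul, hzq, hq]; module)
    (by linear_combination (norm := module) two)
  have zq_eq : mul z q = (1 / 2 - g / 4) • q := by
    linear_combination (norm := module) (1 / 2 : ℝ) • s3
  rw [zq_eq] at t3
  have key : ((1 - 8 * g) / 16) • q = 0 := by
    linear_combination (norm := module) t3
  rcases smul_eq_zero.mp key with hg8 | hq0
  · right
    have hgv : g = 1 / 8 := by linarith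
    subst hgv
    have hN : B q q = 7 / 16 := by linarith
    have hzz' : mul z z = z - d := by linear_combination (norm := module) s2
    set w := (a₀ + a₁ - (8 : ℝ) • mul a₀ a₁) with hw
    have hwdef : w = (1 / 8 : ℝ) • a₀ + z - q := by
      rw [hw, h01]; linear_combination (norm := module) hb
    refine ⟨hg, ?_, ?_, ?_⟩
    · rw [hwdef]
      simp only [map_add, map_sub, map_smul, LinearMap.add_apply, LinearMap.sub_apply,
        LinearMap.smul_apply, hcomm z a₀, hcomm q a₀, hcomm q z, id₀, hz, hq, hqq, zq_eq, hN, hzz']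
      module
    · rw [hwdef, map_sub, map_add, map_smul, id₀, hz, hq, hb]
      module
    · rw [hw, map_sub, map_add, map_smul, id₁, hcomm a₀ a₁, two0]
      module
  · left
    subst hq0
    have hg2 : g * (g - 1) = 0 := by
      simp only [map_zero, mul_zero, add_zero] at s1
      linarith
    rcases mul_eq_zero.mp hg2 with h | h
    · subst h
      exact ⟨hg, by rw [h01]; simp⟩
    · exfalso
      have hg1 : g = 1 := by linarith
      subst hg1
      have hbz : B z z = 0 := by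
        have := hn₁
        rw [hb] at this
        simp only [map_add, map_smul, LinearMap.add_apply, LinearMap.smul_apply, hn₀, add_zero,
          hBs z a₀, orth0 _ _ _ h₀ hz, smul_eq_mul, one_smul, mul_one, zero_add] at this
        linarith
      have hz0 : z = 0 := by
        by_contra hne'
        exact (hBpos z hne').ne' hbz
      exact hne (by rw [hb, hz0]; simp)

end Cfsg.Agent.S5545
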