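import Mathlib
import Cfsg.Statements.S5546
-- import your own Cfsg.Agent.* helpers here

set_option autoImplicit false
open Cfsg

namespace Cfsg.Agent.S5546


theorem eight_mem (y : Cfsg.GolayPt → ℤ) : (fun i => 8 * y i) ∈ Cfsg.leechLattice := by
  refine AddSubgroup.subset_closure (Cfsg.Spor.mem_leechSet_of_const_mod_four _ 0 0 rfl
    (fun i => ?_) ?_)
  · exact Int.modEq_zero_iff_dvd.mpr (Dvd.dvd.mul_right (by norm_num) _)
  · exact Int.modEq_zero_iff_dvd.mpr (Finset.dvd_sum fun i _ => dvd_mul_right _ _)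

theorem parity {y : Cfsg.GolayPt → ℤ} (hy : y ∈ Cfsg.leechLattice) (i j : Cfsg.GolayPt) :
    y i ≡ y j [ZMOD 2] := by
  induction hy using AddSubgroup.closure_induction with
  | mem x hx =>
    obtain ⟨m, hm, -⟩ := hx
    exact (hm i).trans (hm j).symm
  | zero => rfl
  | add x y _ _ hx hy => exact hx.add hy
  | neg x _ hx => exact hx.neg

/-- A lattice vector of squared length at most one is zero. -/
theorem small {y : Cfsg.GolayPt → ℤ} (hy : y ∈ Cfsg.leechLattice) (h : Cfsg.sqNorm y ≤ 1) :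
    y = 0 := by
  funext i
  by_contra hi
  have hi' : (1 : ℤ) ≤ y i ^ 2 := by
    have : y i ^ 2 ≠ 0 := pow_ne_zero 2 hi
    have := sq_nonneg (y i)
    omega
  obtain ⟨j, hij⟩ : ∃ j : Cfsg.GolayPt, j ≠ i := exists_ne i
  have hle : y i ^ 2 + y j ^ 2 ≤ Cfsg.sqNorm y := by
    rw [Cfsg.sqNorm, ← Finset.sum_pair (Ne.symm hij) (f := fun k => y k ^ 2)]
    exact Finset.sum_le_sum_of_subset_of_nonneg (Finset.subset_univ _) fun k _ _ => sq_nonneg _
  have hj : y j = 0 := by
    by_contra hj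
    have : y j ^ 2 ≠ 0 := pow_ne_zero 2 hj
    have := sq_nonneg (y j)
    omega
  have hp := parity hy i j
  rw [hj] at hp
  obtain ⟨c, hc⟩ := Int.modEq_zero_iff_dvd.mp hp
  have hc0 : c ≠ 0 := by rintro rfl; simp at hc; exact hi hc
  have hc1 : (1 : ℤ) ≤ c ^ 2 := by
    have : c ^ 2 ≠ 0 := pow_ne_zero 2 hc0
    have := sq_nonneg c
    omega
  rw [hj, hc] at hle
  nlinarith

/-- Reduction of a lattice vector modulo 13. -/
def red : ↥Cfsg.leechLattice →+ (Cfsg.GolayPt → ZMod 13) where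
  toFun v i := ((v : Cfsg.GolayPt → ℤ) i : ZMod 13)
  map_zero' := by funext i; simp
  map_add' := by intros; funext i; simp

/-- A lift to the lattice of a vector modulo 13. -/
def lift (x : Cfsg.GolayPt → ZMod 13) : ↥Cfsg.leechLattice :=
  ⟨fun i => 8 * (5 * ((x i).val : ℤ)), eight_mem _⟩

theorem red_lift (x : Cfsg.GolayPt → ZMod 13) : red (lift x) = x := by
  funext i
  show (((8 * (5 * ((x i).val : ℤ)) : ℤ)) : ZMod 13) = x i
  push_cast
  rw [← mul_assoc, ZMod.natCast_zmod_val]
  rw [show (8 * 5 : ZMod 13) = 1 from rfl, one_mul]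

theorem red_eq_zero {v : ↥Cfsg.leechLattice} (h : red v = 0) :
    ∃ y : ↥Cfsg.leechLattice, v = (13 : ℕ) • y := by
  have hd : ∀ i, ∃ y : ℤ, (v : Cfsg.GolayPt → ℤ) i = 13 * y := fun i => by
    have := congrFun h i
    exact (ZMod.intCast_zmod_eq_zero_iff_dvd _ 13).mp this
  choose y hy using hd
  have hmem : y ∈ Cfsg.leechLattice := by
    have e : y = (5 : ℕ) • (v : Cfsg.GolayPt → ℤ) - (fun i => 8 * (8 * y i)) := by
      funext i
      rw [Pi.sub_apply, Pi.smul_apply, hy i, nsmul_eq_mul]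
      push_cast
      ring
    rw [e]
    exact Cfsg.leechLattice.sub_mem (Cfsg.leechLattice.nsmul_mem v.2 5) (eight_mem _)
  refine ⟨⟨y, hmem⟩, Subtype.ext (funext fun i => ?_)⟩
  simp only [AddSubgroupClass.coe_nsmul, Pi.smul_apply, nsmul_eq_mul, hy i]
  push_cast
  rfl

/-- An element of the automorphism group as an additive endomorphism. -/
def ahom (g : ↥Cfsg.Co0) : ↥Cfsg.leechLattice →+ ↥Cfsg.leechLattice :=
  AddMonoidHom.mk' (fun v => (g : Equiv.Perm ↥Cfsg.leechLattice) v) g.2.1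

theorem red_congr (g : ↥Cfsg.Co0) {v w : ↥Cfsg.leechLattice} (h : red v = red w) :
    red (ahom g v) = red (ahom g w) := by
  obtain ⟨y, hy⟩ := red_eq_zero (v := v - w) (by rw [map_sub, h, sub_self])
  rw [← sub_eq_zero, ← map_sub, ← map_sub, hy, map_nsmul, map_nsmul]
  funext i
  simp only [Pi.smul_apply, nsmul_eq_mul, Pi.zero_apply]
  rw [show ((13 : ℕ) : ZMod 13) = 0 from rfl, zero_mul]

/-- The induced action modulo 13. -/
def act (g : ↥Cfsg.Co0) : Module.End (ZMod 13) (Cfsg.GolayPt → ZMod 13) :=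
  AddMonoidHom.toZModLinearMap 13 (AddMonoidHom.mk' (fun x => red (ahom g (lift x))) fun x y => by
    rw [← map_add, ← map_add]
    apply red_congr
    rw [map_add, red_lift, red_lift, red_lift])

theorem act_red (g : ↥Cfsg.Co0) (v : ↥Cfsg.leechLattice) : act g (red v) = red (ahom g v) :=
  red_congr g (red_lift _)

theorem act_mul (g h : ↥Cfsg.Co0) (x : Cfsg.GolayPt → ZMod 13) :
    act (g * h) x = act g (act h x) := by
  show red (ahom g (ahom h (lift x))) = red (ahom g (lift (red (ahom h (lift x)))))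
  exact red_congr g (red_lift _).symm

theorem act_one (x : Cfsg.GolayPt → ZMod 13) : act 1 x = x := red_lift x

theorem ahom_dot (g : ↥Cfsg.Co0) (v w : ↥Cfsg.leechLattice) :
    Cfsg.dotInt (ahom g v : Cfsg.GolayPt → ℤ) (ahom g w : Cfsg.GolayPt → ℤ) =
      Cfsg.dotInt (v : Cfsg.GolayPt → ℤ) (w : Cfsg.GolayPt → ℤ) := by
  have key : ∀ a b : Cfsg.GolayPt → ℤ,
      Cfsg.sqNorm (a + b) = Cfsg.sqNorm a + Cfsg.sqNorm b + 2 * Cfsg.dotInt a b := by
    intro a b
    simp only [Cfsg.sqNorm, Cfsg.dotInt, Pi.add_apply, Finset.mul_sum, ← Finset.sum_add_distrib]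
    exact Finset.sum_congr rfl fun i _ => by ring
  have hn : ∀ a, Cfsg.sqNorm (ahom g a : Cfsg.GolayPt → ℤ) = Cfsg.sqNorm (a : Cfsg.GolayPt → ℤ) :=
    fun a => g.2.2 a
  have := hn (v + w)
  rw [map_add, AddSubgroup.coe_add, AddSubgroup.coe_add, key, key, hn, hn] at this
  linarith

/-- The reduction of the fixed vector. -/
def uvec : Cfsg.GolayPt → ZMod 13 := red Cfsg.Spor.leechU

/-- The pairing with the fixed vector. -/
def pair (x : Cfsg.GolayPt → ZMod 13) : ZMod 13 := ∑ i, uvec i * x i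

theorem pair_red (v : ↥Cfsg.leechLattice) :
    pair (red v) = ((Cfsg.dotInt Cfsg.Spor.vecU (v : Cfsg.GolayPt → ℤ) : ℤ) : ZMod 13) := by
  simp [pair, uvec, red, Cfsg.dotInt, Cfsg.Spor.leechU]

theorem pair_eq (x : Cfsg.GolayPt → ZMod 13) : pair x = 4 * (x none + x (some 0)) := by
  have hu : ∀ i : Cfsg.GolayPt, uvec i = if i = none ∨ i = some 0 then 4 else 0 := fun i => by
    show (((Cfsg.Spor.vecU i) : ℤ) : ZMod 13) = _
    rw [Cfsg.Spor.vecU]
    split <;> simp
  rw [pair, Finset.sum_congr rfl fun i _ => by rw [hu i],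
    ← Finset.sum_subset (Finset.subset_univ {none, some 0}), Finset.sum_pair (by simp)]
  · simp [mul_add]
  · intro i _ hi
    simp only [Finset.mem_insert, Finset.mem_singleton] at hi
    simp [hi]

theorem act_uvec (g : ↥Cfsg.Co0)
    (hg : (g : Equiv.Perm ↥Cfsg.leechLattice) Cfsg.Spor.leechU = Cfsg.Spor.leechU) :
    act g uvec = uvec := by
  rw [uvec, act_red]
  exact congrArg red hg

theorem pair_act (g : ↥Cfsg.Co0)
    (hg : (g : Equiv.Perm ↥Cfsg.leechLattice) Cfsg.Spor.leechU = Cfsg.Spor.leechU)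
    (x : Cfsg.GolayPt → ZMod 13) : pair (act g x) = pair x := by
  obtain ⟨v, rfl⟩ : ∃ v, red v = x := ⟨lift x, red_lift x⟩
  rw [act_red, pair_red, pair_red]
  have := ahom_dot g Cfsg.Spor.leechU v
  rw [show ahom g Cfsg.Spor.leechU = Cfsg.Spor.leechU from hg] at this
  exact congrArg _ this

/-- The orthogonal complement of the fixed vector in coordinates. -/
def ext : (ZMod 23 → ZMod 13) →ₗ[ZMod 13] (Cfsg.GolayPt → ZMod 13) where
  toFun y p := p.elim (-y 0) y
  map_add' y z := by
    funext p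
    cases p
    · show -(y 0 + z 0) = -y 0 + -z 0
      ring
    · rfl
  map_smul' c y := by
    funext p
    cases p
    · show -(c * y 0) = c * -y 0
      ring
    · rfl

/-- Forgetting the extra coordinate. -/
def res : (Cfsg.GolayPt → ZMod 13) →ₗ[ZMod 13] (ZMod 23 → ZMod 13) :=
  LinearMap.funLeft (ZMod 13) (ZMod 13) some

theorem pair_ext (y : ZMod 23 → ZMod 13) : pair (ext y) = 0 := by
  rw [pair_eq]
  show 4 * (-y 0 + y 0) = (0 : ZMod 13)
  ring

theorem ext_res {x : Cfsg.GolayPt → ZMod 13} (h : pair x = 0) : ext (res x) = x := by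
  rw [pair_eq] at h
  have h' : x none + x (some 0) = 0 := by
    have := congrArg ((10 : ZMod 13) * ·) h
    simp only [mul_zero, ← mul_assoc] at this
    rwa [show ((10 : ZMod 13) * 4) = 1 from rfl, one_mul] at this
  funext p
  cases p
  · exact (eq_neg_of_add_eq_zero_left h').symm
  · rfl

/-- The 23-dimensional representation. -/
noncomputable def rep : ↥Cfsg.Spor.Co2 →* Module.End (ZMod 13) (ZMod 23 → ZMod 13) where
  toFun g := res ∘ₗ act ⟨g.1, g.2.1⟩ ∘ₗ ext
  map_one' := by
    refine LinearMap.ext fun y => ?_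
    show res (act 1 (ext y)) = y
    rw [act_one]
    rfl
  map_mul' g h := by
    refine LinearMap.ext fun y => ?_
    show res (act (⟨g.1, g.2.1⟩ * ⟨h.1, h.2.1⟩) (ext y)) = _
    rw [act_mul]
    show _ = res (act _ (ext (res (act _ (ext y)))))
    rw [ext_res ((pair_act ⟨h.1, h.2.1⟩ h.2.2 (ext y)).trans (pair_ext y))]

theorem rep_injective : Function.Injective rep := by
  rw [injective_iff_map_eq_one]
  intro g hg
  set g₀ : ↥Cfsg.Co0 := ⟨g.1, g.2.1⟩ with hg₀
  have hW : ∀ x, pair x = 0 → act g₀ x = x := by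
    intro x hx
    have e : res (act g₀ (ext (res x))) = res x := LinearMap.congr_fun hg (res x)
    rw [ext_res hx] at e
    rw [← ext_res ((pair_act g₀ g.2.2 x).trans hx), e, ext_res hx]
  have hall : ∀ x, act g₀ x = x := by
    intro x
    let c : ZMod 13 := 11 * pair x
    have hu : pair uvec = 6 := by
      rw [pair_eq]
      show (4 : ZMod 13) * (((Cfsg.Spor.vecU none : ℤ) : ZMod 13) + ((Cfsg.Spor.vecU (some 0) : ℤ) : ZMod 13)) = 6
      simp only [Cfsg.Spor.vecU, if_pos, true_or, or_true, Int.cast_ofNat]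
      decide
    have hp : pair (x - c • uvec) = 0 := by
      have : pair (x - c • uvec) = pair x - c * pair uvec := by
        simp only [pair, Finset.mul_sum, ← Finset.sum_sub_distrib]
        exact Finset.sum_congr rfl fun i _ => by simp; ring
      rw [this, hu]
      show pair x - 11 * pair x * 6 = 0
      rw [mul_comm (11 : ZMod 13), mul_assoc, show ((11 : ZMod 13) * 6) = 1 from by decide, mul_one,
        sub_self]
    have := hW _ hp
    rw [map_sub, map_smul, act_uvec g₀ g.2.2] at this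
    exact sub_left_inj.mp this
  let E : Cfsg.GolayPt → ↥Cfsg.leechLattice := fun j =>
    ⟨fun i => 8 * (if i = j then 1 else 0), eight_mem _⟩
  have hE : ∀ j, ahom g₀ (E j) = E j := by
    intro j
    obtain ⟨y, hy⟩ := red_eq_zero (v := ahom g₀ (E j) - E j)
      (by rw [map_sub, ← act_red, hall, sub_self])
    have h1 : Cfsg.sqNorm (E j : Cfsg.GolayPt → ℤ) = 64 := by
      simp [Cfsg.sqNorm, E, apply_ite (fun a : ℤ => (8 * a) ^ 2)]
    have h2 : Cfsg.sqNorm (ahom g₀ (E j) : Cfsg.GolayPt → ℤ) = 64 := (g₀.2.2 (E j)).trans h1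
    have h3 : Cfsg.sqNorm (((13 : ℕ) • y : ↥Cfsg.leechLattice) : Cfsg.GolayPt → ℤ) ≤ 256 := by
      rw [← hy]
      calc Cfsg.sqNorm ((ahom g₀ (E j) - E j : ↥Cfsg.leechLattice) : Cfsg.GolayPt → ℤ)
          ≤ 2 * Cfsg.sqNorm (ahom g₀ (E j) : Cfsg.GolayPt → ℤ) +
              2 * Cfsg.sqNorm (E j : Cfsg.GolayPt → ℤ) := by
            simp only [Cfsg.sqNorm, AddSubgroup.coe_sub, Pi.sub_apply, Finset.mul_sum,
              ← Finset.sum_add_distrib]
            exact Finset.sum_le_sum fun i _ => by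
              nlinarith [sq_nonneg ((ahom g₀ (E j) : Cfsg.GolayPt → ℤ) i + (E j : Cfsg.GolayPt → ℤ) i)]
        _ = 256 := by rw [h1, h2]; norm_num
    have h4 : Cfsg.sqNorm (((13 : ℕ) • y : ↥Cfsg.leechLattice) : Cfsg.GolayPt → ℤ) =
        169 * Cfsg.sqNorm (y : Cfsg.GolayPt → ℤ) := by
      simp only [Cfsg.sqNorm, AddSubgroupClass.coe_nsmul, Pi.smul_apply, nsmul_eq_mul, Finset.mul_sum]
      exact Finset.sum_congr rfl fun i _ => by push_cast; ring
    have hy0 : y = 0 := Subtype.ext (small y.2 (by omega))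
    rw [hy0, smul_zero, sub_eq_zero] at hy
    exact hy
  apply Subtype.ext
  refine Equiv.ext fun v => ?_
  have hv : (8 : ℤ) • v = ∑ j, ((v : Cfsg.GolayPt → ℤ) j) • E j := by
    apply Subtype.ext
    funext i
    simp [E, Finset.sum_apply, mul_comm, -Fintype.sum_option]
  have key : (8 : ℤ) • ahom g₀ v = (8 : ℤ) • v := by
    rw [← map_zsmul, hv, map_sum]
    exact Finset.sum_congr rfl fun j _ => by rw [map_zsmul, hE]
  apply Subtype.ext
  funext i
  have := congrFun (congrArg Subtype.val key) i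
  simp only [AddSubgroupClass.coe_zsmul, Pi.smul_apply, smul_eq_mul] at this
  exact mul_left_cancel₀ (by norm_num) this

/-- The second Conway group (the stabilizer in the Leech lattice automorphism group of the short vector fixed in the definitions) is isomorphic to a subgroup of the general linear group of degree 23 over the field with 13 elements: there is an injective homomorphism into it. -/
theorem result : ∃ f : ↥Cfsg.Spor.Co2 →* GL (Fin 23) (ZMod 13), Function.Injective f := by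
  let e : GL (Fin 23) (ZMod 13) ≃* (Module.End (ZMod 13) (Fin 23 → ZMod 13))ˣ :=
    Matrix.GeneralLinearGroup.toLin
  refine ⟨e.symm.toMonoidHom.comp (rep.toHomUnits : ↥Cfsg.Spor.Co2 →* (Module.End (ZMod 13) (Fin 23 → ZMod 13))ˣ), ?_⟩
  intro a b hab
  exact rep_injective (congrArg Units.val (e.symm.injective hab))

end Cfsg.Agent.S5546
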