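import Cfsg.Statements.S5547
import Cfsg.Agent.S1696
import Cfsg.Agent.Lib.PackedMatFi22Pairs40
import Cfsg.Agent.Lib.PackedMatFi22Long40

set_option autoImplicit false
open Cfsg

namespace Cfsg.Agent.S5547

open Cfsg.Agent.PackedMatFi22Core40 Cfsg.Agent.PackedMatFi22Data40
open Cfsg.Agent.PackedMatFi22Pairs40 Cfsg.Agent.PackedMatFi22Long40
open Cfsg.Spor

theorem mem_allGen (x : Fi22.Gen) : x ∈ allGen := by cases x <;> simp [allGen]

theorem num_lt (x : Fi22.Gen) : num x < 9 := by cases x <;> decide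

theorem gens_ok : (List.range 9).all (fun g => rowsOk (gens.getD g [])) = true := by
  decide +kernel

/-- the matrix of the `g`-th generator -/
@[irreducible] noncomputable def MM (g : ℕ) : Matrix (Fin 78) (Fin 78) (ZMod 13) := sMat (gens.getD g [])

theorem rep_word {w : List ℕ} (hw : ∀ g ∈ w, g < 9) (m : ℕ)
    (h : wordIsOne gens (List.replicate m w).flatten = true) :
    (w.map MM).prod ^ m = 1 := by
  have hg : ∀ g ∈ (List.replicate m w).flatten, rowsOk (gens.getD g []) = true := by
    intro g hg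
    obtain ⟨l, hl, hgl⟩ := List.mem_flatten.mp hg
    rw [List.eq_of_mem_replicate hl] at hgl
    exact List.all_eq_true.mp gens_ok g (List.mem_range.mpr (hw g hgl))
  have := wordIsOne_sound hg h
  rw [show (fun g => sMat (gens.getD g [])) = MM from funext fun g => by unfold MM; rfl] at this
  rwa [List.map_flatten, List.map_replicate, List.prod_flatten, List.map_replicate,
    List.prod_replicate] at this

theorem pair_rel (x y : Fi22.Gen) :
    (MM (num x) * MM (num y)) ^ coxLabel Fi22.edges x y = 1 := by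
  have h := List.all_eq_true.mp (ok x) y (mem_allGen y)
  have h2 := rep_word (w := [num x, num y]) (fun g hg => by
    simp only [List.mem_cons, List.not_mem_nil, or_false] at hg
    rcases hg with rfl | rfl <;> exact num_lt _) _ h
  simpa using h2

section Generic

variable {R : Type} [Monoid R] (M : ℕ → R)
  (hsq : ∀ x : Fi22.Gen, M (num x) * M (num x) = 1)

/-- the image of a generator -/
def imgOf (x : Fi22.Gen) : Rˣ := ⟨M (num x), M (num x), hsq x, hsq x⟩

theorem rels_of (hp : ∀ x y : Fi22.Gen, (M (num x) * M (num y)) ^ coxLabel Fi22.edges x y = 1)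
    (h1 : ([3, 2, 1, 3, 4, 5, 3, 7, 8].map M).prod ^ 10 = 1)
    (h2 : ([0, 1, 2, 3, 4, 5, 7].map M).prod ^ 9 = 1)
    (h3 : ([1, 2, 3, 4, 5, 6, 7].map M).prod ^ 9 = 1) :
    ∀ r ∈ coxRelators Fi22.edges ∪ {r | r ∈ Fi22.extra}, FreeGroup.lift (imgOf M hsq) r = 1 := by
  intro r hr
  rcases hr with ⟨x, -, y, -, rfl⟩ | hr
  · refine Units.ext ?_
    simp only [map_pow, map_mul, FreeGroup.lift_apply_of, Units.val_pow_eq_pow_val, Units.val_mul, Units.val_one]
    exact hp x y
  · change r ∈ Fi22.extra at hr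
    simp only [Fi22.extra, List.mem_cons, List.not_mem_nil, or_false] at hr
    rcases hr with rfl | rfl | rfl <;> refine Units.ext ?_ <;>
      simp only [map_pow, map_mul, FreeGroup.lift_apply_of, Units.val_pow_eq_pow_val, Units.val_mul, Units.val_one]
    · simpa [imgOf, num, mul_assoc] using h1
    · simpa [imgOf, num, mul_assoc] using h2
    · simpa [imgOf, num, mul_assoc] using h3

end Generic

theorem rep3 : (([3, 2, 1, 3, 4, 5, 3, 7, 8] : List ℕ).map MM).prod ^ 10 = 1 ∧
    (([0, 1, 2, 3, 4, 5, 7] : List ℕ).map MM).prod ^ 9 = 1 ∧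
    (([1, 2, 3, 4, 5, 6, 7] : List ℕ).map MM).prod ^ 9 = 1 :=
  ⟨rep_word (by decide) 10 spider_ok, rep_word (by decide) 9 e7a_ok, rep_word (by decide) 9 e7b_ok⟩

theorem sq_one (x : Fi22.Gen) : MM (num x) * MM (num x) = 1 := by
  have h := pair_rel x x
  rwa [coxLabel, if_pos rfl, pow_one] at h

theorem exists_hom {R : Type} [Monoid R] (M : ℕ → R)
    (hsq : ∀ x : Fi22.Gen, M (num x) * M (num x) = 1)
    (hp : ∀ x y : Fi22.Gen, (M (num x) * M (num y)) ^ coxLabel Fi22.edges x y = 1)
    (h1 : ([3, 2, 1, 3, 4, 5, 3, 7, 8].map M).prod ^ 10 = 1)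
    (h2 : ([0, 1, 2, 3, 4, 5, 7].map M).prod ^ 9 = 1)
    (h3 : ([1, 2, 3, 4, 5, 6, 7].map M).prod ^ 9 = 1) (hne : M 0 ≠ 1) [IsSimpleGroup Cfsg.Spor.Fi22] :
    ∃ f : Cfsg.Spor.Fi22 →* Rˣ, Function.Injective f := by
  refine ⟨PresentedGroup.toGroup (rels_of M hsq hp h1 h2 h3), ?_⟩
  rw [← MonoidHom.ker_eq_bot_iff]
  rcases (MonoidHom.normal_ker (PresentedGroup.toGroup (rels_of M hsq hp h1 h2 h3))).eq_bot_or_eq_top with h | h
  · exact h
  · exfalso
    have h0 : PresentedGroup.toGroup (rels_of M hsq hp h1 h2 h3) (PresentedGroup.of Fi22.Gen.a) = 1 := by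
      rw [← MonoidHom.mem_ker, h]; exact Subgroup.mem_top _
    rw [PresentedGroup.toGroup.of] at h0
    exact hne (congrArg Units.val h0)

theorem gen_a_ne : rowVal ((gens.getD 0 []).getD 0 []) 0 ≠ 1 := by
  decide +kernel

/-- The Fischer group Fi₂₂ (the finitely presented 3-transposition group of the definitions) is isomorphic to a subgroup of the general linear group of degree 78 over the field with 13 elements: there is an injective homomorphism into it. -/
theorem result : ∃ f : Cfsg.Spor.Fi22 →* GL (Fin 78) (ZMod 13), Function.Injective f := by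
  have : IsSimpleGroup Cfsg.Spor.Fi22 := S1696.result.1
  refine exists_hom (R := Matrix (Fin 78) (Fin 78) (ZMod 13)) MM sq_one pair_rel rep3.1 rep3.2.1 rep3.2.2 ?_
  intro h
  unfold MM at h
  refine gen_a_ne ?_
  have h3 := congrFun (congrFun h (0 : Fin 78)) (0 : Fin 78)
  rw [Matrix.one_apply_eq] at h3
  exact h3

end Cfsg.Agent.S5547
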