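import Cfsg.Statements.S5550
import Cfsg.Agent.Lib.GolayModule

set_option autoImplicit false
open Cfsg
open scoped Pointwise

namespace Cfsg.Agent.S5550

/-- Let u be a word of the length-24 binary Golay code of the definitions (possibly zero or all-ones) and w any binary word of length 24 outside the code. Then some automorphism of the code (a coordinate permutation preserving it) fixes u but moves w to a word not congruent to w modulo the code: the stabilizer of a codeword fixes no non-zero element of the quotient of the space of all words by the code. -/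
theorem result (u : (Cfsg.GolayPt → ZMod 2)) (hu : u ∈ Cfsg.golayCode) (w : (Cfsg.GolayPt → ZMod 2)) (hw : w ∉ Cfsg.golayCode) : ∃ σ ∈ Cfsg.M24, (fun p => u (σ.symm p)) = u ∧ (fun p => w (σ.symm p)) - w ∉ Cfsg.golayCode := by
  obtain ⟨σ, hσ, hfix, hmove⟩ :=
    GolayModule.exists_move_fix (s := Cfsg.support₂ u) ⟨u, hu, rfl⟩ hw
  refine ⟨σ, hσ, ?_, hmove⟩
  calc (fun p => u (σ.symm p)) = GolayModule.act σ (GolayModule.ind (Cfsg.support₂ u)) := by
        rw [GolayModule.ind_support₂]; rfl
    _ = u := by rw [GolayModule.act_ind, hfix, GolayModule.ind_support₂]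

end Cfsg.Agent.S5550
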