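import Cfsg.Statements.S5555
import Cfsg.Agent.Lib.ThreeTranspositionRecognise

set_option autoImplicit false
open Cfsg

namespace Cfsg.Agent.S5555

section

open UnitaryF4Geo
open scoped commutatorElement

/-- Three involutions with the braid relations and a translation of order three generate a group
meeting a normal 2-subgroup avoiding their conjugates trivially. -/
theorem triangle {G : Type*} [Group G] {D : Set G} {Q : Subgroup G} (hQn : Q.Normal)
    (hQp : IsPGroup 2 Q) (hsq : ∀ x ∈ D, x * x = 1) (hcj : ∀ g : G, ∀ x ∈ D, g * x * g⁻¹ ∈ D)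
    (hout : ∀ x ∈ D, x ∉ Q) {d e f : G} (hd : d ∈ D) (he : e ∈ D) (hf : f ∈ D)
    (bde : d * e * d = e * d * e) (bef : e * f * e = f * e * f) (bdf : d * f * d = f * d * f)
    (h3 : (d * (e * f * e)) ^ 3 = 1) :
    ∀ r ∈ Subgroup.closure ({d, e, f} : Set G), r ∈ Q → r = 1 := by
  set K := Subgroup.closure ({d, e, f} : Set G) with hK
  have dd := hsq d hd
  have ee := hsq e he
  have ff := hsq f hf
  have di : d⁻¹ = d := inv_eq_of_mul_eq_one_left dd
  have ei : e⁻¹ = e := inv_eq_of_mul_eq_one_left ee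
  have fi : f⁻¹ = f := inv_eq_of_mul_eq_one_left ff
  set t := d * (e * f * e) with ht
  set u := e * t * e with hu
  have efef : e * f * e * f = f * e := by rw [bef, mul_assoc, ff, mul_one]
  have cancel : ∀ {x : G}, x * x = 1 → ∀ y, x * (x * y) = y := fun {x} hx y => by
    rw [← mul_assoc, hx, one_mul]
  have ce := cancel ee
  have cd := cancel dd
  have cf := cancel ff
  have hu' : u = e * d * e * f := by
    rw [hu, ht]; simp only [mul_assoc, ee, mul_one]
  have htu : Commute t u := by
    show t * u = u * t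
    rw [hu']
    have r1 : t * (e * d * e * f) = d * e * f * d * e * f := by
      rw [ht]; simp only [mul_assoc, ce]
    have r2 : e * d * e * f * t = d * e * f * d * e * f := by
      calc e * d * e * f * t = (e * d * e) * f * d * (e * f * e) := by
            rw [ht]; simp only [mul_assoc]
        _ = d * e * (d * f * d) * (e * f * e) := by rw [← bde]; simp only [mul_assoc]
        _ = d * e * (f * d * f) * (f * e * f) := by rw [bdf, bef]
        _ = d * e * f * d * e * f := by simp only [mul_assoc, cf]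
    rw [r1, r2]
  have ft : f * t * f⁻¹ = t * u⁻¹ := by
    rw [fi]
    have l : f * t * f = d * f * d * e := by
      calc f * t * f = f * d * (f * e * f) * f := by rw [ht, bef]; simp only [mul_assoc]
        _ = (f * d * f) * e := by simp only [mul_assoc, ff, mul_one]
        _ = d * f * d * e := by rw [bdf]
    have r : t * u⁻¹ = d * f * d * e := by
      calc t * u⁻¹ = d * (e * f * e * f) * (e * d * e) := by
            rw [hu', ht]; simp only [mul_inv_rev, ei, di, fi, mul_assoc]
        _ = d * f * d * e := by rw [efef]; simp only [mul_assoc, ce]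
    rw [l, r]
  have fu : f * u * f⁻¹ = u⁻¹ := by
    rw [fi, hu']; simp only [mul_inv_rev, ei, di, fi, mul_assoc, ff, mul_one]
  have et : e * t * e⁻¹ = u := by rw [ei]
  have eu : e * u * e⁻¹ = t := by rw [ei, hu]; simp only [mul_assoc, ee, mul_one, ce]
  have t3 : t ^ 3 = 1 := h3
  have u3 : u ^ 3 = 1 := by rw [← et, conj_pow, t3, mul_one, mul_inv_cancel]
  set A := Subgroup.closure ({t, u} : Set G) with hA
  have tA : t ∈ A := Subgroup.subset_closure (by simp)
  have uA : u ∈ A := Subgroup.subset_closure (by simp)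
  have hAc : IsMulCommutative A := Subgroup.isMulCommutative_closure (by
    rintro x (rfl | rfl) y (rfl | rfl)
    exacts [rfl, htu.eq, htu.eq.symm, rfl])
  have acomm : ∀ {x y : G}, x ∈ A → y ∈ A → x * y = y * x := fun {x y} hx hy =>
    congrArg Subtype.val (hAc.is_comm.comm (⟨x, hx⟩ : A) ⟨y, hy⟩)
  have a3 : ∀ x ∈ A, x ^ 3 = 1 := by
    intro x hx
    induction hx using Subgroup.closure_induction with
    | mem x hx =>
      rcases hx with rfl | rfl
      exacts [t3, u3]
    | one => exact one_pow _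
    | mul x y hx' hy' hx hy => rw [(show Commute x y from acomm hx' hy').mul_pow, hx, hy, one_mul]
    | inv x _ hx => rw [inv_pow, hx, inv_one]
  have eA : ∀ x ∈ A, e * x * e⁻¹ ∈ A := by
    intro x hx
    induction hx using Subgroup.closure_induction with
    | mem x hx => rcases hx with rfl | rfl
                  exacts [et ▸ uA, eu ▸ tA]
    | one => simp
    | mul x y _ _ hx hy =>
      rw [show e * (x * y) * e⁻¹ = e * x * e⁻¹ * (e * y * e⁻¹) by group]; exact mul_mem hx hy
    | inv x _ hx => rw [show e * x⁻¹ * e⁻¹ = (e * x * e⁻¹)⁻¹ by group]; exact inv_mem hx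
  have fA : ∀ x ∈ A, f * x * f⁻¹ ∈ A := by
    intro x hx
    induction hx using Subgroup.closure_induction with
    | mem x hx => rcases hx with rfl | rfl
                  exacts [ft ▸ mul_mem tA (inv_mem uA), fu ▸ inv_mem uA]
    | one => simp
    | mul x y _ _ hx hy =>
      rw [show f * (x * y) * f⁻¹ = f * x * f⁻¹ * (f * y * f⁻¹) by group]; exact mul_mem hx hy
    | inv x _ hx => rw [show f * x⁻¹ * f⁻¹ = (f * x * f⁻¹)⁻¹ by group]; exact inv_mem hx
  -- the six elements above the translations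
  let S : Set G := {1, e, f, e * f, f * e, e * f * e}
  have sdef : ∀ x, x ∈ S ↔ x = 1 ∨ x = e ∨ x = f ∨ x = e * f ∨ x = f * e ∨ x = e * f * e :=
    fun x => Iff.rfl
  have eS : ∀ s ∈ S, e * s ∈ S := by
    intro s hs
    rw [sdef] at hs ⊢
    rcases hs with rfl | rfl | rfl | rfl | rfl | rfl
    · exact Or.inr (Or.inl (mul_one e))
    · exact Or.inl ee
    · exact Or.inr (Or.inr (Or.inr (Or.inl rfl)))
    · exact Or.inr (Or.inr (Or.inl (ce f)))
    · exact Or.inr (Or.inr (Or.inr (Or.inr (Or.inr (mul_assoc e f e).symm))))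
    · exact Or.inr (Or.inr (Or.inr (Or.inr (Or.inl (by simp only [mul_assoc, ce])))))
  have fS : ∀ s ∈ S, f * s ∈ S := by
    intro s hs
    rw [sdef] at hs ⊢
    rcases hs with rfl | rfl | rfl | rfl | rfl | rfl
    · exact Or.inr (Or.inr (Or.inl (mul_one f)))
    · exact Or.inr (Or.inr (Or.inr (Or.inr (Or.inl rfl))))
    · exact Or.inl ff
    · exact Or.inr (Or.inr (Or.inr (Or.inr (Or.inr (by rw [bef, mul_assoc])))))
    · exact Or.inr (Or.inl (cf e))
    · exact Or.inr (Or.inr (Or.inr (Or.inl (by rw [bef]; simp only [mul_assoc, cf]))))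
  have hefeS : e * f * e ∈ S := by rw [sdef]; tauto
  have dform : d = t * (e * f * e) := by rw [ht]; simp only [mul_assoc, ce, cf, ee, mul_one]
  let P : G → Prop := fun x => ∃ a ∈ A, ∃ s ∈ S, x = a * s
  have Pleft_e : ∀ x, P x → P (e * x) := by
    rintro x ⟨a, ha, s, hs, rfl⟩
    exact ⟨_, eA a ha, _, eS s hs, by group⟩
  have Pleft_f : ∀ x, P x → P (f * x) := by
    rintro x ⟨a, ha, s, hs, rfl⟩
    exact ⟨_, fA a ha, _, fS s hs, by group⟩
  have Pleft_t : ∀ x, P x → P (t * x) := by
    rintro x ⟨a, ha, s, hs, rfl⟩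
    exact ⟨_, mul_mem tA ha, s, hs, (mul_assoc t a s).symm⟩
  have hKP : ∀ x ∈ K, P x := by
    intro x hx
    induction hx using Subgroup.closure_induction_left with
    | one => exact ⟨1, one_mem _, 1, (sdef 1).mpr (Or.inl rfl), by simp⟩
    | mul_left y hy x _ ih =>
      rcases hy with rfl | rfl | rfl
      · rw [dform]; simp only [mul_assoc]; exact Pleft_t _ (Pleft_e _ (Pleft_f _ (Pleft_e _ ih)))
      · exact Pleft_e _ ih
      · exact Pleft_f _ ih
    | inv_mul_cancel y hy x _ ih =>
      rcases hy with rfl | rfl | rfl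
      · rw [di, dform]; simp only [mul_assoc]
        exact Pleft_t _ (Pleft_e _ (Pleft_f _ (Pleft_e _ ih)))
      · rw [ei]; exact Pleft_e _ ih
      · rw [fi]; exact Pleft_f _ ih
  have dA : ∀ x ∈ A, d * x * d⁻¹ ∈ A := by
    intro x hx
    rw [dform, show t * (e * f * e) * x * (t * (e * f * e))⁻¹ =
      t * (e * (f * (e * x * e⁻¹) * f⁻¹) * e⁻¹) * t⁻¹ by group]
    exact mul_mem (mul_mem tA (eA _ (fA _ (eA _ hx)))) (inv_mem tA)
  have kA : ∀ g ∈ K, ∀ x ∈ A, g * x * g⁻¹ ∈ A := by
    intro g hg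
    induction hg using Subgroup.closure_induction_left with
    | one => intro x hx; simpa using hx
    | mul_left y hy g _ ih =>
      intro x hx
      rw [show y * g * x * (y * g)⁻¹ = y * (g * x * g⁻¹) * y⁻¹ by group]
      rcases hy with rfl | rfl | rfl
      exacts [dA _ (ih x hx), eA _ (ih x hx), fA _ (ih x hx)]
    | inv_mul_cancel y hy g _ ih =>
      intro x hx
      rw [show y⁻¹ * g * x * (y⁻¹ * g)⁻¹ = y⁻¹ * (g * x * g⁻¹) * y⁻¹⁻¹ by group]
      rcases hy with rfl | rfl | rfl
      · rw [di]; exact dA _ (ih x hx)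
      · rw [ei]; exact eA _ (ih x hx)
      · rw [fi]; exact fA _ (ih x hx)
  have small : ∀ x : G, x ∈ Q → x ^ 3 = 1 → x = 1 := by
    intro x hxQ hx
    obtain ⟨k, hk⟩ := hQp ⟨x, hxQ⟩
    have hk' : x ^ (2 ^ k) = 1 := congrArg Subtype.val hk
    have := pow_gcd_eq_one.mpr ⟨hx, hk'⟩
    rwa [Nat.Coprime.gcd_eq_one (Nat.Coprime.pow_right k (by decide)), pow_one] at this
  intro r hrK hrQ
  have rcomm : ∀ x ∈ A, r * x = x * r := by
    intro x hx
    have m : r * x * r⁻¹ * x⁻¹ = 1 := by
      refine small _ ?_ (a3 _ (mul_mem (kA r hrK x hx) (inv_mem hx)))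
      rw [show r * x * r⁻¹ * x⁻¹ = r * (x * r⁻¹ * x⁻¹) by group]
      exact mul_mem hrQ (hQn.conj_mem _ (inv_mem hrQ) x)
    calc r * x = r * x * r⁻¹ * x⁻¹ * (x * r) := by group
      _ = x * r := by rw [m, one_mul]
  obtain ⟨a, ha, s, hs, hr⟩ := hKP r hrK
  have hc : Commute a s := by
    have e1 := rcomm a ha
    rw [hr, mul_assoc] at e1
    exact (mul_left_cancel e1).symm
  have a3' := a3 a ha
  have refl_case : s ∈ D → r = 1 := fun hsD => by
    exfalso
    have e2 : r ^ 2 = a ^ 2 := by
      rw [hr, hc.mul_pow, pow_two s, hsq s hsD, mul_one]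
    have e3 : r ^ 2 = 1 := small _ (pow_mem hrQ 2) (by
      rw [e2, ← pow_mul, pow_mul', a3', one_pow])
    rw [e2] at e3
    have a1 : a = 1 := by rw [← a3', pow_succ, e3, one_mul]
    rw [a1, one_mul] at hr
    exact hout s hsD (hr ▸ hrQ)
  have rot_case : s ^ 3 = 1 → r = 1 := fun hs3 =>
    small r hrQ (by rw [hr, hc.mul_pow, a3', hs3, one_mul])
  have efeD : e * f * e ∈ D := by simpa [ei] using hcj e f hf
  have ef3 : (e * f) ^ 3 = 1 := by
    calc (e * f) ^ 3 = (e * f * e) * (f * e * f) := by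
          simp only [pow_succ, pow_zero, one_mul, mul_assoc]
      _ = 1 := by rw [← bef, hsq _ efeD]
  rcases (sdef s).mp hs with rfl | rfl | rfl | rfl | rfl | rfl
  · exact rot_case (one_pow _)
  · exact refl_case he
  · exact refl_case hf
  · exact rot_case ef3
  · exact rot_case (by
      rw [show f * e = e⁻¹ * (e * f) * e⁻¹⁻¹ by rw [ei]; simp only [mul_assoc, ce, inv_inv, ei],
        conj_pow, ef3, mul_one, mul_inv_cancel])
  · exact refl_case efeD

variable {F : Type} [Field F] [Fintype F] [hF : FourField F]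

theorem orth_prop {u w : Fin 3 → F} (hu : u ≠ 0) (huu : h u u = 0) (hww : h w w = 0)
    (hwu : h w u = 0) : w = h w (exists_hyp hu huu).choose • u := by
  have H := (exists_hyp hu huu).choose_spec
  set q := (exists_hyp hu huu).choose
  obtain ⟨o, ho⟩ := exists_omega (F := F)
  obtain ⟨y, hy, hyu, hyq⟩ := H.exists_one (by norm_num)
  have e1 : h (q + o • u) (q + o • u) = 1 := by
    simp only [h_add_left, h_add_right, h_smul_left, h_smul_right, H.pp, H.qq, H.pq, H.qp]
    linear_combination ho + o * (two_eq_zero (F := F))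
  have e2 : h (q + o • u + u) (q + o • u + u) = 1 := by
    simp only [h_add_left, h_add_right, h_smul_left, h_smul_right, H.pp, H.qq, H.pq, H.qp]
    linear_combination ho + (o + 1) * (two_eq_zero (F := F))
  have e3 : h (q + o • u) (q + o • u + u) = 0 := by
    simp only [h_add_left, h_add_right, h_smul_left, h_smul_right, H.pp, H.qq, H.pq, H.qp]
    linear_combination ho + (o + 1) * (two_eq_zero (F := F))
  have hb : ON ![q + o • u, q + o • u + u, y] := by
    refine ON_three e1 e2 hy e3 ?_ ?_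
    · simp [h_add_left, h_smul_left, h_comm_zero hyq, h_comm_zero hyu]
    · simp [h_add_left, h_smul_left, h_comm_zero hyq, h_comm_zero hyu]
  set w' := proj u q w with hw'
  have p1 : h w' u = 0 := H.proj_p w
  have p2 : h w' q = 0 := H.proj_q w
  have hexp : w' = h w' y • y := by
    have := hb.expand w'
    rw [Fin.sum_univ_three] at this
    simpa [h_add_right, h_smul_right, p1, p2] using this
  have hd := proj_decomp u q w
  rw [hwu, zero_smul, add_zero, ← hw'] at hd
  have hN := hww
  rw [hd] at hN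
  simp only [h_add_left, h_add_right, h_smul_left, h_smul_right, huu, p1, h_comm_zero p1, mul_zero,
    add_zero, zero_add] at hN
  have hc0 : h w' y = 0 := by
    by_contra hne
    rw [hexp, h_smul_left, h_smul_right, hy] at hN
    apply one_ne_zero (α := F)
    linear_combination hN - cube hne
  rw [hc0, zero_smul] at hexp
  rw [hexp, add_zero] at hd
  exact hd

theorem is_tv_three {x : (Fin 3 → F) →ₗ[F] (Fin 3 → F)} (hiso : ∀ u v, h (x u) (x v) = h u v)
    (hinv : ∀ u, x (x u) = u) (hne : ∃ u, x u ≠ u) :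
    ∃ w, w ≠ 0 ∧ h w w = 0 ∧ ∀ u, x u = tv w u := by
  obtain ⟨v, hv⟩ := ThreeTranspositionRecognise.split_one hiso hinv hne
  set w := x v + v with hw
  have selfadj : ∀ a b, h (x a) b = h a (x b) := fun a b => by rw [← hiso (x a) b, hinv]
  have hw0 : w ≠ 0 := fun e => by rw [e, h_zero_left] at hv; exact zero_ne_one hv
  refine ⟨w, hw0, ?_, fun u => ?_⟩
  · simp only [hw, h_add_left, h_add_right, hiso, selfadj]
    linear_combination (h v v + h v (x v)) * (two_eq_zero (F := F))
  · set z := x u + u with hz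
    have hzz : h z z = 0 := by
      simp only [hz, h_add_left, h_add_right, hiso, selfadj]
      linear_combination (h u u + h u (x u)) * (two_eq_zero (F := F))
    have hzw : h z w = 0 := by
      simp only [hz, hw, h_add_left, h_add_right, hiso, selfadj]
      linear_combination (h u v + h u (x v)) * (two_eq_zero (F := F))
    have hw' : h w w = 0 := by
      simp only [hw, h_add_left, h_add_right, hiso, selfadj]
      linear_combination (h v v + h v (x v)) * (two_eq_zero (F := F))
    have hp := orth_prop hw0 hw' hzz hzw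
    have e : h z v = h u w := by rw [hz, hw, h_add_left, h_add_right, selfadj]
    rw [hp, h_smul_left, hv, mul_one] at e
    rw [tv_apply, ← e, ← hp, hz, add_comm (x u), ← add_assoc, vec_add_self, zero_add]

theorem tv_comm_eq {u w : Fin 3 → F} (hu : u ≠ 0) (hw : w ≠ 0) (huu : h u u = 0) (hww : h w w = 0)
    (e : ∀ v, tv u (tv w v) = tv w (tv u v)) : tv u = tv w := by
  have key := e u
  simp only [tv_apply, h_add_left, h_smul_left, huu, zero_smul, add_zero, zero_add] at key
  have hz : (h u w * h w u) • u = 0 := by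
    have e' : u + h u w • w + (h u w * h w u) • u = u + h u w • w + 0 := by
      rw [add_zero]; exact key
    exact add_left_cancel e'
  have huw : h w u = 0 := by
    rcases smul_eq_zero.mp hz with hh | hh
    · rcases mul_eq_zero.mp hh with h' | h'
      · exact h_comm_zero h'
      · exact h'
    · exact absurd hh hu
  have hp := orth_prop hu huu hww huw
  set c := h w (exists_hyp hu huu).choose
  have hc : c ≠ 0 := fun h0 => hw (by rw [hp, h0, zero_smul])
  rw [hp, tv_smul hc]

theorem main {G : Type*} [Group G] [Finite G] {D : Set G}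
    (hD : Cfsg.IsThreeTranspositionClass D)
    (φ : G ⧸ Cfsg.pCore 2 G ≃* ↥(commutator ↥(Cfsg.SU 3 F 2))) :
    ∃ K : Subgroup G, (Cfsg.pCore 2 G).IsComplement' K := by
  obtain ⟨⟨hord, hprod⟩, ⟨d₀, hd₀, hconj⟩, hgen⟩ := hD
  set Q := Cfsg.pCore 2 G with hQ
  let ρ : G →* ((Fin 3 → F) ≃ₗ[F] (Fin 3 → F)) :=
    (((Matrix.SpecialLinearGroup.toLin').comp (Cfsg.SU 3 F 2).subtype).comp
      (commutator ↥(Cfsg.SU 3 F 2)).subtype).comp (φ.toMonoidHom.comp (QuotientGroup.mk' Q))
  have hρ : ∀ g, ρ g = Matrix.SpecialLinearGroup.toLin' (φ (QuotientGroup.mk' Q g)).1.1 :=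
    fun _ => rfl
  have isom : ∀ g v w, h (ρ g v) (ρ g w) = h v w := fun g v w =>
    ThreeTranspositionRecognise.toLin'_mem _ v w
  have ker : ∀ g, ρ g = 1 ↔ g ∈ Q := fun g => by
    rw [hρ, map_eq_one_iff _ Matrix.SpecialLinearGroup.toLin'_injective, OneMemClass.coe_eq_one,
      OneMemClass.coe_eq_one, map_eq_one_iff _ φ.injective, QuotientGroup.mk'_apply,
      QuotientGroup.eq_one_iff]
  have ρmul : ∀ a b v, ρ (a * b) v = ρ a (ρ b v) := fun a b v => by rw [map_mul]; rfl
  have ρinv : ∀ a v, ρ a (ρ a⁻¹ v) = v := fun a v => by rw [← ρmul, mul_inv_cancel, map_one]; rfl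
  have hsq : ∀ x ∈ D, x * x = 1 := fun x hx => by rw [← pow_two, ← hord x hx, pow_orderOf_eq_one]
  have hcj : ∀ g : G, ∀ x ∈ D, g * x * g⁻¹ ∈ D := fun g x hx => by
    rw [hconj] at hx ⊢
    exact IsConj.trans hx (isConj_iff.mpr ⟨g, rfl⟩)
  -- a central element scaling by a primitive cube root of unity
  obtain ⟨o, ho⟩ := exists_omega (F := F)
  obtain ⟨o0, o1⟩ := omega_ne ho
  have o3 := cube o0
  have two := two_eq_zero (F := F)
  obtain ⟨z, hz⟩ : ∃ z, ∀ v, ρ z v = o • v := by
    let M1 : Matrix (Fin 3) (Fin 3) F := Matrix.diagonal ![1, o, o ^ 2]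
    let M2 : Matrix (Fin 3) (Fin 3) F := !![0, 1, 0; 0, 0, 1; 1, 0, 0]
    have hd1 : M1.det = 1 := by
      simp only [M1, Matrix.det_diagonal, Fin.prod_univ_three]; simp; linear_combination o3
    have hd2 : M2.det = 1 := by simp [M2, Matrix.det_fin_three]
    let s1 : Matrix.SpecialLinearGroup (Fin 3) F := ⟨M1, hd1⟩
    let s2 : Matrix.SpecialLinearGroup (Fin 3) F := ⟨M2, hd2⟩
    have m1 : s1 ∈ Cfsg.SU 3 F 2 := fun u v => by
      show Cfsg.hermForm 3 F 2 (M1.mulVec u) (M1.mulVec v) = Cfsg.hermForm 3 F 2 u v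
      simp [M1, Cfsg.hermForm, Fin.sum_univ_three, Matrix.mulVec_diagonal]
      linear_combination (u 1 * v 1 ^ 2) * o3 + (u 2 * v 2 ^ 2) * (o ^ 3 + 1) * o3
    have m2 : s2 ∈ Cfsg.SU 3 F 2 := fun u v => by
      show Cfsg.hermForm 3 F 2 (M2.mulVec u) (M2.mulVec v) = Cfsg.hermForm 3 F 2 u v
      simp [M2, Cfsg.hermForm, Fin.sum_univ_three, Matrix.mulVec, dotProduct]
      ring
    let g1 : ↥(Cfsg.SU 3 F 2) := ⟨s1, m1⟩
    let g2 : ↥(Cfsg.SU 3 F 2) := ⟨s2, m2⟩
    let c : ↥(commutator ↥(Cfsg.SU 3 F 2)) :=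
      ⟨⁅g2, g1⁆, Subgroup.commutator_mem_commutator (Subgroup.mem_top _) (Subgroup.mem_top _)⟩
    obtain ⟨z, hz⟩ := QuotientGroup.mk'_surjective Q (φ.symm c)
    refine ⟨z, fun v => ?_⟩
    rw [hρ, hz, φ.apply_symm_apply]
    have key : M2 * M1 = (o • (1 : Matrix (Fin 3) (Fin 3) F)) * (M1 * M2) := by
      ext i j
      fin_cases i <;> fin_cases j <;>
        simp [M1, M2, Matrix.mul_apply, Fin.sum_univ_three, Matrix.diagonal, Matrix.one_apply] <;>
        grobner
    show Matrix.SpecialLinearGroup.toLin' (⁅g2, g1⁆ : ↥(Cfsg.SU 3 F 2)).1 v = o • v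
    rw [Matrix.SpecialLinearGroup.toLin'_apply, Matrix.toLin'_apply]
    have hcm : (((⁅g2, g1⁆ : ↥(Cfsg.SU 3 F 2)).1 : Matrix.SpecialLinearGroup (Fin 3) F) :
        Matrix (Fin 3) (Fin 3) F) = o • 1 := by
      rw [commutatorElement_def]
      simp only [Subgroup.coe_mul, InvMemClass.coe_inv, Matrix.SpecialLinearGroup.coe_mul]
      show M2 * M1 * _ * _ = _
      rw [key]
      have i1 : M1 * M2 * (↑(g2.1⁻¹) : Matrix (Fin 3) (Fin 3) F) = M1 := by
        rw [mul_assoc]
        show M1 * ((↑g2.1 : Matrix (Fin 3) (Fin 3) F) * _) = M1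
        rw [← Matrix.SpecialLinearGroup.coe_mul, mul_inv_cancel, Matrix.SpecialLinearGroup.coe_one,
          mul_one]
      have i2 : (M1 : Matrix (Fin 3) (Fin 3) F) * (↑(g1.1⁻¹) : Matrix (Fin 3) (Fin 3) F) = 1 := by
        show (↑g1.1 : Matrix (Fin 3) (Fin 3) F) * _ = 1
        rw [← Matrix.SpecialLinearGroup.coe_mul, mul_inv_cancel, Matrix.SpecialLinearGroup.coe_one]
      have ji : M1 * M2 * (↑(g2.1⁻¹) : Matrix (Fin 3) (Fin 3) F) *
          (↑(g1.1⁻¹) : Matrix (Fin 3) (Fin 3) F) = 1 := by rw [i1, i2]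
      simp only [mul_assoc] at ji ⊢
      first
        | rw [ji, mul_one]
        | (rw [Matrix.smul_mul, one_mul]; rw [ji])
    rw [hcm, Matrix.smul_mulVec, Matrix.one_mulVec]
  -- members of `D` act as transvections
  have nofix : ∀ y : Fin 3 → F, y ≠ 0 → ∃ x ∈ D, ρ x y ≠ y := by
    intro y hy
    by_contra hno
    push_neg at hno
    have : ∀ g : G, ρ g y = y := fun g => by
      have hg : g ∈ Subgroup.closure D := by rw [hgen]; trivial
      induction hg using Subgroup.closure_induction with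
      | mem x hx => exact hno x hx
      | one => rw [map_one]; rfl
      | mul a b _ _ ha hb => rw [ρmul, hb, ha]
      | inv a _ ha =>
        conv_lhs => rw [← ha]
        rw [← ρmul, inv_mul_cancel, map_one]; rfl
    have hzy : (o + 1) • y = 0 := by
      rw [add_smul, one_smul, ← hz y, this z, vec_add_self]
    rcases smul_eq_zero.mp hzy with h' | h'
    · exact o1 (UnitaryF4Geo.eq_of_add_eq_zero h')
    · exact hy h'
  have hout : ∀ x ∈ D, x ∉ Q := by
    intro x hx hxQ
    have hDQ : D ⊆ Q := fun e he => by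
      rw [hconj] at hx he
      obtain ⟨g, rfl⟩ := isConj_iff.mp (IsConj.trans (IsConj.symm hx) he)
      exact (inferInstance : Q.Normal).conj_mem x hxQ g
    obtain ⟨x', hx', hne⟩ := nofix (Pi.single 0 1) (fun e => by
      simpa using congrFun e 0)
    exact hne (by rw [(ker x').mpr (hDQ hx')]; rfl)
  have htv : ∀ x ∈ D, ∃ w, w ≠ 0 ∧ h w w = 0 ∧ ∀ v, ρ x v = tv w v := fun x hx =>
    is_tv_three (x := (ρ x).toLinearMap) (isom x) (fun v => by
      show ρ x (ρ x v) = v
      rw [← ρmul, hsq x hx, map_one]; rfl) (by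
      by_contra hall
      push_neg at hall
      exact hout x hx ((ker x).mp (LinearEquiv.ext hall)))
  have braid : ∀ {a b : G} {u w : Fin 3 → F}, a ∈ D → b ∈ D → (∀ v, ρ a v = tv u v) →
      (∀ v, ρ b v = tv w v) → u ≠ 0 → w ≠ 0 → h u u = 0 → h w w = 0 → tv u ≠ tv w →
      (a * b) ^ 3 = 1 ∧ a * b * a = b * a * b := by
    intro a b u w ha hb hau hbw hu hw huu hww hne
    have ai : a⁻¹ = a := inv_eq_of_mul_eq_one_left (hsq a ha)
    have bi : b⁻¹ = b := inv_eq_of_mul_eq_one_left (hsq b hb)
    have h3 : (a * b) ^ 3 = 1 := (hprod a ha b hb).resolve_left fun h2 => hne (by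
      refine tv_comm_eq hu hw huu hww fun v => ?_
      have hc : a * b = b * a := by
        have := inv_eq_of_mul_eq_one_left (show (a * b) * (a * b) = 1 by rw [← pow_two, h2])
        rw [mul_inv_rev, ai, bi] at this
        exact this.symm
      have := congrArg (fun g => ρ g v) hc
      simpa [ρmul, hau, hbw] using this)
    refine ⟨h3, ?_⟩
    have : (a * b * a) * (b * a * b) = 1 := by
      rw [← h3]; simp only [pow_succ, pow_zero, one_mul, mul_assoc]
    rw [mul_eq_one_iff_eq_inv.mp this]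
    simp only [mul_inv_rev, ai, bi, mul_assoc]
  -- three members with independent centres
  obtain ⟨u, hu, huu, hdu⟩ := htv d₀ hd₀
  obtain ⟨q₀, H₀⟩ := exists_hyp hu huu
  obtain ⟨y₀, hy₀, hy₀u, -⟩ := H₀.exists_one (by norm_num)
  obtain ⟨e, he, hey⟩ := nofix y₀ (fun e => by rw [e, h_zero_left] at hy₀; exact zero_ne_one hy₀)
  obtain ⟨w, hw, hww, hew⟩ := htv e he
  have huw : h w u ≠ 0 := by
    intro h0
    have hp := orth_prop hu huu hww h0
    refine hey ?_
    rw [hew, tv_fix]
    rw [hp, h_smul_right, hy₀u, mul_zero]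
  obtain ⟨q, hq⟩ : ∃ q, q = (h w u)⁻¹ • w := ⟨_, rfl⟩
  have H : Hyp u q := by
    refine ⟨huu, ?_, h_comm_one ?_⟩
    · rw [hq, h_smul_left, h_smul_right, hww, mul_zero, mul_zero]
    · rw [hq, h_smul_left, inv_mul_cancel₀ huw]
  have heq : ∀ v, ρ e v = tv q v := fun v => by rw [hq, tv_smul (inv_ne_zero huw)]; exact hew v
  obtain ⟨y, hy, hyu, hyq⟩ := H.exists_one (by norm_num)
  have hy0 : y ≠ 0 := fun e' => by rw [e', h_zero_left] at hy; exact zero_ne_one hy
  obtain ⟨f, hf, hfy⟩ := nofix y hy0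
  obtain ⟨r, hr, hrr, hfr⟩ := htv f hf
  have hry : h r y ≠ 0 := fun h0 => hfy (by rw [hfr, tv_fix (h_comm_zero h0)])
  have hu_y : h u y = 0 := h_comm_zero hyu
  have hq_y : h q y = 0 := h_comm_zero hyq
  have huq := H.pq
  have hqu := H.qp
  have hqq := H.qq
  -- coordinates
  have coord : ∀ x, x = h x q • u + h x u • q + h x y • y := by
    intro x
    have e1 : h (q + o • u) (q + o • u) = 1 := by
      simp only [h_add_left, h_add_right, h_smul_left, h_smul_right, huu, hqq, huq, hqu]
      linear_combination ho + o * two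
    have e2 : h (q + o • u + u) (q + o • u + u) = 1 := by
      simp only [h_add_left, h_add_right, h_smul_left, h_smul_right, huu, hqq, huq, hqu]
      linear_combination ho + (o + 1) * two
    have e3 : h (q + o • u) (q + o • u + u) = 0 := by
      simp only [h_add_left, h_add_right, h_smul_left, h_smul_right, huu, hqq, huq, hqu]
      linear_combination ho + (o + 1) * two
    have hb : ON ![q + o • u, q + o • u + u, y] := by
      refine ON_three e1 e2 hy e3 ?_ ?_ <;> simp [h_add_left, h_smul_left, hu_y, hq_y]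
    have := hb.expand x
    rw [Fin.sum_univ_three] at this
    conv_lhs => rw [this]
    simp [h_add_right, h_smul_right]
    match_scalars <;> grobner
  let vec : F → F → Fin 3 → F := fun b c => u + b • q + c • y
  set K := Subgroup.closure ({d₀, e, f} : Set G) with hK
  let P : (Fin 3 → F) → Prop := fun x => ∃ k ∈ K, ∀ v, ρ k v = tv x v
  have Ptv : ∀ a b, P a → P b → P (tv a b) := by
    rintro a b ⟨k, hk, hka⟩ ⟨l, hl, hlb⟩
    refine ⟨k * l * k⁻¹, mul_mem (mul_mem hk hl) (inv_mem hk), fun v => ?_⟩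
    rw [ρmul, ρmul, hlb]
    have := tv_conj (ρ k).toLinearMap (isom k) b (ρ k⁻¹ v)
    simp only [LinearEquiv.coe_coe] at this
    rw [this, hka, ρinv]
  have Psmul : ∀ {c : F} {x}, c ≠ 0 → (P (c • x) ↔ P x) := fun {c x} hc => by
    simp only [P, tv_smul hc]
  have Pu : P u := ⟨d₀, Subgroup.subset_closure (by simp), hdu⟩
  have Pq : P q := ⟨e, Subgroup.subset_closure (by simp), heq⟩
  have Pr : P r := ⟨f, Subgroup.subset_closure (by simp), hfr⟩
  have norm_vec : ∀ x, h x x = 0 → h x y ≠ 0 →
      h x q ≠ 0 ∧ ((h x u / h x q) ^ 2 = h x u / h x q + 1) ∧ h x y / h x q ≠ 0 ∧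
        x = h x q • vec (h x u / h x q) (h x y / h x q) := by
    intro x hxx hxy
    have hN := congrArg (fun v => h v v) (coord x)
    simp only [h_add_left, h_add_right, h_smul_left, h_smul_right, hxx, huu, hqq, huq, hqu, hy,
      hu_y, hq_y, hyu, hyq] at hN
    have c3 := cube hxy
    have ha : h x q ≠ 0 := fun h0 => by
      rw [h0] at hN
      apply one_ne_zero (α := F)
      linear_combination hN.symm - c3
    have a3 := cube ha
    refine ⟨ha, ?_, div_ne_zero hxy ha, ?_⟩
    · obtain ⟨t, ht⟩ : ∃ t, t = h x u / h x q := ⟨_, rfl⟩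
      rw [← ht]
      have e : h x u = t * h x q := by rw [ht, div_mul_cancel₀ _ ha]
      rw [e] at hN
      linear_combination -hN - (t + t ^ 2) * a3 - c3 - (t + 1) * two
    · conv_lhs => rw [coord x]
      simp only [vec, smul_add, smul_smul, mul_div_cancel₀ _ ha]
  have moves : ∀ b c, b ^ 2 = b + 1 → P (vec b c) →
      P (vec (b + 1) c) ∧ P (vec (b + 1) (c * b)) := by
    intro b c hb hP
    constructor
    · have := Ptv q _ Pq hP
      convert this using 1
      simp [vec, tv_apply, h_add_left, h_smul_left, huq, hqq, hyq]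
      match_scalars <;> grobner
    · have := Ptv u _ Pu hP
      refine (Psmul (c := b ^ 2) (pow_ne_zero 2 (omega_ne hb).1)).mp ?_
      convert this using 1
      simp [vec, tv_apply, h_add_left, h_smul_left, huu, hqu, hyu]
      match_scalars <;> grobner
  obtain ⟨-, hβ, hγ, hrv⟩ := norm_vec r hrr hry
  set β := h r u / h r q
  set γ := h r y / h r q
  have hrq : h r q ≠ 0 := fun h0 => hr (by rw [hrv, h0, zero_smul])
  have Pv : P (vec β γ) := (Psmul hrq).mp (hrv ▸ Pr)
  have same : ∀ b c, b ^ 2 = b + 1 → P (vec b c) → P (vec b (c * (b + 1))) := fun b c hb hP => by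
    have := (moves _ _ (by grobner) (moves b c hb hP).1).2
    convert this using 2
    grobner
  have Pall : ∀ b c, b ^ 2 = b + 1 → c ≠ 0 → P (vec b c) := by
    have aux : ∀ c, c ≠ 0 → P (vec β c) := by
      intro c hc
      obtain ⟨hb0, hb1⟩ := omega_ne hβ
      have hk : c / γ = 1 ∨ c / γ = β ∨ c / γ = β + 1 := by
        have h3 := cube (div_ne_zero hc hγ)
        have : (c / γ - 1) * ((c / γ - β) * (c / γ - (β + 1))) = 0 := by grobner
        rcases mul_eq_zero.mp this with h' | h'
        · exact Or.inl (sub_eq_zero.mp h')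
        · rcases mul_eq_zero.mp h' with h' | h'
          · exact Or.inr (Or.inl (sub_eq_zero.mp h'))
          · exact Or.inr (Or.inr (sub_eq_zero.mp h'))
      have P2 := same β γ hβ Pv
      have P3 := same β _ hβ P2
      rcases hk with h' | h' | h' <;> rw [div_eq_iff hγ] at h'
      · rw [h', one_mul]; exact Pv
      · convert P3 using 2; rw [h']; grobner
      · convert P2 using 2; rw [h']; ring
    intro b c hb hc
    have : b = β ∨ b = β + 1 := by
      have : (b - β) * (b - (β + 1)) = 0 := by grobner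
      rcases mul_eq_zero.mp this with h' | h'
      · exact Or.inl (sub_eq_zero.mp h')
      · exact Or.inr (sub_eq_zero.mp h')
    rcases this with rfl | rfl
    · exact aux c hc
    · exact (moves β c hβ (aux c hc)).1
  have allP : ∀ x, x ≠ 0 → h x x = 0 → P x := by
    intro x hx hxx
    by_cases hxy : h x y = 0
    · have hd := coord x
      rw [hxy, zero_smul, add_zero] at hd
      by_cases ha : h x q = 0
      · rw [ha, zero_smul, zero_add] at hd
        rw [hd]; exact (Psmul fun h0 => hx (by rw [hd, h0, zero_smul])).mpr Pq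
      by_cases hb : h x u = 0
      · rw [hb, zero_smul, add_zero] at hd
        rw [hd]; exact (Psmul ha).mpr Pu
      have hN := congrArg (fun v => h v v) hd
      simp only [h_add_left, h_add_right, h_smul_left, h_smul_right, hxx, huu, hqq, huq, hqu] at hN
      have hab : h x q = h x u := by
        apply mul_right_cancel₀ (mul_ne_zero ha hb)
        linear_combination hN.symm - 2 * 0 * (two_eq_zero (F := F)) -
          (h x u ^ 2 * h x q) * (two_eq_zero (F := F))
      rw [hd, hab, ← smul_add]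
      refine (Psmul hb).mpr ?_
      have := Ptv u q Pu Pq
      rwa [tv_apply, hqu, one_smul, add_comm] at this
    · obtain ⟨ha, hb, hc, hxv⟩ := norm_vec x hxx hxy
      rw [hxv]; exact (Psmul ha).mpr (Pall _ _ hb hc)
  have hq0 : q ≠ 0 := fun e' => by rw [e', h_zero_left] at hqu; exact zero_ne_one hqu
  have nuq : tv u ≠ tv q := fun e' => by
    have := LinearMap.congr_fun e' q
    rw [tv_apply, tv_apply, hqu, hqq, one_smul, zero_smul, add_zero] at this
    exact hu (add_left_cancel (a := q) (by rw [add_zero]; exact this))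
  have nur : ∀ {x : Fin 3 → F} {s : Fin 3 → F}, h x y = 0 → h s y ≠ 0 → x ≠ 0 → tv x ≠ tv s :=
    fun {x s} hxy hsy hx e' => by
      obtain ⟨c, hc, hxs⟩ := tv_inj hx e'
      rw [hxs, h_smul_left] at hxy
      exact mul_ne_zero hc hsy hxy
  have ei : e⁻¹ = e := inv_eq_of_mul_eq_one_left (hsq e he)
  have hfe : e * f * e ∈ D := by simpa [ei] using hcj e f hf
  have hfev : ∀ v, ρ (e * f * e) v = tv (tv q r) v := fun v => by
    simp only [ρmul, hfr, heq]
    rw [tv_conj _ (tv_isom hqq) r, tv_tv hqq]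
  have bde := (braid hd₀ he hdu heq hu hq0 huu hqq nuq).2
  have bdf := (braid hd₀ hf hdu hfr hu hr huu hrr (nur hu_y hry hu)).2
  have bef := (braid he hf heq hfr hq0 hr hqq hrr (nur hq_y hry hq0)).2
  have hs_y : h (tv q r) y ≠ 0 := by
    rw [tv_apply, h_add_left, h_smul_left, hq_y, mul_zero, add_zero]; exact hry
  have h3 := (braid hd₀ hfe hdu hfev hu (fun e' => hs_y (by rw [e', h_zero_left])) huu
    (by rw [tv_isom hqq, hrr]) (nur hu_y hs_y hu)).1
  have htriv := triangle (D := D) inferInstance (HallCore.isPGroup_pCore 2 G) hsq hcj hout hd₀ he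
    hf bde bef bdf h3
  refine ⟨K, Subgroup.isComplement'_of_disjoint_and_mul_eq_univ ?_ ?_⟩
  · rw [Subgroup.disjoint_def]
    exact fun {x} hx hxK => htriv x hxK hx
  · refine Set.eq_univ_of_forall fun g => ?_
    suffices ∃ k ∈ K, ρ k = ρ g by
      obtain ⟨k, hk, hkg⟩ := this
      refine ⟨g * k⁻¹, (ker _).mp (by rw [map_mul, map_inv, hkg, mul_inv_cancel]), k, hk, ?_⟩
      show g * k⁻¹ * k = g
      rw [inv_mul_cancel_right]
    have hg : g ∈ Subgroup.closure D := by rw [hgen]; trivial
    induction hg using Subgroup.closure_induction with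
    | mem x hx =>
      obtain ⟨w', hw', hww', hxw⟩ := htv x hx
      obtain ⟨k, hk, hkw⟩ := allP w' hw' hww'
      exact ⟨k, hk, LinearEquiv.ext fun v => by rw [hkw, hxw]⟩
    | one => exact ⟨1, one_mem _, rfl⟩
    | mul a b _ _ ha hb =>
      obtain ⟨k, hk, ek⟩ := ha
      obtain ⟨l, hl, el⟩ := hb
      exact ⟨k * l, mul_mem hk hl, by rw [map_mul, map_mul, ek, el]⟩
    | inv a _ ha =>
      obtain ⟨k, hk, ek⟩ := ha
      exact ⟨k⁻¹, inv_mem hk, by rw [map_inv, map_inv, ek]⟩

end

/-- Let G be a finite group generated by a conjugacy class D of 3-transpositions, with trivial centre and with generalized Fitting subgroup F*(G) = O₂(G) (so the Fitting subgroup is O₂(G) too). If G/O₂(G) is isomorphic to the derived group of SU₃(2) (the group of order 54 generated by nine 3-transpositions), then O₂(G) has a complement in G. -/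
theorem result {G : Type*} [Group G] [Finite G] {D : Set G} (hD : Cfsg.IsThreeTranspositionClass D)
    (hZ : Subgroup.center G = ⊥) (hF : Cfsg.generalizedFittingSubgroup G = Cfsg.pCore 2 G)
    (hq : ∃ (F : Type) (_ : Field F) (_ : Fintype F), Fintype.card F = 4 ∧ Nonempty (G ⧸ Cfsg.pCore 2 G ≃* ↥(commutator ↥(Cfsg.SU 3 F 2)))) :
    ∃ K : Subgroup G, (Cfsg.pCore 2 G).IsComplement' K := by
  obtain ⟨F, _, _, hc, ⟨φ⟩⟩ := hq
  haveI : UnitaryF4Geo.FourField F := ⟨hc⟩
  exact main hD φ

end Cfsg.Agent.S5555
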