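import Cfsg.Statements.S5558
import Cfsg.Agent.Lib.ThreeTransUnique73
-- import your own Cfsg.Agent.* helpers here

set_option autoImplicit false
open Cfsg

namespace Cfsg.Agent.S5558

/-- Let G be a finite group generated by a conjugacy class D of 3-transpositions, with trivial centre and with generalized Fitting subgroup F*(G) = O₂(G) (so the Fitting subgroup is O₂(G) too). If moreover O₂(G) is elementary abelian, then D is the only conjugacy class of 3-transpositions generating G. -/
theorem result {G : Type*} [Group G] [Finite G] {D : Set G} (hD : Cfsg.IsThreeTranspositionClass D)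
    (hZ : Subgroup.center G = ⊥) (hF : Cfsg.generalizedFittingSubgroup G = Cfsg.pCore 2 G)
    (hV : Cfsg.IsElementaryAbelian 2 (Cfsg.pCore 2 G)) :
    ∀ E : Set G, Cfsg.IsThreeTranspositionClass E → E = D := by
  intro E hE
  haveI : IsMulCommutative (Cfsg.pCore 2 G) := hV.1
  haveI hn : (Cfsg.pCore 2 G).Normal := inferInstance
  refine ThreeTransUnique73.eq_class (V := Cfsg.pCore 2 G)
    ⟨fun a ha => by simpa [pow_two] using hV.2 a ha, fun g hg => ?_, fun g hg => ?_,
      fun g hg => hg, fun h2 => ?_⟩ hD hE
  · have := ComponentsFitting.centralizer_gen_le (G := G)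
    rw [hF] at this
    exact this (Subgroup.mem_centralizer_iff.mpr fun v hv => (hg v hv).symm)
  · have : g ∈ Subgroup.center G := Subgroup.mem_center_iff.mpr hg
    rwa [hZ, Subgroup.mem_bot] at this
  · obtain ⟨d, hd, -⟩ := hD.2.1
    haveI : Nontrivial G := ⟨d, 1, ThreeTrans.ne_one hD.1 hd⟩
    haveI : Fact (Nat.Prime 2) := ⟨Nat.prime_two⟩
    haveI := h2.center_nontrivial
    obtain ⟨⟨a, ha⟩, ⟨b, hb⟩, hab⟩ := exists_pair_ne ↥(Subgroup.center G)
    rw [hZ, Subgroup.mem_bot] at ha hb
    exact hab (Subtype.ext (ha.trans hb.symm))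

end Cfsg.Agent.S5558
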