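import Cfsg.Statements.S5559
import Cfsg.Agent.S4218
import Cfsg.Agent.Lib.ComponentsFitting
import Cfsg.Agent.Lib.ThreeTrans
import Cfsg.Agent.Lib.PGroupsBasic
import Cfsg.Agent.Lib.TwoThreeTwo65
import Cfsg.Agent.Lib.SU3TwoDerived65

set_option autoImplicit false
set_option linter.all false
open Cfsg

namespace Cfsg.Agent.S5559

/-- The action of the quotient by `O₂` on its Frattini quotient. -/
theorem exists_action {H : Type*} [Group H] [Finite H]
    (hc : Subgroup.centralizer (Cfsg.pCore 2 H : Set H) ≤ Cfsg.pCore 2 H)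
    [(Cfsg.pCore 2 H).Normal] :
    ∃ φ : H ⧸ Cfsg.pCore 2 H →* MulAut (↥(Cfsg.pCore 2 H) ⧸ frattini ↥(Cfsg.pCore 2 H)),
      Function.Injective φ ∧ ∀ (h : H) (o : Cfsg.pCore 2 H),
        φ h (o : ↥(Cfsg.pCore 2 H) ⧸ frattini ↥(Cfsg.pCore 2 H)) =
          ((MulAut.conjNormal h o : Cfsg.pCore 2 H) :
            ↥(Cfsg.pCore 2 H) ⧸ frattini ↥(Cfsg.pCore 2 H)) := by
  haveI : Fact (Nat.Prime 2) := ⟨Nat.prime_two⟩
  set O := Cfsg.pCore 2 H
  have hOp : IsPGroup 2 O := Cfsg.Agent.HallCore.isPGroup_pCore 2 H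
  have hcomm := (Cfsg.Agent.PGroupsBasic.quotient_frattini_elementary hOp).1
  have hmap : ∀ h : H, (frattini ↥O).map (MulAut.conjNormal h : MulAut O).toMonoidHom =
      frattini ↥O :=
    fun h => Subgroup.characteristic_iff_map_eq.mp inferInstance _
  let act : H →* MulAut (↥O ⧸ frattini ↥O) :=
    { toFun := fun h => QuotientGroup.congr _ _ (MulAut.conjNormal h : MulAut O) (hmap h)
      map_one' := MulEquiv.ext fun v => by
        obtain ⟨o, rfl⟩ := QuotientGroup.mk_surjective v
        show (((MulAut.conjNormal (1 : H) : MulAut O) o : O) : ↥O ⧸ frattini ↥O) = _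
        rw [map_one]; rfl
      map_mul' := fun a b => MulEquiv.ext fun v => by
        obtain ⟨o, rfl⟩ := QuotientGroup.mk_surjective v
        show (((MulAut.conjNormal (a * b) : MulAut O) o : O) : ↥O ⧸ frattini ↥O) = _
        rw [map_mul]; rfl }
  have hker : ∀ h, act h = 1 ↔ h ∈ O := by
    intro h
    constructor
    · intro h1
      refine Cfsg.Agent.S4218.mem_pCore_of_trivial_frattini hc ?_
      intro y hy
      have h2 : ((MulAut.conjNormal h ⟨y, hy⟩ : O) : ↥O ⧸ frattini ↥O) =
          ((⟨y, hy⟩ : O) : ↥O ⧸ frattini ↥O) :=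
        DFunLike.congr_fun h1 ((⟨y, hy⟩ : O) : ↥O ⧸ frattini ↥O)
      rw [← div_eq_one, ← QuotientGroup.mk_div, QuotientGroup.eq_one_iff] at h2
      exact ⟨_, h2, by simp [div_eq_mul_inv]⟩
    · intro hh
      refine MulEquiv.ext fun v => ?_
      obtain ⟨o, rfl⟩ := QuotientGroup.mk_surjective v
      show (((MulAut.conjNormal h : MulAut O) o : O) : ↥O ⧸ frattini ↥O) = _
      rw [show (MulAut.conjNormal h : MulAut O) o = ⟨h, hh⟩ * o * (⟨h, hh⟩ : O)⁻¹ from
        Subtype.ext (by simp), QuotientGroup.mk_mul, QuotientGroup.mk_mul, QuotientGroup.mk_inv,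
        hcomm (((⟨h, hh⟩ : O)) : ↥O ⧸ frattini ↥O), mul_inv_cancel_right]
      rfl
  refine ⟨QuotientGroup.lift O act fun o ho => (hker o).mpr ho, ?_, fun h o => rfl⟩
  rw [injective_iff_map_eq_one]
  intro g hg
  obtain ⟨g, rfl⟩ := QuotientGroup.mk_surjective g
  exact (QuotientGroup.eq_one_iff g).mpr ((hker g).mp hg)

/-- Let H be a finite group generated by a conjugacy class E of 3-transpositions with at least two members, with F*(H) = O₂(H), and such that H/O₂(H) has a normal Sylow 3-subgroup of 2-power index (that is, H = O_{2,3,2}(H)). Then H/O₂(H) is isomorphic to the symmetric group of degree 3 or to the derived group of SU₃(2) (of order 54). -/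
theorem result {H : Type*} [Group H] [Finite H] {E : Set H} (hE : Cfsg.IsThreeTranspositionClass E)
    (hE2 : ∃ a ∈ E, ∃ b ∈ E, a ≠ b) (hF : Cfsg.generalizedFittingSubgroup H = Cfsg.pCore 2 H)
    (h232 : ∃ P : Sylow 3 (H ⧸ Cfsg.pCore 2 H), (P : Subgroup (H ⧸ Cfsg.pCore 2 H)).Normal ∧
      ∃ k : ℕ, (P : Subgroup (H ⧸ Cfsg.pCore 2 H)).index = 2 ^ k) :
    Nonempty (H ⧸ Cfsg.pCore 2 H ≃* Equiv.Perm (Fin 3)) ∨
      ∃ (F : Type) (_ : Field F) (_ : Fintype F), Fintype.card F = 4 ∧
        Nonempty (H ⧸ Cfsg.pCore 2 H ≃* ↥(commutator ↥(Cfsg.SU 3 F 2))) := by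
  haveI hp2 : Fact (Nat.Prime 2) := ⟨Nat.prime_two⟩
  haveI hQn : (Cfsg.pCore 2 H).Normal := inferInstance
  obtain ⟨P₀, hPn, k₀, hk₀⟩ := h232
  set Q := Cfsg.pCore 2 H
  set X := H ⧸ Q
  set π := QuotientGroup.mk' Q with hπ
  have hEs : Cfsg.IsThreeTranspositionSet E := hE.1
  have hQp : IsPGroup 2 Q := Cfsg.Agent.HallCore.isPGroup_pCore 2 H
  have hc : Subgroup.centralizer (Q : Set H) ≤ Q := by
    have := Cfsg.Agent.ComponentsFitting.centralizer_gen_le (G := H)
    rwa [hF] at this
  obtain ⟨d₀, hd₀, hEd⟩ := hE.2.1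
  have hconj : ∀ g : H, ∀ e ∈ E, g * e * g⁻¹ ∈ E := by
    intro g e he
    rw [hEd] at he ⊢
    exact IsConj.trans he (isConj_iff.2 ⟨g, rfl⟩)
  have sq : ∀ e ∈ E, e * e = 1 := fun e he => Cfsg.Agent.ThreeTrans.mul_self hEs he
  have inv : ∀ e ∈ E, e⁻¹ = e := fun e he => Cfsg.Agent.ThreeTrans.inv_self hEs he
  have small : ∀ r : H, r ∈ Q → r ^ 3 = 1 → r = 1 := by
    intro r hr h3
    obtain ⟨n, hn⟩ := hQp ⟨r, hr⟩
    have hn' : r ^ 2 ^ n = 1 := congrArg Subtype.val hn
    have hg := pow_gcd_eq_one.mpr ⟨h3, hn'⟩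
    simpa [Nat.Coprime.gcd_eq_one (Nat.Coprime.pow_right n (by decide : Nat.Coprime 3 2))] using hg
  obtain ⟨d, hdE, hdQ⟩ : ∃ d ∈ E, d ∉ Q := by
    obtain ⟨a, ha, -⟩ := id hE2
    obtain ⟨b, hb, hab⟩ := Cfsg.Agent.ThreeTrans.exists_not_commute hE hE2 ha
    by_contra hall
    push Not at hall
    apply hab
    have h1 : a * b = 1 := small _ (mul_mem (hall a ha) (hall b hb))
      (Cfsg.Agent.ThreeTrans.cube_of_not_commute hEs ha hb hab)
    rw [eq_inv_of_mul_eq_one_right h1, inv a ha]
  set D : X := π d with hD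
  have hDD : D * D = 1 := by rw [hD, ← map_mul, sq d hdE, map_one]
  have hD1 : D ≠ 1 := fun h => hdQ ((QuotientGroup.eq_one_iff d).1 h)
  set P : Subgroup X := (P₀ : Subgroup X) with hP
  haveI : P.Normal := hPn
  haveI : Fact (Nat.Prime 3) := ⟨Nat.prime_three⟩
  have hP3 : IsPGroup 3 P := P₀.isPGroup'
  -- all members of the class have the same image modulo P
  set ψ := (QuotientGroup.mk' P).comp π with hψ
  have hψs : Function.Surjective ψ :=
    (QuotientGroup.mk'_surjective P).comp (QuotientGroup.mk'_surjective Q)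
  have hYcomm : ∀ a ∈ E, ∀ b ∈ E, Commute (ψ a) (ψ b) := by
    intro a ha b hb
    by_cases hab : Commute a b
    · exact hab.map ψ
    have h3 := congrArg ψ (Cfsg.Agent.ThreeTrans.cube_of_not_commute hEs ha hb hab)
    rw [map_pow, map_one] at h3
    have h2 : ψ (a * b) ^ 2 ^ k₀ = 1 := by
      rw [← hk₀]; exact pow_card_eq_one'
    have hg := pow_gcd_eq_one.mpr ⟨h3, h2⟩
    have h1 : ψ (a * b) = 1 := by
      simpa [Nat.Coprime.gcd_eq_one (Nat.Coprime.pow_right k₀ (by decide : Nat.Coprime 3 2))]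
        using hg
    rw [map_mul] at h1
    rw [eq_inv_of_mul_eq_one_right h1]
    exact (Commute.refl _).inv_right
  have hYab : ∀ g : H, ∀ a ∈ E, Commute (ψ g) (ψ a) := by
    intro g a ha
    have hg : g ∈ Subgroup.closure E := hE.2.2 ▸ Subgroup.mem_top g
    induction hg using Subgroup.closure_induction with
    | mem x hx => exact hYcomm x hx a ha
    | one => rw [map_one]; exact Commute.one_left _
    | mul x y _ _ hx hy => rw [map_mul]; exact hx.mul_left hy
    | inv x _ hx => rw [map_inv]; exact hx.inv_left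
  have hsame : ∀ e ∈ E, π e * D ∈ P := by
    intro e he
    have hde : IsConj d e := by
      rw [hEd] at hdE he
      exact (IsConj.symm hdE).trans he
    obtain ⟨g, rfl⟩ := isConj_iff.1 hde
    have h : ψ (g * d * g⁻¹) = ψ d := by
      rw [map_mul, map_mul, (hYab g d hdE).eq, map_inv, mul_inv_cancel_right]
    rw [← QuotientGroup.eq_one_iff (N := P), QuotientGroup.mk_mul]
    show ψ (g * d * g⁻¹) * ψ d = 1
    rw [h, ← map_mul, sq d hdE, map_one]
  have hgenX : ∀ K : Subgroup X, (∀ e ∈ E, π e ∈ K) → K = ⊤ := by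
    intro K hK
    rw [eq_top_iff]
    intro g _
    obtain ⟨g, rfl⟩ := QuotientGroup.mk'_surjective Q g
    have hle : Subgroup.closure E ≤ K.comap π := (Subgroup.closure_le _).2 hK
    exact hle (hE.2.2 ▸ Subgroup.mem_top g)
  have hinvS : ∀ e ∈ E, D * (π e * D) * D = (π e * D)⁻¹ := by
    intro e he
    have hee : (π e)⁻¹ = π e := by rw [← map_inv, inv e he]
    rw [mul_inv_rev, hee, inv_eq_of_mul_eq_one_left hDD, mul_assoc (D), mul_assoc (π e), hDD,
      mul_one]
  have htop : P ⊔ Subgroup.zpowers D = ⊤ := hgenX _ fun e he => by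
    have : π e = π e * D * D := by rw [mul_assoc, hDD, mul_one]
    rw [this]
    exact mul_mem (Subgroup.mem_sup_left (hsame e he))
      (Subgroup.mem_sup_right (Subgroup.mem_zpowers D))
  have hDP : D ∉ P := by
    intro h
    apply hD1
    obtain ⟨n, hn⟩ := hP3 ⟨D, h⟩
    have hn' : D ^ 3 ^ n = 1 := congrArg Subtype.val hn
    have hg := pow_gcd_eq_one.mpr ⟨(pow_two D).trans hDD, hn'⟩
    simpa [Nat.Coprime.gcd_eq_one (Nat.Coprime.pow_right n (by decide : Nat.Coprime 2 3))] using hg
  set S : Set X := {x | x ∈ P ∧ D * x * D = x⁻¹}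
  have hgen : P ≤ Subgroup.closure S := by
    set C := Subgroup.closure S
    have hCP : C ≤ P := (Subgroup.closure_le _).2 fun x hx => hx.1
    have hCD : ∀ c ∈ C, D * c * D ∈ C := by
      intro c hc
      induction hc using Subgroup.closure_induction with
      | mem x hx => rw [hx.2]; exact inv_mem (Subgroup.subset_closure hx)
      | one => rw [mul_one, hDD]; exact one_mem _
      | mul x y _ _ hx hy =>
        rw [show D * (x * y) * D = D * x * D * (D * y * D) by
          simp only [mul_assoc]; rw [← mul_assoc D D, hDD, one_mul]]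
        exact mul_mem hx hy
      | inv x _ hx =>
        rw [show D * x⁻¹ * D = (D * x * D)⁻¹ by
          rw [mul_inv_rev, mul_inv_rev, inv_eq_of_mul_eq_one_left hDD, mul_assoc]]
        exact inv_mem hx
    let L : Subgroup X :=
      { carrier := {g | g ∈ C ∨ g * D ∈ C}
        one_mem' := Or.inl (one_mem C)
        mul_mem' := by
          rintro g k (hg | hg) (hk | hk)
          · exact Or.inl (mul_mem hg hk)
          · exact Or.inr (by rw [mul_assoc]; exact mul_mem hg hk)
          · refine Or.inr ?_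
            have := mul_mem hg (hCD k hk)
            rwa [show g * D * (D * k * D) = g * k * D by
              simp only [mul_assoc]; rw [← mul_assoc D D, hDD, one_mul]] at this
          · refine Or.inl ?_
            have := mul_mem hg (hCD _ hk)
            rwa [show g * D * (D * (k * D) * D) = g * k by
              simp only [mul_assoc]; rw [← mul_assoc D D, hDD, one_mul, mul_one]] at this
        inv_mem' := by
          rintro g (hg | hg)
          · exact Or.inl (inv_mem hg)
          · refine Or.inr ?_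
            have := hCD _ (inv_mem hg)
            rwa [show D * (g * D)⁻¹ * D = g⁻¹ * D by
              rw [mul_inv_rev, inv_eq_of_mul_eq_one_left hDD, ← mul_assoc, hDD, one_mul]] at this }
    have hL : L = ⊤ := hgenX L fun e he =>
      Or.inr (Subgroup.subset_closure ⟨hsame e he, hinvS e he⟩)
    intro p hp
    rcases (hL ▸ Subgroup.mem_top p : p ∈ L) with h | h
    · exact h
    · exfalso
      apply hDP
      have := mul_mem (inv_mem hp) (hCP h)
      rwa [inv_mul_cancel_left] at this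
  -- inverted elements as products of two members
  have hlift : ∀ x ∈ P, D * x * D = x⁻¹ → ∃ e ∈ E, π e = x * D := by
    intro x hx hxinv
    obtain ⟨m, hm⟩ := exists_pow_eq_self_of_coprime
      (Nat.coprime_two_left.2 (Cfsg.Agent.TwoThreeTwo65.odd_orderOf hP3 hx))
    obtain ⟨g, hg⟩ := QuotientGroup.mk'_surjective Q (x ^ m)
    refine ⟨g * d * g⁻¹, hconj g d hdE, ?_⟩
    have hy : D * x ^ m * D = (x ^ m)⁻¹ := by
      have h := conj_pow (i := m) (a := D) (b := x)
      rw [inv_eq_of_mul_eq_one_left hDD, hxinv, inv_pow] at h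
      exact h.symm
    have hy2 : x ^ m * x ^ m = x := by
      rw [← pow_add, ← two_mul, pow_mul]; exact hm
    rw [map_mul, map_mul, map_inv, hπ, hg]
    show x ^ m * D * (x ^ m)⁻¹ = x * D
    rw [← hy, mul_assoc D, ← mul_assoc (x ^ m * D) D, mul_assoc (x ^ m) D D, hDD, mul_one,
      ← mul_assoc, hy2]
  have hcube : ∀ x ∈ P, D * x * D = x⁻¹ → x ^ 3 = 1 := by
    intro x hx hxinv
    obtain ⟨e, he, hed⟩ := hlift x hx hxinv
    have hx' : π (e * d) = x := by rw [map_mul, hed, ← hD, mul_assoc, hDD, mul_one]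
    rcases hEs.2 e he d hdE with h | h
    · have h2 := congrArg π h
      rw [map_pow, hx', map_one] at h2
      rw [Cfsg.Agent.TwoThreeTwo65.eq_one_of_inv_eq hP3 hx
        (inv_eq_of_mul_eq_one_left (by rw [← pow_two]; exact h2)), one_pow]
    · have h3 := congrArg π h
      rwa [map_pow, hx', map_one] at h3
  obtain ⟨θ, hθ, hθap⟩ := exists_action (H := H) hc
  have hVel := Cfsg.Agent.PGroupsBasic.quotient_frattini_elementary hQp
  letI : CommGroup (↥Q ⧸ frattini ↥Q) := { (inferInstance : Group (↥Q ⧸ frattini ↥Q)) with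
    mul_comm := hVel.1 }
  have hV : ∀ v : ↥Q ⧸ frattini ↥Q, v * v = 1 := fun v => by rw [← pow_two]; exact hVel.2 v
  have hkey : ∀ x ∈ P, D * x * D = x⁻¹ → x ≠ 1 →
      ∀ v : ↥Q ⧸ frattini ↥Q, θ x v = v → θ D v = v := by
    intro x hx hxinv hx1 v hv
    obtain ⟨e, he, hed⟩ := hlift x hx hxinv
    obtain ⟨⟨q, hq⟩, rfl⟩ := QuotientGroup.mk_surjective v
    have hx' : π (e * d) = x := by rw [map_mul, hed, ← hD, mul_assoc, hDD, mul_one]
    have hq1 : π q = 1 := (QuotientGroup.eq_one_iff q).2 hq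
    set e' := q * d * q⁻¹
    have he' : e' ∈ E := hconj q d hdE
    have hx'' : π (e * e') = x := by
      rw [map_mul, map_mul, map_mul, map_inv, hq1, one_mul, inv_one, mul_one, ← map_mul]
      exact hx'
    have hne2 : ¬ x ^ 2 = 1 := fun h => hx1 (Cfsg.Agent.TwoThreeTwo65.eq_one_of_inv_eq hP3 hx
      (inv_eq_of_mul_eq_one_left (by rw [← pow_two]; exact h)))
    have hu : (e * d) ^ 3 = 1 := by
      rcases hEs.2 e he d hdE with h | h
      · exact absurd (by have h2 := congrArg π h; rwa [map_pow, hx', map_one] at h2) hne2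
      · exact h
    have huw : (e * e') ^ 3 = 1 := by
      rcases hEs.2 e he e' he' with h | h
      · exact absurd (by have h2 := congrArg π h; rwa [map_pow, hx'', map_one] at h2) hne2
      · exact h
    set u := e * d with hudef
    let w : Q := (MulAut.conjNormal d ⟨q, hq⟩ : Q) * (⟨q, hq⟩ : Q)⁻¹
    have hw : e * e' = u * (w : H) := by
      simp only [w, hudef, e', Subgroup.coe_mul, Subgroup.coe_inv, MulAut.conjNormal_apply,
        inv d hdE, mul_assoc]
      rw [← mul_assoc d d, sq d hdE, one_mul]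
    have hprod : (MulAut.conjNormal u w : Q) * MulAut.conjNormal (u * u) w * w = 1 := by
      apply Subtype.ext
      simp only [Subgroup.coe_mul, MulAut.conjNormal_apply, Subgroup.coe_one]
      rw [← huw, hw]
      have u3 : u * (u * u) = 1 := by rw [← hu]; simp [pow_succ, mul_assoc]
      rw [inv_eq_of_mul_eq_one_right u3]
      rw [show (u * u)⁻¹ = u from inv_eq_of_mul_eq_one_left u3]
      simp only [pow_succ, pow_zero, one_mul, mul_assoc]
      congr 2
      simp only [← mul_assoc]
      rw [mul_assoc u u u, u3, one_mul]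
    have hprod' := congrArg (QuotientGroup.mk' (frattini ↥Q)) hprod
    rw [map_mul, map_mul, map_one] at hprod'
    set r : ↥Q ⧸ frattini ↥Q := ((⟨q, hq⟩ : Q) : ↥Q ⧸ frattini ↥Q)
    have hWd : ((w : Q) : ↥Q ⧸ frattini ↥Q) = θ D r * r := by
      show _ = θ (π d) r * r
      rw [show θ (π d) r = ((MulAut.conjNormal d ⟨q, hq⟩ : Q) : ↥Q ⧸ frattini ↥Q) from
        hθap d ⟨q, hq⟩]
      show ((MulAut.conjNormal d ⟨q, hq⟩ : Q) : ↥Q ⧸ frattini ↥Q) * r⁻¹ = _
      rw [inv_eq_of_mul_eq_one_left (hV r)]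
    have hxw : θ x (θ D r * r) = θ D r * r := by
      have h1 : θ x⁻¹ r = r := by
        conv_lhs => rw [← hv]
        show (θ x⁻¹ * θ x) r = r
        rw [← map_mul, inv_mul_cancel, map_one]; rfl
      rw [map_mul, hv]
      congr 1
      have hxD : x * D = D * x⁻¹ := by
        rw [← hxinv, ← mul_assoc, ← mul_assoc, hDD, one_mul]
      show (θ x * θ D) r = θ D r
      rw [← map_mul, hxD, map_mul]
      show θ D (θ x⁻¹ r) = _
      rw [h1]
    have hW : θ D r * r = 1 := by
      set W := θ D r * r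
      have e1 : ((MulAut.conjNormal u w : Q) : ↥Q ⧸ frattini ↥Q) = W := by
        rw [← hθap u w, hWd]; exact (congrArg (fun g => θ g W) hx').trans hxw
      have e2 : ((MulAut.conjNormal (u * u) w : Q) : ↥Q ⧸ frattini ↥Q) = W := by
        rw [← hθap (u * u) w, hWd]
        refine (congrArg (fun g => θ g W) (show π (u * u) = x * x by rw [map_mul, hx'])).trans ?_
        have h := map_mul θ x x
        rw [h]
        show θ x (θ x W) = W
        rw [hxw, hxw]
      simp only [QuotientGroup.mk'_apply, e1, e2, hWd] at hprod'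
      rwa [hV, one_mul] at hprod'
    exact (eq_inv_of_mul_eq_one_left hW).trans (inv_eq_of_mul_eq_one_left (hV r))
  let T : Cfsg.Agent.TwoThreeTwo65.Setting X (↥Q ⧸ frattini ↥Q) :=
    ⟨θ, hθ, hV, P, inferInstance, hP3, D, hDD, hD1, hcube, hgen, htop, hkey⟩
  have hPne : P ≠ ⊥ := by
    intro hbot
    obtain ⟨a, ha, -⟩ := id hE2
    obtain ⟨b, hb, hab⟩ := Cfsg.Agent.ThreeTrans.exists_not_commute hE hE2 ha
    apply hab
    have h1 : a * b = 1 := by
      refine small _ ?_ (Cfsg.Agent.ThreeTrans.cube_of_not_commute hEs ha hb hab)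
      have hz : π (a * b) = 1 := by
        have ha' := hsame a ha
        have hb' := hsame b hb
        rw [hbot, Subgroup.mem_bot] at ha' hb'
        rw [map_mul, eq_inv_of_mul_eq_one_left ha', eq_inv_of_mul_eq_one_left hb',
          inv_eq_of_mul_eq_one_left hDD, hDD]
      exact (QuotientGroup.eq_one_iff _).1 hz
    rw [eq_inv_of_mul_eq_one_right h1, inv a ha]
  rcases T.exists_data hPne with h3 | ⟨data⟩
  · left
    have h3' : Nat.card P = 3 := h3
    obtain ⟨x, hx⟩ := isCyclic_iff_exists_zpowers_eq_top.1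
      (isCyclic_of_prime_card (p := 3) h3' : IsCyclic P)
    refine Cfsg.Agent.TwoThreeTwo65.nonempty_perm_three ?_ (x := (x : X)) hDD hD1 ?_
    · have hdis : P ⊓ Subgroup.zpowers D = ⊥ := by
        rw [eq_bot_iff]
        rintro g ⟨hg, hg'⟩
        obtain ⟨n, rfl⟩ := Subgroup.mem_zpowers_iff.1 hg'
        rcases Int.even_or_odd n with ⟨m, rfl⟩ | ⟨m, rfl⟩
        · rw [Subgroup.mem_bot, zpow_add, ← (Commute.refl D).mul_zpow, hDD, one_zpow]
        · rw [zpow_add_one, zpow_mul, zpow_ofNat, pow_two, hDD, one_zpow, one_mul] at hg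
          exact absurd hg hDP
      have := Cfsg.Agent.PGroupsBasic.card_sup_of_normal hdis
      rw [htop, Subgroup.card_top, h3', Nat.card_zpowers,
        orderOf_eq_prime ((pow_two D).trans hDD) hD1] at this
      simpa using this
    · intro hDx
      obtain ⟨s, hs, hs1⟩ : ∃ s ∈ S, s ≠ 1 := by
        by_contra h
        push Not at h
        exact hPne (le_bot_iff.1 (hgen.trans ((Subgroup.closure_le _).2 fun s hs => h s hs)))
      obtain ⟨n, hn⟩ := Subgroup.mem_zpowers_iff.1 (hx ▸ Subgroup.mem_top (⟨s, hs.1⟩ : P))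
      have hn' : (x : X) ^ n = s := by simpa using congrArg Subtype.val hn
      have hc' : Commute D s := hn' ▸ hDx.zpow_right n
      have hds := hs.2
      rw [hc'.eq, mul_assoc, hDD, mul_one] at hds
      exact hs1 (Cfsg.Agent.TwoThreeTwo65.eq_one_of_inv_eq hP3 hs.1 hds.symm)
  · right
    refine ⟨GaloisField 2 2, inferInstance, Fintype.ofFinite _, ?_⟩
    letI : Fintype (GaloisField 2 2) := Fintype.ofFinite _
    have h4 : Fintype.card (GaloisField 2 2) = 4 := by
      rw [Fintype.card_eq_nat_card, GaloisField.card 2 2 two_ne_zero]; rfl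
    refine ⟨h4, ?_⟩
    haveI : Cfsg.Agent.UnitaryF4Geo.FourField (GaloisField 2 2) := ⟨h4⟩
    obtain ⟨data'⟩ := Cfsg.Agent.SU3TwoDerived65.exists_derived_data (F := GaloisField 2 2)
    obtain ⟨dataX⟩ := data
    exact Cfsg.Agent.TwoThreeTwo65.Data.nonempty_mulEquiv dataX data'


end Cfsg.Agent.S5559
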