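import Cfsg.Statements.S5562
-- import your own Cfsg.Agent.* helpers here

set_option autoImplicit false
open Cfsg

namespace Cfsg.Agent.S5562

/-- Conjugating by an involution preserves conjugates. -/
theorem conj_mem {G : Type*} [Group G] {d a : G} (c : G) (ha : a ∈ conjugatesOf d) :
    c * a * c⁻¹ ∈ conjugatesOf d := by
  exact IsConj.trans (show IsConj d a from ha) (isConj_iff.2 ⟨c, rfl⟩)

/-- Let G be a finite group, d an involution of G whose conjugates pairwise have products of odd order, and x any involution of G. Then the conjugacy class of d is the disjoint union, over the conjugates a of d commuting with x, of the sets of conjugates of d commuting with ax: every conjugate of d commutes with ax for exactly one conjugate a of d that commutes with x. -/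
theorem result {G : Type*} [Group G] [Finite G] (d : G) (hd : orderOf d = 2)
    (hodd : ∀ a ∈ conjugatesOf d, ∀ b ∈ conjugatesOf d, Odd (orderOf (a * b)))
    (x : G) (hx : orderOf x = 2) :
    ∀ e ∈ conjugatesOf d,
      ∃! a : G, a ∈ conjugatesOf d ∧ Commute a x ∧ Commute e (a * x) := by
  classical
  have inv : ∀ a ∈ conjugatesOf d, a * a = 1 := by
    intro a ha
    obtain ⟨c, rfl⟩ := isConj_iff.1 (show IsConj d a from ha)
    have h : d * d = 1 := by rw [← pow_two, ← hd]; exact pow_orderOf_eq_one d
    calc c * d * c⁻¹ * (c * d * c⁻¹) = c * (d * d) * c⁻¹ := by group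
      _ = 1 := by rw [h]; group
  have hxx : x * x = 1 := by rw [← pow_two, ← hx]; exact pow_orderOf_eq_one x
  have xinv : x⁻¹ = x := inv_eq_of_mul_eq_one_left hxx
  intro e he
  have hee := inv e he
  have einv : e⁻¹ = e := inv_eq_of_mul_eq_one_left hee
  -- uniqueness of the conjugate swapping e and e'
  have uniq : ∀ e' : G, ∀ a ∈ conjugatesOf d, ∀ b ∈ conjugatesOf d,
      a * e * a⁻¹ = e' → b * e * b⁻¹ = e' → a = b := by
    intro e' a ha b hb hae hbe
    have haa := inv a ha
    have hbb := inv b hb
    have ainv : a⁻¹ = a := inv_eq_of_mul_eq_one_left haa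
    have binv : b⁻¹ = b := inv_eq_of_mul_eq_one_left hbb
    set t := b * a with ht
    have hte : Commute t e := by
      have : b⁻¹ * (a * e * a⁻¹) * b = e := by rw [hae, ← hbe]; group
      show b * a * e = e * (b * a)
      rw [binv, ainv] at this
      calc b * a * e = b * (a * e * a) * b * (b * a) := by
            simp only [mul_assoc]; rw [← mul_assoc b b, hbb, one_mul, haa, mul_one]
        _ = e * (b * a) := by rw [this]
    have hat : a * t * a⁻¹ = t⁻¹ := by
      rw [ht, mul_inv_rev, ainv, binv]
      simp only [mul_assoc, haa, mul_one]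
    -- u = a * e inverts t and has odd order
    have hut : ∀ n : ℕ, (a * e) ^ n * t * ((a * e) ^ n)⁻¹ = if Even n then t else t⁻¹ := by
      intro n
      induction n with
      | zero => simp
      | succ n ih =>
        rw [pow_succ', mul_inv_rev]
        have : a * e * (a * e) ^ n * t * (((a * e) ^ n)⁻¹ * (a * e)⁻¹)
            = a * (e * ((a * e) ^ n * t * ((a * e) ^ n)⁻¹) * e⁻¹) * a⁻¹ := by group
        rw [this, ih]
        by_cases hn : Even n
        · rw [if_pos hn, if_neg (by simp [Nat.even_add_one, hn]),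
            ← hte.eq, mul_inv_cancel_right, hat]
        · rw [if_neg hn, if_pos (by simp [Nat.even_add_one, hn]),
            ← (hte.inv_left).eq, mul_inv_cancel_right]
          calc a * t⁻¹ * a⁻¹ = (a * t * a⁻¹)⁻¹ := by group
            _ = t := by rw [hat, inv_inv]
    have hn := hut (orderOf (a * e))
    rw [pow_orderOf_eq_one, one_mul, inv_one, mul_one,
      if_neg (Nat.not_even_iff_odd.2 (hodd a ha e he))] at hn
    have h2 : t ^ 2 = 1 := by rw [pow_two]; nth_rewrite 1 [hn]; simp
    have hord : Odd (orderOf t) := hodd b hb a ha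
    have hdvd : orderOf t ∣ 2 := orderOf_dvd_of_pow_eq_one h2
    have h1 : orderOf t = 1 := by
      rcases (Nat.dvd_prime Nat.prime_two).1 hdvd with h | h
      · exact h
      · rw [h] at hord; exact absurd hord (by decide)
    have ht1 : b * a = 1 := orderOf_eq_one_iff.1 h1
    calc a = (b * b) * a := by rw [hbb, one_mul]
      _ = b := by rw [mul_assoc, ht1, mul_one]
  -- existence
  set e' := x * e * x⁻¹ with he'
  have he'm : e' ∈ conjugatesOf d := conj_mem x he
  have he'e' := inv e' he'm
  obtain ⟨k, hk⟩ := hodd e he e' he'm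
  set r := e * e' with hr
  have hrk : r ^ (2 * k + 1) = 1 := by rw [← hk]; exact pow_orderOf_eq_one r
  -- conjugates e * r ^ (2 j)
  have hj : ∀ n : ℕ, e * r ^ n = (r ^ n)⁻¹ * e := by
    intro n
    induction n with
    | zero => simp
    | succ n ih =>
      rw [pow_succ, ← mul_assoc, ih, mul_inv_rev, hr, mul_inv_rev, einv,
        inv_eq_of_mul_eq_one_left he'e']
      have hc : Commute (e' * e) (((e * e') ^ n)⁻¹) := by
        have h : e' * e = (e * e')⁻¹ := by
          rw [mul_inv_rev, einv, inv_eq_of_mul_eq_one_left he'e']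
        rw [h]
        exact ((Commute.refl (e * e')).pow_right n).inv_inv
      calc ((e * e') ^ n)⁻¹ * e * (e * e') = ((e * e') ^ n)⁻¹ * e' := by
            rw [mul_assoc, ← mul_assoc e e e', hee, one_mul]
        _ = ((e * e') ^ n)⁻¹ * (e' * e) * e := by simp only [mul_assoc, hee, mul_one]
        _ = e' * e * ((e * e') ^ n)⁻¹ * e := by rw [hc.eq]
  set a := e * r ^ (k + 1) with ha
  have ham : a ∈ conjugatesOf d := by
    -- a = r ^ (-j) * e * r ^ j with 2 j ≡ k + 1
    obtain ⟨j, hj'⟩ : ∃ j, r ^ (2 * j) = r ^ (k + 1) := ⟨(k + 1) * (k + 1), by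
      have : 2 * ((k + 1) * (k + 1)) = (2 * k + 1) * (k + 1) + (k + 1) := by ring
      rw [this, pow_add, pow_mul, hrk, one_pow, one_mul]⟩
    have h := conj_mem ((r ^ j)⁻¹) he
    rw [inv_inv, ← hj j, mul_assoc, ← pow_add, ← two_mul, hj'] at h
    exact h
  have hae : a * e * a⁻¹ = e' := by
    rw [inv_eq_of_mul_eq_one_left (inv a ham), ha]
    have h1 : e * r ^ (k + 1) * e = (r ^ (k + 1))⁻¹ := by
      rw [hj, mul_assoc, hee, mul_one]
    calc e * r ^ (k + 1) * e * (e * r ^ (k + 1)) = (r ^ (k + 1))⁻¹ * ((r ^ (k + 1))⁻¹ * e) := by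
          rw [h1, hj]
      _ = ((r ^ (k + 1)) * r ^ (k + 1))⁻¹ * e := by group
      _ = r⁻¹ * e := by
          rw [← pow_add]
          have : (k + 1) + (k + 1) = (2 * k + 1) + 1 := by ring
          rw [this, pow_add, hrk, one_mul, pow_one]
      _ = e' := by rw [hr, mul_inv_rev, einv, inv_eq_of_mul_eq_one_left he'e', mul_assoc, hee, mul_one]
  have hxe' : x * e' * x⁻¹ = e := by
    rw [he', xinv]; simp only [mul_assoc, hxx, mul_one]; rw [← mul_assoc, hxx, one_mul]
  have ainv : a⁻¹ = a := inv_eq_of_mul_eq_one_left (inv a ham)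
  have hax : Commute a x := by
    have h2 : (x * a * x⁻¹) * e * (x * a * x⁻¹)⁻¹ = e' := by
      have hea : a * e' * a⁻¹ = e := by
        rw [← hae, ainv]; simp only [mul_assoc, inv a ham, mul_one]
        rw [← mul_assoc, inv a ham, one_mul]
      have : x * a * x⁻¹ * e * (x * a * x⁻¹)⁻¹ = x * (a * (x⁻¹ * e * x) * a⁻¹) * x⁻¹ := by group
      rw [this]
      have h3 : x⁻¹ * e * x = e' := by rw [he', xinv]
      rw [h3, hea]
    have h := uniq e' _ (conj_mem x ham) a ham h2 hae
    show a * x = x * a
    calc a * x = (x * a * x⁻¹) * x := by rw [h]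
      _ = x * a := by group
  refine ⟨a, ⟨ham, hax, ?_⟩, ?_⟩
  · show e * (a * x) = a * x * e
    calc e * (a * x) = e * a * x := (mul_assoc _ _ _).symm
      _ = a * (a⁻¹ * e * a) * x := by group
      _ = a * (a * e * a⁻¹) * x := by rw [ainv]
      _ = a * x * e := by rw [hae, he']; group
  · rintro b ⟨hb, hbx, hbe⟩
    refine uniq e' b hb a ham ?_ hae
    have h : b * x * e * (b * x)⁻¹ = e := by rw [← hbe.eq]; group
    have binv : b⁻¹ = b := inv_eq_of_mul_eq_one_left (inv b hb)
    calc b * e * b⁻¹ = b * (b * x * e * (b * x)⁻¹) * b⁻¹ := by rw [h]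
      _ = (b * b) * (x * e * x⁻¹) * (b⁻¹ * b⁻¹) := by group
      _ = e' := by rw [binv, inv b hb]; simp [he']

end Cfsg.Agent.S5562
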