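import Cfsg.Statements.S5588
import Cfsg.Agent.Lib.Y432Spider78

set_option autoImplicit false
set_option maxRecDepth 100000
open Cfsg

namespace Cfsg.Agent.S5588

open Cfsg.Agent.CosetCertCore Cfsg.Agent.CosetCertPres Cfsg.Agent.Y432Spider78

/-- Y555 with the spider relation. -/
abbrev P16 : Pres where
  α := Cfsg.Spor.Bimonster.Gen
  gens := [.a, .b1, .c1, .d1, .e1, .f1, .b2, .c2, .d2, .e2, .f2, .b3, .c3, .d3, .e3, .f3]
  dflt := .a
  edges := Cfsg.Spor.Bimonster.edges
  extra := [.pow (.mul (.mul (.mul (.mul (.mul (.mul (.mul (.mul (.gen 0) (.gen 1)) (.gen 2)) (.gen 0)) (.gen 6)) (.gen 7)) (.gen 0)) (.gen 11)) (.gen 12)) 10]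

theorem good16 : P16.Good where
  complete := fun a => by cases a <;> decide
  nodes := fun a => by cases a <;> decide
  symm := fun a b => by cases a <;> cases b <;> decide

theorem invol16 : ∀ x, P16.gg x * P16.gg x = 1 := gg_sq good16

/-- The spider word with the legs in the order `p q r` (given by their first nodes). -/
def spiderWord (p q r : Nat) : List Nat :=
  (List.replicate 10 [0, p, p + 1, 0, q, q + 1, 0, r, r + 1]).flatten

/-- A relator up to inversion. -/
abbrev RelOk16 (w : List Nat) : Prop := w ∈ P16.relWords ∨ w.reverse ∈ P16.relWords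

theorem val_relOk16 {w : List Nat} (h : RelOk16 w) : val P16.gg w = 1 := by
  rcases h with h | h
  · exact val_relWords good16 h
  · have := val_relWords good16 h
    rwa [val_reverse _ invol16, inv_eq_one] at this

theorem comm16 {i j : Nat} (h : RelOk16 [i, j, i, j]) : Commute (P16.gg i) (P16.gg j) := by
  have := val_relOk16 h
  simp only [val_cons, val_nil, mul_one] at this
  show P16.gg i * P16.gg j = P16.gg j * P16.gg i
  calc P16.gg i * P16.gg j
      = P16.gg i * P16.gg j * (P16.gg i * (P16.gg j * (P16.gg j * P16.gg i))) := by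
        rw [← mul_assoc (P16.gg j), invol16, one_mul, invol16, mul_one]
    _ = (P16.gg i * (P16.gg j * (P16.gg i * P16.gg j))) * (P16.gg j * P16.gg i) := by group
    _ = P16.gg j * P16.gg i := by rw [this, one_mul]

theorem swap16 (p q r : Nat)
    (hd : ∀ w ∈ [[p + 1, 0], [q + 1, 0], [r + 1, 0], [p + 1, q + 1], [p + 1, r + 1], [q + 1, r + 1],
      [p + 1, q], [p + 1, r], [q + 1, p], [q + 1, r], [r + 1, p], [r + 1, q]],
      RelOk16 (w ++ w))
    (h : val P16.gg (spiderWord p q r) = 1) : val P16.gg (spiderWord q p r) = 1 := by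
  simp only [List.forall_mem_cons, List.cons_append, List.nil_append] at hd
  obtain ⟨d1, d2, d3, d4, d5, d6, d7, d8, d9, d10, d11, d12, -⟩ := hd
  unfold spiderWord at h ⊢
  rw [val_replicate] at h ⊢
  simp only [val_cons, val_nil, mul_one, ← mul_assoc] at h ⊢
  exact SpiderKill78.spider_swap (invol16 0) (invol16 p) (invol16 _) (invol16 q) (invol16 _) (invol16 r)
    (invol16 _) (comm16 d1) (comm16 d2) (comm16 d3) (comm16 d4) (comm16 d5) (comm16 d6)
    (comm16 d7) (comm16 d8) (comm16 d9) (comm16 d10) (comm16 d11) (comm16 d12) h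

theorem rot16 (p q r : Nat) (h : val P16.gg (spiderWord p q r) = 1) :
    val P16.gg (spiderWord q r p) = 1 := by
  unfold spiderWord at h ⊢
  rw [val_replicate] at h ⊢
  simp only [val_cons, val_nil, mul_one] at h ⊢
  have := SpiderKill78.pow_rot (x := P16.gg 0 * P16.gg p * P16.gg (p + 1))
    (y := P16.gg 0 * (P16.gg q * (P16.gg (q + 1) * (P16.gg 0 * (P16.gg r * P16.gg (r + 1))))))
    (by simpa only [mul_assoc] using h)
  simpa only [mul_assoc] using this

/-- All six spider words. -/
def spiders : List (List Nat) :=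
  [spiderWord 1 6 11, spiderWord 6 11 1, spiderWord 11 1 6,
    spiderWord 6 1 11, spiderWord 1 11 6, spiderWord 11 6 1]

theorem spiders_one : ∀ w ∈ spiders, val P16.gg w = 1 := by
  have h0 : val P16.gg (spiderWord 1 6 11) = 1 := val_relWords good16 (by decide +kernel)
  have h1 := rot16 _ _ _ h0
  have h2 := rot16 _ _ _ h1
  have h3 := swap16 _ _ _ (by decide +kernel) h0
  have h4 := rot16 _ _ _ h3
  have h5 := rot16 _ _ _ h4
  intro w hw
  simp only [spiders, List.mem_cons, List.not_mem_nil, or_false] at hw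
  rcases hw with rfl | rfl | rfl | rfl | rfl | rfl <;> assumption

/-- The end node of an arm as the ninth power of a Coxeter element. -/
theorem arm_eq (σ : List Nat) (f : Nat)
    (hrel : ∀ w ∈ P4.relWords,
      RelOk16 (w.map (fun x => σ.getD x 0)) ∨ w.map (fun x => σ.getD x 0) ∈ spiders)
    (hcomm : ∀ x, x < 10 → x ≠ 7 → RelOk16 [f, σ.getD x 0, f, σ.getD x 0])
    (hbraid : RelOk16 [f, σ.getD 7 0, f, σ.getD 7 0, f, σ.getD 7 0]) :
    P16.gg f = (P16.gg (σ.getD 3 0) * P16.gg (σ.getD 4 0) * P16.gg (σ.getD 2 0) *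
      P16.gg (σ.getD 8 0) * P16.gg (σ.getD 5 0) * P16.gg (σ.getD 1 0) * P16.gg (σ.getD 6 0)) ^ 9 := by
  have h := end_eq (fun x => P16.gg (σ.getD x 0)) (fun x => invol16 _)
    (fun w hw => by
      rw [val_map]
      exact (hrel w hw).elim val_relOk16 (spiders_one _))
    (P16.gg f) (invol16 f) (fun x hx h7 => comm16 (hcomm x hx h7)) (by
      have := val_relOk16 hbraid
      simp only [val_cons, val_nil, mul_one] at this
      rw [← this]
      simp only [pow_succ, pow_zero]
      group)
  rw [h, val_replicate]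
  simp only [val_cons, val_nil, mul_one, mul_assoc]

/-- In the group presented by the sixteen involutions of the Y₅₅₅ Coxeter diagram subject only to the Coxeter relations and the single spider relation (a b₁ c₁ a b₂ c₂ a b₃ c₃)^10 = 1, each of the further relators used in the definitions' presentation of the Bimonster (each end node equals the ninth power of the Coxeter element of a sub-diagram of type E₇) already holds. Equivalently, the Y₅₅₅ diagram with the spider relation alone presents the Bimonster. -/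
theorem result :
    ∀ r ∈ Cfsg.Spor.Bimonster.extra,
      (PresentedGroup.mk (Cfsg.Spor.coxRelators Cfsg.Spor.Bimonster.edges ∪ {r' | r' ∈ [(Cfsg.Spor.Bimonster.a * Cfsg.Spor.Bimonster.b1 * Cfsg.Spor.Bimonster.c1 * Cfsg.Spor.Bimonster.a * Cfsg.Spor.Bimonster.b2 * Cfsg.Spor.Bimonster.c2 * Cfsg.Spor.Bimonster.a * Cfsg.Spor.Bimonster.b3 * Cfsg.Spor.Bimonster.c3) ^ 10]}) r) = 1 := by
  intro r hr
  simp only [Cfsg.Spor.Bimonster.extra, List.mem_cons, List.not_mem_nil, or_false] at hr
  rcases hr with rfl | rfl | rfl | rfl | rfl | rfl | rfl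
  · exact PresentedGroup.one_of_mem (Or.inr (by simp))
  · have h := arm_eq [8, 7, 6, 0, 1, 2, 3, 4, 11, 12] 5 (by decide +kernel) (by decide +kernel) (by decide +kernel)
    simp only [map_mul, map_inv, map_pow]
    exact mul_inv_eq_one.mpr h
  · have h := arm_eq [13, 12, 11, 0, 1, 2, 3, 4, 6, 7] 5 (by decide +kernel) (by decide +kernel) (by decide +kernel)
    simp only [map_mul, map_inv, map_pow]
    exact mul_inv_eq_one.mpr h
  · have h := arm_eq [3, 2, 1, 0, 6, 7, 8, 9, 11, 12] 10 (by decide +kernel) (by decide +kernel) (by decide +kernel)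
    simp only [map_mul, map_inv, map_pow]
    exact mul_inv_eq_one.mpr h
  · have h := arm_eq [13, 12, 11, 0, 6, 7, 8, 9, 1, 2] 10 (by decide +kernel) (by decide +kernel) (by decide +kernel)
    simp only [map_mul, map_inv, map_pow]
    exact mul_inv_eq_one.mpr h
  · have h := arm_eq [3, 2, 1, 0, 11, 12, 13, 14, 6, 7] 15 (by decide +kernel) (by decide +kernel) (by decide +kernel)
    simp only [map_mul, map_inv, map_pow]
    exact mul_inv_eq_one.mpr h
  · have h := arm_eq [8, 7, 6, 0, 11, 12, 13, 14, 1, 2] 15 (by decide +kernel) (by decide +kernel) (by decide +kernel)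
    simp only [map_mul, map_inv, map_pow]
    exact mul_inv_eq_one.mpr h

end Cfsg.Agent.S5588
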