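import Cfsg.Statements.S5594
import Cfsg.Prelude.Def_Spor_Mathieu
-- import your own Cfsg.Agent.* helpers here

set_option autoImplicit false
open Cfsg

namespace Cfsg.Agent.S5594

/-- The coefficients expressing the image of the `t`-th generator under `projInv`. -/
def coeff : ZMod 23 → ℕ := ![8388609, 1392, 738, 1469, 823, 8389121, 1594, 8388974, 1684, 33, 8389018, 8388613, 1992, 129, 8390253, 8388617, 1025, 8388625, 735, 8388673, 8388865, 8390087, 8388611]

/-- A fast copy of `qrWord`. -/
def qw (t : ZMod 23) (p : GolayPt) : ZMod 2 :=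
  match p with
  | none => 0
  | some x => if Nat.testBit 0x5335f (x - t).val then 1 else 0

/-- The 24 generators of the code. -/
def gen (j : Fin 24) : GolayPt → ZMod 2 :=
  if h : (j : ℕ) < 23 then qw (j : ℕ) else 1

theorem qw_eq : ∀ t : ZMod 23, ∀ p : GolayPt, qrWord t p = qw t p := by decide +kernel

theorem image_eq : ∀ t : ZMod 23, ∀ p : GolayPt,
    qw t (projInv p) = ∑ j : Fin 24, if Nat.testBit (coeff t) j then gen j p else 0 := by
  decide +kernel

theorem gen_mem (j : Fin 24) : gen j ∈ golayCode := by
  unfold gen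
  split
  · rw [← funext (qw_eq _)]
    exact Submodule.subset_span (Or.inl ⟨_, rfl⟩)
  · exact Submodule.subset_span (Or.inr rfl)

theorem comp_mem : ∀ w ∈ golayCode, (fun p => w (projInv p)) ∈ golayCode := by
  intro w hw
  induction hw using Submodule.span_induction with
  | mem w hw =>
    rcases hw with ⟨t, rfl⟩ | rfl
    · have : (fun p => qrWord t (projInv p)) =
          ∑ j : Fin 24, if Nat.testBit (coeff t) j then gen j else 0 := by
        funext p
        refine ((qw_eq t (projInv p)).trans (image_eq t p)).trans ?_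
        rw [Finset.sum_apply]
        exact Finset.sum_congr rfl fun j _ => by split <;> rfl
      rw [this]
      exact Submodule.sum_mem _ fun j _ => by
        split
        · exact gen_mem j
        · exact Submodule.zero_mem _
    · exact Submodule.subset_span (Or.inr rfl)
  | zero => exact Submodule.zero_mem _
  | add a b _ _ ha hb => exact Submodule.add_mem _ ha hb
  | smul c a _ ha => exact Submodule.smul_mem _ c ha

theorem invol : ∀ p : GolayPt, projInv (projInv p) = p := by decide +kernel

theorem swap : ∀ p : GolayPt, (projInv p ∈ Spor.squareDodecad) ↔ ¬ p ∈ Spor.squareDodecad := by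
  decide +kernel

theorem dot_dodecad : ∀ w ∈ golayCode, ∑ p, w p * qrWord 0 p = 0 := by
  intro w hw
  induction hw using Submodule.span_induction with
  | mem w hw =>
    rcases hw with ⟨t, rfl⟩ | rfl
    · revert t; decide +kernel
    · decide +kernel
  | zero => simp
  | add a b _ _ ha hb => simp only [Pi.add_apply, add_mul, Finset.sum_add_distrib, ha, hb, add_zero]
  | smul c a _ ha => simp only [Pi.smul_apply, smul_eq_mul, mul_assoc, ← Finset.mul_sum, ha, mul_zero]

theorem card_dodecad : Spor.squareDodecad.card = 12 := by decide +kernel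

/-- Sign change on the dodecad after the permutation `projInv`. -/
def f (x : GolayPt → ℤ) : GolayPt → ℤ :=
  fun i => if i ∈ Spor.squareDodecad then -x (projInv i) else x (projInv i)

theorem f_add (x y : GolayPt → ℤ) : f (x + y) = f x + f y := by
  funext i
  simp only [f, Pi.add_apply]
  split <;> ring

theorem f_f (x : GolayPt → ℤ) : f (f x) = -x := by
  funext i
  simp only [f, invol, swap, Pi.neg_apply]
  by_cases h : i ∈ Spor.squareDodecad <;> simp [h]

theorem support_sub (u v : GolayPt → ZMod 2) :
    support₂ (u + v) = symmDiff (support₂ u) (support₂ v) := by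
  ext i
  have h2 : ∀ a : ZMod 2, a = 0 ∨ a = 1 := by decide
  rcases h2 (u i) with hu | hu <;> rcases h2 (v i) with hv | hv <;>
    simp [support₂, Finset.mem_symmDiff, hu, hv] <;> decide

theorem f_mem_set (x : GolayPt → ℤ) (hx : x ∈ leechSet) : f x ∈ leechLattice := by
  classical
  obtain ⟨m, hpar, hsum, hcls⟩ := hx
  apply AddSubgroup.subset_closure
  have hy : ∀ i, x (projInv i) ≡ m [ZMOD 2] := fun i => hpar _
  have hycls : ∀ k : ℤ, ∃ w ∈ golayCode,
      support₂ w = Finset.univ.filter fun i => x (projInv i) ≡ k [ZMOD 4] := by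
    intro k
    obtain ⟨w, hw, he⟩ := hcls k
    refine ⟨_, comp_mem w hw, ?_⟩
    ext i
    have := Finset.ext_iff.1 he (projInv i)
    simpa [support₂] using this
  refine ⟨m, fun i => ?_, ?_, fun k => ?_⟩
  · have := hy i
    simp only [f, Int.ModEq] at this ⊢
    split <;> omega
  · have hperm : ∑ i, x (projInv i) = ∑ i, x i := Equiv.sum_comp projInv x
    have hf : ∀ i, f x i = x (projInv i) - 2 * (if i ∈ Spor.squareDodecad then x (projInv i) else 0) := by
      intro i
      simp only [f]
      split <;> ring
    simp only [hf]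
    rw [Finset.sum_sub_distrib, ← Finset.mul_sum, hperm, Finset.sum_ite_mem, Finset.univ_inter]
    obtain ⟨w, hw, he⟩ := hycls (m + 2)
    have hev := dot_dodecad w hw
    have hev' : 2 ∣ ((Spor.squareDodecad.filter fun i => x (projInv i) ≡ m + 2 [ZMOD 4]).card) := by
      refine (ZMod.natCast_eq_zero_iff _ 2).1 ?_
      rw [← hev, Finset.card_eq_sum_ones, Nat.cast_sum, Finset.sum_filter,
        ← Finset.univ_inter Spor.squareDodecad, ← Finset.sum_ite_mem]
      refine Finset.sum_congr rfl fun i _ => ?_
      have h1 := Finset.ext_iff.1 he i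
      have h2 : ∀ a : ZMod 2, a = 0 ∨ a = 1 := by decide
      simp only [Spor.squareDodecad, support₂, Finset.mem_filter, Finset.mem_univ, true_and] at h1 ⊢
      rcases h2 (w i) with hu | hu <;> rcases h2 (qrWord 0 i) with hv | hv <;>
        simp [hu, hv] at h1 ⊢ <;> simp [h1]
    have hmod : ∀ i ∈ Spor.squareDodecad,
        x (projInv i) ≡ m + (if x (projInv i) ≡ m + 2 [ZMOD 4] then 2 else 0) [ZMOD 4] := by
      intro i _
      have h1 := hy i
      simp only [Int.ModEq] at h1 ⊢
      by_cases hc : x (projInv i) % 4 = (m + 2) % 4 <;> simp only [hc, if_true, if_false] <;> omega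
    have h12 : (∑ i ∈ Spor.squareDodecad, x (projInv i)) ≡ 0 [ZMOD 4] := by
      have hS : (∑ i ∈ Spor.squareDodecad,
          (m + (if x (projInv i) ≡ m + 2 [ZMOD 4] then (2 : ℤ) else 0))) ≡ 0 [ZMOD 4] := by
        rw [Finset.sum_add_distrib, Finset.sum_const, card_dodecad, ← Finset.sum_filter,
          Finset.sum_const]
        obtain ⟨c, hc⟩ := hev'
        rw [hc]
        simp only [nsmul_eq_mul, Int.ModEq]
        push_cast
        omega
      refine Int.ModEq.trans ?_ hS
      exact Int.ModEq.sum hmod
    simp only [Int.ModEq] at hsum h12 ⊢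
    omega
  · obtain ⟨w, hw, he⟩ := hycls k
    by_cases hk : k ≡ m [ZMOD 2]
    · by_cases hm : m ≡ 0 [ZMOD 2]
      · refine ⟨w, hw, he.trans (Finset.filter_congr fun i _ => ?_)⟩
        have h1 := hy i
        simp only [f, Int.ModEq] at h1 hm ⊢
        split <;> omega
      · refine ⟨w + qrWord 0, Submodule.add_mem _ hw (Submodule.subset_span (Or.inl ⟨0, rfl⟩)), ?_⟩
        rw [support_sub, he]
        ext i
        have h1 := hy i
        rw [show support₂ (qrWord 0) = Spor.squareDodecad from rfl]
        simp only [Finset.mem_symmDiff, Finset.mem_filter, Finset.mem_univ, true_and]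
        simp only [f, Int.ModEq] at h1 hm hk ⊢
        by_cases hc : i ∈ Spor.squareDodecad <;>
          simp only [hc, if_true, if_false, not_true_eq_false, not_false_eq_true, and_false,
            and_true, false_and, true_and, or_false, false_or] <;> omega
    · refine ⟨0, Submodule.zero_mem _, ?_⟩
      ext i
      have h1 := hy i
      simp only [support₂, Pi.zero_apply, ne_eq, not_true_eq_false, Finset.filter_false,
        Finset.notMem_empty, false_iff, Finset.mem_filter, Finset.mem_univ, true_and]
      intro e
      simp only [f, Int.ModEq] at h1 hk e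
      by_cases hc : i ∈ Spor.squareDodecad <;> simp only [hc, if_true, if_false] at e <;> omega

theorem f_mem (x : GolayPt → ℤ) (hx : x ∈ leechLattice) : f x ∈ leechLattice := by
  induction hx using AddSubgroup.closure_induction with
  | mem x hx => exact f_mem_set x hx
  | zero =>
    have : f 0 = 0 := by funext i; simp [f]
    rw [this]; exact zero_mem _
  | add a b _ _ ha hb => rw [f_add]; exact add_mem ha hb
  | neg a _ ha =>
    have : f (-a) = -f a := by funext i; simp only [f, Pi.neg_apply]; split <;> ring
    rw [this]; exact neg_mem ha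

theorem f_norm (x : GolayPt → ℤ) : sqNorm (f x) = sqNorm x := by
  unfold sqNorm
  have : ∀ i, f x i ^ 2 = (fun j => x j ^ 2) (projInv i) := by
    intro i; simp only [f]; split <;> ring
  simp only [this]
  exact Equiv.sum_comp projInv (fun j => x j ^ 2)

/-- The permutation of the lattice given by `f`. -/
def fPerm : Equiv.Perm leechLattice where
  toFun v := ⟨f v, f_mem v v.2⟩
  invFun v := -⟨f v, f_mem v v.2⟩
  left_inv v := Subtype.ext (by simp [f_f])
  right_inv v := by
    apply Subtype.ext
    show f (-(f v.1)) = v.1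
    have : f (-(f v.1)) = -f (f v.1) := by funext i; simp only [f, Pi.neg_apply]; split <;> ring
    rw [this, f_f, neg_neg]

theorem fPerm_mem : fPerm ∈ Co0 :=
  ⟨fun v w => Subtype.ext (f_add v.1 w.1), fun v => f_norm v.1⟩

/-- The automorphism group of the Leech lattice contains the negation map, and the subgroup of order 2 it generates has no complement: the automorphism group is a non-split extension of its quotient by that subgroup (it is not the direct product of a group of order 2 with the first Conway group). -/
theorem result :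
    ∃ n : ↥Cfsg.Co0, (∀ v : ↥Cfsg.leechLattice, ((n • v : ↥Cfsg.leechLattice) : Cfsg.GolayPt → ℤ) = -(v : Cfsg.GolayPt → ℤ)) ∧
    ∀ K : Subgroup ↥Cfsg.Co0, ¬ (Subgroup.zpowers n).IsComplement' K := by
  refine ⟨(⟨fPerm, fPerm_mem⟩ : ↥Co0) * (⟨fPerm, fPerm_mem⟩ : ↥Co0), fun v => ?_, fun K hK => ?_⟩
  · exact f_f v.1
  set g : ↥Co0 := ⟨fPerm, fPerm_mem⟩ with hg
  set n := g * g with hn
  have hnv : ∀ v : leechLattice, ((n : Equiv.Perm leechLattice) v : GolayPt → ℤ) = -v.1 :=
    fun v => f_f v.1
  have hnn : n * n = 1 := by
    refine Subtype.ext (Equiv.ext fun v => Subtype.ext ?_)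
    show ((n : Equiv.Perm leechLattice) ((n : Equiv.Perm leechLattice) v)).1 = v.1
    rw [hnv, hnv, neg_neg]
  have hne : n ≠ 1 := by
    intro h
    let v0 : GolayPt → ℤ := fun i => if i = none then 8 else 0
    have hv0 : v0 ∈ leechLattice := by
      apply AddSubgroup.subset_closure
      refine ⟨0, by decide, by decide, fun k => ?_⟩
      have h4 : ∀ i : GolayPt, v0 i ≡ 0 [ZMOD 4] := by
        intro i
        by_cases hi : i = none <;> simp [v0, hi, Int.ModEq]
      by_cases hk : k ≡ 0 [ZMOD 4]
      · refine ⟨1, Submodule.subset_span (Or.inr rfl), ?_⟩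
        ext i
        simp only [support₂, Finset.mem_filter, Finset.mem_univ, true_and, Pi.one_apply, ne_eq,
          one_ne_zero, not_false_eq_true, true_iff]
        exact (h4 i).trans hk.symm
      · refine ⟨0, Submodule.zero_mem _, ?_⟩
        ext i
        simp only [support₂, Finset.mem_filter, Finset.mem_univ, true_and, Pi.zero_apply, ne_eq,
          not_true_eq_false, false_iff]
        exact fun e => hk (e.symm.trans (h4 i))
    have h0 := hnv ⟨v0, hv0⟩
    rw [h] at h0
    have := congrFun h0 none
    simp [v0] at this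
  have hcen : ∀ k : ↥Co0, Commute n k := by
    intro k
    refine Subtype.ext (Equiv.ext fun v => Subtype.ext ?_)
    show ((n : Equiv.Perm leechLattice) ((k : Equiv.Perm leechLattice) v)).1 =
      ((k : Equiv.Perm leechLattice) ((n : Equiv.Perm leechLattice) v)).1
    have e : (n : Equiv.Perm leechLattice) v = -v := Subtype.ext (hnv v)
    rw [hnv, e]
    have hneg := (AddMonoidHom.mk' (k : Equiv.Perm leechLattice) k.2.1).map_neg v
    exact (congrArg Subtype.val hneg).symm
  obtain ⟨⟨a, k⟩, hak⟩ := hK.2 g
  simp only at hak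
  obtain ⟨i, hi⟩ : ∃ i : ℤ, n ^ i = (a : ↥Co0) := a.2
  have hkk : (k : ↥Co0) * k = n := by
    have h1 : n = ((a : ↥Co0) * a) * ((k : ↥Co0) * k) := by
      rw [← hi]
      refine (show n = g * g from hn).trans ?_
      rw [← hak, ← hi]
      exact (Commute.mul_mul_mul_comm ((hcen k).zpow_left i).symm _ _)
    have h2 : (a : ↥Co0) * a = 1 := by
      rw [← hi, ← zpow_add, ← two_mul, zpow_mul]
      rw [show (n : ↥Co0) ^ (2 : ℤ) = 1 from (zpow_two n).trans hnn, one_zpow]
    rw [h2, one_mul] at h1
    exact h1.symm
  have hmem : n ∈ Subgroup.zpowers n ⊓ K := ⟨Subgroup.mem_zpowers n, hkk ▸ K.mul_mem k.2 k.2⟩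
  rw [hK.isCompl.inf_eq_bot, Subgroup.mem_bot] at hmem
  exact hne hmem

end Cfsg.Agent.S5594
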