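import Cfsg.Statements.S5599
import Cfsg.Agent.Lib.GolayClasses
-- import your own Cfsg.Agent.* helpers here

set_option autoImplicit false
open scoped Pointwise
open Cfsg

namespace Cfsg.Agent.S5599

open Cfsg.Agent.GolayPerm
open scoped Pointwise

theorem mem_pair_cases (g : Equiv.Perm Cfsg.GolayPt)
    (h : g • ({none, some 0} : Finset Cfsg.GolayPt) = {none, some 0}) :
    (g none = none ∧ g (some 0) = some 0) ∨ (g none = some 0 ∧ g (some 0) = none) := by
  have m : ∀ q ∈ ({none, some 0} : Finset Cfsg.GolayPt), g q = none ∨ g q = some 0 := by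
    intro q hq
    have h1 : g • q ∈ g • ({none, some 0} : Finset Cfsg.GolayPt) := Finset.smul_mem_smul_finset hq
    rw [h] at h1
    simpa using h1
  have hne : g none ≠ g (some 0) := fun e => by simpa using g.injective e
  rcases m none (by simp) with a | a <;> rcases m (some 0) (by simp) with b | b
  · exact absurd (a.trans b.symm) hne
  · exact Or.inl ⟨a, b⟩
  · exact Or.inr ⟨a, b⟩
  · exact absurd (a.trans b.symm) hne

/-- In the automorphism group of the length-24 code, the two-point Mathieu group (permutations of the code's group fixing the extra point and the residue 0) has index 2 in the setwise stabiliser of that pair of points, and an element of the code's group interchanging the two points normalises the two-point group and induces on it, by conjugation, an automorphism that is not inner. -/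
theorem result (g : Equiv.Perm Cfsg.GolayPt) (hg : g ∈ Cfsg.M24) (h₁ : g none = some 0) (h₂ : g (some 0) = none) : Cfsg.Spor.M22.relIndex (Cfsg.M24 ⊓ MulAction.stabilizer (Equiv.Perm Cfsg.GolayPt) ({none, some 0} : Finset Cfsg.GolayPt)) = 2 ∧ (∀ x ∈ Cfsg.Spor.M22, g * x * g⁻¹ ∈ Cfsg.Spor.M22) ∧ ¬ ∃ h ∈ Cfsg.Spor.M22, ∀ x ∈ Cfsg.Spor.M22, g * x * g⁻¹ = h * x * h⁻¹ := by
  have hM22 : ∀ x, x ∈ Cfsg.Spor.M22 ↔ x ∈ Cfsg.M24 ∧ x none = none ∧ x (some 0) = some 0 := by
    intro x
    rw [GolayM24.M22_eq, mem_fixList]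
    simp [GolayM24.pt_none, GolayM24.pt_zero]
  set H := Cfsg.M24 ⊓ MulAction.stabilizer (Equiv.Perm Cfsg.GolayPt) ({none, some 0} : Finset Cfsg.GolayPt)
  have hgH : g ∈ H := by
    refine ⟨hg, MulAction.mem_stabilizer_iff.2 ?_⟩
    rw [Finset.smul_finset_insert, Finset.smul_finset_singleton, Equiv.Perm.smul_def,
      Equiv.Perm.smul_def, h₁, h₂, Finset.pair_comm]
  refine ⟨?_, fun x hx => ?_, ?_⟩
  · rw [Subgroup.relIndex, Subgroup.index_eq_two_iff]
    refine ⟨⟨g, hgH⟩, fun b => ?_⟩
    have hb := mem_pair_cases b.1 (MulAction.mem_stabilizer_iff.1 b.2.2)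
    simp only [Subgroup.mem_subgroupOf, Subgroup.coe_mul, hM22]
    rcases hb with ⟨hb1, hb2⟩ | ⟨hb1, hb2⟩
    · exact Or.inr ⟨⟨b.2.1, hb1, hb2⟩, fun h => by
        have := h.2.1
        rw [Equiv.Perm.mul_apply, h₁, hb2] at this
        exact absurd this (by simp)⟩
    · exact Or.inl ⟨⟨mul_mem b.2.1 hg, by rw [Equiv.Perm.mul_apply, h₁, hb2],
        by rw [Equiv.Perm.mul_apply, h₂, hb1]⟩, fun h => by
        have := h.2.1
        rw [hb1] at this
        exact absurd this (by simp)⟩
  · obtain ⟨hxM, hx1, hx2⟩ := (hM22 x).1 hx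
    refine (hM22 _).2 ⟨mul_mem (mul_mem hg hxM) (inv_mem hg), ?_, ?_⟩
    · rw [Equiv.Perm.mul_apply, Equiv.Perm.mul_apply, Equiv.Perm.inv_eq_iff_eq.2 h₂.symm, hx2, h₂]
    · rw [Equiv.Perm.mul_apply, Equiv.Perm.mul_apply, Equiv.Perm.inv_eq_iff_eq.2 h₁.symm, hx1, h₁]
  · rintro ⟨h, hh, hconj⟩
    obtain ⟨hhM, hh1, hh2⟩ := (hM22 h).1 hh
    set z := h⁻¹ * g with hz
    have hzM : z ∈ Cfsg.M24 := mul_mem (inv_mem hhM) hg
    have z1 : z none = some 0 := by
      rw [hz, Equiv.Perm.mul_apply, h₁, Equiv.Perm.inv_eq_iff_eq, hh2]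
    have z2 : z (some 0) = none := by
      rw [hz, Equiv.Perm.mul_apply, h₂, Equiv.Perm.inv_eq_iff_eq, hh1]
    have hzc : ∀ x ∈ Cfsg.Spor.M22, z * x = x * z := by
      intro x hx
      have := hconj x hx
      rw [hz, mul_assoc, show g * x = g * x * g⁻¹ * g by group, this]
      group
    have hfix : ∀ p, p ≠ none → p ≠ some 0 → z p = p := by
      intro p hp hp'
      by_contra hne
      have hq : z p ≠ none := fun e => hp' (z.injective (e.trans z2.symm))
      have hq' : z p ≠ some 0 := fun e => hp (z.injective (e.trans z1.symm))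
      obtain ⟨r, hr⟩ := GolayClasses.exists_notMem [none, some 0, p, z p] (by simp)
      simp only [List.mem_cons, List.not_mem_nil, or_false, not_or] at hr
      have inj : ∀ a b : Cfsg.GolayPt, [none, some 0, p, a, b].Nodup →
          Function.Injective ![none, some 0, p, a, b] := fun a b h => GolayClasses.inj5 h
      have hn : (none : Cfsg.GolayPt) ≠ some 0 := by simp
      have hq2 : z p ≠ p := hne
      obtain ⟨x, hxM, hx⟩ := GolayM24.exists_map_five_five ![none, some 0, p, z p, r]
        ![none, some 0, p, r, z p] (inj _ _ (by simp only [List.nodup_cons, List.mem_cons,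
          List.not_mem_nil, or_false, not_or, List.nodup_nil, and_true, not_false_eq_true]; grind))
        (inj _ _ (by simp only [List.nodup_cons, List.mem_cons, List.not_mem_nil, or_false, not_or,
          List.nodup_nil, and_true, not_false_eq_true]; grind))
      have e : z (x p) = x (z p) := Equiv.congr_fun (hzc x ((hM22 x).2 ⟨hxM, hx 0, hx 1⟩)) p
      rw [show x p = p from hx 2, show x (z p) = r from hx 3] at e
      exact hr.2.2.2 e.symm
    have hsq : z ^ 2 = 1 := Equiv.ext fun p => by
      rw [sq, Equiv.Perm.mul_apply, Equiv.Perm.one_apply]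
      by_cases hp : p = none
      · rw [hp, z1, z2]
      by_cases hp' : p = some 0
      · rw [hp', z2, z1]
      rw [hfix p hp hp', hfix p hp hp']
    have hne : z ≠ 1 := fun e => by rw [e] at z1; simp at z1
    have : Fact (Nat.Prime 2) := ⟨Nat.prime_two⟩
    obtain ⟨r, hr, k, hk⟩ := GolayClasses.exists_conj_two hzM (orderOf_eq_prime hsq hne)
    have hv : valid r = true :=
      valid_of_good (GolayClasses.valid_reps r (by simp at hr ⊢; tauto))
    have hle : ((Finset.univ : Finset Cfsg.GolayPt) \ {none, some 0}).card ≤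
        (Finset.univ.filter fun p => z p = p).card := by
      refine Finset.card_le_card fun p hp => ?_
      simp only [Finset.mem_sdiff, Finset.mem_univ, true_and, Finset.mem_insert,
        Finset.mem_singleton, not_or] at hp
      rw [Finset.mem_filter]
      exact ⟨Finset.mem_univ _, hfix p hp.1 hp.2⟩
    rw [show ((Finset.univ : Finset Cfsg.GolayPt) \ {none, some 0}).card = 22 by decide +kernel,
      ← GolayClasses.card_fixed_conj (k : Equiv.Perm Cfsg.GolayPt) z, hk,
      GolayClasses.card_fixed_permOf hv] at hle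
    simp only [List.mem_cons, List.not_mem_nil, or_false] at hr
    have h0 : (pts.filter fun i => pimg GolayClassData.r2_0 i == i).length = 0 := by decide +kernel
    have h8 : (pts.filter fun i => pimg GolayClassData.r2_8 i == i).length = 8 := by decide +kernel
    rcases hr with rfl | rfl <;> omega

end Cfsg.Agent.S5599
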