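import Cfsg.Statements.S5600
import Cfsg.Agent.Lib.GolaySix
-- import your own Cfsg.Agent.* helpers here

set_option autoImplicit false
open scoped Pointwise
open Cfsg

namespace Cfsg.Agent.S5600

open Cfsg.Agent.GolaySix Cfsg.Agent.GolayBasic
open scoped Pointwise

theorem fix_stab {g : Equiv.Perm Cfsg.GolayPt} {E : Finset Cfsg.GolayPt} (h : ∀ p ∈ E, g p = p) :
    g • E = E := by
  refine Finset.eq_of_subset_of_card_le ?_ (by rw [Finset.card_smul_finset])
  intro p hp
  obtain ⟨q, hq, rfl⟩ := Finset.mem_smul_finset.1 hp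
  rw [Equiv.Perm.smul_def, h q hq]
  exact hq

/-- Although the group of the length-24 code is only 5-transitive on the 24 points, it induces the full symmetric group on every 6-element subset: every permutation of a 6-set E is the restriction of an element of the group mapping E to itself. The pointwise stabiliser of E has order 16 when E lies in an octad and order 3 otherwise; in the latter case the setwise stabiliser of E has order 2160. -/
theorem result (E : Finset Cfsg.GolayPt) (hE : E.card = 6) : (∀ σ : Equiv.Perm ↥E, ∃ g ∈ Cfsg.M24, ∀ p : ↥E, g p = σ p) ∧ ((∃ o ∈ Cfsg.octads, E ⊆ o) → Nat.card {g : Equiv.Perm Cfsg.GolayPt // g ∈ Cfsg.M24 ∧ ∀ p ∈ E, g p = p} = 16) ∧ ((¬ ∃ o ∈ Cfsg.octads, E ⊆ o) → Nat.card {g : Equiv.Perm Cfsg.GolayPt // g ∈ Cfsg.M24 ∧ ∀ p ∈ E, g p = p} = 3 ∧ Nat.card ↥(MulAction.stabilizer Cfsg.M24 E) = 2160) := by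
  obtain ⟨x, hx, hxE⟩ := exists_fin_enum hE
  have hiff : (∃ o ∈ Cfsg.octads, E ⊆ o) ↔ ∃ o ∈ Cfsg.octads, ∀ i, x i ∈ o :=
    exists_congr fun o => and_congr_right fun _ => ⟨fun h i => h ((hxE _).2 ⟨i, rfl⟩),
      fun h p hp => by obtain ⟨i, rfl⟩ := (hxE p).1 hp; exact h i⟩
  have ecard : Nat.card {g : Equiv.Perm Cfsg.GolayPt // g ∈ Cfsg.M24 ∧ ∀ p ∈ E, g p = p} =
      Nat.card {g : Equiv.Perm Cfsg.GolayPt // g ∈ Cfsg.M24 ∧ ∀ i, g (x i) = x i} :=
    Nat.card_congr (Equiv.subtypeEquivRight fun g => and_congr_right fun _ =>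
      ⟨fun h i => h _ ((hxE _).2 ⟨i, rfl⟩),
        fun h p hp => by obtain ⟨i, rfl⟩ := (hxE p).1 hp; exact h i⟩)
  refine ⟨exists_perm_six hE, fun h => ?_, fun h => ?_⟩
  · obtain ⟨k, hk⟩ := (exists_map_six x hx).1 (hiff.1 h)
    rw [ecard, card_fix_transport k _ x hk, card_fix_sixIn]
  · obtain ⟨k, hk⟩ := (exists_map_six x hx).2 (fun h' => h (hiff.2 h'))
    have h3 : Nat.card {g : Equiv.Perm Cfsg.GolayPt // g ∈ Cfsg.M24 ∧ ∀ p ∈ E, g p = p} = 3 := by
      rw [ecard, card_fix_transport k _ x hk, card_fix_sixOut]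
    refine ⟨h3, ?_⟩
    set H := MulAction.stabilizer ↥Cfsg.M24 E with hH
    let f := restrict H E fun g hg => hg
    have hsur : Function.Surjective f := by
      intro σ
      obtain ⟨g, hg, hgσ⟩ := exists_perm_six hE σ
      have hgE : (⟨g, hg⟩ : ↥Cfsg.M24) • E = E := by
        refine Finset.eq_of_subset_of_card_le ?_ (by
          rw [show (⟨g, hg⟩ : ↥Cfsg.M24) • E = g • E from rfl, Finset.card_smul_finset])
        intro p hp
        obtain ⟨q, hq, rfl⟩ := Finset.mem_smul_finset.1 hp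
        show g q ∈ E
        rw [hgσ ⟨q, hq⟩]
        exact (σ _).2
      exact ⟨⟨⟨g, hg⟩, hgE⟩, Equiv.ext fun p => Subtype.ext (hgσ p)⟩
    rw [Subgroup.card_eq_card_quotient_mul_card_subgroup f.ker,
      Nat.card_congr (QuotientGroup.quotientKerEquivOfSurjective f hsur).toEquiv, Nat.card_perm,
      Nat.card_eq_fintype_card, Fintype.card_coe, hE]
    have hker : Nat.card f.ker = 3 := by
      rw [← h3]
      refine Nat.card_congr
        { toFun := fun g => ⟨((g : ↥H) : ↥Cfsg.M24), ((g : ↥H) : ↥Cfsg.M24).2,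
            (restrict_eq_one _ _).1 g.2⟩
          invFun := fun g => ⟨⟨⟨g.1, g.2.1⟩, fix_stab g.2.2⟩, (restrict_eq_one _ _).2 g.2.2⟩
          left_inv := fun g => rfl
          right_inv := fun g => rfl }
    rw [hker]
    rfl

end Cfsg.Agent.S5600
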