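import Cfsg.Statements.S5601
import Cfsg.Agent.Lib.GolayClasses
-- import your own Cfsg.Agent.* helpers here

set_option autoImplicit false
open scoped Pointwise
open Cfsg

namespace Cfsg.Agent.S5601

open Cfsg.Agent.GolayClasses Cfsg.Agent.GolayClassData Cfsg.Agent.GolayPerm Cfsg.Agent.GolayBasic
open Cfsg.Agent.GolaySearch

theorem fixed_zpowers {X : Subgroup ↥Cfsg.M24} (x : ↥Cfsg.M24) (e : X = Subgroup.zpowers x) :
    {p : Cfsg.GolayPt | ∀ y ∈ X, ((y : ↥Cfsg.M24) : Equiv.Perm Cfsg.GolayPt) p = p}.ncard =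
      (Finset.univ.filter fun p => (x : Equiv.Perm Cfsg.GolayPt) p = p).card := by
  rw [← Set.ncard_coe_finset]
  congr 1
  ext p
  simp only [Set.mem_ofPred_eq, Finset.coe_filter, Finset.mem_univ, true_and]
  refine ⟨fun h => h x (e ▸ Subgroup.mem_zpowers x), fun h y hy => ?_⟩
  rw [e, Subgroup.mem_zpowers_iff] at hy
  obtain ⟨j, rfl⟩ := hy
  rw [Subgroup.coe_zpow]
  exact Function.IsFixedPt.perm_zpow h j

theorem witness (r : ℕ) (hr : good r = true)
    (h : ((pts.all fun i => pimg r (pimg r (pimg r i)) == i) &&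
      !(pts.all fun i => pimg r i == i)) = true) {n : ℕ}
    (hn : (Finset.univ.filter fun p => permOf r p = p).card = n) :
    ∃ X : Subgroup ↥Cfsg.M24, Nat.card X = 3 ∧
      {p : Cfsg.GolayPt | ∀ y ∈ X, ((y : ↥Cfsg.M24) : Equiv.Perm Cfsg.GolayPt) p = p}.ncard = n := by
  have hv := valid_of_good hr
  refine ⟨Subgroup.zpowers ⟨permOf r, permOf_mem_M24 hr⟩, ?_, by rw [fixed_zpowers _ rfl, hn]⟩
  have : Fact (Nat.Prime 3) := ⟨Nat.prime_three⟩
  rw [Nat.card_zpowers, ← Subgroup.orderOf_coe]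
  show orderOf (permOf r) = 3
  simp only [Bool.and_eq_true, Bool.not_eq_true', List.all_eq_true, beq_iff_eq, Bool.eq_false_iff,
    ne_eq] at h
  refine orderOf_eq_prime (eq_of_num fun i hi => ?_) fun e => h.2 fun i hi => ?_
  · rw [pow_three, num_mul, num_mul, num_permOf hv hi, num_permOf hv (pimg_lt hv hi),
      num_permOf hv (pimg_lt hv (pimg_lt hv hi)), num_one hi]
    exact h.1 i (mem_pts.2 hi)
  · rw [← num_permOf hv (mem_pts.1 hi), e, num_one (mem_pts.1 hi)]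

/-- The group of the length-24 code has exactly two conjugacy classes of subgroups of order 3: a subgroup of order 3 fixes either exactly 6 of the 24 points or none of them, both cases occur, and two subgroups of order 3 with the same number of fixed points are conjugate. -/
theorem result : (∀ X : Subgroup ↥Cfsg.M24, Nat.card X = 3 → {p : Cfsg.GolayPt | ∀ x ∈ X, ((x : ↥Cfsg.M24) : Equiv.Perm Cfsg.GolayPt) p = p}.ncard = 6 ∨ {p : Cfsg.GolayPt | ∀ x ∈ X, ((x : ↥Cfsg.M24) : Equiv.Perm Cfsg.GolayPt) p = p}.ncard = 0) ∧ (∃ X : Subgroup ↥Cfsg.M24, Nat.card X = 3 ∧ {p : Cfsg.GolayPt | ∀ x ∈ X, ((x : ↥Cfsg.M24) : Equiv.Perm Cfsg.GolayPt) p = p}.ncard = 6) ∧ (∃ X : Subgroup ↥Cfsg.M24, Nat.card X = 3 ∧ {p : Cfsg.GolayPt | ∀ x ∈ X, ((x : ↥Cfsg.M24) : Equiv.Perm Cfsg.GolayPt) p = p}.ncard = 0) ∧ ∀ X Y : Subgroup ↥Cfsg.M24, Nat.card X = 3 → Nat.card Y = 3 → {p : Cfsg.GolayPt | ∀ x ∈ X, ((x : ↥Cfsg.M24) : Equiv.Perm Cfsg.GolayPt) p =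 p}.ncard = {p : Cfsg.GolayPt | ∀ x ∈ Y, ((x : ↥Cfsg.M24) : Equiv.Perm Cfsg.GolayPt) p = p}.ncard → ∃ k : ↥Cfsg.M24, MulAut.conj k • X = Y := by
  have gen : ∀ X : Subgroup ↥Cfsg.M24, Nat.card X = 3 → ∃ x : ↥Cfsg.M24,
      X = Subgroup.zpowers x ∧ orderOf (x : Equiv.Perm Cfsg.GolayPt) = 3 ∧
      {p : Cfsg.GolayPt | ∀ y ∈ X, ((y : ↥Cfsg.M24) : Equiv.Perm Cfsg.GolayPt) p = p}.ncard =
        (Finset.univ.filter fun p => (x : Equiv.Perm Cfsg.GolayPt) p = p).card := by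
    intro X hX
    have : Fact (Nat.Prime 3) := ⟨Nat.prime_three⟩
    have := isCyclic_of_prime_card hX
    obtain ⟨⟨x, hx⟩, hgen⟩ := IsCyclic.exists_generator (α := X)
    have e : X = Subgroup.zpowers x := by
      refine le_antisymm (fun y hy => ?_) (Subgroup.zpowers_le.2 hx)
      obtain ⟨j, hj⟩ := Subgroup.mem_zpowers_iff.1 (hgen ⟨y, hy⟩)
      exact Subgroup.mem_zpowers_iff.2 ⟨j, congrArg Subtype.val hj⟩
    refine ⟨x, e, ?_, fixed_zpowers x e⟩
    rw [Subgroup.orderOf_coe, ← Nat.card_zpowers, ← e, hX]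
  have hr0 : good r3_0 = true := valid_reps _ (by simp)
  have hr6 : good r3_6 = true := valid_reps _ (by simp)
  have f0 : (Finset.univ.filter fun p => permOf r3_0 p = p).card = 0 := by
    rw [card_fixed_permOf (valid_of_good hr0)]; decide +kernel
  have f6 : (Finset.univ.filter fun p => permOf r3_6 p = p).card = 6 := by
    rw [card_fixed_permOf (valid_of_good hr6)]; decide +kernel
  refine ⟨fun X hX => ?_, ?_, ?_, fun X Y hX hY hXY => ?_⟩
  · obtain ⟨x, -, hx3, hf⟩ := gen X hX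
    obtain ⟨r, hr, k, hk⟩ := exists_conj_three x.2 hx3
    rw [hf, ← card_fixed_conj (k : Equiv.Perm Cfsg.GolayPt), hk]
    simp only [List.mem_cons, List.not_mem_nil, or_false] at hr
    rcases hr with rfl | rfl
    · exact Or.inr f0
    · exact Or.inl f6
  · exact witness r3_6 hr6 (by decide +kernel) f6
  · exact witness r3_0 hr0 (by decide +kernel) f0
  · obtain ⟨x, rfl, hx3, hfx⟩ := gen X hX
    obtain ⟨y, rfl, hy3, hfy⟩ := gen Y hY
    rw [hfx, hfy] at hXY
    obtain ⟨r, hr, k, hk⟩ := exists_conj_three x.2 hx3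
    obtain ⟨r', hr', k', hk'⟩ := exists_conj_three y.2 hy3
    rw [← card_fixed_conj (k : Equiv.Perm Cfsg.GolayPt), hk,
      ← card_fixed_conj (k' : Equiv.Perm Cfsg.GolayPt) y, hk'] at hXY
    obtain rfl : r = r' := by
      simp only [List.mem_cons, List.not_mem_nil, or_false] at hr hr'
      rcases hr with rfl | rfl <;> rcases hr' with rfl | rfl
      all_goals first | rfl | (rw [f0, f6] at hXY; omega)
    refine ⟨k'⁻¹ * k, ?_⟩
    have e : MulAut.conj (k'⁻¹ * k) x = y := by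
      apply Subtype.ext
      simp only [MulAut.conj_apply, Subgroup.coe_mul, Subgroup.coe_inv, mul_inv_rev, inv_inv]
      rw [show ((k' : Equiv.Perm Cfsg.GolayPt)⁻¹ * k) * x * ((k : Equiv.Perm Cfsg.GolayPt)⁻¹ * k') =
        (k' : Equiv.Perm Cfsg.GolayPt)⁻¹ * ((k : Equiv.Perm Cfsg.GolayPt) * x *
          (k : Equiv.Perm Cfsg.GolayPt)⁻¹) * k' by group, hk, ← hk']
      group
    rw [← e]
    exact MonoidHom.map_zpowers _ x

end Cfsg.Agent.S5601
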