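import Cfsg.Statements.S5604
import Cfsg.Agent.Lib.GolayClasses
-- import your own Cfsg.Agent.* helpers here

set_option autoImplicit false
open scoped Pointwise
open Cfsg

namespace Cfsg.Agent.S5604

open Cfsg.Agent.GolayClasses Cfsg.Agent.GolayClassData Cfsg.Agent.GolayPerm Cfsg.Agent.GolayBasic
open Cfsg.Agent.GolaySearch

/-- consistency with one of the powers, fixed by the first two images -/
def cNorm (ims : List ℕ) (v : ℕ) : Bool :=
  pow7.any fun t => (match ims ++ [v] with | a :: b :: _ => pimg t a == b | _ => true) &&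
    cInt r7 [t] ims v

theorem valid7 : valid r7 = true := valid_of_good (valid_reps _ (by simp))

theorem validPow : ∀ t ∈ pow7, valid t = true := by decide +kernel

theorem num_pow {P : ℕ} (hv : valid P = true) : ∀ (n : ℕ) {i : ℕ}, i < 24 →
    num (permOf P ^ n) i = (List.range n).foldl (fun a _ => pimg P a) i ∧
      (List.range n).foldl (fun a _ => pimg P a) i < 24
  | 0, i, hi => ⟨by rw [pow_zero, num_one hi]; rfl, hi⟩
  | n + 1, i, hi => by
    obtain ⟨h1, h2⟩ := num_pow hv n hi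
    rw [pow_succ', num_mul, h1, num_permOf hv h2, List.range_succ, List.foldl_append]
    exact ⟨rfl, pimg_lt hv h2⟩

theorem pow7_eq : ∀ j < 6, permOf (pow7.getD j 0) = permOf r7 ^ (j + 1) := by
  have h0 : ((List.range 6).all fun j => pts.all fun i =>
      pimg (pow7.getD j 0) i == (List.range (j + 1)).foldl (fun a _ => pimg r7 a) i) = true := by
    decide +kernel
  intro j hj
  refine eq_of_num fun i hi => ?_
  have h1 := List.all_eq_true.1 (List.all_eq_true.1 h0 j (List.mem_range.2 hj)) i (mem_pts.2 hi)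
  rw [num_permOf ?_ hi, (num_pow valid7 _ hi).1, ← beq_iff_eq.1 h1]
  refine validPow _ ?_
  rw [List.getD_eq_getElem _ _ (show j < pow7.length from hj)]
  exact List.getElem_mem _

theorem holds_cNorm {g : Equiv.Perm Cfsg.GolayPt}
    (h : ∃ t ∈ pow7, g * permOf r7 = permOf t * g) : Holds cNorm (num g) := by
  obtain ⟨t, ht, e⟩ := h
  have hv := validPow t ht
  obtain ⟨h0, h1, h2, h3, h4, h5, h6⟩ :=
    holds_cInt (g := g) valid7 (ts := [t]) (by simpa using hv) ⟨t, List.mem_singleton_self t, e⟩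
  have e0 : pimg r7 23 = 0 := by decide +kernel
  have hfirst : (pimg t (num g 23) == num g 0) = true := by
    rw [beq_iff_eq, ← num_permOf hv (num_lt g 23), ← num_mul, ← e, num_mul,
      num_permOf valid7 (by norm_num), e0]
  refine ⟨?_, ?_, ?_, ?_, ?_, ?_, ?_⟩
  all_goals refine List.any_eq_true.2 ⟨t, ht, ?_⟩
  · exact Bool.and_eq_true_iff.2 ⟨rfl, h0⟩
  · exact Bool.and_eq_true_iff.2 ⟨hfirst, h1⟩
  · exact Bool.and_eq_true_iff.2 ⟨hfirst, h2⟩
  · exact Bool.and_eq_true_iff.2 ⟨hfirst, h3⟩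
  · exact Bool.and_eq_true_iff.2 ⟨hfirst, h4⟩
  · exact Bool.and_eq_true_iff.2 ⟨hfirst, h5⟩
  · exact Bool.and_eq_true_iff.2 ⟨hfirst, h6⟩

theorem order7 : orderOf (permOf r7) = 7 := by
  have : Fact (Nat.Prime 7) := ⟨by norm_num⟩
  have h0 : ((pts.all fun i => (List.range 7).foldl (fun a _ => pimg r7 a) i == i) &&
      !(pts.all fun i => pimg r7 i == i)) = true := by decide +kernel
  simp only [Bool.and_eq_true, Bool.not_eq_true', List.all_eq_true, beq_iff_eq,
    Bool.eq_false_iff, ne_eq] at h0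
  refine orderOf_eq_prime (eq_of_num fun i hi => ?_) fun e => h0.2 fun i hi => ?_
  · rw [(num_pow valid7 7 hi).1, num_one hi]
    exact h0.1 i (mem_pts.2 hi)
  · rw [← num_permOf valid7 (mem_pts.1 hi), e, num_one (mem_pts.1 hi)]

theorem mem_pow7_iff (y : Equiv.Perm Cfsg.GolayPt) :
    (∃ t ∈ pow7, y = permOf t) ↔ y ∈ Subgroup.zpowers (permOf r7) ∧ y ≠ 1 := by
  constructor
  · rintro ⟨t, ht, rfl⟩
    obtain ⟨j, hj, rfl⟩ := List.getElem_of_mem ht
    have hj' : j < 6 := hj
    rw [← List.getD_eq_getElem _ 0 hj, pow7_eq j hj']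
    refine ⟨pow_mem (Subgroup.mem_zpowers _) _, fun e => ?_⟩
    have := orderOf_dvd_of_pow_eq_one e
    rw [order7] at this
    have := Nat.le_of_dvd (by omega) this
    omega
  · rintro ⟨hy, hne⟩
    rw [← mem_powers_iff_mem_zpowers, mem_powers_iff_mem_range_orderOf, order7,
      Finset.mem_image] at hy
    obtain ⟨j, hj, rfl⟩ := hy
    rw [Finset.mem_range] at hj
    have hj0 : j ≠ 0 := fun e => hne (by simp [e])
    refine ⟨pow7.getD (j - 1) 0, ?_, by rw [pow7_eq _ (by omega), show j - 1 + 1 = j by omega]⟩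
    have hlen : j - 1 < pow7.length := show j - 1 < 6 by omega
    rw [List.getD_eq_getElem _ _ hlen]
    exact List.getElem_mem _

theorem gen7 (S : Subgroup ↥Cfsg.M24) (hS : Nat.card S = 7) :
    ∃ x : ↥Cfsg.M24, orderOf (x : Equiv.Perm Cfsg.GolayPt) = 7 ∧ S = Subgroup.zpowers x := by
  have : Fact (Nat.Prime 7) := ⟨by norm_num⟩
  have := isCyclic_of_prime_card hS
  obtain ⟨⟨x, hx⟩, hgen⟩ := IsCyclic.exists_generator (α := S)
  have e : S = Subgroup.zpowers x := by
    refine le_antisymm (fun y hy => ?_) (Subgroup.zpowers_le.2 hx)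
    obtain ⟨j, hj⟩ := Subgroup.mem_zpowers_iff.1 (hgen ⟨y, hy⟩)
    exact Subgroup.mem_zpowers_iff.2 ⟨j, congrArg Subtype.val hj⟩
  exact ⟨x, by rw [Subgroup.orderOf_coe, ← Nat.card_zpowers, ← e, hS], e⟩

theorem conj_into_powers (x : ↥Cfsg.M24) (hx : orderOf (x : Equiv.Perm Cfsg.GolayPt) = 7) :
    ∃ k : ↥Cfsg.M24, ∃ t ∈ pow7, (k : Equiv.Perm Cfsg.GolayPt) * x *
      (k : Equiv.Perm Cfsg.GolayPt)⁻¹ = permOf t := by
  obtain ⟨r, hr, k, hk⟩ := exists_conj_seven x.2 hx
  simp only [List.mem_cons, List.not_mem_nil, or_false] at hr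
  rcases hr with rfl | rfl
  · refine ⟨k, pow7.getD 0 0, by decide +kernel, ?_⟩
    rw [hk, pow7_eq 0 (by norm_num), pow_one]
  · exact ⟨k, _, by decide +kernel, hk⟩

/-- the subgroup generated by the image is the one generated by the representative -/
theorem zpowers_image {x k : Equiv.Perm Cfsg.GolayPt} (hx : orderOf x = 7)
    (hk : ∃ t ∈ pow7, k * x * k⁻¹ = permOf t) :
    Subgroup.zpowers (k * x * k⁻¹) = Subgroup.zpowers (permOf r7) := by
  obtain ⟨h1, -⟩ := (mem_pow7_iff _).1 hk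
  refine Subgroup.eq_of_le_of_card_ge (Subgroup.zpowers_le.2 h1) ?_
  rw [Nat.card_zpowers, Nat.card_zpowers, order7, orderOf_conj', hx]

theorem normal_iff {x k : Equiv.Perm Cfsg.GolayPt} (hx : orderOf x = 7)
    (hk : ∃ t ∈ pow7, k * x * k⁻¹ = permOf t) (n : Equiv.Perm Cfsg.GolayPt) :
    n * x * n⁻¹ ∈ Subgroup.zpowers x ↔
      ∃ t ∈ pow7, (k * n * k⁻¹) * permOf r7 = permOf t * (k * n * k⁻¹) := by
  have hz := zpowers_image hx hk
  set y := k * x * k⁻¹ with hy
  set m := k * n * k⁻¹ with hm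
  have conj_mem : ∀ z : Equiv.Perm Cfsg.GolayPt, z ∈ Subgroup.zpowers x ↔
      k * z * k⁻¹ ∈ Subgroup.zpowers y := by
    intro z
    rw [hy, ← MulAut.conj_apply, ← MulAut.conj_apply, ← MulEquiv.coe_toMonoidHom,
      ← MonoidHom.map_zpowers, Subgroup.mem_map_iff_mem (MulEquiv.injective _)]
  rw [conj_mem, show k * (n * x * n⁻¹) * k⁻¹ = m * y * m⁻¹ by rw [hm, hy]; group, hz]
  constructor
  · intro h
    have hne : m * permOf r7 * m⁻¹ ≠ 1 := by
      rw [ne_eq, conj_eq_one_iff]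
      intro e
      have := order7
      rw [e, orderOf_one] at this
      omega
    have hle : Subgroup.zpowers (m * y * m⁻¹) = Subgroup.zpowers (permOf r7) := by
      refine Subgroup.eq_of_le_of_card_ge (Subgroup.zpowers_le.2 h) ?_
      rw [Nat.card_zpowers, Nat.card_zpowers, order7, orderOf_conj', hy, orderOf_conj', hx]
    have hmem : m * permOf r7 * m⁻¹ ∈ Subgroup.zpowers (permOf r7) := by
      rw [← hle, ← MulAut.conj_apply, ← MulAut.conj_apply, ← MulEquiv.coe_toMonoidHom,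
        ← MonoidHom.map_zpowers, hz]
      exact Subgroup.mem_map_of_mem _ (Subgroup.mem_zpowers _)
    obtain ⟨t, ht, e⟩ := (mem_pow7_iff _).2 ⟨hmem, hne⟩
    exact ⟨t, ht, by rw [← e]; group⟩
  · rintro ⟨t, ht, e⟩
    have hmem : m * permOf r7 * m⁻¹ ∈ Subgroup.zpowers (permOf r7) := by
      rw [mul_inv_eq_iff_eq_mul.2 e]
      exact ((mem_pow7_iff _).1 ⟨t, ht, rfl⟩).1
    have hy' : y ∈ Subgroup.zpowers (permOf r7) := hz ▸ Subgroup.mem_zpowers y
    obtain ⟨j, hj⟩ := Subgroup.mem_zpowers_iff.1 hy'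
    rw [← hj, ← conj_zpow]
    exact zpow_mem hmem j

theorem central_iff {x k : Equiv.Perm Cfsg.GolayPt} (hx : orderOf x = 7)
    (hk : ∃ t ∈ pow7, k * x * k⁻¹ = permOf t) (n : Equiv.Perm Cfsg.GolayPt) :
    x * n = n * x ↔ ∃ t ∈ [r7], (k * n * k⁻¹) * permOf r7 = permOf t * (k * n * k⁻¹) := by
  have hz := zpowers_image hx hk
  simp only [List.mem_singleton, exists_eq_left]
  set y := k * x * k⁻¹ with hy
  set m := k * n * k⁻¹ with hm
  have : x * n = n * x ↔ y * m = m * y := by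
    rw [hy, hm, ← MulAut.conj_apply, ← MulAut.conj_apply, ← map_mul, ← map_mul,
      (MulAut.conj k).injective.eq_iff]
  rw [this]
  constructor
  · intro h
    obtain ⟨j, hj⟩ := Subgroup.mem_zpowers_iff.1 (hz ▸ Subgroup.mem_zpowers (permOf r7))
    rw [← hj]
    exact ((show Commute y m from h).zpow_left j).symm
  · intro h
    obtain ⟨j, hj⟩ := Subgroup.mem_zpowers_iff.1 (hz.symm ▸ Subgroup.mem_zpowers y)
    rw [← hj]
    exact (show Commute m (permOf r7) from h).symm.zpow_left j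

theorem conj_mem_iff (k : ↥Cfsg.M24) (g : Equiv.Perm Cfsg.GolayPt) :
    (k : Equiv.Perm Cfsg.GolayPt)⁻¹ * g * k ∈ Cfsg.M24 ↔ g ∈ Cfsg.M24 := by
  rw [Subgroup.mul_mem_cancel_right _ k.2, Subgroup.mul_mem_cancel_left _ (inv_mem k.2)]

/-- transport of a subgroup of the group to a set of permutations by conjugation -/
noncomputable def conjEquiv (k : ↥Cfsg.M24) (H : Subgroup ↥Cfsg.M24)
    (Q : Equiv.Perm Cfsg.GolayPt → Prop)
    (h : ∀ n : ↥Cfsg.M24, n ∈ H ↔
      Q ((k : Equiv.Perm Cfsg.GolayPt) * n * (k : Equiv.Perm Cfsg.GolayPt)⁻¹)) :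
    ↥H ≃ {g : Equiv.Perm Cfsg.GolayPt // g ∈ Cfsg.M24 ∧ Q g} where
  toFun n := ⟨(k : Equiv.Perm Cfsg.GolayPt) * (n : ↥Cfsg.M24) * (k : Equiv.Perm Cfsg.GolayPt)⁻¹,
    M24_conj_mem k (n : ↥Cfsg.M24).2, (h n).1 n.2⟩
  invFun g := ⟨⟨(k : Equiv.Perm Cfsg.GolayPt)⁻¹ * g.1 * k, (conj_mem_iff k g.1).2 g.2.1⟩, by
    rw [h]
    show Q (k * ((k : Equiv.Perm Cfsg.GolayPt)⁻¹ * g.1 * k) * (k : Equiv.Perm Cfsg.GolayPt)⁻¹)
    simpa [mul_assoc] using g.2.2⟩
  left_inv n := by
    refine Subtype.ext (Subtype.ext ?_)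
    show (k : Equiv.Perm Cfsg.GolayPt)⁻¹ * (k * ((n : ↥Cfsg.M24) : Equiv.Perm Cfsg.GolayPt) *
      (k : Equiv.Perm Cfsg.GolayPt)⁻¹) * k = _
    group
  right_inv g := by
    refine Subtype.ext ?_
    show (k : Equiv.Perm Cfsg.GolayPt) * ((k : Equiv.Perm Cfsg.GolayPt)⁻¹ * g.1 * k) *
      (k : Equiv.Perm Cfsg.GolayPt)⁻¹ = _
    group

/-- the normaliser -/
noncomputable def normEquiv (x : ↥Cfsg.M24) (hx : orderOf (x : Equiv.Perm Cfsg.GolayPt) = 7)
    (k : ↥Cfsg.M24)
    (hk : ∃ t ∈ pow7, (k : Equiv.Perm Cfsg.GolayPt) * x * (k : Equiv.Perm Cfsg.GolayPt)⁻¹ = permOf t) :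
    ↥(Subgroup.normalizer (Subgroup.zpowers x : Set ↥Cfsg.M24)) ≃
      {g : Equiv.Perm Cfsg.GolayPt // g ∈ Cfsg.M24 ∧
        ∃ t ∈ pow7, g * permOf r7 = permOf t * g} :=
  conjEquiv k _ (fun g => ∃ t ∈ pow7, g * permOf r7 = permOf t * g) fun n => by
    rw [← normal_iff hx hk, Subgroup.mem_normalizer_iff]
    have key : ∀ a : ↥Cfsg.M24, a ∈ Subgroup.zpowers x ↔
        (a : Equiv.Perm Cfsg.GolayPt) ∈ Subgroup.zpowers (x : Equiv.Perm Cfsg.GolayPt) := by
      intro a
      rw [show Subgroup.zpowers (x : Equiv.Perm Cfsg.GolayPt) =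
        (Subgroup.zpowers x).map Cfsg.M24.subtype from (MonoidHom.map_zpowers Cfsg.M24.subtype x).symm]
      exact (Subgroup.mem_map_iff_mem Subtype.val_injective).symm
    constructor
    · intro h
      exact (key (n * x * n⁻¹)).1 ((h x).1 (Subgroup.mem_zpowers x))
    · intro h
      have hle : (Subgroup.zpowers x).map (MulAut.conj n).toMonoidHom ≤ Subgroup.zpowers x := by
        rw [MonoidHom.map_zpowers, Subgroup.zpowers_le]
        exact (key _).2 h
      have he := Subgroup.eq_of_le_of_card_ge hle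
        (by rw [Subgroup.card_map_of_injective (MulEquiv.injective _)])
      intro a
      conv_rhs => rw [← he]
      exact (Subgroup.mem_map_iff_mem (f := (MulAut.conj n).toMonoidHom)
        (MulEquiv.injective _) (x := a)).symm

/-- the centraliser -/
noncomputable def centEquiv (x : ↥Cfsg.M24) (k : ↥Cfsg.M24)
    (hk : ∃ t ∈ pow7, (k : Equiv.Perm Cfsg.GolayPt) * x * (k : Equiv.Perm Cfsg.GolayPt)⁻¹ = permOf t)
    (hx : orderOf (x : Equiv.Perm Cfsg.GolayPt) = 7) :
    ↥(Subgroup.centralizer (Subgroup.zpowers x : Set ↥Cfsg.M24)) ≃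
      {g : Equiv.Perm Cfsg.GolayPt // g ∈ Cfsg.M24 ∧
        ∃ t ∈ [r7], g * permOf r7 = permOf t * g} :=
  conjEquiv k _ (fun g => ∃ t ∈ [r7], g * permOf r7 = permOf t * g) fun n => by
    rw [← central_iff hx hk, Subgroup.mem_centralizer_iff]
    constructor
    · exact fun h => congrArg Subtype.val (h x (Subgroup.mem_zpowers x))
    · intro h y hy
      obtain ⟨j, rfl⟩ := Subgroup.mem_zpowers_iff.1 hy
      exact (show Commute x n from Subtype.ext h).zpow_left j

theorem commute_of_chk {a : ℕ} (ha : good a = true)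
    (h : ∀ i ∈ pts, pimg a (pimg r7 i) = pimg r7 (pimg a i)) :
    permOf a * permOf r7 = permOf r7 * permOf a := by
  have hv := valid_of_good ha
  refine eq_of_num fun i hi => ?_
  rw [num_mul, num_permOf valid7 hi, num_permOf hv (pimg_lt valid7 hi), num_mul,
    num_permOf hv hi, num_permOf valid7 (pimg_lt hv hi)]
  exact h i (mem_pts.2 hi)

theorem smul_mset_wperm : ∀ {w : List ℕ}, (∀ P ∈ w, good P = true) → ∀ a : ℕ,
    wperm w • mset a = mset (w.foldr (fun P m => pmask P m) a)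
  | [], _, a => by simp [wperm]
  | P :: w, h, a => by
    rw [show wperm (P :: w) = permOf P * wperm w from List.prod_cons, mul_smul,
      smul_mset_wperm (fun Q hQ => h Q (List.mem_cons_of_mem _ hQ)),
      smul_mset (valid_of_good (h P List.mem_cons_self))]
    rfl

theorem smul_fam_wperm {w l : List ℕ} (hw : ∀ P ∈ w, good P = true)
    (h : (l.all fun a => w.foldr (fun P m => pmask P m) a == a ||
      l.contains (w.foldr (fun P m => pmask P m) a)) = true)
    (_hl : GolayOrbit.ok l = true) : wperm w • GolayOrbit.fam l = GolayOrbit.fam l := by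
  refine Finset.eq_of_subset_of_card_le ?_ (by rw [Finset.card_smul_finset])
  intro s hs
  obtain ⟨t, ht, rfl⟩ := Finset.mem_smul_finset.1 hs
  obtain ⟨a, ha, rfl⟩ := GolayOrbit.mem_fam.1 ht
  rw [smul_mset_wperm hw]
  have := List.all_eq_true.1 h a ha
  simp only [Bool.or_eq_true, beq_iff_eq, List.contains_iff_mem] at this
  rcases this with e | e
  · rw [e]; exact GolayOrbit.mem_fam.2 ⟨a, ha, rfl⟩
  · exact GolayOrbit.mem_fam.2 ⟨_, e, rfl⟩

/-- the whole normaliser of the representative, enumerated once -/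
theorem norm_search : (((searchAll cNorm).filter (intChk r7 pow7)).map fun w =>
    trio7.all fun a => w.foldr (fun P m => pmask P m) a == a ||
      trio7.contains (w.foldr (fun P m => pmask P m) a)) = List.replicate 126 true := by
  decide +kernel

/-- For a subgroup S of order 7 of the group of the length-24 code (a Sylow 7-subgroup): the normaliser of S has order 126, the centraliser of S has order 42 and is non-abelian, and the whole normaliser leaves some trio invariant. (These are the orders of a Frobenius group of order 21 times a symmetric group of degree 3; the isomorphism type itself is not asserted here.) -/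
theorem result (S : Subgroup ↥Cfsg.M24) (hS : Nat.card S = 7) : Nat.card ↥(Subgroup.normalizer (S : Set ↥Cfsg.M24)) = 126 ∧ Nat.card ↥(Subgroup.centralizer (S : Set ↥Cfsg.M24)) = 42 ∧ (∃ x ∈ Subgroup.centralizer (S : Set ↥Cfsg.M24), ∃ y ∈ Subgroup.centralizer (S : Set ↥Cfsg.M24), x * y ≠ y * x) ∧ ∃ T ∈ Cfsg.trios, ∀ n ∈ Subgroup.normalizer (S : Set ↥Cfsg.M24), ((n : ↥Cfsg.M24) : Equiv.Perm Cfsg.GolayPt) • T = T := by
  obtain ⟨x, hx7, rfl⟩ := gen7 S hS
  obtain ⟨k, hk⟩ := conj_into_powers x hx7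
  refine ⟨?_, ?_, ?_, ?_⟩
  · rw [Nat.card_congr (normEquiv x hx7 k hk)]
    rw [natCard_of_search cNorm _ (intChk r7 pow7) (fun g _ h => holds_cNorm h)
      (fun w hw => intChk_iff hw valid7 validPow)]
    have := congrArg List.length norm_search
    rwa [List.length_map, List.length_replicate] at this
  · rw [Nat.card_congr (centEquiv x k hk hx7)]
    rw [natCard_of_search (cInt r7 [r7]) _ (intChk r7 [r7])
      (fun g _ h => holds_cInt valid7 (by simpa using valid7) h)
      (fun w hw => intChk_iff hw valid7 (by simpa using valid7))]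
    decide +kernel
  · have h0 : (good noncomm7.1 && good noncomm7.2 &&
        (pts.all fun i => pimg noncomm7.1 (pimg r7 i) == pimg r7 (pimg noncomm7.1 i)) &&
        (pts.all fun i => pimg noncomm7.2 (pimg r7 i) == pimg r7 (pimg noncomm7.2 i)) &&
        !(pts.all fun i => pimg noncomm7.1 (pimg noncomm7.2 i) ==
          pimg noncomm7.2 (pimg noncomm7.1 i))) = true := by decide +kernel
    simp only [Bool.and_eq_true, Bool.not_eq_true', List.all_eq_true, beq_iff_eq,
      Bool.eq_false_iff, ne_eq] at h0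
    obtain ⟨⟨⟨⟨ga, gb⟩, ca⟩, cb⟩, hne⟩ := h0
    obtain ⟨u, hu⟩ := (centEquiv x k hk hx7).surjective
      ⟨permOf noncomm7.1, permOf_mem_M24 ga, r7, List.mem_singleton_self _,
        commute_of_chk ga ca⟩
    obtain ⟨v, hv⟩ := (centEquiv x k hk hx7).surjective
      ⟨permOf noncomm7.2, permOf_mem_M24 gb, r7, List.mem_singleton_self _,
        commute_of_chk gb cb⟩
    refine ⟨u, u.2, v, v.2, fun e => hne fun i hi => ?_⟩
    have hu' := congrArg Subtype.val hu
    have hv' := congrArg Subtype.val hv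
    change (k : Equiv.Perm Cfsg.GolayPt) * ((u : ↥Cfsg.M24) : Equiv.Perm Cfsg.GolayPt) *
      (k : Equiv.Perm Cfsg.GolayPt)⁻¹ = permOf noncomm7.1 at hu'
    change (k : Equiv.Perm Cfsg.GolayPt) * ((v : ↥Cfsg.M24) : Equiv.Perm Cfsg.GolayPt) *
      (k : Equiv.Perm Cfsg.GolayPt)⁻¹ = permOf noncomm7.2 at hv'
    have e' : ((u : ↥Cfsg.M24) : Equiv.Perm Cfsg.GolayPt) * ((v : ↥Cfsg.M24) : Equiv.Perm Cfsg.GolayPt) =
        ((v : ↥Cfsg.M24) : Equiv.Perm Cfsg.GolayPt) * ((u : ↥Cfsg.M24) : Equiv.Perm Cfsg.GolayPt) :=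
      congrArg Subtype.val e
    have e2 : permOf noncomm7.1 * permOf noncomm7.2 = permOf noncomm7.2 * permOf noncomm7.1 := by
      rw [← hu', ← hv']
      simp only [mul_assoc, inv_mul_cancel_left]
      rw [← mul_assoc ((u : ↥Cfsg.M24) : Equiv.Perm Cfsg.GolayPt), e', mul_assoc]
    have hi' := mem_pts.1 hi
    rw [← num_permOf (valid_of_good gb) hi',
      ← num_permOf (valid_of_good ga) (num_lt _ _), ← num_mul, e2, num_mul,
      num_permOf (valid_of_good gb) (num_lt _ _), num_permOf (valid_of_good ga) hi']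
  · refine ⟨(k⁻¹ : ↥Cfsg.M24) • GolayOrbit.fam trio7,
      GolayOrbitThms.trios_inv _ _ (GolayOrbitThms.trio_of_chk (by decide +kernel)), fun n hn => ?_⟩
    obtain ⟨hM, h⟩ := (normEquiv x hx7 k hk ⟨n, hn⟩).2
    obtain ⟨w, hw, hwe⟩ := exists_of_holds hM (holds_cNorm h)
    have hw' := (intChk_iff hw valid7 validPow).2 (hwe ▸ h)
    have h1 : (trio7.all fun a => w.foldr (fun P m => pmask P m) a == a ||
        trio7.contains (w.foldr (fun P m => pmask P m) a)) = true :=
      List.eq_of_mem_replicate (norm_search ▸ List.mem_map.2 ⟨w, List.mem_filter.2 ⟨hw, hw'⟩, rfl⟩)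
    have hT : wperm w • GolayOrbit.fam trio7 = GolayOrbit.fam trio7 :=
      smul_fam_wperm (good_of_mem hw) h1 (by decide +kernel)
    rw [hwe] at hT
    change ((k : Equiv.Perm Cfsg.GolayPt) * ((n : ↥Cfsg.M24) : Equiv.Perm Cfsg.GolayPt) *
      (k : Equiv.Perm Cfsg.GolayPt)⁻¹) • GolayOrbit.fam trio7 = GolayOrbit.fam trio7 at hT
    rw [mul_smul, mul_smul, smul_eq_iff_eq_inv_smul] at hT
    exact hT

end Cfsg.Agent.S5604
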