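import Cfsg.Statements.S5606
import Cfsg.Agent.Lib.GolayClasses
-- import your own Cfsg.Agent.* helpers here

set_option autoImplicit false
open scoped Pointwise
open Cfsg

namespace Cfsg.Agent.S5606

open Cfsg.Agent.GolayClasses Cfsg.Agent.GolayClassData Cfsg.Agent.GolayPerm Cfsg.Agent.GolayBasic

/-- A fixed-point-free involution of the group of the length-24 code maps to themselves exactly 15 octads, exactly 75 trios and exactly 51 sextets. -/
theorem result (g : Equiv.Perm Cfsg.GolayPt) (hg : g ∈ Cfsg.M24) (h₂ : orderOf g = 2) (h₀ : ∀ p, g p ≠ p) : {o : Finset Cfsg.GolayPt | o ∈ Cfsg.octads ∧ g • o = o}.ncard = 15 ∧ {T : Finset (Finset Cfsg.GolayPt) | T ∈ Cfsg.trios ∧ g • T = T}.ncard = 75 ∧ {S : Finset (Finset Cfsg.GolayPt) | S ∈ Cfsg.sextets ∧ g • S = S}.ncard = 51 := by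
  obtain ⟨k, hk⟩ := rep_of_fixed (r := r2_0) (r' := r2_8) (g := g)
    (valid_of_good (valid_reps _ (by simp))) ((by
      obtain ⟨s, hs, h⟩ := exists_conj_two hg h₂
      exact ⟨s, by simp at hs ⊢; tauto, h⟩)) (n := 0) (by simpa [Finset.filter_eq_empty_iff] using h₀) (by decide +kernel)
  have hr : good r2_0 = true := valid_reps _ (by simp)
  exact ⟨count_octads hr k hk (by decide +kernel), count_trios hr k hk (by decide +kernel), count_sextets hr k hk (by decide +kernel)⟩

end Cfsg.Agent.S5606
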