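import Cfsg.Statements.S5607
import Cfsg.Agent.Lib.GolayFpf
-- import your own Cfsg.Agent.* helpers here

set_option autoImplicit false
open scoped Pointwise
open Cfsg

namespace Cfsg.Agent.S5607

open Cfsg.Agent.GolayClasses Cfsg.Agent.GolayClassData Cfsg.Agent.GolayPerm Cfsg.Agent.GolayBasic

/-- For a fixed-point-free involution t of the group of the length-24 code: its centraliser in that group has order 7680, is transitive on the 24 points, and is contained, together with t, in the stabiliser of some sextet. -/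
theorem result (t : Equiv.Perm Cfsg.GolayPt) (ht : t ∈ Cfsg.M24) (h₂ : orderOf t = 2) (h₀ : ∀ p, t p ≠ p) : Nat.card {c : Equiv.Perm Cfsg.GolayPt // c ∈ Cfsg.M24 ∧ c * t = t * c} = 7680 ∧ (∀ p q : Cfsg.GolayPt, ∃ c ∈ Cfsg.M24, c * t = t * c ∧ c p = q) ∧ ∃ S ∈ Cfsg.sextets, t • S = S ∧ ∀ c ∈ Cfsg.M24, c * t = t * c → c • S = S := by
  obtain ⟨k, hk⟩ : ∃ k : ↥Cfsg.M24, (k : Equiv.Perm Cfsg.GolayPt) * t *
      (k : Equiv.Perm Cfsg.GolayPt)⁻¹ = permOf r2_0 := by
    refine rep_of_fixed (r' := r2_8) (valid_of_good (valid_reps _ (by simp)))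
      (exists_conj_two ht h₂) (n := 0) (by simpa [Finset.filter_eq_empty_iff] using h₀)
      (by decide +kernel)
  have key : ∀ c : Equiv.Perm Cfsg.GolayPt, c ∈ Cfsg.M24 ∧ c * t = t * c ↔
      (k : Equiv.Perm Cfsg.GolayPt) * c * (k : Equiv.Perm Cfsg.GolayPt)⁻¹ ∈ GolayFpf.cent := by
    intro c
    rw [GolayFpf.mem_cent, ← hk, Subgroup.mul_mem_cancel_right _ (inv_mem k.2),
      Subgroup.mul_mem_cancel_left _ k.2]
    refine and_congr_right fun _ => ?_
    rw [← MulAut.conj_apply, ← MulAut.conj_apply, ← map_mul, ← map_mul,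
      (MulAut.conj (k : Equiv.Perm Cfsg.GolayPt)).injective.eq_iff]
  refine ⟨?_, fun p q => ?_, (k⁻¹ : ↥Cfsg.M24) • GolayOrbit.fam sextet2, ?_, ?_, fun c hc hct => ?_⟩
  · rw [← GolayFpf.card_cent]
    exact Nat.card_congr ((MulAut.conj (k : Equiv.Perm Cfsg.GolayPt)).toEquiv.subtypeEquiv key)
  · obtain ⟨a, ha, ea, -⟩ := GolayFpf.wit (q := (k : Equiv.Perm Cfsg.GolayPt) p)
    obtain ⟨b, hb, eb, -⟩ := GolayFpf.wit (q := (k : Equiv.Perm Cfsg.GolayPt) q)
    have h := (key ((k : Equiv.Perm Cfsg.GolayPt)⁻¹ * (b * a⁻¹) * k)).2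
      (by simpa [mul_assoc] using mul_mem hb (inv_mem ha))
    refine ⟨_, h.1, h.2, ?_⟩
    rw [Equiv.Perm.mul_apply, Equiv.Perm.mul_apply, Equiv.Perm.mul_apply, ← ea]
    simp [eb]
  · exact GolayOrbitThms.sextets_inv _ _ (GolayOrbitThms.sextet_of_chk (by decide +kernel))
  · have h := GolayFpf.smul_sextet ((key t).1 ⟨ht, rfl⟩)
    rw [mul_smul, mul_smul, smul_eq_iff_eq_inv_smul] at h
    exact h
  · have h := GolayFpf.smul_sextet ((key c).1 ⟨hc, hct⟩)
    rw [mul_smul, mul_smul, smul_eq_iff_eq_inv_smul] at h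
    exact h

end Cfsg.Agent.S5607
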