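import Cfsg.Statements.S5608
import Cfsg.Agent.Lib.GolayFpf
-- import your own Cfsg.Agent.* helpers here

set_option autoImplicit false
open scoped Pointwise
open Cfsg

namespace Cfsg.Agent.S5608

open Cfsg.Agent.GolayClasses Cfsg.Agent.GolayClassData Cfsg.Agent.GolayPerm Cfsg.Agent.GolayBasic

theorem fixed_mod {x s : Equiv.Perm Cfsg.GolayPt} (_hx : x ∈ Cfsg.M24) (h₃ : orderOf x = 3)
    (hc : Commute x s) (h0 : (Finset.univ.filter fun p => x p = p).card = 0) :
    (Finset.univ.filter fun p => s p = p).card % 3 = 0 := by
  have : Fact (Nat.Prime 3) := ⟨Nat.prime_three⟩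
  have hne : ∀ p, x p ≠ p := fun p hp => by
    have : p ∈ Finset.univ.filter fun p => x p = p := by simpa using hp
    rw [Finset.card_eq_zero.1 h0] at this
    simp at this
  have hinv : ∀ p, s p = p ↔ s (x p) = x p := by
    intro p
    rw [← Equiv.Perm.mul_apply, ← hc.eq, Equiv.Perm.mul_apply, x.injective.eq_iff]
  let f : Equiv.Perm {p // s p = p} := x.subtypePerm fun p => (hinv p).symm
  have h := Equiv.Perm.card_fixedPoints_modEq (f := (f : {p // s p = p} → {p // s p = p})) (p := 3)
    (n := 1) (by
      funext q
      rw [pow_one]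
      show f (f (f q)) = q
      refine Subtype.ext ?_
      show x (x (x q.1)) = q.1
      have e : x ^ 3 = 1 := h₃ ▸ pow_orderOf_eq_one x
      rw [← Equiv.Perm.mul_apply, ← Equiv.Perm.mul_apply, ← pow_three', e]
      rfl)
  have hz : Fintype.card (Function.fixedPoints (f : {p // s p = p} → {p // s p = p})) = 0 := by
    rw [Fintype.card_eq_zero_iff]
    exact ⟨fun q => hne q.1.1 (congrArg Subtype.val q.2)⟩
  rw [hz, Nat.modEq_zero_iff_dvd, Fintype.card_subtype] at h
  exact Nat.mod_eq_zero_of_dvd h

/-- If an element of order 3 and an involution of the group of the length-24 code commute, then either the element of order 3 has exactly 6 fixed points and the involution exactly 8, or both are fixed-point-free. -/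
theorem result (x s : Equiv.Perm Cfsg.GolayPt) (hx : x ∈ Cfsg.M24) (hs : s ∈ Cfsg.M24) (h₃ : orderOf x = 3) (h₂ : orderOf s = 2) (hc : Commute x s) : ((Finset.univ.filter fun p => x p = p).card = 6 ∧ (Finset.univ.filter fun p => s p = p).card = 8) ∨ ((Finset.univ.filter fun p => x p = p).card = 0 ∧ (Finset.univ.filter fun p => s p = p).card = 0) := by
  obtain ⟨r, hr, k, hk⟩ := exists_conj_three hx h₃
  obtain ⟨r', hr', k', hk'⟩ := exists_conj_two hs h₂
  have hv : valid r = true := valid_of_good (valid_reps r (by simp at hr ⊢; tauto))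
  have hv' : valid r' = true := valid_of_good (valid_reps r' (by simp at hr' ⊢; tauto))
  have fx : (Finset.univ.filter fun p => x p = p).card =
      (pts.filter fun i => pimg r i == i).length := by
    rw [← card_fixed_conj (k : Equiv.Perm Cfsg.GolayPt) x, hk, card_fixed_permOf hv]
  have fs : (Finset.univ.filter fun p => s p = p).card =
      (pts.filter fun i => pimg r' i == i).length := by
    rw [← card_fixed_conj (k' : Equiv.Perm Cfsg.GolayPt) s, hk', card_fixed_permOf hv']
  have ex0 : (pts.filter fun i => pimg r3_0 i == i).length = 0 := by decide +kernel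
  have ex6 : (pts.filter fun i => pimg r3_6 i == i).length = 6 := by decide +kernel
  have es0 : (pts.filter fun i => pimg r2_0 i == i).length = 0 := by decide +kernel
  have es8 : (pts.filter fun i => pimg r2_8 i == i).length = 8 := by decide +kernel
  simp only [List.mem_cons, List.not_mem_nil, or_false] at hr hr'
  rw [fx, fs]
  rcases hr with rfl | rfl <;> rcases hr' with rfl | rfl
  · exact Or.inr ⟨ex0, es0⟩
  · -- a fixed-point-free element of order three on the eight fixed points of the involution
    exfalso
    rw [ex0] at fx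
    rw [es8] at fs
    have h := fixed_mod hx h₃ hc fx
    rw [fs] at h
    omega
  · exfalso
    rw [ex6] at fx
    have hmem : (k' : Equiv.Perm Cfsg.GolayPt) * x * (k' : Equiv.Perm Cfsg.GolayPt)⁻¹ ∈
        GolayFpf.cent := by
      rw [GolayFpf.mem_cent, ← hk']
      exact ⟨M24_conj_mem k' hx, hc.map (MulAut.conj (k' : Equiv.Perm Cfsg.GolayPt)).toMonoidHom⟩
    have h := GolayFpf.three_moves hmem (by rw [orderOf_conj', h₃])
    rw [← card_fixed_conj (k' : Equiv.Perm Cfsg.GolayPt) x, Finset.filter_eq_empty_iff.2 fun p _ => h p,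
      Finset.card_empty] at fx
    omega
  · exact Or.inl ⟨ex6, es8⟩

end Cfsg.Agent.S5608
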