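import Cfsg.Statements.S5609
import Cfsg.Agent.Lib.GolayCount
-- import your own Cfsg.Agent.* helpers here

set_option autoImplicit false
open scoped Pointwise
open Cfsg

namespace Cfsg.Agent.S5609

open scoped Pointwise
open Cfsg.Agent.GolayBasic Cfsg.Agent.GolayOrbit Cfsg.Agent.GolayOrbitThms Cfsg.Agent.GolayCount

/-- common neighbours of two octads -/
theorem neighbours {o o' : Finset Cfsg.GolayPt} (ho : o ∈ Cfsg.octads) (ho' : o' ∈ Cfsg.octads) :
    ((o ∩ o').card = 4 → ∃ u ∈ Cfsg.octads, Disjoint o u ∧ Disjoint o' u) ∧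
    ((o ∩ o').card = 2 → (¬ ∃ u ∈ Cfsg.octads, Disjoint o u ∧ Disjoint o' u) ∧
      ∃ u ∈ Cfsg.octads, Disjoint o u ∧ (u ∩ o').card = 4) := by
  obtain ⟨g, rfl⟩ := exists_smul_octad ho
  obtain ⟨x, hx, hxe⟩ := mem_wordsOfWeight.1 (octads_inv g⁻¹ o' ho')
  have e : o' = g • mset (enc x) := by rw [hxe, smul_inv_smul]
  subst e
  have hchk : ((ofWeight 8).all fun x =>
      (!(wt (13062145 &&& enc x) == 4) ||
        (ofWeight 8).any fun u => 13062145 &&& enc u == 0 && enc x &&& enc u == 0) &&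
      (!(wt (13062145 &&& enc x) == 2) ||
        (((ofWeight 8).filter fun u => 13062145 &&& enc u == 0).all fun u => !(enc x &&& enc u == 0)) &&
        ((ofWeight 8).filter fun u => 13062145 &&& enc u == 0).any fun u =>
          wt (enc u &&& enc x) == 4)) = true := by
    decide +kernel
  have h := List.all_eq_true.1 hchk x hx
  simp only [Bool.and_eq_true, Bool.or_eq_true, Bool.not_eq_true', beq_eq_false_iff_ne, beq_iff_eq,
    List.any_eq_true, List.all_eq_true, List.mem_filter] at h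
  have hdis : ∀ a b : ℕ, Disjoint (g • mset a) (g • mset b) ↔ mset (a &&& b) = ∅ := by
    intro a b
    rw [Finset.disjoint_iff_inter_eq_empty, ← Finset.smul_finset_inter, mset_and,
      Finset.smul_finset_eq_empty]
  have hmem : ∀ u ∈ ofWeight 8, g • mset (enc u) ∈ Cfsg.octads := fun u hu =>
    octads_inv g _ (mem_wordsOfWeight.2 ⟨u, hu, rfl⟩)
  rw [card_inter_smul, ← mset_and, card_mset]
  refine ⟨fun h4 => ?_, fun h2 => ⟨?_, ?_⟩⟩
  · obtain ⟨u, hu, hu1, hu2⟩ := h.1.resolve_left (not_not.2 h4)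
    exact ⟨_, hmem u hu, (hdis _ _).2 (by rw [hu1, mset_zero]), (hdis _ _).2 (by rw [hu2, mset_zero])⟩
  · rintro ⟨u, hu, hu1, hu2⟩
    obtain ⟨y, hy, hye⟩ := mem_wordsOfWeight.1 (octads_inv g⁻¹ u hu)
    have e : u = g • mset (enc y) := by rw [hye, smul_inv_smul]
    subst e
    rw [hdis, ← mset_zero] at hu1 hu2
    have hylt := enc_lt (List.mem_range.1 (List.mem_filter.1 hy).1)
    exact (h.2.resolve_left (not_not.2 h2)).1 y ⟨hy, mset_inj
      (lt_of_le_of_lt Nat.and_le_right hylt) (by norm_num) hu1⟩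
      (mset_inj (lt_of_le_of_lt Nat.and_le_right hylt) (by norm_num) hu2)
  · obtain ⟨u, ⟨hu, hu1⟩, hu4⟩ := (h.2.resolve_left (not_not.2 h2)).2
    exact ⟨_, hmem u hu, (hdis _ _).2 (by rw [hu1, mset_zero]), by
      rw [card_inter_smul, ← mset_and, card_mset, hu4]⟩

/-- intersection sizes -/
theorem cases4 {o o' : Finset Cfsg.GolayPt} (ho : o ∈ Cfsg.octads) (ho' : o' ∈ Cfsg.octads)
    (hne : o ≠ o') : (o ∩ o').card = 0 ∨ (o ∩ o').card = 4 ∨ (o ∩ o').card = 2 := by
  obtain ⟨g, rfl⟩ := exists_smul_octad ho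
  obtain ⟨x, hx, hxe⟩ := mem_wordsOfWeight.1 (octads_inv g⁻¹ o' ho')
  have e : o' = g • mset (enc x) := by rw [hxe, smul_inv_smul]
  subst e
  have hchk : ((ofWeight 8).all fun x => enc x == 13062145 || wt (13062145 &&& enc x) == 0 ||
      wt (13062145 &&& enc x) == 4 || wt (13062145 &&& enc x) == 2) = true := by decide +kernel
  have h := List.all_eq_true.1 hchk x hx
  simp only [Bool.or_eq_true, beq_iff_eq] at h
  rw [card_inter_smul, ← mset_and, card_mset]
  rcases h with ((h | h) | h) | h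
  · exact absurd (by rw [h]) hne
  all_goals omega


/-- In the graph on the 759 octads of the length-24 code in which two octads are adjacent when they are disjoint, the graph is connected (of diameter 3) and two distinct octads are at distance 1, 2 or 3 exactly when they meet in 0, 4 or 2 points respectively. -/
theorem result (o o' : Finset Cfsg.GolayPt) (ho : o ∈ Cfsg.octads) (ho' : o' ∈ Cfsg.octads) (hne : o ≠ o') : (Cfsg.blockGraph Cfsg.octads).Connected ∧ ((Cfsg.blockGraph Cfsg.octads).dist ⟨o, ho⟩ ⟨o', ho'⟩ = 1 ↔ (o ∩ o').card = 0) ∧ ((Cfsg.blockGraph Cfsg.octads).dist ⟨o, ho⟩ ⟨o', ho'⟩ = 2 ↔ (o ∩ o').card = 4) ∧ ((Cfsg.blockGraph Cfsg.octads).dist ⟨o, ho⟩ ⟨o', ho'⟩ = 3 ↔ (o ∩ o').card = 2) := by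
  set G := Cfsg.blockGraph Cfsg.octads with hG
  have hadj : ∀ a b : ↥Cfsg.octads, G.Adj a b ↔
      ((a : Finset Cfsg.GolayPt) ∩ b).card = 0 := by
    intro a b
    rw [hG, Cfsg.blockGraph, SimpleGraph.fromRel_adj, Finset.card_eq_zero,
      ← Finset.disjoint_iff_inter_eq_empty]
    refine ⟨fun h => h.2.elim id (fun h' => Disjoint.symm h'), fun h => ⟨fun e => ?_, Or.inl h⟩⟩
    have h8 := a.2.2
    rw [e, disjoint_self, Finset.bot_eq_empty] at h
    rw [e, h, Finset.card_empty] at h8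
    exact absurd h8 (by norm_num)
  have adj' : ∀ {a b : Finset Cfsg.GolayPt} (ha : a ∈ Cfsg.octads) (hb : b ∈ Cfsg.octads),
      Disjoint a b → G.Adj ⟨a, ha⟩ ⟨b, hb⟩ := fun ha hb h =>
    (hadj _ _).2 (by rw [Finset.disjoint_iff_inter_eq_empty.1 h]; rfl)
  have w4 : ∀ a b : ↥Cfsg.octads, ((a : Finset Cfsg.GolayPt) ∩ b).card = 4 →
      ∃ w : G.Walk a b, w.length = 2 := by
    rintro ⟨a, ha⟩ ⟨b, hb⟩ h4
    obtain ⟨u, hu, h1, h2⟩ := (neighbours ha hb).1 h4
    exact ⟨.cons (adj' ha hu h1) (.cons (adj' hb hu h2).symm .nil), rfl⟩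
  have w2 : ∀ a b : ↥Cfsg.octads, ((a : Finset Cfsg.GolayPt) ∩ b).card = 2 →
      ∃ w : G.Walk a b, w.length = 3 := by
    rintro ⟨a, ha⟩ ⟨b, hb⟩ h2
    obtain ⟨u, hu, h1, h4⟩ := ((neighbours ha hb).2 h2).2
    obtain ⟨w, hw⟩ := w4 ⟨u, hu⟩ ⟨b, hb⟩ h4
    exact ⟨.cons (adj' ha hu h1) w, by rw [SimpleGraph.Walk.length_cons, hw]⟩
  have hreach : ∀ a b : ↥Cfsg.octads, G.Reachable a b := by
    intro a b
    by_cases hab : a = b
    · exact hab ▸ SimpleGraph.Reachable.refl _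
    rcases cases4 a.2 b.2 (fun e => hab (Subtype.ext e)) with h | h | h
    · exact ((hadj a b).2 h).reachable
    · obtain ⟨w, -⟩ := w4 a b h; exact w.reachable
    · obtain ⟨w, -⟩ := w2 a b h; exact w.reachable
  have : Nonempty ↥Cfsg.octads := ⟨⟨o, ho⟩⟩
  refine ⟨⟨hreach⟩, ?_⟩
  set a : ↥Cfsg.octads := ⟨o, ho⟩
  set b : ↥Cfsg.octads := ⟨o', ho'⟩
  have hne' : a ≠ b := fun e => hne (congrArg Subtype.val e)
  have d1 : G.dist a b = 1 ↔ (o ∩ o').card = 0 := by
    rw [SimpleGraph.dist_eq_one_iff_adj, hadj]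
  have d0 : G.dist a b ≠ 0 := fun h => hne' ((hreach a b).dist_eq_zero_iff.1 h)
  have d4 : (o ∩ o').card = 4 → G.dist a b = 2 := by
    intro h4
    obtain ⟨w, hw⟩ := w4 a b h4
    have := SimpleGraph.dist_le w
    have : G.dist a b ≠ 1 := fun h => by rw [d1.1 h] at h4; omega
    omega
  have d2 : (o ∩ o').card = 2 → G.dist a b = 3 := by
    intro h2
    obtain ⟨w, hw⟩ := w2 a b h2
    have := SimpleGraph.dist_le w
    have : G.dist a b ≠ 1 := fun h => by rw [d1.1 h] at h2; omega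
    have : G.dist a b ≠ 2 := by
      intro h
      obtain ⟨p, hp⟩ := (hreach a b).exists_walk_length_eq_dist
      rw [h] at hp
      obtain ⟨u, h1, h3⟩ : ∃ u, G.Adj a u ∧ G.Adj u b := by
        have h1 := p.adj_getVert_succ (i := 0) (by omega)
        have h3 := p.adj_getVert_succ (i := 1) (by omega)
        rw [p.getVert_zero] at h1
        rw [show (1 : ℕ) + 1 = p.length by omega, p.getVert_length] at h3
        exact ⟨_, h1, h3⟩
      refine ((neighbours ho ho').2 h2).1 ⟨u, u.2, ?_, ?_⟩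
      · rw [Finset.disjoint_iff_inter_eq_empty]
        exact Finset.card_eq_zero.1 ((hadj a u).1 h1)
      · rw [Finset.disjoint_iff_inter_eq_empty]
        exact Finset.card_eq_zero.1 ((hadj b u).1 h3.symm)
    omega
  refine ⟨d1, ⟨fun h => ?_, d4⟩, ⟨fun h => ?_, d2⟩⟩
  · rcases cases4 ho ho' hne with e | e | e
    · rw [d1.2 e] at h; omega
    · exact e
    · rw [d2 e] at h; omega
  · rcases cases4 ho ho' hne with e | e | e
    · rw [d1.2 e] at h; omega
    · rw [d4 e] at h; omega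
    · exact e

end Cfsg.Agent.S5609
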