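import Cfsg.Statements.S5613
import Cfsg.Agent.Lib.GolayCount
-- import your own Cfsg.Agent.* helpers here

set_option autoImplicit false
open scoped Pointwise
open Cfsg

namespace Cfsg.Agent.S5613

open scoped Pointwise
open Cfsg.Agent.GolayBasic Cfsg.Agent.GolayOrbit Cfsg.Agent.GolayOrbitThms Cfsg.Agent.GolayCount


/-- In the group of the length-24 code, the joint stabiliser of two octads has order 10752, 1152 or 720 according as the octads meet in 0, 4 or 2 points. -/
theorem result (o o' : Finset Cfsg.GolayPt) (ho : o ∈ Cfsg.octads) (ho' : o' ∈ Cfsg.octads) : ((o ∩ o').card = 0 → Nat.card ↥(MulAction.stabilizer Cfsg.M24 o ⊓ MulAction.stabilizer Cfsg.M24 o') = 10752) ∧ ((o ∩ o').card = 4 → Nat.card ↥(MulAction.stabilizer Cfsg.M24 o ⊓ MulAction.stabilizer Cfsg.M24 o') = 1152) ∧ ((o ∩ o').card = 2 → Nat.card ↥(MulAction.stabilizer Cfsg.M24 o ⊓ MulAction.stabilizer Cfsg.M24 o') = 720) := by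
  have key : ∀ k c n : ℕ, ((ofWeight 8).filter fun x => wt (13062145 &&& enc x) == k).length = c →
      c ≠ 0 → c * n = 322560 → (o ∩ o').card = k →
      Nat.card ↥(MulAction.stabilizer Cfsg.M24 o ⊓ MulAction.stabilizer Cfsg.M24 o') = n := by
    intro k c n hc hc0 hn hk
    have h := card_two_stab o o'
    rw [orbit_eq_level (fun X => (o ∩ X).card) (fun g X => inter_inv o g X) octads_inv
      (octad_separate ho) ho', hk, count_octad_inter ho k c hc, card_stab_octad ho, ← hn] at h
    exact Nat.eq_of_mul_eq_mul_left (Nat.pos_of_ne_zero hc0) h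
  exact ⟨key 0 30 10752 (by decide +kernel) (by norm_num) (by norm_num),
    key 4 280 1152 (by decide +kernel) (by norm_num) (by norm_num),
    key 2 448 720 (by decide +kernel) (by norm_num) (by norm_num)⟩

end Cfsg.Agent.S5613
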