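import Cfsg.Statements.S5614
import Cfsg.Agent.Lib.GolayHexad
-- import your own Cfsg.Agent.* helpers here

set_option autoImplicit false
open scoped Pointwise
open Cfsg

namespace Cfsg.Agent.S5614

open Cfsg.Agent.GolaySix Cfsg.Agent.GolayHexad Cfsg.Agent.GolayBasic Cfsg.Agent.GolayOrbitThms Cfsg.Agent.GolayCount

/-- In the group of the length-24 code, the joint stabiliser of two octads meeting in exactly two points is isomorphic to the symmetric group of degree 6. -/
theorem result (o o' : Finset Cfsg.GolayPt) (ho : o ∈ Cfsg.octads) (ho' : o' ∈ Cfsg.octads) (h₂ : (o ∩ o').card = 2) : Nonempty (↥(MulAction.stabilizer Cfsg.M24 o ⊓ MulAction.stabilizer Cfsg.M24 o') ≃* Equiv.Perm (Fin 6)) := by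
  set H := MulAction.stabilizer ↥Cfsg.M24 o ⊓ MulAction.stabilizer ↥Cfsg.M24 o' with hH
  have hC : (o \ o').card = 6 := by
    rw [Finset.card_sdiff, Finset.inter_comm, h₂, ho.2]
  have hstab : ∀ g ∈ H, g • (o \ o') = o \ o' := by
    intro g hg
    rw [Finset.smul_finset_sdiff, MulAction.mem_stabilizer_iff.1 (Subgroup.mem_inf.1 hg).1,
      MulAction.mem_stabilizer_iff.1 (Subgroup.mem_inf.1 hg).2]
  let f := restrict H (o \ o') hstab
  have hinj : Function.Injective f := by
    rw [injective_iff_map_eq_one]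
    intro g hg
    have h1 := (restrict_eq_one hstab g).1 hg
    have hfix := fix_octad ho hC Finset.sdiff_subset (g : ↥Cfsg.M24).2 h1
    exact Subtype.ext (Subtype.ext (fix_word ho (g : ↥Cfsg.M24).2 hfix (Or.inl ⟨rfl, rfl⟩) ho' h₂
      (MulAction.mem_stabilizer_iff.1 (Subgroup.mem_inf.1 g.2).2)))
  have hcard : Nat.card ↥H = 720 := by
    have h := card_two_stab o o'
    rw [orbit_eq_level (fun X => (o ∩ X).card) (fun g X => inter_inv o g X) octads_inv
      (octad_separate ho) ho', h₂, count_octad_inter ho 2 448 (by decide +kernel),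
      card_stab_octad ho, ← hH] at h
    omega
  have hbij : Function.Bijective f := by
    refine (Nat.bijective_iff_injective_and_card f).2 ⟨hinj, ?_⟩
    rw [hcard, Nat.card_perm, Nat.card_eq_fintype_card, Fintype.card_coe, hC]
    rfl
  exact ⟨(MulEquiv.ofBijective f hbij).trans
    (Equiv.permCongrHom (Fintype.equivFinOfCardEq (by rw [Fintype.card_coe, hC])))⟩

end Cfsg.Agent.S5614
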