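import Cfsg.Statements.S5616
import Cfsg.Agent.Lib.GolayCount
-- import your own Cfsg.Agent.* helpers here

set_option autoImplicit false
open scoped Pointwise
open Cfsg

namespace Cfsg.Agent.S5616

open scoped Pointwise
open Cfsg.Agent.GolayBasic Cfsg.Agent.GolayOrbit Cfsg.Agent.GolayOrbitThms Cfsg.Agent.GolayCount

/-- the three counts and their completeness on the standard triple -/
theorem count_triple {Y : Finset Cfsg.GolayPt} (hY : Y.card = 3) (k c : ℕ)
    (hc : ((allOrbs Cfsg.Agent.GolayOrbitData.sextetAllGens
      Cfsg.Agent.GolayOrbitData.sextetAllParts).filter fun S =>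
        (S.filter fun t => !(t &&& 8392705 == 0)).length == k).length = c) :
    {S : Finset (Finset Cfsg.GolayPt) | S ∈ Cfsg.sextets ∧
      (S.filter fun t => (t ∩ Y).Nonempty).card = k}.ncard = c := by
  classical
  obtain ⟨g, rfl⟩ := exists_smul_triple hY
  rw [ncard_smul sextets_inv g
    (Q := fun S => (S.filter fun t => (t ∩ mset 8392705).Nonempty).card = k) (fun S => by
      have e : ((g • S).filter fun t => (t ∩ g • mset 8392705).Nonempty) =
          g • (S.filter fun t => (t ∩ mset 8392705).Nonempty) := by
        rw [Finset.smul_finset_def (s := S), Finset.filter_image,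
          Finset.smul_finset_def (s := S.filter _)]
        congr 1
        refine Finset.filter_congr fun t _ => ?_
        rw [← Finset.smul_finset_inter, Finset.smul_finset_nonempty]
      rw [e, Finset.card_smul_finset]),
    sextets_listing.ncard_filter _
      (fun S => (S.filter fun t => !(t &&& 8392705 == 0)).length == k) (fun S hS => by
      have e : ((fam S).filter fun t => (t ∩ mset 8392705).Nonempty) =
          fam (S.filter fun t => !(t &&& 8392705 == 0)) := by
        ext t
        simp only [Finset.mem_filter, mem_fam, List.mem_filter, Bool.not_eq_true',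
          beq_eq_false_iff_ne]
        constructor
        · rintro ⟨⟨m, hm, rfl⟩, hne⟩
          refine ⟨m, ⟨hm, fun h0 => ?_⟩, rfl⟩
          rw [← mset_and, h0, mset_zero] at hne
          exact Finset.not_nonempty_empty hne
        · rintro ⟨m, ⟨hm, hne⟩, rfl⟩
          refine ⟨⟨m, hm, rfl⟩, Finset.nonempty_iff_ne_empty.2 fun h0 => hne ?_⟩
          rw [← mset_and, ← mset_zero] at h0
          exact mset_inj (lt_of_le_of_lt Nat.and_le_left (ok_lt hS hm)) (by norm_num) h0
      have hnd : ((S.filter fun t => !(t &&& 8392705 == 0)).map mset).Nodup :=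
        (nodup_mset hS).sublist (List.filter_sublist.map _)
      rw [beq_iff_eq, e, fam, List.toFinset_card_of_nodup hnd, List.length_map]), hc]


/-- Let Y be a set of 3 of the 24 points. The sextets of the length-24 code whose tetrads meeting Y number 1, 2 or 3 are respectively 21, 630 and 1120 in number, and two sextets with the same number of tetrads meeting Y are conjugate under the setwise stabiliser of Y in the code's group. -/
theorem result (Y : Finset Cfsg.GolayPt) (hY : Y.card = 3) : {S : Finset (Finset Cfsg.GolayPt) | S ∈ Cfsg.sextets ∧ (S.filter fun t => (t ∩ Y).Nonempty).card = 1}.ncard = 21 ∧ {S : Finset (Finset Cfsg.GolayPt) | S ∈ Cfsg.sextets ∧ (S.filter fun t => (t ∩ Y).Nonempty).card = 2}.ncard = 630 ∧ {S : Finset (Finset Cfsg.GolayPt) | S ∈ Cfsg.sextets ∧ (S.filter fun t => (t ∩ Y).Nonempty).card = 3}.ncard = 1120 ∧ ∀ S S' : Finset (Finset Cfsg.GolayPt), S ∈ Cfsg.sextets → S' ∈ Cfsg.sextets → (S.filter fun t => (t ∩ Y).Nonempty).card = (S'.filter fun t => (t ∩ Y).Nonempty).card → ∃ g ∈ Cfsg.M24, g • Y = Y ∧ g • S = S' := by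
  have c1 := count_triple hY 1 21 (by decide +kernel)
  have c2 := count_triple hY 2 630 (by decide +kernel)
  have c3 := count_triple hY 3 1120 (by decide +kernel)
  refine ⟨c1, c2, c3, fun S S' hS hS' e => ?_⟩
  have hf : ∀ (g : ↥(MulAction.stabilizer ↥Cfsg.M24 Y)) (X : Finset (Finset Cfsg.GolayPt)),
      ((g • X).filter fun t => (t ∩ Y).Nonempty).card = (X.filter fun t => (t ∩ Y).Nonempty).card := by
    intro g X
    have hgY : ∀ t : Finset Cfsg.GolayPt, ((g : ↥Cfsg.M24) • t ∩ Y).Nonempty ↔ (t ∩ Y).Nonempty := by
      intro t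
      have e := MulAction.mem_stabilizer_iff.1 g.2
      have h2 : ((g : ↥Cfsg.M24) • t ∩ (g : ↥Cfsg.M24) • Y).Nonempty ↔ (t ∩ Y).Nonempty := by
        rw [← Finset.smul_finset_inter, Finset.smul_finset_nonempty]
      rwa [e] at h2
    show (((g : ↥Cfsg.M24) • X).filter _).card = _
    rw [Finset.smul_finset_def, Finset.filter_image,
      Finset.card_image_of_injective _ (MulAction.injective _)]
    exact congrArg Finset.card (Finset.filter_congr fun t _ => hgY t)
  obtain ⟨⟨⟨g, hg⟩, hgY⟩, he⟩ := (triple_sextets hY).separate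
    (fun X => (X.filter fun t => (t ∩ Y).Nonempty).card) hf [1, 2, 3] rfl (by decide) (by
      intro v hv
      fin_cases hv
      · exact exists_of_ncard c1 (by norm_num)
      · exact exists_of_ncard c2 (by norm_num)
      · exact exists_of_ncard c3 (by norm_num)) S hS S' hS' e
  exact ⟨g, hg, hgY, he⟩

end Cfsg.Agent.S5616
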