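import Cfsg.Statements.S5618
import Cfsg.Agent.Lib.GolayHexad
-- import your own Cfsg.Agent.* helpers here

set_option autoImplicit false
open scoped Pointwise
open Cfsg

namespace Cfsg.Agent.S5618

open Cfsg.Agent.GolaySix Cfsg.Agent.GolayHexad Cfsg.Agent.GolayBasic Cfsg.Agent.GolayOrbitThms Cfsg.Agent.GolayCount
open scoped Pointwise

theorem other_octad {o d : Finset Cfsg.GolayPt} (ho : o ∈ Cfsg.octads) (hd : d ∈ Cfsg.dodecads)
    (h6 : (o ∩ d).card = 6) : symmDiff o d ∈ Cfsg.octads ∧ symmDiff o d ∩ d = d \ (o ∩ d) := by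
  refine ⟨⟨symmDiff_mem_supports ho.1 hd.1, ?_⟩, ?_⟩
  · rw [symmDiff_def, Finset.sup_eq_union, Finset.card_union_of_disjoint disjoint_sdiff_sdiff,
      Finset.card_sdiff, Finset.card_sdiff, h6, Finset.inter_comm d o, h6, ho.2, hd.2]
  · ext p
    simp only [Finset.mem_inter, Finset.mem_symmDiff, Finset.mem_sdiff]
    tauto

theorem exists_perm {o d : Finset Cfsg.GolayPt} (ho : o ∈ Cfsg.octads) (hd : d ∈ Cfsg.dodecads)
    (h6 : (o ∩ d).card = 6) (σ : Equiv.Perm ↥(o ∩ d)) :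
    ∃ g ∈ Cfsg.M24, g • d = d ∧ g • (o ∩ d) = o ∩ d ∧ ∀ p : ↥(o ∩ d), g p = σ p := by
  obtain ⟨x, hx, hxC⟩ := exists_fin_enum h6
  let xx : Fin 6 → ↥(o ∩ d) := fun i => ⟨x i, (hxC _).2 ⟨i, rfl⟩⟩
  have hxx : Function.Injective xx := fun i j h => hx (congrArg Subtype.val h)
  obtain ⟨m, hm, hmd⟩ := GolayM24.exists_smul_eq_dodecad hd
  have hmem : ∀ p : ↥(o ∩ d), m⁻¹ (p : Cfsg.GolayPt) ∈ Cfsg.Spor.squareDodecad := by
    intro p
    have hp : (p : Cfsg.GolayPt) ∈ m • Cfsg.Spor.squareDodecad := by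
      rw [hmd]; exact (Finset.mem_inter.1 p.2).2
    exact Finset.inv_smul_mem_iff.2 hp
  obtain ⟨h, ⟨hh, hhx⟩, -⟩ := GolayStab.existsUnique_M12
    (fun i : Fin 5 => m⁻¹ (xx i.castSucc : Cfsg.GolayPt))
    (fun i : Fin 5 => m⁻¹ (σ (xx i.castSucc) : Cfsg.GolayPt))
    (m⁻¹.injective.comp (Subtype.val_injective.comp (hxx.comp (Fin.castSucc_injective 5))))
    (m⁻¹.injective.comp (Subtype.val_injective.comp
      (σ.injective.comp (hxx.comp (Fin.castSucc_injective 5)))))
    (fun i => hmem _) (fun i => hmem _)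
  obtain ⟨hhM, hhd⟩ := GolayM24.mem_M12.1 hh
  rw [← GolayM24.squareDodecad_eq] at hhd
  have hgM : m * h * m⁻¹ ∈ Cfsg.M24 := mul_mem (mul_mem hm hhM) (inv_mem hm)
  have hgd : (m * h * m⁻¹) • d = d := by
    rw [← hmd, mul_smul, inv_smul_smul, mul_smul, hhd]
  have hgx : ∀ i : Fin 5, (m * h * m⁻¹) (xx i.castSucc : Cfsg.GolayPt) = σ (xx i.castSucc) := by
    intro i
    rw [Equiv.Perm.mul_apply, Equiv.Perm.mul_apply, hhx i, ← Equiv.Perm.mul_apply, mul_inv_cancel,
      Equiv.Perm.one_apply]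
  set g := m * h * m⁻¹ with hg
  have hgo : g • o = o := by
    refine GolaySteiner.octad_eq_of_five (GolayPerm.smul_mem_octads hgM ho) ho
      (s := Finset.univ.image fun i : Fin 5 => g (xx i.castSucc : Cfsg.GolayPt)) ?_ ?_ ?_
    · rw [Finset.card_image_of_injective (f := fun i : Fin 5 => g (xx i.castSucc : Cfsg.GolayPt)) _
        (g.injective.comp (Subtype.val_injective.comp (hxx.comp (Fin.castSucc_injective 5))))]
      simp
    · intro p hp
      obtain ⟨i, -, rfl⟩ := Finset.mem_image.1 hp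
      exact Finset.smul_mem_smul_finset (Finset.mem_inter.1 (xx i.castSucc).2).1
    · intro p hp
      obtain ⟨i, -, rfl⟩ := Finset.mem_image.1 hp
      rw [hgx i]
      exact (Finset.mem_inter.1 (σ (xx i.castSucc)).2).1
  have hgC : g • (o ∩ d) = o ∩ d := by rw [Finset.smul_finset_inter, hgo, hgd]
  refine ⟨g, hgM, hgd, hgC, fun p => ?_⟩
  let τ := σ⁻¹ * g.subtypePerm (mem_iff_of_smul hgC)
  have hτ : ∀ i : Fin 5, τ (xx i.castSucc) = xx i.castSucc := by
    intro i
    show σ.symm (g.subtypePerm _ (xx i.castSucc)) = _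
    rw [show g.subtypePerm (mem_iff_of_smul hgC) (xx i.castSucc) = σ (xx i.castSucc) from
      Subtype.ext (hgx i), Equiv.symm_apply_apply]
  have hsurj : ∀ q : ↥(o ∩ d), ∃ i, xx i = q := fun q => by
    obtain ⟨i, hi⟩ := (hxC _).1 q.2
    exact ⟨i, Subtype.ext hi⟩
  have hall : ∀ q, τ q = q := by
    intro q
    obtain ⟨i, rfl⟩ := hsurj q
    induction i using Fin.lastCases with
    | cast i => exact hτ i
    | last =>
      obtain ⟨j, hj⟩ := hsurj (τ (xx (Fin.last 5)))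
      induction j using Fin.lastCases with
      | last => exact hj.symm
      | cast j =>
        exfalso
        rw [← hτ j] at hj
        exact (Fin.castSucc_lt_last j).ne (hxx (τ.injective hj))
  have := congrArg Subtype.val (congrArg σ (hall p))
  simpa [τ] using this

/-- For a dodecad d of the length-24 code and a hexad C on it (a 6-point intersection of d with an octad): the joint stabiliser of d and C in the code's group is isomorphic to the symmetric group of degree 6, and it acts faithfully both on the six points of C and on the six points of d outside C. -/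
theorem result (d : Finset Cfsg.GolayPt) (hd : d ∈ Cfsg.dodecads) (C : Finset Cfsg.GolayPt) (hC : C ∈ Cfsg.hexadsOn d) : Nonempty (↥(MulAction.stabilizer Cfsg.M24 d ⊓ MulAction.stabilizer Cfsg.M24 C) ≃* Equiv.Perm (Fin 6)) ∧ (∀ g ∈ MulAction.stabilizer Cfsg.M24 d ⊓ MulAction.stabilizer Cfsg.M24 C, (∀ p ∈ C, ((g : ↥Cfsg.M24) : Equiv.Perm Cfsg.GolayPt) p = p) → g = 1) ∧ ∀ g ∈ MulAction.stabilizer Cfsg.M24 d ⊓ MulAction.stabilizer Cfsg.M24 C, (∀ p ∈ d \ C, ((g : ↥Cfsg.M24) : Equiv.Perm Cfsg.GolayPt) p = p) → g = 1 := by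
  obtain ⟨hC6, o, ho, rfl⟩ := hC
  have hsub : o ∩ d ⊆ o := Finset.inter_subset_left
  set H := MulAction.stabilizer ↥Cfsg.M24 d ⊓ MulAction.stabilizer ↥Cfsg.M24 (o ∩ d) with hH
  have hker : ∀ g ∈ H, (∀ p ∈ o ∩ d, ((g : ↥Cfsg.M24) : Equiv.Perm Cfsg.GolayPt) p = p) → g = 1 :=
    fun g hg h => Subtype.ext (fix_word ho g.2 (fix_octad ho hC6 hsub g.2 h) (Or.inr ⟨rfl, rfl⟩)
      hd hC6 (MulAction.mem_stabilizer_iff.1 (Subgroup.mem_inf.1 hg).1))
  refine ⟨?_, hker, ?_⟩
  · let f := restrict H (o ∩ d) fun g hg => MulAction.mem_stabilizer_iff.1 (Subgroup.mem_inf.1 hg).2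
    have hinj : Function.Injective f := by
      rw [injective_iff_map_eq_one]
      intro g hg
      exact Subtype.ext (hker g g.2 ((restrict_eq_one _ g).1 hg))
    have hsur : Function.Surjective f := by
      intro σ
      obtain ⟨g, hg, hgd, hgC, hgσ⟩ := exists_perm ho hd hC6 σ
      exact ⟨⟨⟨g, hg⟩, Subgroup.mem_inf.2 ⟨hgd, hgC⟩⟩, Equiv.ext fun p => Subtype.ext (hgσ p)⟩
    exact ⟨(MulEquiv.ofBijective f ⟨hinj, hsur⟩).trans
      (Equiv.permCongrHom (Fintype.equivFinOfCardEq (by rw [Fintype.card_coe, hC6])))⟩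
  · intro g hg h
    obtain ⟨ho', he⟩ := other_octad ho hd hC6
    have hi : (symmDiff o d ∩ d).card = 6 := by
      rw [he, Finset.card_sdiff, hd.2, Finset.inter_assoc, Finset.inter_self, hC6]
    have hfix := fix_octad ho' hi Finset.inter_subset_left g.2 fun p hp => h p (he ▸ hp)
    exact Subtype.ext (fix_word ho' g.2 hfix (Or.inr ⟨rfl, rfl⟩) hd hi
      (MulAction.mem_stabilizer_iff.1 (Subgroup.mem_inf.1 hg).1))

end Cfsg.Agent.S5618
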