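import Cfsg.Statements.S5619
import Cfsg.Agent.Lib.GolayDodTriple
-- import your own Cfsg.Agent.* helpers here

set_option autoImplicit false
open scoped Pointwise
open Cfsg

namespace Cfsg.Agent.S5619

open Cfsg.Agent.GolayDodTriple Cfsg.Agent.GolayBasic
open scoped Pointwise

variable {d : Finset Cfsg.GolayPt} {p q r : Cfsg.GolayPt}

theorem main (hd : d ∈ Cfsg.dodecads) (hp : p ∈ d) (hq : q ∈ d) (hr : r ∈ d) (hpq : p ≠ q)
    (hpr : p ≠ r) (hqr : q ≠ r) :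
    (∀ Q : Sylow 3 ↥(dodStab d p q r), (Q : Subgroup ↥(dodStab d p q r)).Normal ∧ Nat.card ↥Q = 9 ∧
      ∀ x ∈ (Q : Subgroup ↥(dodStab d p q r)), x ^ 3 = 1) ∧
    ∀ P : Sylow 2 ↥(dodStab d p q r), Nonempty (↥P ≃* QuaternionGroup 2) := by
  obtain ⟨k, kd, kp, kq, kr⟩ := exists_frame hd hp hq hr hpq hpr hqr
  obtain ⟨c72, c9, h93⟩ := std_card
  set G := dodStab d p q r
  have e : {g : ↥Cfsg.M24 // Std (g : Equiv.Perm Cfsg.GolayPt)} ≃ ↥G :=
    (MulAut.conj k).toEquiv.subtypeEquiv fun g => (mem_transport kd kp kq kr g).symm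
  have hG : Nat.card ↥G = 72 := by
    rw [← c72, ← Nat.card_congr e]
    exact Nat.card_congr
      { toFun := fun g => ⟨g.1.1, g.1.2, g.2⟩
        invFun := fun g => ⟨⟨g.1, g.2.1⟩, g.2.2⟩
        left_inv := fun _ => rfl
        right_inv := fun _ => rfl }
  have back : ∀ x : ↥G, Std ((k⁻¹ * (x : ↥Cfsg.M24) * k : ↥Cfsg.M24) : Equiv.Perm Cfsg.GolayPt) := by
    intro x
    rw [← mem_transport kd kp kq kr]
    rw [show k * (k⁻¹ * (x : ↥Cfsg.M24) * k) * k⁻¹ = x by group]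
    exact x.2
  have hpow : ∀ (x : ↥G) (n : ℕ), x ^ n = 1 ↔
      ((k⁻¹ * (x : ↥Cfsg.M24) * k : ↥Cfsg.M24) : Equiv.Perm Cfsg.GolayPt) ^ n = 1 := by
    intro x n
    rw [← SubmonoidClass.coe_pow, OneMemClass.coe_eq_one,
      show k⁻¹ * (x : ↥Cfsg.M24) * k = k⁻¹ * (x : ↥Cfsg.M24) * k⁻¹⁻¹ by rw [inv_inv], conj_pow,
      conj_eq_one_iff, ← SubmonoidClass.coe_pow, OneMemClass.coe_eq_one]
  have h9 : Nat.card {x : ↥G // x ^ 9 = 1} = 9 := by
    refine Eq.trans (Nat.card_congr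
      { toFun := fun x => ⟨_, (k⁻¹ * (x.1 : ↥Cfsg.M24) * k : ↥Cfsg.M24).2, back x.1, (hpow x.1 9).1 x.2⟩
        invFun := fun g => ⟨⟨k * ⟨g.1, g.2.1⟩ * k⁻¹, (mem_transport kd kp kq kr (⟨g.1, g.2.1⟩ : ↥Cfsg.M24)).2 g.2.2.1⟩,
          (hpow (⟨k * ⟨g.1, g.2.1⟩ * k⁻¹, (mem_transport kd kp kq kr (⟨g.1, g.2.1⟩ : ↥Cfsg.M24)).2 g.2.2.1⟩ : ↥G) 9).2 (by
            rw [show k⁻¹ * (k * (⟨g.1, g.2.1⟩ : ↥Cfsg.M24) * k⁻¹) * k = ⟨g.1, g.2.1⟩ by group]
            exact g.2.2.2)⟩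
        left_inv := fun x => ?_
        right_inv := fun g => ?_ }) c9
    · refine Subtype.ext (Subtype.ext ?_)
      show k * (k⁻¹ * (x.1 : ↥Cfsg.M24) * k) * k⁻¹ = _
      group
    · refine Subtype.ext ?_
      show ((k⁻¹ * (k * (⟨g.1, g.2.1⟩ : ↥Cfsg.M24) * k⁻¹) * k : ↥Cfsg.M24) : Equiv.Perm Cfsg.GolayPt) = _
      rw [show k⁻¹ * (k * (⟨g.1, g.2.1⟩ : ↥Cfsg.M24) * k⁻¹) * k = ⟨g.1, g.2.1⟩ by group]
  refine ⟨fun Q => ?_, fun P => ?_⟩
  · have : Fact (Nat.Prime 3) := ⟨by norm_num⟩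
    have hQ : Nat.card ↥(Q : Subgroup ↥G) = 9 := by
      rw [Sylow.card_eq_multiplicity, hG]
      have : Nat.factorization 72 3 = 2 := by
        rw [Nat.factorization_def 72 (by norm_num)]
        exact padicValNat_eq_two
      rw [this]
      norm_num
    have hsub : ∀ x ∈ (Q : Subgroup ↥G), x ^ 9 = 1 := fun x hx => by
      have h1 : (⟨x, hx⟩ : ↥(Q : Subgroup ↥G)) ^ 9 = 1 := by rw [← hQ]; exact pow_card_eq_one'
      exact congrArg Subtype.val h1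
    have hset : ((Q : Subgroup ↥G) : Set ↥G) = {x | x ^ 9 = 1} := by
      refine Set.eq_of_subset_of_ncard_le hsub ?_ (Set.toFinite _)
      rw [← Nat.card_coe_set_eq, ← Nat.card_coe_set_eq]
      exact le_of_eq (h9.trans hQ.symm)
    refine ⟨⟨fun x hx g => ?_⟩, hQ, fun x hx => ?_⟩
    · have h1 : g * x * g⁻¹ ∈ ((Q : Subgroup ↥G) : Set ↥G) := by
        rw [hset]
        show (g * x * g⁻¹) ^ 9 = 1
        rw [conj_pow, hsub x hx, mul_one, mul_inv_cancel]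
      exact h1
    · exact (hpow x 3).2 (h93 _ (k⁻¹ * (x : ↥Cfsg.M24) * k : ↥Cfsg.M24).2 (back x)
        ((hpow x 9).1 (hsub x hx)))
  · have : Fact (Nat.Prime 2) := ⟨by norm_num⟩
    obtain ⟨f, hf, hfs⟩ := exists_q8
    let φ : QuaternionGroup 2 →* ↥G :=
      ((MulAut.conj k).toMonoidHom.comp f).codRestrict G fun x =>
        (mem_transport kd kp kq kr (f x)).2 (hfs x)
    have hφ : Function.Injective φ := fun a b h =>
      hf ((MulAut.conj k).injective (congrArg Subtype.val h))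
    have h8 : Nat.card ↥φ.range = 8 := by
      rw [← Nat.card_congr (MonoidHom.ofInjective hφ).toEquiv, Nat.card_eq_fintype_card]
      decide +kernel
    have hfac : Nat.factorization 72 2 = 3 := by
      rw [Nat.factorization_def 72 (by norm_num)]
      exact padicValNat_eq_three
    let P0 : Sylow 2 ↥G := Sylow.ofCard φ.range (by rw [h8, hG, hfac]; norm_num)
    exact ⟨(Sylow.equiv P P0).trans (MonoidHom.ofInjective hφ).symm⟩
where
  padicValNat_eq_two : padicValNat 3 72 = 2 := by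
    have : Fact (Nat.Prime 3) := ⟨by norm_num⟩
    rw [show (72 : ℕ) = 3 ^ 2 * 8 by norm_num, padicValNat.mul (by norm_num) (by norm_num),
      padicValNat.prime_pow, padicValNat.eq_zero_of_not_dvd (by norm_num)]
  padicValNat_eq_three : padicValNat 2 72 = 3 := by
    have : Fact (Nat.Prime 2) := ⟨by norm_num⟩
    rw [show (72 : ℕ) = 2 ^ 3 * 9 by norm_num, padicValNat.mul (by norm_num) (by norm_num),
      padicValNat.prime_pow, padicValNat.eq_zero_of_not_dvd (by norm_num)]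

/-- In the group of the length-24 code, the subgroup fixing a dodecad setwise and three of its points individually (a group of order 72) has a normal Sylow 3-subgroup that is elementary abelian of order 9, and its Sylow 2-subgroups are quaternion of order 8. -/
theorem result (d : Finset Cfsg.GolayPt) (hd : d ∈ Cfsg.dodecads) (p q r : Cfsg.GolayPt) (hp : p ∈ d) (hq : q ∈ d) (hr : r ∈ d) (hpq : p ≠ q) (hpr : p ≠ r) (hqr : q ≠ r) : (∀ Q : Sylow 3 ↥(MulAction.stabilizer Cfsg.M24 d ⊓ MulAction.stabilizer Cfsg.M24 p ⊓ MulAction.stabilizer Cfsg.M24 q ⊓ MulAction.stabilizer Cfsg.M24 r), (Q : Subgroup ↥(MulAction.stabilizer Cfsg.M24 d ⊓ MulAction.stabilizer Cfsg.M24 p ⊓ MulAction.stabilizer Cfsg.M24 q ⊓ MulAction.stabilizer Cfsg.M24 r)).Normal ∧ Nat.card ↥Q = 9 ∧ ∀ x ∈ (Q : Subgroup ↥(MulAction.stabilizer Cfsg.M24 d ⊓ MulAction.stabilizer Cfsg.M24 p ⊓ MulAction.stabilizer Cfsg.M24 q ⊓ MulAction.stabilizer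 Cfsg.M24 r)), x ^ 3 = 1) ∧ ∀ P : Sylow 2 ↥(MulAction.stabilizer Cfsg.M24 d ⊓ MulAction.stabilizer Cfsg.M24 p ⊓ MulAction.stabilizer Cfsg.M24 q ⊓ MulAction.stabilizer Cfsg.M24 r), Nonempty (↥P ≃* QuaternionGroup 2) := by
  exact main hd hp hq hr hpq hpr hqr

end Cfsg.Agent.S5619
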