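import Cfsg.Statements.S5620
import Cfsg.Agent.Lib.GolayStab
-- import your own Cfsg.Agent.* helpers here

set_option autoImplicit false
open scoped Pointwise
open Cfsg

namespace Cfsg.Agent.S5620

open Cfsg.Agent.GolayBasic Cfsg.Agent.GolayPerm
open scoped Pointwise

theorem stab_compl (x : Equiv.Perm Cfsg.GolayPt) (s : Finset Cfsg.GolayPt) :
    x • (Finset.univ \ s) = Finset.univ \ s ↔ x • s = s := by
  rw [Finset.smul_finset_sdiff, Finset.smul_finset_univ]
  constructor
  · intro h
    rw [← Finset.compl_eq_univ_sdiff, ← Finset.compl_eq_univ_sdiff] at h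
    exact compl_injective h
  · intro h; rw [h]

theorem conj_M11 {g : Equiv.Perm Cfsg.GolayPt} (hg : g ∈ Cfsg.M24)
    (hgD : g • Cfsg.Spor.squareDodecad = Finset.univ \ Cfsg.Spor.squareDodecad)
    (hg0 : g • (some 0 : Cfsg.GolayPt) = none) :
    MulAut.conj g • Cfsg.Spor.M11 =
      Cfsg.Spor.M12 ⊓ MulAction.stabilizer (Equiv.Perm Cfsg.GolayPt) (none : Cfsg.GolayPt) := by
  ext x
  rw [Subgroup.mem_pointwise_smul_iff_inv_smul_mem]
  simp only [Cfsg.Spor.M11, Cfsg.Spor.M12, Subgroup.mem_inf, MulAut.smul_def, ← map_inv,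
    MulAut.conj_apply, inv_inv]
  rw [Subgroup.mul_mem_cancel_right _ hg, Subgroup.mul_mem_cancel_left _ (inv_mem hg),
    MulAction.mem_stabilizer_iff, MulAction.mem_stabilizer_iff, MulAction.mem_stabilizer_iff,
    MulAction.mem_stabilizer_iff,
    mul_smul, mul_smul, mul_smul, mul_smul, inv_smul_eq_iff, inv_smul_eq_iff, hgD, hg0, stab_compl,
    MulAction.mem_stabilizer_iff]

theorem not_conj {g k : Equiv.Perm Cfsg.GolayPt} (hg : g ∈ Cfsg.M24)
    (hgD : g • Cfsg.Spor.squareDodecad = Finset.univ \ Cfsg.Spor.squareDodecad)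
    (hg0 : g • (some 0 : Cfsg.GolayPt) = none) (hk : k ∈ Cfsg.Spor.M12)
    (hconj : MulAut.conj k • Cfsg.Spor.M11 =
      Cfsg.Spor.M12 ⊓ MulAction.stabilizer (Equiv.Perm Cfsg.GolayPt) (none : Cfsg.GolayPt)) :
    False := by
  rw [← conj_M11 hg hgD hg0] at hconj
  set y := k (some 0 : Cfsg.GolayPt) with hy
  have hyD : y ∈ Cfsg.Spor.squareDodecad := by
    have h0 : (some 0 : Cfsg.GolayPt) ∈ Cfsg.Spor.squareDodecad := by
      rw [GolayM24.squareDodecad_eq]; decide +kernel
    have h1 := Finset.smul_mem_smul_finset (a := k) h0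
    rw [hk.2] at h1
    exact h1
  set z := g⁻¹ y with hz
  have hzD : z ∉ Cfsg.Spor.squareDodecad := by
    intro h
    have h1 := Finset.smul_mem_smul_finset (a := g) h
    rw [hgD, show g • z = y from Equiv.apply_symm_apply g y, Finset.mem_sdiff] at h1
    exact h1.2 hyD
  have hfix : ∀ x ∈ Cfsg.Spor.M11, x z = z := by
    intro x hx
    have h1 : MulAut.conj g x ∈ MulAut.conj k • Cfsg.Spor.M11 := by
      rw [hconj]
      exact Subgroup.smul_mem_pointwise_smul x (MulAut.conj g) _ hx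
    rw [Subgroup.mem_smul_pointwise_iff_exists] at h1
    obtain ⟨u, hu, e⟩ := h1
    have hu0 : u (some 0) = some 0 := hu.2
    have h2 : (g * x * g⁻¹) y = y := by
      rw [← MulAut.conj_apply, ← e, MulAut.smul_def, MulAut.conj_apply, Equiv.Perm.mul_apply,
        Equiv.Perm.mul_apply, hy, Equiv.Perm.inv_def, Equiv.symm_apply_apply, hu0]
    rw [Equiv.Perm.mul_apply, Equiv.Perm.mul_apply] at h2
    show x (g⁻¹ y) = g⁻¹ y
    rw [Equiv.Perm.eq_inv_iff_eq]
    exact h2
  -- another point of the complementary dodecad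
  have h24 : ((Finset.univ : Finset Cfsg.GolayPt) \ Cfsg.Spor.squareDodecad).card = 12 := by
    rw [Finset.card_sdiff, Finset.inter_univ, GolayM24.squareDodecad_mem.2, Finset.card_univ,
      show Fintype.card Cfsg.GolayPt = 24 from by decide +kernel]
  obtain ⟨a, ha, haz⟩ := Finset.exists_mem_ne (s := (Finset.univ : Finset Cfsg.GolayPt) \ Cfsg.Spor.squareDodecad) (by omega) z
  obtain ⟨b, hb, hbn⟩ := Finset.exists_mem_notMem_of_card_lt_card
    (lt_of_le_of_lt Finset.card_le_two (by rw [h24]; norm_num : 2 <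
      ((Finset.univ : Finset Cfsg.GolayPt) \ Cfsg.Spor.squareDodecad).card)) (s := {z, a})
  simp only [Finset.mem_sdiff, Finset.mem_univ, true_and] at ha hb
  simp only [Finset.mem_insert, Finset.mem_singleton, not_or] at hbn
  obtain ⟨x1, hx1, e1, -, -⟩ := GolayStab.exists_M11_three ![z, a, b]
    (List.nodup_ofFn.1 (by simp [List.ofFn_succ, Ne.symm haz, Ne.symm hbn.1, Ne.symm hbn.2]))
    (by intro i; fin_cases i; exacts [hzD, ha, hb])
  obtain ⟨x2, hx2, f1, -, -⟩ := GolayStab.exists_M11_three ![a, z, b]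
    (List.nodup_ofFn.1 (by simp [List.ofFn_succ, haz, Ne.symm hbn.1, Ne.symm hbn.2]))
    (by intro i; fin_cases i; exacts [ha, hzD, hb])
  have h5 : pt 5 = z := by
    have h1 := hfix x1 hx1
    apply x1.injective
    rw [h1, e1]
    rfl
  rw [h5, hfix x2 hx2] at f1
  exact haz f1.symm

/-- Inside the stabiliser of the dodecad of squares (a Mathieu group of degree 12), the stabiliser of the residue 0 (a point of the dodecad) and the stabiliser of the extra point (a point outside the dodecad) are isomorphic but not conjugate; conjugation by a suitable element of the code's group that maps the dodecad of squares onto its complement carries the first onto the second. -/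
theorem result : Nonempty (↥(Cfsg.Spor.M12 ⊓ MulAction.stabilizer (Equiv.Perm Cfsg.GolayPt) (none : Cfsg.GolayPt)) ≃* ↥Cfsg.Spor.M11) ∧ (¬ ∃ k ∈ Cfsg.Spor.M12, MulAut.conj k • Cfsg.Spor.M11 = Cfsg.Spor.M12 ⊓ MulAction.stabilizer (Equiv.Perm Cfsg.GolayPt) (none : Cfsg.GolayPt)) ∧ ∃ g ∈ Cfsg.M24, g • Cfsg.Spor.squareDodecad = Finset.univ \ Cfsg.Spor.squareDodecad ∧ MulAut.conj g • Cfsg.Spor.M11 = Cfsg.Spor.M12 ⊓ MulAction.stabilizer (Equiv.Perm Cfsg.GolayPt) (none : Cfsg.GolayPt) := by
  have hmem : (Finset.univ \ Cfsg.Spor.squareDodecad) ∈ Cfsg.dodecads := by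
    rw [GolayM24.squareDodecad_eq, ← Finset.compl_eq_univ_sdiff, ← mset_compl,
      mset_mem_dodecads (by decide +kernel)]
    exact ⟨by decide +kernel, by decide +kernel⟩
  have hnone : (none : Cfsg.GolayPt) ∈ Finset.univ \ Cfsg.Spor.squareDodecad := by
    rw [GolayM24.squareDodecad_eq]; decide +kernel
  obtain ⟨g, hg, hgD, hg0⟩ := GolayStab.exists_map_dodecad_point hmem hnone
  have e := conj_M11 hg hgD hg0
  refine ⟨⟨?_⟩, ?_, g, hg, hgD, e⟩
  · rw [← e]
    exact (Subgroup.equivSMul (MulAut.conj g) Cfsg.Spor.M11).symm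
  · rintro ⟨k, hk, hconj⟩
    exact not_conj hg hgD hg0 hk hconj

end Cfsg.Agent.S5620
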