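import Cfsg.Statements.S5626
import Cfsg.Agent.Lib.PlaneFour

set_option autoImplicit false
open Cfsg

namespace Cfsg.Agent.S5626

/-- Uniqueness of the projective plane of order 4: any two Steiner systems S(2, 5, 21) (21 points, lines of 5 points, two points on exactly one line) are isomorphic. -/
theorem result {α β : Type*} [Fintype α] [DecidableEq α] [Fintype β] [DecidableEq β] (hα : Fintype.card α = 21) (hβ : Fintype.card β = 21) {L : Set (Finset α)} {L' : Set (Finset β)} (hL : Cfsg.IsSteinerSystem 2 5 L) (hL' : Cfsg.IsSteinerSystem 2 5 L') : Cfsg.SetSystemIso L L' := by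
  classical
  obtain ⟨O⟩ := PlaneFour.Plane.exists_oval (L := L) ⟨hα, hL⟩
  obtain ⟨O'⟩ := PlaneFour.Plane.exists_oval (L := L') ⟨hβ, hL'⟩
  refine ⟨(O.equiv ⟨hα, hL⟩).symm.trans (O'.equiv ⟨hβ, hL'⟩), ?_⟩
  refine (congrArg (fun S => _ '' S) (O.lines ⟨hα, hL⟩).symm).trans ?_
  refine Eq.trans ?_ (O'.lines ⟨hβ, hL'⟩)
  rw [Set.image_image]
  refine Set.image_congr' fun b => ?_
  simp [Finset.image_image, Function.comp_def]

end Cfsg.Agent.S5626
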