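import Cfsg.Statements.S5628
import Cfsg.Agent.Lib.PlaneFour

set_option autoImplicit false
open Cfsg

namespace Cfsg.Agent.S5628

/-- In a projective plane of order 4 (a Steiner system S(2, 5, 21)), every permutation of the six points of a hyperoval (a 6-set met by no line in more than two points) is the restriction of exactly one automorphism of the plane. In particular the stabiliser of a hyperoval in the automorphism group is isomorphic to the symmetric group of degree 6 acting faithfully on the hyperoval. -/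
theorem result {α : Type*} [Fintype α] [DecidableEq α] (hα : Fintype.card α = 21) (L : Set (Finset α)) (hL : Cfsg.IsSteinerSystem 2 5 L) (H : Finset α) (hH : (H.card = 6 ∧ ∀ l ∈ L, (l ∩ H).card ≤ 2)) (σ : Equiv.Perm ↥H) : ∃! g : Equiv.Perm α, g ∈ Cfsg.setSystemAut L ∧ ∀ p : ↥H, g p = σ p := by
  classical
  have h : PlaneFour.Plane L := ⟨hα, hL⟩
  let e := (H.equivFinOfCardEq hH.1).symm
  have hr : Finset.univ.image (fun i => (e i : α)) = H := by
    ext x
    simp only [Finset.mem_image, Finset.mem_univ, true_and]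
    exact ⟨fun ⟨i, hi⟩ => hi ▸ (e i).2, fun hx => ⟨e.symm ⟨x, hx⟩, by simp⟩⟩
  have hr' : Finset.univ.image (fun i => (σ (e i) : α)) = H := by
    ext x
    simp only [Finset.mem_image, Finset.mem_univ, true_and]
    exact ⟨fun ⟨i, hi⟩ => hi ▸ (σ (e i)).2, fun hx => ⟨e.symm (σ.symm ⟨x, hx⟩), by simp⟩⟩
  let O : PlaneFour.Oval L := ⟨fun i => (e i : α), fun i j hij => e.injective (Subtype.ext hij),
    hr.symm ▸ hH.2⟩
  let O' : PlaneFour.Oval L := ⟨fun i => (σ (e i) : α),
    fun i j hij => e.injective (σ.injective (Subtype.ext hij)), hr'.symm ▸ hH.2⟩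
  have stab : ∀ g : Equiv.Perm α, g ∈ Cfsg.setSystemAut L ↔ (fun b : Finset α => b.image g) '' L = L :=
    fun g => Iff.rfl
  let g₀ : Equiv.Perm α := (O.equiv h).symm.trans (O'.equiv h)
  refine ⟨g₀, ⟨(stab g₀).mpr ?_, fun p => ?_⟩, ?_⟩
  · refine (congrArg (fun S => _ '' S) (O.lines h).symm).trans ?_
    refine Eq.trans ?_ (O'.lines h)
    rw [Set.image_image]
    refine Set.image_congr' fun b => ?_
    simp [g₀, Finset.image_image, Function.comp_def]
  · have hp : O.equiv h (Sum.inl (e.symm p)) = (p : α) := by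
      show ((e (e.symm p) : ↥H) : α) = p
      rw [e.apply_symm_apply]
    rw [← hp, Equiv.trans_apply, Equiv.symm_apply_apply]
    show ((σ (e (e.symm p)) : ↥H) : α) = _
    rw [e.apply_symm_apply]
  · rintro g ⟨hg, hgσ⟩
    have hfix : ∀ i, g (O.f i) = O'.f i := fun i => hgσ (e i)
    have hline : ∀ l ∈ L, l.image g ∈ L := fun l hl => ((stab g).mp hg).le ⟨l, hl, rfl⟩
    refine Equiv.ext fun P => ?_
    obtain ⟨x, rfl⟩ := (O.equiv h).surjective P
    rw [Equiv.trans_apply, Equiv.symm_apply_apply]
    rcases x with i | s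
    · exact hfix i
    · refine (O'.syn_point h fun i j hij => ?_).symm
      have hij' : O'.f i ≠ O'.f j := O'.inj.ne hij
      obtain ⟨l, li, lj⟩ := h.ln_spec (O.inj.ne hij)
      have e' : (PlaneFour.ln L (O.f i) (O.f j)).image g = PlaneFour.ln L (O'.f i) (O'.f j) :=
        h.eq_ln hij' (hline _ l) (Finset.mem_image.mpr ⟨_, li, hfix i⟩)
          (Finset.mem_image.mpr ⟨_, lj, hfix j⟩)
      rw [← e', g.injective.mem_finset_image]
      exact (O.pt_spec h s).2 i j hij

end Cfsg.Agent.S5628
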