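import Cfsg.Statements.S5630
import Mathlib
import Cfsg.Agent.Lib.AschGenLinear


set_option autoImplicit false
open Cfsg

namespace Cfsg.Agent.S5630




/-- Subgroup structure of the finite linear groups in dimension at least 3. Let F be a finite field, n ≥ 3, and let H be a subgroup of SL_n(F) (the kernel of the determinant inside GL_n(F)) whose product with the scalar matrices of determinant one is not all of SL_n(F), i.e. H does not cover PSL_n(F). Then either H is contained in a member of one of the eight geometric classes of subgroups of GL_n(F) (reducible, imprimitive, extension field, tensor product, subfield, symplectic-type normaliser, tensor wreath, similarity group of a form, with the conditions built into InLinearClass), or H is in the residual class: modulo scalars it is almost simple, and the perfect preimage of its socle acts absolutely irreducibly, is realisable over no proper subfield, and fixes no non-degenerate quadratic, symplectic or unitary form. (Dimension 2, where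 the linear and symplectic groups coincide, is left to the classical list of subgroups of PSL_2.) -/
theorem result {F : Type*} [Field F] [Fintype F] (n : ℕ) (hn : 3 ≤ n) (H : Subgroup (Matrix.GeneralLinearGroup (Fin n) F)) (hH : H ≤ Cfsg.Geo.specialLinear (Fin n) F) (hproper : H ⊔ (Cfsg.Geo.scalars (Fin n) F ⊓ Cfsg.Geo.specialLinear (Fin n) F) ≠ Cfsg.Geo.specialLinear (Fin n) F) : (∃ M : Subgroup (Matrix.GeneralLinearGroup (Fin n) F), Cfsg.Geo.InLinearClass n F M ∧ H ≤ M) ∨ Cfsg.Geo.InLinearResidualClass H := by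
  classical
  haveI : Nonempty (Fin n) := ⟨⟨0, by omega⟩⟩
  rcases Cfsg.Agent.AschGenLinear.linear_alt (by rw [Fintype.card_fin]; exact hn) hH with h | h
  swap
  · exact Or.inr h
  refine Or.inl ?_
  cases h with
  | sub W hb ht le => exact ⟨_, Or.inl ⟨W, hb, ht, rfl⟩, le⟩
  | decomp t m D hD le => exact ⟨_, Or.inr (Or.inr (Or.inr (Or.inl ⟨t, m, D, hD, rfl⟩))), le⟩
  | field r K hr hK dvd le => exact ⟨_, Or.inr (Or.inr (Or.inr (Or.inr (Or.inl ⟨r, K, hr, hK, rfl⟩)))), le⟩
  | tensor n₁ n₂ e P h1 h12 le =>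
    exact ⟨_, Or.inr (Or.inr (Or.inr (Or.inr (Or.inr (Or.inl ⟨n₁, n₂, e, P, h1, h12, rfl⟩))))), le⟩
  | subfield φ r P hr hc le =>
    exact ⟨_, Or.inr (Or.inr (Or.inr (Or.inr (Or.inr (Or.inr (Or.inl ⟨_, r, P, hr, hc, rfl⟩)))))), le⟩
  | extra p e r m R hp hchar hF hr hn hmin hR htr le =>
    exact ⟨_, Or.inr (Or.inr (Or.inr (Or.inr (Or.inr (Or.inr (Or.inr (Or.inl ⟨r, R, hR, rfl⟩))))))), le⟩
  | wreath m t e P hm ht le =>
    exact ⟨_, Or.inr (Or.inr (Or.inr (Or.inr (Or.inr (Or.inr (Or.inr (Or.inr (Or.inl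
      ⟨m, t, e, P, hm, ht, rfl⟩)))))))), le⟩
  | symp f hf le =>
    refine ⟨_, Or.inr (Or.inr (Or.inr (Or.inr (Or.inr (Or.inr (Or.inr (Or.inr (Or.inr (Or.inl
      ⟨f, hf, ?_, ?_, rfl⟩))))))))), le⟩
    · by_contra h
      exact Cfsg.Agent.AschPrimeForms.no_symplectic (by rw [Fintype.card_fin]; exact Nat.not_even_iff_odd.1 h) ⟨f, hf⟩
    · rcases Nat.even_or_odd n with ⟨k, hk⟩ | h
      · omega
      · exact absurd ⟨f, hf⟩ (Cfsg.Agent.AschPrimeForms.no_symplectic (by rw [Fintype.card_fin]; exact h))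
  | unit σ f hf le =>
    exact ⟨_, Or.inr (Or.inr (Or.inr (Or.inr (Or.inr (Or.inr (Or.inr (Or.inr (Or.inr (Or.inr (Or.inl
      ⟨σ, f, hf, hn, rfl⟩)))))))))), le⟩
  | quad Q hodd hQ le =>
    exact ⟨_, Or.inr (Or.inr (Or.inr (Or.inr (Or.inr (Or.inr (Or.inr (Or.inr (Or.inr (Or.inr (Or.inr
      ⟨Q, hQ, hodd, hn, rfl⟩)))))))))), le⟩

end Cfsg.Agent.S5630
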