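import Cfsg.Statements.S5632
import Cfsg.Agent.Lib.SubspaceStab
-- import your own Cfsg.Agent.* helpers here

set_option autoImplicit false
open Cfsg

namespace Cfsg.Agent.S5632

/-- For a finite field F and subspaces 0 < W < U of F^n with dim W + dim U = n, the elements of SL_n(F) stabilising both W and U form a subgroup that is not maximal in SL_n(F): some subgroup lies strictly between it and SL_n(F). -/
theorem result {F : Type*} [Field F] [Fintype F] (n : ℕ) (W U : Submodule F (Fin n → F)) (hW0 : W ≠ ⊥) (hWU : W < U) (hdim : Module.finrank F W + Module.finrank F U = n) : ∃ K : Subgroup (Matrix.GeneralLinearGroup (Fin n) F), Cfsg.Geo.subspaceStabilizer W ⊓ Cfsg.Geo.subspaceStabilizer U ⊓ Cfsg.Geo.specialLinear (Fin n) F < K ∧ K < Cfsg.Geo.specialLinear (Fin n) F := by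
  have hW1 : W ≠ ⊤ := hWU.ne_top
  obtain ⟨g₀, hg₀, hg₀W⟩ := Cfsg.Agent.SubspaceStab.proper hW0 hW1
  refine ⟨Cfsg.Geo.subspaceStabilizer W ⊓ Cfsg.Geo.specialLinear (Fin n) F, ?_,
    lt_of_le_of_ne inf_le_right fun h => hg₀W (h.symm ▸ hg₀ : g₀ ∈ Cfsg.Geo.subspaceStabilizer W ⊓
      Cfsg.Geo.specialLinear (Fin n) F).1⟩
  have hU1 : U ≠ ⊤ := by
    rintro rfl
    rw [finrank_top, Module.finrank_fin_fun] at hdim
    exact hW0 (Submodule.finrank_eq_zero.1 (by omega))
  obtain ⟨v, -, hv⟩ := SetLike.exists_of_lt (lt_top_iff_ne_top.2 hU1)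
  obtain ⟨u, hu, huW⟩ := SetLike.exists_of_lt hWU
  have hnot : u ∉ W ⊔ F ∙ v := by
    intro h
    rw [Submodule.mem_sup] at h
    obtain ⟨w, hw, z, hz, e⟩ := h
    obtain ⟨c, rfl⟩ := Submodule.mem_span_singleton.1 hz
    by_cases hc : c = 0
    · subst hc
      rw [zero_smul, add_zero] at e
      exact huW (e ▸ hw)
    · apply hv
      have : v = c⁻¹ • (u - w) := by rw [eq_inv_smul_iff₀ hc, ← e, add_sub_cancel_left]
      rw [this]
      exact U.smul_mem _ (U.sub_mem hu (hWU.le hw))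
  obtain ⟨a, hau, haP⟩ := Cfsg.Agent.SubspaceStab.exists_dot _ hnot
  have hav := haP v (Submodule.mem_sup_right (Submodule.mem_span_singleton_self v))
  refine lt_of_le_of_ne (le_inf (le_trans inf_le_left inf_le_left) inf_le_right) fun h => ?_
  have hmem : Cfsg.Agent.SubspaceStab.tv v a hav ∈
      Cfsg.Geo.subspaceStabilizer W ⊓ Cfsg.Geo.specialLinear (Fin n) F :=
    ⟨Cfsg.Agent.SubspaceStab.im_tv_of_fix fun w hw => by
      rw [haP w (Submodule.mem_sup_left hw), zero_smul]; exact W.zero_mem,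
      Cfsg.Agent.SubspaceStab.tv_mem_sl _ _ _⟩
  rw [← h] at hmem
  have := (hmem.1.2 u).1 hu
  change ((Cfsg.Agent.SubspaceStab.tv v a hav : GL (Fin n) F) : Matrix (Fin n) (Fin n) F).mulVec u ∈ U at this
  rw [Cfsg.Agent.SubspaceStab.tv_apply, hau, one_smul] at this
  exact hv ((U.add_mem_iff_right hu).1 this)

end Cfsg.Agent.S5632
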