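import Cfsg.Statements.S5633
import Cfsg.Agent.Lib.TransvectionMax

set_option autoImplicit false
open Cfsg

namespace Cfsg.Agent.S5633

open Cfsg.Agent.TransvectionMax
open scoped MatrixGroups Matrix


/-- For a finite field F and complementary non-zero subspaces W ⊕ U = F^n with dim W < dim U, the elements of SL_n(F) stabilising both W and U form a subgroup that is not maximal in SL_n(F): some subgroup lies strictly between it and SL_n(F). -/
theorem result {F : Type*} [Field F] [Fintype F] (n : ℕ) (W U : Submodule F (Fin n → F)) (hW0 : W ≠ ⊥) (hWU : W ⊓ U = ⊥) (hWU' : W ⊔ U = ⊤) (hdim : Module.finrank F W < Module.finrank F U) : ∃ K : Subgroup (Matrix.GeneralLinearGroup (Fin n) F), Cfsg.Geo.subspaceStabilizer W ⊓ Cfsg.Geo.subspaceStabilizer U ⊓ Cfsg.Geo.specialLinear (Fin n) F < K ∧ K < Cfsg.Geo.specialLinear (Fin n) F := by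
  have hU0 : U ≠ ⊥ := by
    rintro rfl
    simp at hdim
  obtain ⟨w, hw, hw0⟩ := Submodule.exists_mem_ne_zero_of_ne_bot hW0
  obtain ⟨u, hu, hu0⟩ := Submodule.exists_mem_ne_zero_of_ne_bot hU0
  have huW : u ∉ W := fun h => hu0 ((Submodule.mem_bot F).mp (hWU ▸ Submodule.mem_inf.mpr ⟨h, hu⟩))
  have hwU : w ∉ U := fun h => hw0 ((Submodule.mem_bot F).mp (hWU ▸ Submodule.mem_inf.mpr ⟨hw, h⟩))
  have row : ∀ (X : Submodule F (Fin n → F)) (y : Fin n → F), y ∉ X →
      ∃ φ : Fin n → F, (∀ x ∈ X, φ ⬝ᵥ x = 0) ∧ φ ⬝ᵥ y ≠ 0 := by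
    intro X y hy
    obtain ⟨L, hLy, hLX⟩ := Submodule.exists_dual_map_eq_bot_of_notMem hy inferInstance
    have hL : ∀ x, (fun i => L (Pi.single i 1)) ⬝ᵥ x = L x := fun x => by
      rw [LinearMap.pi_apply_eq_sum_univ L x, dotProduct]
      refine Finset.sum_congr rfl fun i _ => ?_
      rw [smul_eq_mul, mul_comm]
      congr 1
      congr 1
      ext k
      simp [Pi.single_apply, eq_comm]
    refine ⟨fun i => L (Pi.single i 1), fun x hx => ?_, by rwa [hL]⟩
    rw [hL]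
    have : L x ∈ X.map L := Submodule.mem_map_of_mem hx
    rwa [hLX, Submodule.mem_bot] at this
  refine ⟨Cfsg.Geo.subspaceStabilizer W ⊓ Cfsg.Geo.specialLinear (Fin n) F,
    lt_of_le_of_ne (inf_le_inf_right _ inf_le_left) ?_, lt_of_le_of_ne inf_le_right ?_⟩
  · intro he
    obtain ⟨φ, hφW, hφu⟩ := row W u huW
    have hmem : tv w φ ∈ Cfsg.Geo.subspaceStabilizer W ⊓ Cfsg.Geo.specialLinear (Fin n) F := by
      refine ⟨fun x => ?_, tv_mem_sl w φ⟩
      change x ∈ W ↔ (tv w φ : Matrix (Fin n) (Fin n) F) *ᵥ x ∈ W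
      rw [tv_act (hφW w hw)]
      exact (W.add_mem_iff_left (W.smul_mem _ hw)).symm
    rw [← he] at hmem
    have h1 : (tv w φ : Matrix (Fin n) (Fin n) F) *ᵥ u ∈ U := (hmem.1.2 u).mp hu
    rw [tv_act (hφW w hw), U.add_mem_iff_right hu] at h1
    exact hwU (by simpa [hφu] using U.smul_mem (φ ⬝ᵥ u)⁻¹ h1)
  · intro he
    obtain ⟨φ, hφU, hφw⟩ := row U w hwU
    have hmem : tv u φ ∈ Cfsg.Geo.specialLinear (Fin n) F := tv_mem_sl u φ
    rw [← he] at hmem
    have h1 : (tv u φ : Matrix (Fin n) (Fin n) F) *ᵥ w ∈ W := (hmem.1 w).mp hw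
    rw [tv_act (hφU u hu), W.add_mem_iff_right hw] at h1
    exact huW (by simpa [hφw] using W.smul_mem (φ ⬝ᵥ w)⁻¹ h1)

end Cfsg.Agent.S5633
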