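import Cfsg.Statements.S5635
import Cfsg.Agent.Lib.TransvectionMax
-- import your own Cfsg.Agent.* helpers here

set_option autoImplicit false
open Cfsg

namespace Cfsg.Agent.S5635

open Module
open Cfsg.Agent.TransvectionMax
open scoped MatrixGroups Matrix

section Aux

variable {F : Type*} [Field F] {n : ℕ}

/-- The row vector of a functional. -/
def frow (φ : (Fin n → F) →ₗ[F] F) : Fin n → F := fun j => φ (Pi.single j 1)

theorem frow_dot (φ : (Fin n → F) →ₗ[F] F) (x : Fin n → F) : frow φ ⬝ᵥ x = φ x := by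
  conv_rhs => rw [pi_eq_sum_univ' x, map_sum]
  refine Finset.sum_congr rfl fun j _ => ?_
  rw [map_smul, smul_eq_mul, mul_comm]
  rfl

/-- The matrix of x ↦ x + φ x v. -/
def mv (v : Fin n → F) (φ : (Fin n → F) →ₗ[F] F) : Matrix (Fin n) (Fin n) F := 1 + Matrix.vecMulVec v (frow φ)

theorem mv_act (v : Fin n → F) (φ : (Fin n → F) →ₗ[F] F) (x : Fin n → F) : mv v φ *ᵥ x = x + φ x • v := by
  rw [mv, Matrix.add_mulVec, Matrix.one_mulVec, Matrix.vecMulVec_mulVec, op_smul_eq_smul, frow_dot]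

theorem mv_det (v : Fin n → F) (φ : (Fin n → F) →ₗ[F] F) : (mv v φ).det = 1 + φ v := by
  rw [mv, Matrix.vecMulVec_eq Unit, Matrix.det_one_add_replicateCol_mul_replicateRow, frow_dot]

/-- An element of the special linear group with a given matrix. -/
theorem exists_sl (A : Matrix (Fin n) (Fin n) F) (h : A.det = 1) :
    ∃ g ∈ Cfsg.Geo.specialLinear (Fin n) F, (g : Matrix (Fin n) (Fin n) F) = A := by
  refine ⟨Matrix.GeneralLinearGroup.mkOfDetNeZero A (by rw [h]; exact one_ne_zero), ?_, rfl⟩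
  rw [Cfsg.Geo.specialLinear, MonoidHom.mem_ker]
  exact Units.ext h

open Classical in
/-- 0 at the vectors with zero i-th component, 1 elsewhere. -/
noncomputable def ind {t m : ℕ} (c : Fin t → Fin m → (Fin n → F) →ₗ[F] F) (i : Fin t) (x : Fin n → F) : F :=
  if ∀ k, c i k x = 0 then 0 else 1

theorem exists_one [Fintype F] {t : ℕ} (ht13 : 13 ≤ t) (hq4 : Fintype.card F ≤ 4) (D : Fin t → Submodule F (Fin n → F))
    (c : Fin t → Fin 1 → (Fin n → F) →ₗ[F] F) (b : Fin t → Fin 1 → (Fin n → F)) (hbD : ∀ i k, b i k ∈ D i)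
    (hcb : ∀ i k j l, c i k (b j l) = if j = i ∧ l.val = k.val then 1 else 0) :
    ∃ g ∈ Cfsg.Geo.specialLinear (Fin n) F,
      (∀ x, ∑ i, ind c i ((g : Matrix (Fin n) (Fin n) F) *ᵥ x) = ∑ i, ind c i x) ∧
      ∃ p q k l, p ≠ q ∧ ∃ y : Fin n → F, (∃ r, y ∈ D r) ∧
        c p k ((g : Matrix (Fin n) (Fin n) F) *ᵥ y) ≠ 0 ∧ c q l ((g : Matrix (Fin n) (Fin n) F) *ᵥ y) ≠ 0 := by
  classical
  let I : ℕ → Fin t := fun a => ⟨a % t, Nat.mod_lt _ (by omega)⟩
  have hIne : ∀ {a a' : ℕ}, a < t → a' < t → a ≠ a' → I a ≠ I a' := fun ha ha' hne hh =>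
    hne (by simpa [I, Fin.ext_iff, Nat.mod_eq_of_lt ha, Nat.mod_eq_of_lt ha'] using hh)
  let o : Fin 1 := 0
  have hall : ∀ k : Fin 1, k = o := fun k => Subsingleton.elim _ _
  have hq0 : ((Fintype.card F : ℕ) : F) = 0 := FiniteField.cast_card_eq_zero F
  have hq2 : 2 ≤ Fintype.card F := Fintype.one_lt_card
  have hindp : ∀ i x, ind c i x = c i o x ^ (Fintype.card F - 1) := fun i x => by
    by_cases h0 : c i o x = 0
    · rw [h0, zero_pow (by omega)]
      exact if_pos fun k => by rwa [hall k]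
    · rw [FiniteField.pow_card_sub_one_eq_one _ h0]
      exact if_neg fun h => h0 (h o)
  have hid : ∀ y0 y1 y2 y3 : F,
      (y0 + (y0 + y1 + y2 + y3)) ^ (Fintype.card F - 1) + (y1 + (y0 + y1 + y2 + y3)) ^ (Fintype.card F - 1) +
        (y2 + (y0 + y1 + y2 + y3)) ^ (Fintype.card F - 1) + (y3 + (y0 + y1 + y2 + y3)) ^ (Fintype.card F - 1) =
      y0 ^ (Fintype.card F - 1) + y1 ^ (Fintype.card F - 1) + y2 ^ (Fintype.card F - 1) +
        y3 ^ (Fintype.card F - 1) := by
    intro y0 y1 y2 y3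
    rcases (by omega : Fintype.card F = 2 ∨ Fintype.card F = 3 ∨ Fintype.card F = 4) with h | h | h <;>
      rw [h] at hq0 ⊢ <;> norm_num at hq0 ⊢
    · linear_combination 2 * (y0 + y1 + y2 + y3) * hq0
    · linear_combination 2 * (y0 + y1 + y2 + y3) ^ 2 * hq0
    · have h20 : (2 : F) = 0 := mul_self_eq_zero.mp (by linear_combination hq0)
      linear_combination (5 * (y0 + y1 + y2 + y3) ^ 3 -
        3 * (y0 + y1 + y2 + y3) * (y0 * y1 + y0 * y2 + y0 * y3 + y1 * y2 + y1 * y3 + y2 * y3)) * h20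
  let φ : ℕ → (Fin n → F) →ₗ[F] F := fun a =>
    c (I a) o + c (I (a + 1)) o + c (I (a + 2)) o + c (I (a + 3)) o
  let v : ℕ → (Fin n → F) := fun a => b (I a) o + b (I (a + 1)) o + b (I (a + 2)) o + b (I (a + 3)) o
  have hcv : ∀ a, a + 3 < t → ∀ p, c p o (v a) =
      if p ∈ ({I a, I (a + 1), I (a + 2), I (a + 3)} : Finset (Fin t)) then 1 else 0 := by
    intro a ha p
    have e01 := hIne (show a < t by omega) (show a + 1 < t by omega) (by omega)
    have e02 := hIne (show a < t by omega) (show a + 2 < t by omega) (by omega)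
    have e03 := hIne (show a < t by omega) ha (by omega)
    have e12 := hIne (show a + 1 < t by omega) (show a + 2 < t by omega) (by omega)
    have e13 := hIne (show a + 1 < t by omega) ha (by omega)
    have e23 := hIne (show a + 2 < t by omega) ha (by omega)
    simp only [v, map_add, hcb, and_true, Finset.mem_insert, Finset.mem_singleton]
    rcases eq_or_ne p (I a) with h0 | h0
    · subst h0; simp [e01.symm, e02.symm, e03.symm]
    rcases eq_or_ne p (I (a + 1)) with h1 | h1
    · subst h1; simp [e01, e12.symm, e13.symm]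
    rcases eq_or_ne p (I (a + 2)) with h2 | h2
    · subst h2; simp [e02, e12, e23.symm]
    rcases eq_or_ne p (I (a + 3)) with h3 | h3
    · subst h3; simp [e03, e13, e23]
    simp [h0, h1, h2, h3, Ne.symm h0, Ne.symm h1, Ne.symm h2, Ne.symm h3]
  have hstep : ∀ a, a + 3 < t → ∀ x, ∑ i, ind c i (x + φ a x • v a) = ∑ i, ind c i x := by
    intro a ha x
    show ∑ p, ind c p _ = ∑ p, ind c p x
    simp only [hindp, map_add, map_smul, hcv a ha, smul_eq_mul]
    rw [← Finset.sum_add_sum_compl ({I a, I (a + 1), I (a + 2), I (a + 3)} : Finset (Fin t))]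
    conv_rhs => rw [← Finset.sum_add_sum_compl ({I a, I (a + 1), I (a + 2), I (a + 3)} : Finset (Fin t))]
    refine congrArg₂ (· + ·) ?_ (Finset.sum_congr rfl fun p hp => by
      rw [if_neg (Finset.mem_compl.mp hp), mul_zero, add_zero])
    rw [Finset.sum_congr rfl fun p hp => by rw [if_pos hp, mul_one]]
    have e01 := hIne (show a < t by omega) (show a + 1 < t by omega) (by omega)
    have e02 := hIne (show a < t by omega) (show a + 2 < t by omega) (by omega)
    have e03 := hIne (show a < t by omega) ha (by omega)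
    have e12 := hIne (show a + 1 < t by omega) (show a + 2 < t by omega) (by omega)
    have e13 := hIne (show a + 1 < t by omega) ha (by omega)
    have e23 := hIne (show a + 2 < t by omega) ha (by omega)
    simp only [Finset.sum_insert, Finset.mem_insert, Finset.mem_singleton, Finset.sum_singleton, e01, e02, e03,
      e12, e13, e23, or_self, not_false_eq_true, φ, LinearMap.add_apply]
    linear_combination hid (c (I a) o x) (c (I (a + 1)) o x) (c (I (a + 2)) o x) (c (I (a + 3)) o x)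
  have hφv : ∀ a, a + 3 < t → φ a (v a) = 4 := by
    intro a ha
    simp only [φ, LinearMap.add_apply, hcv a ha, Finset.mem_insert, Finset.mem_singleton, true_or, or_true, if_true]
    norm_num
  obtain ⟨g, hg, hgv⟩ := exists_sl (mv (v 0) (φ 0) * mv (v 4) (φ 4)) (by
    rw [Matrix.det_mul, mv_det, mv_det, hφv 0 (by omega), hφv 4 (by omega)]
    rcases (by omega : Fintype.card F = 2 ∨ Fintype.card F = 3 ∨ Fintype.card F = 4) with h | h | h <;>
      rw [h] at hq0 <;> norm_num at hq0 ⊢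
    · linear_combination 12 * hq0
    · linear_combination 8 * hq0
    · linear_combination 6 * hq0)
  refine ⟨g, hg, fun x => ?_, I 1, I 2, o, o, hIne (by omega) (by omega) (by omega), b (I 0) o, ⟨_, hbD _ _⟩, ?_⟩
  · rw [hgv, ← Matrix.mulVec_mulVec, mv_act, mv_act, hstep 0 (by omega), hstep 4 (by omega)]
  · have hφ4 : φ 4 (b (I 0) o) = 0 := by
      simp [φ, hcb, hIne (show 0 < t by omega) (show 4 < t by omega) (by omega),
        hIne (show 0 < t by omega) (show 4 + 1 < t by omega) (by omega),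
        hIne (show 0 < t by omega) (show 4 + 2 < t by omega) (by omega),
        hIne (show 0 < t by omega) (show 4 + 3 < t by omega) (by omega)]
    have hφ0 : φ 0 (b (I 0) o) = 1 := by
      simp [φ, hcb, hIne (show 0 < t by omega) (show 0 + 1 < t by omega) (by omega),
        hIne (show 0 < t by omega) (show 0 + 2 < t by omega) (by omega),
        hIne (show 0 < t by omega) (show 0 + 3 < t by omega) (by omega)]
    rw [hgv, ← Matrix.mulVec_mulVec, mv_act (v 4), hφ4, zero_smul, add_zero, mv_act, hφ0, one_smul]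
    refine ⟨?_, ?_⟩ <;> rw [map_add, hcv 0 (by omega), hcb, if_neg fun h => ?_, zero_add, if_pos (by simp)] <;>
      first
        | exact one_ne_zero
        | exact hIne (show 0 < t by omega) (show 1 < t by omega) (by omega) h.1
        | exact hIne (show 0 < t by omega) (show 2 < t by omega) (by omega) h.1

theorem exists_two [Fintype F] {t : ℕ} (ht7 : 6 ≤ t) (hq2 : Fintype.card F = 2) (D : Fin t → Submodule F (Fin n → F))
    (c : Fin t → Fin 2 → (Fin n → F) →ₗ[F] F) (b : Fin t → Fin 2 → (Fin n → F)) (hbD : ∀ i k, b i k ∈ D i)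
    (hcb : ∀ i k j l, c i k (b j l) = if j = i ∧ l.val = k.val then 1 else 0) :
    ∃ g ∈ Cfsg.Geo.specialLinear (Fin n) F,
      (∀ x, ∑ i, ind c i ((g : Matrix (Fin n) (Fin n) F) *ᵥ x) = ∑ i, ind c i x) ∧
      ∃ p q k l, p ≠ q ∧ ∃ y : Fin n → F, (∃ r, y ∈ D r) ∧
        c p k ((g : Matrix (Fin n) (Fin n) F) *ᵥ y) ≠ 0 ∧ c q l ((g : Matrix (Fin n) (Fin n) F) *ᵥ y) ≠ 0 := by
  classical
  let I : ℕ → Fin t := fun a => ⟨a % t, Nat.mod_lt _ (by omega)⟩
  have hIne : ∀ {a a' : ℕ}, a < t → a' < t → a ≠ a' → I a ≠ I a' := fun ha ha' hne hh =>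
    hne (by simpa [I, Fin.ext_iff, Nat.mod_eq_of_lt ha, Nat.mod_eq_of_lt ha'] using hh)
  have h20 : (2 : F) = 0 := by have := FiniteField.cast_card_eq_zero F; rwa [hq2] at this
  have heq : ∀ {x : F}, x ≠ 0 → x = 1 := fun {x} hx => by
    have := FiniteField.pow_card_sub_one_eq_one x hx
    simpa [hq2] using this
  have hindp : ∀ i x, ind c i x = c i 0 x + c i 1 x + c i 0 x * c i 1 x := fun i x => by
    unfold ind
    simp only [Fin.forall_fin_two]
    by_cases h0 : c i 0 x = 0 <;> by_cases h1 : c i 1 x = 0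
    · simp [h0, h1]
    · rw [if_neg (fun h => h1 h.2), h0, heq h1]; ring
    · rw [if_neg (fun h => h0 h.1), h1, heq h0]; ring
    · rw [if_neg (fun h => h0 h.1), heq h0, heq h1]; linear_combination -h20
  set T : Finset (Fin t) := {I 0, I 1, I 2}
  have e01 := hIne (show 0 < t by omega) (show 1 < t by omega) (by omega)
  have e02 := hIne (show 0 < t by omega) (show 2 < t by omega) (by omega)
  have e12 := hIne (show 1 < t by omega) (show 2 < t by omega) (by omega)
  let φ : (Fin n → F) →ₗ[F] F := c (I 0) 1 + c (I 1) 1 + c (I 2) 1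
  let v : Fin n → F := b (I 0) 0 + b (I 1) 0 + b (I 2) 0
  have hcv1 : ∀ p, c p 1 v = 0 := fun p => by simp [v, hcb]
  have hcv0 : ∀ p, c p 0 v = if p ∈ T then 1 else 0 := fun p => by
    simp only [v, map_add, hcb, and_true, T, Finset.mem_insert, Finset.mem_singleton]
    rcases eq_or_ne p (I 0) with h0 | h0
    · subst h0; simp [e01.symm, e02.symm]
    rcases eq_or_ne p (I 1) with h1 | h1
    · subst h1; simp [e01, e12.symm]
    rcases eq_or_ne p (I 2) with h2 | h2
    · subst h2; simp [e02, e12]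
    simp [h0, h1, h2, Ne.symm h0, Ne.symm h1, Ne.symm h2]
  obtain ⟨g, hg, hgv⟩ := exists_sl (mv v φ) (by
    rw [mv_det]; simp [φ, hcv1])
  refine ⟨g, hg, fun x => ?_, I 1, I 2, 0, 0, e12, b (I 0) 1, ⟨_, hbD _ _⟩, ?_⟩
  · rw [hgv, mv_act]
    rcases eq_or_ne (φ x) 0 with h0 | h0
    · rw [h0, zero_smul, add_zero]
    have h1 := heq h0
    rw [h1, one_smul]
    show ∑ p, ind c p _ = ∑ p, ind c p x
    simp only [hindp, map_add, hcv0, hcv1, add_zero]
    rw [← Finset.sum_add_sum_compl T]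
    conv_rhs => rw [← Finset.sum_add_sum_compl T]
    refine congrArg₂ (· + ·) ?_ (Finset.sum_congr rfl fun p hp => by
      rw [if_neg (Finset.mem_compl.mp hp), add_zero])
    simp only [T, Finset.sum_insert, Finset.mem_insert, Finset.mem_singleton, Finset.sum_singleton, e01, e02, e12,
      or_self, not_false_eq_true, true_or, or_true, if_true]
    simp only [φ, LinearMap.add_apply] at h1
    linear_combination h1 + 2 * h20
  · have hφ0 : φ (b (I 0) 1) = 1 := by simp [φ, hcb, e01, e02]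
    rw [hgv, mv_act, hφ0, one_smul]
    simp [map_add, hcv0, hcb, T]

end Aux

set_option maxHeartbeats 200000 in
/-- For a finite field F with q elements and n ≥ 13, let D be a decomposition of F^n into t ≥ 2 independent subspaces of equal dimension m spanning F^n, where m = 1 and q ≤ 4, or m = 2 and q = 2. Then the elements of SL_n(F) permuting the members of D form a subgroup that is not maximal: some subgroup lies strictly between it and SL_n(F). -/
theorem result {F : Type*} [Field F] [Fintype F] (n : ℕ) (hn : 13 ≤ n) {t : ℕ} (m : ℕ) (D : Fin t → Submodule F (Fin n → F)) (hD : Cfsg.Geo.IsMDecomposition m D) (h : (m = 1 ∧ Fintype.card F ≤ 4) ∨ (m = 2 ∧ Fintype.card F = 2)) : ∃ K : Subgroup (Matrix.GeneralLinearGroup (Fin n) F), Cfsg.Geo.decompositionStabilizer D ⊓ Cfsg.Geo.specialLinear (Fin n) F < K ∧ K < Cfsg.Geo.specialLinear (Fin n) F := by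
  classical
  obtain ⟨h2t, hmpos, hfr, hind, htop⟩ := hD
  have hint : DirectSum.IsInternal D := (DirectSum.isInternal_submodule_iff_iSupIndep_and_iSup_eq_top D).2 ⟨hind, htop⟩
  obtain ⟨bas, hmem, hne⟩ : ∃ bas : Basis (Σ _ : Fin t, Fin m) F (Fin n → F), (∀ p, bas p ∈ D p.1) ∧
      ∀ {x i p}, x ∈ D i → p.1 ≠ i → bas.repr x p = 0 := by
    let v : (i : Fin t) → Basis (Fin m) F (D i) := fun i => Module.finBasisOfFinrankEq F (D i) (hfr i)
    exact ⟨hint.collectedBasis v, fun p => hint.collectedBasis_mem v p,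
      fun {x i p} hx hp => hint.collectedBasis_repr_of_mem_ne v (Ne.symm hp) hx⟩
  let c : Fin t → Fin m → (Fin n → F) →ₗ[F] F := fun i k => bas.coord ⟨i, k⟩
  let b : Fin t → Fin m → (Fin n → F) := fun i k => bas ⟨i, k⟩
  have hbD : ∀ i k, b i k ∈ D i := fun i k => hmem ⟨i, k⟩
  have hcb : ∀ i k j l, c i k (b j l) = if j = i ∧ l.val = k.val then 1 else 0 := fun i k j l => by
    show bas.repr (bas ⟨j, l⟩) ⟨i, k⟩ = _
    rw [Basis.repr_self, Finsupp.single_apply]
    refine if_congr ?_ rfl rfl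
    constructor
    · intro h; obtain ⟨rfl, rfl⟩ := Sigma.mk.inj_iff.mp h |>.imp id (fun e => e); exact ⟨rfl, rfl⟩
    · rintro ⟨rfl, h⟩; rw [Fin.ext h]
  have hcD : ∀ {i j}, i ≠ j → ∀ {x}, x ∈ D i → ∀ k, c j k x = 0 := fun {i j} hij {x} hx k =>
    hne (p := ⟨j, k⟩) hx (Ne.symm hij)
  have htm : t * m = n := by
    have := Module.finrank_eq_card_basis bas
    simpa using this.symm
  let W : Fin t → Submodule F (Fin n → F) := fun i => ⨆ j ∈ ({i}ᶜ : Set (Fin t)), D j
  have hW : ∀ i x, x ∈ W i ↔ ∀ k, c i k x = 0 := fun i x => by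
    constructor
    · intro hx k
      have hle : W i ≤ LinearMap.ker (c i k) := iSup₂_le fun j hj y hy => hcD hj hy k
      exact hle hx
    · intro h
      rw [← bas.sum_repr x]
      refine Submodule.sum_mem _ fun p _ => ?_
      rcases eq_or_ne p.1 i with hp | hp
      · obtain ⟨p1, p2⟩ := p
        obtain rfl : p1 = i := hp
        rw [show bas.repr x ⟨p1, p2⟩ = 0 from h p2, zero_smul]
        exact Submodule.zero_mem _
      · exact Submodule.smul_mem _ _ (Submodule.mem_iSup_of_mem p.1 (Submodule.mem_iSup_of_mem hp (hbD p.1 p.2)))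
  let Q : (Fin n → F) → F := fun x => ∑ i, ind c i x
  let S : Set (Fin n → F) := {x | Q x = 1}
  set K := Cfsg.stabilizing (Cfsg.glToMat (Fin n) F) S ⊓ Cfsg.Geo.specialLinear (Fin n) F with hK
  have hmemS : ∀ {g : GL (Fin n) F}, (∀ x, Q ((g : Matrix (Fin n) (Fin n) F) *ᵥ x) = Q x) →
      g ∈ Cfsg.stabilizing (Cfsg.glToMat (Fin n) F) S := fun {g} hg x => by
    show Q x = 1 ↔ Q ((g : Matrix (Fin n) (Fin n) F) *ᵥ x) = 1
    rw [hg]
  have hinv : ∀ g ∈ Cfsg.Geo.decompositionStabilizer D, ∀ x,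
      Q ((g : Matrix (Fin n) (Fin n) F) *ᵥ x) = Q x := by
    rintro g ⟨σ, hσ⟩ x
    show ∑ i, ind c i _ = ∑ i, ind c i x
    rw [← Equiv.sum_comp σ]
    refine Finset.sum_congr rfl fun i _ => if_congr ?_ rfl rfl
    rw [← hW, ← hW]
    let L := Matrix.toLin' (g : Matrix (Fin n) (Fin n) F)
    have hL : Function.Injective L := fun u v h => act_injective g (by simpa [L, Matrix.toLin'_apply] using h)
    have hWm : (W i).map L = W (σ i) := by
      simp only [W, Submodule.map_iSup]
      refine le_antisymm (iSup₂_le fun j hj => ?_) (iSup₂_le fun j hj => ?_)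
      · rw [hσ j]
        exact le_iSup₂_of_le (σ j) (fun h => hj (σ.injective h)) le_rfl
      · refine le_iSup₂_of_le (σ.symm j) (fun h => hj (by rw [← h, Equiv.apply_symm_apply]; rfl)) ?_
        rw [hσ, Equiv.apply_symm_apply]
    rw [← hWm]
    constructor
    · rintro ⟨y, hy, hyx⟩
      obtain rfl : y = x := hL (by rw [hyx]; rfl)
      exact hy
    · exact fun hx => ⟨x, hx, rfl⟩
  -- the weight of a vector in two lines
  have hk0 : ∀ k : Fin m, (k : ℕ) = 0 ↔ k = ⟨0, hmpos⟩ := fun k => by rw [Fin.ext_iff]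
  have h6 : 6 ≤ t := by rcases h with ⟨rfl, -⟩ | ⟨rfl, -⟩ <;> omega
  let o : Fin m := ⟨0, hmpos⟩
  let I : ℕ → Fin t := fun a => ⟨a % t, Nat.mod_lt _ (by omega)⟩
  have hstrict : K ≠ Cfsg.Geo.specialLinear (Fin n) F := by
    intro hKeq
    have h01 : (I 0 : Fin t) ≠ I 1 := by simp [I, Fin.ext_iff, Nat.mod_eq_of_lt (show 1 < t by omega)]
    obtain ⟨g, hg, hgv⟩ := exists_sl (mv (b (I 1) o) (c (I 0) o)) (by
      rw [mv_det, hcb, if_neg (fun h => h01 h.1.symm), add_zero])
    rw [← hKeq] at hg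
    have h1 : Q (b (I 0) o) = 1 := by
      show ∑ p, ind c p _ = 1
      rw [Finset.sum_eq_single (I 0)]
      · exact if_neg fun h => by simpa [hcb] using h o
      · intro p _ hp
        exact if_pos fun k => by rw [hcb, if_neg fun h => hp h.1.symm]
      · simp
    have h2 := (hg.1 (b (I 0) o)).1 h1
    change Q ((g : Matrix (Fin n) (Fin n) F) *ᵥ b (I 0) o) = 1 at h2
    rw [hgv, mv_act, hcb, if_pos ⟨rfl, rfl⟩, one_smul] at h2
    have h3 : Q (b (I 0) o + b (I 1) o) = 2 := by
      show ∑ p, ind c p _ = 2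
      unfold ind
      rw [← Finset.sum_subset (Finset.subset_univ {I 0, I 1}) (fun p _ hp => if_pos fun k => by
          simp only [Finset.mem_insert, Finset.mem_singleton, not_or] at hp
          rw [map_add, hcb, hcb, if_neg fun h => hp.1 h.1.symm, if_neg fun h => hp.2 h.1.symm, add_zero]),
        Finset.sum_insert (by simp [h01]), Finset.sum_singleton, show (2 : F) = 1 + 1 by norm_num]
      refine congrArg₂ (· + ·) (if_neg fun h => ?_) (if_neg fun h => ?_)
      · simpa [hcb, h01.symm] using h o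
      · simpa [hcb, h01] using h o
    rw [h3] at h2
    exact one_ne_zero (α := F) (by linear_combination h2)
  suffices hmain : ∃ g ∈ Cfsg.Geo.specialLinear (Fin n) F, (∀ x, Q ((g : Matrix (Fin n) (Fin n) F) *ᵥ x) = Q x) ∧
      ∃ p q k l, p ≠ q ∧ ∃ y : Fin n → F, (∃ r, y ∈ D r) ∧
        c p k ((g : Matrix (Fin n) (Fin n) F) *ᵥ y) ≠ 0 ∧ c q l ((g : Matrix (Fin n) (Fin n) F) *ᵥ y) ≠ 0 by
    obtain ⟨g, hg, hgQ, p, q, k, l, hpq, y, ⟨r, hy⟩, hp, hq⟩ := hmain
    refine ⟨K, lt_of_le_not_ge (fun x hx => ⟨hmemS (hinv x hx.1), hx.2⟩) fun hle => ?_,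
      lt_of_le_of_ne inf_le_right hstrict⟩
    obtain ⟨σ, hσ⟩ := (hle ⟨hmemS hgQ, hg⟩).1
    have himg : (g : Matrix (Fin n) (Fin n) F) *ᵥ y ∈ D (σ r) := by
      rw [← hσ r]; exact ⟨y, hy, Matrix.toLin'_apply _ _⟩
    rcases eq_or_ne (σ r) p with h' | h'
    · exact hq (hcD (h' ▸ hpq) himg l)
    · exact hp (hcD h' himg k)
  rcases h with ⟨hm1, hq4⟩ | ⟨hm2, hq2⟩
  · subst hm1
    exact exists_one (by omega) hq4 D c b hbD hcb
  · subst hm2
    exact exists_two h6 hq2 D c b hbD hcb

end Cfsg.Agent.S5635
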