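import Cfsg.Statements.S5638
import Cfsg.Agent.Lib.TensorTwoF2
-- import your own Cfsg.Agent.* helpers here

set_option autoImplicit false
open Cfsg
open scoped MatrixGroups

namespace Cfsg.Agent.S5638

/-- Over the field with 2 elements, for n = 2 n₂ ≥ 13, the stabiliser in SL_n of a tensor decomposition with factors of dimensions 2 and n₂ (the conjugate by any P of the Kronecker-product subgroup transported along any bijection Fin n ≃ Fin 2 × Fin n₂, intersected with SL_n) is not a maximal subgroup: some subgroup lies strictly between it and SL_n. -/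
theorem result {F : Type*} [Field F] [Fintype F] (n : ℕ) (hn : 13 ≤ n) (hq : Fintype.card F = 2) (n₂ : ℕ) (e : Fin n ≃ Fin 2 × Fin n₂) (P : Matrix.GeneralLinearGroup (Fin n) F) : ∃ K : Subgroup (Matrix.GeneralLinearGroup (Fin n) F), Cfsg.Geo.tensorProductSubgroup 2 n₂ e P ⊓ Cfsg.Geo.specialLinear (Fin n) F < K ∧ K < Cfsg.Geo.specialLinear (Fin n) F := by
  classical
  have hn2 : n = 2 * n₂ := by simpa using Fintype.card_congr e
  let φ : GL (Fin 2 × Fin n₂) F ≃* GL (Fin n) F := (Cfsg.Geo.glReindex e.symm).trans (MulAut.conj P)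
  have hT : Cfsg.Geo.tensorProductSubgroup 2 n₂ e P = (Cfsg.Geo.kroneckerSubgroup 2 n₂ F).map φ.toMonoidHom := by
    rw [Cfsg.Geo.tensorProductSubgroup, Subgroup.map_map]
    rfl
  have hSL : Cfsg.Geo.specialLinear (Fin n) F = ⊤ := by
    rw [Subgroup.eq_top_iff']
    intro g
    rw [Cfsg.Geo.specialLinear, MonoidHom.mem_ker]
    exact Units.ext (Cfsg.Agent.TensorTwoF2.eq_one hq (Units.ne_zero _))
  obtain ⟨⟨g, hg, hgn⟩, g', hg'⟩ := Cfsg.Agent.TensorTwoF2.exists_witnesses hq
    (i := (⟨0, by omega⟩ : Fin n₂)) (j := ⟨1, by omega⟩) (by simp)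
  refine ⟨(Cfsg.Agent.TensorTwoF2.K0 hq).map φ.toMonoidHom, ?_, ?_⟩
  · rw [hSL, inf_top_eq, hT]
    refine lt_of_le_of_ne (Subgroup.map_mono (Cfsg.Agent.TensorTwoF2.kronecker_le hq)) fun h => ?_
    rw [Subgroup.map_injective φ.injective h] at hgn
    exact hgn hg
  · rw [hSL]
    refine lt_of_le_of_ne le_top fun h => hg' ?_
    obtain ⟨x, hx, he⟩ : φ g' ∈ (Cfsg.Agent.TensorTwoF2.K0 hq).map φ.toMonoidHom := h ▸ Subgroup.mem_top _
    exact φ.injective he ▸ hx

end Cfsg.Agent.S5638
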