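import Cfsg.Statements.S5639
import Cfsg.Agent.Lib.SL2SylowSubfield
import Cfsg.Agent.Lib.SubfieldRational

set_option autoImplicit false
open Cfsg

namespace Cfsg.Agent.S5639

open Cfsg.Agent.TransvectionMax
open Cfsg.Agent.SubfieldRational (emb)
open scoped MatrixGroups Matrix

/-- Maximality is preserved by automorphisms. -/
lemma maximal_map {G : Type*} [Group G] (e : G ≃* G) {K H : Subgroup G} (h : Cfsg.Geo.IsMaximalIn K H) :
    Cfsg.Geo.IsMaximalIn (K.map e.toMonoidHom) (H.map e.toMonoidHom) := by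
  refine ⟨lt_of_le_of_ne (Subgroup.map_mono h.1.le) fun he => h.1.ne (Subgroup.map_injective e.injective he),
    fun M hM hM' => ?_⟩
  rcases h.2 (M.comap e.toMonoidHom) (Subgroup.map_le_iff_le_comap.mp hM)
      (fun x hx => by
        obtain ⟨y, hy, hxy⟩ := hM' hx
        rwa [e.injective hxy] at hy) with h1 | h1
  · left; rw [← h1, Subgroup.map_comap_eq_self_of_surjective e.surjective]
  · right; rw [← h1, Subgroup.map_comap_eq_self_of_surjective e.surjective]

section Basic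

variable {F : Type*} [Field F] {ι : Type} [Fintype ι] [DecidableEq ι]

lemma tv_conj (h : GL ι F) {v φ : ι → F} (hv : φ ⬝ᵥ v = 0) :
    h * tv v φ * h⁻¹ = tv ((h : Matrix ι ι F) *ᵥ v) (φ ᵥ* ((h⁻¹ : GL ι F) : Matrix ι ι F)) :=
  gl_ext fun x => by
    rw [mul_act, mul_act, tv_act hv, tv_act (by rw [← Matrix.dotProduct_mulVec, inv_act_act, hv]),
      Matrix.mulVec_add, Matrix.mulVec_smul, act_inv_act, ← Matrix.dotProduct_mulVec]

lemma tv_conj_tv {v φ w ψ : ι → F} (hv : φ ⬝ᵥ v = 0) (hw : ψ ⬝ᵥ w = 0) :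
    tv v φ * tv w ψ * (tv v φ)⁻¹ = tv (w + (φ ⬝ᵥ w) • v) (ψ - (ψ ⬝ᵥ v) • φ) := by
  have hc : (ψ - (ψ ⬝ᵥ v) • φ) ⬝ᵥ (w + (φ ⬝ᵥ w) • v) = 0 := by
    simp only [sub_dotProduct, smul_dotProduct, dotProduct_add, dotProduct_smul, smul_eq_mul, hv, hw]
    ring
  rw [tv_inv hv]
  refine gl_ext fun x => ?_
  rw [mul_act, mul_act, tv_act hv, tv_act hw, tv_act (by rw [neg_dotProduct, hv, neg_zero]), tv_act hc]
  simp only [sub_dotProduct, smul_dotProduct, dotProduct_add, dotProduct_smul, smul_eq_mul, neg_dotProduct,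
    hv, hw]
  module

lemma tv_add_left {a b φ : ι → F} (ha : φ ⬝ᵥ a = 0) (hb : φ ⬝ᵥ b = 0) :
    tv (a + b) φ = tv a φ * tv b φ := gl_ext fun x => by
  rw [mul_act, tv_act ha, tv_act hb, tv_act (by rw [dotProduct_add, ha, hb, add_zero]), dotProduct_add,
    dotProduct_smul, hb, smul_zero, add_zero]
  module

lemma tv_smul_left {a φ : ι → F} (ha : φ ⬝ᵥ a = 0) (c : F) : tv (c • a) φ = tv a (c • φ) :=
  gl_ext fun x => by
    rw [tv_act (by rw [dotProduct_smul, ha, smul_zero]), tv_act (by rw [smul_dotProduct, ha, smul_zero]),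
      smul_dotProduct, smul_smul, smul_eq_mul, mul_comm]

/-- A row vector separating x from W. -/
lemma exists_sep {W : Submodule F (ι → F)} {x : ι → F} (hx : x ∉ W) :
    ∃ χ : ι → F, χ ⬝ᵥ x = 1 ∧ ∀ w ∈ W, χ ⬝ᵥ w = 0 := by
  obtain ⟨φ, hφx, hφW⟩ := Submodule.exists_dual_map_eq_bot_of_notMem hx inferInstance
  have hdot : ∀ y, (fun i => φ (Pi.single i 1)) ⬝ᵥ y = φ y := fun y => by
    rw [LinearMap.pi_apply_eq_sum_univ φ y, dotProduct]
    refine Finset.sum_congr rfl fun i _ => ?_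
    rw [smul_eq_mul, mul_comm]
    congr 2
    funext k
    simp [Pi.single_apply, eq_comm]
  refine ⟨(φ x)⁻¹ • fun i => φ (Pi.single i 1), ?_, fun w hw => ?_⟩
  · rw [smul_dotProduct, hdot, smul_eq_mul, inv_mul_cancel₀ hφx]
  · have h0 : φ w ∈ W.map φ := Submodule.mem_map_of_mem hw
    rw [hφW, Submodule.mem_bot] at h0
    rw [smul_dotProduct, hdot, h0, smul_zero]

/-- A vector killed by given rows and outside W. -/
lemma exists_dot {k : ℕ} (A : Fin k → ι → F) (W : Submodule F (ι → F))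
    (h : k + Module.finrank F W < Fintype.card ι) : ∃ x, (∀ i, A i ⬝ᵥ x = 0) ∧ x ∉ W := by
  by_contra! hc
  have h1 := LinearMap.finrank_range_add_finrank_ker (Matrix.mulVecLin (Matrix.of A))
  have h2 : LinearMap.ker (Matrix.mulVecLin (Matrix.of A)) ≤ W := fun x hx => hc x fun i => congrFun hx i
  have h3 := Submodule.finrank_mono h2
  have h4 := Submodule.finrank_le (LinearMap.range (Matrix.mulVecLin (Matrix.of A)))
  rw [Module.finrank_fin_fun] at h4
  rw [Module.finrank_fintype_fun_eq_card] at h1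
  omega

lemma fr_range {d : ℕ} (v : Fin d → ι → F) : Module.finrank F (Submodule.span F (Set.range v)) ≤ d :=
  (finrank_range_le_card v).trans_eq (Fintype.card_fin d)

lemma notMem_symm {a b : ι → F} (hb : b ≠ 0) (ha : a ∉ Submodule.span F {b}) :
    b ∉ Submodule.span F {a} := fun h => by
  obtain ⟨s, hs⟩ := Submodule.mem_span_singleton.mp h
  rcases eq_or_ne s 0 with rfl | hs0
  · exact hb (by simpa using hs.symm)
  · exact ha (Submodule.mem_span_singleton.mpr ⟨s⁻¹, by rw [← hs, smul_smul, inv_mul_cancel₀ hs0, one_smul]⟩)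

variable {F₀ : Subfield F}

lemma emb_dot (u v : ι → F₀) : emb u ⬝ᵥ emb v = ((u ⬝ᵥ v : F₀) : F) :=
  (RingHom.map_dotProduct (F₀.subtype : F₀ →+* F) u v).symm

lemma emb_ne {u : ι → F₀} (h : u ≠ 0) : (emb u : ι → F) ≠ 0 := fun h' =>
  h (SubfieldRational.emb_injective (h'.trans SubfieldRational.emb_zero.symm))

/-- Independence over the subfield passes to independence over F. -/
lemma emb_linearIndependent {d : ℕ} {x : Fin d → ι → F₀} (hx : LinearIndependent F₀ x) :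
    LinearIndependent F (fun j => (emb (x j) : ι → F)) := by
  rw [Fintype.linearIndependent_iff] at hx ⊢
  intro s hs j
  by_contra hj
  obtain ⟨r, hr⟩ := SubfieldRational.exists_retract F₀
  have h2 : ∑ k, r ((s j)⁻¹ * s k) • x k = 0 := funext fun i => by
    have h1 := congrFun hs i
    simp only [Finset.sum_apply, Pi.smul_apply, smul_eq_mul, Pi.zero_apply, emb] at h1 ⊢
    have h3 : ∑ k, (x k i) • ((s j)⁻¹ * s k) = 0 := by
      simp only [Subfield.smul_def, smul_eq_mul]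
      rw [← mul_zero ((s j)⁻¹), ← h1, Finset.mul_sum]
      exact Finset.sum_congr rfl fun k _ => by ring
    have h4 := congrArg r h3
    rw [map_sum, map_zero] at h4
    rw [← h4]
    exact Finset.sum_congr rfl fun k _ => by rw [map_smul, smul_eq_mul, mul_comm]
  have h5 := hx _ h2 j
  rw [inv_mul_cancel₀ hj, show r 1 = 1 from hr 1] at h5
  exact one_ne_zero h5

end Basic

set_option maxHeartbeats 1600000

theorem main {F : Type*} [Field F] [Fintype F] {n : ℕ} (hn : 13 ≤ n) {F₀ : Subfield F} {r : ℕ}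
    (hr : r.Prime) (hcard : Fintype.card F = Nat.card F₀ ^ r) :
    Cfsg.Geo.IsMaximalIn (Cfsg.Geo.specialLinear (Fin n) F)
      (Cfsg.Geo.subfieldSubgroup F₀ 1 ⊓ Cfsg.Geo.specialLinear (Fin n) F) := by
  classical
  haveI : Nonempty (Fin n) := ⟨⟨0, by omega⟩⟩
  haveI : Nontrivial (Fin n) := Fin.nontrivial_iff_two_le.mpr (by omega)
  set X := Cfsg.Geo.subfieldSubgroup F₀ (1 : GL (Fin n) F)
  have hrat1 : ∀ u : Fin n → F₀, SubfieldRational.rat (1 : GL (Fin n) F) u = emb u := fun u => one_act _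
  have hsub : ∀ g : GL (Fin n) F, g ∈ X ↔
      ∀ u : Fin n → F₀, ∃ k : F, ∃ w : Fin n → F₀, (g : Matrix (Fin n) (Fin n) F) *ᵥ emb u = k • emb w := by
    intro g
    rw [SubfieldRational.mem_subfieldSubgroup_iff]
    simp only [hrat1]
  obtain ⟨θ, hθ⟩ : ∃ θ : F, θ ∉ F₀ := by
    by_contra! h
    have h1 : Nat.card F₀ = Fintype.card F := by
      rw [← Nat.card_eq_fintype_card]
      exact Nat.card_congr (Equiv.subtypeUnivEquiv h)
    have h2 := Nat.pow_right_injective (Finite.one_lt_card (α := F₀))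
      (show Nat.card F₀ ^ 1 = Nat.card F₀ ^ r by rw [pow_one, ← hcard, h1])
    exact hr.one_lt.ne h2
  set i0 : Fin n := ⟨0, by omega⟩
  set i1 : Fin n := ⟨1, by omega⟩
  have hi01 : i0 ≠ i1 := fun h => absurd (congrArg Fin.val h) (by simp [i0, i1])
  refine ⟨lt_of_le_of_ne inf_le_right fun he => ?_, fun M hHM hMSL => ?_⟩
  · have hmem : tv (θ • Pi.single i0 1) (Pi.single i1 1) ∈ X := by
      have h : tv (θ • Pi.single i0 1) (Pi.single i1 (1 : F)) ∈ X ⊓ Cfsg.Geo.specialLinear (Fin n) F :=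
        he.symm ▸ tv_mem_sl _ _
      exact h.1
    obtain ⟨k, w, hkw⟩ := (hsub _).mp hmem (Pi.single i1 1)
    rw [tv_act (by simp [hi01.symm, hi01]), SubfieldRational.emb_single] at hkw
    have hw1 := congrFun hkw i1
    have hw0 := congrFun hkw i0
    simp [hi01, hi01.symm, emb] at hw1 hw0
    apply hθ
    have hk : k ≠ 0 := fun h => by simp [h] at hw1
    have hw10 : (w i1 : F) ≠ 0 := fun h => by simp [h] at hw1
    have : θ = (w i0 : F) / (w i1 : F) := by
      field_simp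
      rw [hw0]
      calc k * (w i0 : F) * (w i1 : F) = (k * (w i1 : F)) * (w i0 : F) := by ring
        _ = _ := by rw [← hw1, one_mul]
    rw [this]
    exact F₀.div_mem (w i0).2 (w i1).2
  by_cases hMX : M ≤ X
  · exact Or.inl (le_antisymm (le_inf hMX hMSL) hHM)
  refine Or.inr (le_antisymm hMSL ?_)
  -- rational root elements
  have hlift : ∀ {a χ : Fin n → F₀}, χ ⬝ᵥ a = 0 → tv (emb a) (emb χ) ∈ M := by
    intro a χ h
    refine hHM ⟨(hsub _).mpr ?_, tv_mem_sl _ _⟩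
    intro u
    refine ⟨1, u + (χ ⬝ᵥ u) • a, ?_⟩
    rw [tv_act (by rw [emb_dot, h]; rfl), emb_dot, one_smul, SubfieldRational.emb_add,
      SubfieldRational.emb_smul]
  have hconj : ∀ {v φ w ψ : Fin n → F}, φ ⬝ᵥ v = 0 → ψ ⬝ᵥ w = 0 → tv v φ ∈ M → tv w ψ ∈ M →
      tv (w + (φ ⬝ᵥ w) • v) (ψ - (ψ ⬝ᵥ v) • φ) ∈ M := fun hv hw h1 h2 => by
    rw [← tv_conj_tv hv hw]
    exact M.mul_mem (M.mul_mem h1 h2) (M.inv_mem h1)
  let RP : F → (Fin n → F₀) → (Fin n → F₀) → Prop := fun κ a χ => tv (emb a) (κ • emb χ) ∈ M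
  have hedot : ∀ {a χ : Fin n → F₀}, χ ⬝ᵥ a = 0 → (emb χ : Fin n → F) ⬝ᵥ emb a = 0 := fun h => by
    rw [emb_dot, h]; rfl
  have hsdot : ∀ {a χ : Fin n → F₀} (κ : F), χ ⬝ᵥ a = 0 → (κ • emb χ : Fin n → F) ⬝ᵥ emb a = 0 :=
    fun κ h => by rw [smul_dotProduct, hedot h, smul_zero]
  -- moving a scalar between pairs
  have chCentre : ∀ {κ : F} {a a' ψ : Fin n → F₀}, a ∉ Submodule.span F₀ {a'} → ψ ⬝ᵥ a = 0 →
      ψ ⬝ᵥ a' = 0 → RP κ a ψ → RP κ a' ψ := by
    intro κ a a' ψ hnot h h' hP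
    obtain ⟨χ, hχ1, hχ0⟩ := exists_sep hnot
    have hχ' : χ ⬝ᵥ a' = 0 := hχ0 a' (Submodule.mem_span_singleton_self a')
    have h1 := hconj (hedot hχ') (hsdot κ h) (hlift hχ') hP
    rw [emb_dot, hχ1, OneMemClass.coe_one, one_smul, hsdot κ h', zero_smul, sub_zero,
      tv_add_left (hsdot κ h) (hsdot κ h')] at h1
    exact (M.mul_mem_cancel_left hP).mp h1
  have chAxis : ∀ {κ : F} {a ψ ψ' : Fin n → F₀}, ψ ∉ Submodule.span F₀ {ψ'} → ψ ⬝ᵥ a = 0 →
      ψ' ⬝ᵥ a = 0 → RP κ a ψ → RP κ a ψ' := by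
    intro κ a ψ ψ' hnot h h' hP
    obtain ⟨b, hb1, hb0⟩ := exists_sep hnot
    have hb' : ψ' ⬝ᵥ b = 0 := by rw [dotProduct_comm]; exact hb0 ψ' (Submodule.mem_span_singleton_self ψ')
    have hψb : (κ • emb ψ : Fin n → F) ⬝ᵥ emb b = κ := by
      rw [smul_dotProduct, emb_dot, dotProduct_comm, hb1, OneMemClass.coe_one, smul_eq_mul, mul_one]
    have h1 := hconj (hedot hb') (hsdot κ h) (hlift hb') hP
    rw [hedot h', hψb, zero_smul, add_zero, sub_eq_add_neg,
      ← tv_add (hsdot κ h) (by rw [neg_dotProduct, hsdot κ h', neg_zero]), M.mul_mem_cancel_left hP,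
      ← tv_inv (hsdot κ h')] at h1
    exact inv_mem_iff.mp h1
  let C : F → Prop := fun κ => ∀ a χ : Fin n → F₀, χ ⬝ᵥ a = 0 → a ≠ 0 → χ ≠ 0 → RP κ a χ
  have one_pair : ∀ {κ : F} {a ψ : Fin n → F₀}, ψ ⬝ᵥ a = 0 → a ≠ 0 → ψ ≠ 0 → RP κ a ψ → C κ := by
    intro κ a ψ h ha hψ hP a' ψ' h' ha' hψ'
    have hsub1 : ∀ (x y : Fin n → F₀) (i : Fin 2), Submodule.span F₀ {![x, y] i} ≤
        Submodule.span F₀ (Set.range ![x, y]) := fun x y i =>
      Submodule.span_mono (by rintro z rfl; exact ⟨i, rfl⟩)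
    obtain ⟨a'', ha''A, ha''n⟩ := exists_dot ![ψ, ψ'] (Submodule.span F₀ (Set.range ![a, a']))
      (by have := fr_range ![a, a']; rw [Fintype.card_fin]; omega)
    have e1 : a ∉ Submodule.span F₀ {a''} := by
      refine notMem_symm ha fun h0 => ha''n ?_
      exact hsub1 a a' 0 h0
    have e2 : a'' ∉ Submodule.span F₀ {a'} := fun h0 => ha''n (hsub1 a a' 1 h0)
    obtain ⟨ψ'', hψ''A, hψ''n⟩ := exists_dot ![a''] (Submodule.span F₀ (Set.range ![ψ, ψ']))
      (by have := fr_range ![ψ, ψ']; rw [Fintype.card_fin]; omega)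
    have e3 : ψ ∉ Submodule.span F₀ {ψ''} := by
      refine notMem_symm hψ fun h0 => hψ''n ?_
      exact hsub1 ψ ψ' 0 h0
    have e4 : ψ'' ∉ Submodule.span F₀ {ψ'} := fun h0 => hψ''n (hsub1 ψ ψ' 1 h0)
    have d1 : ψ ⬝ᵥ a'' = 0 := ha''A 0
    have d2 : ψ' ⬝ᵥ a'' = 0 := ha''A 1
    have d3 : ψ'' ⬝ᵥ a'' = 0 := by rw [dotProduct_comm]; exact hψ''A 0
    exact chCentre e2 d2 h' (chAxis e4 d3 d2 (chAxis e3 d1 d3 (chCentre e1 h d1 hP)))
  -- C is a subfield
  have hC0 : ∀ t : F₀, C (t : F) := fun t a χ h _ _ => by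
    have := hlift (a := a) (χ := t • χ) (by rw [smul_dotProduct, h, smul_zero])
    rwa [SubfieldRational.emb_smul] at this
  have hCadd : ∀ {κ μ}, C κ → C μ → C (κ + μ) := fun {κ μ} hκ hμ a χ h ha hχ => by
    have := M.mul_mem (hκ a χ h ha hχ) (hμ a χ h ha hχ)
    rwa [tv_add (hsdot κ h) (hsdot μ h), ← add_smul] at this
  have hCmul : ∀ {κ μ}, C κ → C μ → C (κ * μ) := by
    intro κ μ hκ hμ a ψ h ha hψ
    obtain ⟨b, hbA, hbn⟩ := exists_dot ![ψ] (Submodule.span F₀ {a})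
      (by rw [finrank_span_singleton ha, Fintype.card_fin]; omega)
    have hb : ψ ⬝ᵥ b = 0 := hbA 0
    have hb0 : b ≠ 0 := fun h0 => hbn (h0 ▸ Submodule.zero_mem _)
    obtain ⟨χ, hχ1, hχ0⟩ := exists_sep hbn
    have hχa : χ ⬝ᵥ a = 0 := hχ0 a (Submodule.mem_span_singleton_self a)
    have hχne : χ ≠ 0 := fun h0 => by rw [h0, zero_dotProduct] at hχ1; exact zero_ne_one hχ1
    have h1 := hconj (hsdot κ hχa) (hsdot μ hb) (hκ a χ hχa ha hχne) (hμ b ψ hb hb0 hψ)
    rw [smul_dotProduct κ, emb_dot, hχ1, OneMemClass.coe_one, smul_eq_mul, mul_one, hsdot μ h, zero_smul,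
      sub_zero, tv_add_left (hsdot μ hb) (by rw [dotProduct_smul, hsdot μ h, smul_zero]),
      M.mul_mem_cancel_left (hμ b ψ hb hb0 hψ), tv_smul_left (hsdot μ h), smul_smul] at h1
    exact h1
  -- an irrational scalar
  have coord : ∀ {v : Fin n → F}, (¬ ∃ a : Fin n → F₀, v = emb a) → ∃ i, v i ∉ F₀ := by
    intro v h
    by_contra! hc
    exact h ⟨fun i => ⟨v i, hc i⟩, rfl⟩
  suffices hgoal : ∃ κ, κ ∉ F₀ ∧ C κ by
    obtain ⟨κ, hκ, hκC⟩ := hgoal
    let Calg : Subalgebra F₀ F :=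
      { carrier := {κ | C κ}
        mul_mem' := fun ha hb => hCmul ha hb
        add_mem' := fun ha hb => hCadd ha hb
        one_mem' := by simpa using hC0 1
        zero_mem' := by simpa using hC0 0
        algebraMap_mem' := fun t => hC0 t }
    have hall : ∀ κ, C κ := fun x =>
      show x ∈ Calg from SubfieldRational.subalgebra_eq_top hr hcard Calg hκC hκ ▸ Algebra.mem_top
    have htop : M.comap (Matrix.SpecialLinearGroup.toGL : Matrix.SpecialLinearGroup (Fin n) F →* GL (Fin n) F)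
        = ⊤ := PSLSimple.eq_top_of_transvection_mem _ fun i j hij c => by
      have h1 : RP c (Pi.single i 1) (Pi.single j 1) :=
        hall c _ _ (by simp [hij, hij.symm]) (by simp) (by simp)
      change Matrix.SpecialLinearGroup.toGL (Matrix.SpecialLinearGroup.transvection hij c) ∈ M
      convert h1 using 1
      rw [← tv_smul_left (by simp [SubfieldRational.emb_single, hij, hij.symm]),
        SubfieldRational.emb_single, SubfieldRational.emb_single, ← Pi.single_smul, smul_eq_mul, mul_one]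
      exact Units.ext (tv_single_val hij c).symm
    intro g hg
    have hdet : (g : Matrix (Fin n) (Fin n) F).det = 1 := by
      simpa [Cfsg.Geo.specialLinear, MonoidHom.mem_ker, Units.ext_iff] using hg
    let A : Matrix.SpecialLinearGroup (Fin n) F := ⟨(g : Matrix (Fin n) (Fin n) F), hdet⟩
    have h1 : A ∈ M.comap Matrix.SpecialLinearGroup.toGL := htop ▸ Subgroup.mem_top _
    convert Subgroup.mem_comap.mp h1 using 1
    exact Units.ext rfl
  by_contra hno
  push Not at hno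
  -- irrational transvections have no rational annihilators
  have A1 : ∀ {a : Fin n → F₀} {φ : Fin n → F}, a ≠ 0 → φ ⬝ᵥ emb a = 0 → tv (emb a) φ ∈ M →
      ∀ i, φ i ∈ F₀ := by
    intro a φ ha hφa hM i
    by_contra hi
    set b : Fin n → F₀ := Pi.single i 1
    obtain ⟨ψ, hψA, hψn⟩ := exists_dot ![a, b] (⊥ : Submodule F₀ (Fin n → F₀))
      (by rw [finrank_bot, Fintype.card_fin]; omega)
    have hψa : ψ ⬝ᵥ a = 0 := by rw [dotProduct_comm]; exact hψA 0
    have hψb : ψ ⬝ᵥ b = 0 := by rw [dotProduct_comm]; exact hψA 1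
    have hψ : ψ ≠ 0 := by simpa using hψn
    have h1 := hconj hφa (hedot hψb) hM (hlift hψb)
    have hb : φ ⬝ᵥ emb b = φ i := by simp [b, SubfieldRational.emb_single]
    rw [hb, hedot hψa, zero_smul, sub_zero,
      tv_add_left (hedot hψb) (by rw [dotProduct_smul, hedot hψa, smul_zero]),
      M.mul_mem_cancel_left (hlift hψb), tv_smul_left (hedot hψa)] at h1
    exact hno _ hi (one_pair hψa ha hψ h1)
  have A2 : ∀ {ψ : Fin n → F₀} {v : Fin n → F}, ψ ≠ 0 → emb ψ ⬝ᵥ v = 0 → tv v (emb ψ) ∈ M →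
      ∀ i, v i ∈ F₀ := by
    intro ψ v hψ hψv hM i
    by_contra hi
    set χ : Fin n → F₀ := Pi.single i 1
    obtain ⟨b, hbA, hbn⟩ := exists_dot ![ψ, χ] (⊥ : Submodule F₀ (Fin n → F₀))
      (by rw [finrank_bot, Fintype.card_fin]; omega)
    have hψb : ψ ⬝ᵥ b = 0 := hbA 0
    have hχb : χ ⬝ᵥ b = 0 := hbA 1
    have hb : b ≠ 0 := by simpa using hbn
    have h1 := hconj (hedot hχb) hψv (hlift hχb) hM
    have hv : emb χ ⬝ᵥ v = v i := by simp [χ, SubfieldRational.emb_single]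
    rw [hv, hedot hψb, zero_smul, sub_zero,
      tv_add_left hψv (by rw [dotProduct_smul, hedot hψb, smul_zero]),
      M.mul_mem_cancel_left hM, tv_smul_left (hedot hψb)] at h1
    exact hno _ hi (one_pair hψb hb hψ h1)
  have minors : ∀ {b : Fin n → F₀}, b ≠ 0 → ∀ {v : Fin n → F},
      (∀ χ : Fin n → F₀, χ ⬝ᵥ b = 0 → emb χ ⬝ᵥ v = 0) → ∃ c : F, v = c • emb b := by
    intro b hb v h
    obtain ⟨i, hi⟩ := Function.ne_iff.mp hb
    have hi' : (b i : F) ≠ 0 := fun h0 => hi (Subtype.ext h0)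
    refine ⟨v i / (b i : F), funext fun j => ?_⟩
    have h1 := h (b i • Pi.single j 1 - b j • Pi.single i 1) (by simp; ring)
    rw [sub_eq_add_neg, ← neg_smul, SubfieldRational.emb_add, SubfieldRational.emb_smul,
      SubfieldRational.emb_smul, SubfieldRational.emb_single, SubfieldRational.emb_single] at h1
    simp at h1
    simp only [Pi.smul_apply, smul_eq_mul, emb]
    field_simp
    linear_combination h1
  have A3 : ∀ {v φ : Fin n → F} {b : Fin n → F₀}, φ ≠ 0 → φ ⬝ᵥ v = 0 → tv v φ ∈ M → b ≠ 0 →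
      φ ⬝ᵥ emb b = 0 → ∃ c : F, ∃ a : Fin n → F₀, v = c • emb a := by
    intro v φ b hφ hφv hM hb hφb
    by_contra hirr
    obtain ⟨χ, hχb, hχv⟩ : ∃ χ : Fin n → F₀, χ ⬝ᵥ b = 0 ∧ emb χ ⬝ᵥ v ≠ 0 := by
      by_contra! h
      obtain ⟨c, hc⟩ := minors hb h
      exact hirr ⟨c, b, hc⟩
    set k := emb χ ⬝ᵥ v
    have h1 := hconj (hedot hχb) hφv (hlift hχb) hM
    rw [hφb, zero_smul, sub_zero, tv_add_left hφv (by rw [dotProduct_smul, hφb, smul_zero]),
      M.mul_mem_cancel_left hM, tv_smul_left hφb] at h1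
    have h2 := A1 hb (by rw [smul_dotProduct, hφb, smul_zero]) h1
    let ψ : Fin n → F₀ := fun i => ⟨(k • φ) i, h2 i⟩
    have hψφ : φ = k⁻¹ • emb ψ := by
      have : (emb ψ : Fin n → F) = k • φ := rfl
      rw [this, smul_smul, inv_mul_cancel₀ hχv, one_smul]
    have hψ : ψ ≠ 0 := fun h0 => hφ (by rw [hψφ, h0, SubfieldRational.emb_zero, smul_zero])
    rw [hψφ, smul_dotProduct, smul_eq_mul, mul_eq_zero, inv_eq_zero] at hφv
    have hψv := hφv.resolve_left hχv
    rw [hψφ, ← tv_smul_left hψv] at hM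
    have h3 := A2 hψ (by rw [dotProduct_smul, hψv, smul_zero]) hM
    refine hirr ⟨k, fun i => ⟨_, h3 i⟩, ?_⟩
    funext i
    simp [emb, mul_inv_cancel_left₀ hχv]
  have A4 : ∀ {v φ : Fin n → F} {χ : Fin n → F₀}, v ≠ 0 → φ ⬝ᵥ v = 0 → tv v φ ∈ M → χ ≠ 0 →
      emb χ ⬝ᵥ v = 0 → ∃ c : F, ∃ ψ : Fin n → F₀, φ = c • emb ψ := by
    intro v φ χ hv hφv hM hχ hχv
    by_contra hirr
    obtain ⟨b, hχb, hφb⟩ : ∃ b : Fin n → F₀, χ ⬝ᵥ b = 0 ∧ φ ⬝ᵥ emb b ≠ 0 := by
      by_contra! h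
      obtain ⟨c, hc⟩ := minors hχ (v := φ) fun b hb => by
        rw [dotProduct_comm]; exact h b (by rw [dotProduct_comm]; exact hb)
      exact hirr ⟨c, χ, hc⟩
    set k := φ ⬝ᵥ emb b
    have h1 := hconj hφv (hedot hχb) hM (hlift hχb)
    rw [hχv, zero_smul, sub_zero, tv_add_left (hedot hχb) (by rw [dotProduct_smul, hχv, smul_zero]),
      M.mul_mem_cancel_left (hlift hχb)] at h1
    have h2 := A2 hχ (by rw [dotProduct_smul, hχv, smul_zero]) h1
    let a : Fin n → F₀ := fun i => ⟨(k • v) i, h2 i⟩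
    have hav : v = k⁻¹ • emb a := by
      have : (emb a : Fin n → F) = k • v := rfl
      rw [this, smul_smul, inv_mul_cancel₀ hφb, one_smul]
    have ha : a ≠ 0 := fun h0 => hv (by rw [hav, h0, SubfieldRational.emb_zero, smul_zero])
    rw [hav, dotProduct_smul, smul_eq_mul, mul_eq_zero, inv_eq_zero] at hφv
    have hφa := hφv.resolve_left hφb
    rw [hav, tv_smul_left hφa] at hM
    have h3 := A1 ha (by rw [smul_dotProduct, hφa, smul_zero]) hM
    refine hirr ⟨k, fun i => ⟨_, h3 i⟩, ?_⟩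
    funext i
    simp [emb, mul_inv_cancel_left₀ hφb]
  -- the irrational transvections coming from g
  obtain ⟨g, hgM, hgX⟩ := Set.not_subset.mp hMX
  rw [SetLike.mem_coe, hsub] at hgX
  push Not at hgX
  obtain ⟨a, ha⟩ := hgX
  have ha0 : a ≠ 0 := fun h => ha 0 0 (by
    rw [h, SubfieldRational.emb_zero, Matrix.mulVec_zero, zero_smul])
  set v := (g : Matrix (Fin n) (Fin n) F) *ᵥ emb a with hvdef
  have hv0 : v ≠ 0 := act_ne_zero g (emb_ne ha0)
  have hvirr : ¬ ∃ c : F, ∃ w : Fin n → F₀, v = c • emb w := fun ⟨c, w, h⟩ => ha c w h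
  let φ : (Fin n → F₀) → (Fin n → F) := fun χ => emb χ ᵥ* ((g⁻¹ : GL (Fin n) F) : Matrix (Fin n) (Fin n) F)
  have hφv : ∀ {χ}, χ ⬝ᵥ a = 0 → φ χ ⬝ᵥ v = 0 := fun h => by
    rw [← Matrix.dotProduct_mulVec, hvdef, inv_act_act, hedot h]
  have hT : ∀ {χ}, χ ⬝ᵥ a = 0 → tv v (φ χ) ∈ M := fun h => by
    rw [← tv_conj g (hedot h)]
    exact M.mul_mem (M.mul_mem hgM (hlift h)) (M.inv_mem hgM)
  have hφ0 : ∀ {χ}, χ ≠ 0 → φ χ ≠ 0 := fun {χ} h h0 => by
    apply emb_ne h
    have h1 := congrArg (fun w => w ᵥ* (g : Matrix (Fin n) (Fin n) F)) h0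
    simpa [φ, Matrix.vecMul_vecMul, ← Units.val_mul] using h1
  have hnoker : ∀ {χ}, χ ≠ 0 → χ ⬝ᵥ a = 0 → ∀ {b : Fin n → F₀}, b ≠ 0 → φ χ ⬝ᵥ emb b ≠ 0 :=
    fun hχ h b hb hz => hvirr (A3 (hφ0 hχ) (hφv h) (hT h) hb hz)
  obtain ⟨χ, hχA, hχn⟩ := exists_dot ![a] (⊥ : Submodule F₀ (Fin n → F₀))
    (by rw [finrank_bot, Fintype.card_fin]; omega)
  have hχa : χ ⬝ᵥ a = 0 := by rw [dotProduct_comm]; exact hχA 0
  have hχ : χ ≠ 0 := by simpa using hχn
  obtain ⟨χ', hχ'A, hχ'n⟩ := exists_dot ![a] (Submodule.span F₀ {χ})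
    (by rw [finrank_span_singleton hχ, Fintype.card_fin]; omega)
  have hχ'a : χ' ⬝ᵥ a = 0 := by rw [dotProduct_comm]; exact hχ'A 0
  have hφirr : ¬ ∃ c : F, ∃ ψ : Fin n → F₀, φ χ = c • emb ψ := by
    rintro ⟨c, ψ, h⟩
    obtain ⟨b, hbA, hbn⟩ := exists_dot ![ψ] (⊥ : Submodule F₀ (Fin n → F₀))
      (by rw [finrank_bot, Fintype.card_fin]; omega)
    exact hnoker hχ hχa (show b ≠ 0 by simpa using hbn)
      (by rw [h]; exact hsdot c (hbA 0))
  have hvann : ∀ {ψ : Fin n → F₀}, emb ψ ⬝ᵥ v = 0 → ψ = 0 := fun {ψ} h => by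
    by_contra h0
    exact hφirr (A4 hv0 (hφv hχa) (hT hχa) h0 h)
  -- the plane
  set e0 : Fin n → F₀ := Pi.single i0 1 with he0def
  set e1 : Fin n → F₀ := Pi.single i1 1 with he1def
  set x0 : Fin n → F := emb e0 with hx0def
  set x1 : Fin n → F := emb e1 with hx1def
  have he0ne : e0 ≠ 0 := by simp [he0def]
  have h10 : e1 ⬝ᵥ e0 = 0 := by simp [he0def, he1def, hi01, hi01.symm]
  have hx10 : x1 ⬝ᵥ x0 = 0 := hedot h10
  set φ1 := φ χ with hφ1def
  set φ2 := φ χ' with hφ2def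
  set μ := φ1 ⬝ᵥ x0 with hμdef
  set b := x1 ⬝ᵥ v with hbdef
  have hμ : μ ≠ 0 := hnoker hχ hχa he0ne
  have hb : b ≠ 0 := fun h => by
    have := hvann (ψ := e1) h
    simp [he1def] at this
  have hφ1v : φ1 ⬝ᵥ v = 0 := hφv hχa
  set Wp := Submodule.span F {x0, v} with hWp
  have hcoords : ∀ w ∈ Wp, w = ((φ1 ⬝ᵥ w) / μ) • x0 + ((x1 ⬝ᵥ w) / b) • v := by
    intro w hw
    obtain ⟨p, q, rfl⟩ := Submodule.mem_span_pair.mp hw
    simp only [dotProduct_add, dotProduct_smul, smul_eq_mul, hx10, hφ1v, ← hμdef, ← hbdef, mul_zero, add_zero,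
      zero_add, mul_div_assoc, div_self hμ, div_self hb, mul_one]
  set L : Submodule F (Fin n → F) := LinearMap.ker (Matrix.mulVecLin (Matrix.of ![x1, φ1, φ2]))
  let G : Subgroup (GL (Fin n) F) :=
    { carrier := {g | g ∈ M ∧ (∀ x, (g : Matrix (Fin n) (Fin n) F) *ᵥ x - x ∈ Wp) ∧
        ∀ x ∈ L, (g : Matrix (Fin n) (Fin n) F) *ᵥ x = x}
      one_mem' := ⟨M.one_mem, fun x => by rw [one_act, sub_self]; exact Wp.zero_mem, fun x _ => one_act x⟩
      mul_mem' := fun {p q} hp hq => ⟨M.mul_mem hp.1 hq.1, fun x => by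
          rw [mul_act, ← sub_add_sub_cancel _ ((q : Matrix (Fin n) (Fin n) F) *ᵥ x) x]
          exact Wp.add_mem (hp.2.1 _) (hq.2.1 x), fun x hx => by rw [mul_act, hq.2.2 x hx, hp.2.2 x hx]⟩
      inv_mem' := fun {p} hp => ⟨M.inv_mem hp.1, fun x => by
          have := Wp.neg_mem (hp.2.1 (((p⁻¹ : GL (Fin n) F) : Matrix (Fin n) (Fin n) F) *ᵥ x))
          rwa [act_inv_act, neg_sub] at this, fun x hx => by
          conv_lhs => rw [← hp.2.2 x hx]
          rw [inv_act_act]⟩ }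
  have hx0W : x0 ∈ Wp := Submodule.subset_span (by simp)
  have hvW : v ∈ Wp := Submodule.subset_span (by simp)
  have hGW : ∀ {p}, p ∈ G → ∀ w ∈ Wp, (p : Matrix (Fin n) (Fin n) F) *ᵥ w ∈ Wp := fun {p} hp w hw => by
    simpa using Wp.add_mem (hp.2.1 w) hw
  let ρ : GL (Fin n) F → Matrix (Fin 2) (Fin 2) F := fun p =>
    !![(φ1 ⬝ᵥ ((p : Matrix (Fin n) (Fin n) F) *ᵥ x0)) / μ, (φ1 ⬝ᵥ ((p : Matrix (Fin n) (Fin n) F) *ᵥ v)) / μ;
       (x1 ⬝ᵥ ((p : Matrix (Fin n) (Fin n) F) *ᵥ x0)) / b, (x1 ⬝ᵥ ((p : Matrix (Fin n) (Fin n) F) *ᵥ v)) / b]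
  have hρmul : ∀ p q, p ∈ G → q ∈ G → ρ (p * q) = ρ p * ρ q := by
    intro p q _ hq
    have key : ∀ (ψ w : Fin n → F), w ∈ Wp →
        ψ ⬝ᵥ ((p : Matrix (Fin n) (Fin n) F) *ᵥ w) =
          (φ1 ⬝ᵥ w) / μ * (ψ ⬝ᵥ ((p : Matrix (Fin n) (Fin n) F) *ᵥ x0)) +
          (x1 ⬝ᵥ w) / b * (ψ ⬝ᵥ ((p : Matrix (Fin n) (Fin n) F) *ᵥ v)) := fun ψ w hw => by
      conv_lhs => rw [hcoords w hw]
      rw [Matrix.mulVec_add, Matrix.mulVec_smul, Matrix.mulVec_smul, dotProduct_add, dotProduct_smul,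
        dotProduct_smul, smul_eq_mul, smul_eq_mul]
    have k0 := fun ψ => key ψ _ (hGW hq x0 hx0W)
    have k1 := fun ψ => key ψ _ (hGW hq v hvW)
    ext i j
    fin_cases i <;> fin_cases j <;> simp [ρ, ← Matrix.mulVec_mulVec, k0, k1, Matrix.mul_apply, Fin.sum_univ_two] <;> ring
  have hρ1 : ρ 1 = 1 := by
    ext i j
    fin_cases i <;> fin_cases j <;> simp [ρ, hφ1v, hx10, ← hμdef, ← hbdef, hμ, hb]
  let J : Subgroup SL(2, F) :=
    { carrier := {A | ∃ p ∈ G, ρ p = (A : Matrix (Fin 2) (Fin 2) F)}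
      one_mem' := ⟨1, G.one_mem, hρ1⟩
      mul_mem' := fun {A B} hA hB => by
        obtain ⟨p, hp, hpA⟩ := hA
        obtain ⟨q, hq, hqB⟩ := hB
        exact ⟨p * q, G.mul_mem hp hq, by rw [hρmul p q hp hq, hpA, hqB]; rfl⟩
      inv_mem' := fun {A} hA => by
        obtain ⟨p, hp, hpA⟩ := hA
        refine ⟨p⁻¹, G.inv_mem hp, ?_⟩
        have h := hρmul p⁻¹ p (G.inv_mem hp) hp
        rw [inv_mul_cancel, hρ1, hpA] at h
        calc ρ p⁻¹ = ρ p⁻¹ * ((A : Matrix (Fin 2) (Fin 2) F) * ((A⁻¹ : SL(2, F)) : Matrix (Fin 2) (Fin 2) F)) := by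
              rw [← Matrix.SpecialLinearGroup.coe_mul, mul_inv_cancel, Matrix.SpecialLinearGroup.coe_one, mul_one]
          _ = _ := by rw [← mul_assoc, ← h, one_mul] }
  have hT0 : tv x0 x1 ∈ G := by
    refine ⟨hlift h10, fun x => ?_, fun x hx => ?_⟩
    · rw [tv_act hx10, add_sub_cancel_left]; exact Wp.smul_mem _ hx0W
    · rw [tv_act hx10, show x1 ⬝ᵥ x = 0 from congrFun hx 0, zero_smul, add_zero]
  have hTl : ∀ c c' : F₀, tv v (φ (c • χ + c' • χ')) ∈ G ∧
      φ (c • χ + c' • χ') = (c : F) • φ1 + (c' : F) • φ2 := by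
    intro c c'
    have he : φ (c • χ + c' • χ') = (c : F) • φ1 + (c' : F) • φ2 := by
      simp only [φ, hφ1def, hφ2def, SubfieldRational.emb_add, SubfieldRational.emb_smul, Matrix.add_vecMul,
        Matrix.smul_vecMul]
    have ha' : (c • χ + c' • χ') ⬝ᵥ a = 0 := by
      rw [add_dotProduct, smul_dotProduct, smul_dotProduct, hχa, hχ'a, smul_zero, smul_zero, add_zero]
    refine ⟨⟨hT ha', fun x => ?_, fun x hx => ?_⟩, he⟩
    · rw [tv_act (hφv ha'), add_sub_cancel_left]; exact Wp.smul_mem _ hvW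
    · rw [tv_act (hφv ha'), he, add_dotProduct, smul_dotProduct, smul_dotProduct,
        show φ1 ⬝ᵥ x = 0 from congrFun hx 1, show φ2 ⬝ᵥ x = 0 from congrFun hx 2]
      simp
  -- upper elements lift to rational transvections
  set U : Submodule F (Fin n → F) := Submodule.span F (Set.range ![x1, φ1, φ2]) ⊓
    LinearMap.ker ((dotProductBilin F F).flip x0)
  let W0 : Submodule F₀ (Fin n → F₀) :=
    { carrier := {ψ | emb ψ ∈ U}
      zero_mem' := by
        show emb (0 : Fin n → F₀) ∈ U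
        rw [SubfieldRational.emb_zero]; exact U.zero_mem
      add_mem' := fun {p q} hp hq => by
        show emb (p + q) ∈ U
        rw [SubfieldRational.emb_add]; exact U.add_mem hp hq
      smul_mem' := fun c p hp => by
        show emb (c • p) ∈ U
        rw [SubfieldRational.emb_smul]; exact U.smul_mem _ hp }
  have hlift_up : ∀ t : F, QuadPairSL2.up t ∈ J → ∃ ψ ∈ W0, emb ψ ⬝ᵥ v = t := by
    rintro t ⟨p, hp, hpt⟩
    have h00 := congrFun (congrFun hpt 0) 0
    have h01 := congrFun (congrFun hpt 0) 1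
    have h10' := congrFun (congrFun hpt 1) 0
    have h11 := congrFun (congrFun hpt 1) 1
    simp [ρ, QuadPairSL2.up] at h00 h01 h10' h11
    have hp0 : (p : Matrix (Fin n) (Fin n) F) *ᵥ x0 = x0 := by
      rw [hcoords _ (hGW hp x0 hx0W), h00, (show x1 ⬝ᵥ _ / b = 0 by simpa using h10'), one_smul, zero_smul,
        add_zero]
    have hpv : (p : Matrix (Fin n) (Fin n) F) *ᵥ v = t • x0 + v := by
      rw [hcoords _ (hGW hp v hvW), h01, h11, one_smul]
    set δ := x1 ᵥ* (p : Matrix (Fin n) (Fin n) F) - x1 with hδdef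
    have hδ : ∀ x, δ ⬝ᵥ x = x1 ⬝ᵥ ((p : Matrix (Fin n) (Fin n) F) *ᵥ x - x) := fun x => by
      rw [hδdef, sub_dotProduct, dotProduct_sub, Matrix.dotProduct_mulVec]
    have hδ0 : δ ⬝ᵥ x0 = 0 := by rw [hδ, hp0, sub_self, dotProduct_zero]
    have hδv : δ ⬝ᵥ v = 0 := by
      rw [hδ, hpv, add_sub_cancel_right, dotProduct_smul, hx10, smul_zero]
    have hk : tv x0 x1 * p = tv x0 δ * (p * tv x0 x1) := gl_ext fun x => by
      simp only [mul_act, tv_act hx10, tv_act hδ0, Matrix.mulVec_add, Matrix.mulVec_smul, hp0, dotProduct_add,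
        dotProduct_smul, hδ0, hδ, Matrix.mulVec_add, dotProduct_sub, hx10, smul_eq_mul]
      have hq : x1 ⬝ᵥ ((p : Matrix (Fin n) (Fin n) F) *ᵥ ((p : Matrix (Fin n) (Fin n) F) *ᵥ x - x)) =
          x1 ⬝ᵥ ((p : Matrix (Fin n) (Fin n) F) *ᵥ x - x) := by
        rw [hcoords _ (hp.2.1 x), Matrix.mulVec_add, Matrix.mulVec_smul, Matrix.mulVec_smul, hp0, hpv]
        simp only [dotProduct_add, dotProduct_smul, hx10, smul_eq_mul]
        ring
      rw [Matrix.mulVec_sub, dotProduct_sub, dotProduct_sub] at hq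
      linear_combination (norm := module) -(congrArg (· • x0) hq)
    have hδM : tv x0 δ ∈ M := by
      have h1 := M.mul_mem (M.mul_mem hT0.1 hp.1) (M.inv_mem (M.mul_mem hp.1 hT0.1))
      rwa [hk, mul_inv_cancel_right] at h1
    have hδz : δ = 0 := by
      have h2 := A1 he0ne hδ0 hδM
      have h3 : δ = emb (fun i => (⟨δ i, h2 i⟩ : F₀)) := rfl
      rw [h3] at hδv ⊢
      rw [hvann hδv, SubfieldRational.emb_zero]
    set α := μ⁻¹ • (φ1 ᵥ* (p : Matrix (Fin n) (Fin n) F) - φ1) with hαdef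
    have hpx : ∀ x, (p : Matrix (Fin n) (Fin n) F) *ᵥ x = x + (α ⬝ᵥ x) • x0 := fun x => by
      have h1 := hcoords _ (hp.2.1 x)
      have h2 : x1 ⬝ᵥ ((p : Matrix (Fin n) (Fin n) F) *ᵥ x - x) = 0 := by
        rw [← hδ, hδz, zero_dotProduct]
      rw [h2, zero_div, zero_smul, add_zero, sub_eq_iff_eq_add] at h1
      rw [hαdef, smul_dotProduct, sub_dotProduct, ← Matrix.dotProduct_mulVec, smul_eq_mul, ← dotProduct_sub,
        ← div_eq_inv_mul, add_comm]
      exact h1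
    have hα0 : α ⬝ᵥ x0 = 0 := by
      have h1 := hpx x0
      rw [hp0, eq_comm, add_eq_left, smul_eq_zero] at h1
      exact h1.resolve_right (emb_ne he0ne)
    have hαv : α ⬝ᵥ v = t := by
      have h1 := hpx v
      rw [hpv, add_comm, add_right_inj] at h1
      by_contra hne
      exact emb_ne he0ne ((smul_eq_zero.mp (show (α ⬝ᵥ v - t) • x0 = 0 by
        rw [sub_smul, h1, sub_self])).resolve_left (sub_ne_zero.mpr hne))
    have hαM : tv x0 α ∈ M := by
      rw [← tv_eq_of_act hα0 hpx]; exact hp.1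
    have h2 := A1 he0ne hα0 hαM
    refine ⟨fun i => ⟨α i, h2 i⟩, ⟨?_, hα0⟩, hαv⟩
    show α ∈ Submodule.span F (Set.range ![x1, φ1, φ2])
    by_contra hn'
    obtain ⟨x, hx1', hx2'⟩ := exists_sep hn'
    have hxL : x ∈ L := funext fun i => by
      show (Matrix.of ![x1, φ1, φ2] *ᵥ x) i = 0
      rw [Matrix.mulVec, dotProduct_comm]
      exact hx2' _ (Submodule.subset_span ⟨i, rfl⟩)
    have h4 := hpx x
    rw [hp.2.2 x hxL, eq_comm, add_eq_left, smul_eq_zero] at h4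
    rcases h4 with h4 | h4
    · rw [dotProduct_comm, h4] at hx1'; exact zero_ne_one hx1'
    · exact emb_ne he0ne h4
  -- counting
  haveI : Fintype F₀ := Fintype.ofFinite _
  have hW0 : Module.finrank F₀ W0 ≤ 2 := by
    have h1 : Module.finrank F U ≤ 2 := by
      have h2 : U < Submodule.span F (Set.range ![x1, φ1, φ2]) := lt_of_le_of_ne inf_le_left fun he => by
        have h3 : φ1 ∈ U := he.symm ▸ Submodule.subset_span ⟨1, rfl⟩
        exact hμ h3.2
      have h4 := Submodule.finrank_lt_finrank_of_lt h2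
      have h5 := fr_range ![x1, φ1, φ2]
      omega
    let B := Module.finBasis F₀ W0
    have hli := emb_linearIndependent (x := fun j => ((B j : W0) : Fin n → F₀))
      (B.linearIndependent.map' W0.subtype (Submodule.ker_subtype _))
    have hspan := finrank_span_eq_card hli
    rw [Fintype.card_fin] at hspan
    have h6 := Submodule.finrank_mono (Submodule.span_le.mpr (show Set.range (fun j =>
      (emb ((B j : W0) : Fin n → F₀) : Fin n → F)) ⊆ U from by rintro _ ⟨j, rfl⟩; exact (B j).2))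
    omega
  have hq : 1 < Nat.card F₀ := Finite.one_lt_card
  have hup : Nat.card {t : F // QuadPairSL2.up t ∈ J} ≤ Nat.card F₀ ^ 2 := by
    choose ψ hψW hψv using fun t : {t : F // QuadPairSL2.up t ∈ J} => hlift_up t.1 t.2
    calc Nat.card {t : F // QuadPairSL2.up t ∈ J} ≤ Nat.card W0 :=
          Nat.card_le_card_of_injective (fun t => (⟨ψ t, hψW t⟩ : W0)) fun s t h => by
            have h' : ψ s = ψ t := congrArg Subtype.val h
            exact Subtype.ext (by rw [← hψv s, ← hψv t, h'])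
      _ = Nat.card F₀ ^ Module.finrank F₀ W0 := Module.natCard_eq_pow_finrank
      _ ≤ _ := Nat.pow_le_pow_right (by omega) hW0
  have hfin : Module.finrank F₀ F = r := by
    refine Nat.pow_right_injective (Finite.one_lt_card (α := F₀)) ?_
    simp only
    rw [← hcard, ← Nat.card_eq_fintype_card]
    exact (Module.natCard_eq_pow_finrank (K := F₀) (V := F)).symm
  have hrn : n - 1 ≤ r := by
    let Lmap : (Fin n → F₀) →ₗ[F₀] F :=
      { toFun := fun u => φ1 ⬝ᵥ emb u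
        map_add' := fun u w => by rw [SubfieldRational.emb_add, dotProduct_add]
        map_smul' := fun c u => by
          rw [SubfieldRational.emb_smul, dotProduct_smul, RingHom.id_apply, Subfield.smul_def] }
    have hinj : Function.Injective Lmap := by
      rw [← LinearMap.ker_eq_bot, LinearMap.ker_eq_bot']
      intro u hu
      by_contra h0
      exact hnoker hχ hχa h0 hu
    have := LinearMap.finrank_le_finrank_of_injective hinj
    rw [Module.finrank_fin_fun, hfin] at this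
    omega
  have hodd : Odd r := hr.odd_of_ne_two (by omega)
  have hlo : Nat.card F₀ ^ 2 ≤ Nat.card {s : F // QuadPairSL2.lo s ∈ J} := by
    have hmem : ∀ c : F₀ × F₀, QuadPairSL2.lo ((c.1 : F) * μ + (c.2 : F) * (φ2 ⬝ᵥ x0)) ∈ J := by
      intro c
      obtain ⟨hG, he⟩ := hTl c.1 c.2
      refine ⟨_, hG, ?_⟩
      have hd : φ (c.1 • χ + c.2 • χ') ⬝ᵥ v = 0 := by
        rw [he, add_dotProduct, smul_dotProduct, smul_dotProduct, hφ1v, show φ2 ⬝ᵥ v = 0 from hφv hχ'a]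
        simp
      ext i j
      fin_cases i <;> fin_cases j <;> simp only [ρ, tv_act hd] <;>
        simp [QuadPairSL2.lo, hφ1v, hx10, ← hμdef, ← hbdef, hμ, hb,
          dotProduct_add, he, add_dotProduct, show φ2 ⬝ᵥ v = 0 from hφv hχ'a]
    rw [sq, ← Nat.card_prod]
    refine Nat.card_le_card_of_injective (fun c => ⟨_, hmem c⟩) fun c d h => ?_
    have h' : (c.1 : F) * μ + (c.2 : F) * (φ2 ⬝ᵥ x0) = (d.1 : F) * μ + (d.2 : F) * (φ2 ⬝ᵥ x0) :=
      congrArg Subtype.val h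
    have hz : (c.1 - d.1) • χ + (c.2 - d.2) • χ' = 0 := by
      by_contra h0
      refine hnoker h0 ?_ he0ne ?_
      · rw [add_dotProduct, smul_dotProduct, smul_dotProduct, hχa, hχ'a, smul_zero, smul_zero, add_zero]
      · rw [(hTl _ _).2, add_dotProduct, smul_dotProduct, smul_dotProduct, ← hx0def, ← hμdef, smul_eq_mul,
          smul_eq_mul]
        push_cast
        linear_combination h'
    have h2 : c.2 - d.2 = 0 := by
      by_contra h0
      refine hχ'n (Submodule.mem_span_singleton.mpr ⟨-((c.2 - d.2)⁻¹ * (c.1 - d.1)), ?_⟩)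
      have h3 := congrArg (fun z => (c.2 - d.2)⁻¹ • z) hz
      simp only [smul_add, smul_smul, inv_mul_cancel₀ h0, one_smul, smul_zero] at h3
      rw [neg_smul]
      exact (eq_neg_of_add_eq_zero_right h3).symm
    rw [h2, zero_smul, add_zero, smul_eq_zero] at hz
    exact Prod.ext (sub_eq_zero.mp (hz.resolve_right hχ)) (sub_eq_zero.mp h2)
  have hupb : QuadPairSL2.up b ∈ J := by
    refine ⟨_, hT0, ?_⟩
    ext i j
    fin_cases i <;> fin_cases j <;>
      simp [ρ, tv_act hx10, QuadPairSL2.up, hφ1v, hx10, ← hμdef, ← hbdef, hμ, hb, dotProduct_add]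
  exact SL2SylowSubfield.contra J hq hodd (by rw [Nat.card_eq_fintype_card, hcard]) hb hupb hup hlo

/-- For a finite field F, a subfield F₀ with |F| = |F₀| ^ r for a prime r, and n ≥ 13, the subfield group (the conjugate by any P of the product of GL_n(F₀) with the non-zero scalars of F, intersected with SL_n(F)) is a maximal subgroup of SL_n(F). -/
theorem result {F : Type*} [Field F] [Fintype F] (n : ℕ) (hn : 13 ≤ n) (F₀ : Subfield F) (r : ℕ) (hr : r.Prime) (hcard : Fintype.card F = Nat.card F₀ ^ r) (P : Matrix.GeneralLinearGroup (Fin n) F) : Cfsg.Geo.IsMaximalIn (Cfsg.Geo.specialLinear (Fin n) F) (Cfsg.Geo.subfieldSubgroup F₀ P ⊓ Cfsg.Geo.specialLinear (Fin n) F) := by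
  have hSL : (Cfsg.Geo.specialLinear (Fin n) F).map (MulAut.conj P).toMonoidHom =
      Cfsg.Geo.specialLinear (Fin n) F := by
    ext g
    constructor
    · rintro ⟨x, hx, rfl⟩
      exact (MonoidHom.normal_ker _).conj_mem x hx P
    · intro hg
      refine ⟨P⁻¹ * g * P, ?_, by simp [mul_assoc]⟩
      simpa [Cfsg.Geo.specialLinear] using (MonoidHom.normal_ker _).conj_mem g hg P⁻¹
  have hX : (Cfsg.Geo.subfieldSubgroup F₀ (1 : GL (Fin n) F)).map (MulAut.conj P).toMonoidHom =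
      Cfsg.Geo.subfieldSubgroup F₀ P := by
    rw [Cfsg.Geo.subfieldSubgroup, Cfsg.Geo.subfieldSubgroup, Subgroup.map_map]
    congr 1
    ext x
    simp
  have h := maximal_map (MulAut.conj P) (main hn hr hcard)
  rw [Subgroup.map_inf _ _ _ (MulAut.conj P).injective, hX, hSL] at h
  exact h

end Cfsg.Agent.S5639
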