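import Cfsg.Statements.S5641
import Cfsg.Agent.Lib.TensorWreath43Glue

set_option autoImplicit false
open Cfsg
open scoped Matrix

namespace Cfsg.Agent.S5641

/-- For a finite field F and n = m ^ t ≥ 13 with m ≥ 3 and t ≥ 2, the stabiliser in SL_n(F) of a tensor decomposition of F^n into t factors of dimension m (the conjugate by any P of the standard tensor-wreath subgroup transported along any bijection Fin n ≃ (Fin t → Fin m), intersected with SL_n(F)) is a maximal subgroup of SL_n(F). -/
theorem result {F : Type*} [Field F] [Fintype F] (n : ℕ) (hn : 13 ≤ n) (m t : ℕ) (hm : 3 ≤ m) (ht : 2 ≤ t) (e : Fin n ≃ (Fin t → Fin m)) (P : Matrix.GeneralLinearGroup (Fin n) F) : Cfsg.Geo.IsMaximalIn (Cfsg.Geo.specialLinear (Fin n) F) (Cfsg.Geo.tensorWreathSubgroup m t e P ⊓ Cfsg.Geo.specialLinear (Fin n) F) := by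
  have ht0 : 0 < t := by omega
  haveI : NeZero m := ⟨by omega⟩
  have hK : ∀ g, TensorWreath43.phi e P g ∈ Cfsg.Geo.specialLinear (Fin n) F ↔
      g ∈ Cfsg.Geo.specialLinear (TensorWreath43.TI t m) F := fun g => by
    simp only [Cfsg.Geo.specialLinear, MonoidHom.mem_ker, Units.ext_iff,
      Matrix.GeneralLinearGroup.val_det_apply, TensorWreath43.phi_det]
  refine TensorWreath43.isMaximalIn_of e P _ ?_ fun M h1 _ => ?_
  · -- a transvection outside the stabiliser
    have hz : (⟨1, by omega⟩ : Fin m) ≠ (0 : Fin m) := by simp [Fin.ext_iff]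
    let p : TensorWreath43.TI t m := fun _ => ⟨1, by omega⟩
    let q : TensorWreath43.TI t m := fun _ => 0
    have hpq : p ≠ q := fun e' => hz (congrFun e' ⟨0, ht0⟩)
    have hdet : (Matrix.transvection p q (1 : F)).det = 1 := Matrix.det_transvection_of_ne _ _ hpq _
    let g := Matrix.GeneralLinearGroup.mkOfDetNeZero (Matrix.transvection p q (1 : F))
      (by rw [hdet]; exact one_ne_zero)
    refine ⟨g, (hK g).2 ?_, fun hg => ?_⟩
    · simp only [Cfsg.Geo.specialLinear, MonoidHom.mem_ker, Units.ext_iff, Matrix.GeneralLinearGroup.val_det_apply,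
        Units.val_one]
      exact hdet
    · obtain ⟨ys, hys⟩ := TensorWreath43.pureV_image hg (fun i => Pi.single (q i) 1)
      refine TensorWreath43.single_add_single_ne_pureV (i₁ := (⟨0, ht0⟩ : Fin t)) (i₂ := ⟨1, by omega⟩)
        (by simp [Fin.ext_iff]) hz.symm.symm hz (u := (1 : F)) (w := (1 : F)) one_ne_zero one_ne_zero ys
        (p := p) (q := q) ?_
      rw [← hys, TensorWreath43.pureV_single]
      show _ = Matrix.transvection p q (1 : F) *ᵥ _
      rw [Matrix.transvection, Matrix.add_mulVec, Matrix.one_mulVec, add_comm]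
      congr 1
      funext x
      simp [Matrix.mulVec, dotProduct, Matrix.single_apply, Pi.single_apply, ite_and, eq_comm]
  · by_cases hne : Cfsg.Geo.specialLinear (TensorWreath43.TI t m) F ≤ M
    · exact Or.inr fun g hg => hne ((hK g).1 hg)
    have hM : TensorWreath43.Over M := by
      constructor
      · intro j η hη
        refine h1 ⟨by rw [TensorWreath43.liftU_eq_pureU]; exact TensorWreath43.pureU_mem_wreath _, (hK _).2 ?_⟩
        simp only [Cfsg.Geo.specialLinear, MonoidHom.mem_ker, Units.ext_iff, Matrix.GeneralLinearGroup.val_det_apply,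
          Units.val_one]
        show (TensorWreath43.lift j (η : Matrix (Fin m) (Fin m) F)).det = 1
        rw [TensorWreath43.lift_det, hη, one_pow]
      · intro σ hσ
        refine h1 ⟨TensorWreath43.permU_mem_wreath σ, (hK _).2 ?_⟩
        simp only [Cfsg.Geo.specialLinear, MonoidHom.mem_ker, Units.ext_iff, Matrix.GeneralLinearGroup.val_det_apply,
          Units.val_one]
        exact TensorWreath43.permT_det_eq_one hσ
    exact Or.inl (hM.le_wreath hm ht (fun h => h ▸ by decide) hne)

end Cfsg.Agent.S5641
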