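import Cfsg.Statements.S5645
import Cfsg.Agent.Lib.TransvectionSymp

set_option autoImplicit false
open Cfsg

namespace Cfsg.Agent.S5645

open Cfsg.Agent.TransvectionMax
open scoped MatrixGroups Matrix

open Cfsg.Agent.TransvectionSymp


/-- For a finite field F and m ≥ 7, in the symplectic group Sp_2m(F) of the standard alternating form on F^(2m) (as a subgroup of GL_2m(F)), the stabiliser of any non-zero subspace on which the form vanishes identically is a maximal subgroup. -/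
theorem result {F : Type*} [Field F] [Fintype F] (m : ℕ) (hm : 7 ≤ m) (W : Submodule F (Fin m ⊕ Fin m → F)) (hW0 : W ≠ ⊥) (hW : Cfsg.Geo.IsTotallySingularFor (Cfsg.sympForm m F) W) : Cfsg.Geo.IsMaximalIn (Cfsg.spGL m F) (Cfsg.Geo.subspaceStabilizer W ⊓ Cfsg.spGL m F) := by
  have hf := sympForm_isSymplecticForm (F := F) m
  have hb := hf.bilinear
  set f := Cfsg.sympForm m F
  have hWp : ∀ {a}, a ∈ W → a ∈ perp hb W := fun {a} ha w hw => hW w hw a ha
  set H := Cfsg.Geo.subspaceStabilizer W ⊓ Cfsg.spGL m F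
  have hstab : ∀ {h : GL (Fin m ⊕ Fin m) F}, h ∈ Cfsg.spGL m F →
      (∀ w ∈ W, (h : Matrix (Fin m ⊕ Fin m) (Fin m ⊕ Fin m) F) *ᵥ w ∈ W) → h ∈ H := by
    intro h hh hW'
    refine ⟨fun v => ⟨hW' v, fun hv => ?_⟩, hh⟩
    change (h : Matrix (Fin m ⊕ Fin m) (Fin m ⊕ Fin m) F) *ᵥ v ∈ W at hv
    let T : (Fin m ⊕ Fin m → F) →ₗ[F] (Fin m ⊕ Fin m → F) :=
      Matrix.toLin' (h : Matrix (Fin m ⊕ Fin m) (Fin m ⊕ Fin m) F)
    have hTi : Function.Injective T := fun a b hab =>
      act_injective h (by simpa [T, Matrix.toLin'_apply] using hab)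
    have hTW : W.map T = W := by
      refine Submodule.eq_of_le_of_finrank_eq ?_
        (Submodule.equivMapOfInjective T hTi W).finrank_eq.symm
      rintro _ ⟨x, hx, rfl⟩
      rw [Matrix.toLin'_apply]
      exact hW' x hx
    rw [← hTW] at hv
    obtain ⟨x, hx, hxv⟩ := hv
    rw [Matrix.toLin'_apply] at hxv
    rwa [← act_injective h hxv]
  have hstH : ∀ u, u ∈ perp hb W → ∀ c, st f u c ∈ H := fun u hu c =>
    hstab (st_mem_spGL m u c) fun w hw => by
      rw [st_fix hf u c (hu w hw)]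
      exact hw
  refine ⟨lt_of_le_of_ne inf_le_right ?_, fun M hHM hMSp => ?_⟩
  · intro he
    obtain ⟨w, hw, hw0⟩ := Submodule.exists_mem_ne_zero_of_ne_bot hW0
    obtain ⟨u, hu⟩ := (hf.nondegenerate w hw0).2
    have huW : u ∉ W := fun h => hu (hW w hw u h)
    have h1 : (st f u 1 : Matrix (Fin m ⊕ Fin m) (Fin m ⊕ Fin m) F) *ᵥ w ∈ W :=
      ((he.symm ▸ st_mem_spGL m u 1 : st f u 1 ∈ H).1 w).mp hw
    rw [st_act hf, one_mul, W.add_mem_iff_right hw] at h1
    exact huW (by simpa [hu] using W.smul_mem (f w u)⁻¹ h1)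
  · by_cases hMH : ∀ g ∈ M, ∀ w ∈ W, (g : Matrix (Fin m ⊕ Fin m) (Fin m ⊕ Fin m) F) *ᵥ w ∈ W
    · exact Or.inl (le_antisymm (fun g hg => hstab (hMSp hg) (hMH g hg)) hHM)
    refine Or.inr (le_antisymm hMSp ?_)
    have hst : ∀ {h : GL (Fin m ⊕ Fin m) F}, h ∈ M → ∀ {u}, (∀ c, st f u c ∈ M) →
        ∀ c, st f ((h : Matrix (Fin m ⊕ Fin m) (Fin m ⊕ Fin m) F) *ᵥ u) c ∈ M := by
      intro h hh u hu c
      rw [← st_conj hf (hMSp hh)]
      exact M.mul_mem (M.mul_mem hh (hu c)) (M.inv_mem hh)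
    push Not at hMH
    obtain ⟨g, hgM, w, hw, hgw⟩ := hMH
    -- a transvection centre outside the perp of W
    obtain ⟨v0, hv0, hv0M⟩ : ∃ v, v ∉ perp hb W ∧ ∀ c, st f v c ∈ M := by
      obtain ⟨a, ha, hga⟩ := exists_perp_ne hf hgw
      refine ⟨((g⁻¹ : GL (Fin m ⊕ Fin m) F) : Matrix (Fin m ⊕ Fin m) (Fin m ⊕ Fin m) F) *ᵥ a,
        fun h => hga ?_, hst (M.inv_mem hgM) (fun c => hHM (hstH a ha c))⟩
      have h1 := hMSp hgM w
        (((g⁻¹ : GL (Fin m ⊕ Fin m) F) : Matrix (Fin m ⊕ Fin m) (Fin m ⊕ Fin m) F) *ᵥ a)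
      rw [show (glToMat (Fin m ⊕ Fin m) F) g = (g : Matrix (Fin m ⊕ Fin m) (Fin m ⊕ Fin m) F) from rfl,
        act_inv_act] at h1
      exact h1.trans (h w hw)
    refine spGL_le m fun v c => ?_
    by_cases hv : v ∈ perp hb W
    · exact hHM (hstH v hv c)
    have hout : ∀ {v}, v ∉ perp hb W → ∃ x ∈ W, f x v ≠ 0 := by
      intro v hv
      by_contra! h
      exact hv h
    obtain ⟨a, ha, hav0, hav⟩ := exists_common_on hf (hout hv0) (hout hv)
    have h0a : f v0 a ≠ 0 := TransvectionSymp.skew_ne hf hav0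
    have hva : f v a ≠ 0 := TransvectionSymp.skew_ne hf hav
    set l := f v a / f v0 a
    set x := l • v0
    have hxa : f x a = f v a := by rw [hb.smul_left, div_mul_cancel₀ _ h0a]
    have hxM : ∀ c, st f x c ∈ M := fun c => by rw [st_smul hf]; exact hv0M _
    set b := (f v a)⁻¹ • (v - x)
    have hab : f a b = 0 := by
      rw [hb.smul_right, TransvectionMax.sub_right hb, hf.skew a v, hf.skew a x, hxa, sub_self, mul_zero]
    have hba : f b a = 0 := TransvectionSymp.skew_zero hf hab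
    set r := st f (a + b) 1 * st f a (-1) * st f b (-1)
    have hract : ∀ y, (r : Matrix (Fin m ⊕ Fin m) (Fin m ⊕ Fin m) F) *ᵥ y = y + f y a • b + f y b • a := by
      intro y
      simp only [r, mul_act, st_act hf, hb.add_left, hb.smul_left, hb.add_right, hab, hba,
        hf.alternating]
      module
    have hrH : r ∈ H := hstab
      (Subgroup.mul_mem _ (Subgroup.mul_mem _ (st_mem_spGL m _ _) (st_mem_spGL m _ _)) (st_mem_spGL m _ _))
      fun w hw => by
        rw [hract, hW w hw a ha, zero_smul, add_zero]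
        exact W.add_mem hw (W.smul_mem _ ha)
    have h2 : (st f a (-(f x b) / f v a) * r : GL (Fin m ⊕ Fin m) F) ∈ M :=
      M.mul_mem (hHM (hstH a (hWp ha) _)) (hHM hrH)
    have h3 := hst h2 hxM c
    have h4 : x + f x a • b = v := by
      rw [hxa, smul_inv_smul₀ hva]
      abel
    have h5 : f (f x b • a) a = 0 := by rw [hb.smul_left, hf.alternating, mul_zero]
    rwa [mul_act, hract, st_act hf, h4, hb.add_left, h5, add_zero,
      div_mul_cancel₀ _ hva, neg_smul, add_neg_cancel_right] at h3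

end Cfsg.Agent.S5645
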