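import Cfsg.Statements.S5646
import Cfsg.Agent.Lib.TransvectionSymp

set_option autoImplicit false
open Cfsg

namespace Cfsg.Agent.S5646

open Cfsg.Agent.TransvectionMax
open scoped MatrixGroups Matrix

open Cfsg.Agent.TransvectionSymp


/-- For a finite field F and m ≥ 7, in the symplectic group Sp_2m(F) of the standard alternating form on F^(2m), the stabiliser of any non-zero subspace W on which the form is non-degenerate and with dim W < m is a maximal subgroup. -/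
theorem result {F : Type*} [Field F] [Fintype F] (m : ℕ) (hm : 7 ≤ m) (W : Submodule F (Fin m ⊕ Fin m → F)) (hW0 : W ≠ ⊥) (hW : Cfsg.Geo.IsNondegenerateOn (Cfsg.sympForm m F) W) (hdim : Module.finrank F W < m) : Cfsg.Geo.IsMaximalIn (Cfsg.spGL m F) (Cfsg.Geo.subspaceStabilizer W ⊓ Cfsg.spGL m F) := by
  have hf := sympForm_isSymplecticForm (F := F) m
  have hb := hf.bilinear
  set f := Cfsg.sympForm m F
  set P := perp hb W
  have hP : Cfsg.Geo.IsNondegenerateOn f P := perp_nondegenerate hf hW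
  set H := Cfsg.Geo.subspaceStabilizer W ⊓ Cfsg.spGL m F
  have hstab : ∀ {h : GL (Fin m ⊕ Fin m) F}, h ∈ Cfsg.spGL m F →
      (∀ w ∈ W, (h : Matrix (Fin m ⊕ Fin m) (Fin m ⊕ Fin m) F) *ᵥ w ∈ W) → h ∈ H := by
    intro h hh hW'
    refine ⟨fun v => ⟨hW' v, fun hv => ?_⟩, hh⟩
    change (h : Matrix (Fin m ⊕ Fin m) (Fin m ⊕ Fin m) F) *ᵥ v ∈ W at hv
    let T : (Fin m ⊕ Fin m → F) →ₗ[F] (Fin m ⊕ Fin m → F) :=
      Matrix.toLin' (h : Matrix (Fin m ⊕ Fin m) (Fin m ⊕ Fin m) F)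
    have hTi : Function.Injective T := fun a b hab =>
      act_injective h (by simpa [T, Matrix.toLin'_apply] using hab)
    have hTW : W.map T = W := by
      refine Submodule.eq_of_le_of_finrank_eq ?_
        (Submodule.equivMapOfInjective T hTi W).finrank_eq.symm
      rintro _ ⟨x, hx, rfl⟩
      rw [Matrix.toLin'_apply]
      exact hW' x hx
    rw [← hTW] at hv
    obtain ⟨x, hx, hxv⟩ := hv
    rw [Matrix.toLin'_apply] at hxv
    rwa [← act_injective h hxv]
  have hstH : ∀ u, u ∈ W ∨ u ∈ P → ∀ c, st f u c ∈ H := fun u hu c =>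
    hstab (st_mem_spGL m u c) fun w hw => by
      rcases hu with hu | hu
      · rw [st_act hf]
        exact W.add_mem hw (W.smul_mem _ hu)
      · rw [st_fix hf u c (hu w hw)]
        exact hw
  have hdisj : ∀ x ∈ W, x ∈ P → x = 0 := by
    intro x hx hxP
    by_contra h0
    obtain ⟨⟨y, hy, hyx⟩, -⟩ := hW x hx h0
    exact hyx (hxP y hy)
  have hsup : W ⊔ P = ⊤ := eq_top_iff.mpr fun y _ => by
    obtain ⟨p, hp, hyp⟩ := exists_split hf hW y
    exact Submodule.mem_sup.mpr ⟨p, hp, y - p, hyp, add_sub_cancel p y⟩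
  have hPd : Module.finrank F W < Module.finrank F P := by
    have h1 := Submodule.finrank_sup_add_finrank_inf_eq W P
    have hbot : W ⊓ P = ⊥ := eq_bot_iff.mpr fun x hx => (Submodule.mem_bot F).mpr (hdisj x hx.1 hx.2)
    rw [hsup, hbot, finrank_top, finrank_bot, Module.finrank_fintype_fun_eq_card, Fintype.card_sum,
      Fintype.card_fin] at h1
    omega
  obtain ⟨w1, hw1, hw10⟩ := Submodule.exists_mem_ne_zero_of_ne_bot hW0
  have hP0 : P ≠ ⊥ := by
    intro h
    rw [h, finrank_bot] at hPd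
    omega
  refine ⟨lt_of_le_of_ne inf_le_right ?_, fun M hHM hMSp => ?_⟩
  · intro he
    obtain ⟨z, hz, hz0⟩ := Submodule.exists_mem_ne_zero_of_ne_bot hP0
    obtain ⟨-, ⟨w2, hw2, hw12⟩⟩ := hW w1 hw1 hw10
    have hw20 : w2 ≠ 0 := fun h => hw12 (by rw [h, TransvectionMax.zero_right hb])
    have h1 : (st f (w2 + z) 1 : Matrix (Fin m ⊕ Fin m) (Fin m ⊕ Fin m) F) *ᵥ w1 ∈ W :=
      ((he.symm ▸ st_mem_spGL m (w2 + z) 1 : st f (w2 + z) 1 ∈ H).1 w1).mp hw1
    rw [st_act hf, one_mul, hb.add_right, hz w1 hw1, add_zero, W.add_mem_iff_right hw1] at h1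
    have h2 : w2 + z ∈ W := by simpa [hw12] using W.smul_mem (f w1 w2)⁻¹ h1
    exact hz0 (hdisj z ((W.add_mem_iff_right hw2).mp h2) hz)
  · by_cases hMH : ∀ g ∈ M, ∀ w ∈ W, (g : Matrix (Fin m ⊕ Fin m) (Fin m ⊕ Fin m) F) *ᵥ w ∈ W
    · exact Or.inl (le_antisymm (fun g hg => hstab (hMSp hg) (hMH g hg)) hHM)
    refine Or.inr (le_antisymm hMSp ?_)
    have hst : ∀ {h : GL (Fin m ⊕ Fin m) F}, h ∈ M → ∀ {u}, (∀ c, st f u c ∈ M) →
        ∀ c, st f ((h : Matrix (Fin m ⊕ Fin m) (Fin m ⊕ Fin m) F) *ᵥ u) c ∈ M := by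
      intro h hh u hu c
      rw [← st_conj hf (hMSp hh)]
      exact M.mul_mem (M.mul_mem hh (hu c)) (M.inv_mem hh)
    push Not at hMH
    obtain ⟨g, hgM, w, hw, hgw⟩ := hMH
    -- a transvection centre mixing W and its perp
    obtain ⟨w0, hw0, hw00, z0, hz0, hz00, h0M⟩ :
        ∃ w0 ∈ W, w0 ≠ 0 ∧ ∃ z0 ∈ P, z0 ≠ 0 ∧ ∀ c, st f (w0 + z0) c ∈ M := by
      obtain ⟨u, hu, hguW, hguP⟩ : ∃ u, (u ∈ W ∨ u ∈ P) ∧
          (g : Matrix (Fin m ⊕ Fin m) (Fin m ⊕ Fin m) F) *ᵥ u ∉ W ∧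
          (g : Matrix (Fin m ⊕ Fin m) (Fin m ⊕ Fin m) F) *ᵥ u ∉ P := by
        by_contra! hcon
        let T : (Fin m ⊕ Fin m → F) →ₗ[F] (Fin m ⊕ Fin m → F) :=
          Matrix.toLin' (g : Matrix (Fin m ⊕ Fin m) (Fin m ⊕ Fin m) F)
        have hTi : Function.Injective T := fun a b hab =>
          act_injective g (by simpa [T, Matrix.toLin'_apply] using hab)
        have key : ∀ X : Submodule F (Fin m ⊕ Fin m → F), (∀ x ∈ X, x ∈ W ∨ x ∈ P) →
            X.map T ≤ W ∨ X.map T ≤ P := fun X hX => le_or_le_of_forall (by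
          rintro _ ⟨x, hx, rfl⟩
          rw [Matrix.toLin'_apply]
          exact or_iff_not_imp_left.mpr (hcon x (hX x hx)))
        have hdim2 : ∀ {X Y : Submodule F (Fin m ⊕ Fin m → F)}, X.map T ≤ Y →
            Module.finrank F X ≤ Module.finrank F Y := fun h => by
          rw [(Submodule.equivMapOfInjective T hTi _).finrank_eq]
          exact Submodule.finrank_mono h
        have hWP : W.map T ≤ P := (key W fun x hx => Or.inl hx).resolve_left fun h =>
          hgw (h ⟨w, hw, rfl⟩)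
        have hPP : P.map T ≤ P := (key P fun x hx => Or.inr hx).resolve_left fun h =>
          absurd (hdim2 h) (by omega)
        obtain ⟨x, hx⟩ := (LinearMap.injective_iff_surjective.mp hTi) w1
        obtain ⟨p, hp, q, hq, hpq⟩ := Submodule.mem_sup.mp (hsup.symm ▸ Submodule.mem_top : x ∈ W ⊔ P)
        have hw1P : w1 ∈ P := by
          rw [← hx, ← hpq, map_add]
          exact P.add_mem (hWP ⟨p, hp, rfl⟩) (hPP ⟨q, hq, rfl⟩)
        exact hw10 (hdisj w1 hw1 hw1P)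
      obtain ⟨p, hp, hgp⟩ := exists_split hf hW ((g : Matrix (Fin m ⊕ Fin m) (Fin m ⊕ Fin m) F) *ᵥ u)
      refine ⟨p, hp, ?_, _, hgp, ?_, ?_⟩
      · rintro rfl
        exact hguP (by simpa using hgp)
      · intro h
        exact hguW (sub_eq_zero.mp h ▸ hp)
      · rw [add_sub_cancel]
        exact hst hgM fun c => hHM (hstH u hu c)
    have hsW : ∀ {x y}, x ∈ W → y ∈ P → f x y = 0 := fun hx hy => hy _ hx
    refine spGL_le m fun v c => ?_
    obtain ⟨p, hp, hvp⟩ := exists_split hf hW v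
    by_cases hp0 : p = 0
    · exact hHM (hstH v (Or.inr (by simpa [hp0] using hvp)) c)
    by_cases hq0 : v - p = 0
    · exact hHM (hstH v (Or.inl (sub_eq_zero.mp hq0 ▸ hp)) c)
    obtain ⟨h1, hh1, h1w⟩ := move_vec hf hW hw0 hp hw00 hp0
    obtain ⟨h2, hh2, h2z⟩ := move_vec hf hP hz0 hvp hz00 hq0
    have hin : ∀ {U : Submodule F (Fin m ⊕ Fin m → F)}, (∀ x ∈ U, x ∈ W ∨ x ∈ P) →
        Subgroup.closure {g : GL (Fin m ⊕ Fin m) F | ∃ u ∈ U, ∃ c, g = st f u c} ≤ M :=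
      fun hU => (Subgroup.closure_le M).mpr fun g hg => by
        obtain ⟨u, hu, c, rfl⟩ := hg
        exact hHM (hstH u (hU u hu) c)
    have h3 := hst (M.mul_mem (hin (fun x hx => Or.inr hx) hh2) (hin (fun x hx => Or.inl hx) hh1)) h0M c
    have f1 := (closure_props hf hh1).2.2 z0 hz0
    have f2 := (closure_props hf hh2).2.2 p fun y hy => TransvectionSymp.skew_zero hf (hsW hp hy)
    rwa [mul_act, Matrix.mulVec_add, h1w, f1, Matrix.mulVec_add, f2, h2z, add_sub_cancel] at h3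

end Cfsg.Agent.S5646
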