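import Cfsg.Statements.S5647
import Cfsg.Agent.Lib.TransvectionSymp

set_option autoImplicit false
open Cfsg

namespace Cfsg.Agent.S5647

open Cfsg.Agent.TransvectionMax Cfsg.Agent.TransvectionSymp
open scoped MatrixGroups Matrix


/-- For a finite field F with q elements and m ≥ 7, let D be a decomposition of F^(2m) into t ≥ 2 pairwise orthogonal subspaces of equal dimension k on each of which the standard alternating form is non-degenerate, spanning F^(2m). Unless k = 2 and q = 2, the elements of Sp_2m(F) permuting the members of D form a maximal subgroup of Sp_2m(F). -/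
theorem result {F : Type*} [Field F] [Fintype F] (m : ℕ) (hm : 7 ≤ m) {t : ℕ} (k : ℕ) (D : Fin t → Submodule F (Fin m ⊕ Fin m → F)) (hD : Cfsg.Geo.IsNondegenerateMDecomposition (Cfsg.sympForm m F) k D) (hex : ¬ (k = 2 ∧ Fintype.card F = 2)) : Cfsg.Geo.IsMaximalIn (Cfsg.spGL m F) (Cfsg.Geo.decompositionStabilizer D ⊓ Cfsg.spGL m F) := by
  have hf := sympForm_isSymplecticForm (F := F) m
  have hb := hf.bilinear
  set f := Cfsg.sympForm m F
  obtain ⟨⟨ht2, hk0, hkd, hindep, htop⟩, hnd, horth⟩ := hD
  -- each member has dimension at least two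
  have hk2 : 2 ≤ k := by
    by_contra hlt
    have h0 : 0 < t := by omega
    have h1 : Module.finrank F (D ⟨0, h0⟩) = 1 := by rw [hkd]; omega
    obtain ⟨v, hv, hgen⟩ := finrank_eq_one_iff'.mp h1
    obtain ⟨⟨x, hx, hxv⟩, -⟩ := hnd ⟨0, h0⟩ v v.2 (by simpa using hv)
    obtain ⟨c, hc⟩ := hgen ⟨x, hx⟩
    apply hxv
    rw [show x = c • (v : Fin m ⊕ Fin m → F) from congrArg Subtype.val hc.symm, hb.smul_left,
      hf.alternating, mul_zero]
  -- components
  choose π hπmem hπspec using fun i y => exists_proj hf (hnd i) y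
  have hπuniq : ∀ {i y p}, p ∈ D i → (∀ x ∈ D i, f x p = f x y) → π i y = p := by
    intro i y p hp h
    by_contra hne
    obtain ⟨⟨x, hx, hxne⟩, -⟩ := hnd i _ ((D i).sub_mem (hπmem i y) hp) (sub_ne_zero.mpr hne)
    apply hxne
    rw [TransvectionMax.sub_right hb, hπspec i y x hx, h x hx, sub_self]
  have hπadd : ∀ i y z, π i (y + z) = π i y + π i z := fun i y z =>
    hπuniq ((D i).add_mem (hπmem i y) (hπmem i z)) fun x hx => by
      rw [hb.add_right, hb.add_right, hπspec i y x hx, hπspec i z x hx]
  have hπsmul : ∀ i (c : F) y, π i (c • y) = c • π i y := fun i c y =>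
    hπuniq ((D i).smul_mem c (hπmem i y)) fun x hx => by
      rw [hb.smul_right, hb.smul_right, hπspec i y x hx]
  have hπself : ∀ {i y}, y ∈ D i → π i y = y := fun hy => hπuniq hy fun _ _ => rfl
  have hπother : ∀ {i j y}, i ≠ j → y ∈ D j → π i y = 0 := fun {i j y} hij hy =>
    hπuniq (D i).zero_mem fun x hx => by rw [TransvectionMax.zero_right hb, horth i j hij x hx y hy]
  have hπzero : ∀ i, π i 0 = 0 := fun i => hπself (D i).zero_mem
  have hπcomb : ∀ (c : Fin t → Fin m ⊕ Fin m → F) (s : Finset (Fin t)), (∀ i, c i ∈ D i) →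
      ∀ j, π j (∑ i ∈ s, c i) = if j ∈ s then c j else 0 := by
    intro c s hc j
    induction s using Finset.induction with
    | empty => simp [hπzero]
    | insert a r har ih =>
      rw [Finset.sum_insert har, hπadd, ih]
      by_cases hja : j = a
      · subst hja
        simp [hπself (hc j), har]
      · simp [hπother hja (hc a), hja]
  have hdecomp : ∀ y, ∑ i, π i y = y := by
    intro y
    have hy : y ∈ ⨆ i ∈ (Finset.univ : Finset (Fin t)), D i := by simp [htop]
    obtain ⟨c, hc⟩ := (Submodule.mem_iSup_finset_iff_exists_sum D y).mp hy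
    conv_rhs => rw [← hc]
    refine Finset.sum_congr rfl fun i _ => ?_
    rw [← hc, hπcomb (fun i => (c i : Fin m ⊕ Fin m → F)) Finset.univ (fun i => (c i).2) i,
      if_pos (Finset.mem_univ i)]
  have hpair : ∀ x y, f x y = ∑ i, f (π i x) (π i y) := by
    intro x y
    calc f x y = f x (∑ i, π i y) := by rw [hdecomp]
      _ = ∑ i, f x (π i y) := map_sum (fRight hb x) _ _
      _ = ∑ i, f (π i x) (π i y) := Finset.sum_congr rfl fun i _ => by
        rw [hf.skew x, hf.skew (π i x), hπspec i x (π i y) (hπmem i y)]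
  have hsingle : ∀ {i y}, (∀ j, j ≠ i → π j y = 0) → y ∈ D i := by
    intro i y h
    have := hdecomp y
    rw [Finset.sum_eq_single i (fun j _ hj => h j hj) (by simp)] at this
    exact this ▸ hπmem i y
  have hDinj : ∀ {i j}, D i = D j → i = j := by
    intro i j he
    by_contra hne
    obtain ⟨v, hv, hv0⟩ : ∃ v ∈ D i, v ≠ 0 := Submodule.exists_mem_ne_zero_of_ne_bot fun h => by
      have := hkd i
      rw [h, finrank_bot] at this
      omega
    exact hv0 (by rw [← hπself hv, hπother hne (he ▸ hv)])
  set H := Cfsg.Geo.decompositionStabilizer D ⊓ Cfsg.spGL m F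
  -- recognising members of H
  have hmkH : ∀ {h : GL (Fin m ⊕ Fin m) F}, h ∈ Cfsg.spGL m F →
      (∀ i, ∃ j, ∀ v ∈ D i, (h : Matrix (Fin m ⊕ Fin m) (Fin m ⊕ Fin m) F) *ᵥ v ∈ D j) → h ∈ H := by
    intro h hh hmap
    choose σ hσ using hmap
    let T : (Fin m ⊕ Fin m → F) →ₗ[F] (Fin m ⊕ Fin m → F) :=
      Matrix.toLin' (h : Matrix (Fin m ⊕ Fin m) (Fin m ⊕ Fin m) F)
    have hTi : Function.Injective T := fun a b hab =>
      act_injective h (by simpa [T, Matrix.toLin'_apply] using hab)
    have hTmap : ∀ i, (D i).map T = D (σ i) := fun i => by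
      refine Submodule.eq_of_le_of_finrank_eq ?_ ?_
      · rintro _ ⟨x, hx, rfl⟩
        rw [Matrix.toLin'_apply]
        exact hσ i x hx
      · rw [← (Submodule.equivMapOfInjective T hTi (D i)).finrank_eq, hkd, hkd]
    have hσi : Function.Injective σ := fun i j hij =>
      hDinj (Submodule.map_injective_of_injective hTi (by rw [hTmap, hTmap, hij]))
    exact ⟨⟨Equiv.ofBijective σ (Finite.injective_iff_bijective.mp hσi), hTmap⟩, hh⟩
  have hstH : ∀ {i u}, u ∈ D i → ∀ c, st f u c ∈ H := by
    intro i u hu c
    refine hmkH (st_mem_spGL m u c) fun j => ⟨j, fun v hv => ?_⟩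
    rw [st_act hf]
    by_cases hji : j = i
    · subst hji
      exact (D j).add_mem hv ((D j).smul_mem _ hu)
    · rw [horth j i hji v hv u hu, mul_zero, zero_smul, add_zero]
      exact hv
  -- swapping two members
  have hswap : ∀ a b : Fin t, ∃ h ∈ H, ∀ i, ∀ v ∈ D i,
      (h : Matrix (Fin m ⊕ Fin m) (Fin m ⊕ Fin m) F) *ᵥ v ∈ D (Equiv.swap a b i) := by
    intro a b
    by_cases hab : a = b
    · subst hab
      exact ⟨1, H.one_mem, fun i v hv => by simpa using hv⟩
    have hDa : ∀ {x}, x ∈ D a → x ∈ D a ⊔ D b := fun h => Submodule.mem_sup_left h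
    have hU : Cfsg.Geo.IsNondegenerateOn f (D a ⊔ D b) := by
      intro w hw hw0
      obtain ⟨p, hp, q, hq, rfl⟩ := Submodule.mem_sup.mp hw
      by_cases hp0 : p = 0
      · subst hp0
        rw [zero_add] at hw0 ⊢
        obtain ⟨⟨x, hx, hxq⟩, ⟨y, hy, hqy⟩⟩ := hnd b q hq hw0
        exact ⟨⟨x, Submodule.mem_sup_right hx, hxq⟩, ⟨y, Submodule.mem_sup_right hy, hqy⟩⟩
      · obtain ⟨⟨x, hx, hxp⟩, -⟩ := hnd a p hp hp0
        have h1 : f x (p + q) ≠ 0 := by rwa [hb.add_right, horth a b hab x hx q hq, add_zero]
        exact ⟨⟨x, hDa hx, h1⟩, ⟨x, hDa hx, TransvectionSymp.skew_ne hf h1⟩⟩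
    obtain ⟨h, hh, hmap⟩ := move_subspace hf k hU (hnd a) (hnd b) le_sup_left le_sup_right
      (hkd a) (hkd b)
    obtain ⟨hp, -, hfix⟩ := closure_props hf hh
    have hab' : ∀ v ∈ D a, (h : Matrix (Fin m ⊕ Fin m) (Fin m ⊕ Fin m) F) *ᵥ v ∈ D b := fun v hv => by
      rw [← hmap, ← Matrix.toLin'_apply]
      exact Submodule.mem_map_of_mem hv
    have hoth : ∀ i, i ≠ a → i ≠ b → ∀ v ∈ D i,
        (h : Matrix (Fin m ⊕ Fin m) (Fin m ⊕ Fin m) F) *ᵥ v = v := by
      intro i hia hib v hv
      refine hfix v fun w hw => ?_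
      obtain ⟨p, hp', q, hq, rfl⟩ := Submodule.mem_sup.mp hw
      rw [hb.add_left, horth a i (Ne.symm hia) p hp' v hv, horth b i (Ne.symm hib) q hq v hv, add_zero]
    have hba : ∀ v ∈ D b, (h : Matrix (Fin m ⊕ Fin m) (Fin m ⊕ Fin m) F) *ᵥ v ∈ D a := by
      intro v hv
      refine hsingle fun j hj => hπuniq (D j).zero_mem fun x hx => ?_
      rw [TransvectionMax.zero_right hb]
      symm
      by_cases hjb : j = b
      · subst hjb
        rw [← hmap] at hx
        obtain ⟨x', hx', rfl⟩ := hx
        rw [Matrix.toLin'_apply, hp, horth a j hab x' hx' v hv]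
      · rw [← hoth j hj hjb x hx, hp, horth j b hjb x hx v hv]
    have key : ∀ i, ∀ v ∈ D i,
        (h : Matrix (Fin m ⊕ Fin m) (Fin m ⊕ Fin m) F) *ᵥ v ∈ D (Equiv.swap a b i) := by
      intro i v hv
      by_cases hia : i = a
      · subst hia
        rw [Equiv.swap_apply_left]
        exact hab' v hv
      · by_cases hib : i = b
        · subst hib
          rw [Equiv.swap_apply_right]
          exact hba v hv
        · rw [Equiv.swap_apply_of_ne_of_ne hia hib, hoth i hia hib v hv]
          exact hv
    exact ⟨h, hmkH (fun x y => hp x y) (fun i => ⟨_, key i⟩), key⟩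
  let i0 : Fin t := ⟨0, by omega⟩
  let i1 : Fin t := ⟨1, by omega⟩
  have h01 : i0 ≠ i1 := by simp [i0, i1]
  have hex0 : ∀ i, ∃ v ∈ D i, v ≠ 0 := fun i =>
    Submodule.exists_mem_ne_zero_of_ne_bot fun h => by
      have := hkd i
      rw [h, finrank_bot] at this
      omega
  refine ⟨lt_of_le_of_ne inf_le_right ?_, fun M hHM hMSp => ?_⟩
  · intro he
    obtain ⟨a, ha, ha0⟩ := hex0 i0
    obtain ⟨b, hbm, hb0⟩ := hex0 i1
    obtain ⟨⟨y, hy, hya⟩, -⟩ := hnd i0 a ha ha0
    obtain ⟨σ, hσ⟩ := (he.symm ▸ st_mem_spGL m (a + b) 1 : st f (a + b) 1 ∈ H).1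
    have hfy : f y (a + b) = f y a := by
      rw [hb.add_right, horth i0 i1 h01 y hy b hbm, add_zero]
    have hz : y + f y a • (a + b) ∈ D (σ i0) := by
      rw [← hσ i0]
      refine ⟨y, hy, ?_⟩
      rw [Matrix.toLin'_apply, st_act hf, one_mul, hfy]
    have hp1 : π i1 (y + f y a • (a + b)) = f y a • b := by
      rw [hπadd, hπsmul, hπadd, hπother h01.symm hy, hπother h01.symm ha, hπself hbm, zero_add, zero_add]
    have hσ1 : σ i0 = i1 := by
      by_contra hne
      rw [hπother (Ne.symm hne) hz] at hp1
      exact smul_ne_zero hya hb0 hp1.symm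
    rw [hσ1] at hz
    have hp0 : π i0 (y + f y a • (a + b)) = 0 := hπother h01 hz
    rw [hπadd, hπsmul, hπadd, hπself hy, hπself ha, hπother h01 hbm, add_zero] at hp0
    apply hya
    have h2 : f (y + f y a • a) a = f y a := by
      rw [hb.add_left, hb.smul_left, hf.alternating, mul_zero, add_zero]
    rw [← h2, hp0, TransvectionMax.zero_left hb]
  by_cases hMH : M ≤ Cfsg.Geo.decompositionStabilizer D
  · exact Or.inl (le_antisymm (le_inf hMH hMSp) hHM)
  refine Or.inr (le_antisymm hMSp ?_)
  obtain ⟨g, hgM, hgn⟩ := Set.not_subset.mp hMH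
  have hconj : ∀ {h : GL (Fin m ⊕ Fin m) F}, h ∈ M → ∀ {u}, (∀ c, st f u c ∈ M) →
      ∀ c, st f ((h : Matrix (Fin m ⊕ Fin m) (Fin m ⊕ Fin m) F) *ᵥ u) c ∈ M := by
    intro h hh u hu c
    rw [← st_conj hf (hMSp hh)]
    exact M.mul_mem (M.mul_mem hh (hu c)) (M.inv_mem hh)
  classical
  let supp : (Fin m ⊕ Fin m → F) → Finset (Fin t) := fun v => Finset.univ.filter fun i => π i v ≠ 0
  have hsupp : ∀ {v i}, i ∈ supp v ↔ π i v ≠ 0 := fun {v i} => by simp [supp]
  -- centres with the same support
  have hsame : ∀ {v w}, supp v = supp w → (∀ c, st f v c ∈ M) → ∀ c, st f w c ∈ M := by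
    intro v w hvw hv
    have step : ∀ s : Finset (Fin t), s ⊆ supp w →
        ∃ z, (∀ i ∈ s, π i z = π i w) ∧ (∀ i, i ∉ s → π i z = π i v) ∧ ∀ c, st f z c ∈ M := by
      intro s
      induction s using Finset.induction with
      | empty => exact fun _ => ⟨v, by simp, fun _ _ => rfl, hv⟩
      | insert a r har ih =>
        intro hsub
        obtain ⟨haw, hrw⟩ := Finset.insert_subset_iff.mp hsub
        obtain ⟨z, hz1, hz2, hz3⟩ := ih hrw
        have hza : π a z ≠ 0 := by rw [hz2 a har]; exact hsupp.mp (hvw ▸ haw)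
        obtain ⟨h, hh, hha⟩ := move_vec hf (hnd a) (hπmem a z) (hπmem a w) hza (hsupp.mp haw)
        have hhM : h ∈ M := by
          refine hHM ((Subgroup.closure_le H).mpr (fun g hg => ?_) hh)
          obtain ⟨u, hu, c, rfl⟩ := hg
          exact hstH hu c
        obtain ⟨-, -, hfix⟩ := closure_props hf hh
        have hperp : z - π a z ∈ perp hb (D a) := fun x hx => by
          rw [TransvectionMax.sub_right hb, hπspec a z x hx, sub_self]
        have hact : (h : Matrix (Fin m ⊕ Fin m) (Fin m ⊕ Fin m) F) *ᵥ z = z + (π a w - π a z) := by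
          conv_lhs => rw [← add_sub_cancel (π a z) z, Matrix.mulVec_add, hha, hfix _ hperp]
          abel
        refine ⟨_, fun i hi => ?_, fun i hi => ?_, hconj hhM hz3⟩
        · rw [hact, hπadd]
          rcases Finset.mem_insert.mp hi with rfl | hi
          · rw [hπself ((D i).sub_mem (hπmem i w) (hπmem i z)), add_sub_cancel]
          · rw [hπother (fun h : i = a => har (h ▸ hi)) ((D a).sub_mem (hπmem a w) (hπmem a z)),
              add_zero, hz1 i hi]
        · rw [Finset.mem_insert, not_or] at hi
          rw [hact, hπadd, hπother hi.1 ((D a).sub_mem (hπmem a w) (hπmem a z)), add_zero, hz2 i hi.2]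
    obtain ⟨z, hz1, hz2, hz3⟩ := step (supp w) (Finset.Subset.refl _)
    have hzw : z = w := by
      rw [← hdecomp z, ← hdecomp w]
      refine Finset.sum_congr rfl fun i _ => ?_
      by_cases hi : i ∈ supp w
      · exact hz1 i hi
      · have h1 : π i w = 0 := by simpa [hsupp] using hi
        have h2 : π i v = 0 := by
          rw [← hvw] at hi
          simpa [hsupp] using hi
        rw [hz2 i hi, h1, h2]
    exact hzw ▸ hz3
  let P : Finset (Fin t) → Prop := fun A => ∀ w, supp w = A → ∀ c, st f w c ∈ M
  have hPof : ∀ {v}, (∀ c, st f v c ∈ M) → P (supp v) := fun hv w hw => hsame hw.symm hv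
  have hPsum : ∀ {A : Finset (Fin t)} (c : Fin t → Fin m ⊕ Fin m → F), (∀ i, c i ∈ D i) →
      (∀ i ∈ A, c i ≠ 0) → P A → ∀ r, st f (∑ i ∈ A, c i) r ∈ M := fun {A} c hc hne hA =>
    hA _ (Finset.ext fun i => by
      rw [hsupp, hπcomb c A hc i]
      by_cases hi : i ∈ A
      · simp [hi, hne i hi]
      · simp [hi])
  -- a mixed centre
  obtain ⟨A, hA2, hPA⟩ : ∃ A : Finset (Fin t), 2 ≤ A.card ∧ P A := by
    by_contra! hcon
    apply hgn
    refine (hmkH (hMSp hgM) fun i => ?_).1
    set gm := (g : Matrix (Fin m ⊕ Fin m) (Fin m ⊕ Fin m) F)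
    have hone : ∀ v ∈ D i, v ≠ 0 → ∃ j, gm *ᵥ v ∈ D j ∧ π j (gm *ᵥ v) ≠ 0 := by
      intro v hv hv0
      have hlt : (supp (gm *ᵥ v)).card < 2 := by
        by_contra hle
        exact hcon _ (not_lt.mp hle) (hPof (hconj hgM fun c => hHM (hstH hv c)))
      obtain ⟨j, hj⟩ : ∃ j, j ∈ supp (gm *ᵥ v) := by
        by_contra! h
        refine act_ne_zero g hv0 ?_
        rw [← hdecomp (gm *ᵥ v)]
        exact Finset.sum_eq_zero fun j _ => by simpa [hsupp] using h j
      refine ⟨j, hsingle fun l hl => ?_, hsupp.mp hj⟩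
      by_contra hl0
      have hle : ({j, l} : Finset (Fin t)).card ≤ (supp (gm *ᵥ v)).card := Finset.card_le_card (by
        intro x hx
        rcases Finset.mem_insert.mp hx with rfl | hx
        · exact hj
        · rw [Finset.mem_singleton] at hx
          rw [hx, hsupp]
          exact hl0)
      rw [Finset.card_pair (Ne.symm hl)] at hle
      omega
    obtain ⟨v0, hv0, hv00⟩ := hex0 i
    obtain ⟨j, hj, hj0⟩ := hone v0 hv0 hv00
    refine ⟨j, fun v hv => ?_⟩
    by_contra hnot
    have hv' : v ≠ 0 := fun h => hnot (by simp [h])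
    obtain ⟨l, hl, hl0⟩ := hone v hv hv'
    have hlj : l ≠ j := fun h => hnot (h ▸ hl)
    have hjsum : π j (gm *ᵥ (v + v0)) = π j (gm *ᵥ v0) := by
      rw [Matrix.mulVec_add, hπadd, hπother hlj.symm hl, zero_add]
    have hlsum : π l (gm *ᵥ (v + v0)) = π l (gm *ᵥ v) := by
      rw [Matrix.mulVec_add, hπadd, hπother hlj hj, add_zero]
    obtain ⟨e, he, -⟩ := hone (v + v0) ((D i).add_mem hv hv0) (fun h => by
      rw [h, Matrix.mulVec_zero, hπzero] at hjsum
      exact hj0 hjsum.symm)
    rcases eq_or_ne e j with rfl | hej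
    · rw [hπother hlj he] at hlsum
      exact hl0 hlsum.symm
    · rw [hπother (Ne.symm hej) he] at hjsum
      exact hj0 hjsum.symm
  -- a second vector in a member, for the reduction of the support
  obtain ⟨i, hiA, j, hjA, hij⟩ := Finset.one_lt_card.mp (show 1 < A.card by omega)
  have hPpair : P {i, j} := by
    choose v hv hv0 using hex0
    obtain ⟨-, ⟨si, hsi, hvsi⟩⟩ := hnd i (v i) (hv i) (hv0 i)
    obtain ⟨sj, hsj, hsj0, hsjv, hvsj⟩ :
        ∃ s ∈ D j, s ≠ 0 ∧ v j + s ≠ 0 ∧ f (v j) s = 0 := by
      by_cases hq : ∃ a : F, a ≠ 0 ∧ a + 1 ≠ 0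
      · obtain ⟨a, ha, ha1⟩ := hq
        refine ⟨a • v j, (D j).smul_mem a (hv j), smul_ne_zero ha (hv0 j), ?_, f_smul_self hf _ _⟩
        rw [show v j + a • v j = (a + 1) • v j by rw [add_smul, one_smul, add_comm]]
        exact smul_ne_zero ha1 (hv0 j)
      · push Not at hq
        have hq2 : Fintype.card F = 2 := by
          have huniv : (Finset.univ : Finset F) = {0, -1} := by
            ext a
            simp only [Finset.mem_univ, Finset.mem_insert, Finset.mem_singleton, true_iff]
            rcases eq_or_ne a 0 with ha | ha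
            · exact Or.inl ha
            · exact Or.inr (eq_neg_of_add_eq_zero_left (hq a ha))
          rw [← Finset.card_univ, huniv,
            Finset.card_pair (Ne.symm (neg_ne_zero.mpr (one_ne_zero : (1 : F) ≠ 0)))]
        have hk3 : 3 ≤ k := by
          by_contra h
          exact hex ⟨by omega, hq2⟩
        by_contra! hcon
        have hle : D j ⊓ LinearMap.ker (fRight hb (v j)) ≤ Submodule.span F {v j} := by
          rintro s ⟨hs, hs'⟩
          by_cases hs0 : s = 0
          · rw [hs0]; exact Submodule.zero_mem _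
          by_cases hsv : v j + s = 0
          · exact Submodule.mem_span_singleton.mpr ⟨-1, by
              rw [neg_one_smul]; exact (eq_neg_of_add_eq_zero_right hsv).symm⟩
          exact absurd hs' (hcon s hs hs0 hsv)
        have h1 := Submodule.finrank_mono hle
        rw [finrank_span_singleton (hv0 j)] at h1
        have h2 := Submodule.finrank_sup_add_finrank_inf_eq (D j) (LinearMap.ker (fRight hb (v j)))
        have h3 := Submodule.finrank_le (D j ⊔ LinearMap.ker (fRight hb (v j)))
        have h4 := LinearMap.finrank_range_add_finrank_ker (fRight hb (v j))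
        have h5 : Module.finrank F (LinearMap.range (fRight hb (v j))) ≤ 1 :=
          (Submodule.finrank_le _).trans_eq (Module.finrank_self F)
        have h6 := hkd j
        omega
    let s : Fin t → Fin m ⊕ Fin m → F := fun l => if l = i then si else if l = j then sj else -v l
    have hs : ∀ l, s l ∈ D l := by
      intro l
      by_cases h1 : l = i
      · subst h1; simpa [s] using hsi
      · by_cases h2 : l = j
        · subst h2; simpa [s, h1] using hsj
        · simpa [s, h1, h2] using hv l
    have hs0 : ∀ l, s l ≠ 0 := by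
      intro l
      by_cases h1 : l = i
      · subst h1
        simp only [s, if_true]
        exact fun h => hvsi (by rw [h, TransvectionMax.zero_right hb])
      · by_cases h2 : l = j
        · subst h2; simpa [s, h1] using hsj0
        · simpa [s, h1, h2] using hv0 l
    set x := ∑ l ∈ A, v l
    set y := ∑ l ∈ A, s l
    have hxy : f x y = f (v i) si := by
      rw [hpair, Finset.sum_eq_single i]
      · rw [hπcomb v A hv, hπcomb s A hs, if_pos hiA, if_pos hiA]
        simp [s]
      · intro l _ hl
        rw [hπcomb v A hv, hπcomb s A hs]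
        by_cases hlA : l ∈ A
        · rw [if_pos hlA, if_pos hlA]
          by_cases h2 : l = j
          · subst h2; simpa [s, hl] using hvsj
          · simp [s, hl, h2, TransvectionMax.neg_right hb, hf.alternating]
        · simp [if_neg hlA, TransvectionMax.zero_left hb]
      · simp
    have h1 := hconj (hPsum s hs (fun l _ => hs0 l) hPA (f x y)⁻¹)
      (hPsum v hv (fun l _ => hv0 l) hPA)
    rw [st_act hf, inv_mul_cancel₀ (by rw [hxy]; exact hvsi), one_smul] at h1
    have h2 : supp (x + y) = {i, j} := by
      ext l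
      rw [hsupp, hπadd, hπcomb v A hv, hπcomb s A hs, Finset.mem_insert, Finset.mem_singleton]
      by_cases hli : l = i
      · subst hli
        simp only [if_pos hiA, s, if_true, true_or, iff_true]
        intro h
        apply hvsi
        rw [eq_neg_of_add_eq_zero_right h, TransvectionMax.neg_right hb, hf.alternating, neg_zero]
      · by_cases hlj : l = j
        · subst hlj
          simp only [if_pos hjA, s, if_neg hli, if_true, or_true, iff_true]
          exact hsjv
        · by_cases hlA : l ∈ A <;> simp [hlA, s, hli, hlj]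
    exact h2 ▸ hPof h1
  have htrans : ∀ {a b c d : Fin t}, a ≠ b → P {a, b} → P {Equiv.swap c d a, Equiv.swap c d b} := by
    intro a b c d hab hP
    obtain ⟨h, hhH, hh⟩ := hswap c d
    obtain ⟨p, hp, hp0⟩ := hex0 a
    obtain ⟨q, hq, hq0⟩ := hex0 b
    have hsup : supp (p + q) = {a, b} := Finset.ext fun l => by
      rw [hsupp, hπadd, Finset.mem_insert, Finset.mem_singleton]
      by_cases h1 : l = a
      · subst h1; simp [hπself hp, hπother hab hq, hp0]
      · by_cases h2 : l = b
        · subst h2; simp [hπself hq, hπother h1 hp, hq0]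
        · simp [hπother h1 hp, hπother h2 hq, h1, h2]
    have hne : Equiv.swap c d a ≠ Equiv.swap c d b := fun e => hab ((Equiv.swap c d).injective e)
    have hsup2 : supp ((h : Matrix (Fin m ⊕ Fin m) (Fin m ⊕ Fin m) F) *ᵥ (p + q)) =
        {Equiv.swap c d a, Equiv.swap c d b} := Finset.ext fun l => by
      have hp' := hh a p hp
      have hq' := hh b q hq
      rw [hsupp, Matrix.mulVec_add, hπadd, Finset.mem_insert, Finset.mem_singleton]
      by_cases h1 : l = Equiv.swap c d a
      · subst h1; simp [hπself hp', hπother hne hq', act_ne_zero h hp0]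
      · by_cases h2 : l = Equiv.swap c d b
        · subst h2; simp [hπself hq', hπother h1 hp', act_ne_zero h hq0]
        · simp [hπother h1 hp', hπother h2 hq', h1, h2]
    exact hsup2 ▸ hPof (hconj (hHM hhH) (hP (p + q) hsup))
  have hedge : ∀ a b : Fin t, a ≠ b → P {a, b} := by
    intro a b hab
    have h1 := htrans (c := i) (d := a) hij hPpair
    rw [Equiv.swap_apply_left] at h1
    have hne : a ≠ Equiv.swap i a j := fun e => hij ((Equiv.swap i a).injective (by rwa [Equiv.swap_apply_left]))
    have h2 := htrans (c := Equiv.swap i a j) (d := b) hne h1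
    rwa [Equiv.swap_apply_left, Equiv.swap_apply_of_ne_of_ne hne hab] at h2
  have hall : ∀ B : Finset (Fin t), B.Nonempty → P B := by
    intro B
    induction B using Finset.induction with
    | empty => intro h; exact absurd h Finset.not_nonempty_empty
    | insert a r har ih =>
      intro _
      by_cases hr : r.Nonempty
      · obtain ⟨b, hbr⟩ := hr
        have hab : b ≠ a := fun h => har (h ▸ hbr)
        choose v hv hv0 using hex0
        obtain ⟨-, ⟨s, hs, hvs⟩⟩ := hnd b (v b) (hv b) (hv0 b)
        let e : Fin t → Fin m ⊕ Fin m → F := fun l => if l = b then s else v l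
        have he : ∀ l, e l ∈ D l := fun l => by
          by_cases h : l = b
          · subst h; simpa [e] using hs
          · simpa [e, h] using hv l
        have he0 : ∀ l, e l ≠ 0 := fun l => by
          by_cases h : l = b
          · subst h
            simp only [e, if_true]
            exact fun h' => hvs (by rw [h', TransvectionMax.zero_right hb])
          · simpa [e, h] using hv0 l
        have h1 := hconj (hPsum e he (fun l _ => he0 l) (hedge b a hab) 1)
          (hPsum v hv (fun l _ => hv0 l) (ih ⟨b, hbr⟩))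
        rw [st_act hf, one_mul] at h1
        have hxy : f (∑ l ∈ r, v l) (∑ l ∈ ({b, a} : Finset (Fin t)), e l) = f (v b) s := by
          rw [hpair, Finset.sum_eq_single b]
          · rw [hπcomb v r hv, hπcomb e _ he, if_pos hbr, if_pos (by simp)]
            simp [e]
          · intro l _ hl
            rw [hπcomb v r hv, hπcomb e _ he]
            by_cases hlr : l ∈ r
            · have : l ≠ a := fun h => har (h ▸ hlr)
              simp [hlr, hl, this, TransvectionMax.zero_right hb]
            · simp [hlr, TransvectionMax.zero_left hb]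
          · simp
        rw [hxy] at h1
        have h2 : supp (∑ l ∈ r, v l + f (v b) s • ∑ l ∈ ({b, a} : Finset (Fin t)), e l) = insert a r := by
          ext l
          rw [hsupp, hπadd, hπsmul, hπcomb v r hv, hπcomb e _ he]
          by_cases hlb : l = b
          · subst hlb
            rw [if_pos hbr, if_pos (Finset.mem_insert_self _ _)]
            simp only [Finset.mem_insert, hbr, e, if_true, or_true, iff_true]
            intro h
            apply hvs
            have h' : f (v l + f (v l) s • s) s = f (v l) s := by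
              rw [hb.add_left, hb.smul_left, hf.alternating, mul_zero, add_zero]
            rw [← h', h, TransvectionMax.zero_left hb]
          · by_cases hla : l = a
            · subst hla
              simp [har, hlb, e, hv0, hvs]
            · by_cases hlr : l ∈ r <;> simp [hlr, hlb, hla, hv0]
        exact h2 ▸ hPof h1
      · rw [Finset.not_nonempty_iff_eq_empty] at hr
        subst hr
        obtain ⟨x, hx, hx0⟩ := hex0 a
        have : supp x = {a} := Finset.ext fun l => by
          rw [hsupp, Finset.mem_singleton]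
          by_cases h : l = a
          · subst h; simp [hπself hx, hx0]
          · simp [hπother h hx, h]
        simpa using this ▸ hPof (fun c => hHM (hstH hx c))
  refine spGL_le m fun u c => ?_
  rcases (supp u).eq_empty_or_nonempty with h | h
  · have hu : u = 0 := by
      rw [← hdecomp u]
      refine Finset.sum_eq_zero fun l _ => ?_
      by_contra hl
      rw [← ne_eq, ← hsupp, h] at hl
      simp at hl
    exact hHM (hstH (i := i0) (by rw [hu]; exact Submodule.zero_mem _) c)
  · exact hall _ h u rfl c

end Cfsg.Agent.S5647
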