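import Cfsg.Statements.S5648
import Cfsg.Agent.Lib.TransvectionSymp
import Cfsg.Agent.Lib.TensorTwoF2
-- import your own Cfsg.Agent.* helpers here

set_option autoImplicit false
open Cfsg

namespace Cfsg.Agent.S5648

open Cfsg.Agent.TransvectionMax Cfsg.Agent.TransvectionSymp
open scoped MatrixGroups Matrix

/-- Over the field with 2 elements and for m ≥ 7, let D be a decomposition of F^(2m) into t pairwise orthogonal non-degenerate 2-dimensional subspaces for the standard alternating form (t = m ≥ 2). Then the elements of Sp_2m(2) permuting the members of D form a subgroup that is not maximal: some subgroup lies strictly between it and Sp_2m(2). -/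
theorem result {F : Type*} [Field F] [Fintype F] (m : ℕ) (hm : 7 ≤ m) (hq : Fintype.card F = 2) {t : ℕ} (D : Fin t → Submodule F (Fin m ⊕ Fin m → F)) (hD : Cfsg.Geo.IsNondegenerateMDecomposition (Cfsg.sympForm m F) 2 D) : ∃ K : Subgroup (Matrix.GeneralLinearGroup (Fin m ⊕ Fin m) F), Cfsg.Geo.decompositionStabilizer D ⊓ Cfsg.spGL m F < K ∧ K < Cfsg.spGL m F := by
  classical
  obtain ⟨hdec, hnd, horth⟩ := hD
  have hf := sympForm_isSymplecticForm (F := F) m
  have hb := hf.bilinear
  set f := Cfsg.sympForm m F with hfdef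
  have h2F := Cfsg.Agent.TensorTwoF2.two_eq_zero hq
  have heq : ∀ {x : F}, x ≠ 0 → x = 1 := Cfsg.Agent.TensorTwoF2.eq_one hq
  let V := Fin m ⊕ Fin m → F
  -- hyperbolic pairs
  have hbase : ∀ i, ∃ a b, a ∈ D i ∧ b ∈ D i ∧ f a b = 1 ∧
      ∀ x, (∃ w ∈ D i, f x w ≠ 0) ↔ (f x a ≠ 0 ∨ f x b ≠ 0) := by
    intro i
    obtain ⟨a, ha, ha0⟩ := Submodule.exists_mem_ne_zero_of_ne_bot (p := D i)
      (fun h => by have := hdec.finrank_eq i; rw [h, finrank_bot] at this; omega)
    obtain ⟨-, b, hb', hab⟩ := hnd i a ha ha0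
    have h1 := heq hab
    have hli : LinearIndependent F ![a, b] := by
      rw [LinearIndependent.pair_iff]
      intro c d hcd
      have e1 := congrArg (fun v => f v b) hcd
      have e2 := congrArg (fun v => f a v) hcd
      simp only [hb.add_left, hb.add_right, hb.smul_left, hb.smul_right, hf.alternating, h1,
        zero_left hb, zero_right hb] at e1 e2
      exact ⟨by linear_combination e1, by linear_combination e2⟩
    have hsp : Submodule.span F (Set.range ![a, b]) = D i := by
      refine Submodule.eq_of_le_of_finrank_eq ?_ ?_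
      · rw [Submodule.span_le]
        rintro _ ⟨j, rfl⟩
        fin_cases j
        · exact ha
        · exact hb'
      · rw [finrank_span_eq_card hli, hdec.finrank_eq i, Fintype.card_fin]
    refine ⟨a, b, ha, hb', h1, fun x => ⟨?_, ?_⟩⟩
    · rintro ⟨w, hw, hxw⟩
      by_contra! hc
      rw [← hsp] at hw
      refine hxw ((Submodule.span_le (p := LinearMap.ker (fRight hb x))).2 ?_ hw)
      rintro _ ⟨j, rfl⟩
      fin_cases j
      · exact hc.1
      · exact hc.2
    · rintro (h | h)
      · exact ⟨a, ha, h⟩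
      · exact ⟨b, hb', h⟩
  choose A B hA hB hAB hsee using hbase
  let ind : Fin t → V → F := fun i x => if ∃ w ∈ D i, f x w ≠ 0 then 1 else 0
  let Q : V → F := fun x => ∑ i, ind i x
  let S : Set V := {x | Q x = 1}
  set K := Cfsg.stabilizing (Cfsg.glToMat (Fin m ⊕ Fin m) F) S ⊓ Cfsg.spGL m F with hK
  have hmemS : ∀ {g : GL (Fin m ⊕ Fin m) F},
      (∀ x, Q ((g : Matrix (Fin m ⊕ Fin m) (Fin m ⊕ Fin m) F) *ᵥ x) = Q x) →
      g ∈ Cfsg.stabilizing (Cfsg.glToMat (Fin m ⊕ Fin m) F) S := fun {g} hg x => by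
    show Q x = 1 ↔ Q ((g : Matrix (Fin m ⊕ Fin m) (Fin m ⊕ Fin m) F) *ᵥ x) = 1
    rw [hg]
  have hinv : ∀ g ∈ Cfsg.Geo.decompositionStabilizer D ⊓ Cfsg.spGL m F, ∀ x,
      Q ((g : Matrix (Fin m ⊕ Fin m) (Fin m ⊕ Fin m) F) *ᵥ x) = Q x := by
    rintro g ⟨⟨σ, hσ⟩, hsp⟩ x
    have hpres : ∀ u v, f ((g : Matrix (Fin m ⊕ Fin m) (Fin m ⊕ Fin m) F) *ᵥ u)
        ((g : Matrix (Fin m ⊕ Fin m) (Fin m ⊕ Fin m) F) *ᵥ v) = f u v := fun u v => hsp u v
    show ∑ i, ind i _ = ∑ i, ind i x
    rw [← Equiv.sum_comp σ]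
    refine Finset.sum_congr rfl fun i _ => if_congr ?_ rfl rfl
    constructor
    · rintro ⟨w, hw, h⟩
      rw [← hσ i] at hw
      obtain ⟨u, hu, rfl⟩ := hw
      rw [Matrix.toLin'_apply, hpres] at h
      exact ⟨u, hu, h⟩
    · rintro ⟨u, hu, h⟩
      refine ⟨(g : Matrix (Fin m ⊕ Fin m) (Fin m ⊕ Fin m) F) *ᵥ u, ?_, by rwa [hpres]⟩
      rw [← hσ i]
      exact ⟨u, hu, Matrix.toLin'_apply _ _⟩
  -- three indices
  have ht : 3 ≤ t := by
    by_contra! hlt
    have h2t : t = 2 := by have := hdec.two_le; omega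
    subst h2t
    have h1 : Module.finrank F (D 0 ⊔ D 1 : Submodule F V) ≤ 4 :=
      le_trans (Submodule.finrank_add_le_finrank_add_finrank _ _) (by rw [hdec.finrank_eq, hdec.finrank_eq])
    have h2 : (D 0 ⊔ D 1 : Submodule F V) = ⊤ := by
      rw [← hdec.iSup_eq_top]
      exact le_antisymm (sup_le (le_iSup D 0) (le_iSup D 1)) (iSup_le fun i => by
        fin_cases i
        · exact le_sup_left
        · exact le_sup_right)
    rw [h2, finrank_top, Module.finrank_fintype_fun_eq_card] at h1
    simp at h1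
    omega
  obtain ⟨i, j, k, hij, hik, hjk⟩ : ∃ i j k : Fin t, i ≠ j ∧ i ≠ k ∧ j ≠ k :=
    ⟨⟨0, by omega⟩, ⟨1, by omega⟩, ⟨2, by omega⟩, by simp, by simp, by simp⟩
  have horth' : ∀ {p r : Fin t}, p ≠ r → ∀ {u w}, u ∈ D p → w ∈ D r → f u w = 0 :=
    fun h _ _ hu hw => horth _ _ h _ hu _ hw
  have hind : ∀ p x, ind p x = if f x (A p) ≠ 0 ∨ f x (B p) ≠ 0 then 1 else 0 := fun p x =>
    if_congr (hsee p x) rfl rfl
  -- the effect of adding a vector to x on one index
  have hflip : ∀ p x v, f v (A p) = 0 → f v (B p) = 1 → ind p (x + v) = ind p x + (1 + f x (A p)) := by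
    intro p x v hvA hvB
    simp only [hind, hb.add_left, hvA, hvB, add_zero]
    by_cases h1 : f x (A p) = 0
    · by_cases h2 : f x (B p) = 0
      · simp [h1, h2]
      · rw [heq h2, h1]; simp [show (1 : F) + 1 = 0 by linear_combination h2F]
    · rw [heq h1]; simp [show (1 : F) + 1 = 0 by linear_combination h2F]
  have hsame : ∀ p x v, f v (A p) = 0 → f v (B p) = 0 → ind p (x + v) = ind p x := by
    intro p x v hvA hvB
    simp only [hind, hb.add_left, hvA, hvB, add_zero]
  have hAf : ∀ p r, f (A p) (A r) = 0 := fun p r => by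
    rcases eq_or_ne p r with rfl | h
    · exact hf.alternating _
    · exact horth' h (hA p) (hA r)
  have hne : ∀ {p r}, p ≠ r → f (A p) (B r) = 0 := fun h => horth' h (hA _) (hB _)
  -- strictness
  refine ⟨K, lt_of_le_not_ge (fun g hg => ⟨hmemS (hinv g hg), hg.2⟩) fun hle => ?_,
    lt_of_le_of_ne inf_le_right fun hKeq => ?_⟩
  · set v := A i + A j + A k with hv
    have hvA : ∀ p, f v (A p) = 0 := fun p => by simp [hv, hb.add_left, hAf]
    have hvB : ∀ p, f v (B p) = if p = i ∨ p = j ∨ p = k then 1 else 0 := fun p => by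
      rw [hv, hb.add_left, hb.add_left]
      rcases eq_or_ne p i with rfl | hpi
      · simp [hAB, hne (Ne.symm hij), hne (Ne.symm hik)]
      rcases eq_or_ne p j with rfl | hpj
      · simp [hAB, hne hij, hne (Ne.symm hjk)]
      rcases eq_or_ne p k with rfl | hpk
      · simp [hAB, hne hik, hne hjk]
      simp [hpi, hpj, hpk, hne (Ne.symm hpi), hne (Ne.symm hpj), hne (Ne.symm hpk)]
    have hQv : ∀ x, Q ((st f v 1 : Matrix (Fin m ⊕ Fin m) (Fin m ⊕ Fin m) F) *ᵥ x) = Q x := by
      intro x
      rw [st_act hf, one_mul]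
      rcases eq_or_ne (f x v) 0 with h0 | h0
      · rw [h0, zero_smul, add_zero]
      rw [heq h0, one_smul]
      have h1 : f x (A i) + f x (A j) + f x (A k) = 1 := by
        rw [← hb.add_right, ← hb.add_right, ← hv, heq h0]
      have h2 : ∀ p, ind p (x + v) = ind p x + (if p = i ∨ p = j ∨ p = k then 1 + f x (A p) else 0) := by
        intro p
        have := hvB p
        split_ifs with hp
        · rw [if_pos hp] at this
          exact hflip p x v (hvA p) this
        · rw [if_neg hp] at this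
          rw [add_zero]; exact hsame p x v (hvA p) this
      show ∑ p, ind p (x + v) = ∑ p, ind p x
      simp only [h2, Finset.sum_add_distrib, add_eq_left]
      rw [← Finset.sum_subset (Finset.subset_univ {i, j, k}) (fun p _ hp => if_neg (by simpa using hp))]
      rw [Finset.sum_insert (by simp [hij, hik]), Finset.sum_insert (by simp [hjk]), Finset.sum_singleton]
      simp only [true_or, or_true, if_true]
      linear_combination h1 + 2 * h2F
    obtain ⟨σ, hσ⟩ := (hle ⟨hmemS hQv, st_mem_spGL m v 1⟩).1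
    have himg : B i + v ∈ D (σ i) := by
      rw [← hσ i]
      refine ⟨B i, hB i, ?_⟩
      rw [Matrix.toLin'_apply, st_act hf, one_mul, hb.add_right, hb.add_right, hf.skew, hAB,
        horth' hij (hB i) (hA j), horth' hik (hB i) (hA k)]
      rw [show -(1 : F) + 0 + 0 = 1 by linear_combination -h2F, one_smul]
    obtain ⟨r, hri, hr⟩ : ∃ r, r ≠ σ i ∧ (r = j ∨ r = k) := by
      rcases eq_or_ne (σ i) j with h | h
      · exact ⟨k, h ▸ Ne.symm hjk, Or.inr rfl⟩
      · exact ⟨j, Ne.symm h, Or.inl rfl⟩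
    have hir : i ≠ r := by rcases hr with rfl | rfl <;> assumption
    have := horth' (Ne.symm hri) himg (hB r)
    rw [hb.add_left, horth' hir (hB i) (hB r), hvB, zero_add,
      if_pos (Or.inr hr)] at this
    exact one_ne_zero this
  · set v := A i + A j with hv
    have hg : st f v 1 ∈ K := hKeq ▸ st_mem_spGL m v 1
    have h1 : Q (B i) = 1 := by
      show ∑ p, ind p _ = 1
      rw [Finset.sum_eq_single i]
      · exact if_pos ⟨A i, hA i, by rw [hf.skew, hAB]; simp⟩
      · intro p _ hp
        exact if_neg fun ⟨w, hw, h⟩ => h (horth' (Ne.symm hp) (hB i) hw)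
      · simp
    have h2 := (hg.1 (B i)).1 h1
    change Q ((st f v 1 : Matrix (Fin m ⊕ Fin m) (Fin m ⊕ Fin m) F) *ᵥ B i) = 1 at h2
    rw [st_act hf, one_mul, hb.add_right, hf.skew, hAB, horth' hij (hB i) (hA j),
      show -(1 : F) + 0 = 1 by linear_combination -h2F, one_smul] at h2
    have h3 : ∀ p, ind p (B i + v) = if p = i ∨ p = j then 1 else 0 := fun p => by
      show (if _ then _ else _) = _
      refine if_congr ?_ rfl rfl
      rw [hsee, hv]
      simp only [hb.add_left, hAf, add_zero]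
      rcases eq_or_ne p i with rfl | hpi
      · simp [hAB, hf.skew (B p) (A p), hne (Ne.symm hij)]
      rcases eq_or_ne p j with rfl | hpj
      · simp [hAB, horth' hij (hB i) (hB p), hne hij, horth' hij (hB i) (hA p)]
      simp [hpi, hpj, horth' (Ne.symm hpi) (hB i) (hB p), horth' (Ne.symm hpi) (hB i) (hA p), hne (Ne.symm hpi),
        hne (Ne.symm hpj)]
    have h4 : Q (B i + v) = 0 := by
      show ∑ p, ind p _ = 0
      simp only [h3]
      rw [← Finset.sum_subset (Finset.subset_univ {i, j}) (fun p _ hp => if_neg (by simpa using hp))]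
      rw [Finset.sum_insert (by simp [hij]), Finset.sum_singleton]
      simp only [true_or, or_true, if_true]
      linear_combination h2F
    exact zero_ne_one (h4.symm.trans h2)

end Cfsg.Agent.S5648
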