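import Cfsg.Statements.S5649
import Cfsg.Agent.Lib.TransvectionSymp

set_option autoImplicit false
open Cfsg

namespace Cfsg.Agent.S5649

open Cfsg.Agent.TransvectionMax Cfsg.Agent.TransvectionSymp
open scoped MatrixGroups Matrix

section

variable {F : Type*} [Field F] {ι : Type} [Fintype ι] [DecidableEq ι]
  {f : (ι → F) → (ι → F) → F} (hf : Cfsg.Geo.IsSymplecticForm f)
include hf

/-- The element x ↦ x + f(x,a)b + f(x,b)a for orthogonal a, b. -/
lemma pair_act {a b : ι → F} (hab : f a b = 0) (x : ι → F) :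
    ((st f (a + b) 1 * st f a (-1) * st f b (-1) : GL ι F) : Matrix ι ι F) *ᵥ x
      = x + f x a • b + f x b • a := by
  have hba : f b a = 0 := TransvectionSymp.skew_zero hf hab
  simp only [mul_act, st_act hf, hf.bilinear.add_left, hf.bilinear.smul_left, hf.bilinear.add_right,
    hab, hba, hf.alternating]
  module

lemma pair_iso (a b : ι → F) (x y : ι → F) :
    f (((st f (a + b) 1 * st f a (-1) * st f b (-1) : GL ι F) : Matrix ι ι F) *ᵥ x)
      (((st f (a + b) 1 * st f a (-1) * st f b (-1) : GL ι F) : Matrix ι ι F) *ᵥ y) = f x y := by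
  simp only [mul_act, st_preserves hf]

variable {U W : Submodule F (ι → F)} (hUW : IsCompl U W)
  (hU : Cfsg.Geo.IsTotallySingularFor f U) (hW : Cfsg.Geo.IsTotallySingularFor f W)
include hUW hU hW

lemma f_U {a x : ι → F} (ha : a ∈ U) : f x a = f (W.projection U hUW.symm x) a := by
  conv_lhs => rw [← U.projection_add_projection_eq_self hUW x]
  rw [hf.bilinear.add_left, hU _ (U.projection_apply_mem hUW x) a ha, zero_add]

lemma f_U' {a x : ι → F} (ha : a ∈ U) : f a x = f a (W.projection U hUW.symm x) := by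
  rw [hf.skew a x, f_U hf hUW hU hW ha, ← hf.skew]

lemma f_W {b x : ι → F} (hb : b ∈ W) : f x b = f (U.projection W hUW x) b :=
  f_U (U := W) (W := U) hf hUW.symm hW hU hb

/-- Vectors of U separate W. -/
lemma dual_sep {z : ι → F} {Z : Submodule F (ι → F)} (hz : z ∈ W) (hZ : Z ≤ W) (hzZ : z ∉ Z) :
    ∃ c ∈ U, (∀ x ∈ Z, f x c = 0) ∧ f z c ≠ 0 := by
  obtain ⟨a, ha, hza⟩ := exists_perp_ne hf hzZ
  have key : ∀ x ∈ W, f x a = f x (U.projection W hUW a) := fun x hx =>
    f_U' (U := W) (W := U) hf hUW.symm hW hU hx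
  exact ⟨_, U.projection_apply_mem hUW a, fun x hx => by rw [← key x (hZ hx)]; exact ha x hx,
    by rwa [← key z hz]⟩

end

lemma fr2 {F : Type*} [Field F] {ι : Type} [Fintype ι] (a b : ι → F) :
    Module.finrank F (Submodule.span F {a, b}) ≤ 2 := by
  have h1 : ∀ c : ι → F, Module.finrank F (Submodule.span F {c}) ≤ 1 := fun c =>
    (finrank_span_le_card ({c} : Set (ι → F))).trans (by simp)
  rw [Submodule.span_insert]
  exact (Submodule.finrank_add_le_finrank_add_finrank _ _).trans (Nat.add_le_add (h1 a) (h1 b))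

lemma finrank_ker_inf {F : Type*} [Field F] {ι : Type} [Fintype ι] (X : Submodule F (ι → F))
    (L : (ι → F) →ₗ[F] F) :
    Module.finrank F X ≤ Module.finrank F (X ⊓ LinearMap.ker L : Submodule F (ι → F)) + 1 := by
  have h1 := Submodule.finrank_sup_add_finrank_inf_eq X (LinearMap.ker L)
  have h2 := Submodule.finrank_le (X ⊔ LinearMap.ker L)
  have h3 := LinearMap.finrank_range_add_finrank_ker L
  have h4 : Module.finrank F (LinearMap.range L) ≤ 1 :=
    (Submodule.finrank_le _).trans_eq (Module.finrank_self F)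
  omega

/-- A vector lying on the lines of the images of two independent vectors is zero. -/
lemma line_zero {F : Type*} [Field F] {ι : Type} [Fintype ι]
    {T : (ι → F) →ₗ[F] (ι → F)} (hT : Function.Injective T) {K : Submodule F (ι → F)}
    (hK : 3 ≤ Module.finrank F K) (L : (ι → F) →ₗ[F] F) {x : ι → F}
    (h : ∀ k ∈ K, L k = 0 → k ≠ 0 → x ∈ Submodule.span F {T k}) : x = 0 := by
  have h2 : 2 ≤ Module.finrank F (K ⊓ LinearMap.ker L : Submodule F (ι → F)) := by
    have := finrank_ker_inf K L
    omega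
  obtain ⟨k, hk, hk0⟩ := Submodule.exists_mem_ne_zero_of_ne_bot
    (p := K ⊓ LinearMap.ker L) fun e => by rw [e, finrank_bot] at h2; omega
  obtain ⟨l, hl, hlk⟩ : ∃ l ∈ K ⊓ LinearMap.ker L, l ∉ Submodule.span F {k} := by
    by_contra! e
    have h3 := Submodule.finrank_mono (show K ⊓ LinearMap.ker L ≤ Submodule.span F {k} from e)
    rw [finrank_span_singleton hk0] at h3
    omega
  obtain ⟨p, hp⟩ := Submodule.mem_span_singleton.mp (h k hk.1 hk.2 hk0)
  obtain ⟨r, hr⟩ := Submodule.mem_span_singleton.mp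
    (h l hl.1 hl.2 (fun e => hlk (e ▸ Submodule.zero_mem _)))
  rcases eq_or_ne r 0 with rfl | hr0
  · simpa using hr.symm
  · refine absurd (Submodule.mem_span_singleton.mpr ⟨r⁻¹ * p, hT ?_⟩) hlk
    rw [map_smul, mul_smul, hp, ← hr, smul_smul, inv_mul_cancel₀ hr0, one_smul]


/-- For a finite field F of odd order and m ≥ 7, let D be a decomposition of F^(2m) into two complementary subspaces of dimension m on each of which the standard alternating form vanishes identically. Then the elements of Sp_2m(F) preserving or interchanging the two subspaces form a maximal subgroup of Sp_2m(F). -/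
theorem result {F : Type*} [Field F] [Fintype F] (m : ℕ) (hm : 7 ≤ m) (hodd : Odd (Fintype.card F)) (D : Fin 2 → Submodule F (Fin m ⊕ Fin m → F)) (hD : Cfsg.Geo.IsMDecomposition m D) (hts : ∀ i, Cfsg.Geo.IsTotallySingularFor (Cfsg.sympForm m F) (D i)) : Cfsg.Geo.IsMaximalIn (Cfsg.spGL m F) (Cfsg.Geo.decompositionStabilizer D ⊓ Cfsg.spGL m F) := by
  have hf := sympForm_isSymplecticForm (F := F) m
  have hb := hf.bilinear
  set f := Cfsg.sympForm m F
  obtain ⟨-, hm0, hkd, hindep, htop⟩ := hD
  have h2 : (2 : F) ≠ 0 := Ring.two_ne_zero fun hc => by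
    have := FiniteField.even_card_of_char_two (F := F) hc
    rw [Nat.odd_iff] at hodd
    omega
  set U := D 0 with hUdef
  set W := D 1 with hWdef
  have hUts : Cfsg.Geo.IsTotallySingularFor f U := hts 0
  have hWts : Cfsg.Geo.IsTotallySingularFor f W := hts 1
  have hUW : IsCompl U W := by
    refine ⟨hindep.pairwiseDisjoint (show (0 : Fin 2) ≠ 1 by decide), codisjoint_iff.mpr (eq_top_iff.mpr ?_)⟩
    rw [← htop]
    refine iSup_le fun i => ?_
    fin_cases i
    · exact le_sup_left
    · exact le_sup_right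
  set pU := U.projection W hUW
  set pW := W.projection U hUW.symm
  have hpUmem : ∀ x, pU x ∈ U := fun x => U.projection_apply_mem hUW x
  have hpWmem : ∀ x, pW x ∈ W := fun x => W.projection_apply_mem hUW.symm x
  have hpadd : ∀ x, pU x + pW x = x := fun x => U.projection_add_projection_eq_self hUW x
  have fU : ∀ {a} x, a ∈ U → f x a = f (pW x) a := fun x ha => f_U hf hUW hUts hWts ha
  have fW : ∀ {b} x, b ∈ W → f x b = f (pU x) b := fun x hb => f_W hf hUW hUts hWts hb
  have sepU : ∀ {z Z}, z ∈ W → Z ≤ W → z ∉ Z → ∃ c ∈ U, (∀ x ∈ Z, f x c = 0) ∧ f z c ≠ 0 :=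
    fun hz hZ hzZ => dual_sep hf hUW hUts hWts hz hZ hzZ
  have sepW : ∀ {z Z}, z ∈ U → Z ≤ U → z ∉ Z → ∃ c ∈ W, (∀ x ∈ Z, f x c = 0) ∧ f z c ≠ 0 :=
    fun hz hZ hzZ => dual_sep hf hUW.symm hWts hUts hz hZ hzZ
  have spanLe : ∀ {X : Submodule F (Fin m ⊕ Fin m → F)} {p q}, p ∈ X → q ∈ X →
      Submodule.span F {p, q} ≤ X := fun hp hq => Submodule.span_le.mpr (by simp [Set.insert_subset_iff, hp, hq])
  have spanLe1 : ∀ {X : Submodule F (Fin m ⊕ Fin m → F)} {p}, p ∈ X → Submodule.span F {p} ≤ X :=
    fun hp => (Submodule.span_singleton_le_iff_mem _ _).mpr hp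
  set H := Cfsg.Geo.decompositionStabilizer D ⊓ Cfsg.spGL m F
  have hDne : ∀ i j, D i = D j → i = j := by
    intro i j he
    by_contra hne
    have hdis : Disjoint (D i) (D j) := hindep.pairwiseDisjoint hne
    rw [he, disjoint_self] at hdis
    have := hkd j
    rw [hdis, finrank_bot] at this
    omega
  have hmkH : ∀ {h : GL (Fin m ⊕ Fin m) F}, h ∈ Cfsg.spGL m F →
      (∀ i, ∃ j, ∀ v ∈ D i, (h : Matrix (Fin m ⊕ Fin m) (Fin m ⊕ Fin m) F) *ᵥ v ∈ D j) → h ∈ H := by
    intro h hh hmap
    choose σ hσ using hmap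
    let T : (Fin m ⊕ Fin m → F) →ₗ[F] (Fin m ⊕ Fin m → F) :=
      Matrix.toLin' (h : Matrix (Fin m ⊕ Fin m) (Fin m ⊕ Fin m) F)
    have hTi : Function.Injective T := fun a b hab =>
      act_injective h (by simpa [T, Matrix.toLin'_apply] using hab)
    have hTmap : ∀ i, (D i).map T = D (σ i) := fun i => by
      refine Submodule.eq_of_le_of_finrank_eq ?_ ?_
      · rintro _ ⟨x, hx, rfl⟩
        rw [Matrix.toLin'_apply]
        exact hσ i x hx
      · rw [← (Submodule.equivMapOfInjective T hTi (D i)).finrank_eq, hkd, hkd]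
    have hσi : Function.Injective σ := fun i j hij =>
      hDne i j (Submodule.map_injective_of_injective hTi (by rw [hTmap, hTmap, hij]))
    exact ⟨⟨Equiv.ofBijective σ (Finite.injective_iff_bijective.mp hσi), hTmap⟩, hh⟩
  let S2 : (Fin m ⊕ Fin m → F) → (Fin m ⊕ Fin m → F) → GL (Fin m ⊕ Fin m) F :=
    fun a b => st f (a + b) 1 * st f a (-1) * st f b (-1)
  have hS2 : ∀ {a b}, f a b = 0 → ∀ x, (S2 a b : Matrix (Fin m ⊕ Fin m) (Fin m ⊕ Fin m) F) *ᵥ x
      = x + f x a • b + f x b • a := fun hab x => pair_act hf hab x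
  have hS2comm : ∀ a b, f a b = 0 → S2 a b = S2 b a := fun a b hab => gl_ext fun x => by
    rw [hS2 hab, hS2 (TransvectionSymp.skew_zero hf hab)]
    abel
  have hS2H : ∀ {a b}, a ∈ U → b ∈ W → f a b = 0 → S2 a b ∈ H := fun {a b} ha hb' hab => by
    refine hmkH (fun x y => pair_iso hf a b x y) fun i => ⟨i, fun v hv => ?_⟩
    rw [hS2 hab]
    fin_cases i
    · change v + f v a • b + f v b • a ∈ U
      rw [hUts v hv a ha, zero_smul, add_zero]
      exact U.add_mem hv (U.smul_mem _ ha)
    · change v + f v a • b + f v b • a ∈ W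
      rw [hWts v hv b hb', zero_smul, add_zero]
      exact W.add_mem hv (W.smul_mem _ hb')
  -- an element exchanging U and W
  obtain ⟨J, hJH, hJU⟩ : ∃ J ∈ H, ∀ v ∈ U, (J : Matrix (Fin m ⊕ Fin m) (Fin m ⊕ Fin m) F) *ᵥ v ∈ W := by
    let e := Module.finBasisOfFinrankEq F U (show Module.finrank F U = m from hkd 0)
    let Φ : W →ₗ[F] (Fin m → F) := LinearMap.pi fun i => (fRight hb (e i : Fin m ⊕ Fin m → F)).comp W.subtype
    have hΦ : Function.Injective Φ := by
      rw [← LinearMap.ker_eq_bot, LinearMap.ker_eq_bot']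
      intro w hw
      by_contra hw0
      obtain ⟨c, hc, -, hwc⟩ := sepU w.2 (bot_le : ⊥ ≤ W) (by simpa using hw0)
      have h1 : ∀ u : U, u ∈ Submodule.span F (Set.range e) → f (u : Fin m ⊕ Fin m → F) w = 0 := by
        intro u hu
        induction hu using Submodule.span_induction with
        | mem u hu => obtain ⟨i, rfl⟩ := hu; exact congrFun hw i
        | zero => exact TransvectionMax.zero_left hb _
        | add p r _ _ hp hr => rw [Submodule.coe_add, hb.add_left, hp, hr, add_zero]
        | smul s p _ hp => rw [Submodule.coe_smul, hb.smul_left, hp, mul_zero]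
      exact hwc (TransvectionSymp.skew_zero hf (h1 ⟨c, hc⟩ (e.mem_span _)))
    have hΦs : Function.Surjective Φ := (LinearMap.injective_iff_surjective_of_finrank_eq_finrank
      (by rw [Module.finrank_fin_fun]; exact hkd 1)).mp hΦ
    choose w hw using fun j => hΦs (Pi.single j 1)
    let E : Fin m → Fin m ⊕ Fin m → F := fun i => (e i : Fin m ⊕ Fin m → F)
    let G : Fin m → Fin m ⊕ Fin m → F := fun i => (w i : Fin m ⊕ Fin m → F)
    have hEG : ∀ i j, f (E i) (G j) = if i = j then 1 else 0 := fun i j => by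
      have h1 : f (E i) (G j) = (Pi.single j (1 : F) : Fin m → F) i := congrFun (hw j) i
      rw [h1, Pi.single_apply]
    have hEE : ∀ i j, f (E i) (E j) = 0 := fun i j => hUts _ (e i).2 _ (e j).2
    have hGG : ∀ i j, f (G i) (G j) = 0 := fun i j => hWts _ (w i).2 _ (w j).2
    have hsum : ∀ x y, (∀ i, f (E i) x = f (E i) y) → (∀ i, f (G i) x = f (G i) y) → x = y := by
      intro x y hE hG
      by_contra hne
      obtain ⟨z, hz⟩ := (hf.nondegenerate _ (sub_ne_zero.mpr hne)).1
      apply hz
      have h1 : ∀ u : U, u ∈ Submodule.span F (Set.range e) → f (u : Fin m ⊕ Fin m → F) (x - y) = 0 := by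
        intro u hu
        induction hu using Submodule.span_induction with
        | mem u hu =>
          obtain ⟨i, rfl⟩ := hu
          rw [TransvectionMax.sub_right hb, hE i, sub_self]
        | zero => exact TransvectionMax.zero_left hb _
        | add p r _ _ hp hr => rw [Submodule.coe_add, hb.add_left, hp, hr, add_zero]
        | smul s p _ hp => rw [Submodule.coe_smul, hb.smul_left, hp, mul_zero]
      have hGspan : ∀ v ∈ W, v = ∑ j, f (E j) v • G j := by
        intro v hv
        have hval : ∀ i, f (E i) (∑ j, f (E j) v • G j) = f (E i) v := fun i => by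
          calc f (E i) (∑ j, f (E j) v • G j) = ∑ j, f (E i) (f (E j) v • G j) :=
                map_sum (fRight hb (E i)) _ _
            _ = f (E i) v := by simp [hb.smul_right, hEG]
        have hmem : ∑ j, f (E j) v • G j ∈ W := W.sum_mem fun j _ => W.smul_mem _ (w j).2
        exact congrArg Subtype.val (@hΦ ⟨v, hv⟩ ⟨_, hmem⟩ (funext fun i => (hval i).symm))
      rw [← hpadd z, hb.add_left, h1 ⟨pU z, hpUmem z⟩ (e.mem_span _), zero_add,
        hGspan (pW z) (hpWmem z)]
      rw [show f (∑ j, f (E j) (pW z) • G j) (x - y) = ∑ j, f (f (E j) (pW z) • G j) (x - y) from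
        map_sum (fLeft hb (x - y)) _ _]
      exact Finset.sum_eq_zero fun j _ => by
        rw [hb.smul_left, TransvectionMax.sub_right hb, hG j, sub_self, mul_zero]
    let L : (Fin m ⊕ Fin m → F) →ₗ[F] (Fin m ⊕ Fin m → F) :=
      ∑ i, ((fLeft hb (G i)).smulRight (G i) + (fLeft hb (E i)).smulRight (E i))
    have hL : ∀ x, L x = ∑ i, (f x (G i) • G i + f x (E i) • E i) := fun x => by
      simp [L, fLeft]
    have hLE : ∀ i x, f (E i) (L x) = f x (G i) := fun i x => by
      rw [hL, show f (E i) (∑ j, (f x (G j) • G j + f x (E j) • E j)) =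
        ∑ j, f (E i) (f x (G j) • G j + f x (E j) • E j) from map_sum (fRight hb _) _ _]
      simp [hb.add_right, hb.smul_right, hEG, hEE]
    have hLG : ∀ i x, f (G i) (L x) = - f x (E i) := fun i x => by
      rw [hL, show f (G i) (∑ j, (f x (G j) • G j + f x (E j) • E j)) =
        ∑ j, f (G i) (f x (G j) • G j + f x (E j) • E j) from map_sum (fRight hb _) _ _]
      simp [hb.add_right, hb.smul_right, hf.skew (G i) (E _), hEG, hGG]
    have hLL : ∀ x, L (L x) = -x := fun x => hsum _ _
      (fun i => by rw [hLE, hf.skew, hLG, neg_neg, TransvectionMax.neg_right hb, hf.skew (E i)]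
                   try ring)
      (fun i => by rw [hLG, hf.skew (L x), hLE, neg_neg, TransvectionMax.neg_right hb, hf.skew (G i)]
                   try ring)
    have hLinj : Function.Injective L := fun a c hac => by
      have := congrArg L hac
      rwa [hLL, hLL, neg_inj] at this
    have hunit : IsUnit (LinearMap.toMatrix' L) := by
      rw [← Matrix.mulVec_injective_iff_isUnit]
      intro a c hac
      exact hLinj (by simpa [LinearMap.toMatrix'_mulVec] using hac)
    have hJact : ∀ x, (hunit.unit : Matrix (Fin m ⊕ Fin m) (Fin m ⊕ Fin m) F) *ᵥ x = L x := fun x => by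
      rw [IsUnit.unit_spec, LinearMap.toMatrix'_mulVec]
    have hiso : ∀ x y, f (L x) (L y) = f x y := by
      intro x y
      have h1 : f (L x) (L y) = ∑ i, (f x (G i) * f (G i) (L y) + f x (E i) * f (E i) (L y)) := by
        rw [hL x, show f (∑ i, (f x (G i) • G i + f x (E i) • E i)) (L y) =
          ∑ i, f (f x (G i) • G i + f x (E i) • E i) (L y) from map_sum (fLeft hb _) _ _]
        simp [hb.add_left, hb.smul_left]
      have h3 : y = ∑ i, (f y (G i) • E i + (- f y (E i)) • G i) := hsum _ _
        (fun i => by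
          rw [show f (E i) (∑ j, (f y (G j) • E j + (- f y (E j)) • G j)) = ∑ j, f (E i)
            (f y (G j) • E j + (- f y (E j)) • G j) from map_sum (fRight hb _) _ _]
          simp [hb.add_right, hb.smul_right, TransvectionMax.neg_right hb, hEG, hEE, hf.skew (E i) y])
        (fun i => by
          rw [show f (G i) (∑ j, (f y (G j) • E j + (- f y (E j)) • G j)) = ∑ j, f (G i)
            (f y (G j) • E j + (- f y (E j)) • G j) from map_sum (fRight hb _) _ _]
          simp [hb.add_right, hb.smul_right, TransvectionMax.neg_right hb, hf.skew (G i) (E _), hEG, hGG,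
            hf.skew (G i) y])
      conv_rhs => rw [h3]
      rw [h1, show f x (∑ j, (f y (G j) • E j + (- f y (E j)) • G j)) = ∑ j, f x
        (f y (G j) • E j + (- f y (E j)) • G j) from map_sum (fRight hb _) _ _]
      refine Finset.sum_congr rfl fun i _ => ?_
      simp [hb.add_right, hb.smul_right, TransvectionMax.neg_right hb, hLE, hLG]
      ring
    have hmapU : ∀ v ∈ U, L v ∈ W := fun v hv => by
      rw [hL]
      refine W.sum_mem fun i _ => ?_
      rw [hUts v hv (E i) (e i).2, zero_smul, add_zero]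
      exact W.smul_mem _ (w i).2
    have hmapW : ∀ v ∈ W, L v ∈ U := fun v hv => by
      rw [hL]
      refine U.sum_mem fun i _ => ?_
      rw [hWts v hv (G i) (w i).2, zero_smul, zero_add]
      exact U.smul_mem _ (e i).2
    refine ⟨hunit.unit, hmkH (fun x y => ?_) (fun i => ?_), fun v hv => by rw [hJact]; exact hmapU v hv⟩
    · change f ((hunit.unit : Matrix (Fin m ⊕ Fin m) (Fin m ⊕ Fin m) F) *ᵥ x)
        ((hunit.unit : Matrix (Fin m ⊕ Fin m) (Fin m ⊕ Fin m) F) *ᵥ y) = f x y
      rw [hJact, hJact, hiso]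
    · fin_cases i
      · exact ⟨1, fun v hv => by rw [hJact]; exact hmapU v hv⟩
      · exact ⟨0, fun v hv => by rw [hJact]; exact hmapW v hv⟩
  obtain ⟨u0, hu0, hu00⟩ := Submodule.exists_mem_ne_zero_of_ne_bot (p := U) fun e => by
    have := hkd 0; rw [← hUdef, e, finrank_bot] at this; omega
  obtain ⟨w0, hw0, -, huw0⟩ := sepW hu0 (bot_le : ⊥ ≤ U) (by simpa using hu00)
  refine ⟨lt_of_le_of_ne inf_le_right ?_, fun M hHM hMSp => ?_⟩
  · intro he
    set w1 := (f u0 w0)⁻¹ • w0
    have hw1 : w1 ∈ W := W.smul_mem _ hw0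
    have huw1 : f u0 w1 = 1 := by rw [hb.smul_right, inv_mul_cancel₀ huw0]
    have hw10 : w1 ≠ 0 := fun h => by
      rw [h, TransvectionMax.zero_right hb] at huw1
      exact zero_ne_one huw1
    obtain ⟨σ, hσ⟩ := (he.symm ▸ st_mem_spGL m (u0 + w1) 1 : st f (u0 + w1) 1 ∈ H).1
    have h1 : (2 : F) • u0 + w1 ∈ D (σ 0) := by
      rw [← hσ 0]
      refine ⟨u0, hu0, ?_⟩
      rw [Matrix.toLin'_apply, st_act hf, one_mul, hb.add_right, hf.alternating, zero_add, huw1, one_smul,
        two_smul, add_assoc]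
    have hdis := Submodule.disjoint_def.mp hUW.disjoint
    have hc : σ 0 = 0 ∨ σ 0 = 1 := by omega
    rcases hc with hc | hc <;> rw [hc] at h1
    · exact hw10 (hdis _ ((U.add_mem_iff_right (U.smul_mem _ hu0)).mp h1) hw1)
    · exact smul_ne_zero h2 hu00 (hdis _ (U.smul_mem _ hu0) ((W.add_mem_iff_left hw1).mp h1))
  by_cases hMH : M ≤ Cfsg.Geo.decompositionStabilizer D
  · exact Or.inl (le_antisymm (le_inf hMH hMSp) hHM)
  refine Or.inr (le_antisymm hMSp ?_)
  obtain ⟨g, hgM, hgn⟩ := Set.not_subset.mp hMH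
  have hconj : ∀ {h : GL (Fin m ⊕ Fin m) F}, h ∈ M → ∀ {u}, (∀ c, st f u c ∈ M) →
      ∀ c, st f ((h : Matrix (Fin m ⊕ Fin m) (Fin m ⊕ Fin m) F) *ᵥ u) c ∈ M := by
    intro h hh u hu c
    rw [← st_conj hf (hMSp hh)]
    exact M.mul_mem (M.mul_mem hh (hu c)) (M.inv_mem hh)
  -- two pairs with a common member give a transvection
  have key : ∀ A B B', f A B = 0 → f A B' = 0 → S2 A B ∈ M → S2 A B' ∈ M →
      st f A (2 * f B' B) ∈ M := by
    intro A B B' hAB hAB' h1 h1'
    have hid : S2 A B * S2 A B' = st f A (2 * f B' B) * (S2 A B' * S2 A B) := gl_ext fun x => by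
      simp only [mul_act, hS2 hAB, hS2 hAB', st_act hf, hb.add_left, hb.smul_left, hf.alternating,
        hAB, hAB', TransvectionSymp.skew_zero hf hAB, TransvectionSymp.skew_zero hf hAB', hf.skew B B']
      module
    have := M.mul_mem (M.mul_mem h1 h1') (M.inv_mem (M.mul_mem h1' h1))
    rwa [hid, mul_inv_cancel_right] at this
  set T := Matrix.toLin' (g : Matrix (Fin m ⊕ Fin m) (Fin m ⊕ Fin m) F)
  have hTi : Function.Injective T := fun a b hab =>
    act_injective g (by simpa [T, Matrix.toLin'_apply] using hab)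
  have hTf : ∀ a b, f (T a) (T b) = f a b := fun a b => by
    simp only [T, Matrix.toLin'_apply]
    exact hMSp hgM a b
  have hgS2 : ∀ {a b}, f a b = 0 → a ∈ U ∧ b ∈ W ∨ a ∈ W ∧ b ∈ U → S2 (T a) (T b) ∈ M := by
    intro a b hab h
    have hin : S2 a b ∈ M := by
      rcases h with ⟨ha, hb'⟩ | ⟨ha, hb'⟩
      · exact hHM (hS2H ha hb' hab)
      · rw [hS2comm a b hab]
        exact hHM (hS2H hb' ha (TransvectionSymp.skew_zero hf hab))
    have h1 : g * S2 a b * g⁻¹ = S2 (T a) (T b) := by
      simp only [S2, T, Matrix.toLin'_apply, ← Matrix.mulVec_add, ← st_conj hf (hMSp hgM)]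
      group
    rw [← h1]
    exact M.mul_mem (M.mul_mem hgM hin) (M.inv_mem hgM)
  -- a full transvection group in M
  obtain ⟨A, hA0, hAM⟩ : ∃ A, A ≠ 0 ∧ ∀ c, st f A c ∈ M := by
    by_contra! hcon
    have hfull : ∀ {A B B'}, A ≠ 0 → f A B = 0 → f A B' = 0 → S2 A B ∈ M → f B' B ≠ 0 →
        (∀ s : F, S2 A (s • B') ∈ M) → False := by
      intro A B B' hA hAB hAB' hB hBB hB'
      obtain ⟨c, hc⟩ := hcon A hA
      apply hc
      have h := key A B ((c / (2 * f B' B)) • B') hAB (by rw [hb.smul_right, hAB', mul_zero]) hB (hB' _)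
      rwa [hb.smul_left, ← mul_assoc, mul_comm (2 : F), mul_assoc, div_mul_cancel₀ _ (mul_ne_zero h2 hBB)] at h
    -- the first member lies in U
    have memU : ∀ A B, f A B = 0 → A ∈ U → A ≠ 0 → S2 A B ∈ M → pU B ∈ Submodule.span F {A} := by
      intro A B hAB hA hA0 hM
      by_contra hnot
      obtain ⟨d, hd, hAd, hBd⟩ := sepW (hpUmem B) (spanLe1 hA) hnot
      rw [← fW B hd] at hBd
      have hAd' := hAd A (Submodule.mem_span_singleton_self A)
      refine hfull hA0 hAB hAd' hM (TransvectionSymp.skew_ne hf hBd) fun s => ?_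
      exact hHM (hS2H hA (W.smul_mem s hd) (by rw [hb.smul_right, hAd', mul_zero]))
    have memW : ∀ A B, f A B = 0 → A ∈ W → A ≠ 0 → S2 A B ∈ M → pW B ∈ Submodule.span F {A} := by
      intro A B hAB hA hA0 hM
      by_contra hnot
      obtain ⟨d, hd, hAd, hBd⟩ := sepU (hpWmem B) (spanLe1 hA) hnot
      rw [← fU B hd] at hBd
      have hAd' := hAd A (Submodule.mem_span_singleton_self A)
      refine hfull hA0 hAB hAd' hM (TransvectionSymp.skew_ne hf hBd) fun s => ?_
      have h0 : f A (s • d) = 0 := by rw [hb.smul_right, hAd', mul_zero]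
      rw [hS2comm A _ h0]
      exact hHM (hS2H (U.smul_mem s hd) hA (TransvectionSymp.skew_zero hf h0))
    have generic : ∀ A B, A ≠ 0 → f A B = 0 → S2 A B ∈ M →
        pW B ∈ Submodule.span F {pW A} ∨ pU B ∈ Submodule.span F {pU A} := by
      intro A B hA0 hAB hM
      by_contra! hnot
      obtain ⟨c0, hc0, hc0A, hc0B⟩ := sepU (hpWmem B) (spanLe1 (hpWmem A)) hnot.1
      obtain ⟨c, hc, hcA, hcB, hcs⟩ : ∃ c ∈ U, f A c = 0 ∧ f B c ≠ 0 ∧
          c ∉ Submodule.span F {pU A, pU B} := by
        have hA1 : f A c0 = 0 := by rw [fU A hc0]; exact hc0A _ (Submodule.mem_span_singleton_self _)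
        have hB1 : f B c0 ≠ 0 := by rwa [fU B hc0]
        by_cases h : c0 ∈ Submodule.span F {pU A, pU B}
        · obtain ⟨z, hz, hzs⟩ : ∃ z ∈ U ⊓ LinearMap.ker (fRight hb A) ⊓ LinearMap.ker (fRight hb B),
              z ∉ Submodule.span F {pU A, pU B} := by
            by_contra! hh
            have h1 := Submodule.finrank_mono (show _ ≤ Submodule.span F {pU A, pU B} from hh)
            have h2' := fr2 (pU A) (pU B)
            have h3 := finrank_ker_inf U (fRight hb A)
            have h4 := finrank_ker_inf (U ⊓ LinearMap.ker (fRight hb A)) (fRight hb B)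
            have h5 : Module.finrank F U = m := hkd 0
            omega
          refine ⟨c0 + z, U.add_mem hc0 hz.1.1, ?_, ?_, fun h' => hzs ?_⟩
          · rw [hb.add_right, hA1, show f A z = 0 from hz.1.2, add_zero]
          · rwa [hb.add_right, show f B z = 0 from hz.2, add_zero]
          · simpa using Submodule.sub_mem _ h' h
        · exact ⟨c0, hc0, hA1, hB1, h⟩
      obtain ⟨d, hd, hdA, hdB⟩ := sepW (hpUmem B) (spanLe (hpUmem A) hc) fun h => by
        obtain ⟨p, r, hpr⟩ := Submodule.mem_span_pair.mp h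
        rcases eq_or_ne r 0 with rfl | hr
        · exact hnot.2 (Submodule.mem_span_singleton.mpr ⟨p, by simpa using hpr⟩)
        · refine hcs (Submodule.mem_span_pair.mpr ⟨-(r⁻¹ * p), r⁻¹, ?_⟩)
          rw [← hpr, smul_add, smul_smul, smul_smul, inv_mul_cancel₀ hr, one_smul, ← add_assoc, ← add_smul,
            neg_add_cancel, zero_smul, zero_add]
      rw [← fW B hd] at hdB
      have hAd : f A d = 0 := by rw [fW A hd]; exact hdA _ (Submodule.subset_span (by simp))
      have hcd : f c d = 0 := hdA _ (Submodule.subset_span (by simp))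
      have hh : ∀ s : F, S2 (s • c) d ∈ H := fun s =>
        hS2H (U.smul_mem s hc) hd (by rw [hb.smul_left, hcd, mul_zero])
      have hsd : ∀ s : F, f (s • c) d = 0 := fun s => by rw [hb.smul_left, hcd, mul_zero]
      have hB'M : ∀ s : F, S2 A (B + (s * f B c) • d + f B d • (s • c)) ∈ M := by
        intro s
        have hA' : (S2 (s • c) d : Matrix (Fin m ⊕ Fin m) (Fin m ⊕ Fin m) F) *ᵥ A = A := by
          rw [hS2 (hsd s), hb.smul_right, hcA, mul_zero, hAd]
          simp
        have hB' : (S2 (s • c) d : Matrix (Fin m ⊕ Fin m) (Fin m ⊕ Fin m) F) *ᵥ B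
            = B + (s * f B c) • d + f B d • (s • c) := by
          rw [hS2 (hsd s), hb.smul_right]
        have h1 : S2 (s • c) d * S2 A B * (S2 (s • c) d)⁻¹ =
            S2 A (B + (s * f B c) • d + f B d • (s • c)) := by
          rw [← hB']
          nth_rw 2 [← hA']
          simp only [S2, ← Matrix.mulVec_add, ← st_conj hf (hMSp (hHM (hh s)))]
          group
        rw [← h1]
        exact M.mul_mem (M.mul_mem (hHM (hh s)) hM) (M.inv_mem (hHM (hh s)))
      obtain ⟨e, he⟩ := hcon A hA0
      apply he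
      set s := e / (2 * (2 * (f B c * f B d))) * (-1)
      have h := key A B (B + (s * f B c) • d + f B d • (s • c)) hAB
        (by simp [hb.add_right, hb.smul_right, hAB, hAd, hcA]) hM (hB'M s)
      have he' : 2 * f (B + (s * f B c) • d + f B d • (s • c)) B = e := by
        simp only [hb.add_left, hb.smul_left, hf.alternating, hf.skew d B, hf.skew c B, s]
        field_simp
        ring
      rwa [he'] at h
    -- analyse the image of U and W under g
    have hsplit : ∀ {X : Submodule F (Fin m ⊕ Fin m → F)} (φ : (Fin m ⊕ Fin m → F) →ₗ[F] (Fin m ⊕ Fin m → F)) t,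
        (∀ x ∈ X, φ x ∈ Submodule.span F {t}) →
          Module.finrank F X ≤ Module.finrank F (X ⊓ LinearMap.ker φ : Submodule F (Fin m ⊕ Fin m → F)) + 1 := by
      intro X φ t hX
      have h1 := LinearMap.finrank_range_add_finrank_ker (φ.comp X.subtype)
      have h3 : Module.finrank F (LinearMap.range (φ.comp X.subtype)) ≤ 1 := by
        refine (Submodule.finrank_mono (?_ : _ ≤ Submodule.span F {t})).trans
          ((finrank_span_le_card ({t} : Set (Fin m ⊕ Fin m → F))).trans (by simp))
        rintro _ ⟨x, rfl⟩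
        exact hX x x.2
      have h4 : LinearMap.ker (φ.comp X.subtype) = (X ⊓ LinearMap.ker φ).comap X.subtype := by
        ext x; simp
      rw [h4, (Submodule.comapSubtypeEquivOfLe inf_le_left).finrank_eq] at h1
      omega
    obtain ⟨a0, ha0, ha00⟩ : ∃ a ∈ U, a ≠ 0 := ⟨u0, hu0, hu00⟩
    set X := W ⊓ LinearMap.ker (fRight hb a0)
    have hX : m ≤ Module.finrank F X + 1 := by
      have : Module.finrank F W ≤ Module.finrank F X + 1 := finrank_ker_inf W (fRight hb a0)
      have h5 : Module.finrank F W = m := hkd 1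
      omega
    have hgen : ∀ b ∈ X, b ∈ (Submodule.span F {pW (T a0)}).comap (pW.comp T) ∨
        b ∈ (Submodule.span F {pU (T a0)}).comap (pU.comp T) := fun b hb0 =>
      generic (T a0) (T b) (fun e => ha00 (hTi (by rw [e, map_zero]))) ((hTf a0 b).trans hb0.2) (hgS2 hb0.2 (Or.inl ⟨ha0, hb0.1⟩))
    have zeroW : ∀ x, x ∈ W → x ∈ U → x = 0 := fun x h h' => Submodule.disjoint_def.mp hUW.disjoint x h' h
    have hin : ∀ x, pU x = 0 → x ∈ W := fun x h => by
      have := hpadd x; rw [h, zero_add] at this; exact this ▸ hpWmem x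
    have hin' : ∀ x, pW x = 0 → x ∈ U := fun x h => by
      have := hpadd x; rw [h, add_zero] at this; exact this ▸ hpUmem x
    apply hgn
    refine (hmkH (hMSp hgM) fun i => ?_).1
    rcases le_or_le_of_forall hgen with h | h
    · -- the image of W meets U in a large subspace
      have hK := hsplit (pW.comp T) _ h
      set K := X ⊓ LinearMap.ker (pW.comp T)
      have hK3 : 3 ≤ Module.finrank F K := by omega
      have hgU : ∀ a ∈ U, T a ∈ W := fun a ha => hin _ (line_zero hTi hK3 (fRight hb a)
        fun k hk hak hk0 => by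
          have hab : f k a = 0 := TransvectionSymp.skew_zero hf hak
          exact memU (T k) (T a) ((hTf k a).trans hab) (hin' _ hk.2)
            (fun e => hk0 (hTi (by rw [e, map_zero]))) (hgS2 hab (Or.inr ⟨hk.1.1, ha⟩)))
      have hgW : ∀ b ∈ W, T b ∈ U := fun b hb' => hin' _ (line_zero hTi
        (show 3 ≤ Module.finrank F U by rw [hkd 0]; omega) (fRight hb b) fun k hk hbk hk0 => by
          have hab : f k b = 0 := TransvectionSymp.skew_zero hf hbk
          exact memW (T k) (T b) ((hTf k b).trans hab) (hgU k hk)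
            (fun e => hk0 (hTi (by rw [e, map_zero]))) (hgS2 hab (Or.inl ⟨hk, hb'⟩)))
      fin_cases i
      · exact ⟨1, fun v hv => by simpa [T] using hgU v hv⟩
      · exact ⟨0, fun v hv => by simpa [T] using hgW v hv⟩
    · -- the image of W meets W in a large subspace
      have hK := hsplit (pU.comp T) _ h
      set K := X ⊓ LinearMap.ker (pU.comp T)
      have hK3 : 3 ≤ Module.finrank F K := by omega
      have hgU : ∀ a ∈ U, T a ∈ U := fun a ha => hin' _ (line_zero hTi hK3 (fRight hb a)
        fun k hk hak hk0 => by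
          have hab : f k a = 0 := TransvectionSymp.skew_zero hf hak
          exact memW (T k) (T a) ((hTf k a).trans hab) (hin _ hk.2)
            (fun e => hk0 (hTi (by rw [e, map_zero]))) (hgS2 hab (Or.inr ⟨hk.1.1, ha⟩)))
      have hgW : ∀ b ∈ W, T b ∈ W := fun b hb' => hin _ (line_zero hTi
        (show 3 ≤ Module.finrank F U by rw [hkd 0]; omega) (fRight hb b) fun k hk hbk hk0 => by
          have hab : f k b = 0 := TransvectionSymp.skew_zero hf hbk
          exact memU (T k) (T b) ((hTf k b).trans hab) (hgU k hk)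
            (fun e => hk0 (hTi (by rw [e, map_zero]))) (hgS2 hab (Or.inl ⟨hk, hb'⟩)))
      fin_cases i
      · exact ⟨0, fun v hv => by simpa [T] using hgU v hv⟩
      · exact ⟨1, fun v hv => by simpa [T] using hgW v hv⟩
  -- the set of full centres
  let S : (Fin m ⊕ Fin m → F) → Prop := fun v => ∀ c, st f v c ∈ M
  have hSsmul : ∀ {v} (s : F), S v → S (s • v) := fun s hv c => by rw [st_smul hf]; exact hv _
  have hScomb : ∀ {v w}, S v → S w → f v w ≠ 0 → S (v + w) := by
    intro v w hv hw hvw c
    have h := hconj (hw (f v w)⁻¹) hv c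
    rwa [st_act hf, inv_mul_cancel₀ hvw, one_smul] at h
  have hSH : ∀ {a b v}, a ∈ U → b ∈ W → f a b = 0 → S v → S (v + f v a • b + f v b • a) := by
    intro a b v ha hb' hab hv c
    have h := hconj (hHM (hS2H ha hb' hab)) hv c
    rwa [hS2 hab] at h
  have hSJ : ∀ {v}, S v → S ((J : Matrix (Fin m ⊕ Fin m) (Fin m ⊕ Fin m) F) *ᵥ v) := fun hv =>
    hconj (hHM hJH) hv
  -- U is reached
  have fromU : ∀ {a}, a ∈ U → a ≠ 0 → S a → ∀ v ∈ U, S v := by
    intro a ha ha0 haS v hv
    rcases eq_or_ne v 0 with rfl | hv0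
    · simpa using hSsmul 0 haS
    obtain ⟨d, hd, -, had⟩ := sepW ha (bot_le : ⊥ ≤ U) (by simpa using ha0)
    obtain ⟨d', hd', -, hvd'⟩ := sepW hv (bot_le : ⊥ ≤ U) (by simpa using hv0)
    obtain ⟨e, he, hae, hve⟩ : ∃ e ∈ W, f a e ≠ 0 ∧ f v e ≠ 0 := by
      by_cases h1 : f v d = 0
      · by_cases h3 : f a d' = 0
        · exact ⟨d + d', W.add_mem hd hd', by rwa [hb.add_right, h3, add_zero],
            by rwa [hb.add_right, h1, zero_add]⟩
        · exact ⟨d', hd', h3, hvd'⟩
      · exact ⟨d, hd, had, h1⟩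
    set l := f v e / f a e
    have h1 := hSH (U.sub_mem hv (U.smul_mem l ha)) (W.smul_mem (l⁻¹ * (f a e)⁻¹ * l) he)
      (by rw [hb.smul_right, TransvectionMax.sub_left hb, hb.smul_left,
        div_mul_cancel₀ _ hae, sub_self, mul_zero]) (hSsmul l haS)
    rw [hUts _ (U.smul_mem l ha) _ (U.sub_mem hv (U.smul_mem l ha)), zero_smul, add_zero,
      hb.smul_left, hb.smul_right] at h1
    have hl : l ≠ 0 := div_ne_zero hve hae
    have h2' : l * (l⁻¹ * (f a e)⁻¹ * l * f a e) = l := by field_simp
    rw [h2'] at h1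
    intro c
    have h3 : S (l • a + l • (v - l • a)) := h1
    rcases eq_or_ne l 1 with hl1 | hl1
    · rw [hl1, one_smul, one_smul] at h3
      have : a + (v - a) = v := add_sub_cancel a v
      rw [this] at h3
      exact h3 c
    · have h4 := hSH (U.sub_mem hv (U.smul_mem l ha)) (W.smul_mem ((f a e)⁻¹ * l⁻¹) he)
        (by rw [hb.smul_right, TransvectionMax.sub_left hb, hb.smul_left,
          div_mul_cancel₀ _ hae, sub_self, mul_zero]) (hSsmul l haS)
      rw [hUts _ (U.smul_mem l ha) _ (U.sub_mem hv (U.smul_mem l ha)), zero_smul, add_zero,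
        hb.smul_left, hb.smul_right] at h4
      rw [show l * ((f a e)⁻¹ * l⁻¹ * f a e) = 1 by field_simp, one_smul, add_sub_cancel] at h4
      exact h4 c
  obtain ⟨a, ha, ha0, haS⟩ : ∃ a ∈ U, a ≠ 0 ∧ S a := by
    by_cases hU0 : pU A = 0
    · -- then A lies in W
      have hAW : A ∈ W := by have := hpadd A; rw [hU0, zero_add] at this; exact this ▸ hpWmem A
      obtain ⟨σ, hσ⟩ := hJH.1
      have hJA := hSJ (v := A) hAM
      refine ⟨_, ?_, act_ne_zero J hA0, hJA⟩
      have h1 : (J : Matrix (Fin m ⊕ Fin m) (Fin m ⊕ Fin m) F) *ᵥ A ∈ D (σ 1) := by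
        rw [← hσ 1]; exact ⟨A, hAW, Matrix.toLin'_apply _ _⟩
      have h0 : σ 0 = 1 := by
        by_contra h
        have h' : σ 0 = 0 := by omega
        have h3 := hσ 0
        rw [h'] at h3
        refine act_ne_zero J hu00 (Submodule.disjoint_def.mp hUW.disjoint _ ?_ (hJU u0 hu0))
        rw [hUdef, ← h3]
        exact ⟨u0, hu0, Matrix.toLin'_apply _ _⟩
      have h1' : σ 1 = 0 := by
        by_contra h
        exact absurd (σ.injective (h0.trans (show σ 1 = 1 by omega).symm)) (by decide)
      rwa [h1'] at h1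
    by_cases hW0 : pW A = 0
    · have hAU : A ∈ U := by have := hpadd A; rw [hW0, add_zero] at this; exact this ▸ hpUmem A
      exact ⟨A, hAU, hA0, hAM⟩
    -- an orthogonal mixed centre
    obtain ⟨c, hc, hAc, hcs⟩ : ∃ c ∈ U, f A c ≠ 0 ∧ c ∉ Submodule.span F {pU A} := by
      obtain ⟨c0, hc0, -, h0⟩ := sepU (hpWmem A) (bot_le : ⊥ ≤ W) (by simpa using hW0)
      rw [← fU A hc0] at h0
      by_cases h : c0 ∈ Submodule.span F {pU A}
      · obtain ⟨z, hz, hzs⟩ : ∃ z ∈ U ⊓ LinearMap.ker (fRight hb A), z ∉ Submodule.span F {pU A} := by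
          by_contra! hh
          have h1 := Submodule.finrank_mono (show _ ≤ Submodule.span F {pU A} from hh)
          have h3 := finrank_ker_inf U (fRight hb A)
          have h5 : Module.finrank F U = m := hkd 0
          rw [finrank_span_singleton hU0] at h1
          omega
        refine ⟨c0 + z, U.add_mem hc0 hz.1, ?_, fun h' => hzs ?_⟩
        · rwa [hb.add_right, show f A z = 0 from hz.2, add_zero]
        · simpa using Submodule.sub_mem _ h' h
      · exact ⟨c0, hc0, h0, h⟩
    obtain ⟨d, hd, hcd, hAd⟩ := sepW (hpUmem A) (spanLe1 hc) fun h => by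
      obtain ⟨p, hp⟩ := Submodule.mem_span_singleton.mp h
      rcases eq_or_ne p 0 with rfl | hp0
      · exact hU0 (by simpa using hp.symm)
      · exact hcs (Submodule.mem_span_singleton.mpr ⟨p⁻¹, by rw [← hp, smul_smul, inv_mul_cancel₀ hp0, one_smul]⟩)
    rw [← fW A hd] at hAd
    have hcd' : f c d = 0 := hcd c (Submodule.mem_span_singleton_self c)
    set c' := f A d • c
    set d' := f A c • d
    have hS0 : S (c' + d') := by
      have h1 := hSH hc hd hcd' hAM
      have h3 := hScomb h1 (hSsmul (-1) (v := A) hAM) (by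
        simp only [hb.add_left, hb.smul_left, hb.smul_right, hf.alternating, hf.skew d A, hf.skew c A]
        intro h
        have h4 : (2 : F) * (f A c * f A d) = 0 := by linear_combination h
        exact mul_ne_zero h2 (mul_ne_zero hAc hAd) h4)
      convert h3 using 1
      simp only [c', d']
      module
    have hc'0 : c' ≠ 0 := smul_ne_zero hAd fun h => hAc (by rw [h, TransvectionMax.zero_right hb])
    have hd'0 : d' ≠ 0 := smul_ne_zero hAc fun h => hAd (by rw [h, TransvectionMax.zero_right hb])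
    have hc' : c' ∈ U := U.smul_mem _ hc
    have hd' : d' ∈ W := W.smul_mem _ hd
    have hc'd' : f c' d' = 0 := by simp [c', d', hb.smul_left, hb.smul_right, hcd']
    -- varying the members of an orthogonal mixed centre
    have stepU : ∀ {c d c2}, c ∈ U → d ∈ W → f c d = 0 → c2 ∈ U → f c2 d = 0 →
        c ∉ Submodule.span F {c2 - c} → S (c + d) → S (c2 + d) := by
      intro c d c2 hc hd hcd hc2 hc2d hind hS
      obtain ⟨e, he, hz, hce⟩ := sepW hc (spanLe1 (U.sub_mem hc2 hc)) hind
      set e' := (f c e)⁻¹ • e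
      have hee : f (c2 - c) e' = 0 := by
        rw [hb.smul_right, hz _ (Submodule.mem_span_singleton_self _), mul_zero]
      have h := hSH (U.sub_mem hc2 hc) (W.smul_mem _ he) hee hS
      rw [hb.add_left, hb.add_left, hUts c hc _ (U.sub_mem hc2 hc), hWts d hd _ (W.smul_mem _ he),
        TransvectionMax.sub_right hb d, TransvectionSymp.skew_zero hf hc2d,
        TransvectionSymp.skew_zero hf hcd] at h
      rw [hb.smul_right, inv_mul_cancel₀ hce] at h
      convert h using 1
      module
    -- a second member on the same d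
    obtain ⟨c2, hc2, hc2s⟩ : ∃ c2 ∈ U ⊓ LinearMap.ker (fLeft hb d'), c2 ∉ Submodule.span F {c'} := by
      by_contra! hh
      have h1 := Submodule.finrank_mono (show _ ≤ Submodule.span F {c'} from hh)
      have h3 := finrank_ker_inf U (fLeft hb d')
      have h5 : Module.finrank F U = m := hkd 0
      rw [finrank_span_singleton hc'0] at h1
      omega
    have hc2d : f c2 d' = 0 := hc2.2
    have indep : ∀ {p q : Fin m ⊕ Fin m → F}, q ∉ Submodule.span F {p} → p ≠ 0 →
        p ∉ Submodule.span F {q - p} := by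
      intro p q hq hp0 h
      obtain ⟨r, hr⟩ := Submodule.mem_span_singleton.mp h
      rcases eq_or_ne r 0 with rfl | hr0
      · exact hp0 (by simpa using hr.symm)
      · refine hq (Submodule.mem_span_singleton.mpr ⟨r⁻¹ + 1, ?_⟩)
        rw [add_smul, one_smul]
        conv_lhs => arg 1; rw [← hr, smul_smul, inv_mul_cancel₀ hr0, one_smul]
        exact sub_add_cancel q p
    have hS2' := stepU hc' hd' hc'd' hc2.1 hc2d (indep hc2s hc'0) hS0
    -- a centre with non-orthogonal members
    obtain ⟨z, hz, hdz⟩ : ∃ z ∈ W, f c2 z ≠ 0 ∧ f c' z = 0 := by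
      obtain ⟨e, he, h1, h3⟩ := sepW hc2.1 (spanLe1 hc') hc2s
      exact ⟨e, he, h3, h1 c' (Submodule.mem_span_singleton_self _)⟩
    obtain ⟨hcz, hc'z⟩ := hdz
    -- replace d' by d' + z, which stays orthogonal to c'
    have hz' : f c' (d' + z) = 0 := by rw [hb.add_right, hc'd', hc'z, add_zero]
    have hd2ne : d' + z ∉ Submodule.span F {d'} := by
      intro h
      obtain ⟨r, hr⟩ := Submodule.mem_span_singleton.mp h
      have := congrArg (f c2) hr
      rw [hb.smul_right, hb.add_right, hc2d, mul_zero, zero_add] at this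
      exact hcz this.symm
    obtain ⟨e, he, hz1, hde⟩ := sepU hd' (spanLe1 (W.sub_mem (W.add_mem hd' hz) hd')) (indep hd2ne hd'0)
    have hS3 : S (c' + (d' + z)) := by
      set e' := (f d' e)⁻¹ • e
      have hee : f e' (d' + z - d') = 0 := by
        rw [hb.smul_left]
        exact mul_eq_zero_of_right _ (TransvectionSymp.skew_zero hf (hz1 _ (Submodule.mem_span_singleton_self _)))
      have h := hSH (U.smul_mem _ he) (W.sub_mem (W.add_mem hd' hz) hd') hee hS0
      rw [hb.add_left, hb.add_left, hUts c' hc' _ (U.smul_mem _ he),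
        hWts d' hd' _ (W.sub_mem (W.add_mem hd' hz) hd'), TransvectionMax.sub_right hb c', hz', hc'd',
        hb.smul_right, inv_mul_cancel₀ hde] at h
      convert h using 1
      module
    have hne : f (c2 + d') (c' + (d' + z)) ≠ 0 := by
      simp only [hb.add_left, hb.add_right, hUts c2 hc2.1 c' hc', hc2d, hf.alternating,
        hWts d' hd' z hz, TransvectionSymp.skew_zero hf hc'd', zero_add, add_zero]
      exact hcz
    have hsum := hScomb hS2' hS3 hne
    -- cancel the W part with an orthogonal centre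
    have hw' : (2 : F) • d' + z ∈ W := W.add_mem (W.smul_mem _ hd') hz
    have hz2 : f c' ((2 : F) • d' + z) = 0 := by rw [hb.add_right, hb.smul_right, hc'd', hc'z]; simp
    have hd3ne : -((2 : F) • d' + z) ∉ Submodule.span F {d'} := by
      intro h
      obtain ⟨r, hr⟩ := Submodule.mem_span_singleton.mp h
      have := congrArg (f c2) hr
      rw [hb.smul_right r c2 d', TransvectionMax.neg_right hb, hb.add_right, hb.smul_right (2 : F) c2 d', hc2d, mul_zero,
        mul_zero, zero_add] at this
      exact hcz (neg_eq_zero.mp this.symm)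
    obtain ⟨e2, he2, hz3, hde2⟩ := sepU hd'
      (spanLe1 (W.sub_mem (W.neg_mem hw') hd')) (indep hd3ne hd'0)
    have hS4 : S (c' + -((2 : F) • d' + z)) := by
      set e' := (f d' e2)⁻¹ • e2
      have hee : f e' (-((2 : F) • d' + z) - d') = 0 := by
        rw [hb.smul_left]
        exact mul_eq_zero_of_right _ (TransvectionSymp.skew_zero hf (hz3 _ (Submodule.mem_span_singleton_self _)))
      have h := hSH (U.smul_mem _ he2) (W.sub_mem (W.neg_mem hw') hd') hee hS0
      rw [hb.add_left, hb.add_left, hUts c' hc' _ (U.smul_mem _ he2),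
        hWts d' hd' _ (W.sub_mem (W.neg_mem hw') hd'), TransvectionMax.sub_right hb c',
        TransvectionMax.neg_right hb, hz2, hc'd', hb.smul_right, inv_mul_cancel₀ hde2] at h
      convert h using 1
      module
    have hne2 : f ((c2 + d') + (c' + (d' + z))) (c' + -((2 : F) • d' + z)) ≠ 0 := by
      simp only [hb.add_left, hb.add_right, hb.smul_right, TransvectionMax.neg_right hb,
        hUts c2 hc2.1 c' hc', hc2d, hf.alternating, hc'd', hc'z, hWts d' hd' z hz, hWts z hz d' hd',
        TransvectionSymp.skew_zero hf hc'd', TransvectionSymp.skew_zero hf hc'z]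
      simpa using hcz
    have hfin := hScomb hsum hS4 hne2
    refine ⟨c2 + (2 : F) • c', U.add_mem hc2.1 (U.smul_mem _ hc'), fun h => hc2s ?_, ?_⟩
    · exact Submodule.mem_span_singleton.mpr ⟨-2, by rw [neg_smul]; exact (eq_neg_of_add_eq_zero_left h).symm⟩
    · convert hfin using 1
      module
  have hSU : ∀ v ∈ U, S v := fromU ha ha0 haS
  have hSW : ∀ v ∈ W, S v := by
    intro v hv
    have h1 : U.map (Matrix.toLin' (J : Matrix (Fin m ⊕ Fin m) (Fin m ⊕ Fin m) F)) = W := by
      refine Submodule.eq_of_le_of_finrank_eq ?_ ?_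
      · rintro _ ⟨x, hx, rfl⟩
        rw [Matrix.toLin'_apply]
        exact hJU x hx
      · rw [← (Submodule.equivMapOfInjective _ (fun a b hab => act_injective J (by simpa using hab)) U).finrank_eq]
        exact (hkd 0).trans (hkd 1).symm
    rw [← h1] at hv
    obtain ⟨x, hx, rfl⟩ := hv
    rw [Matrix.toLin'_apply]
    exact hSJ (hSU x hx)
  refine spGL_le m fun v => ?_
  by_cases hw : pW v = 0
  · have := hpadd v
    rw [hw, add_zero] at this
    exact hSU v (this ▸ hpUmem v)
  by_cases huw : f (pU v) (pW v) = 0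
  · obtain ⟨c, hc, -, hwc⟩ := sepU (hpWmem v) (bot_le : ⊥ ≤ W) (by simpa using hw)
    have h1 : S ((pU v - c) + pW v) := hScomb (hSU _ (U.sub_mem (hpUmem v) hc)) (hSW _ (hpWmem v)) (by
      rw [TransvectionMax.sub_left hb, huw, zero_sub, neg_ne_zero]
      exact TransvectionSymp.skew_ne hf hwc)
    have h3 := hScomb h1 (hSU c hc) (by
      rw [hb.add_left, hUts _ (U.sub_mem (hpUmem v) hc) c hc, zero_add]
      exact hwc)
    rwa [show pU v - c + pW v + c = pU v + pW v by abel, hpadd] at h3
  · have h := hScomb (hSU _ (hpUmem v)) (hSW _ (hpWmem v)) huw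
    rwa [hpadd] at h

end Cfsg.Agent.S5649
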