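import Cfsg.Statements.S5650
import Cfsg.Agent.Lib.TransvectionSymp
import Cfsg.Agent.Lib.SubfieldRational

set_option autoImplicit false
open Cfsg

namespace Cfsg.Agent.S5650

open Cfsg.Agent.TransvectionMax
open scoped MatrixGroups Matrix

section Identities

variable {F : Type*} [Field F] {ι : Type} [Fintype ι] [DecidableEq ι]

/-- The short root element x ↦ x + κ (g(x,a) b + g(x,b) a). -/
noncomputable def sg (g : (ι → F) → (ι → F) → F) (a b : ι → F) (κ : F) : GL ι F :=
  st g (a + b) κ * st g a (-κ) * st g b (-κ)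

variable {g : (ι → F) → (ι → F) → F} (hg : Cfsg.Geo.IsSymplecticForm g)
include hg

lemma sg_act {a b : ι → F} (hab : g a b = 0) (κ : F) (x : ι → F) :
    (sg g a b κ : Matrix ι ι F) *ᵥ x = x + (κ * g x a) • b + (κ * g x b) • a := by
  have hba : g b a = 0 := TransvectionSymp.skew_zero hg hab
  simp only [sg, mul_act, st_act hg, hg.bilinear.add_left, hg.bilinear.smul_left, hg.bilinear.add_right,
    hab, hba, hg.alternating]
  module

lemma sg_conj {h : GL ι F}
    (hh : ∀ x y, g ((h : Matrix ι ι F) *ᵥ x) ((h : Matrix ι ι F) *ᵥ y) = g x y) (a b : ι → F) (κ : F) :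
    h * sg g a b κ * h⁻¹ = sg g ((h : Matrix ι ι F) *ᵥ a) ((h : Matrix ι ι F) *ᵥ b) κ := by
  simp only [sg, ← Matrix.mulVec_add, ← st_conj hg hh]
  group

lemma sg_preserves (a b : ι → F) (κ : F) (x y : ι → F) :
    g ((sg g a b κ : Matrix ι ι F) *ᵥ x) ((sg g a b κ : Matrix ι ι F) *ᵥ y) = g x y := by
  simp only [sg, mul_act, st_preserves hg]

lemma sg_add {a b : ι → F} (hab : g a b = 0) (κ μ : F) :
    sg g a b κ * sg g a b μ = sg g a b (κ + μ) := gl_ext fun x => by
  simp only [mul_act, sg_act hg hab, hg.bilinear.add_left, hg.bilinear.smul_left, hg.alternating, hab,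
    TransvectionSymp.skew_zero hg hab]
  module

lemma sg_zero {a b : ι → F} (hab : g a b = 0) : sg g a b 0 = 1 := gl_ext fun x => by
  simp [sg_act hg hab]

lemma sg_smul {a b : ι → F} (hab : g a b = 0) (t κ : F) : sg g a (t • b) κ = sg g a b (t * κ) :=
  gl_ext fun x => by
    rw [sg_act hg (by rw [hg.bilinear.smul_right, hab, mul_zero]), sg_act hg hab, hg.bilinear.smul_right]
    module

lemma sg_comm {a b : ι → F} (hab : g a b = 0) (κ : F) : sg g a b κ = sg g b a κ :=
  gl_ext fun x => by
    rw [sg_act hg hab, sg_act hg (TransvectionSymp.skew_zero hg hab)]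
    abel

lemma sg_add_left {a a' b : ι → F} (hab : g a b = 0) (hab' : g a' b = 0) (haa : g a a' = 0) (κ : F) :
    sg g (a + a') b κ = sg g a b κ * sg g a' b κ := gl_ext fun x => by
  rw [mul_act, sg_act hg (by rw [hg.bilinear.add_left, hab, hab', add_zero]), sg_act hg hab,
    sg_act hg hab']
  simp only [hg.bilinear.add_left, hg.bilinear.add_right, hg.bilinear.smul_left, hg.alternating,
    TransvectionSymp.skew_zero hg hab, TransvectionSymp.skew_zero hg hab', hab, hab',
    TransvectionSymp.skew_zero hg haa]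
  module

lemma st_pair {a b : ι → F} (hab : g a b = 0) (t c : F) :
    st g (a + t • b) c = st g a c * st g b (c * t ^ 2) * sg g a b (c * t) := gl_ext fun x => by
  simp only [mul_act, sg_act hg hab, st_act hg, hg.bilinear.add_left, hg.bilinear.add_right,
    hg.bilinear.smul_left, hg.bilinear.smul_right, hg.alternating, hab, TransvectionSymp.skew_zero hg hab]
  module

/-- Two transvections with centres symmetric about p. -/
lemma st_mirror {u p : ι → F} (hup : g u p = 0) (c : F) :
    st g u c * st g (u - (2 : F) • p) (-c) = sg g p (u - p) (2 * c) := gl_ext fun x => by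
  have hp : g p (u - p) = 0 := by
    rw [TransvectionMax.sub_right hg.bilinear, TransvectionSymp.skew_zero hg hup, hg.alternating, sub_zero]
  simp only [mul_act, sg_act hg hp, st_act hg, hg.bilinear.add_left, TransvectionMax.sub_right hg.bilinear,
    TransvectionMax.sub_left hg.bilinear, hg.bilinear.smul_left, hg.bilinear.smul_right, hg.alternating,
    hup, TransvectionSymp.skew_zero hg hup]
  module

/-- The commutator of two short root elements with a common member. -/
lemma sg_commutator {p z z' : ι → F} (h1 : g p z = 0) (h2 : g p z' = 0) (κ : F) :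
    sg g p z κ * sg g p z' κ = st g p (2 * κ ^ 2 * g z' z) * (sg g p z' κ * sg g p z κ) :=
  gl_ext fun x => by
    simp only [mul_act, sg_act hg h1, sg_act hg h2, st_act hg, hg.bilinear.add_left,
      hg.bilinear.smul_left, hg.alternating, h1, h2, TransvectionSymp.skew_zero hg h1,
      TransvectionSymp.skew_zero hg h2, hg.skew z z']
    module

lemma st_two {u d : ι → F} (hud : g u d = 0) (h2 : (2 : F) = 0) (x : ι → F) :
    ((st g (u + d) 1 * st g u 1 : GL ι F) : Matrix ι ι F) *ᵥ x
      = x + g x u • d + g x d • u + g x d • d := by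
  simp only [mul_act, st_act hg, one_mul, hg.bilinear.add_left, hg.bilinear.add_right, hg.bilinear.smul_left,
    hg.alternating, hud]
  funext i
  simp only [Pi.add_apply, Pi.smul_apply, smul_eq_mul]
  linear_combination (g x u * u i) * h2

/-- In characteristic 2 the four-term product moves the centre. -/
lemma st_four {u d w : ι → F} (hud : g u d = 0) (hwd : g w d = 0) (h2 : (2 : F) = 0) :
    (st g (u + d) 1 * st g u 1) * (st g (u + g u w • w + d) 1 * st g (u + g u w • w) 1)
      = st g (w + g u w • d) 1 * st g w 1 := gl_ext fun x => by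
  have h1 : g (u + g u w • w) d = 0 := by
    rw [hg.bilinear.add_left, hg.bilinear.smul_left, hud, hwd, mul_zero, add_zero]
  have h3 : g w (g u w • d) = 0 := by rw [hg.bilinear.smul_right, hwd, mul_zero]
  rw [mul_act, st_two hg hud h2, st_two hg h1 h2, st_two hg h3 h2]
  simp only [hg.bilinear.add_left, hg.bilinear.add_right, hg.bilinear.smul_left, hg.bilinear.smul_right,
    hg.alternating, hud, hwd, TransvectionSymp.skew_zero hg hud, TransvectionSymp.skew_zero hg hwd,
    hg.skew w u]
  funext i
  simp only [Pi.add_apply, Pi.smul_apply, smul_eq_mul]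
  linear_combination (g x u * d i + g x d * u i + g x d * d i - g u w ^ 2 * g x d * d i) * h2

end Identities

/-- A vector orthogonal to W and outside W'. -/
lemma exists_perp_notMem {K : Type*} [Field K] {ι : Type} [Fintype ι] [DecidableEq ι]
    {f : (ι → K) → (ι → K) → K} (hf : Cfsg.Geo.IsBilinearForm f) (W W' : Submodule K (ι → K))
    (h : Module.finrank K W + Module.finrank K W' < Fintype.card ι) :
    ∃ x ∈ TransvectionSymp.perp hf W, x ∉ W' := by
  by_contra! hc
  let L : (ι → K) →ₗ[K] Module.Dual K W :=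
    { toFun := fun x => (fLeft hf x).comp W.subtype
      map_add' := fun a b => LinearMap.ext fun w => hf.add_right _ _ _
      map_smul' := fun c a => LinearMap.ext fun w => hf.smul_right _ _ _ }
  have h1 := LinearMap.finrank_range_add_finrank_ker L
  have h2 : LinearMap.ker L ≤ W' := fun x hx => hc x fun w hw => LinearMap.congr_fun hx ⟨w, hw⟩
  have h3 := Submodule.finrank_mono h2
  have h4 := Submodule.finrank_le (LinearMap.range L)
  rw [Subspace.dual_finrank_eq] at h4
  rw [Module.finrank_fintype_fun_eq_card] at h1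
  omega

lemma fr_range {K : Type*} [Field K] {ι : Type} [Fintype ι] {d : ℕ} (v : Fin d → ι → K) :
    Module.finrank K (Submodule.span K (Set.range v)) ≤ d :=
  (finrank_range_le_card v).trans_eq (Fintype.card_fin d)

lemma mem_perp_range {K : Type*} [Field K] {ι : Type} [Fintype ι] [DecidableEq ι]
    {f : (ι → K) → (ι → K) → K} (hf : Cfsg.Geo.IsBilinearForm f) {d : ℕ} {v : Fin d → ι → K} {x : ι → K}
    (hx : x ∈ TransvectionSymp.perp hf (Submodule.span K (Set.range v))) (i : Fin d) : f (v i) x = 0 :=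
  hx _ (Submodule.subset_span ⟨i, rfl⟩)

lemma notMem_span_of {K : Type*} [Field K] {ι : Type} [Fintype ι] [DecidableEq ι]
    {f : (ι → K) → (ι → K) → K} (hf : Cfsg.Geo.IsBilinearForm f) {a b c : ι → K}
    (ha : f a c ≠ 0) (hb : f b c = 0) : a ∉ Submodule.span K {b} := fun h => by
  obtain ⟨s, rfl⟩ := Submodule.mem_span_singleton.mp h
  exact ha (by rw [hf.smul_left, hb, mul_zero])

lemma notMem_span_symm {K : Type*} [Field K] {ι : Type} [Fintype ι] {a b : ι → K} (hb : b ≠ 0)
    (ha : a ∉ Submodule.span K {b}) : b ∉ Submodule.span K {a} := fun h => by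
  obtain ⟨s, hs⟩ := Submodule.mem_span_singleton.mp h
  rcases eq_or_ne s 0 with rfl | hs0
  · exact hb (by simpa using hs.symm)
  · exact ha (Submodule.mem_span_singleton.mpr ⟨s⁻¹, by rw [← hs, smul_smul, inv_mul_cancel₀ hs0, one_smul]⟩)

set_option maxHeartbeats 3200000

/-- For a finite field F, a subfield F₀ with |F| = |F₀| ^ r for a prime r, and m ≥ 7, let P be an invertible matrix and ζ a non-zero scalar such that ζ times the standard alternating form takes values in F₀ on the F₀-span of the columns of P. Then the elements of Sp_2m(F) lying in the subfield group of P (the conjugate by P of the product of GL_2m(F₀) with the scalars) form a maximal subgroup of Sp_2m(F). -/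
theorem result {F : Type*} [Field F] [Fintype F] (m : ℕ) (hm : 7 ≤ m) (F₀ : Subfield F) (r : ℕ) (hr : r.Prime) (hcard : Fintype.card F = Nat.card F₀ ^ r) (P : Matrix.GeneralLinearGroup (Fin m ⊕ Fin m) F) (ζ : F) (hζ : ζ ≠ 0) (hP : Cfsg.Geo.IsFormRationalStructure (Cfsg.sympForm m F) F₀ ζ P) : Cfsg.Geo.IsMaximalIn (Cfsg.spGL m F) (Cfsg.Geo.subfieldSubgroup F₀ P ⊓ Cfsg.spGL m F) := by
  classical
  have hfF := sympForm_isSymplecticForm (F := F) m
  set f := Cfsg.sympForm m F
  set g : (Fin m ⊕ Fin m → F) → (Fin m ⊕ Fin m → F) → F := fun x y => ζ * f x y with hgdef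
  have hg : Cfsg.Geo.IsSymplecticForm g := by
    refine ⟨⟨?_, ?_, ?_, ?_⟩, ?_, ?_, ?_⟩
    · intro x y v; simp only [hgdef, hfF.bilinear.add_left]; ring
    · intro c x v; simp only [hgdef, hfF.bilinear.smul_left]; ring
    · intro v x y; simp only [hgdef, hfF.bilinear.add_right]; ring
    · intro c v x; simp only [hgdef, hfF.bilinear.smul_right]; ring
    · intro v w; simp only [hgdef, hfF.skew v w]; ring
    · intro v; simp only [hgdef, hfF.alternating, mul_zero]
    · intro v hv
      obtain ⟨⟨w, hw⟩, ⟨w', hw'⟩⟩ := hfF.nondegenerate v hv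
      exact ⟨⟨w, mul_ne_zero hζ hw⟩, ⟨w', mul_ne_zero hζ hw'⟩⟩
  have hgb := hg.bilinear
  set f0 := SubfieldRational.form hP
  have hf0 : Cfsg.Geo.IsSymplecticForm f0 := SubfieldRational.form_symplectic hP hζ hfF
  have hb0 := hf0.bilinear
  set R : (Fin m ⊕ Fin m → F₀) → (Fin m ⊕ Fin m → F) := SubfieldRational.rat P with hRdef
  have hgR : ∀ a b, g (R a) (R b) = (f0 a b : F) := fun a b => rfl
  have hgR0 : ∀ {a b}, f0 a b = 0 → g (R a) (R b) = 0 := fun h => by rw [hgR, h, ZeroMemClass.coe_zero]
  have hcard2 : Fintype.card (Fin m ⊕ Fin m) = m + m := by simp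
  haveI : Nonempty (Fin m ⊕ Fin m) := ⟨Sum.inl ⟨0, by omega⟩⟩
  -- values on rational vectors
  have hvals : ∀ (u : Fin m ⊕ Fin m → F) (c : F), c ≠ 0 → (∀ x, g u (R x) / c ∈ F₀) →
      ∃ w, u = c • R w := by
    intro u c hc hx
    let lu : (Fin m ⊕ Fin m → F₀) →ₗ[F₀] F₀ :=
      { toFun := fun x => -(⟨g u (R x) / c, hx x⟩ : F₀)
        map_add' := fun x y => Subtype.ext (by
          push_cast
          simp only [hRdef, SubfieldRational.rat_add, hgb.add_right]
          ring)
        map_smul' := fun t x => Subtype.ext (by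
          push_cast
          simp only [hRdef, SubfieldRational.rat_smul, hgb.smul_right, RingHom.id_apply, smul_eq_mul]
          push_cast
          simp only [id_eq]
          ring) }
    obtain ⟨w, hw⟩ := exists_row hb0 hf0.nondegenerate (fun i => lu (Pi.single i 1))
    have hw' : ∀ x, f0 x w = lu x := fun x => by
      rw [← hw, LinearMap.pi_apply_eq_sum_univ lu x, dotProduct]
      refine Finset.sum_congr rfl fun i _ => ?_
      rw [smul_eq_mul, mul_comm]
      congr 2
      funext k
      simp [Pi.single_apply, eq_comm]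
    refine ⟨w, ?_⟩
    by_contra hne
    obtain ⟨z, hz⟩ := (hg.nondegenerate _ (sub_ne_zero.mpr hne)).1
    apply hz
    refine SubfieldRational.eq_zero_of_rat (F₀ := F₀) P (fLeft hgb (u - c • R w)) (fun x => ?_) z
    change g (R x) (u - c • R w) = 0
    have h2 : (f0 x w : F) = -(g u (R x) / c) := by rw [hw']; rfl
    rw [TransvectionMax.sub_right hgb, hgb.smul_right, hgR, h2, hg.skew (R x) u]
    field_simp
    ring
  -- the group
  set H := Cfsg.Geo.subfieldSubgroup F₀ P ⊓ Cfsg.spGL m F
  have hsub := SubfieldRational.mem_subfieldSubgroup_iff (F₀ := F₀) P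
  have hgK : ∀ {h : GL (Fin m ⊕ Fin m) F}, h ∈ Cfsg.spGL m F →
      ∀ x y, g ((h : Matrix (Fin m ⊕ Fin m) (Fin m ⊕ Fin m) F) *ᵥ x) ((h : Matrix (Fin m ⊕ Fin m) (Fin m ⊕ Fin m) F) *ᵥ y) = g x y := fun hh x y =>
    congrArg (ζ * ·) (hh x y)
  have hKg : ∀ {h : GL (Fin m ⊕ Fin m) F},
      (∀ x y, g ((h : Matrix (Fin m ⊕ Fin m) (Fin m ⊕ Fin m) F) *ᵥ x) ((h : Matrix (Fin m ⊕ Fin m) (Fin m ⊕ Fin m) F) *ᵥ y) = g x y) → h ∈ Cfsg.spGL m F :=
    fun hh x y => mul_left_cancel₀ hζ (hh x y)
  have hstK : ∀ u c, st g u c ∈ Cfsg.spGL m F := fun u c => hKg (st_preserves hg u c)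
  have hlift : ∀ a (c : F₀), SubfieldRational.lift P (st f0 a c) = st g (R a) (c : F) := fun a c =>
    SubfieldRational.ext_rat (F₀ := F₀) P fun u => by
      rw [SubfieldRational.lift_act, st_act hf0, st_act hg, hgR, SubfieldRational.rat_add,
        SubfieldRational.rat_smul, Subfield.coe_mul]
  have hstH : ∀ a (c : F₀), st g (R a) (c : F) ∈ H := fun a c =>
    ⟨hlift a c ▸ SubfieldRational.lift_mem P _, hstK _ _⟩
  obtain ⟨θ, hθ⟩ : ∃ θ : F, θ ∉ F₀ := by
    by_contra! h
    have h1 : Nat.card F₀ = Fintype.card F := by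
      rw [← Nat.card_eq_fintype_card]
      exact Nat.card_congr (Equiv.subtypeUnivEquiv h)
    have h2 := Nat.pow_right_injective (Finite.one_lt_card (α := F₀))
      (show Nat.card F₀ ^ 1 = Nat.card F₀ ^ r by rw [pow_one, ← hcard, h1])
    exact hr.one_lt.ne h2
  obtain ⟨a0, ha0⟩ : ∃ a : Fin m ⊕ Fin m → F₀, a ≠ 0 :=
    ⟨Pi.single (Sum.inl ⟨0, by omega⟩) 1, by simp⟩
  refine ⟨lt_of_le_of_ne inf_le_right ?_, fun M hHM hMSp => ?_⟩
  · intro he
    obtain ⟨b, hb⟩ := (hf0.nondegenerate a0 ha0).1
    have hmem : st g (R a0) θ ∈ H := he.symm ▸ hstK (R a0) θ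
    obtain ⟨k, w, hkw⟩ := (hsub _).mp hmem.1 b
    rw [st_act hg, hgR] at hkw
    have hba : b ∉ Submodule.span F₀ {a0} := notMem_span_of hb0 hb (hf0.alternating a0)
    have hk : k ≠ 0 := fun h0 => by
      rw [h0, zero_smul] at hkw
      exact one_ne_zero (SubfieldRational.rat_indep P (s := (1 : F)) (t := θ * (f0 b a0 : F)) ha0 hba
        (by rw [one_smul]; exact hkw)).1
    obtain ⟨h1, h2⟩ := SubfieldRational.rat_coeff_mem P (a := k⁻¹) (b := k⁻¹ * (θ * (f0 b a0 : F))) ha0 hba
      (z := w) (by
        have h3 := congrArg (fun v => k⁻¹ • v) hkw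
        simpa [smul_add, smul_smul, inv_mul_cancel₀ hk] using h3)
    have h3 : θ * (f0 b a0 : F) ∈ F₀ := by
      have := F₀.div_mem h2 h1
      rwa [mul_div_cancel_left₀ _ (inv_ne_zero hk)] at this
    apply hθ
    have h4 := F₀.div_mem h3 (f0 b a0).2
    rwa [mul_div_assoc, div_self (fun h => hb (Subtype.ext h)), mul_one] at h4
  by_cases hMH : M ≤ Cfsg.Geo.subfieldSubgroup F₀ P
  · exact Or.inl (le_antisymm (le_inf hMH hMSp) hHM)
  refine Or.inr (le_antisymm hMSp ?_)
  obtain ⟨g', hgM, hgn⟩ := Set.not_subset.mp hMH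
  rw [SetLike.mem_coe, hsub] at hgn
  push Not at hgn
  obtain ⟨u0, hu0⟩ := hgn
  set u := (g' : Matrix (Fin m ⊕ Fin m) (Fin m ⊕ Fin m) F) *ᵥ R u0 with hudef
  have hiso : ∀ {h : GL (Fin m ⊕ Fin m) F}, h ∈ M →
      ∀ x y, g ((h : Matrix (Fin m ⊕ Fin m) (Fin m ⊕ Fin m) F) *ᵥ x) ((h : Matrix (Fin m ⊕ Fin m) (Fin m ⊕ Fin m) F) *ᵥ y) = g x y := fun hh => hgK (hMSp hh)
  have hconj : ∀ {h : GL (Fin m ⊕ Fin m) F}, h ∈ M → ∀ {v c}, st g v c ∈ M →
      st g ((h : Matrix (Fin m ⊕ Fin m) (Fin m ⊕ Fin m) F) *ᵥ v) c ∈ M := fun {h} hh {v c} hv => by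
    rw [← st_conj hg (hiso hh)]
    exact M.mul_mem (M.mul_mem hh hv) (M.inv_mem hh)
  have hsconj : ∀ {h : GL (Fin m ⊕ Fin m) F}, h ∈ M → ∀ {a b κ}, sg g a b κ ∈ M →
      sg g ((h : Matrix (Fin m ⊕ Fin m) (Fin m ⊕ Fin m) F) *ᵥ a) ((h : Matrix (Fin m ⊕ Fin m) (Fin m ⊕ Fin m) F) *ᵥ b) κ ∈ M := fun {h} hh {a b κ} hv => by
    rw [← sg_conj hg (hiso hh)]
    exact M.mul_mem (M.mul_mem hh hv) (M.inv_mem hh)
  have hTrat : ∀ a (c : F₀), st g (R a) (c : F) ∈ M := fun a c => hHM (hstH a c)
  have hT1 : ∀ a, st g (R a) 1 ∈ M := fun a => hTrat a 1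
  have hTneg : ∀ a, st g (R a) (-1) ∈ M := fun a => by
    simpa using hTrat a (-1)
  have hsg1 : ∀ a b, sg g (R a) (R b) 1 ∈ M := fun a b =>
    M.mul_mem (M.mul_mem (by rw [← SubfieldRational.rat_add]; exact hT1 _) (hTneg a)) (hTneg b)
  -- rational isometries in M
  have hliftM : ∀ {h : GL (Fin m ⊕ Fin m) F₀},
      h ∈ Subgroup.closure {k | ∃ u ∈ (⊤ : Submodule F₀ _), ∃ c, k = st f0 u c} →
      SubfieldRational.lift P h ∈ M := by
    intro h hh
    induction hh using Subgroup.closure_induction with
    | mem k hk => obtain ⟨v, -, c, rfl⟩ := hk; rw [hlift]; exact hTrat v c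
    | one => rw [map_one]; exact M.one_mem
    | mul a b _ _ ha hb => rw [map_mul]; exact M.mul_mem ha hb
    | inv a _ ha => rw [map_inv]; exact M.inv_mem ha
  have hnd : Cfsg.Geo.IsNondegenerateOn f0 (⊤ : Submodule F₀ (Fin m ⊕ Fin m → F₀)) := fun v _ hv =>
    ⟨(hf0.nondegenerate v hv).1.elim fun w hw => ⟨w, Submodule.mem_top, hw⟩,
      (hf0.nondegenerate v hv).2.elim fun w hw => ⟨w, Submodule.mem_top, hw⟩⟩
  have move1 : ∀ {a a'}, a ≠ 0 → a' ≠ 0 → ∃ h ∈ M, (h : Matrix (Fin m ⊕ Fin m) (Fin m ⊕ Fin m) F) *ᵥ R a = R a' := by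
    intro a a' ha ha'
    obtain ⟨h, hh, hha⟩ := TransvectionSymp.move_vec hf0 hnd Submodule.mem_top Submodule.mem_top ha ha'
    exact ⟨_, hliftM hh, by rw [SubfieldRational.lift_act, hha]⟩
  have move2 : ∀ {a b a' b'}, b ≠ 0 → b' ≠ 0 → a ∉ Submodule.span F₀ {b} →
      a' ∉ Submodule.span F₀ {b'} → f0 a b = 0 → f0 a' b' = 0 →
      ∃ h ∈ M, (h : Matrix (Fin m ⊕ Fin m) (Fin m ⊕ Fin m) F) *ᵥ R a = R a' ∧ (h : Matrix (Fin m ⊕ Fin m) (Fin m ⊕ Fin m) F) *ᵥ R b = R b' := by
    intro a b a' b' hb hb' hab ha'b' h0 h0'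
    have ha : a ≠ 0 := fun h => hab (h ▸ Submodule.zero_mem _)
    have ha' : a' ≠ 0 := fun h => ha'b' (h ▸ Submodule.zero_mem _)
    obtain ⟨h1, hh1, h1a⟩ := TransvectionSymp.move_vec hf0 hnd Submodule.mem_top Submodule.mem_top ha ha'
    set b1 := (h1 : Matrix (Fin m ⊕ Fin m) (Fin m ⊕ Fin m) F₀) *ᵥ b with hb1def
    have hb1 : f0 a' b1 = 0 := by
      rw [hb1def, ← h1a, (TransvectionSymp.closure_props hf0 hh1).1, h0]
    have hb1n : b1 ∉ Submodule.span F₀ {a'} := fun h => by
      obtain ⟨s, hs⟩ := Submodule.mem_span_singleton.mp h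
      rw [hb1def, ← h1a, ← Matrix.mulVec_smul] at hs
      exact notMem_span_symm hb hab (Submodule.mem_span_singleton.mpr ⟨s, act_injective h1 hs⟩)
    obtain ⟨p, hp, hp'⟩ := TransvectionSymp.exists_perp_ne hf0 hb1n
    obtain ⟨q, hq, hq'⟩ := TransvectionSymp.exists_perp_ne hf0 (notMem_span_symm hb' ha'b')
    obtain ⟨z, hz, hzb1, hzb'⟩ := TransvectionSymp.exists_common_on hf0
      ⟨p, hp, TransvectionSymp.skew_ne hf0 hp'⟩ ⟨q, hq, TransvectionSymp.skew_ne hf0 hq'⟩
    have hza : f0 a' z = 0 := hz a' (Submodule.mem_span_singleton_self a')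
    have hfix : ∀ {x y : Fin m ⊕ Fin m → F₀}, f0 a' x = 0 → f0 a' y = 0 → ∀ c,
        (st f0 (y - x) c : Matrix (Fin m ⊕ Fin m) (Fin m ⊕ Fin m) F₀) *ᵥ a' = a' := fun hx hy c =>
      st_fix hf0 _ _ (by rw [TransvectionMax.sub_right hb0, hx, hy, sub_self])
    refine ⟨SubfieldRational.lift P (st f0 (b' - z) (f0 z b')⁻¹ * st f0 (z - b1) (f0 b1 z)⁻¹ * h1),
      hliftM (Subgroup.mul_mem _ (Subgroup.mul_mem _ (Subgroup.subset_closure ⟨_, Submodule.mem_top, _, rfl⟩)
        (Subgroup.subset_closure ⟨_, Submodule.mem_top, _, rfl⟩)) hh1), ?_, ?_⟩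
    · rw [SubfieldRational.lift_act, mul_act, mul_act, h1a, hfix hb1 hza, hfix hza h0']
    · rw [SubfieldRational.lift_act, mul_act, mul_act, ← hb1def,
        st_move hf0 (TransvectionSymp.skew_ne hf0 hzb1), st_move hf0 hzb']
  -- scalar sets
  let C : F → Prop := fun c => ∀ a, st g (R a) c ∈ M
  let D : F → Prop := fun κ => ∀ a b, f0 a b = 0 → b ≠ 0 → a ∉ Submodule.span F₀ {b} →
    sg g (R a) (R b) κ ∈ M
  have hCall : ∀ {a c}, a ≠ 0 → st g (R a) c ∈ M → C c := by
    intro a c ha h b
    rcases eq_or_ne b 0 with rfl | hb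
    · have : st g (R 0) c = 1 := gl_ext fun x => by
        rw [st_act hg, one_act, hRdef, SubfieldRational.rat_zero, TransvectionMax.zero_right hgb, mul_zero,
          zero_smul, add_zero]
      rw [this]; exact M.one_mem
    · obtain ⟨h', hh', hha⟩ := move1 ha hb
      exact hha ▸ hconj hh' h
  have hCneg : ∀ {c}, C c → C (-c) := fun {c} hc a => by
    have : (st g (R a) c)⁻¹ = st g (R a) (-c) := inv_eq_of_mul_eq_one_right (by
      rw [st_add hg, add_neg_cancel, st_zero hg])
    exact this ▸ M.inv_mem (hc a)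
  have hCadd : ∀ {c d}, C c → C d → C (c + d) := fun hc hd a => by
    rw [← st_add hg]; exact M.mul_mem (hc a) (hd a)
  have hCsq : ∀ {c} (t : F₀), C c → C (c * (t : F) ^ 2) := fun {c} t hc a => by
    rw [← st_smul hg, hRdef, ← SubfieldRational.rat_smul]; exact hc _
  have hCD : ∀ {c}, C c → D c := fun {c} hc a b _ _ _ =>
    M.mul_mem (M.mul_mem (by rw [← SubfieldRational.rat_add]; exact hc _) (hCneg hc a)) (hCneg hc b)
  have hC0 : ∀ t : F₀, C (t : F) := fun t a => hTrat a t
  -- D is closed
  have hDadd : ∀ {κ μ}, D κ → D μ → D (κ + μ) := fun hκ hμ a b h0 hb hab => by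
    rw [← sg_add hg (hgR0 h0)]; exact M.mul_mem (hκ a b h0 hb hab) (hμ a b h0 hb hab)
  have hDneg : ∀ {κ}, D κ → D (-κ) := fun {κ} hκ a b h0 hb hab => by
    have : (sg g (R a) (R b) κ)⁻¹ = sg g (R a) (R b) (-κ) := inv_eq_of_mul_eq_one_right (by
      rw [sg_add hg (hgR0 h0), add_neg_cancel, sg_zero hg (hgR0 h0)])
    exact this ▸ M.inv_mem (hκ a b h0 hb hab)
  have hDmul : ∀ {κ μ}, D κ → D μ → D (κ * μ) := by
    intro κ μ hκ hμ w z hwz hz hwz'
    have hw : w ≠ 0 := fun h => hwz' (h ▸ Submodule.zero_mem _)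
    set W := Submodule.span F₀ (Set.range ![w, z])
    have hW : Module.finrank F₀ W ≤ 2 := fr_range _
    obtain ⟨v, hv, hvW⟩ := exists_perp_notMem hb0 W W (by omega)
    obtain ⟨y, hy, hy'⟩ := TransvectionSymp.exists_perp_ne hf0 hvW
    set v' := (f0 v y)⁻¹ • y with hv'def
    have hvv' : f0 v v' = 1 := by rw [hv'def, hb0.smul_right, inv_mul_cancel₀ hy']
    have hwv : f0 w v = 0 := mem_perp_range hb0 hv 0
    have hzv : f0 z v = 0 := mem_perp_range hb0 hv 1
    have hwv' : f0 w v' = 0 := by
      rw [hv'def, hb0.smul_right, show f0 w y = 0 from mem_perp_range hb0 hy 0, mul_zero]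
    have hzv' : f0 z v' = 0 := by
      rw [hv'def, hb0.smul_right, show f0 z y = 0 from mem_perp_range hb0 hy 1, mul_zero]
    have hvwn : v ∉ Submodule.span F₀ {w} := notMem_span_of hb0 (by rw [hvv']; exact one_ne_zero) hwv'
    have hv'zn : v' ∉ Submodule.span F₀ {z} :=
      notMem_span_of hb0 (TransvectionSymp.skew_ne hf0 (by rw [hvv']; exact one_ne_zero)) hzv
    have h1 := hκ v w (TransvectionSymp.skew_zero hf0 hwv) hw hvwn
    have hv'z : f0 v' z = 0 := TransvectionSymp.skew_zero hf0 hzv'
    have h2 := hμ v' z hv'z hz hv'zn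
    have h3 := hsconj h1 h2
    have hgv : g (R v') (R v) = -1 := by
      rw [hg.skew, hgR, hvv', OneMemClass.coe_one]
    have hzw : g (R z) (R w) = 0 := hgR0 (TransvectionSymp.skew_zero hf0 hwz)
    rw [sg_act hg (hgR0 (TransvectionSymp.skew_zero hf0 hwv)),
      sg_act hg (hgR0 (TransvectionSymp.skew_zero hf0 hwv)), hgv,
      hgR0 (TransvectionSymp.skew_zero hf0 hwv'), hgR0 hzv, hzw] at h3
    simp only [mul_zero, zero_smul, add_zero, mul_neg, mul_one] at h3
    rw [sg_add_left hg (hgR0 hv'z) (by rw [hgb.smul_left, hgR0 hwz, mul_zero])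
      (by rw [hgb.smul_right, hgR0 (TransvectionSymp.skew_zero hf0 hwv'), mul_zero]) μ,
      M.mul_mem_cancel_left h2] at h3
    rw [sg_comm hg (by rw [hgb.smul_left, hgR0 hwz, mul_zero]),
      sg_smul hg (hgR0 (TransvectionSymp.skew_zero hf0 hwz)),
      sg_comm hg (hgR0 (TransvectionSymp.skew_zero hf0 hwz))] at h3
    have h4 : (sg g (R w) (R z) (-κ * μ))⁻¹ = sg g (R w) (R z) (κ * μ) := inv_eq_of_mul_eq_one_right (by
      rw [sg_add hg (hgR0 hwz), neg_mul, neg_add_cancel, sg_zero hg (hgR0 hwz)])
    exact h4 ▸ M.inv_mem h3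
  have hD0 : ∀ t : F₀, D (t : F) := fun t => hCD (hC0 t)
  have hDsq : ∀ {κ}, D κ → C (κ ^ 2) := by
    intro κ hκ
    set W := Submodule.span F₀ (Set.range ![a0])
    have hW : Module.finrank F₀ W ≤ 1 := fr_range _
    obtain ⟨v, hv, hvW⟩ := exists_perp_notMem hb0 W W (by omega)
    obtain ⟨y, hy, hy'⟩ := TransvectionSymp.exists_perp_ne hf0 hvW
    set v' := (f0 v y)⁻¹ • y with hv'def
    have hvv' : f0 v v' = 1 := by rw [hv'def, hb0.smul_right, inv_mul_cancel₀ hy']
    have hav : f0 a0 v = 0 := mem_perp_range hb0 hv 0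
    have hav' : f0 a0 v' = 0 := by
      rw [hv'def, hb0.smul_right, show f0 a0 y = 0 from mem_perp_range hb0 hy 0, mul_zero]
    have hvn : v ∉ Submodule.span F₀ {a0} := notMem_span_of hb0 (by rw [hvv']; exact one_ne_zero) hav'
    have hv'n : v' ∉ Submodule.span F₀ {a0} :=
      notMem_span_of hb0 (TransvectionSymp.skew_ne hf0 (by rw [hvv']; exact one_ne_zero)) hav
    have h1 := hκ v a0 (TransvectionSymp.skew_zero hf0 hav) ha0 hvn
    have h2 := hconj h1 (hT1 v')
    have hgv : g (R v') (R v) = -1 := by rw [hg.skew, hgR, hvv', OneMemClass.coe_one]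
    rw [sg_act hg (hgR0 (TransvectionSymp.skew_zero hf0 hav)), hgv,
      hgR0 (TransvectionSymp.skew_zero hf0 hav')] at h2
    simp only [mul_zero, zero_smul, add_zero, mul_neg, mul_one] at h2
    rw [st_pair hg (hgR0 (TransvectionSymp.skew_zero hf0 hav')), one_mul, one_mul, mul_assoc,
      M.mul_mem_cancel_left (hT1 v'),
      M.mul_mem_cancel_right ((hDneg hκ) v' a0 (TransvectionSymp.skew_zero hf0 hav') ha0 hv'n)] at h2
    refine hCall ha0 ?_
    rwa [neg_sq] at h2
  -- an irrational scalar
  have hu : st g u 1 ∈ M := by rw [hudef]; exact hconj hgM (hT1 u0)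
  obtain ⟨δ, hδ, hδ0⟩ : ∃ δ, D δ ∧ δ ∉ F₀ := by
    by_cases h2 : (2 : F) = 0
    · have hsqrt : ∀ {x : F}, x ^ 2 ∈ F₀ → x ∈ F₀ := by
        intro x hx
        haveI : Fintype F₀ := Fintype.ofFinite _
        obtain ⟨y, hy⟩ := FiniteField.isSquare_of_char_two (F := F₀)
          (CharP.ringChar_of_prime_eq_zero Nat.prime_two
            (F₀.subtype.injective (by rw [map_natCast, map_zero]; exact_mod_cast h2))) ⟨_, hx⟩
        have hy' : x ^ 2 = (y : F) ^ 2 := by
          have := congrArg Subtype.val hy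
          simp only [Subfield.coe_mul] at this
          rw [this, sq]
        have h3 : x = y := by
          have : (x - y) ^ 2 = 0 := by linear_combination hy' + ((y : F) * y - x * y) * h2
          exact sub_eq_zero.mp (pow_eq_zero_iff two_ne_zero |>.mp this)
        exact h3 ▸ y.2
      obtain ⟨w, e, hew, hwe, he, hval⟩ : ∃ w e, f0 w e = 0 ∧ w ∉ Submodule.span F₀ {e} ∧ e ≠ 0 ∧
          g u (R w) * g u (R e) ∉ F₀ := by
        by_contra! hall
        obtain ⟨w, hw⟩ := hvals u 1 one_ne_zero fun z => by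
          rw [div_one]
          by_cases hz : g u (R z) = 0
          · rw [hz]; exact F₀.zero_mem
          have hz0 : z ≠ 0 := fun h => hz (by
            rw [h, hRdef, SubfieldRational.rat_zero, TransvectionMax.zero_right hgb])
          have shift : ∀ {y}, g u (R y) = 0 → g u (R (z + y)) = g u (R z) := fun {y} hy => by
            rw [hRdef, SubfieldRational.rat_add, hgb.add_right]
            exact (congrArg (g u (R z) + ·) hy).trans (add_zero _)
          obtain ⟨k, hk, hkz, hk0⟩ : ∃ k, f0 z k = 0 ∧ k ∉ Submodule.span F₀ {z} ∧ g u (R k) ≠ 0 := by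
            obtain ⟨y, hy, hyz⟩ := exists_perp_notMem hb0 (Submodule.span F₀ (Set.range ![z]))
              (Submodule.span F₀ (Set.range ![z])) (by have := fr_range ![z]; omega)
            have hyz' : y ∉ Submodule.span F₀ {z} := by simpa using hyz
            by_cases hy0 : g u (R y) = 0
            · refine ⟨z + y, ?_, fun h => hyz' ?_, by rw [shift hy0]; exact hz⟩
              · rw [hb0.add_right, hf0.alternating, show f0 z y = 0 from mem_perp_range hb0 hy 0, add_zero]
              · simpa using Submodule.sub_mem _ h (Submodule.mem_span_singleton_self z)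
            · exact ⟨y, mem_perp_range hb0 hy 0, hyz', hy0⟩
          obtain ⟨l, hlz, hlk, hl, hl'⟩ : ∃ l, f0 z l = 0 ∧ f0 k l = 0 ∧
              l ∉ Submodule.span F₀ (Set.range ![z, k]) ∧ g u (R l) ≠ 0 := by
            obtain ⟨y, hy, hyz⟩ := exists_perp_notMem hb0 (Submodule.span F₀ (Set.range ![z, k]))
              (Submodule.span F₀ (Set.range ![z, k])) (by have := fr_range ![z, k]; omega)
            by_cases hy0 : g u (R y) = 0
            · refine ⟨z + y, ?_, ?_, fun h => hyz ?_, by rw [shift hy0]; exact hz⟩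
              · rw [hb0.add_right, hf0.alternating, show f0 z y = 0 from mem_perp_range hb0 hy 0, add_zero]
              · rw [hb0.add_right, TransvectionSymp.skew_zero hf0 hk,
                  show f0 k y = 0 from mem_perp_range hb0 hy 1, add_zero]
              · simpa using Submodule.sub_mem _ h
                  (Submodule.subset_span (⟨0, rfl⟩ : z ∈ Set.range ![z, k]))
            · exact ⟨y, mem_perp_range hb0 hy 0, mem_perp_range hb0 hy 1, hyz, hy0⟩
          have hlz' : l ∉ Submodule.span F₀ {z} := fun h =>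
            hl (Submodule.span_mono (by intro x hx; exact ⟨0, (Set.mem_singleton_iff.mp hx).symm⟩) h)
          have hlk' : l ∉ Submodule.span F₀ {k} := fun h =>
            hl (Submodule.span_mono (by intro x hx; exact ⟨1, (Set.mem_singleton_iff.mp hx).symm⟩) h)
          have hk00 : k ≠ 0 := fun h => hkz (h ▸ Submodule.zero_mem _)
          have p1 := hall k z (TransvectionSymp.skew_zero hf0 hk) hkz hz0
          have p2 := hall l z (TransvectionSymp.skew_zero hf0 hlz) hlz' hz0
          have p3 := hall l k (TransvectionSymp.skew_zero hf0 hlk) hlk' hk00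
          refine hsqrt ?_
          have := F₀.div_mem (F₀.mul_mem p1 p2) p3
          convert this using 1
          field_simp
        exact hu0 1 w hw
      have he0 := he
      have hw0 : w ≠ 0 := fun h => hwe (h ▸ Submodule.zero_mem _)
      -- the moving step
      have step : ∀ {v : Fin m ⊕ Fin m → F} {a b c}, st g v 1 ∈ M → f0 a b = 0 → f0 c a = 0 → f0 c b = 0 →
          st g (R c + g v (R c) • (g v (R a) • R b + g v (R b) • R a)) 1 ∈ M := by
        intro v a b c hv hab hca hcb
        set d := g v (R a) • R b + g v (R b) • R a with hddef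
        have hvd : g v d = 0 := by
          rw [hddef, hgb.add_right, hgb.smul_right, hgb.smul_right]
          linear_combination (g v (R a) * g v (R b)) * h2
        have hcd : g (R c) d = 0 := by
          rw [hddef, hgb.add_right, hgb.smul_right, hgb.smul_right, hgR0 hca, hgR0 hcb]; ring
        set v1 := v + g v (R c) • R c with hv1def
        have hv1 : st g v1 1 ∈ M := by
          have := hconj (hT1 c) hv
          rwa [st_act hg, one_mul] at this
        have hmv : ∀ x, (sg g (R a) (R b) 1 : Matrix (Fin m ⊕ Fin m) (Fin m ⊕ Fin m) F) *ᵥ x = x + g x (R a) • R b + g x (R b) • R a :=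
          fun x => by rw [sg_act hg (hgR0 hab), one_mul, one_mul]
        have h5 := hconj (hsg1 a b) hv
        rw [hmv, add_assoc, ← hddef] at h5
        have h6 := hconj (hsg1 a b) hv1
        rw [hmv, add_assoc] at h6
        have he1 : g v1 (R a) = g v (R a) := by
          rw [hv1def, hgb.add_left, hgb.smul_left, hgR0 hca, mul_zero, add_zero]
        have he2 : g v1 (R b) = g v (R b) := by
          rw [hv1def, hgb.add_left, hgb.smul_left, hgR0 hcb, mul_zero, add_zero]
        rw [he1, he2, ← hddef] at h6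
        have h7 := M.mul_mem (M.mul_mem h5 hv) (M.mul_mem h6 hv1)
        rw [hv1def, st_four hg hvd hcd h2] at h7
        exact (M.mul_mem_cancel_right (hT1 c)).mp h7
      -- first step
      obtain ⟨k, hk, hkn⟩ := exists_perp_notMem hb0 (Submodule.span F₀ (Set.range ![w, e]))
        (Submodule.span F₀ (Set.range ![w, e])) (by have := fr_range ![w, e]; omega)
      have hwk : f0 w k = 0 := mem_perp_range hb0 hk 0
      have hek : f0 e k = 0 := mem_perp_range hb0 hk 1
      have hu2 := step hu hek hew hwk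
      set α := g u (R e)
      set lam := g u (R w)
      -- dual vectors
      have hwX : w ∉ Submodule.span F₀ (Set.range ![k, e]) := fun h => by
        simp only [Matrix.range_cons, Matrix.range_empty, Set.union_empty, Set.union_singleton] at h
        obtain ⟨p, q, hpq⟩ := Submodule.mem_span_pair.mp h
        rcases eq_or_ne q 0 with rfl | hq
        · exact hwe (Submodule.mem_span_singleton.mpr ⟨p, by simpa using hpq⟩)
        · refine hkn ?_
          simp only [Matrix.range_cons, Matrix.range_empty, Set.union_empty, Set.union_singleton]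
          refine Submodule.mem_span_pair.mpr ⟨-(q⁻¹ * p), q⁻¹, ?_⟩
          rw [← hpq, smul_add, smul_smul, smul_smul, inv_mul_cancel₀ hq, one_smul, ← add_assoc, ← add_smul,
            neg_add_cancel, zero_smul, zero_add]
      obtain ⟨y, hy, hy'⟩ := TransvectionSymp.exists_perp_ne hf0 hwX
      set w2 := (f0 w y)⁻¹ • y with hw2def
      have hww2 : f0 w w2 = 1 := by rw [hw2def, hb0.smul_right, inv_mul_cancel₀ hy']
      have hkw2 : f0 k w2 = 0 := by rw [hw2def, hb0.smul_right, show f0 k y = 0 from mem_perp_range hb0 hy 0, mul_zero]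
      have hew2 : f0 e w2 = 0 := by
        rw [hw2def, hb0.smul_right, show f0 e y = 0 from mem_perp_range hb0 hy 1, mul_zero]
      have hkY : k ∉ Submodule.span F₀ (Set.range ![w, e, w2]) := fun h => by
        obtain ⟨c, hc⟩ := (Submodule.mem_span_range_iff_exists_fun F₀).mp h
        simp [Fin.sum_univ_three] at hc
        have h4 := congrArg (fun v => f0 w v) hc
        simp only [hb0.add_right, hb0.smul_right, hf0.alternating, hew, hww2, hwk] at h4
        simp only [mul_zero, zero_add, mul_one] at h4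
        rw [h4, zero_smul, add_zero] at hc
        apply hkn
        simp only [Matrix.range_cons, Matrix.range_empty, Set.union_empty, Set.union_singleton]
        exact Submodule.mem_span_pair.mpr ⟨c 1, c 0, by rw [← hc]; abel⟩
      obtain ⟨y, hy, hy'⟩ := TransvectionSymp.exists_perp_ne hf0 hkY
      set e2 := (f0 k y)⁻¹ • y with he2def
      have hke2 : f0 k e2 = 1 := by rw [he2def, hb0.smul_right, inv_mul_cancel₀ hy']
      have hwe2 : f0 w e2 = 0 := by rw [he2def, hb0.smul_right, show f0 w y = 0 from mem_perp_range hb0 hy 0, mul_zero]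
      have hee2 : f0 e e2 = 0 := by
        rw [he2def, hb0.smul_right, show f0 e y = 0 from mem_perp_range hb0 hy 1, mul_zero]
      have hw2e2 : f0 w2 e2 = 0 := by
        rw [he2def, hb0.smul_right, show f0 w2 y = 0 from mem_perp_range hb0 hy 2, mul_zero]
      obtain ⟨k2, hk2, hk2n⟩ := exists_perp_notMem hb0 (Submodule.span F₀ (Set.range ![w, k, e, w2, e2]))
        (Submodule.span F₀ (Set.range ![w2]))
        (by have := fr_range ![w, k, e, w2, e2]; have := fr_range ![w2]; omega)
      have hk2n' : k2 ∉ Submodule.span F₀ {w2} := by simpa using hk2n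
      have hw20 : w2 ≠ 0 := fun h => by
        rw [h, TransvectionMax.zero_right hb0] at hww2
        exact zero_ne_one hww2
      have hk20 : k2 ≠ 0 := fun h => hk2n' (h ▸ Submodule.zero_mem _)
      have hwk2 : f0 w k2 = 0 := mem_perp_range hb0 hk2 0
      have hkk2 : f0 k k2 = 0 := mem_perp_range hb0 hk2 1
      have hek2 : f0 e k2 = 0 := mem_perp_range hb0 hk2 2
      have hw2k2 : f0 w2 k2 = 0 := mem_perp_range hb0 hk2 3
      have he2k2 : f0 e2 k2 = 0 := mem_perp_range hb0 hk2 4
      have hu3 := step hu2 he2k2 hw2e2 hw2k2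
      have e1 : ∀ x, g (R w + lam • (α • R k + g u (R k) • R e)) (R x) =
          (f0 w x : F) + lam * (α * (f0 k x : F) + g u (R k) * (f0 e x : F)) := fun x => by
        rw [hgb.add_left, hgb.smul_left, hgb.add_left, hgb.smul_left, hgb.smul_left, hgR, hgR, hgR]
      rw [e1, e1, e1, hww2, hkw2, hew2, hwe2, hke2, hee2, hwk2, hkk2, hek2] at hu3
      simp only [ZeroMemClass.coe_zero, OneMemClass.coe_one, mul_zero, mul_one, add_zero, zero_add, one_smul,
        zero_smul] at hu3
      -- all pairs
      have hZ : ∀ v q, f0 v q = 0 → q ≠ 0 → v ∉ Submodule.span F₀ {q} →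
          st g (R v + (lam * α) • R q) 1 ∈ M := by
        intro v q h0 hq hvq
        obtain ⟨h', hh', h1, h1'⟩ := move2 hk20 hq (notMem_span_symm hw20 hk2n') hvq hw2k2 h0
        have := hconj hh' hu3
        rwa [Matrix.mulVec_add, Matrix.mulVec_smul, h1, h1'] at this
      refine ⟨lam * α, fun p q hpq hq hpq' => ?_, hval⟩
      obtain ⟨v, hv, hvn⟩ := exists_perp_notMem hb0 (Submodule.span F₀ (Set.range ![p, q]))
        (Submodule.span F₀ (Set.range ![p, q])) (by have := fr_range ![p, q]; omega)
      have hvp : f0 v p = 0 := TransvectionSymp.skew_zero hf0 (mem_perp_range hb0 hv 0)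
      have hvq : f0 v q = 0 := TransvectionSymp.skew_zero hf0 (mem_perp_range hb0 hv 1)
      have hvq' : v ∉ Submodule.span F₀ {q} := fun h =>
        hvn (Submodule.span_mono (by intro x hx; exact ⟨1, (Set.mem_singleton_iff.mp hx).symm⟩) h)
      have hvq'' : p - v ∉ Submodule.span F₀ {q} := fun h => hvn (by
        obtain ⟨s, hs⟩ := Submodule.mem_span_singleton.mp h
        refine (Submodule.mem_span_range_iff_exists_fun F₀).mpr ⟨![1, -s], ?_⟩
        simp [Fin.sum_univ_two, hs])
      have hpvq : f0 (p - v) q = 0 := by rw [TransvectionMax.sub_left hb0, hpq, hvq, sub_zero]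
      have hvpv : f0 v (p - v) = 0 := by rw [TransvectionMax.sub_right hb0, hvp, hf0.alternating, sub_zero]
      have z1 := hZ v q hvq hq hvq'
      have z2 := hZ (p - v) q hpvq hq hvq''
      have z3 := M.mul_mem (M.mul_mem z1 (hT1 v)) (M.mul_mem z2 (hT1 (p - v)))
      have key : st g (R v + (lam * α) • R q) 1 * st g (R v) 1 *
          (st g (R (p - v) + (lam * α) • R q) 1 * st g (R (p - v)) 1) = sg g (R p) (R q) (lam * α) :=
        gl_ext fun x => by
          have hg1 : g (R v) ((lam * α) • R q) = 0 := by rw [hgb.smul_right, hgR0 hvq, mul_zero]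
          have hg2 : g (R (p - v)) ((lam * α) • R q) = 0 := by rw [hgb.smul_right, hgR0 hpvq, mul_zero]
          rw [mul_act, st_two hg hg1 h2, st_two hg hg2 h2, sg_act hg (hgR0 hpq)]
          have h9 : R p = R v + R (p - v) := by rw [hRdef, ← SubfieldRational.rat_add, add_sub_cancel]
          rw [h9]
          simp only [hgb.add_left, hgb.smul_left, hgb.add_right, hgb.smul_right, hg.alternating,
            hgR0 hvq, hgR0 hpvq, hgR0 (TransvectionSymp.skew_zero hf0 hvq),
            hgR0 (TransvectionSymp.skew_zero hf0 hpvq), hgR0 (TransvectionSymp.skew_zero hf0 hvpv)]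
          funext i
          simp only [Pi.add_apply, Pi.smul_apply, smul_eq_mul]
          linear_combination ((lam * α) ^ 2 * g x (R q) * R q i) * h2
      exact key ▸ z3
    · -- odd characteristic: reflections in rational planes
      obtain ⟨b, hb⟩ : ∃ b, g u (R b) ≠ 0 := by
        by_contra! h
        obtain ⟨w, hw⟩ := hvals u 1 one_ne_zero fun x => by rw [h x, zero_div]; exact F₀.zero_mem
        exact hu0 1 w hw
      have hb00 : b ≠ 0 := fun h => hb (by
        rw [h, hRdef, SubfieldRational.rat_zero, TransvectionMax.zero_right hgb])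
      obtain ⟨b', hbb', hratio⟩ : ∃ b', f0 b b' = 1 ∧ g u (R b') / g u (R b) ∉ F₀ := by
        obtain ⟨w, hw⟩ : ∃ w, g u (R w) / g u (R b) ∉ F₀ := by
          by_contra! h
          obtain ⟨w, hw⟩ := hvals u _ hb h
          exact hu0 _ w hw
        have scale : ∀ y, f0 b y ≠ 0 → g u (R y) / g u (R b) ∉ F₀ →
            ∃ b', f0 b b' = 1 ∧ g u (R b') / g u (R b) ∉ F₀ := by
          intro y hy hy'
          refine ⟨(f0 b y)⁻¹ • y, by rw [hb0.smul_right, inv_mul_cancel₀ hy], fun h => hy' ?_⟩
          rw [hRdef, SubfieldRational.rat_smul, hgb.smul_right, mul_div_assoc] at h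
          have hne : (((f0 b y)⁻¹ : F₀) : F) ≠ 0 := fun h0 => inv_ne_zero hy (Subtype.ext h0)
          have := F₀.div_mem h ((f0 b y)⁻¹).2
          rwa [mul_div_cancel_left₀ _ hne] at this
        by_cases h : f0 b w = 0
        · obtain ⟨z, hz⟩ := (hf0.nondegenerate b hb00).2
          by_cases hz' : g u (R z) / g u (R b) ∈ F₀
          · refine scale (w + z) (by rwa [hb0.add_right, h, zero_add]) fun h' => hw ?_
            have := F₀.sub_mem h' hz'
            rwa [hRdef, SubfieldRational.rat_add, hgb.add_right, add_div, add_sub_cancel_right] at this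
          · exact scale z hz hz'
        · exact scale w h hw
      have hb'b : g (R b') (R b) = -1 := by rw [hg.skew, hgR, hbb', OneMemClass.coe_one]
      have hbb'g : g (R b) (R b') = 1 := by rw [hgR, hbb', OneMemClass.coe_one]
      -- projection on the rational plane of e1, e2
      let proj : (Fin m ⊕ Fin m → F₀) → (Fin m ⊕ Fin m → F₀) → (Fin m ⊕ Fin m → F) →
          (Fin m ⊕ Fin m → F) := fun e1 e2 v => g v (R e2) • R e1 - g v (R e1) • R e2
      have hproj1 : ∀ {e1 e2}, f0 e1 e2 = 1 → ∀ v, g (proj e1 e2 v) (R e1) = g v (R e1) ∧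
          g (proj e1 e2 v) (R e2) = g v (R e2) ∧ g v (proj e1 e2 v) = 0 := by
        intro e1 e2 he v
        have ha : g (R e1) (R e2) = 1 := by rw [hgR, he, OneMemClass.coe_one]
        have ha' : g (R e2) (R e1) = -1 := by rw [hg.skew, ha]
        simp only [proj, TransvectionMax.sub_left hgb, TransvectionMax.sub_right hgb, hgb.smul_left,
          hgb.smul_right, hg.alternating, ha, ha']
        exact ⟨by ring, by ring, by ring⟩
      -- the mirror element
      have hmir : ∀ {e1 e2}, f0 e1 e2 = 1 → ∀ {v c}, st g v c ∈ M →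
          sg g (proj e1 e2 v) (v - proj e1 e2 v) (2 * c) ∈ M := by
        intro e1 e2 he v c hv
        obtain ⟨hp1, hp2, hvp⟩ := hproj1 he v
        have ha : g (R e1) (R e2) = 1 := by rw [hgR, he, OneMemClass.coe_one]
        have ha' : g (R e2) (R e1) = -1 := by rw [hg.skew, ha]
        set s := st g (R e1) 1 * st g (R e2) 1 * st g (R e1) 1
        have hs : s ∈ M := M.mul_mem (M.mul_mem (hT1 e1) (hT1 e2)) (hT1 e1)
        have h1 := hconj (M.mul_mem hs hs) hv
        have h3 : ((s * s : GL (Fin m ⊕ Fin m) F) : Matrix (Fin m ⊕ Fin m) (Fin m ⊕ Fin m) F) *ᵥ v = v - (2 : F) • proj e1 e2 v := by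
          simp only [s, proj, mul_act, st_act hg, one_mul, hgb.add_left, hgb.smul_left, hg.alternating, ha, ha']
          module
        rw [h3] at h1
        have h4 : (st g (v - (2 : F) • proj e1 e2 v) c)⁻¹ = st g (v - (2 : F) • proj e1 e2 v) (-c) :=
          inv_eq_of_mul_eq_one_right (by rw [st_add hg, add_neg_cancel, st_zero hg])
        rw [← st_mirror hg hvp]
        exact M.mul_mem hv (h4 ▸ M.inv_mem h1)
      have hcomm : ∀ {p z : Fin m ⊕ Fin m → F} {κ y}, g p z = 0 → g p (R y) = 0 → sg g p z κ ∈ M →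
          st g p (2 * κ ^ 2 * (g z (R y) * g (R y) z)) ∈ M := by
        intro p z κ y hpz hpy h
        have h1 := hsconj (hT1 y) h
        rw [st_act hg, st_act hg, hpy, mul_zero, zero_smul, add_zero, one_mul] at h1
        set z' := z + g z (R y) • R y
        have hpz' : g p z' = 0 := by rw [hgb.add_right, hpz, hgb.smul_right, hpy, mul_zero, add_zero]
        have h3 := M.mul_mem (M.mul_mem h h1) (M.inv_mem (M.mul_mem h1 h))
        rw [sg_commutator hg hpz hpz', mul_inv_cancel_right] at h3
        have h4 : g z' z = g z (R y) * g (R y) z := by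
          rw [hgb.add_left, hg.alternating, zero_add, hgb.smul_left]
        rwa [h4] at h3
      set p := proj b b' u with hpdef
      obtain ⟨hp1, hp2, hup⟩ := hproj1 hbb' u
      have hpu : g p (u - p) = 0 := by
        rw [TransvectionMax.sub_right hgb, hg.alternating, TransvectionSymp.skew_zero hg hup, sub_zero]
      obtain ⟨c2, hc20, hc2⟩ : ∃ c, c ≠ 0 ∧ st g p c ∈ M := by
        by_cases hz : ∃ y, f0 b y = 0 ∧ f0 b' y = 0 ∧ g u (R y) ≠ 0
        · obtain ⟨y, hy1, hy2, hy⟩ := hz
          have hpy : g p (R y) = 0 := by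
            simp only [hpdef, proj, TransvectionMax.sub_left hgb, hgb.smul_left, hgR0 hy1, hgR0 hy2,
              mul_zero, sub_zero]
          have h := hcomm hpu hpy (hmir hbb' hu)
          have h5 : g (u - p) (R y) = g u (R y) := by rw [TransvectionMax.sub_left hgb, hpy, sub_zero]
          rw [hg.skew (R y) (u - p), h5] at h
          refine ⟨_, ?_, h⟩
          exact mul_ne_zero (mul_ne_zero h2 (pow_ne_zero _ (mul_ne_zero h2 one_ne_zero)))
            (mul_ne_zero hy (neg_ne_zero.mpr hy))
        · push Not at hz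
          refine ⟨1, one_ne_zero, ?_⟩
          have h6 : u = p := by
            by_contra hne
            obtain ⟨x, hx⟩ := (hg.nondegenerate _ (sub_ne_zero.mpr hne)).1
            apply hx
            refine SubfieldRational.eq_zero_of_rat (F₀ := F₀) P (fLeft hgb (u - p)) (fun x => ?_) x
            change g (R x) (u - p) = 0
            rw [hg.skew, TransvectionMax.sub_left hgb, neg_eq_zero]
            set y := x - f0 x b' • b - f0 b x • b'
            have hx' : x = y + f0 x b' • b + f0 b x • b' := by simp only [y]; abel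
            have hy1 : f0 b y = 0 := by
              simp only [y, TransvectionMax.sub_right hb0, hb0.smul_right, hf0.alternating, hbb']; ring
            have hy2 : f0 b' y = 0 := by
              simp only [y, TransvectionMax.sub_right hb0, hb0.smul_right, hf0.alternating,
                hf0.skew b' b, hf0.skew b' x, hbb']
              ring
            have hpy : g p (R y) = 0 := by
              simp only [hpdef, proj, TransvectionMax.sub_left hgb, hgb.smul_left, hgR0 hy1, hgR0 hy2,
                mul_zero, sub_zero]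
            rw [hx']
            simp only [hRdef, SubfieldRational.rat_add, SubfieldRational.rat_smul, hgb.add_right,
              hgb.smul_right]
            rw [show g u (SubfieldRational.rat P y) = 0 from hz y hy1 hy2,
              show g p (SubfieldRational.rat P y) = 0 from hpy,
              show g p (SubfieldRational.rat P b) = g u (SubfieldRational.rat P b) from hp1,
              show g p (SubfieldRational.rat P b') = g u (SubfieldRational.rat P b') from hp2]
            ring
          rw [← h6]; exact hu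
      obtain ⟨b3, hb3, hb3n⟩ := exists_perp_notMem hb0 (Submodule.span F₀ (Set.range ![b, b']))
        (Submodule.span F₀ (Set.range ![b, b'])) (by have := fr_range ![b, b']; omega)
      have hbb3 : f0 b b3 = 0 := mem_perp_range hb0 hb3 0
      have hb'b3 : f0 b' b3 = 0 := mem_perp_range hb0 hb3 1
      have hb30 : b3 ≠ 0 := fun h => hb3n (h ▸ Submodule.zero_mem _)
      have hpl : f0 b (b' + b3) = 1 := by rw [hb0.add_right, hbb', hbb3, add_zero]
      set α := g u (R b')
      set β := g u (R b)
      have hpb : g p (R b) = β := hp1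
      have hpb' : g p (R b') = α := hp2
      have hpb3 : g p (R b3) = 0 := by
        simp only [hpdef, proj, TransvectionMax.sub_left hgb, hgb.smul_left, hgR0 hbb3, hgR0 hb'b3,
          mul_zero, sub_zero]
      obtain ⟨hq1, hq2, hpq⟩ := hproj1 hpl p
      set q := proj b (b' + b3) p with hqdef
      have hz : p - q = β • R b3 := by
        simp only [hqdef, proj, hRdef, SubfieldRational.rat_add]
        rw [hgb.add_right]
        rw [show g p (SubfieldRational.rat P b') = α from hpb', show g p (SubfieldRational.rat P b3) = 0 from hpb3,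
          show g p (SubfieldRational.rat P b) = β from hpb, add_zero]
        simp only [hpdef, proj, hRdef, α, β]
        module
      have hqb3 : g q (R b3) = 0 := by
        simp only [hqdef, proj, TransvectionMax.sub_left hgb, hgb.smul_left, hgR0 hbb3,
          hgR0 (show f0 (b' + b3) b3 = 0 by rw [hb0.add_left, hb'b3, hf0.alternating, add_zero]),
          mul_zero, sub_zero]
      have hX := hmir hpl hc2
      rw [← hqdef, hz, sg_comm hg (by rw [hgb.smul_right, hqb3, mul_zero])] at hX
      set K := 2 * (2 * c2) ^ 2 * β ^ 2 with hKdef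
      have hK : K ≠ 0 := mul_ne_zero (mul_ne_zero h2 (pow_ne_zero _ (mul_ne_zero h2 hc20))) (pow_ne_zero _ hb)
      have hCy : ∀ y, f0 b3 y = 0 → C (K * (g q (R y)) ^ 2) := by
        intro y hy
        have h := hcomm (y := y) (by rw [hgb.smul_left, TransvectionSymp.skew_zero hg hqb3, mul_zero])
          (by rw [hgb.smul_left, hgR0 hy, mul_zero]) hX
        rw [st_smul hg, hg.skew (R y) q] at h
        have h' : C _ := hCall hb30 h
        have := hCneg h'
        convert this using 1
        rw [hKdef]; ring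
      have hqb : g q (R b) = β := hq1.trans hpb
      have hqb' : g q (R (b' + b3)) = α := by
        rw [hq2, hRdef, SubfieldRational.rat_add, hgb.add_right]
        exact (congrArg₂ (· + ·) hpb' hpb3).trans (add_zero _)
      have c1 := hCy b (TransvectionSymp.skew_zero hf0 hbb3)
      have c2' := hCy (b' + b3) (by
        rw [hb0.add_right, TransvectionSymp.skew_zero hf0 hb'b3, hf0.alternating, add_zero])
      have c3 := hCy (b + (b' + b3)) (by
        rw [hb0.add_right, hb0.add_right, TransvectionSymp.skew_zero hf0 hbb3,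
          TransvectionSymp.skew_zero hf0 hb'b3, hf0.alternating, add_zero, add_zero])
      rw [hqb] at c1
      rw [hqb'] at c2'
      rw [hRdef, SubfieldRational.rat_add, hgb.add_right] at c3
      rw [show g q (SubfieldRational.rat P b) = β from hqb,
        show g q (SubfieldRational.rat P (b' + b3)) = α from hqb'] at c3
      have hKD : D (K * β ^ 2) := hCD c1
      have hKD' : D (K * (α * β)) := by
        have h7 := hDmul (hD0 (2⁻¹ : F₀)) (hDadd (hCD c3) (hDneg (hDadd (hCD c1) (hCD c2'))))
        convert h7 using 1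
        push_cast
        rw [show ((2 : F₀) : F) = 2 from map_ofNat F₀.subtype 2]
        field_simp
        ring
      by_contra! hall
      apply hratio
      have := F₀.div_mem (hall _ hKD') (hall _ hKD)
      convert this using 1
      field_simp
  -- the full root groups
  let Dalg : Subalgebra F₀ F :=
    { carrier := {κ | D κ}
      mul_mem' := fun ha hb => hDmul ha hb
      add_mem' := fun ha hb => hDadd ha hb
      one_mem' := by simpa using hD0 1
      zero_mem' := by simpa using hD0 0
      algebraMap_mem' := fun t => hD0 t }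
  have hDall : ∀ κ, D κ := fun κ => by
    have : κ ∈ Dalg := SubfieldRational.subalgebra_eq_top hr hcard Dalg (x := δ) hδ hδ0 ▸ Algebra.mem_top
    exact this
  have hCC : ∀ c, C c := by
    intro c
    by_cases h2 : (2 : F) = 0
    · obtain ⟨y, hy⟩ := FiniteField.isSquare_of_char_two (F := F)
        (CharP.ringChar_of_prime_eq_zero Nat.prime_two (by simpa using h2)) c
      rw [hy, ← sq]
      exact hDsq (hDall y)
    · have := hCadd (hDsq (hDall ((c + 1) / 2))) (hCneg (hDsq (hDall ((c - 1) / 2))))
      convert this using 1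
      field_simp
      ring
  let S : (Fin m ⊕ Fin m → F) → Prop := fun x => ∀ c, st g x c ∈ M
  have hSR : ∀ a, S (R a) := fun a c => hCC c a
  have hSsmul : ∀ {x} (s : F), S x → S (s • x) := fun s hx c => by rw [st_smul hg]; exact hx _
  have hScomb : ∀ {x y}, S x → S y → g x y ≠ 0 → S (x + y) := by
    intro x y hx hy hxy c
    have h := hconj (hy (g x y)⁻¹) (hx c)
    rwa [st_act hg, inv_mul_cancel₀ hxy, one_smul] at h
  have hSaddR : ∀ {x} v, S x → S (x + R v) := by
    intro x v hx
    by_cases hxv : g x (R v) ≠ 0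
    · exact hScomb hx (hSR v) hxv
    push Not at hxv
    rcases eq_or_ne v 0 with rfl | hv0
    · rwa [hRdef, SubfieldRational.rat_zero, add_zero]
    by_cases hall : ∀ z, f0 v z = 1 → g x (R z) ∈ F₀
    · obtain ⟨z0, hz0⟩ := (hf0.nondegenerate v hv0).2
      set z1 := (f0 v z0)⁻¹ • z0
      have hz1 : f0 v z1 = 1 := by rw [hb0.smul_right, inv_mul_cancel₀ hz0]
      obtain ⟨w, hw⟩ := hvals x 1 one_ne_zero fun y => by
        rw [div_one]
        have h1 := hall z1 hz1
        have h2 := hall (y + (1 - f0 v y) • z1) (by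
          rw [hb0.add_right, hb0.smul_right, hz1]; ring)
        rw [hRdef, SubfieldRational.rat_add, SubfieldRational.rat_smul, hgb.add_right, hgb.smul_right] at h2
        have := F₀.sub_mem h2 (F₀.mul_mem (1 - f0 v y).2 h1)
        convert this using 1
        simp only [hRdef]
        ring
      rw [hw, one_smul, hRdef, ← SubfieldRational.rat_add]
      exact hSR _
    push Not at hall
    obtain ⟨z, hz, hxz⟩ := hall
    have hxz0 : g x (R z) ≠ 0 := fun h => hxz (by rw [h]; exact F₀.zero_mem)
    have hvz : g (R v) (R z) = 1 := by rw [hgR, hz, OneMemClass.coe_one]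
    have h1 := hScomb hx (hSR z) hxz0
    have h2 := hScomb h1 (hSR v) (by
      rw [hgb.add_left, hxv, zero_add, hg.skew, hvz]; exact neg_ne_zero.mpr one_ne_zero)
    have h3 := hScomb h2 (hSsmul (-1) (hSR z)) (by
      rw [hgb.smul_right, hgb.add_left, hgb.add_left, hg.alternating, add_zero, hvz]
      intro h
      apply hxz
      have h4 : g x (R z) = ((-1 : F₀) : F) := by push_cast; linear_combination -h
      rw [h4]; exact (-1 : F₀).2)
    have h5 : x + R z + R v + (-1 : F) • R z = x + R v := by module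
    rwa [h5] at h3
  have hSall : ∀ x, S x := by
    intro x
    obtain ⟨y, rfl⟩ := SubfieldRational.exists_combination (F₀ := F₀) P x
    induction (Finset.univ : Finset (Fin m ⊕ Fin m)) using Finset.induction with
    | empty =>
      rw [Finset.sum_empty, ← SubfieldRational.rat_zero (F₀ := F₀) P]
      exact hSR 0
    | insert i t hit ih =>
      rw [Finset.sum_insert hit, add_comm]
      rcases eq_or_ne (y i) 0 with hy | hy
      · rwa [hy, zero_smul, add_zero]
      · have := hSsmul (y i) (hSaddR (Pi.single i 1) (hSsmul (y i)⁻¹ ih))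
        rwa [smul_add, smul_smul, mul_inv_cancel₀ hy, one_smul] at this
  intro k hk
  exact isometry_mem hg (fun v c => hSall v c) k (hgK hk)

end Cfsg.Agent.S5650
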