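import Cfsg.Statements.S5657
import Cfsg.Agent.Lib.TransvectionUnitaryGen
import Cfsg.Agent.Lib.TransvectionSymp

set_option autoImplicit false
open Cfsg

namespace Cfsg.Agent.S5657

open Cfsg.Agent.TransvectionMax
open scoped MatrixGroups Matrix

section

variable {F : Type*} [Field F] [Fintype F] {ι : Type} [Fintype ι] [DecidableEq ι] {σ : F ≃+* F}
  {f : (ι → F) → (ι → F) → F}

/-- The element x ↦ x + f(x,a)b − f(x,b)a for isotropic orthogonal a, b. -/
noncomputable def sp2 (f : (ι → F) → (ι → F) → F) (a b : ι → F) : GL ι F := ft f b a * ft f a (-b)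

variable (hf : Cfsg.Geo.IsUnitaryForm σ f)
include hf

lemma sp2_act {a b : ι → F} (haa : f a a = 0) (hab : f a b = 0) (x : ι → F) :
    (sp2 f a b : Matrix ι ι F) *ᵥ x = x + f x a • b - f x b • a := by
  have hba := TransvectionUnitary.skew_zero hf hab
  rw [sp2, mul_act, TransvectionUnitary.ft_act hf hba,
    TransvectionUnitary.ft_act hf (by rw [TransvectionUnitary.neg_right hf, hab, neg_zero]),
    TransvectionUnitary.neg_right hf, hf.add_left, hf.smul_left, haa]
  module

lemma sp2_iso {a b : ι → F} (haa : f a a = 0) (hbb : f b b = 0) (hab : f a b = 0) (x y : ι → F) :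
    f ((sp2 f a b : Matrix ι ι F) *ᵥ x) ((sp2 f a b : Matrix ι ι F) *ᵥ y) = f x y := by
  have hba := TransvectionUnitary.skew_zero hf hab
  simp only [sp2_act hf haa hab, TransvectionUnitary.sub_left hf, TransvectionUnitary.sub_right hf,
    hf.add_left, TransvectionUnitary.add_right hf, hf.smul_left, TransvectionUnitary.smul_right hf,
    TransvectionUnitary.sigma_f hf, haa, hbb, hab, hba]
  ring

lemma dual_sep {U W : Submodule F (ι → F)} (hUW : IsCompl U W)
    (hW : Cfsg.Geo.IsTotallySingularFor f W) {z : ι → F} {Z : Submodule F (ι → F)}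
    (hz : z ∈ W) (hZ : Z ≤ W) (hzZ : z ∉ Z) : ∃ c ∈ U, (∀ x ∈ Z, f c x = 0) ∧ f c z = 1 := by
  obtain ⟨y, hy, hyz⟩ := TransvectionUnitary.exists_perp_val hf hzZ 1
  have key : ∀ x ∈ W, f y x = f (U.projection W hUW y) x := fun x hx => by
    conv_lhs => rw [← U.projection_add_projection_eq_self hUW y]
    rw [hf.add_left, hW _ (W.projection_apply_mem hUW.symm y) x hx, add_zero]
  exact ⟨_, U.projection_apply_mem hUW y, fun x hx => by rw [← key x (hZ hx)]; exact hy x hx,
    by rw [← key z hz]; exact hyz⟩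

end

lemma fr1 {F : Type*} [Field F] {ι : Type} [Fintype ι] (c : ι → F) :
    Module.finrank F (Submodule.span F {c}) ≤ 1 :=
  (finrank_span_le_card ({c} : Set (ι → F))).trans (by simp)

lemma fr2 {F : Type*} [Field F] {ι : Type} [Fintype ι] (a b : ι → F) :
    Module.finrank F (Submodule.span F {a, b}) ≤ 2 := by
  rw [Submodule.span_insert]
  exact (Submodule.finrank_add_le_finrank_add_finrank _ _).trans (Nat.add_le_add (fr1 a) (fr1 b))

lemma fr3 {F : Type*} [Field F] {ι : Type} [Fintype ι] (a b c : ι → F) :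
    Module.finrank F (Submodule.span F {a, b, c}) ≤ 3 := by
  rw [Submodule.span_insert]
  exact (Submodule.finrank_add_le_finrank_add_finrank _ _).trans (Nat.add_le_add (fr1 a) (fr2 b c))

lemma notMem_sup_span {F : Type*} [Field F] {ι : Type} [Fintype ι] {p x : ι → F}
    {S : Submodule F (ι → F)} (hp : p ∉ S) (hx : x ∉ S ⊔ Submodule.span F {p}) :
    p ∉ S ⊔ Submodule.span F {x} := by
  intro h
  obtain ⟨s, hs, y, hy, hsy⟩ := Submodule.mem_sup.mp h
  obtain ⟨c, rfl⟩ := Submodule.mem_span_singleton.mp hy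
  rcases eq_or_ne c 0 with rfl | hc
  · exact hp (by simpa [← hsy] using hs)
  · refine hx (Submodule.mem_sup.mpr ⟨-(c⁻¹ • s), S.neg_mem (S.smul_mem _ hs), c⁻¹ • p,
      Submodule.smul_mem _ _ (Submodule.mem_span_singleton_self p), ?_⟩)
    rw [← hsy, smul_add, smul_smul, inv_mul_cancel₀ hc, one_smul]
    abel

lemma notMem_span_sub {F : Type*} [Field F] {ι : Type} [Fintype ι] {p q : ι → F} (hp : p ≠ 0)
    (hq : q ∉ Submodule.span F {p}) : p ∉ Submodule.span F {q - p} := by
  intro h
  obtain ⟨s, hs⟩ := Submodule.mem_span_singleton.mp h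
  rcases eq_or_ne s 0 with rfl | hs0
  · exact hp (by simpa using hs.symm)
  · refine hq (Submodule.mem_span_singleton.mpr ⟨s⁻¹ + 1, ?_⟩)
    rw [add_smul, one_smul]
    conv_lhs => arg 1; rw [← hs, smul_smul, inv_mul_cancel₀ hs0, one_smul]
    exact sub_add_cancel q p

/-- A vector lying on the lines of the images of two independent vectors is zero. -/
lemma line_zero {F : Type*} [Field F] {ι : Type} [Fintype ι]
    {T : (ι → F) →ₗ[F] (ι → F)} (hT : Function.Injective T) {K : Submodule F (ι → F)}
    (hK : 2 ≤ Module.finrank F K) {x : ι → F}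
    (h : ∀ k ∈ K, k ≠ 0 → x ∈ Submodule.span F {T k}) : x = 0 := by
  obtain ⟨k, hk, hk0⟩ := Submodule.exists_mem_ne_zero_of_ne_bot
    (p := K) fun e => by rw [e, finrank_bot] at hK; omega
  obtain ⟨l, hl, hlk⟩ : ∃ l ∈ K, l ∉ Submodule.span F {k} := by
    by_contra! e
    have h3 := Submodule.finrank_mono (show K ≤ Submodule.span F {k} from e)
    rw [finrank_span_singleton hk0] at h3
    omega
  obtain ⟨p, hp⟩ := Submodule.mem_span_singleton.mp (h k hk hk0)
  obtain ⟨r, hr⟩ := Submodule.mem_span_singleton.mp (h l hl (fun e => hlk (e ▸ Submodule.zero_mem _)))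
  rcases eq_or_ne r 0 with rfl | hr0
  · simpa using hr.symm
  · refine absurd (Submodule.mem_span_singleton.mpr ⟨r⁻¹ * p, hT ?_⟩) hlk
    rw [map_smul, mul_smul, hp, ← hr, smul_smul, inv_mul_cancel₀ hr0, one_smul]

set_option maxHeartbeats 3200000

/-- Let F be the field with q² elements and n = 2k ≥ 13. Let D be a decomposition of F^n into two complementary subspaces of dimension k on each of which the standard unitary form vanishes identically. Then the elements of SU_n(q) preserving or interchanging the two subspaces form a maximal subgroup of SU_n(q). -/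
theorem result {F : Type*} [Field F] [Fintype F] (n q : ℕ) (hF : Fintype.card F = q ^ 2) (hn : 13 ≤ n) (k : ℕ) (hk : 2 * k = n) (D : Fin 2 → Submodule F (Fin n → F)) (hD : Cfsg.Geo.IsMDecomposition k D) (hts : ∀ i, Cfsg.Geo.IsTotallySingularFor (Cfsg.hermForm n F q) (D i)) : Cfsg.Geo.IsMaximalIn (Cfsg.GU n F q ⊓ Cfsg.Geo.specialLinear (Fin n) F) (Cfsg.Geo.decompositionStabilizer D ⊓ (Cfsg.GU n F q ⊓ Cfsg.Geo.specialLinear (Fin n) F)) := by
  obtain ⟨τ, -, hf⟩ := TransvectionUnitaryGen.herm_isUnitaryForm (n := n) hF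
  set f := Cfsg.hermForm n F q
  obtain ⟨-, hk0, hkd, hindep, htop⟩ := hD
  have hk7 : 7 ≤ k := by omega
  set U := D 0 with hUdef
  set W := D 1 with hWdef
  have hUts : Cfsg.Geo.IsTotallySingularFor f U := hts 0
  have hWts : Cfsg.Geo.IsTotallySingularFor f W := hts 1
  have hUk : Module.finrank F U = k := hkd 0
  have hWk : Module.finrank F W = k := hkd 1
  have hUW : IsCompl U W := by
    refine ⟨hindep.pairwiseDisjoint (show (0 : Fin 2) ≠ 1 by decide), codisjoint_iff.mpr (eq_top_iff.mpr ?_)⟩
    rw [← htop]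
    refine iSup_le fun i => ?_
    fin_cases i
    · exact le_sup_left
    · exact le_sup_right
  have hdis := Submodule.disjoint_def.mp hUW.disjoint
  set pU := U.projection W hUW
  set pW := W.projection U hUW.symm
  have hpUmem : ∀ x, pU x ∈ U := fun x => U.projection_apply_mem hUW x
  have hpWmem : ∀ x, pW x ∈ W := fun x => W.projection_apply_mem hUW.symm x
  have hpadd : ∀ x, pU x + pW x = x := fun x => U.projection_add_projection_eq_self hUW x
  have fU : ∀ {a} x, a ∈ U → f x a = f (pW x) a := fun {a} x ha => by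
    conv_lhs => rw [← hpadd x]
    rw [hf.add_left, hUts _ (hpUmem x) a ha, zero_add]
  have fW : ∀ {b} x, b ∈ W → f x b = f (pU x) b := fun {b} x hb => by
    conv_lhs => rw [← hpadd x]
    rw [hf.add_left, hWts _ (hpWmem x) b hb, add_zero]
  have skn : ∀ {x y}, f x y = 1 → f y x ≠ 0 := fun h => by
    rw [hf.herm, h, map_one]; exact one_ne_zero
  have sepU : ∀ {z Z}, z ∈ W → Z ≤ W → z ∉ Z → ∃ c ∈ U, (∀ x ∈ Z, f c x = 0) ∧ f c z = 1 :=
    fun hz hZ hzZ => dual_sep hf hUW hWts hz hZ hzZ
  have sepW : ∀ {z Z}, z ∈ U → Z ≤ U → z ∉ Z → ∃ c ∈ W, (∀ x ∈ Z, f c x = 0) ∧ f c z = 1 :=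
    fun hz hZ hzZ => dual_sep hf hUW.symm hUts hz hZ hzZ
  have spanLe1 : ∀ {X : Submodule F (Fin n → F)} {p}, p ∈ X → Submodule.span F {p} ≤ X :=
    fun hp => (Submodule.span_singleton_le_iff_mem _ _).mpr hp
  set K := Cfsg.GU n F q ⊓ Cfsg.Geo.specialLinear (Fin n) F
  set H := Cfsg.Geo.decompositionStabilizer D ⊓ K
  have hDne : ∀ i j, D i = D j → i = j := by
    intro i j he
    by_contra hne
    have hdis : Disjoint (D i) (D j) := hindep.pairwiseDisjoint hne
    rw [he, disjoint_self] at hdis
    have := hkd j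
    rw [hdis, finrank_bot] at this
    omega
  have hmkH : ∀ {h : GL (Fin n) F}, h ∈ K →
      (∀ i, ∃ j, ∀ v ∈ D i, (h : Matrix (Fin n) (Fin n) F) *ᵥ v ∈ D j) → h ∈ H := by
    intro h hh hmap
    choose σ hσ using hmap
    let T : (Fin n → F) →ₗ[F] (Fin n → F) := Matrix.toLin' (h : Matrix (Fin n) (Fin n) F)
    have hTi : Function.Injective T := fun a b hab =>
      act_injective h (by simpa [T, Matrix.toLin'_apply] using hab)
    have hTmap : ∀ i, (D i).map T = D (σ i) := fun i => by
      refine Submodule.eq_of_le_of_finrank_eq ?_ ?_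
      · rintro _ ⟨x, hx, rfl⟩
        rw [Matrix.toLin'_apply]
        exact hσ i x hx
      · rw [← (Submodule.equivMapOfInjective T hTi (D i)).finrank_eq, hkd, hkd]
    have hσi : Function.Injective σ := fun i j hij =>
      hDne i j (Submodule.map_injective_of_injective hTi (by rw [hTmap, hTmap, hij]))
    exact ⟨⟨Equiv.ofBijective σ (Finite.injective_iff_bijective.mp hσi), hTmap⟩, hh⟩
  have hS2H : ∀ {a b}, (a ∈ U ∧ b ∈ W ∨ a ∈ W ∧ b ∈ U) → f a b = 0 → sp2 f a b ∈ H := by
    intro a b hmem hab
    have haa : f a a = 0 := by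
      rcases hmem with h | h
      · exact hUts a h.1 a h.1
      · exact hWts a h.1 a h.1
    have hbb : f b b = 0 := by
      rcases hmem with h | h
      · exact hWts b h.2 b h.2
      · exact hUts b h.2 b h.2
    refine hmkH ⟨fun x y => sp2_iso hf haa hbb hab x y,
      Subgroup.mul_mem _ (ft_mem_sl f b a) (ft_mem_sl f a (-b))⟩ fun i => ⟨i, fun v hv => ?_⟩
    rw [sp2_act hf haa hab]
    fin_cases i
    · change v + f v a • b - f v b • a ∈ U
      rcases hmem with h | h
      · rw [hUts v hv a h.1, zero_smul, add_zero]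
        exact U.sub_mem hv (U.smul_mem _ h.1)
      · rw [hUts v hv b h.2, zero_smul, sub_zero]
        exact U.add_mem hv (U.smul_mem _ h.2)
    · change v + f v a • b - f v b • a ∈ W
      rcases hmem with h | h
      · rw [hWts v hv b h.2, zero_smul, sub_zero]
        exact W.add_mem hv (W.smul_mem _ h.2)
      · rw [hWts v hv a h.1, zero_smul, add_zero]
        exact W.sub_mem hv (W.smul_mem _ h.1)
  obtain ⟨c0, hc0, hc0'⟩ := TransvectionUnitary.exists_tz hf
  -- an element exchanging the two subspaces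
  obtain ⟨J, hJH, hJU, hJW⟩ : ∃ J ∈ H, (∀ v ∈ U, (J : Matrix (Fin n) (Fin n) F) *ᵥ v ∈ W) ∧
      (∀ v ∈ W, (J : Matrix (Fin n) (Fin n) F) *ᵥ v ∈ U) := by
    have swap : ∀ (d : ℕ) (A B : Submodule F (Fin n → F)), A ≤ U → B ≤ W → Module.finrank F A = d →
        (∀ a ∈ A, a ≠ 0 → ∃ b ∈ B, f a b ≠ 0) → (∀ b ∈ B, b ≠ 0 → ∃ a ∈ A, f b a ≠ 0) →
        ∃ h ∈ TransvectionUnitaryGen.transGroup τ f (A ⊔ B),
          (∀ v ∈ A, (h : Matrix (Fin n) (Fin n) F) *ᵥ v ∈ B) ∧
          (∀ v ∈ B, (h : Matrix (Fin n) (Fin n) F) *ᵥ v ∈ A) := by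
      intro d
      induction d with
      | zero =>
        intro A B _ _ hd _ hB
        have hA : A = ⊥ := Submodule.finrank_eq_zero.mp hd
        have hB0 : B = ⊥ := by
          rw [eq_bot_iff]
          intro b hb
          rw [Submodule.mem_bot]
          by_contra h0
          obtain ⟨a, ha, hba⟩ := hB b hb h0
          rw [hA, Submodule.mem_bot] at ha
          exact hba (by rw [ha, TransvectionUnitary.zero_right hf])
        refine ⟨1, Subgroup.one_mem _, fun v hv => ?_, fun v hv => ?_⟩
        · rw [hA, Submodule.mem_bot] at hv; simp [hv]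
        · rw [hB0, Submodule.mem_bot] at hv; simp [hv]
      | succ d ih =>
        intro A B hAU hBW hd hA hB
        obtain ⟨e, he, he0⟩ := Submodule.exists_mem_ne_zero_of_ne_bot (p := A) fun h => by
          rw [h, finrank_bot] at hd; omega
        obtain ⟨b, hb, heb⟩ := hA e he he0
        set r := τ (f e b)⁻¹ • b
        have hr : r ∈ B := B.smul_mem _ hb
        have her : f e r = 1 := by
          rw [TransvectionUnitary.smul_right hf, TransvectionUnitary.sigma_sigma hf, inv_mul_cancel₀ heb]
        have hre : f r e = 1 := by rw [hf.herm, her, map_one]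
        have hee : f e e = 0 := hUts e (hAU he) e (hAU he)
        have hrr : f r r = 0 := hWts r (hBW hr) r (hBW hr)
        set A' := A ⊓ TransvectionUnitary.perp hf (Submodule.span F {r})
        set B' := B ⊓ TransvectionUnitary.perp hf (Submodule.span F {e})
        have hA'r : ∀ a ∈ A', f a r = 0 := fun a ha =>
          (TransvectionUnitary.mem_perp_singleton hf).mp ha.2
        have hB'e : ∀ a ∈ B', f a e = 0 := fun a ha =>
          (TransvectionUnitary.mem_perp_singleton hf).mp ha.2
        have hdecA : ∀ a ∈ A, a - f a r • e ∈ A' := fun a ha =>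
          ⟨A.sub_mem ha (A.smul_mem _ he), (TransvectionUnitary.mem_perp_singleton hf).mpr (by
            rw [TransvectionUnitary.sub_left hf, hf.smul_left, her, mul_one, sub_self])⟩
        have hdecB : ∀ a ∈ B, a - f a e • r ∈ B' := fun a ha =>
          ⟨B.sub_mem ha (B.smul_mem _ hr), (TransvectionUnitary.mem_perp_singleton hf).mpr (by
            rw [TransvectionUnitary.sub_left hf, hf.smul_left, hre, mul_one, sub_self])⟩
        have hd' : Module.finrank F A' = d := by
          have h1 : Module.finrank F A ≤ Module.finrank F A' + Module.finrank F (Submodule.span F {r}) :=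
            TransvectionUnitaryGen.finrank_inf_perp hf A _
          have h2 : A' < A := lt_of_le_of_ne inf_le_left fun h => by
            have h' := hA'r e (h ▸ he)
            rw [her] at h'
            exact one_ne_zero h'
          have h3 := Submodule.finrank_lt_finrank_of_lt h2
          have h4 := fr1 r
          omega
        obtain ⟨h, hh, hhA, hhB⟩ := ih A' B' (inf_le_left.trans hAU) (inf_le_left.trans hBW) hd'
          (fun a ha ha0 => by
            obtain ⟨b, hb, hab⟩ := hA a ha.1 ha0
            refine ⟨b - f b e • r, hdecB b hb, ?_⟩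
            rwa [TransvectionUnitary.sub_right hf, TransvectionUnitary.smul_right hf, hA'r a ha, mul_zero,
              sub_zero])
          (fun b hb hb0 => by
            obtain ⟨a, ha, hba⟩ := hB b hb.1 hb0
            refine ⟨a - f a r • e, hdecA a ha, ?_⟩
            rwa [TransvectionUnitary.sub_right hf, TransvectionUnitary.smul_right hf, hB'e b hb, mul_zero,
              sub_zero])
        have hperp : ∀ x, x = e ∨ x = r → x ∈ TransvectionUnitary.perp hf (A' ⊔ B') := by
          intro x hx y hy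
          obtain ⟨a, ha, b, hb, rfl⟩ := Submodule.mem_sup.mp hy
          rw [TransvectionUnitary.add_right hf]
          rcases hx with rfl | rfl
          · rw [hUts _ (hAU he) _ (hAU ha.1), TransvectionUnitary.skew_zero hf (hB'e b hb), add_zero]
          · rw [hWts _ (hBW hr) _ (hBW hb.1), TransvectionUnitary.skew_zero hf (hA'r a ha), add_zero]
        obtain ⟨-, -, -, hfixh⟩ := TransvectionUnitaryGen.transGroup_props hf hh
        have hhe := hfixh e (hperp e (Or.inl rfl))
        have hhr := hfixh r (hperp r (Or.inr rfl))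
        have htz : τ (-c0⁻¹) = -(-c0⁻¹) := by rw [map_neg, map_inv₀, hc0', inv_neg]
        set w := ft f e (τ c0 • e) * ft f r (τ (-c0⁻¹) • r) * ft f e (τ c0 • e)
        have hsup : A' ⊔ B' ≤ A ⊔ B := sup_le_sup inf_le_left inf_le_left
        have hhbig : h ∈ TransvectionUnitaryGen.transGroup τ f (A ⊔ B) :=
          (TransvectionUnitaryGen.transGroup_le hf fun x hx c hxx hc =>
            TransvectionUnitaryGen.ut_mem hf (hsup hx) hxx hc) hh
        have hwmem : w ∈ TransvectionUnitaryGen.transGroup τ f (A ⊔ B) :=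
          Subgroup.mul_mem _ (Subgroup.mul_mem _
            (TransvectionUnitaryGen.ut_mem hf (Submodule.mem_sup_left he) hee hc0')
            (TransvectionUnitaryGen.ut_mem hf (Submodule.mem_sup_right hr) hrr htz))
            (TransvectionUnitaryGen.ut_mem hf (Submodule.mem_sup_left he) hee hc0')
        have hwe : (w : Matrix (Fin n) (Fin n) F) *ᵥ e = (-c0⁻¹) • r := by
          simp only [w, mul_act, TransvectionUnitary.ut_act hf hee, TransvectionUnitary.ut_act hf hrr,
            hf.add_left, hf.smul_left, hee, her, hre, hrr, mul_zero, zero_smul, add_zero, mul_one,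
            zero_add, mul_neg, mul_inv_cancel₀ hc0]
          module
        have hwr : (w : Matrix (Fin n) (Fin n) F) *ᵥ r = c0 • e := by
          simp only [w, mul_act, TransvectionUnitary.ut_act hf hee, TransvectionUnitary.ut_act hf hrr,
            hf.add_left, hf.smul_left, hee, her, hre, hrr, mul_zero, zero_smul, add_zero, mul_one,
            zero_add, neg_mul, inv_mul_cancel₀ hc0]
          module
        have hwfix : ∀ x, f x e = 0 → f x r = 0 → (w : Matrix (Fin n) (Fin n) F) *ᵥ x = x := by
          intro x hxe hxr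
          simp only [w, mul_act, TransvectionUnitary.ut_act hf hee, TransvectionUnitary.ut_act hf hrr, hxe, hxr,
            mul_zero, zero_smul, add_zero]
        refine ⟨w * h, Subgroup.mul_mem _ hwmem hhbig, fun v hv => ?_, fun v hv => ?_⟩
        · have hv' := hdecA v hv
          rw [← sub_add_cancel v (f v r • e), mul_act, Matrix.mulVec_add, Matrix.mulVec_smul, hhe,
            Matrix.mulVec_add, Matrix.mulVec_smul, hwe,
            hwfix _ (hB'e _ (hhA _ hv')) (hWts _ (hBW (hhA _ hv').1) _ (hBW hr))]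
          exact B.add_mem (hhA _ hv').1 (B.smul_mem _ (B.smul_mem _ hr))
        · have hv' := hdecB v hv
          rw [← sub_add_cancel v (f v e • r), mul_act, Matrix.mulVec_add, Matrix.mulVec_smul, hhr,
            Matrix.mulVec_add, Matrix.mulVec_smul, hwr,
            hwfix _ (hUts _ (hAU (hhB _ hv').1) _ (hAU he)) (hA'r _ (hhB _ hv'))]
          exact A.add_mem (hhB _ hv').1 (A.smul_mem _ (A.smul_mem _ he))
    obtain ⟨h, hh, h1, h2⟩ := swap k U W le_rfl le_rfl hUk
      (fun a ha ha0 => by
        obtain ⟨d, hd, -, hda⟩ := sepW ha (bot_le : ⊥ ≤ U) (by simpa using ha0)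
        exact ⟨d, hd, skn hda⟩)
      (fun b hb hb0 => by
        obtain ⟨d, hd, -, hdb⟩ := sepU hb (bot_le : ⊥ ≤ W) (by simpa using hb0)
        exact ⟨d, hd, skn hdb⟩)
    obtain ⟨hi, hs, -, -⟩ := TransvectionUnitaryGen.transGroup_props hf hh
    refine ⟨h, hmkH ⟨fun x y => hi x y, hs⟩ fun i => ?_, h1, h2⟩
    fin_cases i
    · exact ⟨1, h1⟩
    · exact ⟨0, h2⟩
  obtain ⟨u0, hu0, hu00⟩ := Submodule.exists_mem_ne_zero_of_ne_bot (p := U) fun e => by
    rw [e, finrank_bot] at hUk; omega
  obtain ⟨w0, hw0, -, hwu0⟩ := sepW hu0 (bot_le : ⊥ ≤ U) (by simpa using hu00)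
  refine ⟨lt_of_le_of_ne inf_le_right ?_, fun M hHM hMK => ?_⟩
  · intro he
    have huw : f u0 w0 = 1 := by rw [hf.herm, hwu0, map_one]
    set b := u0 + c0 • w0
    have hbb : f b b = 0 := by
      simp only [b, hf.add_left, TransvectionUnitary.add_right hf, hf.smul_left,
        TransvectionUnitary.smul_right hf, hUts u0 hu0 u0 hu0, hWts w0 hw0 w0 hw0, huw, hwu0, hc0']
      ring
    obtain ⟨u1, hu1, hu10⟩ := Submodule.exists_mem_ne_zero_of_ne_bot
      (p := U ⊓ TransvectionUnitary.perp hf (Submodule.span F {w0})) fun h => by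
        have h1 := TransvectionUnitaryGen.finrank_inf_perp hf U (Submodule.span F {w0})
        have h2 := fr1 w0
        rw [h, finrank_bot] at h1
        omega
    have ht : ft f b (τ c0 • b) ∈ H := he.symm ▸ (⟨fun x y =>
      TransvectionUnitary.ut_preserves hf hbb hc0' x y, ft_mem_sl f b _⟩ : ft f b (τ c0 • b) ∈ K)
    obtain ⟨σ, hσ⟩ := ht.1
    have hσ0 : σ 0 = 0 := by
      by_contra h
      have h' : σ 0 = 1 := by omega
      have hfix : (ft f b (τ c0 • b) : Matrix (Fin n) (Fin n) F) *ᵥ u1 = u1 := by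
        rw [TransvectionUnitary.ut_act hf hbb, TransvectionUnitary.add_right hf, hUts u1 hu1.1 u0 hu0,
          TransvectionUnitary.smul_right hf, (TransvectionUnitary.mem_perp_singleton hf).mp hu1.2]
        simp
      have : u1 ∈ D (σ 0) := by
        rw [← hσ 0]
        exact ⟨u1, hu1.1, (Matrix.toLin'_apply _ _).trans hfix⟩
      rw [h'] at this
      exact hu10 (hdis u1 hu1.1 this)
    have h1 : u0 + (c0 * τ c0) • (u0 + c0 • w0) ∈ D (σ 0) := by
      rw [← hσ 0]
      refine ⟨u0, hu0, ?_⟩
      rw [Matrix.toLin'_apply, TransvectionUnitary.ut_act hf hbb, TransvectionUnitary.add_right hf,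
        hUts u0 hu0 u0 hu0, TransvectionUnitary.smul_right hf, huw, zero_add, mul_one]
    rw [hσ0, ← hUdef, smul_add, ← add_assoc, U.add_mem_iff_right (U.add_mem hu0 (U.smul_mem _ hu0)),
      smul_smul] at h1
    have h2 := hdis _ h1 (W.smul_mem _ hw0)
    rw [smul_eq_zero] at h2
    rcases h2 with h2 | h2
    · simp [hc0, hc0'] at h2
    · rw [h2, TransvectionUnitary.zero_right hf] at huw
      exact zero_ne_one huw
  by_cases hMH : M ≤ Cfsg.Geo.decompositionStabilizer D
  · exact Or.inl (le_antisymm (le_inf hMH hMK) hHM)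
  refine Or.inr (le_antisymm hMK ?_)
  obtain ⟨g, hgM, hgn⟩ := Set.not_subset.mp hMH
  have hiso : ∀ {h : GL (Fin n) F}, h ∈ M → ∀ x y,
      f ((h : Matrix (Fin n) (Fin n) F) *ᵥ x) ((h : Matrix (Fin n) (Fin n) F) *ᵥ y) = f x y :=
    fun hh x y => (hMK hh).1 x y
  have hconjS2 : ∀ {h : GL (Fin n) F}, h ∈ M → ∀ {a b}, f a b = 0 → sp2 f a b ∈ M →
      sp2 f ((h : Matrix (Fin n) (Fin n) F) *ᵥ a) ((h : Matrix (Fin n) (Fin n) F) *ᵥ b) ∈ M := by
    intro h hh a b hab hM
    have h1 : h * sp2 f a b * h⁻¹ =
        sp2 f ((h : Matrix (Fin n) (Fin n) F) *ᵥ a) ((h : Matrix (Fin n) (Fin n) F) *ᵥ b) := by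
      rw [sp2, sp2, ← Matrix.mulVec_neg, ← TransvectionUnitary.ft_conj hf (hiso hh)
        (TransvectionUnitary.skew_zero hf hab), ← TransvectionUnitary.ft_conj hf (hiso hh)
        (by rw [TransvectionUnitary.neg_right hf, hab, neg_zero])]
      group
    rw [← h1]
    exact M.mul_mem (M.mul_mem hh hM) (M.inv_mem hh)
  set T := Matrix.toLin' (g : Matrix (Fin n) (Fin n) F)
  have hTi : Function.Injective T := fun a b hab =>
    act_injective g (by simpa [T, Matrix.toLin'_apply] using hab)
  have hTf : ∀ a b, f (T a) (T b) = f a b := fun a b => by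
    simp only [T, Matrix.toLin'_apply]
    exact hiso hgM a b
  obtain ⟨l, hl⟩ := TransvectionUnitary.exists_trace_eq hf (a := (1 : F)) (map_one τ)
  have hval : ∀ (c δ : F), τ c = -c → δ ≠ 0 → ∃ s, τ s * δ - s * τ δ = c := fun c δ hc hδ =>
    ⟨τ (c * l / δ), by
      rw [TransvectionUnitary.sigma_sigma hf, div_mul_cancel₀ _ hδ, ← map_mul, div_mul_cancel₀ _ hδ,
        map_mul, hc]
      linear_combination c * hl⟩
  -- a full transvection group in M
  obtain ⟨A, hA0, hAA, hAM⟩ :
      ∃ A, A ≠ 0 ∧ f A A = 0 ∧ ∀ c, τ c = -c → ft f A (τ c • A) ∈ M := by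
    by_contra! hcon
    have key : ∀ A B, A ≠ 0 → f A A = 0 → f A B = 0 → sp2 f A B ∈ M →
        (∀ c : F, τ c = -c → c ≠ 0 → ∃ B'', f A B'' = 0 ∧ sp2 f A B'' ∈ M ∧ f B B'' - f B'' B = c) →
        False := by
      intro A B hA hAA hAB hM hB''
      obtain ⟨c, hc, hcM⟩ := hcon A hA hAA
      rcases eq_or_ne c 0 with rfl | hc0
      · apply hcM
        have : ft f A (τ 0 • A) = 1 := gl_ext fun x => by
          rw [TransvectionUnitary.ut_act hf hAA, one_act, zero_mul, zero_smul, add_zero]
        rw [this]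
        exact M.one_mem
      obtain ⟨B'', hAB'', hM'', hval⟩ := hB'' c hc hc0
      apply hcM
      have hid : sp2 f A B * sp2 f A B'' = ft f A (τ c • A) * (sp2 f A B'' * sp2 f A B) := gl_ext fun x => by
        simp only [mul_act, sp2_act hf hAA hAB, sp2_act hf hAA hAB'', TransvectionUnitary.ut_act hf hAA,
          TransvectionUnitary.sub_left hf, hf.add_left, hf.smul_left, hAA, hAB, hAB'',
          TransvectionUnitary.skew_zero hf hAB, TransvectionUnitary.skew_zero hf hAB'', ← hval]
        module
      have h := M.mul_mem (M.mul_mem hM hM'') (M.inv_mem (M.mul_mem hM'' hM))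
      rwa [hid, mul_inv_cancel_right] at h
    have memX : ∀ (X Y : Submodule F (Fin n → F)), (X = U ∧ Y = W ∨ X = W ∧ Y = U) → ∀ A B,
        f A B = 0 → f B B = 0 → A ∈ X → A ≠ 0 → sp2 f A B ∈ M → ∀ d ∈ Y, f A d = 0 → f B d = 0 := by
      intro X Y hXY A B hAB hBB hA hA0 hM d hd hAd
      by_contra hBd
      have hmem : ∀ s : F, A ∈ U ∧ s • d ∈ W ∨ A ∈ W ∧ s • d ∈ U := fun s => by
        rcases hXY with ⟨rfl, rfl⟩ | ⟨rfl, rfl⟩
        · exact Or.inl ⟨hA, W.smul_mem _ hd⟩
        · exact Or.inr ⟨hA, U.smul_mem _ hd⟩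
      have hAA : f A A = 0 := by
        rcases hmem 1 with h | h
        · exact hUts A h.1 A h.1
        · exact hWts A h.1 A h.1
      have hdd : f d d = 0 := by
        rcases hmem 1 with h | h
        · rw [one_smul] at h; exact hWts d h.2 d h.2
        · rw [one_smul] at h; exact hUts d h.2 d h.2
      refine key A B hA0 hAA hAB hM fun c hc _ => ?_
      obtain ⟨s, hs⟩ := hval c (f B d) hc hBd
      have h0 : f A (s • d) = 0 := by rw [TransvectionUnitary.smul_right hf, hAd, mul_zero]
      refine ⟨s • d, h0, hHM (hS2H (hmem s) h0), ?_⟩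
      rw [TransvectionUnitary.smul_right hf, hf.smul_left, ← TransvectionUnitary.sigma_f hf B d, hs]
    have memU : ∀ A B, f A B = 0 → f B B = 0 → A ∈ U → A ≠ 0 → sp2 f A B ∈ M →
        pU B ∈ Submodule.span F {A} := by
      intro A B hAB hBB hA hA0 hM
      by_contra hnot
      obtain ⟨d, hd, hdA, hdB⟩ := sepW (hpUmem B) (spanLe1 hA) hnot
      refine skn hdB ?_
      rw [← fW B hd]
      exact memX U W (Or.inl ⟨rfl, rfl⟩) A B hAB hBB hA hA0 hM d hd
        (TransvectionUnitary.skew_zero hf (hdA A (Submodule.mem_span_singleton_self A)))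
    have memW : ∀ A B, f A B = 0 → f B B = 0 → A ∈ W → A ≠ 0 → sp2 f A B ∈ M →
        pW B ∈ Submodule.span F {A} := by
      intro A B hAB hBB hA hA0 hM
      by_contra hnot
      obtain ⟨d, hd, hdA, hdB⟩ := sepU (hpWmem B) (spanLe1 hA) hnot
      refine skn hdB ?_
      rw [← fU B hd]
      exact memX W U (Or.inr ⟨rfl, rfl⟩) A B hAB hBB hA hA0 hM d hd
        (TransvectionUnitary.skew_zero hf (hdA A (Submodule.mem_span_singleton_self A)))
    have generic : ∀ A B, A ≠ 0 → f A A = 0 → f B B = 0 → f A B = 0 → sp2 f A B ∈ M →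
        pW B ∈ Submodule.span F {pW A} ∨ pU B ∈ Submodule.span F {pU A} := by
      intro A B hA0 hAA hBB hAB hM
      by_contra! hnot
      obtain ⟨e, he, heA, heB⟩ := sepU (hpWmem B) (spanLe1 (hpWmem A)) hnot.1
      have heA' : f A e = 0 := by
        rw [fU A he]
        exact TransvectionUnitary.skew_zero hf (heA _ (Submodule.mem_span_singleton_self _))
      have heB' : f B e ≠ 0 := by rw [fU B he]; exact skn heB
      -- members of U orthogonal to A, not to B, avoiding a small subspace
      have pickU : ∀ S : Submodule F (Fin n → F), Module.finrank F S ≤ 4 →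
          ∃ c ∈ U, f A c = 0 ∧ f B c ≠ 0 ∧ c ∉ S := by
        intro S hS
        by_cases h : e ∈ S
        · obtain ⟨z, ⟨hzU, hz⟩, hzs⟩ : ∃ z ∈ U ⊓ TransvectionUnitary.perp hf (Submodule.span F {A, B}),
              z ∉ S := by
            by_contra! hh
            have h1 := Submodule.finrank_mono (show _ ≤ S from hh)
            have h2 := TransvectionUnitaryGen.finrank_inf_perp hf U (Submodule.span F {A, B})
            have h3 := fr2 A B
            omega
          obtain ⟨hzA, hzB⟩ := (TransvectionUnitary.mem_perp_pair hf).mp hz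
          refine ⟨e + z, U.add_mem he hzU, ?_, ?_, fun h' => hzs ?_⟩
          · rw [TransvectionUnitary.add_right hf, heA', TransvectionUnitary.skew_zero hf hzA, add_zero]
          · rwa [TransvectionUnitary.add_right hf, TransvectionUnitary.skew_zero hf hzB, add_zero]
          · simpa using S.sub_mem h' h
        · exact ⟨e, he, heA', heB', h⟩
      set uA := pU A
      set uB := pU B
      set S2 := Submodule.span F {uA} ⊔ Submodule.span F {uB}
      have hS2 : Module.finrank F S2 ≤ 2 :=
        (Submodule.finrank_add_le_finrank_add_finrank _ _).trans (Nat.add_le_add (fr1 _) (fr1 _))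
      obtain ⟨c, hc, hcA, hcB, hcs⟩ := pickU S2 (by omega)
      set S3 := Submodule.span F {uA} ⊔ Submodule.span F {c}
      have hS3U : S3 ≤ U := sup_le (spanLe1 (hpUmem A)) (spanLe1 hc)
      have huB3 : uB ∉ S3 := notMem_sup_span hnot.2 hcs
      set S4 := S3 ⊔ Submodule.span F {uB}
      have hS4 : Module.finrank F S4 ≤ 4 := by
        have g1 : Module.finrank F S4 ≤ Module.finrank F S3 + Module.finrank F (Submodule.span F {uB}) :=
          Submodule.finrank_add_le_finrank_add_finrank _ _
        have g2 : Module.finrank F S3 ≤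
            Module.finrank F (Submodule.span F {uA}) + Module.finrank F (Submodule.span F {c}) :=
          Submodule.finrank_add_le_finrank_add_finrank _ _
        have g3 := fr1 uA
        have g4 := fr1 uB
        have g5 := fr1 c
        omega
      obtain ⟨c2, hc2, hc2A, hc2B, hc2s⟩ := pickU S4 hS4
      obtain ⟨d2, hd2, hd2z, hd2B⟩ := sepW (hpUmem B) (sup_le hS3U (spanLe1 hc2)) (notMem_sup_span huB3 hc2s)
      obtain ⟨d1, hd1, hd1z, hd1B⟩ := sepW (hpUmem B) hS3U huB3
      obtain ⟨d3, hd3, hd3z, hd3c⟩ := sepW hc2 (sup_le hS3U (spanLe1 (hpUmem B))) hc2s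
      obtain ⟨d, hd, hdS, hdB, hdc2⟩ :
          ∃ d ∈ W, (∀ x ∈ S3, f d x = 0) ∧ f d uB = 1 ∧ f d c2 ≠ 0 := by
        by_cases h : f d1 c2 = 0
        · refine ⟨d1 + d3, W.add_mem hd1 hd3, fun x hx => ?_, ?_, ?_⟩
          · rw [hf.add_left, hd1z x hx, hd3z x (Submodule.mem_sup_left hx), add_zero]
          · rw [hf.add_left, hd1B, hd3z uB (Submodule.mem_sup_right (Submodule.mem_span_singleton_self _)),
              add_zero]
          · rw [hf.add_left, h, hd3c, zero_add]; exact one_ne_zero
        · exact ⟨d1, hd1, hd1z, hd1B, h⟩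
      have hAd : f A d = 0 := by
        rw [fW A hd]
        exact TransvectionUnitary.skew_zero hf (hdS _ (Submodule.mem_sup_left (Submodule.mem_span_singleton_self _)))
      have hAd2 : f A d2 = 0 := by
        rw [fW A hd2]
        exact TransvectionUnitary.skew_zero hf (hd2z _ (Submodule.mem_sup_left
          (Submodule.mem_sup_left (Submodule.mem_span_singleton_self _))))
      have hBd : f B d = 1 := by rw [fW B hd, hf.herm, hdB, map_one]
      have hBd2 : f B d2 = 1 := by rw [fW B hd2, hf.herm, hd2B, map_one]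
      have hcd : f c d = 0 := TransvectionUnitary.skew_zero hf
        (hdS _ (Submodule.mem_sup_right (Submodule.mem_span_singleton_self _)))
      have hcd2 : f c d2 = 0 := TransvectionUnitary.skew_zero hf
        (hd2z _ (Submodule.mem_sup_left (Submodule.mem_sup_right (Submodule.mem_span_singleton_self _))))
      have hc2d2 : f c2 d2 = 0 := TransvectionUnitary.skew_zero hf
        (hd2z _ (Submodule.mem_sup_right (Submodule.mem_span_singleton_self _)))
      have hdd : f d d = 0 := hWts d hd d hd
      have hd2d2 : f d2 d2 = 0 := hWts d2 hd2 d2 hd2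
      have hcc : f c c = 0 := hUts c hc c hc
      set h1 := sp2 f c d
      have hh1 : h1 ∈ M := hHM (hS2H (Or.inl ⟨hc, hd⟩) hcd)
      have hh1A : (h1 : Matrix (Fin n) (Fin n) F) *ᵥ A = A := by
        rw [sp2_act hf hcc hcd, hcA, hAd]; simp
      have hh1B : (h1 : Matrix (Fin n) (Fin n) F) *ᵥ B = B + f B c • d - c := by
        rw [sp2_act hf hcc hcd, hBd, one_smul]
      have hMB1 := hconjS2 hh1 hAB hM
      rw [hh1A] at hMB1
      set B1 := (h1 : Matrix (Fin n) (Fin n) F) *ᵥ B
      have hAB1 : f A B1 = 0 := by rw [← hh1A, hiso hh1, hAB]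
      have hB1B1 : f B1 B1 = 0 := by rw [hiso hh1, hBB]
      have hB'' : ∀ s : F, ∃ B'', f A B'' = 0 ∧ sp2 f A B'' ∈ M ∧
          B'' = B + (τ s * f B c2) • d2 - s • c2 := by
        intro s
        have hs : f (s • c2) d2 = 0 := by rw [hf.smul_left, hc2d2, mul_zero]
        have hss : f (s • c2) (s • c2) = 0 := hUts _ (U.smul_mem _ hc2) _ (U.smul_mem _ hc2)
        have hh2 : sp2 f (s • c2) d2 ∈ M := hHM (hS2H (Or.inl ⟨U.smul_mem _ hc2, hd2⟩) hs)
        have hA2 : (sp2 f (s • c2) d2 : Matrix (Fin n) (Fin n) F) *ᵥ A = A := by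
          rw [sp2_act hf hss hs, TransvectionUnitary.smul_right hf, hc2A, hAd2]; simp
        have hB2 := hconjS2 hh2 hAB hM
        rw [hA2] at hB2
        refine ⟨_, ?_, hB2, ?_⟩
        · have := hiso hh2 A B
          rwa [hA2, hAB] at this
        · rw [sp2_act hf hss hs, hBd2, one_smul, TransvectionUnitary.smul_right hf]
      have e1 : f d B = 1 := by rw [hf.herm, hBd, map_one]
      have e2 : f d2 B = 1 := by rw [hf.herm, hBd2, map_one]
      have e3 := hf.herm c B
      have e4 := hf.herm c2 B
      have e5 := hf.herm c2 d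
      have e6 : f d2 c = 0 := TransvectionUnitary.skew_zero hf hcd2
      by_cases h2 : (2 : F) = 0
      · refine key A B1 hA0 hAA hAB1 hMB1 fun c' hc' _ => ?_
        obtain ⟨s, hs⟩ := hval c' (-(f B c * f d c2)) hc' (neg_ne_zero.mpr (mul_ne_zero hcB hdc2))
        obtain ⟨B'', hA'', hM'', rfl⟩ := hB'' s
        refine ⟨_, hA'', hM'', ?_⟩
        rw [← hs, hh1B]
        simp only [TransvectionUnitary.sub_left hf, TransvectionUnitary.sub_right hf, hf.add_left,
          TransvectionUnitary.add_right hf, hf.smul_left, TransvectionUnitary.smul_right hf, hBB, hBd,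
          hBd2, hcd2, hUts c hc c2 hc2, hUts c2 hc2 c hc, hWts d hd d2 hd2, hWts d2 hd2 d hd, map_mul,
          map_neg, TransvectionUnitary.sigma_sigma hf, e1, e2, e3, e4, e5, e6]
        linear_combination (s * τ (f B c2) - τ s * f B c2 + f B c - τ (f B c)) * h2
      · refine key A B hA0 hAA hAB hM fun c' hc' _ => ?_
        obtain ⟨s, hs⟩ := hval c' (-(2 * f B c2)) hc' (neg_ne_zero.mpr (mul_ne_zero h2 hc2B))
        obtain ⟨B'', hA'', hM'', rfl⟩ := hB'' s
        refine ⟨_, hA'', hM'', ?_⟩
        rw [← hs]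
        simp only [TransvectionUnitary.sub_left hf, TransvectionUnitary.sub_right hf, hf.add_left,
          TransvectionUnitary.add_right hf, hf.smul_left, TransvectionUnitary.smul_right hf, hBB,
          hBd2, map_mul, map_neg, map_ofNat, TransvectionUnitary.sigma_sigma hf, e2, e4]
        ring
    -- analyse the images of U and W under g
    obtain ⟨a0, ha0, ha00⟩ : ∃ a ∈ U, a ≠ 0 := ⟨u0, hu0, hu00⟩
    set X := W ⊓ TransvectionUnitary.perp hf (Submodule.span F {a0})
    have hXperp : ∀ b ∈ X, f a0 b = 0 := fun b hb =>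
      TransvectionUnitary.skew_zero hf ((TransvectionUnitary.mem_perp_singleton hf).mp hb.2)
    have hX : k ≤ Module.finrank F X + 1 := by
      have h1 : Module.finrank F W ≤ Module.finrank F X + Module.finrank F (Submodule.span F {a0}) :=
        TransvectionUnitaryGen.finrank_inf_perp hf W _
      have h2 := fr1 a0
      omega
    have hgS2 : ∀ {a b}, f a b = 0 → a ∈ U ∧ b ∈ W ∨ a ∈ W ∧ b ∈ U → sp2 f (T a) (T b) ∈ M := by
      intro a b hab h
      simp only [T, Matrix.toLin'_apply]
      exact hconjS2 hgM hab (hHM (hS2H h hab))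
    have hgen : ∀ b ∈ X, b ∈ (Submodule.span F {pW (T a0)}).comap (pW.comp T) ∨
        b ∈ (Submodule.span F {pU (T a0)}).comap (pU.comp T) := fun b hb0 =>
      generic (T a0) (T b) (fun e => ha00 (hTi (by rw [e, map_zero])))
        ((hTf a0 a0).trans (hUts _ ha0 _ ha0)) ((hTf b b).trans (hWts _ hb0.1 _ hb0.1))
        ((hTf a0 b).trans (hXperp b hb0)) (hgS2 (hXperp b hb0) (Or.inl ⟨ha0, hb0.1⟩))
    have hsplit : ∀ (φ : (Fin n → F) →ₗ[F] (Fin n → F)) t, (∀ x ∈ X, φ x ∈ Submodule.span F {t}) →
        Module.finrank F X ≤ Module.finrank F (X ⊓ LinearMap.ker φ : Submodule F (Fin n → F)) + 1 := by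
      intro φ t hX'
      have h1 := LinearMap.finrank_range_add_finrank_ker (φ.comp X.subtype)
      have h3 : Module.finrank F (LinearMap.range (φ.comp X.subtype)) ≤ 1 := by
        refine (Submodule.finrank_mono (?_ : _ ≤ Submodule.span F {t})).trans (fr1 t)
        rintro _ ⟨x, rfl⟩
        exact hX' x x.2
      have h4 : LinearMap.ker (φ.comp X.subtype) = (X ⊓ LinearMap.ker φ).comap X.subtype := by
        ext x; simp
      rw [h4, (Submodule.comapSubtypeEquivOfLe inf_le_left).finrank_eq] at h1
      omega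
    have hin : ∀ x, pU x = 0 → x ∈ W := fun x h => by
      have := hpadd x; rw [h, zero_add] at this; exact this ▸ hpWmem x
    have hin' : ∀ x, pW x = 0 → x ∈ U := fun x h => by
      have := hpadd x; rw [h, add_zero] at this; exact this ▸ hpUmem x
    have hperp2 : ∀ {Y : Submodule F (Fin n → F)} a, 3 ≤ Module.finrank F Y →
        2 ≤ Module.finrank F (Y ⊓ TransvectionUnitary.perp hf (Submodule.span F {a}) : Submodule F (Fin n → F)) :=
      fun {Y} a hY => by
        have h1 := TransvectionUnitaryGen.finrank_inf_perp hf Y (Submodule.span F {a})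
        have h2 := fr1 a
        omega
    have hne : ∀ {x}, x ≠ 0 → T x ≠ 0 := fun hx e => hx (hTi (by rw [e, map_zero]))
    apply hgn
    refine (hmkH (hMK hgM) fun i => ?_).1
    rcases TransvectionSymp.le_or_le_of_forall hgen with h | h
    · have hK := hsplit (pW.comp T) _ h
      set Kk := X ⊓ LinearMap.ker (pW.comp T)
      have hgU : ∀ a ∈ U, T a ∈ W := fun a ha => hin _ (line_zero hTi
        (hperp2 a (show 3 ≤ Module.finrank F Kk by omega)) fun p hp hp0 => by
          have hab : f p a = 0 := (TransvectionUnitary.mem_perp_singleton hf).mp hp.2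
          exact memU (T p) (T a) ((hTf p a).trans hab) ((hTf a a).trans (hUts _ ha _ ha))
            (hin' _ hp.1.2) (hne hp0) (hgS2 hab (Or.inr ⟨hp.1.1.1, ha⟩)))
      have hgW : ∀ b ∈ W, T b ∈ U := fun b hb => hin' _ (line_zero hTi
        (hperp2 b (show 3 ≤ Module.finrank F U by omega)) fun p hp hp0 => by
          have hab : f p b = 0 := (TransvectionUnitary.mem_perp_singleton hf).mp hp.2
          exact memW (T p) (T b) ((hTf p b).trans hab) ((hTf b b).trans (hWts _ hb _ hb))
            (hgU p hp.1) (hne hp0) (hgS2 hab (Or.inl ⟨hp.1, hb⟩)))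
      fin_cases i
      · exact ⟨1, fun v hv => by simpa [T] using hgU v hv⟩
      · exact ⟨0, fun v hv => by simpa [T] using hgW v hv⟩
    · have hK := hsplit (pU.comp T) _ h
      set Kk := X ⊓ LinearMap.ker (pU.comp T)
      have hgU : ∀ a ∈ U, T a ∈ U := fun a ha => hin' _ (line_zero hTi
        (hperp2 a (show 3 ≤ Module.finrank F Kk by omega)) fun p hp hp0 => by
          have hab : f p a = 0 := (TransvectionUnitary.mem_perp_singleton hf).mp hp.2
          exact memW (T p) (T a) ((hTf p a).trans hab) ((hTf a a).trans (hUts _ ha _ ha))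
            (hin _ hp.1.2) (hne hp0) (hgS2 hab (Or.inr ⟨hp.1.1.1, ha⟩)))
      have hgW : ∀ b ∈ W, T b ∈ W := fun b hb => hin _ (line_zero hTi
        (hperp2 b (show 3 ≤ Module.finrank F U by omega)) fun p hp hp0 => by
          have hab : f p b = 0 := (TransvectionUnitary.mem_perp_singleton hf).mp hp.2
          exact memU (T p) (T b) ((hTf p b).trans hab) ((hTf b b).trans (hWts _ hb _ hb))
            (hgU p hp.1) (hne hp0) (hgS2 hab (Or.inl ⟨hp.1, hb⟩)))
      fin_cases i
      · exact ⟨0, fun v hv => by simpa [T] using hgU v hv⟩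
      · exact ⟨1, fun v hv => by simpa [T] using hgW v hv⟩
  -- growing the set of centres
  let S : (Fin n → F) → Prop := fun v => f v v = 0 ∧ ∀ c, τ c = -c → ft f v (τ c • v) ∈ M
  have hSconj : ∀ {h : GL (Fin n) F}, h ∈ M → ∀ {v}, S v →
      S ((h : Matrix (Fin n) (Fin n) F) *ᵥ v) := by
    intro h hh v hv
    refine ⟨by rw [hiso hh, hv.1], fun c hc => ?_⟩
    have hvc : f v (τ c • v) = 0 := by rw [TransvectionUnitary.smul_right hf, hv.1, mul_zero]
    have := TransvectionUnitary.ft_conj hf (hiso hh) hvc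
    rw [Matrix.mulVec_smul] at this
    rw [← this]
    exact M.mul_mem (M.mul_mem hh (hv.2 c hc)) (M.inv_mem hh)
  have hSsmul : ∀ (s : F) {v}, S v → S (s • v) := by
    intro s v hv
    have hz : f (s • v) (s • v) = 0 := by
      rw [hf.smul_left, TransvectionUnitary.smul_right hf, hv.1, mul_zero, mul_zero]
    refine ⟨hz, fun c hc => ?_⟩
    have hc' : τ (c * τ s * s) = -(c * τ s * s) := by
      rw [map_mul, map_mul, hc, TransvectionUnitary.sigma_sigma hf]; ring
    have : ft f (s • v) (τ c • s • v) = ft f v (τ (c * τ s * s) • v) := gl_ext fun x => by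
      rw [TransvectionUnitary.ut_act hf hz, TransvectionUnitary.ut_act hf hv.1,
        TransvectionUnitary.smul_right hf, smul_smul]
      congr 2
      ring
    rw [this]
    exact hv.2 _ hc'
  have hShift : ∀ {v w}, S w → S v → ∀ c, τ c = -c → S (v + (c * f v w) • w) := by
    intro v w hw hv c hc
    have := hSconj (hw.2 c hc) hv
    rwa [TransvectionUnitary.ut_act hf hw.1] at this
  have hS2act : ∀ {a b v}, (a ∈ U ∧ b ∈ W ∨ a ∈ W ∧ b ∈ U) → f a b = 0 → S v →
      S (v + f v a • b - f v b • a) := by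
    intro a b v hm hab hv
    have haa : f a a = 0 := by
      rcases hm with h | h
      · exact hUts a h.1 a h.1
      · exact hWts a h.1 a h.1
    have := hSconj (hHM (hS2H hm hab)) hv
    rwa [sp2_act hf haa hab] at this
  have hUall : ∀ {a}, a ∈ U → a ≠ 0 → S a → ∀ v ∈ U, S v := by
    intro a ha ha0 haS v hv
    by_cases hva : v ∈ Submodule.span F {a}
    · obtain ⟨s, rfl⟩ := Submodule.mem_span_singleton.mp hva
      exact hSsmul s haS
    have hav := notMem_span_sub ha0 hva
    obtain ⟨d, hd, hdz, hda⟩ := sepW ha (spanLe1 (U.sub_mem hv ha)) hav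
    have hcd : f (v - a) ((-1 : F) • d) = 0 := by
      rw [TransvectionUnitary.smul_right hf,
        TransvectionUnitary.skew_zero hf (hdz _ (Submodule.mem_span_singleton_self _)), mul_zero]
    have := hS2act (Or.inl ⟨U.sub_mem hv ha, W.smul_mem (-1) hd⟩) hcd haS
    rw [hUts a ha _ (U.sub_mem hv ha), zero_smul, add_zero, TransvectionUnitary.smul_right hf,
      show f a d = 1 by rw [hf.herm, hda, map_one], mul_one, map_neg, map_one, neg_smul, one_smul,
      sub_neg_eq_add, add_sub_cancel] at this
    exact this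
  have hSJ : ∀ {v}, S v → S ((J : Matrix (Fin n) (Fin n) F) *ᵥ v) := fun hv => hSconj (hHM hJH) hv
  have hAdd : ∀ {v w}, S v → S w → f v w ≠ 0 → τ (f v w) = - f v w → S (v + w) := by
    intro v w hv hw h0 htz
    have := hShift hw hv (f v w)⁻¹ (by rw [map_inv₀, htz, inv_neg])
    rwa [inv_mul_cancel₀ h0, one_smul] at this
  -- moving either half of an orthogonal mixed vector
  have hMoveU : ∀ {c d c2}, c ∈ U → d ∈ W → c2 ∈ U → f c d = 0 → f d c2 = 0 →
      c ∉ Submodule.span F {c2 - c} → S (c + d) → S (c2 + d) := by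
    intro c d c2 hc hd hc2 hcd hdc2 hind hcS
    obtain ⟨e, he, hez, hec⟩ := sepW hc (spanLe1 (U.sub_mem hc2 hc)) hind
    have h := hS2act (Or.inl ⟨U.sub_mem hc2 hc, W.neg_mem he⟩) (by
      rw [TransvectionUnitary.neg_right hf,
        TransvectionUnitary.skew_zero hf (hez _ (Submodule.mem_span_singleton_self _)), neg_zero]) hcS
    have e1 : f (c + d) (c2 - c) = 0 := by
      rw [hf.add_left, hUts c hc _ (U.sub_mem hc2 hc), TransvectionUnitary.sub_right hf, hdc2,
        TransvectionUnitary.skew_zero hf hcd, sub_zero, add_zero]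
    have e2 : f (c + d) (-e) = -1 := by
      rw [TransvectionUnitary.neg_right hf, hf.add_left, hWts d hd e he, add_zero, hf.herm c e, hec,
        map_one]
    rw [e1, e2] at h
    have hh : c + d + (0 : F) • -e - (-1 : F) • (c2 - c) = c2 + d := by module
    rwa [hh] at h
  have hMoveW : ∀ {c d d2}, c ∈ U → d ∈ W → d2 ∈ W → f c d = 0 → f c d2 = 0 →
      d ∉ Submodule.span F {d2 - d} → S (c + d) → S (c + d2) := by
    intro c d d2 hc hd hd2 hcd hcd2 hind hcS
    obtain ⟨a, ha, haz, had⟩ := sepU hd (spanLe1 (W.sub_mem hd2 hd)) hind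
    have h := hS2act (Or.inl ⟨ha, W.sub_mem hd2 hd⟩) (haz _ (Submodule.mem_span_singleton_self _)) hcS
    have e1 : f (c + d) a = 1 := by
      rw [hf.add_left, hUts c hc a ha, zero_add, hf.herm d a, had, map_one]
    have e2 : f (c + d) (d2 - d) = 0 := by
      rw [hf.add_left, hWts d hd _ (W.sub_mem hd2 hd), TransvectionUnitary.sub_right hf, hcd2, hcd,
        sub_zero, add_zero]
    rw [e1, e2] at h
    have hh : c + d + (1 : F) • (d2 - d) - (0 : F) • a = c + d2 := by module
    rwa [hh] at h
  obtain ⟨a, ha, ha0, haS⟩ : ∃ a ∈ U, a ≠ 0 ∧ S a := by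
    have hAS : S A := ⟨hAA, hAM⟩
    by_cases hU0 : pU A = 0
    · have hAW : A ∈ W := by have := hpadd A; rw [hU0, zero_add] at this; exact this ▸ hpWmem A
      exact ⟨_, hJW A hAW, act_ne_zero J hA0, hSJ hAS⟩
    by_cases hW0 : pW A = 0
    · have hAU : A ∈ U := by have := hpadd A; rw [hW0, add_zero] at this; exact this ▸ hpUmem A
      exact ⟨A, hAU, hA0, hAS⟩
    -- an orthogonal mixed vector in S
    obtain ⟨c1, hc1, hAc, hcu⟩ : ∃ c ∈ U, f A c ≠ 0 ∧ pU A ∉ Submodule.span F {c} := by
      obtain ⟨e, he, -, hew⟩ := sepU (hpWmem A) (bot_le : ⊥ ≤ W) (by simpa using hW0)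
      have hAe : f A e ≠ 0 := by rw [fU A he]; exact skn hew
      by_cases h : pU A ∈ Submodule.span F {e}
      · obtain ⟨z, ⟨hzU, hz⟩, hze⟩ : ∃ z ∈ U ⊓ TransvectionUnitary.perp hf (Submodule.span F {A}),
            z ∉ Submodule.span F {e} := by
          by_contra! hh
          have h1 := Submodule.finrank_mono (show _ ≤ Submodule.span F {e} from hh)
          have h2 := TransvectionUnitaryGen.finrank_inf_perp hf U (Submodule.span F {A})
          have h3 := fr1 A
          have h4 := fr1 e
          omega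
        refine ⟨e + z, U.add_mem he hzU, ?_, fun h' => hze ?_⟩
        · rwa [TransvectionUnitary.add_right hf,
            TransvectionUnitary.skew_zero hf ((TransvectionUnitary.mem_perp_singleton hf).mp hz), add_zero]
        · obtain ⟨p, hp⟩ := Submodule.mem_span_singleton.mp h'
          rcases eq_or_ne p 0 with rfl | hp0
          · exact absurd (by simpa using hp.symm) hU0
          · have h5 : p • z ∈ Submodule.span F {e} := by
              have : p • z = pU A - p • e := by rw [← hp, smul_add]; abel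
              rw [this]
              exact Submodule.sub_mem _ h (Submodule.smul_mem _ _ (Submodule.mem_span_singleton_self e))
            exact (Submodule.smul_mem_iff _ hp0).mp h5
      · exact ⟨e, he, hAe, h⟩
    obtain ⟨d, hd, hdc, hdu⟩ := sepW (hpUmem A) (spanLe1 hc1) hcu
    have hAd : f A d = 1 := by rw [fW A hd, hf.herm, hdu, map_one]
    have hc1d : f c1 d = 0 :=
      TransvectionUnitary.skew_zero hf (hdc _ (Submodule.mem_span_singleton_self _))
    obtain ⟨s, hs⟩ := hval c0 (f A c1) hc0' hAc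
    have hs0 : s ≠ 0 := fun h => by
      rw [h, map_zero, zero_mul, zero_mul, sub_zero] at hs
      exact hc0 hs.symm
    have hhA := hS2act (Or.inl ⟨U.smul_mem s hc1, hd⟩) (by rw [hf.smul_left, hc1d, mul_zero]) hAS
    rw [hAd, one_smul, TransvectionUnitary.smul_right hf] at hhA
    set c' := -(s • c1) with hc'def
    set d' := (τ s * f A c1) • d with hd'def
    have hc' : c' ∈ U := U.neg_mem (U.smul_mem _ hc1)
    have hd' : d' ∈ W := W.smul_mem _ hd
    have hcd' : f c' d' = 0 := by
      simp [hc'def, hd'def, TransvectionUnitary.neg_left hf, hf.smul_left,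
        TransvectionUnitary.smul_right hf, hc1d]
    have hc'0 : c' ≠ 0 := neg_ne_zero.mpr (smul_ne_zero hs0 fun h => hAc (by
      rw [h, TransvectionUnitary.zero_right hf]))
    have hd'0 : d' ≠ 0 := smul_ne_zero (mul_ne_zero ((map_ne_zero τ).mpr hs0) hAc) fun h => by
      rw [h, TransvectionUnitary.zero_right hf] at hAd
      exact zero_ne_one hAd
    have hS' : S (c' + d') := by
      have hdA : f d A = 1 := by rw [hf.herm, hAd, map_one]
      have hval' : f (A + (τ s * f A c1) • d - s • c1) A = c0 := by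
        rw [TransvectionUnitary.sub_left hf, hf.add_left, hf.smul_left, hf.smul_left, hAA, hdA,
          hf.herm c1 A, ← hs]
        ring
      have h := hShift hAS hhA (-c0⁻¹) (by rw [map_neg, map_inv₀, hc0', inv_neg])
      rw [hval', neg_mul, inv_mul_cancel₀ hc0] at h
      have hh : A + (τ s * f A c1) • d - s • c1 + (-1 : F) • A = c' + d' := by
        rw [hc'def, hd'def]; module
      rwa [hh] at h
    obtain ⟨c2, ⟨hc2, hc2p⟩, hc2c⟩ : ∃ z ∈ U ⊓ TransvectionUnitary.perp hf (Submodule.span F {d'}),
        z ∉ Submodule.span F {c'} := by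
      by_contra! hh
      have h1 := Submodule.finrank_mono (show _ ≤ Submodule.span F {c'} from hh)
      have h2 := TransvectionUnitaryGen.finrank_inf_perp hf U (Submodule.span F {d'})
      have h3 := fr1 c'
      have h4 := fr1 d'
      omega
    have hc2d : f c2 d' = 0 := (TransvectionUnitary.mem_perp_singleton hf).mp hc2p
    obtain ⟨z0, hz0, hz0c, hz0c2⟩ := sepW hc2 (spanLe1 hc') hc2c
    set z := τ c0 • z0 with hzdef
    have hz : z ∈ W := W.smul_mem _ hz0
    have hc'z : f c' z = 0 := by
      rw [hzdef, TransvectionUnitary.smul_right hf,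
        TransvectionUnitary.skew_zero hf (hz0c _ (Submodule.mem_span_singleton_self _)), mul_zero]
    have hc2z : f c2 z = c0 := by
      rw [hzdef, TransvectionUnitary.smul_right hf, hf.herm c2 z0, hz0c2, map_one, mul_one,
        TransvectionUnitary.sigma_sigma hf]
    have hout : ∀ x, x ∈ Submodule.span F {d'} → f c2 x = 0 := fun x hx => by
      obtain ⟨r, rfl⟩ := Submodule.mem_span_singleton.mp hx
      rw [TransvectionUnitary.smul_right hf, hc2d, mul_zero]
    have h1 : S (c2 + d') :=
      hMoveU hc' hd' hc2 hcd' (TransvectionUnitary.skew_zero hf hc2d) (notMem_span_sub hc'0 hc2c) hS'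
    have h2 : S (c' + (d' + z)) := by
      refine hMoveW hc' hd' (W.add_mem hd' hz) hcd' ?_ (notMem_span_sub hd'0 fun h => hc0 ?_) hS'
      · rw [TransvectionUnitary.add_right hf, hcd', hc'z, add_zero]
      · have h' := hout _ h
        rwa [TransvectionUnitary.add_right hf, hc2d, hc2z, zero_add] at h'
    have h3 : S (c' + -(d' + d' + z)) := by
      refine hMoveW hc' hd' (W.neg_mem (W.add_mem (W.add_mem hd' hd') hz)) hcd' ?_
        (notMem_span_sub hd'0 fun h => hc0 ?_) hS'
      · rw [TransvectionUnitary.neg_right hf, TransvectionUnitary.add_right hf,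
          TransvectionUnitary.add_right hf, hcd', hc'z, add_zero, add_zero, neg_zero]
      · have h' := hout _ h
        rwa [TransvectionUnitary.neg_right hf, TransvectionUnitary.add_right hf,
          TransvectionUnitary.add_right hf, hc2d, hc2z, zero_add, zero_add, neg_eq_zero] at h'
    have e1 : f d' c' = 0 := TransvectionUnitary.skew_zero hf hcd'
    have e2 : f z c' = 0 := TransvectionUnitary.skew_zero hf hc'z
    have h12 : f (c2 + d') (c' + (d' + z)) = c0 := by
      simp only [hf.add_left, TransvectionUnitary.add_right hf, hUts c2 hc2 c' hc', hWts d' hd' d' hd',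
        hWts d' hd' z hz, hc2d, hc2z, e1]
      ring
    have h4 := hAdd h1 h2 (by rw [h12]; exact hc0) (by rw [h12]; exact hc0')
    have h43 : f (c2 + d' + (c' + (d' + z))) (c' + -(d' + d' + z)) = -c0 := by
      simp only [hf.add_left, TransvectionUnitary.add_right hf, TransvectionUnitary.neg_right hf,
        hUts c2 hc2 c' hc', hUts c' hc' c' hc', hWts d' hd' d' hd', hWts d' hd' z hz, hWts z hz d' hd',
        hWts z hz z hz, hc2d, hc2z, hcd', hc'z, e1, e2]
      ring
    have h5 := hAdd h4 h3 (by rw [h43]; exact neg_ne_zero.mpr hc0) (by rw [h43, map_neg, hc0'])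
    have hh : c2 + d' + (c' + (d' + z)) + (c' + -(d' + d' + z)) = c2 + (c' + c') := by abel
    rw [hh] at h5
    refine ⟨_, U.add_mem hc2 (U.add_mem hc' hc'), fun h => hc2c ?_, h5⟩
    rw [eq_neg_of_add_eq_zero_left h]
    exact Submodule.neg_mem _ (Submodule.add_mem _ (Submodule.mem_span_singleton_self _)
      (Submodule.mem_span_singleton_self _))
  have hSU : ∀ v ∈ U, S v := hUall ha ha0 haS
  have hSW : ∀ v ∈ W, S v := by
    intro v hv
    have h1 : U.map (Matrix.toLin' (J : Matrix (Fin n) (Fin n) F)) = W := by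
      refine Submodule.eq_of_le_of_finrank_eq ?_ ?_
      · rintro _ ⟨x, hx, rfl⟩
        rw [Matrix.toLin'_apply]
        exact hJU x hx
      · rw [← (Submodule.equivMapOfInjective _ (fun a b hab => act_injective J (by simpa using hab)) U).finrank_eq,
          hUk, hWk]
    rw [← h1] at hv
    obtain ⟨x, hx, rfl⟩ := hv
    rw [Matrix.toLin'_apply]
    exact hSJ (hSU x hx)
  have htzpair : ∀ {u w}, u ∈ U → w ∈ W → f (u + w) (u + w) = 0 → τ (f u w) = - f u w := by
    intro u w hu hw h
    rw [hf.add_left, TransvectionUnitary.add_right hf, TransvectionUnitary.add_right hf, hUts u hu u hu,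
      hWts w hw w hw, ← TransvectionUnitary.sigma_f hf u w] at h
    linear_combination h
  have hpairs : ∀ {u w}, u ∈ U → w ∈ W → f (u + w) (u + w) = 0 → f u w ≠ 0 → S (u + w) :=
    fun hu hw h hne => hAdd (hSU _ hu) (hSW _ hw) hne (htzpair hu hw h)
  intro g' hg'
  refine TransvectionUnitaryGen.su_mem_of_even hf (by rw [Fintype.card_fin]; exact ⟨k, by omega⟩)
    (fun v c hv hc => ?_) hg'.1 hg'.2
  suffices h : S v from h.2 c hc
  by_cases hu : pU v = 0
  · have := hpadd v; rw [hu, zero_add] at this
    exact this ▸ hSW _ (hpWmem v)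
  by_cases hw : pW v = 0
  · have := hpadd v; rw [hw, add_zero] at this
    exact this ▸ hSU _ (hpUmem v)
  have hiso0 : f (pU v + pW v) (pU v + pW v) = 0 := by rw [hpadd, hv]
  by_cases huw : f (pU v) (pW v) = 0
  · obtain ⟨e, he, -, hew⟩ := sepU (hpWmem v) (bot_le : ⊥ ≤ W) (by simpa using hw)
    have hwe : f (pW v) e = 1 := by rw [hf.herm, hew, map_one]
    have h1 : S ((pU v + (-c0) • e) + pW v) := by
      refine hpairs (U.add_mem (hpUmem v) (U.smul_mem _ he)) (hpWmem v) ?_ ?_
      · simp only [hf.add_left, TransvectionUnitary.add_right hf, hf.smul_left,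
          TransvectionUnitary.smul_right hf, hUts _ (hpUmem v) _ (hpUmem v), hUts _ (hpUmem v) _ he,
          hUts _ he _ (hpUmem v), hUts _ he _ he, hWts _ (hpWmem v) _ (hpWmem v), huw,
          TransvectionUnitary.skew_zero hf huw, hew, hwe, map_neg, hc0']
        ring
      · rw [hf.add_left, hf.smul_left, huw, hew, zero_add, mul_one]
        exact neg_ne_zero.mpr hc0
    have h2 := hShift (hSU e he) h1 c0 hc0'
    rw [hf.add_left, hf.add_left, hf.smul_left, hUts _ (hpUmem v) _ he, hUts _ he _ he, hwe, mul_zero,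
      zero_add, zero_add, mul_one] at h2
    have h3 : pU v + (-c0) • e + pW v + c0 • e = v := by
      conv_rhs => rw [← hpadd v]
      module
    rwa [h3] at h2
  · have := hpairs (hpUmem v) (hpWmem v) hiso0 huw
    rwa [hpadd] at this

end Cfsg.Agent.S5657
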