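import Cfsg.Statements.S5665
import Cfsg.Agent.Lib.ExtFieldUSp
import Cfsg.Agent.Lib.TransvectionMax

set_option autoImplicit false
set_option linter.style.haveILetI false
set_option maxHeartbeats 1000000
open Cfsg

namespace Cfsg.Agent.S5665

open scoped Matrix MatrixGroups

variable {F : Type*} [Field F] [Fintype F] {m : ℕ}

/-- The square root: `K = F + F δ` with `δ` anti-self-adjoint and `δ² = ν` a non-square. -/
theorem exists_delta (hm : 7 ≤ m) (hodd : (2 : F) ≠ 0)
    (K : Subalgebra F (Matrix (Fin m ⊕ Fin m) (Fin m ⊕ Fin m) F)) (hK : Cfsg.Geo.IsFieldSubalgebra 2 K)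
    (hac : Cfsg.Geo.IsAdjointClosedFor (Cfsg.sympForm m F) K)
    (hnsa : ¬ Cfsg.Geo.IsSelfAdjointFor (Cfsg.sympForm m F) K) :
    ∃ (δ : Matrix (Fin m ⊕ Fin m) (Fin m ⊕ Fin m) F) (ν : F), δ ∈ K ∧ δ * δ = ν • 1 ∧ (∀ s : F, s * s ≠ ν) ∧
      (∀ x y, Cfsg.sympForm m F (δ *ᵥ x) y = - Cfsg.sympForm m F x (δ *ᵥ y)) ∧
      ∀ k ∈ K, ∃ a b : F, k = a • 1 + b • δ := by
  classical
  have hf := TransvectionMax.sympForm_isSymplecticForm (F := F) m
  haveI : Nonempty (Fin m ⊕ Fin m) := ⟨Sum.inl ⟨0, by omega⟩⟩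
  obtain ⟨k, hk, hk'⟩ : ∃ k ∈ K, ¬ ∀ u v, Cfsg.sympForm m F (k *ᵥ u) v = Cfsg.sympForm m F u (k *ᵥ v) := by
    simp only [Cfsg.Geo.IsSelfAdjointFor, not_forall] at hnsa
    obtain ⟨k, hk, h⟩ := hnsa
    exact ⟨k, hk, fun h' => h.elim fun u ⟨v, huv⟩ => huv (h' u v)⟩
  obtain ⟨k', hk'K, hadj⟩ := hac k hk
  set δ := k - k' with hδ
  have hδK : δ ∈ K := sub_mem hk hk'K
  have hδ0 : δ ≠ 0 := fun h => hk' (fun u v => by rw [hadj u v, sub_eq_zero.1 h])
  have hadj' : ∀ u v, Cfsg.sympForm m F (k' *ᵥ u) v = Cfsg.sympForm m F u (k *ᵥ v) := fun u v => by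
    rw [hf.skew, ← hadj v u, ← hf.skew]
  have hanti : ∀ x y, Cfsg.sympForm m F (δ *ᵥ x) y = - Cfsg.sympForm m F x (δ *ᵥ y) := fun x y => by
    simp only [hδ, Matrix.sub_mulVec, TransvectionMax.sub_left hf.bilinear, TransvectionMax.sub_right hf.bilinear,
      hadj, hadj']
    ring
  have hnF : ∀ s : F, δ ≠ s • 1 := by
    intro s hs
    obtain ⟨x, hx⟩ := exists_ne (0 : Fin m ⊕ Fin m → F)
    obtain ⟨-, y, hy⟩ := hf.nondegenerate x hx
    have h := hanti x y
    rw [hs] at h
    simp only [Matrix.smul_mulVec, Matrix.one_mulVec, hf.bilinear.smul_left, hf.bilinear.smul_right] at h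
    have h2 : 2 * s * Cfsg.sympForm m F x y = 0 := by linear_combination h
    simp [hy, hodd] at h2
    exact hδ0 (by rw [hs, h2, zero_smul])
  -- spanning
  have hind : ∀ a b : F, a • (1 : Matrix (Fin m ⊕ Fin m) (Fin m ⊕ Fin m) F) + b • δ = 0 → a = 0 ∧ b = 0 := by
    intro a b h
    by_cases hb : b = 0
    · rw [hb, zero_smul, add_zero, smul_eq_zero] at h
      exact ⟨h.resolve_right one_ne_zero, hb⟩
    · exfalso
      apply hnF (-(a / b))
      have := congrArg (b⁻¹ • ·) h
      simp only [smul_add, smul_smul, inv_mul_cancel₀ hb, one_smul, smul_zero] at this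
      rw [neg_smul, div_eq_inv_mul]
      exact eq_neg_of_add_eq_zero_right this
  have hspan : ∀ k ∈ K, ∃ a b : F, k = a • 1 + b • δ := by
    intro k hk
    let L : (F × F) →ₗ[F] K :=
      { toFun := fun p => ⟨p.1 • 1 + p.2 • δ, add_mem (K.smul_mem (one_mem K) _) (K.smul_mem hδK _)⟩
        map_add' := fun p q => by
          apply Subtype.ext
          simp only [Prod.fst_add, Prod.snd_add, add_smul, Subalgebra.coe_add]; abel
        map_smul' := fun c p => by
          apply Subtype.ext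
          simp [smul_smul] }
    have hL : Function.Injective L := by
      rw [injective_iff_map_eq_zero]
      intro p hp
      obtain ⟨h1, h2⟩ := hind _ _ (congrArg Subtype.val hp)
      exact Prod.ext h1 h2
    haveI : FiniteDimensional F K := Module.finite_of_finrank_pos (R := F) (M := K) (by rw [hK.finrank_eq]; norm_num)
    obtain ⟨⟨a, b⟩, hab⟩ := (LinearMap.injective_iff_surjective_of_finrank_eq_finrank
      (by rw [Module.finrank_prod, Module.finrank_self, hK.finrank_eq])).1 hL ⟨k, hk⟩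
    exact ⟨a, b, (congrArg Subtype.val hab).symm⟩
  obtain ⟨a, b, hab⟩ := hspan (δ * δ) (mul_mem hδK hδK)
  have hb : b = 0 := by
    by_contra hb
    -- `δ²` is self adjoint and so would `δ` be
    have h : ∀ x y, b * Cfsg.sympForm m F (δ *ᵥ x) y = b * Cfsg.sympForm m F x (δ *ᵥ y) := by
      intro x y
      have h1 : Cfsg.sympForm m F ((δ * δ) *ᵥ x) y = Cfsg.sympForm m F x ((δ * δ) *ᵥ y) := by
        rw [← Matrix.mulVec_mulVec, ← Matrix.mulVec_mulVec, hanti, hanti, neg_neg]
      rw [hab] at h1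
      simp only [Matrix.add_mulVec, Matrix.smul_mulVec, Matrix.one_mulVec, hf.bilinear.add_left,
        hf.bilinear.add_right, hf.bilinear.smul_left, hf.bilinear.smul_right] at h1
      linear_combination h1
    apply hδ0
    apply Matrix.ext_iff_mulVec.mpr
    intro x
    rw [Matrix.zero_mulVec]
    by_contra hx
    obtain ⟨-, y, hy⟩ := hf.nondegenerate _ hx
    have h1 := mul_left_cancel₀ hb (h x y)
    rw [hanti] at h1 hy
    have : 2 * Cfsg.sympForm m F x (δ *ᵥ y) = 0 := by linear_combination -h1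
    simp [hodd] at this
    exact hy (by rw [this, neg_zero])
  refine ⟨δ, a, hδK, by rw [hab, hb, zero_smul, add_zero], fun s hs => ?_, hanti, hspan⟩
  have h : (δ - s • 1) * (δ + s • 1) = 0 := by
    rw [sub_mul, mul_add, mul_add, hab, hb]
    simp [smul_smul, hs]
    abel
  by_cases h1 : δ - s • 1 = 0
  · exact hnF s (sub_eq_zero.1 h1)
  · obtain ⟨y, hy, hxy⟩ := hK.inv _ (sub_mem hδK (K.smul_mem (one_mem K) s)) h1
    rw [hK.comm _ (sub_mem hδK (K.smul_mem (one_mem K) s)) y hy] at hxy
    have := congrArg (y * ·) h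
    simp only [← mul_assoc, hxy, one_mul, mul_zero] at this
    exact hnF (-s) (by rw [neg_smul]; exact eq_neg_of_add_eq_zero_left this)

/-- For a finite field F of odd order and m ≥ 7, let K be a subfield of the algebra of 2m × 2m matrices over F containing the scalars, of degree 2 over F, that is closed under adjoints for the standard alternating form on F^(2m) but whose elements are not all self-adjoint (so the adjoint map induces the automorphism of order two of K). Then the elements of Sp_2m(F) normalising K form a maximal subgroup of Sp_2m(F). -/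
theorem result {F : Type*} [Field F] [Fintype F] (m : ℕ) (hm : 7 ≤ m) (hodd : Odd (Fintype.card F)) (K : Subalgebra F (Matrix (Fin m ⊕ Fin m) (Fin m ⊕ Fin m) F)) (hK : Cfsg.Geo.IsFieldSubalgebra 2 K) (hac : Cfsg.Geo.IsAdjointClosedFor (Cfsg.sympForm m F) K) (hnsa : ¬ Cfsg.Geo.IsSelfAdjointFor (Cfsg.sympForm m F) K) : Cfsg.Geo.IsMaximalIn (Cfsg.spGL m F) (Cfsg.Geo.subalgebraNormalizer K ⊓ Cfsg.spGL m F) := by
  classical
  have h2 : (2 : F) ≠ 0 := by
    apply Ring.two_ne_zero
    intro h
    exact (Nat.not_even_iff_odd.2 hodd) (FiniteField.even_card_iff_char_two.1 h |> Nat.even_iff.2)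
  obtain ⟨δ, ν, hδK, hsq, hns, hanti, hspan⟩ := exists_delta hm h2 K hK hac hnsa
  have hf := TransvectionMax.sympForm_isSymplecticForm (F := F) m
  haveI : Nonempty (Fin m ⊕ Fin m) := ⟨Sum.inl ⟨0, by omega⟩⟩
  let fl : (Fin m ⊕ Fin m → F) →ₗ[F] (Fin m ⊕ Fin m → F) →ₗ[F] F :=
    LinearMap.mk₂ F (Cfsg.sympForm m F) hf.bilinear.add_left hf.bilinear.smul_left hf.bilinear.add_right
      (fun c x y => hf.bilinear.smul_right c x y)
  have hfl : ∀ x y, fl x y = Cfsg.sympForm m F x y := fun x y => rfl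
  let J : (Fin m ⊕ Fin m → F) →ₗ[F] (Fin m ⊕ Fin m → F) := Matrix.toLin' δ
  have hJ : ∀ x, J x = δ *ᵥ x := fun x => Matrix.toLin'_apply δ x
  have hS : ExtFieldUSp.Setting fl J ν := by
    refine ⟨h2, fun x => hf.alternating x, fun x hx => ?_, fun x y => ?_, fun x => ?_, hns, ?_⟩
    · by_contra hne
      obtain ⟨-, y, hy⟩ := hf.nondegenerate x hne
      exact hy (hx y)
    · rw [hfl, hfl, hJ, hJ, hanti]
    · rw [hJ, hJ, Matrix.mulVec_mulVec, hsq, Matrix.smul_mulVec, Matrix.one_mulVec]
    · rw [Module.finrank_fintype_fun_eq_card, Fintype.card_sum, Fintype.card_fin]; omega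
  -- the normaliser is proper
  have hwit : ¬ Cfsg.spGL m F ≤ Cfsg.Geo.subalgebraNormalizer K := by
    intro hle
    obtain ⟨u, -, huu, ⟨q, -, huq⟩, huspan⟩ := ExtFieldUSp.exists_in_perp hS 0 0
    have hu : u ≠ 0 := fun h => huspan (by rw [h]; exact zero_mem _)
    set T := TransvectionMax.st (Cfsg.sympForm m F) u 1 with hT
    have hTx : ∀ x, (T : Matrix (Fin m ⊕ Fin m) (Fin m ⊕ Fin m) F) *ᵥ x = x + Cfsg.sympForm m F x u • u :=
      fun x => by rw [hT, TransvectionMax.st_act hf, one_mul]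
    obtain ⟨a, b, hab⟩ := hspan _ (((hle (TransvectionMax.st_mem_spGL m u 1)) δ).1 hδK)
    have hk : ∀ x, a • ((T : Matrix (Fin m ⊕ Fin m) (Fin m ⊕ Fin m) F) *ᵥ x) +
        b • (δ *ᵥ ((T : Matrix (Fin m ⊕ Fin m) (Fin m ⊕ Fin m) F) *ᵥ x)) =
          (T : Matrix (Fin m ⊕ Fin m) (Fin m ⊕ Fin m) F) *ᵥ (δ *ᵥ x) := fun x => by
      have := congrArg (fun A : Matrix (Fin m ⊕ Fin m) (Fin m ⊕ Fin m) F =>
        (A * (T : Matrix (Fin m ⊕ Fin m) (Fin m ⊕ Fin m) F)) *ᵥ x) hab
      simp only [← hT, Units.inv_mul_cancel_right, add_mul, Matrix.smul_mul, one_mul, Matrix.add_mulVec,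
        Matrix.smul_mulVec, ← Matrix.mulVec_mulVec] at this
      exact this.symm
    have h1 := hk u
    rw [hTx u, hTx (δ *ᵥ u), hf.alternating, zero_smul, add_zero,
      show Cfsg.sympForm m F (δ *ᵥ u) u = 0 from (show ExtFieldUSp.Bf fl J u u = 0 from huu) |> fun h => by
        rwa [ExtFieldUSp.Bf_apply hS, hfl, hJ] at h, zero_smul, add_zero] at h1
    -- so `a = 0`, `b = 1`
    have hind : a • u + (b - 1) • (δ *ᵥ u) = 0 := by
      rw [sub_smul, one_smul, ← add_sub_assoc, h1, sub_self]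
    have ha : a = 0 ∧ b - 1 = 0 := by
      have h3 := congrArg (δ *ᵥ ·) hind
      simp only [Matrix.mulVec_add, Matrix.mulVec_smul, Matrix.mulVec_mulVec, hsq, Matrix.smul_mulVec,
        Matrix.one_mulVec, Matrix.mulVec_zero, smul_smul] at h3
      have h4 : (a * a - (b - 1) * (b - 1) * ν) • u = 0 := by
        have h5 := congrArg (a • ·) hind
        have h6 := congrArg ((b - 1) • ·) h3
        simp only [smul_zero, smul_add, smul_smul] at h5 h6
        have : (a * a - (b - 1) * (b - 1) * ν) • u =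
            ((a * a) • u + (a * (b - 1)) • (δ *ᵥ u)) - (((b - 1) * a) • (δ *ᵥ u) + ((b - 1) * ((b - 1) * ν)) • u) := by
          module
        rw [this, h5, h6, sub_zero]
      have h7 := (smul_eq_zero.1 h4).resolve_right hu
      by_cases hb : b - 1 = 0
      · rw [hb, mul_zero, zero_mul, sub_zero, mul_self_eq_zero] at h7
        exact ⟨h7, hb⟩
      · exact absurd (show a / (b - 1) * (a / (b - 1)) = ν by field_simp; linear_combination h7) (hns _)
    obtain ⟨ha, hb⟩ := ha
    rw [sub_eq_zero] at hb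
    have h := hk q
    rw [ha, hb, zero_smul, zero_add, one_smul, hTx, hTx, Matrix.mulVec_add, Matrix.mulVec_smul, add_right_inj] at h
    -- `f (δ q) u ≠ 0` while `δ u` is independent of `u`
    have hne : Cfsg.sympForm m F (δ *ᵥ q) u ≠ 0 := by
      have := huq
      rwa [ExtFieldUSp.B_symm hS, ExtFieldUSp.Bf_apply hS, hfl, hJ] at this
    have h8 := congrArg (fun z => (Cfsg.sympForm m F (δ *ᵥ q) u)⁻¹ • z) h
    simp only [smul_smul, inv_mul_cancel₀ hne, one_smul] at h8
    set s := (Cfsg.sympForm m F (δ *ᵥ q) u)⁻¹ * Cfsg.sympForm m F q u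
    have h9 : δ *ᵥ (δ *ᵥ u) = ν • u := by rw [← hJ, ← hJ, hS.sq]
    have h10 : (1 - s * s * ν) • u = 0 := by
      have : u = (s * s * ν) • u := by
        calc u = s • (δ *ᵥ (s • (δ *ᵥ u))) := by rw [h8]; exact h8.symm
          _ = (s * s * ν) • u := by rw [Matrix.mulVec_smul, h9, smul_smul, smul_smul]
      rw [sub_smul, one_smul, ← this, sub_self]
    have h11 := (smul_eq_zero.1 h10).resolve_right hu
    have hs0 : s ≠ 0 := fun h0 => by simp [h0] at h11
    exact hns s⁻¹ (by field_simp; linear_combination h11)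
  refine ⟨lt_of_le_of_ne inf_le_right (fun h => hwit (h ▸ inf_le_left)), fun M h1 h2' => ?_⟩
  by_cases h : M ≤ Cfsg.Geo.subalgebraNormalizer K
  · exact Or.inl (le_antisymm (le_inf h h2') h1)
  obtain ⟨g₀, hg₀, hg₀N⟩ := SetLike.not_le_iff_exists.1 h
  right
  refine le_antisymm h2' (TransvectionMax.spGL_le m fun u c => ?_)
  let M' : Subgroup ((Fin m ⊕ Fin m → F) ≃ₗ[F] (Fin m ⊕ Fin m → F)) :=
    { carrier := {g | ∃ G ∈ M, ∀ x, (G : Matrix (Fin m ⊕ Fin m) (Fin m ⊕ Fin m) F) *ᵥ x = g x}
      mul_mem' := by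
        rintro a b ⟨A, hA, hAx⟩ ⟨B, hB, hBx⟩
        exact ⟨A * B, mul_mem hA hB, fun x => by rw [TransvectionMax.mul_act, hBx, hAx]; rfl⟩
      one_mem' := ⟨1, one_mem M, fun x => by rw [TransvectionMax.one_act]; rfl⟩
      inv_mem' := by
        rintro a ⟨A, hA, hAx⟩
        refine ⟨A⁻¹, inv_mem hA, fun x => ?_⟩
        apply a.injective
        rw [← hAx, TransvectionMax.act_inv_act]
        exact (a.apply_symm_apply x).symm }
  have hHyp : ExtFieldUSp.Hyp M' fl J := by
    refine ⟨fun g hlin hpres => ?_, fun g hg x y => ?_⟩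
    · let G : GL (Fin m ⊕ Fin m) F :=
        ⟨LinearMap.toMatrix' g.toLinearMap, LinearMap.toMatrix' g.symm.toLinearMap,
          by rw [← LinearMap.toMatrix'_comp, LinearEquiv.comp_symm, LinearMap.toMatrix'_id],
          by rw [← LinearMap.toMatrix'_comp, LinearEquiv.symm_comp, LinearMap.toMatrix'_id]⟩
      have hG : ∀ x, (G : Matrix (Fin m ⊕ Fin m) (Fin m ⊕ Fin m) F) *ᵥ x = g x := fun x =>
        LinearMap.toMatrix'_mulVec g.toLinearMap x
      refine ⟨G, h1 ⟨?_, ?_⟩, hG⟩
      · have hconj : ∀ k ∈ K, (G : Matrix (Fin m ⊕ Fin m) (Fin m ⊕ Fin m) F) * k * (G⁻¹ : GL (Fin m ⊕ Fin m) F) = k := by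
          intro k hk
          obtain ⟨a, b, rfl⟩ := hspan k hk
          rw [Units.mul_inv_eq_iff_eq_mul]
          apply Matrix.ext_iff_mulVec.mpr
          intro x
          simp only [← Matrix.mulVec_mulVec, Matrix.add_mulVec, Matrix.smul_mulVec, Matrix.one_mulVec, hG,
            map_add, map_smul, ← hJ, hlin]
        intro k
        constructor
        · intro hk
          rw [hconj k hk]
          exact hk
        · intro hk
          have := (Units.mul_right_inj G).1 ((Units.mul_left_inj G⁻¹).1 (hconj _ hk))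
          rw [← this]
          exact hk
      · intro x y
        show Cfsg.sympForm m F ((G : Matrix (Fin m ⊕ Fin m) (Fin m ⊕ Fin m) F) *ᵥ x)
          ((G : Matrix (Fin m ⊕ Fin m) (Fin m ⊕ Fin m) F) *ᵥ y) = _
        rw [hG, hG]
        exact hpres x y
    · obtain ⟨G, hG, hGx⟩ := hg
      rw [hfl, hfl, ← hGx, ← hGx]
      exact h2' hG x y
  have hmove : ∃ g ∈ M', ∃ v, ExtFieldUSp.Bf fl J v v = 0 ∧
      g (J v) ∉ Submodule.span F {g v, J (g v)} := by
    by_contra hcon
    push Not at hcon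
    apply hg₀N
    let g : (Fin m ⊕ Fin m → F) ≃ₗ[F] (Fin m ⊕ Fin m → F) :=
      LinearEquiv.ofBijective (Matrix.toLin' (g₀ : Matrix (Fin m ⊕ Fin m) (Fin m ⊕ Fin m) F))
        ((Finite.injective_iff_bijective).1 fun a b h =>
          TransvectionMax.act_injective g₀ (by simpa [Matrix.toLin'_apply] using h))
    have hgM : g ∈ M' := ⟨g₀, hg₀, fun x => (Matrix.toLin'_apply _ x).symm⟩
    have hgx : ∀ x, g x = (g₀ : Matrix (Fin m ⊕ Fin m) (Fin m ⊕ Fin m) F) *ᵥ x := fun x => Matrix.toLin'_apply _ x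
    have hcoef : ∀ v, ExtFieldUSp.Bf fl J v v = 0 → ∃ a b : F, g (J v) = a • g v + b • J (g v) := fun v hv => by
      obtain ⟨a, b, h⟩ := Submodule.mem_span_pair.1 (hcon g hgM v hv)
      exact ⟨a, b, h.symm⟩
    choose ca cb hc using hcoef
    -- the coefficients agree on orthogonal independent pairs
    have key : ∀ v w (hv : ExtFieldUSp.Bf fl J v v = 0) (hw : ExtFieldUSp.Bf fl J w w = 0),
        v ≠ 0 → ExtFieldUSp.Bf fl J v w = 0 → w ∉ Submodule.span F ({v, J v} : Set _) →
        ca v hv = ca w hw ∧ cb v hv = cb w hw := by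
      intro v w hv hw hv0 hvw hn
      have hvw' : ExtFieldUSp.Bf fl J (v + w) (v + w) = 0 := by
        simp [hv, hw, hvw, ExtFieldUSp.B_symm hS w v]
      have h := hc (v + w) hvw'
      rw [map_add, map_add, map_add, hc v hv, hc w hw, map_add] at h
      set a₁ := ca v hv - ca (v + w) hvw'
      set b₁ := cb v hv - cb (v + w) hvw'
      set a₂ := ca w hw - ca (v + w) hvw'
      set b₂ := cb w hw - cb (v + w) hvw'
      have h' : a₁ • g v + b₁ • J (g v) + (a₂ • g w + b₂ • J (g w)) = 0 := by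
        rw [← sub_eq_zero] at h
        rw [← h]
        module
      -- the image line
      have himg : ∀ (u : Fin m ⊕ Fin m → F) (hu : ExtFieldUSp.Bf fl J u u = 0), u ≠ 0 → ∀ s t : F,
          ∃ z ∈ Submodule.span F ({u, J u} : Set _), g z = s • g u + t • J (g u) := by
        intro u hu hu0 s t
        have hb0 : cb u hu ≠ 0 := by
          intro hb
          have h0 := hc u hu
          rw [hb, zero_smul, add_zero, ← map_smul] at h0
          have h0' := g.injective h0
          have h2a : (ν - ca u hu * ca u hu) • u = 0 := by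
            have := congrArg J h0'
            rw [hS.sq, map_smul, h0', smul_smul] at this
            rw [sub_smul, this, sub_self]
          exact hns _ (sub_eq_zero.1 ((smul_eq_zero.1 h2a).resolve_right hu0)).symm
        refine ⟨(s - t * (ca u hu / cb u hu)) • u + (t / cb u hu) • J u,
          add_mem (Submodule.smul_mem _ _ (Submodule.subset_span (by simp)))
            (Submodule.smul_mem _ _ (Submodule.subset_span (by simp))), ?_⟩
        rw [map_add, map_smul, map_smul, hc u hu]
        match_scalars <;> field_simp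
        ring
      have hw0 : w ≠ 0 := fun h0 => hn (h0 ▸ zero_mem _)
      obtain ⟨z₁, hz₁, e₁⟩ := himg v hv hv0 a₁ b₁
      obtain ⟨z₂, hz₂, e₂⟩ := himg w hw hw0 a₂ b₂
      rw [← e₁, ← e₂, ← map_add, ← map_zero g] at h'
      have hz : z₂ = - z₁ := eq_neg_of_add_eq_zero_right (g.injective h')
      have hz20 : z₂ = 0 := by
        by_contra h20
        apply hn
        obtain ⟨s, t, hst⟩ := Submodule.mem_span_pair.1 hz₂
        have hzv : z₂ ∈ Submodule.span F ({v, J v} : Set _) := hz ▸ neg_mem hz₁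
        have hd : s * s - t * t * ν ≠ 0 := fun h => by
          by_cases ht : t = 0
          · rw [ht, mul_zero, zero_mul, sub_zero, mul_self_eq_zero] at h
            exact h20 (by rw [← hst, h, ht, zero_smul, zero_smul, add_zero])
          · exact hns (s / t) (by field_simp; linear_combination h)
        have hJz : J z₂ ∈ Submodule.span F ({v, J v} : Set _) := by
          obtain ⟨s', t', hst'⟩ := Submodule.mem_span_pair.1 hzv
          rw [← hst', map_add, map_smul, map_smul, hS.sq]
          exact add_mem (Submodule.smul_mem _ _ (Submodule.subset_span (by simp)))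
            (Submodule.smul_mem _ _ (Submodule.smul_mem _ _ (Submodule.subset_span (by simp))))
        have hwd : w = (s * s - t * t * ν)⁻¹ • (s • z₂ - t • J z₂) := by
          rw [← hst, map_add, map_smul, map_smul, hS.sq, eq_inv_smul_iff₀ hd]
          module
        rw [hwd]
        exact Submodule.smul_mem _ _ (sub_mem (Submodule.smul_mem _ _ hzv) (Submodule.smul_mem _ _ hJz))
      have hz10 : z₁ = 0 := by rw [hz20] at hz; exact neg_eq_zero.1 hz.symm
      have hzero : ∀ (u : Fin m ⊕ Fin m → F) (s t : F), u ≠ 0 → s • g u + t • J (g u) = 0 → s = 0 ∧ t = 0 := by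
        intro u s t hu0 hst
        have hgu : g u ≠ 0 := (map_ne_zero_iff _ g.injective).2 hu0
        have h2b := congrArg J hst
        rw [map_add, map_smul, map_smul, hS.sq, map_zero, smul_smul] at h2b
        have h4 : (s * s - t * t * ν) • g u = 0 := by
          have h5 := congrArg (s • ·) hst
          have h6 := congrArg (t • ·) h2b
          simp only [smul_zero, smul_add, smul_smul] at h5 h6
          have : (s * s - t * t * ν) • g u =
              ((s * s) • g u + (s * t) • J (g u)) - ((t * s) • J (g u) + (t * (t * ν)) • g u) := by module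
          rw [this, h5, h6, sub_zero]
        have h7 := (smul_eq_zero.1 h4).resolve_right hgu
        by_cases ht : t = 0
        · rw [ht, mul_zero, zero_mul, sub_zero, mul_self_eq_zero] at h7
          exact ⟨h7, ht⟩
        · exact absurd (show s / t * (s / t) = ν by field_simp; linear_combination h7) (hns _)
      obtain ⟨p1, q1⟩ := hzero v a₁ b₁ hv0 (by rw [← e₁, hz10, map_zero])
      obtain ⟨p2, q2⟩ := hzero w a₂ b₂ hw0 (by rw [← e₂, hz20, map_zero])
      exact ⟨(sub_eq_zero.1 p1).trans (sub_eq_zero.1 p2).symm, (sub_eq_zero.1 q1).trans (sub_eq_zero.1 q2).symm⟩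
    obtain ⟨v₀, -, hv₀, ⟨q₀, -, hvq₀⟩, hv₀s⟩ := ExtFieldUSp.exists_in_perp hS 0 0
    have hv₀0 : v₀ ≠ 0 := fun h => hv₀s (by rw [h]; exact zero_mem _)
    have hconst : ∀ w (hw : ExtFieldUSp.Bf fl J w w = 0), w ≠ 0 → ca w hw = ca v₀ hv₀ ∧ cb w hw = cb v₀ hv₀ := by
      intro w hw hw0
      obtain ⟨p, hp, hpp, -, hps⟩ := ExtFieldUSp.exists_in_perp hS v₀ w
      rw [ExtFieldUSp.mem_perp hS] at hp
      have h1' : p ∉ Submodule.span F ({v₀, J v₀} : Set _) := fun h =>
        hps (Submodule.span_mono (by intro x hx; simp at hx ⊢; tauto) h)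
      have h2'' : p ∉ Submodule.span F ({w, J w} : Set _) := fun h =>
        hps (Submodule.span_mono (by intro x hx; simp at hx ⊢; tauto) h)
      have e1 := key v₀ p hv₀ hpp hv₀0 (by rw [ExtFieldUSp.B_symm hS]; exact hp.2.1) h1'
      have e2 := key w p hw hpp hw0 (by rw [ExtFieldUSp.B_symm hS]; exact hp.2.2.2) h2''
      exact ⟨e2.1.trans e1.1.symm, e2.2.trans e1.2.symm⟩
    set a := ca v₀ hv₀
    set b := cb v₀ hv₀
    have hiso : ∀ w, ExtFieldUSp.Bf fl J w w = 0 → g (J w) = a • g w + b • J (g w) := fun w hw => by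
      by_cases hw0 : w = 0
      · simp [hw0]
      · rw [hc w hw, (hconst w hw hw0).1, (hconst w hw hw0).2]
    have hall : ∀ y, g (J y) = a • g y + b • J (g y) := by
      have hy : ∀ y, ExtFieldUSp.Bf fl J v₀ y ≠ 0 → g (J y) = a • g y + b • J (g y) := fun y hy => by
        set t := - ExtFieldUSp.Bf fl J y y / (2 * ExtFieldUSp.Bf fl J v₀ y) with ht
        have hq : ExtFieldUSp.Bf fl J (y + t • v₀) (y + t • v₀) = 0 := by
          simp [hv₀, ExtFieldUSp.B_symm hS y v₀, ht]
          have := hS.odd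
          field_simp
          ring
        have h := hiso _ hq
        rw [map_add, map_add, map_add, map_smul, map_smul, map_smul, hiso _ hv₀, map_add, map_smul] at h
        rw [← sub_eq_zero] at h ⊢
        rw [← h]
        module
      intro y
      by_cases h0 : ExtFieldUSp.Bf fl J v₀ y = 0
      · have h := hy (y + q₀) (by rw [map_add, h0, zero_add]; exact hvq₀)
        rw [map_add, map_add, map_add, hy q₀ hvq₀, map_add] at h
        rw [← sub_eq_zero] at h ⊢
        rw [← h]
        module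
      · exact hy y h0
    have hgd : (g₀ : Matrix (Fin m ⊕ Fin m) (Fin m ⊕ Fin m) F) * δ * (g₀⁻¹ : GL (Fin m ⊕ Fin m) F) =
        a • 1 + b • δ := by
      rw [Units.mul_inv_eq_iff_eq_mul]
      apply Matrix.ext_iff_mulVec.mpr
      intro x
      have := hall x
      simp only [hgx, hJ] at this
      simp only [← Matrix.mulVec_mulVec, Matrix.add_mulVec, Matrix.smul_mulVec, Matrix.one_mulVec]
      exact this
    let Φ : K → K := fun k => ⟨(g₀ : Matrix (Fin m ⊕ Fin m) (Fin m ⊕ Fin m) F) * k * (g₀⁻¹ : GL (Fin m ⊕ Fin m) F), by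
      obtain ⟨s, t, hst⟩ := hspan k k.2
      rw [hst, mul_add, add_mul, Matrix.mul_smul, Matrix.mul_smul, Matrix.smul_mul, Matrix.smul_mul, mul_one,
        Units.mul_inv, hgd]
      exact add_mem (K.smul_mem (one_mem K) s) (K.smul_mem (add_mem (K.smul_mem (one_mem K) a) (K.smul_mem hδK b)) t)⟩
    have hΦ : Function.Injective Φ := fun k k' h =>
      Subtype.ext ((Units.mul_right_inj g₀).1 ((Units.mul_left_inj g₀⁻¹).1 (congrArg Subtype.val h)))
    haveI : Finite K := Subtype.finite
    intro k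
    constructor
    · intro hk
      exact (Φ ⟨k, hk⟩).2
    · intro hk
      obtain ⟨k', hk'⟩ := (Finite.injective_iff_surjective.1 hΦ) ⟨_, hk⟩
      have := (Units.mul_right_inj g₀).1 ((Units.mul_left_inj g₀⁻¹).1 (congrArg Subtype.val hk'))
      rw [← this]
      exact k'.2
  obtain ⟨g, ⟨G, hG, hGx⟩, hg⟩ := ExtFieldUSp.all_transvections hS hHyp hmove u c
  convert hG using 1
  refine TransvectionMax.gl_ext fun x => ?_
  rw [TransvectionMax.st_act hf, hGx, hg, hfl]

end Cfsg.Agent.S5665
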