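import Cfsg.Statements.S5666
import Cfsg.Agent.Lib.TensorSp44Pair
import Cfsg.Agent.Lib.TensorSympOrth97
import Cfsg.Agent.Lib.SymplecticAlt

set_option autoImplicit false
open Cfsg

namespace Cfsg.Agent.S5666

open scoped Matrix MatrixGroups Kronecker
open Cfsg.Agent.TensorMax
open Cfsg.Agent.TensorMaxGlue

theorem tensorProductSubgroup_swap {F : Type*} [Field F] {ι : Type} [Fintype ι] [DecidableEq ι] {a b : ℕ}
    (e : ι ≃ Fin a × Fin b) (P : Matrix.GeneralLinearGroup ι F) :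
    Cfsg.Geo.tensorProductSubgroup b a (e.trans (Equiv.prodComm _ _)) P = Cfsg.Geo.tensorProductSubgroup a b e P := by
  have key : ∀ (x : GL (Fin a) F) (y : GL (Fin b) F),
      phi (e.trans (Equiv.prodComm _ _)) P (kr y x) = phi e P (kr x y) := fun x y => by
    refine Units.ext ?_
    rw [phi_val, phi_val]
    congr 2
    ext i j
    simp [kr_val, Matrix.kroneckerMap_apply, mul_comm]
  rw [tensorProductSubgroup_eq, tensorProductSubgroup_eq]
  ext g
  constructor
  · rintro ⟨k, hk, rfl⟩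
    obtain ⟨y, x, rfl⟩ := exists_kr hk
    exact ⟨kr x y, kr_mem x y, (key x y).symm⟩
  · rintro ⟨k, hk, rfl⟩
    obtain ⟨x, y, rfl⟩ := exists_kr hk
    exact ⟨kr y x, kr_mem y x, key x y⟩

theorem formOfGram_swap {F : Type*} [Field F] {a b : ℕ} (f₁ : (Fin a → F) → (Fin a → F) → F)
    (f₂ : (Fin b → F) → (Fin b → F) → F) (x y : Fin b × Fin a → F) :
    Cfsg.Geo.formOfGram id (Cfsg.Geo.gramMatrix f₁ ⊗ₖ Cfsg.Geo.gramMatrix f₂) (x ∘ Equiv.prodComm _ _)
      (y ∘ Equiv.prodComm _ _) = tForm (RingHom.id F) f₂ f₁ x y := by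
  simp only [tForm, Cfsg.Geo.formOfGram]
  rw [← (Equiv.prodComm (Fin a) (Fin b)).sum_comp fun p => ∑ q, x p *
    (Cfsg.Geo.gramMatrix f₂ ⊗ₖ Cfsg.Geo.gramMatrix f₁) p q * (RingHom.id F) (y q)]
  refine Finset.sum_congr rfl fun p _ => ?_
  rw [← (Equiv.prodComm (Fin a) (Fin b)).sum_comp fun q => x (Equiv.prodComm _ _ p) *
    (Cfsg.Geo.gramMatrix f₂ ⊗ₖ Cfsg.Geo.gramMatrix f₁) (Equiv.prodComm _ _ p) q * (RingHom.id F) (y q)]
  refine Finset.sum_congr rfl fun q _ => ?_
  simp only [Matrix.kroneckerMap_apply, Function.comp_apply, Equiv.prodComm_apply, Prod.fst_swap, Prod.snd_swap,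
    RingHom.id_apply, id]
  ring


/-- For a finite field F of odd order q and m ≥ 7, suppose the standard alternating form on F^(2m) is similar, through a change of basis P and a bijection of index sets e, to the tensor product of a non-degenerate symplectic form f₁ on F^(n₁) and a non-degenerate symmetric bilinear form f₂ on F^(n₂) with n₂ ≥ 3. Unless q = 3 and n₂ = 3, the elements of Sp_2m(F) in the stabiliser of this tensor decomposition (the conjugate by P of the Kronecker-product subgroup transported along e) form a maximal subgroup of Sp_2m(F). -/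
theorem result {F : Type*} [Field F] [Fintype F] (m : ℕ) (hm : 7 ≤ m) (hodd : Odd (Fintype.card F)) (n₁ n₂ : ℕ) (hn₂ : 3 ≤ n₂) (hex : ¬ (Fintype.card F = 3 ∧ n₂ = 3)) (e : (Fin m ⊕ Fin m) ≃ Fin n₁ × Fin n₂) (P : Matrix.GeneralLinearGroup (Fin m ⊕ Fin m) F) (f₁ : (Fin n₁ → F) → (Fin n₁ → F) → F) (f₂ : (Fin n₂ → F) → (Fin n₂ → F) → F) (hf₁ : Cfsg.Geo.IsSymplecticForm f₁) (hf₂ : Cfsg.Geo.IsSymmetricForm f₂) (hT : Cfsg.Geo.IsTensorFormStructure id (Cfsg.sympForm m F) f₁ f₂ e P) : Cfsg.Geo.IsMaximalIn (Cfsg.spGL m F) (Cfsg.Geo.tensorProductSubgroup n₁ n₂ e P ⊓ Cfsg.spGL m F) := by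
  classical
  have h2 : (2 : F) ≠ 0 := by
    apply Ring.two_ne_zero
    intro h
    exact (Nat.not_even_iff_odd.2 hodd) (FiniteField.even_card_iff_char_two.1 h |> Nat.even_iff.2)
  have hcard := Fintype.card_congr e
  simp at hcard
  have hpos : 0 < n₁ := by
    rcases Nat.eq_zero_or_pos n₁ with h | h
    · rw [h, zero_mul] at hcard; omega
    · exact h
  by_cases hn2 : n₁ = 2
  · subst hn2
    exact TensorSympOrth97.isMaximalIn_stab m n₂ (Or.inl (by omega)) hodd e P f₁ f₂ hf₁ hf₂ hT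
  -- the first factor has even dimension at least four
  have hn4 : 4 ≤ n₁ := by
    let L : (Fin n₁ → F) →ₗ[F] (Fin n₁ → F) →ₗ[F] F := LinearMap.mk₂ F f₁ hf₁.bilinear.add_left
      (fun s x y => hf₁.bilinear.smul_left s x y) hf₁.bilinear.add_right (fun s x y => hf₁.bilinear.smul_right s x y)
    obtain ⟨k, hk, -⟩ := SymplecticAlt.exists_symp_basis L hf₁.alternating n₁ ⊤
      (by rw [finrank_top, Module.finrank_fin_fun]) fun u _ h => by
        by_contra h0
        obtain ⟨-, v, hv⟩ := hf₁.nondegenerate u h0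
        exact hv (h v Submodule.mem_top)
    omega
  set e' := e.trans (Equiv.prodComm (Fin n₁) (Fin n₂)) with he'
  obtain ⟨c, hc, hT⟩ := hT
  have hform : ∀ x y : Fin n₂ × Fin n₁ → F, Cfsg.sympForm m F (psi e' P x) (psi e' P y) =
      c * tForm (RingHom.id F) f₂ f₁ x y := fun x y => by
    rw [← formOfGram_swap, ← hT]
    rfl
  set K := (Cfsg.spGL m F).comap (phi e' P).toMonoidHom with hK
  have hKmem : ∀ g : GL (Fin n₂ × Fin n₁) F, g ∈ K ↔ ∀ v w,
      tForm (RingHom.id F) f₂ f₁ (TensorSp44.op g v) (TensorSp44.op g w) = tForm (RingHom.id F) f₂ f₁ v w := by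
    intro g
    have hact : ∀ x, (phi e' P g : Matrix (Fin m ⊕ Fin m) (Fin m ⊕ Fin m) F) *ᵥ psi e' P x =
        psi e' P (TensorSp44.op g x) := fun x => phi_psi e' P g x
    constructor
    · intro hg v w
      have h := hg (psi e' P v) (psi e' P w)
      change Cfsg.sympForm m F ((phi e' P g : Matrix (Fin m ⊕ Fin m) (Fin m ⊕ Fin m) F) *ᵥ psi e' P v)
        ((phi e' P g : Matrix (Fin m ⊕ Fin m) (Fin m ⊕ Fin m) F) *ᵥ psi e' P w) = _ at h
      rw [hact, hact, hform, hform] at h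
      exact mul_left_cancel₀ hc h
    · intro hg u v
      obtain ⟨x, rfl⟩ := psi_surjective e' P u
      obtain ⟨y, rfl⟩ := psi_surjective e' P v
      show Cfsg.sympForm m F ((phi e' P g : Matrix (Fin m ⊕ Fin m) (Fin m ⊕ Fin m) F) *ᵥ psi e' P x)
        ((phi e' P g : Matrix (Fin m ⊕ Fin m) (Fin m ⊕ Fin m) F) *ᵥ psi e' P y) = _
      rw [hact, hact, hform, hform, hg]
  have mkEnv : ∀ M : Subgroup (GL (Fin n₂ × Fin n₁) F), Cfsg.Geo.kroneckerSubgroup n₂ n₁ F ⊓ K ≤ M → M ≤ K →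
      TensorSp44.Env f₂ f₁ M := fun M h1 hM =>
    ⟨h2, hf₂, hf₁, hn₂, hn4, fun g hg hp => h1 ⟨hg, (hKmem g).2 hp⟩, fun g hg => (hKmem g).1 (hM hg)⟩
  rw [← tensorProductSubgroup_swap e P, ← he']
  refine isMaximalIn_of e' P _ ?_ fun M h1 hM => ?_
  · -- a transvection outside the tensor stabiliser
    have E := mkEnv K inf_le_right le_rfl
    obtain ⟨y₀, hy₀⟩ : ∃ y₀, f₂ y₀ y₀ ≠ 0 := by
      by_contra hcon
      push Not at hcon
      obtain ⟨a, b, hab⟩ : ∃ a b, f₂ a b ≠ 0 := by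
        obtain ⟨-, b, hb⟩ := hf₂.nondegenerate (Pi.single ⟨0, by omega⟩ 1) (by simp)
        exact ⟨_, b, hb⟩
      have h := hcon (a + b)
      rw [hf₂.bilinear.add_left, hf₂.bilinear.add_right, hf₂.bilinear.add_right, hcon, hcon, hf₂.symm b a,
        zero_add, add_zero, ← two_mul] at h
      exact mul_ne_zero h2 hab h
    set u : Fin n₁ → F := Pi.single ⟨0, by omega⟩ 1 with hu
    obtain ⟨⟨d, hd⟩, -⟩ := hf₁.nondegenerate u (by simp [hu])
    obtain ⟨z, hz0, hz⟩ := TensorMax.exists_perp (sform_symm hf₂) (show 1 < n₂ by omega) ![y₀]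
    have hzy : f₂ z y₀ = 0 := hz 0
    set t := TransvectionMax.st (tForm (RingHom.id F) f₂ f₁) (tp y₀ u) 1 with ht
    have hact : ∀ v, TensorSp44.op t v = v + tForm (RingHom.id F) f₂ f₁ v (tp y₀ u) • tp y₀ u := fun v => by
      rw [ht, TensorSp44.op, Matrix.toLin'_apply, TransvectionMax.st_act E.tF_symp, one_mul]
    refine ⟨t, (hKmem t).2 fun v w => ?_, fun hk => ?_⟩
    · rw [TensorSp44.op, Matrix.toLin'_apply, Matrix.toLin'_apply]
      exact TransvectionMax.st_preserves E.tF_symp _ _ v w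
    obtain ⟨γ, α, hγα⟩ := exists_kr hk
    have hfix : ∀ w, tp ((γ : Matrix (Fin n₂) (Fin n₂) F) *ᵥ z) ((α : Matrix (Fin n₁) (Fin n₁) F) *ᵥ w) = tp z w := by
      intro w
      rw [← TensorSp44.op_kr, ← hγα, hact, E.tF_tp, hzy, zero_mul, zero_smul, add_zero]
    obtain ⟨i, hi⟩ := Function.ne_iff.1 hz0
    obtain ⟨a, hαw⟩ : ∃ a : F, ∀ w, (α : Matrix (Fin n₁) (Fin n₁) F) *ᵥ w = a • w := by
      refine ⟨z i / ((γ : Matrix (Fin n₂) (Fin n₂) F) *ᵥ z) i, fun w => funext fun j => ?_⟩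
      have hne : ((γ : Matrix (Fin n₂) (Fin n₂) F) *ᵥ z) i ≠ 0 := fun e0 => by
        have := congrFun (hfix u) (i, ⟨0, by omega⟩)
        simp only [tp, e0, zero_mul, hu, Pi.single_eq_same, mul_one] at this
        exact hi this.symm
      have := congrFun (hfix w) (i, j)
      simp only [tp] at this
      rw [Pi.smul_apply, smul_eq_mul, div_mul_eq_mul_div, eq_div_iff hne]
      linear_combination this
    obtain ⟨i₁, hi₁⟩ := Function.ne_iff.1 (show y₀ ≠ 0 from fun e0 => hy₀ (by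
      rw [e0]; exact (sform_symm hf₂).zero_left _))
    have h := hact (tp y₀ d)
    rw [hγα, TensorSp44.op_kr, hαw, E.tF_tp] at h
    set k := f₂ y₀ y₀ * f₁ d u with hk'
    have hk0 : k ≠ 0 := mul_ne_zero hy₀ hd
    set g := ((γ : Matrix (Fin n₂) (Fin n₂) F) *ᵥ y₀) i₁ * a - y₀ i₁ with hg
    have hrow : ∀ j, g * d j = k * y₀ i₁ * u j := fun j => by
      have := congrFun h (i₁, j)
      simp only [tp, Pi.add_apply, Pi.smul_apply, smul_eq_mul] at this
      rw [hg]
      linear_combination this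
    have hb := hf₁.bilinear
    have e1 : g • d = (k * y₀ i₁) • u := funext fun j => by simpa using hrow j
    have e2 := congrArg (fun v => f₁ v u) e1
    simp only [hb.smul_left, hf₁.alternating, mul_zero] at e2
    have hg0 : g = 0 := (mul_eq_zero.1 e2).resolve_right hd
    have e3 := hrow ⟨0, by omega⟩
    rw [hg0, zero_mul, hu, Pi.single_eq_same, mul_one] at e3
    exact mul_ne_zero hk0 hi₁ e3.symm
  · have E := mkEnv M h1 hM
    by_cases hNT : TensorSp44.Scal M f₁
    · exact Or.inl (E.le_kron hNT)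
    · right
      obtain ⟨A, hA, hns⟩ : ∃ A : Module.End F (Fin n₂ → F), (∀ v, El M (SOp f₁ v A v)) ∧
          ¬ ∃ s : F, A = s • 1 := by
        simpa [TensorSp44.Scal, not_forall] using hNT
      have hq : 5 ≤ Fintype.card F ∨ 4 ≤ n₂ := by
        by_contra hcon
        push Not at hcon
        obtain ⟨k, hk⟩ := hodd
        have := Fintype.one_lt_card (α := F)
        exact hex ⟨by omega, by omega⟩
      exact fun g hg => E.isometry_mem hq hA hns g ((hKmem g).1 hg)

end Cfsg.Agent.S5666
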