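import Cfsg.Statements.S5668
import Cfsg.Agent.Lib.TensorWreath43SymWreath

set_option autoImplicit false
open Cfsg
open scoped Matrix

namespace Cfsg.Agent.S5668

/-- For a finite field F of odd order q and m ≥ 7, suppose the standard alternating form on F^(2m) is similar, through a change of basis P and a bijection of index sets e, to the t-fold tensor power of a non-degenerate symplectic form f₁ on F^k, with t odd, t ≥ 3 and (q, k) ≠ (3, 2). Then the elements of Sp_2m(F) in the stabiliser of this decomposition (the conjugate by P of the standard tensor-wreath subgroup transported along e) form a maximal subgroup of Sp_2m(F). -/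
theorem result {F : Type*} [Field F] [Fintype F] (m : ℕ) (hm : 7 ≤ m) (hodd : Odd (Fintype.card F)) (k t : ℕ) (ht : Odd t) (ht3 : 3 ≤ t) (hex : ¬ (Fintype.card F = 3 ∧ k = 2)) (e : (Fin m ⊕ Fin m) ≃ (Fin t → Fin k)) (P : Matrix.GeneralLinearGroup (Fin m ⊕ Fin m) F) (f₁ : (Fin k → F) → (Fin k → F) → F) (hf₁ : Cfsg.Geo.IsSymplecticForm f₁) (hT : Cfsg.Geo.IsTensorPowerFormStructure id (Cfsg.sympForm m F) f₁ e P) : Cfsg.Geo.IsMaximalIn (Cfsg.spGL m F) (Cfsg.Geo.tensorWreathSubgroup k t e P ⊓ Cfsg.spGL m F) := by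
  classical
  have hcard : Fintype.card (Fin m ⊕ Fin m) = k ^ t := by rw [Fintype.card_congr e]; simp
  simp only [Fintype.card_sum, Fintype.card_fin] at hcard
  have hk2 : 2 ≤ k := by
    rcases Nat.lt_or_ge k 2 with h | h
    · interval_cases k
      · rw [zero_pow (by omega)] at hcard; omega
      · rw [one_pow] at hcard; omega
    · exact h
  haveI : NeZero k := ⟨by omega⟩
  have h2 : (2 : F) ≠ 0 := by
    intro h
    have hc : ringChar F = 2 := CharP.ringChar_of_prime_eq_zero Nat.prime_two (by exact_mod_cast h)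
    have := FiniteField.even_card_iff_char_two.1 hc
    rw [Nat.odd_iff] at hodd
    omega
  have hex' : 3 ≤ k ∨ 4 < Fintype.card F := by
    have h1 : 1 < Fintype.card F := Fintype.one_lt_card
    rw [Nat.odd_iff] at hodd
    omega
  set G := Cfsg.Geo.gramMatrix f₁ with hGdef
  have hG : TensorWreath43.SG G := TensorWreath43.sG_gram h2 hf₁
  obtain ⟨c, hc, hform⟩ := hT
  have hform' : ∀ x y : TensorWreath43.TI t k → F, Cfsg.sympForm m F ((P : Matrix _ _ F) *ᵥ (x ∘ e))
      ((P : Matrix _ _ F) *ᵥ (y ∘ e)) = c * TensorWreath43.fT G x y := by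
    intro x y
    rw [hform]
    congr 1
    simp only [TensorWreath43.fT, TensorWreath43.pureT, dotProduct, Matrix.mulVec, Finset.mul_sum, id, mul_assoc, hGdef]
  have hsurj : ∀ u : Fin m ⊕ Fin m → F, ∃ x : TensorWreath43.TI t k → F, u = (P : Matrix _ _ F) *ᵥ (x ∘ e) := by
    intro u
    refine ⟨(((P⁻¹ : Matrix.GeneralLinearGroup _ F) : Matrix _ _ F) *ᵥ u) ∘ e.symm, ?_⟩
    rw [show ((((P⁻¹ : Matrix.GeneralLinearGroup _ F) : Matrix _ _ F) *ᵥ u) ∘ e.symm) ∘ e =
      (((P⁻¹ : Matrix.GeneralLinearGroup _ F) : Matrix _ _ F) *ᵥ u) from funext fun p => by simp,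
      Matrix.mulVec_mulVec, Units.mul_inv, Matrix.one_mulVec]
  have hK : ∀ g, TensorWreath43.phi e P g ∈ Cfsg.spGL m F ↔
      TensorWreath43.adjT G (g : Matrix (TensorWreath43.TI t k) (TensorWreath43.TI t k) F) *
        (g : Matrix (TensorWreath43.TI t k) (TensorWreath43.TI t k) F) = 1 := by
    intro g
    constructor
    · intro hg
      refine TensorWreath43.iso_of_fT hG fun x y => ?_
      have h := hg ((P : Matrix _ _ F) *ᵥ (x ∘ e)) ((P : Matrix _ _ F) *ᵥ (y ∘ e))
      rw [show glToMat (Fin m ⊕ Fin m) F (TensorWreath43.phi e P g) =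
        (TensorWreath43.phi e P g : Matrix (Fin m ⊕ Fin m) (Fin m ⊕ Fin m) F) from rfl,
        TensorWreath43.phi_mulVec, TensorWreath43.phi_mulVec, hform', hform'] at h
      exact mul_left_cancel₀ hc h
    · intro hg u v
      obtain ⟨x, rfl⟩ := hsurj u
      obtain ⟨y, rfl⟩ := hsurj v
      rw [show glToMat (Fin m ⊕ Fin m) F (TensorWreath43.phi e P g) =
        (TensorWreath43.phi e P g : Matrix (Fin m ⊕ Fin m) (Fin m ⊕ Fin m) F) from rfl,
        TensorWreath43.phi_mulVec, TensorWreath43.phi_mulVec, hform', hform',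
        TensorWreath43.fT_of_iso hG hg]
  refine TensorWreath43.isMaximalIn_of e P _ ?_ fun M h1 hM2 => ?_
  · obtain ⟨g, hg, hgn⟩ := TensorWreath43.exists_not_wreath hG h2 ht (by omega : 2 ≤ t)
    exact ⟨g, (hK g).2 hg, hgn⟩
  · by_cases hB : TensorWreath43.Big G M
    · exact Or.inr fun g hg => hB g ((hK g).1 hg)
    have H : TensorWreath43.SOver G M := by
      refine ⟨⟨hG, fun j η hη => ?_, fun σ _ => ?_, fun g hg => (hK g).1 (hM2 hg)⟩, h2⟩
      · refine h1 ⟨by rw [TensorWreath43.liftU_eq_pureU]; exact TensorWreath43.pureU_mem_wreath _, (hK _).2 ?_⟩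
        show TensorWreath43.adjT G (TensorWreath43.lift j (η : Matrix (Fin k) (Fin k) F)) *
          TensorWreath43.lift j (η : Matrix (Fin k) (Fin k) F) = 1
        rw [hG.adjT_lift, ← TensorWreath43.lift_mul, hη, TensorWreath43.lift_one]
      · exact h1 ⟨TensorWreath43.permU_mem_wreath σ, (hK _).2 (TensorWreath43.adjT_permT hG σ)⟩
    exact Or.inl (H.le_wreath (by omega) (H.noHit ht hB) hex')

end Cfsg.Agent.S5668
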