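import Cfsg.Statements.S5670
import Mathlib
import Cfsg.Agent.Lib.TensorMaxUnitCentre
import Cfsg.Agent.Lib.TensorMaxUnitGen
import Cfsg.Agent.Lib.TensorMaxUnitDescent
import Cfsg.Agent.Lib.TensorMaxQuadGlue
import Cfsg.Agent.Lib.OrthUnitaryTransvection


set_option autoImplicit false
open Cfsg

namespace Cfsg.Agent.S5670

open scoped Matrix MatrixGroups Kronecker
open Cfsg.Agent.TensorMax Cfsg.Agent.TensorMaxGlue Cfsg.Agent.TransvectionMax

/-- A subgroup containing the transvections at all isotropic vectors contains the special unitary group. -/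
theorem su_le {F : Type*} [Field F] [Fintype F] {n q : ℕ} (hF : Fintype.card F = q ^ 2) (hn : 4 ≤ n)
    {N : Subgroup (GL (Fin n) F)}
    (hN : ∀ (v : Fin n → F) (c : F), Cfsg.hermForm n F q v v = 0 → c + c ^ q = 0 → ∃ g ∈ N, ∀ x,
      (g : Matrix (Fin n) (Fin n) F) *ᵥ x = x + (c * Cfsg.hermForm n F q x v) • v) :
    Cfsg.GU n F q ⊓ Cfsg.Geo.specialLinear (Fin n) F ≤ N := by
  intro g hg
  obtain ⟨hgU, hgS⟩ := hg
  have hd : (g : Matrix (Fin n) (Fin n) F).det = 1 := congrArg Units.val hgS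
  let a : Cfsg.SU n F q := OrthUnitaryHerm.mkSU (g : Matrix (Fin n) (Fin n) F) hd hgU
  let Φ : Cfsg.SU n F q →* GL (Fin n) F :=
    Matrix.SpecialLinearGroup.toGL.comp (Cfsg.SU n F q).subtype
  have htop := OrthUnitaryTransvection.tGroup_eq_top (n := n) hF (by omega) (by omega)
  have hle : OrthUnitaryTransvection.tGroup n F q ≤ N.comap Φ := by
    refine (Subgroup.closure_le _).2 ?_
    rintro A ⟨v, c, hv, hA⟩
    have hact : ∀ x, ((Φ A : GL (Fin n) F) : Matrix (Fin n) (Fin n) F) *ᵥ x =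
        x + (c * Cfsg.hermForm n F q x v) • v := fun x => by
      show ((A : Matrix.SpecialLinearGroup (Fin n) F) : Matrix (Fin n) (Fin n) F) *ᵥ x = _
      rw [hA, OrthUnitaryHerm.transvection_mulVec]
    by_cases hv0 : v = 0
    · have : Φ A = 1 := gl_ext fun x => by rw [hact, hv0, smul_zero, add_zero, one_act]
      show Φ A ∈ N
      rw [this]
      exact N.one_mem
    · have hAU : OrthUnitaryHerm.IsU q ((A : Matrix.SpecialLinearGroup (Fin n) F) : Matrix (Fin n) (Fin n) F) := A.2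
      rw [hA] at hAU
      have hc := OrthUnitaryTransvection.skew_of_isU hF hv0 hv hAU
      obtain ⟨h, hh, hhx⟩ := hN v c hv hc
      show Φ A ∈ N
      rw [show Φ A = h from gl_ext fun x => by rw [hact, hhx]]
      exact hh
  have ha : Φ a ∈ N := hle (htop ▸ Subgroup.mem_top a)
  rwa [show Φ a = g from Units.ext rfl] at ha

/-- Let F be the field with q² elements and n = n₁ n₂ ≥ 13 with 2 ≤ n₁ < n₂ and (n₁, q) ≠ (2, 2). Suppose the standard unitary form on F^n is similar, through a change of basis P and a bijection of index sets e, to the tensor product of non-degenerate unitary forms f₁ on F^(n₁) and f₂ on F^(n₂) (forms linear in the first argument with f_i(v, w) = f_i(w, v)^q). Then the elements of SU_n(q) in the stabiliser of this tensor decomposition form a maximal subgroup of SU_n(q). -/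
theorem result {F : Type*} [Field F] [Fintype F] (n q : ℕ) (hF : Fintype.card F = q ^ 2) (hn : 13 ≤ n) (n₁ n₂ : ℕ) (h1 : 2 ≤ n₁) (h12 : n₁ < n₂) (hex : ¬ (n₁ = 2 ∧ q = 2)) (e : Fin n ≃ Fin n₁ × Fin n₂) (P : Matrix.GeneralLinearGroup (Fin n) F) (f₁ : (Fin n₁ → F) → (Fin n₁ → F) → F) (f₂ : (Fin n₂ → F) → (Fin n₂ → F) → F) (hf₁ : Cfsg.Geo.IsUnitaryFormPow q f₁) (hf₂ : Cfsg.Geo.IsUnitaryFormPow q f₂) (hT : Cfsg.Geo.IsTensorFormStructure (fun x : F => x ^ q) (Cfsg.hermForm n F q) f₁ f₂ e P) : Cfsg.Geo.IsMaximalIn (Cfsg.GU n F q ⊓ Cfsg.Geo.specialLinear (Fin n) F) (Cfsg.Geo.tensorProductSubgroup n₁ n₂ e P ⊓ (Cfsg.GU n F q ⊓ Cfsg.Geo.specialLinear (Fin n) F)) := by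
  classical
  obtain ⟨τ, hτ, hfU⟩ := TransvectionUnitaryGen.herm_isUnitaryForm (n := n) hF
  obtain ⟨c, hc, hT⟩ := hT
  let σ : F →+* F := τ.toRingHom
  have hσ : ∀ x, σ x = x ^ q := hτ
  have hinv : ∀ x, σ (σ x) = x := hfU.involutive
  have hne : ∃ x, σ x ≠ x := TransvectionUnitary.exists_not_fixed hfU.ne_refl
  have hmk : ∀ {m : ℕ} {f : (Fin m → F) → (Fin m → F) → F}, Cfsg.Geo.IsUnitaryFormPow q f → UForm σ f := by
    intro m f hf
    refine ⟨⟨hf.add_left, hf.smul_left, fun x y => by rw [hσ, one_mul]; exact hf.herm y x, hinv, by simp, fun x hx => ?_⟩, hne⟩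
    by_contra h0
    obtain ⟨y, hy⟩ := (hf.nondegenerate x h0).2
    exact hy (hx y)
  have H₂ := hmk hf₂
  have H₁' := hmk hf₁
  set P' := psi e P with hP'
  have hT' : ∀ u w, Cfsg.hermForm n F q (P' u) (P' w) = c * tForm σ f₁ f₂ u w := fun u w => by
    rw [hP', psi_apply, psi_apply, hT u w]
    simp only [tForm, Cfsg.Geo.formOfGram, hσ]
  -- the constant is fixed
  have hcfix : σ c = c := by
    obtain ⟨u, hu⟩ : ∃ u, tForm σ f₁ f₂ u u ≠ 0 := by
      obtain ⟨x, -, hx⟩ := TransvectionUnitaryGen.exists_norm_val H₁'.isU (U := (⊤ : Submodule F (Fin n₁ → F)))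
        (fun w _ hw => by
          obtain ⟨⟨x, hx⟩, ⟨y, hy⟩⟩ := H₁'.isU.nondegenerate w hw
          exact ⟨⟨x, Submodule.mem_top, hx⟩, ⟨y, Submodule.mem_top, hy⟩⟩)
        (by
          haveI : Nonempty (Fin n₁) := ⟨⟨0, by omega⟩⟩
          exact top_ne_bot) (s := 1) (map_one _)
      obtain ⟨y, -, hy⟩ := TransvectionUnitaryGen.exists_norm_val H₂.isU (U := (⊤ : Submodule F (Fin n₂ → F)))
        (fun w _ hw => by
          obtain ⟨⟨x, hx⟩, ⟨y, hy⟩⟩ := H₂.isU.nondegenerate w hw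
          exact ⟨⟨x, Submodule.mem_top, hx⟩, ⟨y, Submodule.mem_top, hy⟩⟩)
        (by
          haveI : Nonempty (Fin n₂) := ⟨⟨0, by omega⟩⟩
          exact top_ne_bot) (s := 1) (map_one _)
      exact ⟨tp x y, by rw [tForm_tp H₂.s H₁'.s, hx, hy, one_mul]; exact one_ne_zero⟩
    have h := hfU.herm (P' u) (P' u)
    change _ = σ _ at h
    rw [hT', map_mul, tForm_conj H₁' H₂] at h
    exact (mul_right_cancel₀ hu h).symm
  let g₁ : (Fin n₁ → F) → (Fin n₁ → F) → F := fun v w => c * f₁ v w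
  have H₁ : UForm σ g₁ := ⟨⟨fun x y v => by simp [g₁, H₁'.s.add_left, mul_add],
    fun s x v => by simp [g₁, H₁'.s.smul_left]; ring,
    fun x y => by simp [g₁, hcfix, H₁'.conj_f], hinv, by simp,
    fun x hx => H₁'.s.nd x fun y => (mul_eq_zero.1 (hx y)).resolve_left hc⟩, hne⟩
  have hTg : ∀ u w, Cfsg.hermForm n F q (P' u) (P' w) = tForm σ g₁ f₂ u w := fun u w => by
    rw [hT']
    simp only [tForm, Cfsg.Geo.formOfGram, Cfsg.Geo.gramMatrix, Matrix.kroneckerMap_apply, Finset.mul_sum, g₁]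
    exact Finset.sum_congr rfl fun a _ => Finset.sum_congr rfl fun b _ => by ring
  have hcomap : (Cfsg.GU n F q ⊓ Cfsg.Geo.specialLinear (Fin n) F).comap (phi e P).toMonoidHom =
      SUT σ g₁ f₂ := by
    ext g
    constructor
    · rintro ⟨hgU, hgS⟩
      refine ⟨by rw [← phi_det e P g]; exact congrArg Units.val hgS, fun u w => ?_⟩
      have h := hgU (P' u) (P' w)
      change Cfsg.hermForm n F q ((phi e P g : Matrix (Fin n) (Fin n) F) *ᵥ P' u)
        ((phi e P g : Matrix (Fin n) (Fin n) F) *ᵥ P' w) = _ at h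
      rwa [hP', phi_psi, phi_psi, ← hP', hTg, hTg] at h
    · rintro ⟨hgd, hgT⟩
      refine ⟨fun x y => ?_, Units.ext (by
        rw [Matrix.GeneralLinearGroup.val_det_apply, Units.val_one]
        exact (phi_det e P g).trans hgd)⟩
      obtain ⟨u, rfl⟩ := psi_surjective e P x
      obtain ⟨w, rfl⟩ := psi_surjective e P y
      show Cfsg.hermForm n F q ((phi e P g : Matrix (Fin n) (Fin n) F) *ᵥ psi e P u)
        ((phi e P g : Matrix (Fin n) (Fin n) F) *ᵥ psi e P w) = _
      rw [phi_psi, phi_psi, ← hP', hTg, hTg, hgT]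
  have hprod : n = n₁ * n₂ := by simpa using Fintype.card_congr e
  have hl : 5 ≤ n₂ := by
    by_contra h
    have := Nat.mul_le_mul (show n₁ ≤ 3 by omega) (show n₂ ≤ 4 by omega)
    omega
  have hq : n₁ ≤ 2 → ∃ s : F, σ s = s ∧ s ≠ 0 ∧ s ≠ 1 := by
    intro hk2
    by_contra! hall
    have hq2 : q ≠ 2 := fun h => hex ⟨by omega, h⟩
    obtain ⟨ω, hω⟩ := hne
    have hω0 : ω ≠ 0 := fun e0 => hω (by rw [e0, map_zero])
    have hF4 : ∀ x : F, x = 0 ∨ x ^ (q + 1) = 1 := fun x => by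
      by_cases hx : x = 0
      · exact Or.inl hx
      · exact Or.inr (by
          have := hall (x * σ x) (by rw [map_mul, hinv, mul_comm]) (mul_ne_zero hx (fun e0 => hx (by
            rw [← hinv x, e0, map_zero])))
          rwa [hσ, ← pow_succ'] at this)
    -- every unit is killed by q + 1
    have hqpos : 2 ≤ q := by
      by_contra h
      have h1 := Fintype.one_lt_card (α := F)
      interval_cases q <;> simp_all
    have hcardu : Fintype.card Fˣ = q ^ 2 - 1 := by rw [Fintype.card_units, hF]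
    obtain ⟨g, hg⟩ := IsCyclic.exists_generator (α := Fˣ)
    have hord : orderOf g = q ^ 2 - 1 := by
      rw [orderOf_eq_card_of_forall_mem_zpowers hg, Nat.card_eq_fintype_card, hcardu]
    have hdvd : q ^ 2 - 1 ∣ q + 1 := by
      rw [← hord]
      refine orderOf_dvd_of_pow_eq_one (Units.ext ?_)
      rw [Units.val_pow_eq_pow_val, Units.val_one]
      exact (hF4 g).resolve_left g.ne_zero
    have hle := Nat.le_of_dvd (by omega) hdvd
    have : 3 * q ≤ q ^ 2 := by rw [sq]; exact Nat.mul_le_mul_right q (by omega)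
    omega
  refine isMaximalIn_of e P _ ?_ (fun M h1' h2' => ?_)
  · obtain ⟨x, -, hx⟩ := TransvectionUnitaryGen.exists_norm_val H₁.isU (U := (⊤ : Submodule F (Fin n₁ → F)))
      (fun w _ hw => by
        obtain ⟨⟨x, hx⟩, ⟨y, hy⟩⟩ := H₁.isU.nondegenerate w hw
        exact ⟨⟨x, Submodule.mem_top, hx⟩, ⟨y, Submodule.mem_top, hy⟩⟩)
      (by
        haveI : Nonempty (Fin n₁) := ⟨⟨0, by omega⟩⟩
        exact top_ne_bot) (s := 1) (map_one _)
    obtain ⟨x', hx'0, hx'x⟩ := exists_perp H₁.s (show 1 < n₁ by omega) ![x]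
    have hx'x : g₁ x' x = 0 := hx'x 0
    obtain ⟨a, ha, -⟩ := H₂.exists_iso_perp (m := 0) (by omega) Fin.elim0
    obtain ⟨b, -, hab, hba⟩ := H₂.exists_partner ha
    obtain ⟨cc, hcc, hcc'⟩ := H₂.exists_iso_perp (m := 2) (by omega) ![a, b]
    have hca : f₂ cc a = 0 := hcc' 0
    have hcb : f₂ cc b = 0 := hcc' 1
    set W := tp x a + tp x' cc with hW
    have hWW : tForm σ g₁ f₂ W W = 0 := by
      rw [hW, tForm_add_left, tForm_add_right, tForm_add_right, tForm_tp H₂.s H₁.s, tForm_tp H₂.s H₁.s,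
        tForm_tp H₂.s H₁.s, tForm_tp H₂.s H₁.s, ha.2, hcc.2, hx'x, H₁.s.symm_zero hx'x]
      simp
    obtain ⟨z, hz0, hz⟩ := H₁.exists_skew
    have hU := tForm_isU H₁ H₂
    set g := ft (tForm σ g₁ f₂) W (σ z • W) with hg
    have hgx : ∀ u, (g : Matrix (Fin n₁ × Fin n₂) (Fin n₁ × Fin n₂) F) *ᵥ u =
        u + (z * tForm σ g₁ f₂ u W) • W := fun u => TransvectionUnitary.ut_act hU hWW z u
    refine ⟨g, ?_, fun hgk => ?_⟩
    · have h : g ∈ SUT σ g₁ f₂ := ⟨congrArg Units.val (tv_det W (row _ (σ z • W))),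
        TransvectionUnitary.ut_preserves hU hWW hz⟩
      rw [← hcomap] at h
      exact h
    · obtain ⟨α, β, hαβ⟩ := exists_kr hgk
      have h := hgx (tp x b)
      rw [hαβ, kr_tp, hW, tForm_add_right, tForm_tp H₂.s H₁.s, tForm_tp H₂.s H₁.s, hx, hba, H₂.s.symm_zero hcb,
        one_mul, mul_zero, add_zero, mul_one] at h
      set v := (α : Matrix (Fin n₁) (Fin n₁) F) *ᵥ x
      set d := (β : Matrix (Fin n₂) (Fin n₂) F) *ᵥ b
      have hxr : ∀ (p : Fin n₁ → F) (r : Fin n₂ → F),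
          tForm σ g₁ f₂ (tp v d) (tp p r) =
            g₁ x p * f₂ b r + z * (g₁ x p * f₂ a r + g₁ x' p * f₂ cc r) := fun p r => by
        rw [h]
        simp only [smul_add, tForm_add_left, tForm_smul_left H₁ H₂, tForm_tp H₂.s H₁.s]
        ring
      obtain ⟨cs, -, -, hccs⟩ := H₂.exists_partner hcc
      have hccs' : f₂ cc cs = 1 := by rw [← H₂.conj_f, hccs, map_one]
      obtain ⟨p, hp⟩ : ∃ p, g₁ x' p ≠ 0 := by
        by_contra! h0
        exact hx'0 (H₁.s.nd x' h0)
      set p' := p - σ (g₁ x p) • x with hp'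
      have hp'x : g₁ x p' = 0 := by rw [hp', H₁.s.sub_right, H₁.s.smul_right, hinv, hx, mul_one, sub_self]
      have hp'' : g₁ x' p' = g₁ x' p := by
        rw [hp', H₁.s.sub_right, H₁.s.smul_right, hx'x, mul_zero, sub_zero]
      have e1 := hxr x a
      have e2 := hxr p' a
      have e3 := hxr x cs
      have e4 := hxr p' cs
      simp only [tForm_tp H₂.s H₁.s, hp'x, hp'', hx, hx'x, ha.2, hca, hba, hccs', zero_mul, mul_zero, add_zero,
        zero_add, one_mul, mul_one] at e1 e2 e3 e4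
      rcases mul_eq_zero.1 e2 with e0 | e0
      · rw [e0, zero_mul] at e4
        exact mul_ne_zero hz0 hp e4.symm
      · rw [e0, mul_zero] at e1
        exact zero_ne_one e1
  · rw [hcomap] at h1' h2' ⊢
    have C := ctx_unit H₁ H₂ h1' (by omega) (by omega) h2'
    rcases centre_or_transvections H₁ H₂ C h1' h1 hq with K₁ | hEl
    · exact Or.inl (unit_le_kron H₁ H₂ C h1' h12 hl K₁ (rho_of_centre H₁ H₂ C h1' K₁))
    right
    have hTV : ∀ (u : Fin n₁ → F) (a : Fin n₂ → F), Iso g₁ u → Iso f₂ a → TV σ g₁ f₂ M (tp u a) := by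
      intro u a hu ha z hz
      obtain ⟨g, hg, hgN⟩ := hEl u a z hu ha hz
      refine ⟨g, hg, fun x => ?_⟩
      rw [← Matrix.toLin'_apply, hgN, LinearMap.add_apply, Module.End.one_apply, SOp_apply, LinearMap.smul_apply,
        rkS_apply, smul_smul, tp_smul_left, tForm_right H₂.s H₁.s]
    have hsu : Cfsg.GU n F q ⊓ Cfsg.Geo.specialLinear (Fin n) F ≤ M.map (phi e P).toMonoidHom := by
      refine su_le hF (by omega) fun v s hv hs => ?_
      obtain ⟨V, rfl⟩ := psi_surjective e P v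
      rw [← hP', hTg] at hv
      obtain ⟨g, hg, hgx⟩ := tv_all H₁ H₂ C hTV (by omega) h1 hv s (by
        rw [hσ]; exact eq_neg_of_add_eq_zero_right hs)
      refine ⟨phi e P g, ⟨g, hg, rfl⟩, fun x => ?_⟩
      obtain ⟨u, rfl⟩ := psi_surjective e P x
      rw [phi_psi, hgx, map_add, map_smul, ← hP', hTg]
    rw [← hcomap]
    refine (Subgroup.comap_mono hsu).trans (le_of_eq ?_)
    exact Subgroup.comap_map_eq_self_of_injective (phi e P).injective M

end Cfsg.Agent.S5670
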