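import Cfsg.Statements.S5674
import Cfsg.Agent.Lib.OmegaMaxGlue
import Cfsg.Agent.Lib.OmegaStabSingular
import Cfsg.Agent.Lib.OmegaStd

set_option autoImplicit false
open Cfsg

namespace Cfsg.Agent.S5674

open Cfsg.Agent.OrthUnitaryQuad Cfsg.Agent.OrthUnitaryPrelude Cfsg.Agent.OmegaClasses Cfsg.Agent.OmegaGeo Cfsg.Agent.OmegaMaxGlue
open Cfsg.Agent.OmegaStd

/-- Let F be a finite field of odd order, m ≥ 6, Q the standard quadratic form x₀² + Σ x_i y_i on F^(2m+1) and Ω the commutator subgroup of its isometry group inside GL_(2m+1)(F). The elements of Ω stabilising a non-zero subspace on which Q vanishes form a maximal subgroup of Ω. -/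
theorem result {F : Type*} [Field F] [Fintype F] (hodd : Odd (Fintype.card F)) (m : ℕ) (hm : 6 ≤ m) (W : Submodule F (Unit ⊕ (Fin m ⊕ Fin m) → F)) (hW0 : W ≠ ⊥) (hW : Cfsg.Geo.IsTotallySingularQuad (Cfsg.quadFormOdd m F) W) : Cfsg.Geo.IsMaximalIn (Cfsg.Geo.omegaGL (Cfsg.quadFormOdd m F)) (Cfsg.Geo.subspaceStabilizer W ⊓ Cfsg.Geo.omegaGL (Cfsg.quadFormOdd m F)) := by
  classical
  obtain ⟨q, hq, hnd⟩ : ∃ q : QuadraticForm F (Unit ⊕ (Fin m ⊕ Fin m) → F),
      ⇑q = Cfsg.quadFormOdd m F ∧ (QuadraticMap.polarBilin q).Nondegenerate :=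
    ⟨QuadClassify.qOdd m F, QuadClassify.qOdd_coe m, nondeg_odd (two_ne_zero rfl hodd)⟩
  rw [← hq] at hW ⊢
  have hd : Module.finrank F (Unit ⊕ (Fin m ⊕ Fin m) → F) = 2 * m + 1 := by simp; omega
  exact isMaximalIn_stabilizer (OmegaStabSingular.exists_move hnd (by omega) hW0 hW)
    fun M hM g hg _ hgW => OmegaStabSingular.commutator_le hnd (by omega) hW
      (fun U _ => by omega) M hM hg hgW

end Cfsg.Agent.S5674
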