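import Cfsg.Statements.S5675
import Cfsg.Agent.Lib.OmegaStabNondegGlue

set_option autoImplicit false
open Cfsg

namespace Cfsg.Agent.S5675

open Cfsg.Agent.OrthUnitaryQuad Cfsg.Agent.OrthUnitaryPrelude Cfsg.Agent.OmegaClasses Cfsg.Agent.OmegaGeo Cfsg.Agent.OmegaMaxGlue Cfsg.Agent.OmegaStabNondeg

/-- Let F be a finite field of odd order q, m ≥ 6, Q the standard quadratic form on F^(2m+1) and Ω the commutator subgroup of its isometry group. Let W be a non-zero subspace of even dimension on which the polar form of Q is non-degenerate; exclude the case q = 3, dim W = 2 with Q vanishing on some line of W (a plus-type plane). Then the elements of Ω stabilising W (equivalently, stabilising its orthogonal complement, of odd dimension) form a maximal subgroup of Ω. -/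
theorem result {F : Type*} [Field F] [Fintype F] (hodd : Odd (Fintype.card F)) (m : ℕ) (hm : 6 ≤ m) (W : Submodule F (Unit ⊕ (Fin m ⊕ Fin m) → F)) (hW0 : W ≠ ⊥) (hev : Even (Module.finrank F W)) (hW : Cfsg.Geo.IsNondegenerateOn (QuadraticMap.polar (Cfsg.quadFormOdd m F)) W) (hex : ¬ (Fintype.card F = 3 ∧ Module.finrank F W = 2 ∧ Cfsg.Geo.IsPlusTypeOn (Cfsg.quadFormOdd m F) W)) : Cfsg.Geo.IsMaximalIn (Cfsg.Geo.omegaGL (Cfsg.quadFormOdd m F)) (Cfsg.Geo.subspaceStabilizer W ⊓ Cfsg.Geo.omegaGL (Cfsg.quadFormOdd m F)) := by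
  classical
  obtain ⟨q, hq, hnd⟩ : ∃ q : QuadraticForm F (Unit ⊕ (Fin m ⊕ Fin m) → F),
      ⇑q = Cfsg.quadFormOdd m F ∧ (QuadraticMap.polarBilin q).Nondegenerate :=
    ⟨QuadClassify.qOdd m F, QuadClassify.qOdd_coe m, nondeg_odd (OmegaStd.two_ne_zero rfl hodd)⟩
  rw [← hq] at hW hex ⊢
  have hd : Module.finrank F (Unit ⊕ (Fin m ⊕ Fin m) → F) = 2 * m + 1 := by simp; omega
  refine OmegaStabNondegGlue.isMaximalIn hnd hW hW0 (fun h => ?_) (by omega)
    (fun h _ _ => by omega) ?_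
  · rw [h, finrank_top, hd] at hev
    exact (Nat.not_even_iff_odd.2 ⟨m, rfl⟩) hev
  · rintro ⟨hq3, U, hU2, -, hplus, rfl | ⟨-, hsum⟩⟩
    · refine hex ⟨?_, hU2, hplus⟩
      have := Fintype.one_lt_card (α := F)
      obtain ⟨r, hr⟩ := hodd
      omega
    · obtain ⟨r, hr⟩ := hev
      omega

end Cfsg.Agent.S5675
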