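import Cfsg.Statements.S5677
import Cfsg.Agent.Lib.OmegaDecompGlue

set_option autoImplicit false
open Cfsg

namespace Cfsg.Agent.S5677

open Cfsg.Agent.OmegaMaxGlue

/-- Let F be a finite field of odd order q, m ≥ 6, Q the standard quadratic form on F^(2m+1) and Ω the commutator subgroup of its isometry group. Let D be a decomposition of F^(2m+1) into t ≥ 2 pairwise orthogonal, pairwise Q-isometric subspaces of equal dimension k > 1 on which the polar form is non-degenerate. Unless q = 3 and k = 3, the elements of Ω permuting the members of D form a maximal subgroup of Ω. -/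
theorem result {F : Type*} [Field F] [Fintype F] (hodd : Odd (Fintype.card F)) (m : ℕ) (hm : 6 ≤ m) {t : ℕ} (k : ℕ) (hk : 1 < k) (D : Fin t → Submodule F (Unit ⊕ (Fin m ⊕ Fin m) → F)) (hD : Cfsg.Geo.IsOrthogonalMDecomposition (Cfsg.quadFormOdd m F) k D) (hex : ¬ (Fintype.card F = 3 ∧ k = 3)) : Cfsg.Geo.IsMaximalIn (Cfsg.Geo.omegaGL (Cfsg.quadFormOdd m F)) (Cfsg.Geo.decompositionStabilizer D ⊓ Cfsg.Geo.omegaGL (Cfsg.quadFormOdd m F)) := by
  classical
  have h2 : (2 : F) ≠ 0 := OmegaStd.two_ne_zero rfl hodd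
  obtain ⟨q, hq, hnd⟩ : ∃ q : QuadraticForm F (Unit ⊕ (Fin m ⊕ Fin m) → F),
      ⇑q = Cfsg.quadFormOdd m F ∧ (QuadraticMap.polarBilin q).Nondegenerate :=
    ⟨QuadClassify.qOdd m F, QuadClassify.qOdd_coe m, nondeg_odd h2⟩
  rw [← hq] at hD ⊢
  have htk := OmegaDecompGlue.card_mul hD
  have hd : Fintype.card (Unit ⊕ (Fin m ⊕ Fin m)) = 2 * m + 1 := by simp; omega
  have ht := hD.decomp.decomp.two_le
  have hodd' : Odd (t * k) := ⟨m, by omega⟩
  obtain ⟨hto, hko⟩ := Nat.odd_mul.1 hodd'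
  obtain ⟨a, ha⟩ := hto
  obtain ⟨b, hb⟩ := hko
  have h3 : Fintype.card F ≠ 2 := fun h => by
    rw [h] at hodd
    exact absurd hodd (by decide)
  refine OmegaDecompGlue.isMaximalIn hnd hD ⟨by omega, ht, by rw [Module.finrank_pi]; omega,
    fun _ => by omega, fun h => ?_, fun _ => h2, fun h => absurd h h3⟩
  have := Fintype.one_lt_card (α := F)
  obtain ⟨r, hr⟩ := hodd
  have : Fintype.card F ≠ 3 := fun h' => hex ⟨h', h⟩
  omega

end Cfsg.Agent.S5677
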