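import Cfsg.Statements.S5680
import Cfsg.Agent.Lib.ExtFieldOrthGlue
import Cfsg.Agent.Lib.ExtFieldThree10Glue

set_option autoImplicit false
open Cfsg

namespace Cfsg.Agent.S5680

/-- Let F be a finite field of odd order, m ≥ 6, Q the standard quadratic form on F^(2m+1) and Ω the commutator subgroup of its isometry group. Let K be a subfield of the algebra of (2m+1) × (2m+1) matrices over F containing the scalars, of prime degree r over F with r ≠ 2m + 1, whose elements are self-adjoint for the polar form of Q. Then the elements of Ω normalising K form a maximal subgroup of Ω. -/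
theorem result {F : Type*} [Field F] [Fintype F] (hodd : Odd (Fintype.card F)) (m : ℕ) (hm : 6 ≤ m) (r : ℕ) (hr : r.Prime) (hrn : 2 * m + 1 ≠ r) (K : Subalgebra F (Matrix (Unit ⊕ (Fin m ⊕ Fin m)) (Unit ⊕ (Fin m ⊕ Fin m)) F)) (hK : Cfsg.Geo.IsFieldSubalgebra r K) (hsa : Cfsg.Geo.IsSelfAdjointFor (QuadraticMap.polar (Cfsg.quadFormOdd m F)) K) : Cfsg.Geo.IsMaximalIn (Cfsg.Geo.omegaGL (Cfsg.quadFormOdd m F)) (Cfsg.Geo.subalgebraNormalizer K ⊓ Cfsg.Geo.omegaGL (Cfsg.quadFormOdd m F)) := by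
  classical
  have h2 : (2 : F) ≠ 0 := by
    apply Ring.two_ne_zero
    intro h
    exact (Nat.not_even_iff_odd.2 hodd) (FiniteField.even_card_iff_char_two.1 h |> Nat.even_iff.2)
  have hnd := Cfsg.Agent.OmegaMaxGlue.nondeg_odd (F := F) (m := m) h2
  have hcoe : (⇑(Cfsg.Agent.QuadClassify.qOdd m F) : _ → F) = Cfsg.quadFormOdd m F := funext fun x => by
    rw [Cfsg.Agent.QuadClassify.qOdd_apply]
  rw [← hcoe] at hsa ⊢
  have hcard : Fintype.card (Unit ⊕ (Fin m ⊕ Fin m)) = 2 * m + 1 := by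
    simp only [Fintype.card_sum, Fintype.card_unit, Fintype.card_fin]; omega
  obtain ⟨k, hk⟩ : r ∣ 2 * m + 1 := hcard ▸ Cfsg.Agent.ExtFieldOrthGlue.dvd_card K hK
  have hk1 : k ≠ 1 := fun h => hrn (by rw [hk, h, mul_one])
  have hkodd : Odd k := (Nat.odd_mul.1 (hk ▸ odd_two_mul_add_one m)).2
  have hro : Odd r := (Nat.odd_mul.1 (hk ▸ odd_two_mul_add_one m)).1
  rcases Nat.lt_or_ge k 4 with hlt | hge
  · obtain ⟨j, hj⟩ := hkodd
    obtain rfl : k = 3 := by omega
    obtain ⟨i, hi⟩ := hro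
    exact Cfsg.Agent.ExtFieldThree10Glue.isMaximalIn (Cfsg.Agent.QuadClassify.qOdd m F) hnd h2 hr K hK hsa
      (by rw [hcard, hk, mul_comm]) (by omega)
  · have h5 : 5 ≤ k := by obtain ⟨j, hj⟩ := hkodd; omega
    have h4 : 4 * r < 2 * m + 1 := by
      rw [hk, mul_comm 4 r]
      exact Nat.mul_lt_mul_of_pos_left (by omega) hr.pos
    exact Cfsg.Agent.ExtFieldOrthGlue.isMaximalIn (Cfsg.Agent.QuadClassify.qOdd m F) hnd h2 hr K hK hsa
      (by rw [hcard]; omega) (by rw [hcard]; intro h; omega)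

end Cfsg.Agent.S5680
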