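import Cfsg.Statements.S5682
import Cfsg.Agent.Lib.ThreeFramesTensor
import Cfsg.Agent.Lib.OmegaMaxGlue

set_option autoImplicit false
open Cfsg

namespace Cfsg.Agent.S5682

/-- Let F be the field with 3 elements, m ≥ 6, Q the standard quadratic form on F^(2m+1) and Ω the commutator subgroup of its isometry group. Suppose the polar form of Q is similar, through P and e, to the tensor product of non-degenerate symmetric bilinear forms f₁ on F^3 and f₂ on F^(n₂) with 3 < n₂. Then the elements of Ω in the stabiliser of this tensor decomposition form a subgroup that is not maximal: some subgroup lies strictly between it and Ω. -/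
theorem result {F : Type*} [Field F] [Fintype F] (hq : Fintype.card F = 3) (m : ℕ) (hm : 6 ≤ m) (n₂ : ℕ) (h2 : 3 < n₂) (e : (Unit ⊕ (Fin m ⊕ Fin m)) ≃ Fin 3 × Fin n₂) (P : Matrix.GeneralLinearGroup (Unit ⊕ (Fin m ⊕ Fin m)) F) (f₁ : (Fin 3 → F) → (Fin 3 → F) → F) (f₂ : (Fin n₂ → F) → (Fin n₂ → F) → F) (hf₁ : Cfsg.Geo.IsSymmetricForm f₁) (hf₂ : Cfsg.Geo.IsSymmetricForm f₂) (hT : Cfsg.Geo.IsTensorFormStructure id (QuadraticMap.polar (Cfsg.quadFormOdd m F)) f₁ f₂ e P) : ∃ K : Subgroup (Matrix.GeneralLinearGroup (Unit ⊕ (Fin m ⊕ Fin m)) F), Cfsg.Geo.tensorProductSubgroup 3 n₂ e P ⊓ Cfsg.Geo.omegaGL (Cfsg.quadFormOdd m F) < K ∧ K < Cfsg.Geo.omegaGL (Cfsg.quadFormOdd m F) := by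
  have hnd := OmegaMaxGlue.nondeg_odd (m := m) (ThreeFrames.two_ne hq)
  rw [← QuadClassify.qOdd_coe] at hT ⊢
  refine ThreeFrames.orth_tensor hq _ ?_ (by simp; omega) h2.le e P f₁ f₂ hf₁ hf₂ hT
  refine ⟨fun c v => by rw [QuadraticMap.map_smul, smul_eq_mul, sq],
    ⟨fun x y z => QuadraticMap.polar_add_left _ x y z,
      fun a x y => QuadraticMap.polar_smul_left _ a x y,
      fun x y z => QuadraticMap.polar_add_right _ x y z,
      fun a x y => QuadraticMap.polar_smul_right _ a x y⟩, fun v hv => ?_⟩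
  obtain ⟨w, hw⟩ : ∃ w, QuadraticMap.polar (⇑(QuadClassify.qOdd m F)) v w ≠ 0 := by
    by_contra h0
    push_neg at h0
    exact hv (hnd.1 v h0)
  exact ⟨⟨w, by rw [QuadraticMap.polar_comm]; exact hw⟩, ⟨w, hw⟩⟩

end Cfsg.Agent.S5682
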