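import Cfsg.Statements.S5686
import Cfsg.Agent.Lib.OmegaGeo

set_option autoImplicit false
open Cfsg

namespace Cfsg.Agent.S5686

open Cfsg.Agent.OrthUnitaryQuad Cfsg.Agent.OrthUnitaryPrelude Cfsg.Agent.OmegaClasses Cfsg.Agent.OmegaGeo

/-- Let F be a finite field with q elements, n ≥ 13 even, Q a non-degenerate quadratic form on F^n of plus type (some subspace of dimension n/2 is totally singular), and Ω the commutator subgroup of the isometry group of Q, viewed inside GL_n(F). The elements of Ω stabilising a subspace of dimension n/2 − 1 on which Q vanishes form a subgroup that is not maximal: some subgroup lies strictly between it and Ω. -/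
theorem result {F : Type*} [Field F] [Fintype F] {n : ℕ} (hn : 13 ≤ n) (heven : Even n) (Q : (Fin n → F) → F) (hQ : Cfsg.Geo.IsNondegenerateQuadraticForm Q) (hplus : Cfsg.Geo.IsPlusTypeOn Q ⊤) (W : Submodule F (Fin n → F)) (hW : Cfsg.Geo.IsTotallySingularQuad Q W) (hdim : 2 * (Module.finrank F W + 1) = n) : ∃ K : Subgroup (Matrix.GeneralLinearGroup (Fin n) F), Cfsg.Geo.subspaceStabilizer W ⊓ Cfsg.Geo.omegaGL Q < K ∧ K < Cfsg.Geo.omegaGL Q := by
  classical
  obtain ⟨q, rfl, hnd⟩ := exists_quad hQ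
  obtain ⟨U₀, -, hU₀, hU₀d⟩ := hplus
  rw [finrank_top] at hU₀d
  have hd : Module.finrank F (Fin n → F) = n := by simp
  have hexc : Fintype.card F ≠ 2 ∨ Module.finrank F (Fin n → F) ≠ 4 := Or.inr (by omega)
  have hU := lagr_extend hnd (U₀ := U₀) ⟨hU₀, hU₀d⟩ hW
  set U := W ⊔ U₀ ⊓ LinearMap.BilinForm.orthogonal (QuadraticMap.polarBilin q) W
  have hWU : W ≤ U := le_sup_left
  have hUd := hU.2
  have hle : Cfsg.Geo.subspaceStabilizer W ⊓ Cfsg.Geo.omegaGL ⇑q ≤
      Cfsg.Geo.subspaceStabilizer U ⊓ Cfsg.Geo.omegaGL ⇑q := by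
    rintro g ⟨hgW, hgΩ⟩
    refine ⟨?_, hgΩ⟩
    obtain ⟨k, hk, rfl⟩ := exists_of_mem_omegaGL hgΩ
    replace hgW := toGL_mem_stabilizer_iff.1 hgW
    refine toGL_mem_stabilizer_iff.2 ?_
    have he := even_finrank hnd hexc hU hk
    set U' := U.map (k.1 : (Fin n → F) →ₗ[F] (Fin n → F)) with hU'
    have hWU' : W ≤ U ⊓ U' := le_inf hWU (hgW ▸ Submodule.map_mono hWU)
    have h1 := Submodule.finrank_mono hWU'
    have h2 : Module.finrank F ↥(U ⊓ U') ≤ Module.finrank F U := Submodule.finrank_mono inf_le_left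
    have h3 : Module.finrank F U' = Module.finrank F U := LinearEquiv.finrank_map_eq _ _
    have h4 : Module.finrank F ↥(U ⊓ U') = Module.finrank F U := by
      rw [Nat.even_iff] at he
      omega
    have h5 : U ⊓ U' = U := Submodule.eq_of_le_of_finrank_eq inf_le_left h4
    exact (Submodule.eq_of_le_of_finrank_eq (inf_eq_left.1 h5) h3.symm).symm
  refine ⟨Cfsg.Geo.subspaceStabilizer U ⊓ Cfsg.Geo.omegaGL ⇑q, lt_of_le_not_ge hle fun h => ?_,
    lt_of_le_of_ne inf_le_right fun h => ?_⟩
  · -- an element fixing U and moving W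
    obtain ⟨e, heU, heW⟩ : ∃ e ∈ U, e ∉ W := by
      by_contra hc
      push Not at hc
      have := Submodule.finrank_mono (show U ≤ W from hc)
      omega
    obtain ⟨w, hw, hw0⟩ := Submodule.exists_mem_ne_zero_of_ne_bot (p := W)
      (fun hb => by rw [hb, finrank_bot] at hdim; omega)
    obtain ⟨f, hf, hwf, hef⟩ := exists_sing_dual hnd (S := Submodule.span F {e}) (hW w hw)
      (fun hs => by
        obtain ⟨c, hc⟩ := Submodule.mem_span_singleton.1 hs
        rcases eq_or_ne c 0 with rfl | hc0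
        · exact hw0 (by simpa using hc.symm)
        · exact heW (by
            have := W.smul_mem c⁻¹ (hc.symm ▸ hw : c • e ∈ W)
            rwa [smul_smul, inv_mul_cancel₀ hc0, one_smul] at this))
      (fun s hs => polar_of_sing hU.1 ((Submodule.span_singleton_le_iff_mem _ _).2 heU hs) (hWU hw))
    have hfe : QuadraticMap.polar q f e = 0 :=
      (QuadraticMap.polar_comm _ f e).trans (hef e (Submodule.mem_span_singleton_self e))
    obtain ⟨k, hk, hact⟩ := exists_siegel hnd (by omega) (hU.1 e heU) hf hfe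
    have hkU : U.map (k.1 : (Fin n → F) →ₗ[F] (Fin n → F)) = U := by
      refine Submodule.eq_of_le_of_finrank_eq ?_ (LinearEquiv.finrank_map_eq _ _)
      rintro _ ⟨u, hu, rfl⟩
      rw [LinearEquiv.coe_coe, hact, polar_of_sing hU.1 heU hu, zero_smul, sub_zero]
      exact U.add_mem hu (U.smul_mem _ heU)
    have hkW := (h ⟨toGL_mem_stabilizer_iff.2 hkU, toGL_mem hk⟩).1
    replace hkW := toGL_mem_stabilizer_iff.1 hkW
    have hmem : k.1 w ∈ W := hkW ▸ Submodule.mem_map_of_mem hw
    rw [hact, QuadraticMap.polar_comm _ f w, hwf, one_smul, polar_of_sing hU.1 heU (hWU hw), zero_smul,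
      sub_zero, W.add_mem_iff_right hw] at hmem
    exact heW hmem
  · obtain ⟨k, hk, hne⟩ := exists_move hnd (by omega) hU
    have := toGL_mem hk
    rw [← h] at this
    exact hne (toGL_mem_stabilizer_iff.1 this.1)

end Cfsg.Agent.S5686
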