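import Cfsg.Statements.S5692
import Cfsg.Agent.Lib.OmegaPlusDecompGlue73


set_option autoImplicit false
open Cfsg

namespace Cfsg.Agent.S5692

/-- Let F be a finite field with q elements, n ≥ 13 even, Q a non-degenerate quadratic form on F^n of plus type (some subspace of dimension n/2 is totally singular), and Ω the commutator subgroup of the isometry group of Q, viewed inside GL_n(F). Let D be a decomposition of F^n into t ≥ 2 pairwise orthogonal, pairwise Q-isometric subspaces of equal dimension k ≥ 2 on which the polar form is non-degenerate, such that: if k is even, either every member is of plus type or t is even; if k is odd, q is odd and the discriminant of Q is a square. Exclude the cases k = 2 with q = 3, k = 2 with plus-type members and q ∈ {2, 4, 5}, k = 3 with q = 3, and k = 4 with plus-type members and q = 2. Then the elements of Ω permuting the members of D form a maximal subgroup of Ω. -/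
theorem result {F : Type*} [Field F] [Fintype F] {n : ℕ} (hn : 13 ≤ n) (heven : Even n) (Q : (Fin n → F) → F) (hQ : Cfsg.Geo.IsNondegenerateQuadraticForm Q) (hplus : Cfsg.Geo.IsPlusTypeOn Q ⊤) {t : ℕ} (k : ℕ) (hk : 2 ≤ k) (D : Fin t → Submodule F (Fin n → F)) (hD : Cfsg.Geo.IsOrthogonalMDecomposition Q k D) (hke : Even k → ((∀ i, Cfsg.Geo.IsPlusTypeOn Q (D i)) ∨ Even t)) (hko : Odd k → (Odd (Fintype.card F) ∧ Cfsg.Geo.HasSquareDiscriminant Q)) (hex : ¬ ((k = 2 ∧ (Fintype.card F = 3 ∨ ((∀ i, Cfsg.Geo.IsPlusTypeOn Q (D i)) ∧ (Fintype.card F = 2 ∨ Fintype.card F = 4 ∨ Fintype.card F = 5)))) ∨ (k = 3 ∧ Fintype.card F = 3) ∨ (k = 4 ∧ Fintype.card F = 2 ∧ ∀ i, Cfsg.Geo.IsPlusTypeOn Q (D i)))) : Cfsg.Geo.IsMaximalIn (Cfsg.Geo.omegaGL Q) (Cfsg.Geo.decompositionStabilizer D ⊓ Cfsg.Geo.omegaGL Q) := by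
  classical
  obtain ⟨q, rfl, hnd⟩ := OmegaGeo.exists_quad hQ
  have hd := hD.decomp.decomp
  have htk := OmegaDecompGlue.card_mul hD
  rw [Fintype.card_fin] at htk
  have ht := hd.two_le
  have h1 := Fintype.one_lt_card (α := F)
  have hdec := OmegaDecompGlue.dec_of_decomposition hD
  have hdim : 5 ≤ Module.finrank F (Fin n → F) := by simp; omega
  have hnone : (¬ ∀ i, Cfsg.Geo.IsPlusTypeOn (⇑q) (D i)) →
      ∀ i, ¬ Cfsg.Geo.IsPlusTypeOn (⇑q) (D i) :=
    fun hall i hi => hall fun j => OmegaPlusDecompGlue73.plus_transport hdec hi j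
  rcases eq_or_lt_of_le hk with hk2 | hk3
  · subst hk2
    have h3 : Fintype.card F ≠ 3 := fun h => hex (Or.inl ⟨rfl, Or.inl h⟩)
    by_cases hall : ∀ i, Cfsg.Geo.IsPlusTypeOn (⇑q) (D i)
    · have h6 := OmegaPlusDecompGlue73.card_ne_six (F := F)
      have hq : Fintype.card F ≠ 2 ∧ Fintype.card F ≠ 4 ∧ Fintype.card F ≠ 5 :=
        ⟨fun h => hex (Or.inl ⟨rfl, Or.inr ⟨hall, Or.inl h⟩⟩),
          fun h => hex (Or.inl ⟨rfl, Or.inr ⟨hall, Or.inr (Or.inl h)⟩⟩),
          fun h => hex (Or.inl ⟨rfl, Or.inr ⟨hall, Or.inr (Or.inr h)⟩⟩)⟩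
      exact OmegaPlusDecompGlue73.isMaximalIn hnd hD ⟨hdec,
        fun i => OmegaPlusDecompGlue73.exists_singular_of_plus (by rw [hdec.dim]; omega) (hall i),
        by omega, hdim, by omega⟩
    · exact OmegaDecompTwoGlue.isMaximalIn hnd hD ⟨hdec,
        fun i => OmegaDecompTwoGlue.aniso_of_not_plus (hdec.dim i) (hnone hall i), by omega, hdim, h3⟩
  · refine OmegaDecompGlue.isMaximalIn hnd hD ⟨hk3, ht, hdim, fun hk4 => ?_, fun h => ?_,
      fun h => ?_, fun hq hk4 i a ha b hb hQa hQb hab => ?_⟩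
    · by_contra hlt
      have : t * k ≤ 2 * 4 := Nat.mul_le_mul (by omega) hk4
      omega
    · subst h
      obtain ⟨⟨r, hr⟩, -⟩ := hko (by decide)
      have : Fintype.card F ≠ 3 := fun h' => hex (Or.inr (Or.inl ⟨rfl, h'⟩))
      omega
    · subst h
      exact OmegaStd.two_ne_zero rfl (hko (by decide)).1
    · subst hk4
      exact OmegaDecompTwoGlue.dep_of_not_plus (hdec.dim i)
        (hnone (fun hall => hex (Or.inr (Or.inr ⟨rfl, hq, hall⟩))) i) ha hb hQa hQb hab

end Cfsg.Agent.S5692
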