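import Cfsg.Statements.S5694
import Cfsg.Agent.Lib.OmegaDecompTwoGlue
set_option autoImplicit false
open Cfsg

namespace Cfsg.Agent.S5694

/-- Let F be a finite field with q elements, n ≥ 13 even, Q a non-degenerate quadratic form on F^n of minus type (no subspace of dimension n/2 is totally singular), and Ω the commutator subgroup of the isometry group of Q, viewed inside GL_n(F). Let D be a decomposition of F^n into t ≥ 2 pairwise orthogonal, pairwise Q-isometric subspaces of equal dimension k ≥ 2 on which the polar form is non-degenerate, such that: if k is odd, q is odd and the discriminant of Q is a square; if k is even, t is odd and no member is of plus type. Unless q = 3 and k ∈ {2, 3}, the elements of Ω permuting the members of D form a maximal subgroup of Ω. -/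
theorem result {F : Type*} [Field F] [Fintype F] {n : ℕ} (hn : 13 ≤ n) (heven : Even n) (Q : (Fin n → F) → F) (hQ : Cfsg.Geo.IsNondegenerateQuadraticForm Q) (hminus : ¬ Cfsg.Geo.IsPlusTypeOn Q ⊤) {t : ℕ} (k : ℕ) (hk : 2 ≤ k) (D : Fin t → Submodule F (Fin n → F)) (hD : Cfsg.Geo.IsOrthogonalMDecomposition Q k D) (hko : Odd k → (Odd (Fintype.card F) ∧ Cfsg.Geo.HasSquareDiscriminant Q)) (hke : Even k → (Odd t ∧ ∀ i, ¬ Cfsg.Geo.IsPlusTypeOn Q (D i))) (hex : ¬ (Fintype.card F = 3 ∧ (k = 2 ∨ k = 3))) : Cfsg.Geo.IsMaximalIn (Cfsg.Geo.omegaGL Q) (Cfsg.Geo.decompositionStabilizer D ⊓ Cfsg.Geo.omegaGL Q) := by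
  classical
  obtain ⟨q, rfl, hnd⟩ := OmegaGeo.exists_quad hQ
  have hd := hD.decomp.decomp
  have htk := OmegaDecompGlue.card_mul hD
  rw [Fintype.card_fin] at htk
  have ht := hd.two_le
  have h1 := Fintype.one_lt_card (α := F)
  have hdec := OmegaDecompGlue.dec_of_decomposition hD
  have hdim : 5 ≤ Module.finrank F (Fin n → F) := by simp; omega
  rcases eq_or_lt_of_le hk with hk2 | hk3
  · subst hk2
    obtain ⟨hto, hminus'⟩ := hke even_two
    obtain ⟨a, ha⟩ := hto
    exact OmegaDecompTwoGlue.isMaximalIn hnd hD ⟨hdec,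
      fun i => OmegaDecompTwoGlue.aniso_of_not_plus (hdec.dim i) (hminus' i), by omega, hdim,
      fun h => hex ⟨h, Or.inl rfl⟩⟩
  · refine OmegaDecompGlue.isMaximalIn hnd hD ⟨hk3, ht, hdim, fun hk4 => ?_, fun h => ?_,
      fun h => ?_, fun _ hk4 i a ha b hb hQa hQb hab => ?_⟩
    · by_contra hlt
      have : t * k ≤ 2 * 4 := Nat.mul_le_mul (by omega) hk4
      omega
    · subst h
      obtain ⟨⟨r, hr⟩, -⟩ := hko (by decide)
      have : Fintype.card F ≠ 3 := fun h' => hex ⟨h', Or.inr rfl⟩
      omega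
    · subst h
      exact OmegaStd.two_ne_zero rfl (hko (by decide)).1
    · subst hk4
      exact OmegaDecompTwoGlue.dep_of_not_plus (hdec.dim i) ((hke (by decide)).2 i) ha hb hQa hQb hab
end Cfsg.Agent.S5694
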