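import Cfsg.Statements.S5697
import Cfsg.Agent.Lib.OmegaMaxGlue
import Cfsg.Agent.Lib.OmegaStabPair

set_option autoImplicit false
open Cfsg

namespace Cfsg.Agent.S5697

open Cfsg.Agent.OrthUnitaryQuad Cfsg.Agent.OrthUnitaryPrelude Cfsg.Agent.OmegaClasses Cfsg.Agent.OmegaGeo Cfsg.Agent.OmegaMaxGlue

/-- Let F be a finite field with q elements, n ≥ 13 even, Q a non-degenerate quadratic form on F^n of plus type (some subspace of dimension n/2 is totally singular), and Ω the commutator subgroup of the isometry group of Q, viewed inside GL_n(F). Suppose n/2 is even and let D be a decomposition of F^n into two complementary subspaces of dimension n/2 on each of which Q vanishes. Then the elements of Ω preserving or interchanging the two subspaces form a maximal subgroup of Ω. -/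
theorem result {F : Type*} [Field F] [Fintype F] {n : ℕ} (hn : 13 ≤ n) (heven : Even n) (Q : (Fin n → F) → F) (hQ : Cfsg.Geo.IsNondegenerateQuadraticForm Q) (hplus : Cfsg.Geo.IsPlusTypeOn Q ⊤) (k : ℕ) (hk : 2 * k = n) (hke : Even k) (D : Fin 2 → Submodule F (Fin n → F)) (hD : Cfsg.Geo.IsMDecomposition k D) (hts : ∀ i, Cfsg.Geo.IsTotallySingularQuad Q (D i)) : Cfsg.Geo.IsMaximalIn (Cfsg.Geo.omegaGL Q) (Cfsg.Geo.decompositionStabilizer D ⊓ Cfsg.Geo.omegaGL Q) := by
  classical
  obtain ⟨q, rfl, hnd⟩ := exists_quad hQ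
  have hd : Module.finrank F (Fin n → F) = n := by simp
  have hL : ∀ i, Lagr q (D i) := fun i => ⟨hts i, by rw [hD.finrank_eq, hk, hd]⟩
  have hdisj : D 0 ⊓ D 1 = ⊥ :=
    disjoint_iff.1 (hD.indep.pairwiseDisjoint (show (0 : Fin 2) ≠ 1 by decide))
  have h01 : ∀ s : Fin 2, s = 0 ∨ s = 1 := by decide
  have hlin : ∀ (c : orth q) (X : Submodule F (Fin n → F)),
      X.map (Matrix.toLin' ((toGL q c : GL (Fin n) F) : Matrix (Fin n) (Fin n) F)) =
        X.map (c.1 : (Fin n → F) →ₗ[F] (Fin n → F)) := fun c X => by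
    congr 1
    exact LinearMap.ext fun x => by rw [LinearEquiv.coe_coe, Matrix.toLin'_apply, toGL_mulVec]
  have hiff : ∀ c : orth q, toGL q c ∈ Cfsg.Geo.decompositionStabilizer D ↔
      (((∀ x ∈ D 0, c.1 x ∈ D 0) ∧ (∀ x ∈ D 1, c.1 x ∈ D 1)) ∨
        ((∀ x ∈ D 0, c.1 x ∈ D 1) ∧ (∀ x ∈ D 1, c.1 x ∈ D 0))) := by
    intro c
    have hmap : ∀ i j, (∀ x ∈ D i, c.1 x ∈ D j) →
        (D i).map (c.1 : (Fin n → F) →ₗ[F] (Fin n → F)) = D j := fun i j h => by
      refine Submodule.eq_of_le_of_finrank_eq ?_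
        (by rw [LinearEquiv.finrank_map_eq, hD.finrank_eq, hD.finrank_eq])
      rintro _ ⟨x, hx, rfl⟩
      exact h x hx
    constructor
    · rintro ⟨σ, hσ⟩
      have h : ∀ i, ∀ x ∈ D i, c.1 x ∈ D (σ i) := fun i x hx => by
        rw [← hσ i, hlin]; exact Submodule.mem_map_of_mem hx
      rcases h01 (σ 0) with hs | hs
      · have hs1 : σ 1 = 1 := (h01 (σ 1)).resolve_left fun h1 =>
          absurd (σ.injective (h1.trans hs.symm)) (by decide)
        exact Or.inl ⟨fun x hx => hs ▸ h 0 x hx, fun x hx => hs1 ▸ h 1 x hx⟩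
      · have hs1 : σ 1 = 0 := (h01 (σ 1)).resolve_right fun h1 =>
          absurd (σ.injective (h1.trans hs.symm)) (by decide)
        exact Or.inr ⟨fun x hx => hs ▸ h 0 x hx, fun x hx => hs1 ▸ h 1 x hx⟩
    · rintro (⟨a, b⟩ | ⟨a, b⟩)
      · refine ⟨1, fun i => ?_⟩
        rw [hlin, Equiv.Perm.one_apply]
        rcases h01 i with rfl | rfl
        · exact hmap 0 0 a
        · exact hmap 1 1 b
      · refine ⟨Equiv.swap 0 1, fun i => ?_⟩
        rw [hlin]
        rcases h01 i with rfl | rfl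
        · rw [Equiv.swap_apply_left]; exact hmap 0 1 a
        · rw [Equiv.swap_apply_right]; exact hmap 1 0 b
  refine ⟨lt_of_le_of_ne inf_le_right fun h => ?_, fun M hHM hMΩ => ?_⟩
  · obtain ⟨e, he, he0⟩ := Submodule.exists_mem_ne_zero_of_ne_bot (p := D 0)
      (fun hb => by have := hD.finrank_eq 0; rw [hb, finrank_bot] at this; omega)
    obtain ⟨f, hf, hfe⟩ : ∃ f ∈ D 0, f ∉ Submodule.span F {e} := by
      by_contra hc
      push Not at hc
      have := Submodule.finrank_mono (show D 0 ≤ Submodule.span F {e} from hc)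
      rw [finrank_span_singleton he0, hD.finrank_eq] at this
      omega
    obtain ⟨c, hc, hact⟩ := exists_siegel hnd (by omega) (hts 0 e he) (hts 0 f hf)
      (polar_of_sing (hts 0) hf he)
    have hmem := toGL_mem hc
    rw [← h] at hmem
    obtain ⟨x, hx, hfx⟩ : ∃ x ∈ D 1, QuadraticMap.polar q f x ≠ 0 := by
      by_contra hall
      push Not at hall
      have : f ∈ D 0 ⊓ D 1 := ⟨hf, mem_of_orth hnd (hL 1)
        fun u hu => (QuadraticMap.polar_comm _ u f).trans (hall u hu)⟩
      rw [hdisj, Submodule.mem_bot] at this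
      exact hfe (this ▸ Submodule.zero_mem _)
    rcases (hiff c).1 hmem.1 with ⟨-, h1⟩ | ⟨h0, -⟩
    · have h1x := h1 x hx
      rw [hact, add_sub_assoc, (D 1).add_mem_iff_right hx] at h1x
      have : QuadraticMap.polar q f x • e - QuadraticMap.polar q e x • f ∈ D 0 ⊓ D 1 :=
        ⟨(D 0).sub_mem ((D 0).smul_mem _ he) ((D 0).smul_mem _ hf), h1x⟩
      rw [hdisj, Submodule.mem_bot, sub_eq_zero] at this
      by_cases h0 : QuadraticMap.polar q e x = 0
      · rw [h0, zero_smul, smul_eq_zero] at this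
        exact this.elim hfx he0
      · refine hfe (Submodule.mem_span_singleton.2 ⟨(QuadraticMap.polar q e x)⁻¹ * QuadraticMap.polar q f x, ?_⟩)
        rw [← smul_smul, this, smul_smul, inv_mul_cancel₀ h0, one_smul]
    · have h0e := h0 e he
      rw [hact, polar_of_sing (hts 0) hf he, polar_of_sing (hts 0) he he] at h0e
      simp only [zero_smul, add_zero, sub_zero] at h0e
      have : e ∈ D 0 ⊓ D 1 := ⟨he, h0e⟩
      rw [hdisj, Submodule.mem_bot] at this
      exact he0 this
  · rcases eq_or_ne M (Cfsg.Geo.decompositionStabilizer D ⊓ Cfsg.Geo.omegaGL ⇑q) with h | h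
    · exact Or.inl h
    refine Or.inr (le_antisymm hMΩ ?_)
    obtain ⟨x, hx, hxW⟩ := SetLike.exists_of_lt (lt_of_le_of_ne hHM (Ne.symm h))
    obtain ⟨g, hg, rfl⟩ := exists_of_mem_omegaGL (hMΩ hx)
    have hle := OmegaStabPair.commutator_le hnd (hL 0) (hL 1) hdisj (by rw [hD.finrank_eq]; omega)
      (by rw [hD.finrank_eq]; exact hke) (M.comap (glHom q))
      (fun c hc hcD => hHM ⟨(hiff c).2 hcD, toGL_mem hc⟩) (g := g) hx
      (fun hcD => hxW ⟨(hiff g).2 hcD, toGL_mem hg⟩)
    intro y hy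
    obtain ⟨c, hc, rfl⟩ := exists_of_mem_omegaGL hy
    exact hle hc

end Cfsg.Agent.S5697
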