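import Cfsg.Statements.S5698
import Cfsg.Agent.Lib.OmegaGeo

set_option autoImplicit false
open Cfsg

namespace Cfsg.Agent.S5698

open Cfsg.Agent.OrthUnitaryQuad Cfsg.Agent.OrthUnitaryPrelude Cfsg.Agent.OmegaClasses Cfsg.Agent.OmegaGeo

/-- Let F be a finite field with q elements, n ≥ 13 even, Q a non-degenerate quadratic form on F^n of plus type (some subspace of dimension n/2 is totally singular), and Ω the commutator subgroup of the isometry group of Q, viewed inside GL_n(F). Suppose n/2 is odd and let D be a decomposition of F^n into two complementary subspaces of dimension n/2 on each of which Q vanishes. Then the elements of Ω preserving or interchanging the two subspaces form a subgroup that is not maximal: some subgroup lies strictly between it and Ω. -/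
theorem result {F : Type*} [Field F] [Fintype F] {n : ℕ} (hn : 13 ≤ n) (heven : Even n) (Q : (Fin n → F) → F) (hQ : Cfsg.Geo.IsNondegenerateQuadraticForm Q) (hplus : Cfsg.Geo.IsPlusTypeOn Q ⊤) (k : ℕ) (hk : 2 * k = n) (hko : Odd k) (D : Fin 2 → Submodule F (Fin n → F)) (hD : Cfsg.Geo.IsMDecomposition k D) (hts : ∀ i, Cfsg.Geo.IsTotallySingularQuad Q (D i)) : ∃ K : Subgroup (Matrix.GeneralLinearGroup (Fin n) F), Cfsg.Geo.decompositionStabilizer D ⊓ Cfsg.Geo.omegaGL Q < K ∧ K < Cfsg.Geo.omegaGL Q := by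
  classical
  obtain ⟨q, rfl, hnd⟩ := exists_quad hQ
  have hd : Module.finrank F (Fin n → F) = n := by simp
  have hexc : Fintype.card F ≠ 2 ∨ Module.finrank F (Fin n → F) ≠ 4 := Or.inr (by omega)
  have hL : ∀ i, Lagr q (D i) := fun i => ⟨hts i, by rw [hD.finrank_eq, hk, hd]⟩
  have hdisj : D 0 ⊓ D 1 = ⊥ :=
    disjoint_iff.1 (hD.indep.pairwiseDisjoint (show (0 : Fin 2) ≠ 1 by decide))
  have hle : Cfsg.Geo.decompositionStabilizer D ⊓ Cfsg.Geo.omegaGL ⇑q ≤
      Cfsg.Geo.subspaceStabilizer (D 0) ⊓ Cfsg.Geo.omegaGL ⇑q := by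
    rintro g ⟨⟨σ, hσ⟩, hgΩ⟩
    refine ⟨?_, hgΩ⟩
    obtain ⟨c, hc, rfl⟩ := exists_of_mem_omegaGL hgΩ
    refine toGL_mem_stabilizer_iff.2 ?_
    have hmap : (D 0).map (c.1 : (Fin n → F) →ₗ[F] (Fin n → F)) = D (σ 0) := by
      rw [← hσ 0]
      congr 1
      exact LinearMap.ext fun x => by
        rw [LinearEquiv.coe_coe, Matrix.toLin'_apply, toGL_mulVec]
    have he := even_finrank hnd hexc (hL 0) hc
    have h01 : ∀ s : Fin 2, s = 0 ∨ s = 1 := by decide
    rcases h01 (σ 0) with hs | hs
    · rw [hmap, hs]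
    · exfalso
      rw [hmap, hs, hdisj, finrank_bot, hD.finrank_eq, zero_add] at he
      exact (Nat.not_even_iff_odd.2 hko) he
  refine ⟨Cfsg.Geo.subspaceStabilizer (D 0) ⊓ Cfsg.Geo.omegaGL ⇑q, lt_of_le_not_ge hle fun h => ?_,
    lt_of_le_of_ne inf_le_right fun h => ?_⟩
  · obtain ⟨e, he, he0⟩ := Submodule.exists_mem_ne_zero_of_ne_bot (p := D 0)
      (fun hb => by have := hD.finrank_eq 0; rw [hb, finrank_bot] at this; omega)
    obtain ⟨f, hf, hfe⟩ : ∃ f ∈ D 0, f ∉ Submodule.span F {e} := by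
      by_contra hc
      push Not at hc
      have := Submodule.finrank_mono (show D 0 ≤ Submodule.span F {e} from hc)
      rw [finrank_span_singleton he0, hD.finrank_eq] at this
      omega
    have hf0 : f ≠ 0 := fun h0 => hfe (h0 ▸ Submodule.zero_mem _)
    obtain ⟨c, hc, hact⟩ := exists_siegel hnd (by omega) (hts 0 e he) (hts 0 f hf)
      (polar_of_sing (hts 0) hf he)
    have hc0 : (D 0).map (c.1 : (Fin n → F) →ₗ[F] (Fin n → F)) = D 0 := by
      refine Submodule.eq_of_le_of_finrank_eq ?_ (LinearEquiv.finrank_map_eq _ _)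
      rintro _ ⟨u, hu, rfl⟩
      rw [LinearEquiv.coe_coe, hact, polar_of_sing (hts 0) hf hu, polar_of_sing (hts 0) he hu]
      simpa using hu
    obtain ⟨⟨σ, hσ⟩, -⟩ := h ⟨toGL_mem_stabilizer_iff.2 hc0, toGL_mem hc⟩
    obtain ⟨x, hx, hfx⟩ : ∃ x ∈ D 1, QuadraticMap.polar q f x ≠ 0 := by
      by_contra hall
      push Not at hall
      have : f ∈ D 0 ⊓ D 1 := ⟨hf, mem_of_orth hnd (hL 1)
        fun u hu => (QuadraticMap.polar_comm _ u f).trans (hall u hu)⟩
      rw [hdisj] at this
      exact hf0 this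
    have himg : c.1 x ∈ D (σ 1) := by
      rw [← hσ 1]
      exact ⟨x, hx, by rw [Matrix.toLin'_apply, toGL_mulVec]⟩
    have hσ1 : σ 1 = 1 := by
      have hσ0 : D (σ 0) = D 0 := by
        rw [← hσ 0, ← hc0]
        congr 1
        exact LinearMap.ext fun x => by
          rw [LinearEquiv.coe_coe, Matrix.toLin'_apply, toGL_mulVec]
      have h01 : ∀ s : Fin 2, s = 0 ∨ s = 1 := by decide
      rcases h01 (σ 0) with hs | hs
      · exact (h01 (σ 1)).resolve_left fun hs1 => absurd (σ.injective (hs1.trans hs.symm)) (by decide)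
      · rw [hs] at hσ0
        rw [← hσ0, inf_idem] at hdisj
        have := hD.finrank_eq 1
        rw [hdisj, finrank_bot] at this
        omega
    rw [hσ1, hact] at himg
    have hmem : x + QuadraticMap.polar q f x • e - QuadraticMap.polar q e x • f - x ∈ D 0 ⊓ D 1 :=
      ⟨by
        rw [show x + QuadraticMap.polar q f x • e - QuadraticMap.polar q e x • f - x =
          QuadraticMap.polar q f x • e - QuadraticMap.polar q e x • f by abel]
        exact (D 0).sub_mem ((D 0).smul_mem _ he) ((D 0).smul_mem _ hf),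
        (D 1).sub_mem himg hx⟩
    rw [hdisj, Submodule.mem_bot, show x + QuadraticMap.polar q f x • e - QuadraticMap.polar q e x • f - x =
      QuadraticMap.polar q f x • e - QuadraticMap.polar q e x • f by abel] at hmem
    rcases eq_or_ne (QuadraticMap.polar q e x) 0 with h0 | h0
    · rw [h0, zero_smul, sub_zero, smul_eq_zero] at hmem
      exact hmem.elim hfx he0
    · refine hfe (Submodule.mem_span_singleton.2 ⟨(QuadraticMap.polar q e x)⁻¹ * QuadraticMap.polar q f x, ?_⟩)
      rw [← smul_smul, sub_eq_zero.1 hmem, smul_smul, inv_mul_cancel₀ h0, one_smul]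
  · obtain ⟨c, hc, hne⟩ := exists_move hnd (by omega) (hL 0)
    have := toGL_mem hc
    rw [← h] at this
    exact hne (toGL_mem_stabilizer_iff.1 this.1)

end Cfsg.Agent.S5698
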