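import Cfsg.Statements.S5699
import Cfsg.Agent.Lib.OmegaStabNondegGlue

set_option autoImplicit false
open Cfsg

namespace Cfsg.Agent.S5699

open Cfsg.Agent.OrthUnitaryQuad Cfsg.Agent.OrthUnitaryPrelude Cfsg.Agent.OmegaClasses Cfsg.Agent.OmegaGeo Cfsg.Agent.OmegaMaxGlue Cfsg.Agent.OmegaStabNondeg

/-- Let F be a finite field with q elements, n ≥ 13 even, Q a non-degenerate quadratic form on F^n (of either type), and Ω the commutator subgroup of the isometry group of Q, viewed inside GL_n(F). Let D be a decomposition of F^n into two orthogonal subspaces of odd dimension n/2 on which the polar form is non-degenerate and which are not Q-isometric to each other. Then the elements of Ω permuting (necessarily fixing) the two subspaces form a maximal subgroup of Ω. -/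
theorem result {F : Type*} [Field F] [Fintype F] {n : ℕ} (hn : 13 ≤ n) (heven : Even n) (Q : (Fin n → F) → F) (hQ : Cfsg.Geo.IsNondegenerateQuadraticForm Q) (k : ℕ) (hk : 2 * k = n) (hko : Odd k) (D : Fin 2 → Submodule F (Fin n → F)) (hD : Cfsg.Geo.IsNondegenerateMDecomposition (QuadraticMap.polar Q) k D) (hni : ¬ Cfsg.Geo.AreIsometricFor Q (D 0) (D 1)) : Cfsg.Geo.IsMaximalIn (Cfsg.Geo.omegaGL Q) (Cfsg.Geo.decompositionStabilizer D ⊓ Cfsg.Geo.omegaGL Q) := by
  classical
  obtain ⟨q, rfl, hnd⟩ := exists_quad hQ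
  have hd : Module.finrank F (Fin n → F) = n := by simp
  obtain ⟨hM2, hND, horth⟩ := hD
  have hk0 := hM2.finrank_eq 0
  have hk1 := hM2.finrank_eq 1
  have h01 : ∀ s : Fin 2, s = 0 ∨ s = 1 := by decide
  have hperp : perp q (D 0) = D 1 := by
    symm
    refine Submodule.eq_of_le_of_finrank_eq
      (fun x hx w hw => horth 0 1 (by decide) w hw x hx) ?_
    rw [OmegaStabSingular.finrank_orth hnd]
    omega
  have hswap : ∀ g : orth q, (∀ x ∈ D 0, g.1 x ∈ D 1) → False := by
    intro g hg
    have heq : (D 0).map (g.1 : (Fin n → F) →ₗ[F] (Fin n → F)) = D 1 := by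
      refine Submodule.eq_of_le_of_finrank_eq ?_ (by rw [LinearEquiv.finrank_map_eq, hk0, hk1])
      rintro _ ⟨x, hx, rfl⟩
      exact hg x hx
    exact hni ⟨g.1.ofSubmodules _ _ heq, fun x => map_orth g x.1⟩
  have heq : Cfsg.Geo.decompositionStabilizer D ⊓ Cfsg.Geo.omegaGL ⇑q =
      Cfsg.Geo.subspaceStabilizer (D 0) ⊓ Cfsg.Geo.omegaGL ⇑q := by
    have hlin : ∀ (c : orth q) (X : Submodule F (Fin n → F)),
        X.map (Matrix.toLin' ((toGL q c : GL (Fin n) F) : Matrix (Fin n) (Fin n) F)) =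
          X.map (c.1 : (Fin n → F) →ₗ[F] (Fin n → F)) := fun c X => by
      congr 1
      exact LinearMap.ext fun x => by rw [LinearEquiv.coe_coe, Matrix.toLin'_apply, toGL_mulVec]
    apply le_antisymm
    · rintro g ⟨⟨σ, hσ⟩, hgΩ⟩
      refine ⟨?_, hgΩ⟩
      obtain ⟨c, hc, rfl⟩ := exists_of_mem_omegaGL hgΩ
      refine toGL_mem_stabilizer_iff.2 ?_
      have h0 := hσ 0
      rw [hlin] at h0
      rcases h01 (σ 0) with hs | hs
      · rw [h0, hs]
      · exact (hswap c fun x hx => by rw [← hs, ← h0]; exact Submodule.mem_map_of_mem hx).elim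
    · rintro g ⟨hg, hgΩ⟩
      refine ⟨⟨1, fun i => ?_⟩, hgΩ⟩
      obtain ⟨c, hc, rfl⟩ := exists_of_mem_omegaGL hgΩ
      have h0 := toGL_mem_stabilizer_iff.1 hg
      rw [hlin, Equiv.Perm.one_apply]
      rcases h01 i with rfl | rfl
      · exact h0
      · refine OmegaStabSingular.map_eq_of_forall fun x hx => ?_
        rw [← hperp] at hx ⊢
        intro w hw
        rw [← h0] at hw
        obtain ⟨w', hw', rfl⟩ := hw
        show QuadraticMap.polar q (c.1 w') (c.1 x) = 0
        rw [polar_orth c]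
        exact hx w' hw'
  rw [heq]
  refine OmegaStabNondegGlue.isMaximalIn hnd (hND 0) (fun h => ?_) (fun h => ?_) (by omega)
    (fun _ g hg => hswap g fun x hx => hperp ▸ hg x hx) ?_
  · rw [h, finrank_bot] at hk0; omega
  · rw [h, finrank_top, hd] at hk0; omega
  · rintro ⟨-, U, hU, -, -, rfl | ⟨-, hsum⟩⟩ <;> omega

end Cfsg.Agent.S5699
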