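import Cfsg.Statements.S5701
import Cfsg.Agent.Lib.ExtFieldOrthGlue

set_option autoImplicit false
open Cfsg

namespace Cfsg.Agent.S5701

/-- Let F be a finite field with q elements, n ≥ 13 even, Q a non-degenerate quadratic form on F^n (of either type), and Ω the commutator subgroup of the isometry group of Q, viewed inside GL_n(F). Suppose q is odd. Let K be a subfield of the algebra of n × n matrices over F containing the scalars, of prime degree r over F with n/r ≥ 3, whose elements are self-adjoint for the polar form of Q. Then the elements of Ω normalising K form a maximal subgroup of Ω. -/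
theorem result {F : Type*} [Field F] [Fintype F] {n : ℕ} (hn : 13 ≤ n) (heven : Even n) (Q : (Fin n → F) → F) (hQ : Cfsg.Geo.IsNondegenerateQuadraticForm Q) (hodd : Odd (Fintype.card F)) (r : ℕ) (hr : r.Prime) (hnr : 3 * r ≤ n) (K : Subalgebra F (Matrix (Fin n) (Fin n) F)) (hK : Cfsg.Geo.IsFieldSubalgebra r K) (hsa : Cfsg.Geo.IsSelfAdjointFor (QuadraticMap.polar Q) K) : Cfsg.Geo.IsMaximalIn (Cfsg.Geo.omegaGL Q) (Cfsg.Geo.subalgebraNormalizer K ⊓ Cfsg.Geo.omegaGL Q) := by
  classical
  obtain ⟨q, rfl, hnd⟩ := Cfsg.Agent.OmegaGeo.exists_quad hQ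
  have h2 : (2 : F) ≠ 0 := by
    apply Ring.two_ne_zero
    intro h
    exact (Nat.not_even_iff_odd.2 hodd) (FiniteField.even_card_iff_char_two.1 h |> Nat.even_iff.2)
  have := hr.two_le
  haveI : Nonempty (Fin n) := ⟨⟨0, by omega⟩⟩
  obtain ⟨k, hk⟩ : r ∣ n := by simpa using Cfsg.Agent.ExtFieldOrthGlue.dvd_card K hK
  have h4 : 4 * r ≤ n := by
    by_contra hc
    have hk3 : 3 ≤ k := Nat.le_of_mul_le_mul_left (by rw [← hk, mul_comm r]; exact hnr) hr.pos
    have hk4 : k < 4 := Nat.lt_of_mul_lt_mul_left (a := r) (by rw [← hk, mul_comm r]; omega)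
    obtain rfl : k = 3 := by omega
    rcases hr.eq_two_or_odd' with h | h
    · omega
    · obtain ⟨l, rfl⟩ := h; obtain ⟨j, rfl⟩ := heven; omega
  exact Cfsg.Agent.ExtFieldOrthGlue.isMaximalIn q hnd h2 hr K hK hsa (by simpa using h4)
    (by simp only [Fintype.card_fin]; intro h; omega)

end Cfsg.Agent.S5701
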