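import Cfsg.Statements.S5705
import Cfsg.Agent.Lib.OmegaGeo
import Cfsg.Agent.Lib.TensorTwoF2
import Cfsg.Agent.Lib.TransvectionMax
-- import your own Cfsg.Agent.* helpers here

set_option autoImplicit false
open Cfsg

namespace Cfsg.Agent.S5705

open scoped Matrix MatrixGroups Kronecker
open QuadraticMap Module
open Cfsg.Agent.OrthUnitaryQuad Cfsg.Agent.OrthUnitaryRefl Cfsg.Agent.OmegaGeo

section Aux

variable {F : Type*} [Field F]

/-- The pure tensor. -/
def tp {k l : ℕ} (y : Fin k → F) (v : Fin l → F) : Fin k × Fin l → F := fun p => y p.1 * v p.2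

theorem kron_tp {k l : ℕ} (A : Matrix (Fin k) (Fin k) F) (B : Matrix (Fin l) (Fin l) F) (y : Fin k → F)
    (v : Fin l → F) : (A ⊗ₖ B) *ᵥ tp y v = tp (A *ᵥ y) (B *ᵥ v) := by
  funext p
  simp only [Matrix.mulVec, dotProduct, tp, Matrix.kroneckerMap_apply, Fintype.sum_prod_type,
    Finset.sum_mul_sum]
  exact Finset.sum_congr rfl fun _ _ => Finset.sum_congr rfl fun _ _ => by ring

theorem gram_eq {m : ℕ} {f : (Fin m → F) → (Fin m → F) → F} (hf : Cfsg.Geo.IsBilinearForm f) (x y : Fin m → F) :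
    Cfsg.Geo.formOfGram id (Cfsg.Geo.gramMatrix f) x y = f x y := by
  classical
  let L : (Fin m → F) →ₗ[F] (Fin m → F) →ₗ[F] F := LinearMap.mk₂ F f hf.add_left
    (fun c a b => by rw [hf.smul_left, smul_eq_mul]) hf.add_right (fun c a b => by rw [hf.smul_right, smul_eq_mul])
  show _ = L x y
  conv_rhs => rw [pi_eq_sum_univ' x, map_sum, LinearMap.sum_apply]
  refine Finset.sum_congr rfl fun a _ => ?_
  rw [map_smul, LinearMap.smul_apply, smul_eq_mul]
  conv_rhs => rw [pi_eq_sum_univ' y, map_sum, Finset.mul_sum]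
  refine Finset.sum_congr rfl fun b _ => ?_
  rw [map_smul, smul_eq_mul]
  simp only [Cfsg.Geo.gramMatrix, id, L, LinearMap.mk₂_apply]
  ring

theorem gram_tp {k l : ℕ} (G₁ : Matrix (Fin k) (Fin k) F) (G₂ : Matrix (Fin l) (Fin l) F)
    (y y' : Fin k → F) (v v' : Fin l → F) :
    Cfsg.Geo.formOfGram id (G₁ ⊗ₖ G₂) (tp y v) (tp y' v') =
      Cfsg.Geo.formOfGram id G₁ y y' * Cfsg.Geo.formOfGram id G₂ v v' := by
  simp only [Cfsg.Geo.formOfGram, tp, Matrix.kroneckerMap_apply, Fintype.sum_prod_type,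
    Finset.sum_mul_sum]
  refine Finset.sum_congr rfl fun a _ => Finset.sum_congr rfl fun b _ => ?_
  exact Finset.sum_congr rfl fun _ _ => Finset.sum_congr rfl fun _ _ => by simp only [id]; ring

end Aux


set_option maxHeartbeats 1000000 in
/-- Let F be the field with 2 elements, n = 2 n₂ ≥ 13 even, Q a non-degenerate quadratic form on F^n of plus type and Ω the commutator subgroup of its isometry group. Suppose that, through P and e, the polar form of Q is similar to the tensor product of non-degenerate symplectic forms f₁ on F^2 and f₂ on F^(n₂), and Q vanishes on the images of all pure tensors. Then the elements of Ω in the stabiliser of this tensor decomposition form a subgroup that is not maximal: some subgroup lies strictly between it and Ω. -/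
theorem result {F : Type*} [Field F] [Fintype F] {n : ℕ} (hn : 13 ≤ n) (heven : Even n) (Q : (Fin n → F) → F) (hQ : Cfsg.Geo.IsNondegenerateQuadraticForm Q) (hplus : Cfsg.Geo.IsPlusTypeOn Q ⊤) (hq : Fintype.card F = 2) (n₂ : ℕ) (h2 : 2 < n₂) (e : (Fin n) ≃ Fin 2 × Fin n₂) (P : Matrix.GeneralLinearGroup (Fin n) F) (f₁ : (Fin 2 → F) → (Fin 2 → F) → F) (f₂ : (Fin n₂ → F) → (Fin n₂ → F) → F) (hf₁ : Cfsg.Geo.IsSymplecticForm f₁) (hf₂ : Cfsg.Geo.IsSymplecticForm f₂) (hT : Cfsg.Geo.IsTensorFormStructure id (QuadraticMap.polar Q) f₁ f₂ e P) (hpure : (∀ (x₁ : Fin 2 → F) (x₂ : Fin n₂ → F), Q (Matrix.mulVec (P : Matrix (Fin n) (Fin n) F) ((fun a : Fin 2 × Fin n₂ => x₁ a.1 * x₂ a.2) ∘ e)) = 0)) : ∃ K : Subgroup (Matrix.GeneralLinearGroup (Fin n) F), Cfsg.Geo.tensorProductSubgroup 2 n₂ e P ⊓ Cfsg.Geo.omegaGL Q < K ∧ K < Cfsg.Geo.omegaGL Q := by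
  classical
  obtain ⟨q, rfl, hnd⟩ := exists_quad hQ
  obtain ⟨c, hc, hT⟩ := hT
  have h2F := Cfsg.Agent.TensorTwoF2.two_eq_zero hq
  rw [Cfsg.Agent.TensorTwoF2.eq_one hq hc] at hT
  simp only [one_mul] at hT
  let φ : GL (Fin 2 × Fin n₂) F ≃* GL (Fin n) F := (Cfsg.Geo.glReindex e.symm).trans (MulAut.conj P)
  have hTeq : Cfsg.Geo.tensorProductSubgroup 2 n₂ e P =
      (Cfsg.Geo.kroneckerSubgroup 2 n₂ F).map φ.toMonoidHom := by
    rw [Cfsg.Geo.tensorProductSubgroup, Subgroup.map_map]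
    rfl
  let Ψ : (Fin 2 × Fin n₂ → F) →ₗ[F] (Fin n → F) :=
    (Matrix.mulVecLin (P : Matrix (Fin n) (Fin n) F)).comp (LinearMap.funLeft F F e)
  have hΨinj : Function.Injective Ψ := fun x y h => by
    have h1 := Matrix.mulVec_injective_of_isUnit P.isUnit h
    funext p
    simpa [LinearMap.funLeft] using congrFun h1 (e.symm p)
  have hφ : ∀ (g : GL (Fin 2 × Fin n₂) F) x, (φ g : Matrix (Fin n) (Fin n) F) *ᵥ Ψ x =
      Ψ ((g : Matrix (Fin 2 × Fin n₂) (Fin 2 × Fin n₂) F) *ᵥ x) := by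
    intro g x
    show ((P : Matrix (Fin n) (Fin n) F) * _ * ((P⁻¹ : GL (Fin n) F) : Matrix (Fin n) (Fin n) F)) *ᵥ
      ((P : Matrix (Fin n) (Fin n) F) *ᵥ _) = (P : Matrix (Fin n) (Fin n) F) *ᵥ _
    rw [Matrix.mulVec_mulVec, mul_assoc, Units.inv_mul, mul_one, ← Matrix.mulVec_mulVec]
    congr 1
    show ((Matrix.reindex e.symm e.symm) (g : Matrix (Fin 2 × Fin n₂) (Fin 2 × Fin n₂) F)) *ᵥ _ = _
    rw [Matrix.reindex_apply, Equiv.symm_symm, Matrix.submatrix_mulVec_equiv]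
    funext i
    show ((g : Matrix (Fin 2 × Fin n₂) (Fin 2 × Fin n₂) F) *ᵥ ((x ∘ e) ∘ e.symm)) (e i) = _
    rw [show (x ∘ e) ∘ e.symm = x from funext fun p => by simp]
    rfl
  have hΨsurj : Function.Surjective Ψ := fun v =>
    ⟨fun p => (((P⁻¹ : GL (Fin n) F) : Matrix (Fin n) (Fin n) F) *ᵥ v) (e.symm p), by
      show (P : Matrix (Fin n) (Fin n) F) *ᵥ _ = v
      rw [show LinearMap.funLeft F F e (fun p => (((P⁻¹ : GL (Fin n) F) : Matrix (Fin n) (Fin n) F) *ᵥ v)
        (e.symm p)) = ((P⁻¹ : GL (Fin n) F) : Matrix (Fin n) (Fin n) F) *ᵥ v from funext fun i => by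
          simp [LinearMap.funLeft], Matrix.mulVec_mulVec, Units.mul_inv, Matrix.one_mulVec]⟩
  let x1 : Fin 2 → F := Pi.single 0 1
  let x2 : Fin 2 → F := Pi.single 1 1
  let T1 : (Fin n₂ → F) → Fin n → F := fun v => Ψ (tp x1 v)
  let T2 : (Fin n₂ → F) → Fin n → F := fun v => Ψ (tp x2 v)
  have hT1add : ∀ u v, T1 (u + v) = T1 u + T1 v := fun u v => by
    show Ψ _ = Ψ _ + Ψ _
    rw [← map_add]
    exact congrArg Ψ (funext fun p => by simp only [tp, Pi.add_apply]; ring)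
  have hT2add : ∀ u v, T2 (u + v) = T2 u + T2 v := fun u v => by
    show Ψ _ = Ψ _ + Ψ _
    rw [← map_add]
    exact congrArg Ψ (funext fun p => by simp only [tp, Pi.add_apply]; ring)
  have hdec : ∀ v : Fin n → F, ∃ u u', v = T1 u + T2 u' := fun v => by
    obtain ⟨x, rfl⟩ := hΨsurj v
    refine ⟨fun i => x (0, i), fun i => x (1, i), ?_⟩
    show _ = Ψ _ + Ψ _
    rw [← map_add]
    refine congrArg Ψ (funext fun p => ?_)
    obtain ⟨r, i⟩ := p
    fin_cases r <;> simp [tp, x1, x2]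
  have hext : ∀ {g h : GL (Fin n) F},
      (∀ u, (g : Matrix (Fin n) (Fin n) F) *ᵥ T1 u = (h : Matrix (Fin n) (Fin n) F) *ᵥ T1 u) →
      (∀ u, (g : Matrix (Fin n) (Fin n) F) *ᵥ T2 u = (h : Matrix (Fin n) (Fin n) F) *ᵥ T2 u) → g = h := by
    intro g h a b
    refine Units.ext (Matrix.ext_iff_mulVec.mpr fun v => ?_)
    obtain ⟨u, u', rfl⟩ := hdec v
    rw [Matrix.mulVec_add, Matrix.mulVec_add, a, b]
  have hw1 : Cfsg.Agent.TensorTwoF2.w F *ᵥ x1 = x2 := by
    funext r; fin_cases r <;> simp [Cfsg.Agent.TensorTwoF2.w, x1, x2]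
  have hw2 : Cfsg.Agent.TensorTwoF2.w F *ᵥ x2 = x1 + x2 := by
    funext r; fin_cases r <;> simp [Cfsg.Agent.TensorTwoF2.w, x1, x2]
  have hw1' : Cfsg.Agent.TensorTwoF2.w' F *ᵥ x1 = x1 + x2 := by
    funext r; fin_cases r <;> simp [Cfsg.Agent.TensorTwoF2.w', x1, x2]
  have htadd : ∀ u, Ψ (tp (x1 + x2) u) = T1 u + T2 u := fun u => by
    show _ = Ψ _ + Ψ _
    rw [← map_add]
    exact congrArg Ψ (funext fun p => by simp only [tp, Pi.add_apply]; ring)
  set JG := φ (Cfsg.Agent.TensorTwoF2.J hq) with hJG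
  have hJ1 : ∀ u, (JG : Matrix (Fin n) (Fin n) F) *ᵥ T1 u = T2 u := fun u => by
    show _ *ᵥ Ψ _ = _
    rw [hJG, hφ]
    show Ψ ((Cfsg.Agent.TensorTwoF2.w F ⊗ₖ (1 : Matrix (Fin n₂) (Fin n₂) F)) *ᵥ _) = _
    rw [kron_tp, hw1, Matrix.one_mulVec]
  have hJ2 : ∀ u, (JG : Matrix (Fin n) (Fin n) F) *ᵥ T2 u = T1 u + T2 u := fun u => by
    show _ *ᵥ Ψ _ = _
    rw [hJG, hφ]
    show Ψ ((Cfsg.Agent.TensorTwoF2.w F ⊗ₖ (1 : Matrix (Fin n₂) (Fin n₂) F)) *ᵥ _) = _
    rw [kron_tp, hw2, Matrix.one_mulVec, htadd]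
  have hJ1' : ∀ u, ((JG⁻¹ : GL (Fin n) F) : Matrix (Fin n) (Fin n) F) *ᵥ T1 u = T1 u + T2 u := fun u => by
    show _ *ᵥ Ψ _ = _
    rw [hJG, ← map_inv, hφ]
    show Ψ ((Cfsg.Agent.TensorTwoF2.w' F ⊗ₖ (1 : Matrix (Fin n₂) (Fin n₂) F)) *ᵥ _) = _
    rw [kron_tp, hw1', Matrix.one_mulVec, htadd]
  -- the forms
  have hpol : ∀ y y' v v', polar q (Ψ (tp y v)) (Ψ (tp y' v')) = f₁ y y' * f₂ v v' := fun y y' v v' =>
    (hT (tp y v) (tp y' v')).trans (by rw [gram_tp, gram_eq hf₁.bilinear, gram_eq hf₂.bilinear])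
  have hx12 : f₁ x1 x2 = 1 := by
    refine Cfsg.Agent.TensorTwoF2.eq_one hq fun h0 => ?_
    obtain ⟨x, hx⟩ := (hf₁.nondegenerate x1 (fun h => by simpa [x1] using congrFun h 0)).2
    apply hx
    rw [show x = x 0 • x1 + x 1 • x2 from funext fun r => by fin_cases r <;> simp [x1, x2],
      hf₁.bilinear.add_right, hf₁.bilinear.smul_right, hf₁.bilinear.smul_right, hf₁.alternating, h0]
    ring
  have hx21 : f₁ x2 x1 = 1 := by rw [hf₁.skew, hx12]; linear_combination -h2F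
  have p11 : ∀ u v, polar q (T1 u) (T1 v) = 0 := fun u v => by
    show polar q (Ψ _) (Ψ _) = 0
    rw [hpol, hf₁.alternating, zero_mul]
  have p22 : ∀ u v, polar q (T2 u) (T2 v) = 0 := fun u v => by
    show polar q (Ψ _) (Ψ _) = 0
    rw [hpol, hf₁.alternating, zero_mul]
  have p12 : ∀ u v, polar q (T1 u) (T2 v) = f₂ u v := fun u v => by
    show polar q (Ψ _) (Ψ _) = _
    rw [hpol, hx12, one_mul]
  have p21 : ∀ u v, polar q (T2 u) (T1 v) = f₂ u v := fun u v => by
    show polar q (Ψ _) (Ψ _) = _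
    rw [hpol, hx21, one_mul]
  have hq1 : ∀ u, q (T1 u) = 0 := fun u => hpure x1 u
  have hq2 : ∀ u, q (T2 u) = 0 := fun u => hpure x2 u
  have hf2add : ∀ x y v, f₂ (x + y) v = f₂ x v + f₂ y v := hf₂.bilinear.add_left
  -- vectors of the second factor
  obtain ⟨a, ha0⟩ : ∃ a : Fin n₂ → F, a ≠ 0 :=
    ⟨Pi.single ⟨0, by omega⟩ 1, fun h => by simpa using congrFun h (⟨0, by omega⟩ : Fin n₂)⟩
  obtain ⟨b, hab, hb⟩ : ∃ b, f₂ a b = 0 ∧ b ∉ Submodule.span F {a} := by
    by_contra! h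
    have hle : LinearMap.ker (Cfsg.Agent.TransvectionMax.fRight hf₂.bilinear a) ≤ Submodule.span F {a} := h
    have h1 := Submodule.finrank_mono hle
    have h3 := LinearMap.finrank_range_add_finrank_ker (Cfsg.Agent.TransvectionMax.fRight hf₂.bilinear a)
    have h4 := Submodule.finrank_le (LinearMap.range (Cfsg.Agent.TransvectionMax.fRight hf₂.bilinear a))
    rw [finrank_span_singleton ha0] at h1
    rw [Module.finrank_self] at h4
    rw [Module.finrank_fin_fun] at h3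
    omega
  have hb0 : b ≠ 0 := fun h => hb (h ▸ Submodule.zero_mem _)
  have hba : f₂ b a = 0 := by rw [hf₂.skew, hab, neg_zero]
  obtain ⟨w₀, hw0b, hw0a⟩ : ∃ v, f₂ b v = 0 ∧ f₂ a v = 1 := by
    by_contra! hcon
    have h : ∀ v, f₂ b v = 0 → f₂ a v = 0 := fun v hv =>
      by_contra fun hne => hcon v hv (Cfsg.Agent.TensorTwoF2.eq_one hq hne)
    obtain ⟨u, hu⟩ := (hf₂.nondegenerate b hb0).2
    refine hb ?_
    by_contra hbs
    have hu1 := Cfsg.Agent.TensorTwoF2.eq_one hq hu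
    have hz : a + (-(f₂ a u)) • b = 0 := by
      by_contra hz
      obtain ⟨v, hv⟩ := (hf₂.nondegenerate _ hz).2
      apply hv
      have h1 := h (v + (-(f₂ b v)) • u) (by
        rw [hf₂.bilinear.add_right, hf₂.bilinear.smul_right, hu1]; ring)
      rw [hf₂.bilinear.add_right, hf₂.bilinear.smul_right] at h1
      rw [hf2add, hf₂.bilinear.smul_left]
      linear_combination h1
    rcases eq_or_ne (f₂ a u) 0 with h0 | h0
    · exact ha0 (by simpa [h0] using hz)
    · exact hbs (Submodule.mem_span_singleton.2 ⟨(f₂ a u)⁻¹, by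
        rw [neg_smul, ← sub_eq_add_neg, sub_eq_zero] at hz
        rw [eq_comm, eq_inv_smul_iff₀ h0]
        exact hz.symm⟩)
  have haa := hf₂.alternating
  -- the two Siegel elements
  set E := T1 a + T2 b with hE
  set G := T1 b + T2 (a + b) with hG
  have hd : 5 ≤ finrank F (Fin n → F) := by simp; omega
  obtain ⟨k, hk, hkact⟩ := exists_siegel (Q := q) hnd hd (e := E) (f := G)
    (by rw [hE, QuadraticMap.map_add (⇑q), hq1, hq2, p12, hab]; simp)
    (by rw [hG, QuadraticMap.map_add (⇑q), hq1, hq2, p12, hf₂.bilinear.add_right, haa, hba]; simp)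
    (by rw [hE, hG, polar_add_left, polar_add_right, polar_add_right, p11, p12, p21, p22, hf2add, haa, hba, haa]; simp)
  obtain ⟨k', hk', hk'act⟩ := exists_siegel (Q := q) hnd hd (e := T1 a) (f := T2 b) (hq1 a) (hq2 b)
    (by rw [p21, hba])
  have hk1 : ∀ u, k.1 (T1 u) = T1 u + (f₂ a u + f₂ b u) • E - f₂ b u • G := fun u => by
    rw [hkact, hE, hG, polar_add_left, polar_add_left, p11, p11, p21, p21, hf2add, zero_add, zero_add]
  have hk2 : ∀ u, k.1 (T2 u) = T2 u + f₂ b u • E - f₂ a u • G := fun u => by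
    rw [hkact, hE, hG, polar_add_left, polar_add_left, p12, p12, p22, p22, add_zero, add_zero]
  have hJE : (JG : Matrix (Fin n) (Fin n) F) *ᵥ E = G := by
    rw [hE, hG, Matrix.mulVec_add, hJ1, hJ2, hT2add]
    abel
  have hJG' : (JG : Matrix (Fin n) (Fin n) F) *ᵥ G = E + G := by
    rw [hE, hG, Matrix.mulVec_add, hJ1, hJ2, hT1add, hT2add]
    have h0 : T1 b + T1 b = 0 := by rw [← two_smul F, h2F, zero_smul]
    have h0' : T2 b + T2 b = 0 := by rw [← two_smul F, h2F, zero_smul]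
    abel
  have hmemK : ∀ {g : GL (Fin n) F}, g ∈ (Cfsg.Agent.TensorTwoF2.K0 hq).map φ.toMonoidHom ↔
      g * JG = JG * g ∨ g * JG = JG⁻¹ * g := by
    intro g
    constructor
    · rintro ⟨x, hx, rfl⟩
      rcases hx with hx | hx <;> [left; right] <;> rw [mul_inv_eq_iff_eq_mul] at hx <;>
        simp only [MulEquiv.coe_toMonoidHom, hJG, ← map_mul, ← map_inv, hx]
    · intro h
      refine ⟨φ.symm g, ?_, φ.apply_symm_apply g⟩
      show _ * Cfsg.Agent.TensorTwoF2.J hq * _ = _ ∨ _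
      rw [mul_inv_eq_iff_eq_mul, mul_inv_eq_iff_eq_mul]
      rcases h with h | h <;> [left; right] <;> apply φ.injective <;>
        simpa only [map_mul, map_inv, φ.apply_symm_apply, ← hJG] using h
  refine ⟨(Cfsg.Agent.TensorTwoF2.K0 hq).map φ.toMonoidHom ⊓ Cfsg.Geo.omegaGL ⇑q, ?_, ?_⟩
  · rw [hTeq]
    refine lt_of_le_not_ge (inf_le_inf_right _ (Subgroup.map_mono (Cfsg.Agent.TensorTwoF2.kronecker_le hq)))
      fun h => ?_
    have hcomm : toGL q k * JG = JG * toGL q k := by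
      refine hext (fun u => ?_) (fun u => ?_)
      · simp only [Units.val_mul, ← Matrix.mulVec_mulVec, hJ1, toGL_mulVec, hk1, hk2, Matrix.mulVec_add,
          Matrix.mulVec_sub, Matrix.mulVec_smul, hJE, hJG']
        match_scalars <;> first | ring1 | linear_combination (f₂ a u + f₂ b u) * h2F | linear_combination (f₂ a u) * h2F | linear_combination (f₂ b u) * h2F | linear_combination -(f₂ a u + f₂ b u) * h2F | linear_combination -(f₂ a u) * h2F | linear_combination -(f₂ b u) * h2F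
      · simp only [Units.val_mul, ← Matrix.mulVec_mulVec, hJ2, toGL_mulVec, map_add, hk1, hk2, Matrix.mulVec_add,
          Matrix.mulVec_sub, Matrix.mulVec_smul, hJE, hJG']
        match_scalars <;> first | ring1 | linear_combination (f₂ a u + f₂ b u) * h2F | linear_combination (f₂ a u) * h2F | linear_combination (f₂ b u) * h2F | linear_combination -(f₂ a u + f₂ b u) * h2F | linear_combination -(f₂ a u) * h2F | linear_combination -(f₂ b u) * h2F
    obtain ⟨x, ⟨A, B, hx⟩, hxe⟩ := (h ⟨hmemK.2 (Or.inl hcomm), toGL_mem hk⟩).1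
    have h1 := hφ x (tp x1 w₀)
    rw [show φ x = toGL q k from hxe, toGL_mulVec, hx, kron_tp, hk1, hw0a, hw0b, add_zero, one_smul, zero_smul,
      sub_zero, hE, ← add_assoc, ← hT1add] at h1
    have h1' : Ψ (tp x1 (w₀ + a) + tp x2 b) =
        Ψ (tp ((A : Matrix (Fin 2) (Fin 2) F) *ᵥ x1) ((B : Matrix (Fin n₂) (Fin n₂) F) *ᵥ w₀)) := by
      rw [map_add]; exact h1
    have h2' := hΨinj h1'
    set y := (A : Matrix (Fin 2) (Fin 2) F) *ᵥ x1
    set z := (B : Matrix (Fin n₂) (Fin n₂) F) *ᵥ w₀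
    have e0 : w₀ + a = y 0 • z := funext fun i => by
      simpa [tp, x1, x2] using congrFun h2' (0, i)
    have e1 : b = y 1 • z := funext fun i => by
      simpa [tp, x1, x2] using congrFun h2' (1, i)
    have hy1 : y 1 = 1 := Cfsg.Agent.TensorTwoF2.eq_one hq fun h0 => hb0 (by rw [e1, h0, zero_smul])
    rw [hy1, one_smul] at e1
    have := congrArg (f₂ a) e0
    rw [hf₂.bilinear.add_right, hw0a, haa, ← e1, hf₂.bilinear.smul_right, hab, add_zero, mul_zero] at this
    exact one_ne_zero this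
  · refine lt_of_le_of_ne inf_le_right fun h => ?_
    have hm := toGL_mem hk'
    rw [← h] at hm
    rcases hmemK.1 hm.1 with h1 | h1 <;>
      have h2 := congrArg (fun g : GL (Fin n) F => (g : Matrix (Fin n) (Fin n) F) *ᵥ T1 w₀) h1 <;>
      simp only [Units.val_mul, ← Matrix.mulVec_mulVec, hJ1, toGL_mulVec, hk'act, p21, p11, p12, p22, hw0a, hw0b,
        zero_smul, add_zero, sub_zero, one_smul, hJ1'] at h2
    · rw [sub_eq_self] at h2
      have h3 : Ψ (tp x2 b) = Ψ 0 := by rw [map_zero]; exact h2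
      have h4 := hΨinj h3
      exact hb0 (funext fun i => by simpa [tp, x2] using congrFun h4 (1, i))
    · have h3 : Ψ (tp x2 w₀ - tp x2 b) = Ψ (tp x1 w₀ + tp x2 w₀) := by rw [map_sub, map_add]; exact h2
      have h4 := hΨinj h3
      have hw0z : w₀ = 0 := funext fun i => by
        have := congrFun h4 (0, i)
        simp [tp, x1, x2] at this
        exact this.symm
      rw [hw0z, Cfsg.Agent.TransvectionMax.zero_right hf₂.bilinear] at hw0a
      exact zero_ne_one hw0a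

end Cfsg.Agent.S5705
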