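import Cfsg.Statements.S5706
import Cfsg.Agent.Lib.TensorWreath43TwoGlue
import Cfsg.Agent.Lib.OmegaMaxGlue

set_option autoImplicit false
open Cfsg
open scoped Matrix

namespace Cfsg.Agent.S5706

open QuadraticMap

/-- Let F be a finite field with q elements, n ≥ 13 even, Q a non-degenerate quadratic form on F^n of plus type (some subspace of dimension n/2 is totally singular), and Ω the commutator subgroup of the isometry group of Q, viewed inside GL_n(F). Suppose that, through a change of basis P and a bijection of index sets e, the polar form of Q is similar to the t-fold tensor power (t ≥ 2) of a non-degenerate symplectic form f₁ on F^k, that Q vanishes on the images of all pure tensors, that t is even if q is odd, that (q, k) is neither (2, 2) nor (3, 2), and that k ≥ 6 if q is even. Then the elements of Ω in the stabiliser of this decomposition form a maximal subgroup of Ω. -/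
theorem result {F : Type*} [Field F] [Fintype F] {n : ℕ} (hn : 13 ≤ n) (heven : Even n) (Q : (Fin n → F) → F) (hQ : Cfsg.Geo.IsNondegenerateQuadraticForm Q) (hplus : Cfsg.Geo.IsPlusTypeOn Q ⊤) (k t : ℕ) (ht : 2 ≤ t) (hqt : Odd (Fintype.card F) → Even t) (hex1 : ¬ (Fintype.card F = 2 ∧ k = 2)) (hex2 : ¬ (Fintype.card F = 3 ∧ k = 2)) (hex3 : ¬ Odd (Fintype.card F) → 6 ≤ k) (e : (Fin n) ≃ (Fin t → Fin k)) (P : Matrix.GeneralLinearGroup (Fin n) F) (f₁ : (Fin k → F) → (Fin k → F) → F) (hf₁ : Cfsg.Geo.IsSymplecticForm f₁) (hT : Cfsg.Geo.IsTensorPowerFormStructure id (QuadraticMap.polar Q) f₁ e P) (hpure : (∀ xs : Fin t → (Fin k → F), Q (Matrix.mulVec (P : Matrix (Fin n) (Fin n) F) ((fun a : Fin t → Fin k => ∏ i, xs i (a i)) ∘ e)) = 0)) : Cfsg.Geo.IsMaximalIn (Cfsg.Geo.omegaGL Q) (Cfsg.Geo.tensorWreathSubgroup k t e P ⊓ Cfsg.Geo.omegaGL Q) := by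
  classical
  obtain ⟨Q, rfl, hnd⟩ := OmegaGeo.exists_quad hQ
  have hcard : n = k ^ t := by simpa using Fintype.card_congr e
  have hk2 : 2 ≤ k := by
    rcases Nat.lt_or_ge k 2 with h | h
    · interval_cases k
      · rw [zero_pow (by omega)] at hcard; omega
      · rw [one_pow] at hcard; omega
    · exact h
  haveI : NeZero k := ⟨by omega⟩
  set G := Cfsg.Geo.gramMatrix f₁ with hGdef
  have hG : TensorWreath43.SG G := TensorWreath43.sG_gram_alt hf₁
  obtain ⟨c, hc, hform⟩ := hT
  set ψ := TensorWreath43.psi e P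
  set q := c⁻¹ • Q.comp ψ with hqdef
  have hq : ∀ x, q x = c⁻¹ * Q (ψ x) := fun x => rfl
  have hpolQ : ∀ x y, polar Q (ψ x) (ψ y) = c * TensorWreath43.fT G x y := fun x y => by
    rw [TensorWreath43.psi_apply, TensorWreath43.psi_apply, hform]
    congr 1
    simp only [TensorWreath43.fT, TensorWreath43.pureT, dotProduct, Matrix.mulVec, Finset.mul_sum, id, mul_assoc, hGdef]
  have hpol : ∀ x y, polar q x y = TensorWreath43.fT G x y := fun x y => by
    show c⁻¹ * Q (ψ (x + y)) - c⁻¹ * Q (ψ x) - c⁻¹ * Q (ψ y) = _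
    rw [map_add, ← mul_sub, ← mul_sub, show Q (ψ x + ψ y) - Q (ψ x) - Q (ψ y) = polar Q (ψ x) (ψ y) from rfl, hpolQ,
      ← mul_assoc, inv_mul_cancel₀ hc, one_mul]
  have hp : ∀ u : Fin t → Fin k → F, q (TensorWreath43.pureV u) = 0 := fun u => by
    rw [hq, show Q (ψ (TensorWreath43.pureV u)) = 0 from hpure u, mul_zero]
  have hnd' : (polarBilin q).Nondegenerate := by
    have hzero : ∀ x, (∀ v, polar Q (ψ x) v = 0) → x = 0 := fun x hx =>
      TensorWreath43.psi_injective e P (by rw [map_zero]; exact hnd.1 _ hx)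
    have hrel : ∀ x y, polar Q (ψ x) (ψ y) = c * polar q x y := fun x y => by rw [hpolQ, hpol]
    refine ⟨fun x hx => hzero x fun v => ?_, fun x hx => hzero x fun v => ?_⟩
    · obtain ⟨y, rfl⟩ := TensorWreath43.psi_surjective e P v
      rw [hrel, show polar q x y = 0 from hx y, mul_zero]
    · obtain ⟨y, rfl⟩ := TensorWreath43.psi_surjective e P v
      rw [polar_comm, hrel, show polar q y x = 0 from hx y, mul_zero]
  have hΩ : (Cfsg.Geo.omegaGL ⇑Q).comap (TensorWreath43.phi e P).toMonoidHom = Cfsg.Geo.omegaGL ⇑q := by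
    rw [TensorWreath43.comap_omegaGL, hqdef, TensorWreath43.omegaGL_smul _ (inv_ne_zero hc)]
  have hcard5 : 5 ≤ Fintype.card (TensorWreath43.TI t k) := by
    rw [← Fintype.card_congr e, Fintype.card_fin]; omega
  have hex : 3 ≤ k ∨ 3 ≤ t := by
    by_contra h
    have hk : k = 2 := by omega
    have ht' : t = 2 := by omega
    subst hk ht'
    omega
  refine TensorWreath43.isMaximalIn_of e P _ ?_ fun M h1 hM => ?_
  · obtain ⟨g, hg, hgn⟩ := TensorWreath43.omega_not_le_wreath hpol hp hG hnd' hcard5 ht hex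
    rw [← hΩ] at hg
    exact ⟨g, hg, hgn⟩
  rw [hΩ] at h1 hM ⊢
  by_cases hodd : Odd (Fintype.card F)
  · have h2 : (2 : F) ≠ 0 := fun h => by
      have hr : ringChar F = 2 := CharP.ringChar_of_prime_eq_zero Nat.prime_two (by exact_mod_cast h)
      have := FiniteField.even_card_iff_char_two.1 hr
      rw [Nat.odd_iff] at hodd
      omega
    have hex' : 3 ≤ k ∨ 4 < Fintype.card F := by
      have h1 : 1 < Fintype.card F := Fintype.one_lt_card
      rw [Nat.odd_iff] at hodd
      omega
    exact TensorWreath43.overgroup_odd hpol hp hG hnd' h2 ht (hqt hodd) hex hex' hcard5 h1 hM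
  · have hc2 : (2 : F) = 0 := by
      by_contra h2
      refine hodd (Nat.odd_iff.2 (FiniteField.odd_card_of_char_ne_two fun hr => h2 ?_))
      have := CharP.cast_eq_zero F (ringChar F)
      rwa [hr, Nat.cast_ofNat] at this
    exact TensorWreath43.overgroup_two hpol hp hG hnd' hc2 ht (hex3 hodd) hcard5 h1 hM

end Cfsg.Agent.S5706
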