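import Cfsg.Statements.S5707
import Cfsg.Agent.Lib.TensorSpinCore35

set_option autoImplicit false
open Cfsg
open scoped Matrix

namespace Cfsg.Agent.S5707

/-- Let F be a finite field with q elements, n ≥ 13 even, Q a non-degenerate quadratic form on F^n of plus type (some subspace of dimension n/2 is totally singular), and Ω the commutator subgroup of the isometry group of Q, viewed inside GL_n(F). Suppose q is even and that, through P and e, the polar form of Q is similar to the t-fold tensor power (t ≥ 2) of a non-degenerate symplectic form f₁ on F^k with k ≤ 4 and (q, k) ≠ (2, 2), Q vanishing on the images of all pure tensors. Then the elements of Ω in the stabiliser of this decomposition form a subgroup that is not maximal: some subgroup lies strictly between it and Ω. -/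
theorem result {F : Type*} [Field F] [Fintype F] {n : ℕ} (hn : 13 ≤ n) (heven : Even n) (Q : (Fin n → F) → F) (hQ : Cfsg.Geo.IsNondegenerateQuadraticForm Q) (hplus : Cfsg.Geo.IsPlusTypeOn Q ⊤) (hchar : ¬ Odd (Fintype.card F)) (k t : ℕ) (ht : 2 ≤ t) (hk : k ≤ 4) (hex1 : ¬ (Fintype.card F = 2 ∧ k = 2)) (e : (Fin n) ≃ (Fin t → Fin k)) (P : Matrix.GeneralLinearGroup (Fin n) F) (f₁ : (Fin k → F) → (Fin k → F) → F) (hf₁ : Cfsg.Geo.IsSymplecticForm f₁) (hT : Cfsg.Geo.IsTensorPowerFormStructure id (QuadraticMap.polar Q) f₁ e P) (hpure : (∀ xs : Fin t → (Fin k → F), Q (Matrix.mulVec (P : Matrix (Fin n) (Fin n) F) ((fun a : Fin t → Fin k => ∏ i, xs i (a i)) ∘ e)) = 0)) : ∃ K : Subgroup (Matrix.GeneralLinearGroup (Fin n) F), Cfsg.Geo.tensorWreathSubgroup k t e P ⊓ Cfsg.Geo.omegaGL Q < K ∧ K < Cfsg.Geo.omegaGL Q := by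
  classical
  have h2 : (2 : F) = 0 := by
    obtain ⟨r, hr⟩ := CharP.exists F
    have hrp : r.Prime := (CharP.char_is_prime_or_zero F r).resolve_right (CharP.char_ne_zero_of_finite F r)
    obtain ⟨m, -, hcard⟩ := FiniteField.card F r
    rcases hrp.eq_two_or_odd' with rfl | hodd
    · exact_mod_cast CharP.cast_eq_zero F 2
    · exact absurd (hcard ▸ hodd.pow) hchar
  have hcardn : n = k ^ t := by simpa using Fintype.card_congr e
  have hk24 : k = 2 ∨ k = 4 := by
    interval_cases k
    · rw [zero_pow (by omega)] at hcardn; omega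
    · rw [one_pow] at hcardn; omega
    · exact Or.inl rfl
    · exfalso
      have hneg : ∀ x : F, -x = x := fun x => by linear_combination -x * h2
      have hb := hf₁.bilinear
      have hsym : ∀ i j : Fin 3, f₁ (Pi.single i 1) (Pi.single j 1) = f₁ (Pi.single j 1) (Pi.single i 1) :=
        fun i j => by rw [hf₁.skew, hneg]
      let a := f₁ (Pi.single 0 1) (Pi.single 1 1)
      let b := f₁ (Pi.single 0 1) (Pi.single 2 1)
      let c := f₁ (Pi.single 1 1) (Pi.single 2 1)
      have hrad : ∀ w : Fin 3 → F, ∀ j, f₁ w (Pi.single j 1) = w 0 * f₁ (Pi.single 0 1) (Pi.single j 1) +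
          w 1 * f₁ (Pi.single 1 1) (Pi.single j 1) + w 2 * f₁ (Pi.single 2 1) (Pi.single j 1) := by
        intro w j
        conv_lhs => rw [show w = w 0 • Pi.single 0 1 + w 1 • Pi.single 1 1 + w 2 • Pi.single 2 1 from by
          funext i; fin_cases i <;> simp]
        rw [hb.add_left, hb.add_left, hb.smul_left, hb.smul_left, hb.smul_left]
      have hzero : ∀ w : Fin 3 → F, (∀ j, f₁ w (Pi.single j 1) = 0) → w = 0 := by
        intro w hw
        by_contra h
        obtain ⟨v, hv⟩ := (hf₁.nondegenerate w h).2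
        refine hv ?_
        rw [show v = v 0 • Pi.single 0 1 + v 1 • Pi.single 1 1 + v 2 • Pi.single 2 1 from by
          funext i; fin_cases i <;> simp]
        rw [hb.add_right, hb.add_right, hb.smul_right, hb.smul_right, hb.smul_right, hw, hw, hw]
        simp
      have h0 : (![c, b, a] : Fin 3 → F) = 0 := hzero _ fun j => by
        rw [hrad]
        fin_cases j <;> simp [a, b, c, hf₁.alternating, hsym 1 0, hsym 2 0, hsym 2 1] <;> ring_nf <;>
          simp [h2]
      have hc0 : c = 0 := congrFun h0 0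
      have hb0 : b = 0 := congrFun h0 1
      have ha0 : a = 0 := congrFun h0 2
      have h1 : (Pi.single 0 1 : Fin 3 → F) = 0 := hzero _ fun j => by
        fin_cases j
        · exact hf₁.alternating _
        · exact ha0
        · exact hb0
      simpa using congrFun h1 0
    · exact Or.inr rfl
  obtain ⟨d⟩ := TensorSpin35.exists_local (t := t) h2 hk24 (fun h => by
      subst h
      refine ⟨?_, ?_⟩
      · by_contra h3
        obtain rfl : t = 2 := by omega
        omega
      · have h3 : 3 ≤ Fintype.card F := by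
          have h1 := Fintype.one_lt_card (α := F)
          by_contra h3
          exact hex1 ⟨by omega, rfl⟩
        by_contra hnone
        push Not at hnone
        have : (Finset.univ : Finset F) ⊆ {0, 1} := fun x _ => by
          by_cases hx : x = 0
          · simp [hx]
          · simp [hnone x hx]
        have h4 := (Finset.card_le_card this).trans Finset.card_le_two
        rw [Finset.card_univ] at h4
        omega) f₁ hf₁
  obtain ⟨c, hc, hform⟩ := hT
  let ψ : ((Fin t → Fin k) → F) → (Fin n → F) := fun x => (P : Matrix (Fin n) (Fin n) F) *ᵥ (x ∘ e)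
  let φ : Matrix.GeneralLinearGroup (Fin t → Fin k) F ≃* Matrix.GeneralLinearGroup (Fin n) F :=
    (Cfsg.Geo.glReindex e.symm).trans (MulAut.conj P)
  have hψsurj : Function.Surjective ψ := fun v =>
    ⟨(((P⁻¹ : Matrix.GeneralLinearGroup (Fin n) F) : Matrix (Fin n) (Fin n) F) *ᵥ v) ∘ e.symm, by
      show (P : Matrix (Fin n) (Fin n) F) *ᵥ _ = v
      rw [Function.comp_assoc, Equiv.symm_comp_self, Function.comp_id, Matrix.mulVec_mulVec, Units.mul_inv,
        Matrix.one_mulVec]⟩
  have hφψ : ∀ g x, (φ g : Matrix (Fin n) (Fin n) F) *ᵥ ψ x = ψ ((g : Matrix _ _ F) *ᵥ x) := by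
    intro g x
    show ((P * Cfsg.Geo.glReindex e.symm g * P⁻¹ : Matrix.GeneralLinearGroup (Fin n) F) : Matrix (Fin n) (Fin n) F)
      *ᵥ ((P : Matrix (Fin n) (Fin n) F) *ᵥ (x ∘ e)) = (P : Matrix (Fin n) (Fin n) F) *ᵥ _
    rw [Units.val_mul, Units.val_mul, Matrix.mulVec_mulVec, mul_assoc, Units.inv_mul, mul_one,
      ← Matrix.mulVec_mulVec]
    congr 1
    show (Matrix.reindexAlgEquiv F F e.symm (g : Matrix _ _ F)) *ᵥ (x ∘ e) = _
    simp [Matrix.submatrix_mulVec_equiv, Function.comp_assoc]
  let Qc : ((Fin t → Fin k) → F) → F := fun x => Q (ψ x)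
  have hψadd : ∀ x y, ψ (x + y) = ψ x + ψ y := fun x y => by
    show _ *ᵥ ((x + y) ∘ e) = _
    rw [← Matrix.mulVec_add]; rfl
  have hψsmul : ∀ (a : F) x, ψ (a • x) = a • ψ x := fun a x => by
    show _ *ᵥ ((a • x) ∘ e) = _
    rw [← Matrix.mulVec_smul]; rfl
  have hψinj : Function.Injective ψ := fun x y h => by
    funext z
    simpa using congrFun (Matrix.mulVec_injective_of_isUnit P.isUnit h) (e.symm z)
  have hpolc : ∀ x y, QuadraticMap.polar Qc x y = QuadraticMap.polar Q (ψ x) (ψ y) := fun x y => by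
    simp only [QuadraticMap.polar, Qc, hψadd]
  have hQc : Cfsg.Geo.IsNondegenerateQuadraticForm Qc := by
    refine ⟨fun a x => by simp only [Qc, hψsmul, hQ.smul],
      ⟨fun x y v => by simp only [hpolc, hψadd, hQ.polar_bilinear.add_left],
       fun a x v => by simp only [hpolc, hψsmul, hQ.polar_bilinear.smul_left],
       fun v x y => by simp only [hpolc, hψadd, hQ.polar_bilinear.add_right],
       fun a v x => by simp only [hpolc, hψsmul, hQ.polar_bilinear.smul_right]⟩, fun v hv => ?_⟩
    have hv' : ψ v ≠ 0 := fun h => hv (hψinj (h.trans (by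
      show (0 : Fin n → F) = _ *ᵥ ((0 : (Fin t → Fin k) → F) ∘ e)
      rw [show ((0 : (Fin t → Fin k) → F) ∘ e) = 0 from rfl, Matrix.mulVec_zero])))
    obtain ⟨⟨x, hx⟩, ⟨y, hy⟩⟩ := hQ.nondegenerate _ hv'
    obtain ⟨x', rfl⟩ := hψsurj x
    obtain ⟨y', rfl⟩ := hψsurj y
    exact ⟨⟨x', by rwa [hpolc]⟩, ⟨y', by rwa [hpolc]⟩⟩
  have hpol : ∀ x y, QuadraticMap.polar Qc x y =
      c * (x ⬝ᵥ AschGenTensor.pureMat (fun _ => Cfsg.Geo.gramMatrix f₁) *ᵥ y) := by
    intro x y
    rw [hpolc, hform]
    simp only [dotProduct, Matrix.mulVec, AschGenTensor.pureMat, Matrix.of_apply, id_eq, Finset.mul_sum]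
    exact Finset.sum_congr rfl fun a _ => Finset.sum_congr rfl fun b _ => by ring
  have hG0 : Cfsg.Geo.gramMatrix f₁ ≠ 0 := by
    intro h
    have hk0 : 0 < k := by omega
    let i0 : Fin k := ⟨0, hk0⟩
    obtain ⟨v, hv⟩ := (hf₁.nondegenerate (Pi.single i0 1) (fun h0 => by simpa using congrFun h0 i0)).2
    refine hv ?_
    rw [pi_eq_sum_univ' v]
    induction (Finset.univ : Finset (Fin k)) using Finset.induction with
    | empty => simpa using hf₁.bilinear.smul_right 0 (Pi.single i0 1) 0
    | insert j s hj ih =>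
      rw [Finset.sum_insert hj, hf₁.bilinear.add_right, ih, hf₁.bilinear.smul_right,
        show f₁ (Pi.single i0 1) (Pi.single j 1) = 0 from congrFun (congrFun h i0) j]
      simp
  obtain ⟨K, hK1, hK2⟩ := TensorSpin35.core h2 _ d ht (fun i => hf₁.alternating _) hG0 Qc hQc c hc hpol
    (fun xs => hpure xs) (by rw [← Fintype.card_congr e, Fintype.card_fin]; omega)
  have hI : (Cfsg.isometryGroup F Qc).map φ.toMonoidHom = Cfsg.isometryGroup F Q := by
    ext g
    constructor
    · rintro ⟨g, hg, rfl⟩ u v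
      obtain ⟨x, rfl⟩ := hψsurj u
      show Q ((φ g : Matrix (Fin n) (Fin n) F) *ᵥ ψ x) = Q (ψ x)
      rw [hφψ]
      exact hg x x
    · intro hg
      refine ⟨φ.symm g, fun x _ => ?_, φ.apply_symm_apply g⟩
      show Q (ψ (((φ.symm g : Matrix.GeneralLinearGroup (Fin t → Fin k) F) : Matrix _ _ F) *ᵥ x)) = Q (ψ x)
      rw [← hφψ, MulEquiv.apply_symm_apply]
      exact hg (ψ x) (ψ x)
  have hΩ : (Cfsg.Geo.omegaGL Qc).map φ.toMonoidHom = Cfsg.Geo.omegaGL Q := by
    rw [TensorMaxGlue.omegaGL_eq, TensorMaxGlue.omegaGL_eq, Subgroup.map_commutator, hI]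
  have hS : Cfsg.Geo.tensorWreathSubgroup k t e P =
      (Cfsg.Geo.tensorWreathStandard k t F).map φ.toMonoidHom := by
    rw [Cfsg.Geo.tensorWreathSubgroup, Subgroup.map_map]; rfl
  have hinj : Function.Injective φ.toMonoidHom := φ.injective
  refine ⟨K.map φ.toMonoidHom, ?_, ?_⟩
  · rw [hS, ← hΩ, ← Subgroup.map_inf _ _ _ hinj]
    exact Subgroup.map_lt_map_iff_of_injective hinj |>.2 hK1
  · rw [← hΩ]
    exact Subgroup.map_lt_map_iff_of_injective hinj |>.2 hK2

end Cfsg.Agent.S5707
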