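import Cfsg.Statements.S5709
import Mathlib
import Cfsg.Agent.Lib.OTensorGlue


set_option autoImplicit false
open Cfsg

namespace Cfsg.Agent.S5709

open Cfsg.Agent.OTensor Cfsg.Agent.OmegaGeo

theorem two_ne {F : Type*} [Field F] [Fintype F] (hodd : Odd (Fintype.card F)) : (2 : F) ≠ 0 := by
  refine Ring.two_ne_zero fun h => ?_
  haveI : CharP F 2 := ringChar.of_eq h
  have := FiniteField.even_card_of_char_two h
  rcases hodd with ⟨m, hm⟩
  omega

/-- Let F be a finite field with q elements, n ≥ 13 even, Q a non-degenerate quadratic form on F^n of minus type (no subspace of dimension n/2 is totally singular), and Ω the commutator subgroup of the isometry group of Q, viewed inside GL_n(F). Suppose q is odd and that, through a change of basis P and a bijection of index sets e, the polar form of Q is similar to the tensor product of non-degenerate symmetric bilinear forms f₁ on F^(n₁), n₁ odd and at least 3, and f₂ on F^(n₂), n₂ even and at least 4 with no totally isotropic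 subspace of dimension n₂/2 (minus type). Unless q = 3 and n₁ = 3, the elements of Ω in the stabiliser of this tensor decomposition form a maximal subgroup of Ω. -/
theorem result {F : Type*} [Field F] [Fintype F] {n : ℕ} (hn : 13 ≤ n) (heven : Even n) (Q : (Fin n → F) → F) (hQ : Cfsg.Geo.IsNondegenerateQuadraticForm Q) (hminus : ¬ Cfsg.Geo.IsPlusTypeOn Q ⊤) (hodd : Odd (Fintype.card F)) (n₁ n₂ : ℕ) (h1 : 3 ≤ n₁) (h1o : Odd n₁) (h2 : 4 ≤ n₂) (h2e : Even n₂) (hex : ¬ (Fintype.card F = 3 ∧ n₁ = 3)) (e : (Fin n) ≃ Fin n₁ × Fin n₂) (P : Matrix.GeneralLinearGroup (Fin n) F) (f₁ : (Fin n₁ → F) → (Fin n₁ → F) → F) (f₂ : (Fin n₂ → F) → (Fin n₂ → F) → F) (hf₁ : Cfsg.Geo.IsSymmetricForm f₁) (hf₂ : Cfsg.Geo.IsSymmetricForm f₂) (hf₂m : ¬ Cfsg.Geo.IsPlusTypeOn (fun v : Fin n₂ → F => f₂ v v) ⊤) (hT : Cfsg.Geo.IsTensorFormStructure id (QuadraticMap.polar Q) f₁ f₂ e P) : Cfsg.Geo.IsMaximalIn (Cfsg.Geo.omegaGL Q) (Cfsg.Geo.tensorProductSubgroup n₁ n₂ e P ⊓ Cfsg.Geo.omegaGL Q) := by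
  obtain ⟨q, rfl, hnd⟩ := exists_quad hQ
  have two := two_ne hodd
  have hprod : n = n₁ * n₂ := by simpa using Fintype.card_congr e
  obtain ⟨a, ha⟩ := h1o
  obtain ⟨b, hb⟩ := h2e
  by_cases h6 : 6 ≤ n₂
  · refine orth_tensor_maximal hnd two (sym_of hf₁) (sym_of hf₂) h1 (by omega) (hbig_of hex two h1)
      (Or.inl (by omega)) (fun h => ?_) e P hT
    obtain ⟨d, hd⟩ := h
    have : n₁ = 2 * (b * d) := by rw [hd, hb]; ring
    omega
  have h4 : n₂ = 4 := by omega
  subst h4
  rw [kron_swap e P]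
  refine orth_tensor_maximal hnd two (sym_of hf₂) (sym_of hf₁) (by omega) (by omega) (Or.inl le_rfl)
    (sane_of_minus (sym_of hf₂) hf₂m) (fun h => ?_) _ P (structure_swap hT)
  have hle := Nat.le_of_dvd (by omega) h
  omega

end Cfsg.Agent.S5709
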