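import Cfsg.Statements.S5710
import Mathlib
import Cfsg.Agent.Lib.OmegaGeo
import Cfsg.Agent.Lib.OmegaDecompThree


set_option autoImplicit false
open Cfsg

namespace Cfsg.Agent.S5710

open scoped Matrix MatrixGroups Kronecker
open QuadraticMap Module
open Cfsg.Agent.OrthUnitaryQuad Cfsg.Agent.OrthUnitaryRefl Cfsg.Agent.OmegaGeo Cfsg.Agent.OmegaDecompThree

section Aux

variable {F : Type*} [Field F]

/-- The pure tensor. -/
def tp {k l : ℕ} (y : Fin k → F) (v : Fin l → F) : Fin k × Fin l → F := fun p => y p.1 * v p.2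

theorem kron_tp {k l : ℕ} (A : Matrix (Fin k) (Fin k) F) (B : Matrix (Fin l) (Fin l) F) (y : Fin k → F)
    (v : Fin l → F) : (A ⊗ₖ B) *ᵥ tp y v = tp (A *ᵥ y) (B *ᵥ v) := by
  funext p
  simp only [Matrix.mulVec, dotProduct, tp, Matrix.kroneckerMap_apply, Fintype.sum_prod_type,
    Finset.sum_mul_sum]
  exact Finset.sum_congr rfl fun _ _ => Finset.sum_congr rfl fun _ _ => by ring

theorem gram_eq {m : ℕ} {f : (Fin m → F) → (Fin m → F) → F} (hf : Cfsg.Geo.IsBilinearForm f) (x y : Fin m → F) :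
    Cfsg.Geo.formOfGram id (Cfsg.Geo.gramMatrix f) x y = f x y := by
  classical
  let L : (Fin m → F) →ₗ[F] (Fin m → F) →ₗ[F] F := LinearMap.mk₂ F f hf.add_left
    (fun c a b => by rw [hf.smul_left, smul_eq_mul]) hf.add_right (fun c a b => by rw [hf.smul_right, smul_eq_mul])
  show _ = L x y
  conv_rhs => rw [pi_eq_sum_univ' x, map_sum, LinearMap.sum_apply]
  refine Finset.sum_congr rfl fun a _ => ?_
  rw [map_smul, LinearMap.smul_apply, smul_eq_mul]
  conv_rhs => rw [pi_eq_sum_univ' y, map_sum, Finset.mul_sum]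
  refine Finset.sum_congr rfl fun b _ => ?_
  rw [map_smul, smul_eq_mul]
  simp only [Cfsg.Geo.gramMatrix, id, L, LinearMap.mk₂_apply]
  ring

theorem gram_tp {k l : ℕ} (G₁ : Matrix (Fin k) (Fin k) F) (G₂ : Matrix (Fin l) (Fin l) F)
    (y y' : Fin k → F) (v v' : Fin l → F) :
    Cfsg.Geo.formOfGram id (G₁ ⊗ₖ G₂) (tp y v) (tp y' v') =
      Cfsg.Geo.formOfGram id G₁ y y' * Cfsg.Geo.formOfGram id G₂ v v' := by
  simp only [Cfsg.Geo.formOfGram, tp, Matrix.kroneckerMap_apply, Fintype.sum_prod_type,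
    Finset.sum_mul_sum]
  refine Finset.sum_congr rfl fun a _ => Finset.sum_congr rfl fun b _ => ?_
  exact Finset.sum_congr rfl fun _ _ => Finset.sum_congr rfl fun _ _ => by simp only [id]; ring

end Aux

theorem one_coord {F : Type*} [Field F] [Fintype F] (hF : Fintype.card F = 3) (x : Fin 3 → F)
    (h : x 0 * x 0 + x 1 * x 1 + x 2 * x 2 = 1) : ∃ i, x i ≠ 0 ∧ ∀ j, j ≠ i → x j = 0 := by
  have h3 := three_eq_zero hF
  have h10 : (1 : F) ≠ 0 := one_ne_zero
  by_cases h0 : x 0 = 0 <;> by_cases h1 : x 1 = 0 <;> by_cases h2 : x 2 = 0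
  · exact absurd (by simpa [h0, h1, h2] using h.symm) h10
  · exact ⟨2, h2, fun j hj => by fin_cases j <;> simp_all⟩
  · exact ⟨1, h1, fun j hj => by fin_cases j <;> simp_all⟩
  · exfalso; rw [sq_one hF h1, sq_one hF h2, h0] at h; exact h10 (by linear_combination h)
  · exact ⟨0, h0, fun j hj => by fin_cases j <;> simp_all⟩
  · exfalso; rw [sq_one hF h0, sq_one hF h2, h1] at h; exact h10 (by linear_combination h)
  · exfalso; rw [sq_one hF h0, sq_one hF h1, h2] at h; exact h10 (by linear_combination h)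
  · exfalso; rw [sq_one hF h0, sq_one hF h1, sq_one hF h2] at h; exact h10 (by linear_combination -h + h3)

theorem gram_det {F : Type*} [Field F] {k : ℕ} {f : (Fin k → F) → (Fin k → F) → F}
    (hf : Cfsg.Geo.IsSymmetricForm f) : (Cfsg.Geo.gramMatrix f).det ≠ 0 := by
  intro h
  obtain ⟨y, hy0, hy⟩ := Matrix.exists_mulVec_eq_zero_iff.mpr h
  obtain ⟨x, hx⟩ := (hf.nondegenerate y hy0).1
  apply hx
  rw [← gram_eq hf.bilinear x y]
  simp only [Cfsg.Geo.formOfGram, id]
  refine Finset.sum_eq_zero fun a _ => ?_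
  have := congrFun hy a
  simp only [Matrix.mulVec, dotProduct, Pi.zero_apply] at this
  calc ∑ b, x a * Cfsg.Geo.gramMatrix f a b * y b = x a * ∑ b, Cfsg.Geo.gramMatrix f a b * y b := by
        rw [Finset.mul_sum]; exact Finset.sum_congr rfl fun b _ => mul_assoc _ _ _
    _ = 0 := by rw [this, mul_zero]

theorem ratio_one {F : Type*} [Field F] [Fintype F] (hF : Fintype.card F = 3) {f : (Fin 3 → F) → (Fin 3 → F) → F}
    (hf : Cfsg.Geo.IsSymmetricForm f) (g : Matrix (Fin 3) (Fin 3) F) (hg : g.det ≠ 0) {κ : F}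
    (h : ∀ x y, f (g *ᵥ x) (g *ᵥ y) = κ * f x y) : κ = 1 := by
  set A := Cfsg.Geo.gramMatrix f with hA
  have heq : gᵀ * A * g = κ • A := by
    ext i j
    have e := h (Pi.single i 1) (Pi.single j 1)
    rw [← gram_eq hf.bilinear, ← hA] at e
    simp only [Matrix.mulVec_single_one] at e
    rw [Matrix.smul_apply, smul_eq_mul, hA]
    show _ = κ * f (Pi.single i 1) (Pi.single j 1)
    rw [← e, Cfsg.Geo.formOfGram, Matrix.mul_apply, Finset.sum_comm]
    refine Finset.sum_congr rfl fun b _ => ?_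
    rw [Matrix.mul_apply, Finset.sum_mul]
    rfl
  have hd := congrArg Matrix.det heq
  rw [Matrix.det_mul, Matrix.det_mul, Matrix.det_transpose, Matrix.det_smul, Fintype.card_fin] at hd
  have h1 := sq_one hF hg
  have hκ : κ ^ 3 = 1 := mul_right_cancel₀ (gram_det hf) (by rw [one_mul, ← hd]; linear_combination A.det * h1)
  have hκ0 : κ ≠ 0 := fun e => by simp [e] at hκ
  have h2 := sq_one hF hκ0
  linear_combination hκ - κ * h2

theorem exists_frame {F : Type*} [Field F] [Fintype F] (hF : Fintype.card F = 3)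
    {f : (Fin 3 → F) → (Fin 3 → F) → F} (hf : Cfsg.Geo.IsSymmetricForm f) :
    ∃ (a : F) (b : Basis (Fin 3) F (Fin 3 → F)), a ≠ 0 ∧ ∀ i j, f (b i) (b j) = if i = j then a else 0 := by
  classical
  let : Invertible (2 : F) := invertibleOfNonzero (two_ne hF)
  let L : LinearMap.BilinForm F (Fin 3 → F) := LinearMap.mk₂ F f hf.bilinear.add_left
    (fun c a b => by rw [hf.bilinear.smul_left, smul_eq_mul]) hf.bilinear.add_right
    (fun c a b => by rw [hf.bilinear.smul_right, smul_eq_mul])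
  obtain ⟨v, hv⟩ := LinearMap.BilinForm.exists_orthogonal_basis (B := L) ⟨fun x y => hf.symm x y⟩
  let v' : Basis (Fin 3) F (Fin 3 → F) := v.reindex (finCongr (Module.finrank_fin_fun F))
  have hne : ∀ i j, i ≠ j → f (v' i) (v' j) = 0 := fun i j hij => by
    simpa [v', Function.onFun, L] using hv (show _ ≠ _ from fun e => hij ((finCongr (Module.finrank_fin_fun F)).symm.injective e))
  have hdiag : ∀ i, f (v' i) (v' i) ≠ 0 := by
    intro i h0
    obtain ⟨x, hx⟩ := (hf.nondegenerate (v' i) (v'.ne_zero i)).1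
    apply hx
    show L x (v' i) = 0
    rw [← v'.sum_repr x, map_sum, LinearMap.sum_apply]
    refine Finset.sum_eq_zero fun j _ => ?_
    rw [map_smul, LinearMap.smul_apply, smul_eq_mul]
    by_cases hji : j = i
    · rw [hji]; exact mul_eq_zero_of_right _ h0
    · exact mul_eq_zero_of_right _ (hne j i hji)
  -- two equal values
  obtain ⟨i, j, k, hij, hik, hjk, he⟩ : ∃ i j k : Fin 3, i ≠ j ∧ i ≠ k ∧ j ≠ k ∧ f (v' i) (v' i) = f (v' j) (v' j) := by
    rcases eq_or_neg hF (hdiag 0) (hdiag 1) with h | h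
    · exact ⟨0, 1, 2, by decide, by decide, by decide, h⟩
    rcases eq_or_neg hF (hdiag 2) (hdiag 1) with h' | h'
    · exact ⟨2, 1, 0, by decide, by decide, by decide, h'⟩
    · exact ⟨2, 0, 1, by decide, by decide, by decide, h'.trans h.symm⟩
  set α := f (v' i) (v' i)
  rcases eq_or_neg hF (hdiag k) (hdiag i) with h | h
  · refine ⟨α, v', hdiag i, fun s t => ?_⟩
    split_ifs with hst
    · subst hst
      have : s = i ∨ s = j ∨ s = k := by omega
      rcases this with rfl | rfl | rfl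
      · rfl
      · exact he.symm
      · exact h
    · exact hne s t hst
  · let w : Fin 3 → (Fin 3 → F) := ![v' i + v' j, v' i - v' j, v' k]
    have hw : ∀ s t, f (w s) (w t) = if s = t then -α else 0 := by
      intro s t
      have h3 := three_eq_zero hF
      have e1 := hne i j hij
      have e2 := hne j i hij.symm
      have e3 := hne i k hik
      have e4 := hne k i hik.symm
      have e5 := hne j k hjk
      have e6 := hne k j hjk.symm
      have hα : f (v' i) (v' i) = α := rfl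
      show L (w s) (w t) = _
      fin_cases s <;> fin_cases t <;>
        simp only [w, Fin.zero_eta, Fin.mk_one, Fin.reduceFinMk, Matrix.cons_val, ↓reduceIte, Fin.reduceEq, map_add,
          map_sub, LinearMap.add_apply, LinearMap.sub_apply, L, LinearMap.mk₂_apply, e1, e2, e3, e4, e5, e6, ← he, h] <;>
        first
          | linear_combination α * h3
          | linear_combination α * h3 + hα
          | linear_combination α * h3 + (2 : F) * hα
          | linear_combination α * h3 - hα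
          | linear_combination α * h3 - (2 : F) * hα
          | linear_combination hα
          | linear_combination -hα
          | ring
    have hli : LinearIndependent F w := by
      rw [Fintype.linearIndependent_iff]
      intro c hc s
      have e : L (∑ t, c t • w t) (w s) = 0 := by rw [hc]; simp
      rw [map_sum, LinearMap.sum_apply, Finset.sum_eq_single s (fun t _ hts => ?_) (by simp)] at e
      · rw [map_smul, LinearMap.smul_apply, smul_eq_mul, show L (w s) (w s) = -α by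
          show f _ _ = _; rw [hw, if_pos rfl]] at e
        exact (mul_eq_zero.mp e).resolve_right (neg_ne_zero.mpr (hdiag i))
      · rw [map_smul, LinearMap.smul_apply, show L (w t) (w s) = 0 by show f _ _ = _; rw [hw, if_neg hts], smul_zero]
    refine ⟨-α, basisOfLinearIndependentOfCardEqFinrank hli (by simp), neg_ne_zero.mpr (hdiag i), ?_⟩
    intro s t
    rw [coe_basisOfLinearIndependentOfCardEqFinrank]
    exact hw s t


/-- Let F be the field with 3 elements, n = 3 n₂ ≥ 13 even, Q a non-degenerate quadratic form on F^n of minus type and Ω the commutator subgroup of its isometry group. Suppose that, through P and e, the polar form of Q is similar to the tensor product of non-degenerate symmetric bilinear forms f₁ on F^3 and f₂ on F^(n₂), n₂ even and at least 4, of minus type. Then the elements of Ω in the stabiliser of this tensor decomposition form a subgroup that is not maximal: some subgroup lies strictly between it and Ω. -/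
theorem result {F : Type*} [Field F] [Fintype F] {n : ℕ} (hn : 13 ≤ n) (heven : Even n) (Q : (Fin n → F) → F) (hQ : Cfsg.Geo.IsNondegenerateQuadraticForm Q) (hminus : ¬ Cfsg.Geo.IsPlusTypeOn Q ⊤) (hq : Fintype.card F = 3) (n₂ : ℕ) (h2 : 4 ≤ n₂) (h2e : Even n₂) (e : (Fin n) ≃ Fin 3 × Fin n₂) (P : Matrix.GeneralLinearGroup (Fin n) F) (f₁ : (Fin 3 → F) → (Fin 3 → F) → F) (f₂ : (Fin n₂ → F) → (Fin n₂ → F) → F) (hf₁ : Cfsg.Geo.IsSymmetricForm f₁) (hf₂ : Cfsg.Geo.IsSymmetricForm f₂) (hf₂m : ¬ Cfsg.Geo.IsPlusTypeOn (fun v : Fin n₂ → F => f₂ v v) ⊤) (hT : Cfsg.Geo.IsTensorFormStructure id (QuadraticMap.polar Q) f₁ f₂ e P) : ∃ K : Subgroup (Matrix.GeneralLinearGroup (Fin n) F), Cfsg.Geo.tensorProductSubgroup 3 n₂ e P ⊓ Cfsg.Geo.omegaGL Q < K ∧ K < Cfsg.Geo.omegaGL Q := by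
  classical
  obtain ⟨q, rfl, hnd⟩ := exists_quad hQ
  obtain ⟨c, hc, hT⟩ := hT
  have h2F := two_ne hq
  obtain ⟨a, b, ha, hb⟩ := exists_frame hq hf₁
  let φ : GL (Fin 3 × Fin n₂) F ≃* GL (Fin n) F := (Cfsg.Geo.glReindex e.symm).trans (MulAut.conj P)
  have hTeq : Cfsg.Geo.tensorProductSubgroup 3 n₂ e P =
      (Cfsg.Geo.kroneckerSubgroup 3 n₂ F).map φ.toMonoidHom := by
    rw [Cfsg.Geo.tensorProductSubgroup, Subgroup.map_map]
    rfl
  let Ψ : (Fin 3 × Fin n₂ → F) →ₗ[F] (Fin n → F) :=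
    (Matrix.mulVecLin (P : Matrix (Fin n) (Fin n) F)).comp (LinearMap.funLeft F F e)
  have hφ : ∀ (g : GL (Fin 3 × Fin n₂) F) x, (φ g : Matrix (Fin n) (Fin n) F) *ᵥ Ψ x =
      Ψ ((g : Matrix (Fin 3 × Fin n₂) (Fin 3 × Fin n₂) F) *ᵥ x) := by
    intro g x
    show ((P : Matrix (Fin n) (Fin n) F) * _ * ((P⁻¹ : GL (Fin n) F) : Matrix (Fin n) (Fin n) F)) *ᵥ
      ((P : Matrix (Fin n) (Fin n) F) *ᵥ _) = (P : Matrix (Fin n) (Fin n) F) *ᵥ _
    rw [Matrix.mulVec_mulVec, mul_assoc, Units.inv_mul, mul_one, ← Matrix.mulVec_mulVec]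
    congr 1
    show ((Matrix.reindex e.symm e.symm) (g : Matrix (Fin 3 × Fin n₂) (Fin 3 × Fin n₂) F)) *ᵥ _ = _
    rw [Matrix.reindex_apply, Equiv.symm_symm, Matrix.submatrix_mulVec_equiv]
    funext i
    show ((g : Matrix (Fin 3 × Fin n₂) (Fin 3 × Fin n₂) F) *ᵥ ((x ∘ e) ∘ e.symm)) (e i) = _
    rw [show (x ∘ e) ∘ e.symm = x from funext fun p => by simp]
    rfl
  let TT : (Fin 3 → F) → (Fin n₂ → F) → Fin n → F := fun y v => Ψ (tp y v)
  have hadd : ∀ y u v, TT y (u + v) = TT y u + TT y v := fun y u v => by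
    show Ψ _ = Ψ _ + Ψ _
    rw [← map_add]
    exact congrArg Ψ (funext fun p => by simp only [tp, Pi.add_apply]; ring)
  have hsmul : ∀ y (s : F) v, TT y (s • v) = s • TT y v := fun y s v => by
    show Ψ _ = s • Ψ _
    rw [← map_smul]
    exact congrArg Ψ (funext fun p => by simp only [tp, Pi.smul_apply, smul_eq_mul]; ring)
  have hsmul' : ∀ y (s : F) v, TT (s • y) v = s • TT y v := fun y s v => by
    show Ψ _ = s • Ψ _
    rw [← map_smul]
    exact congrArg Ψ (funext fun p => by simp only [tp, Pi.smul_apply, smul_eq_mul]; ring)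
  let T : Fin 3 → ((Fin n₂ → F) →ₗ[F] (Fin n → F)) := fun j =>
    { toFun := TT (b j), map_add' := hadd _, map_smul' := hsmul _ }
  let D : Fin 3 → Submodule F (Fin n → F) := fun j => LinearMap.range (T j)
  have hpol : ∀ y y' v v', polar q (TT y v) (TT y' v') = c * (f₁ y y' * f₂ v v') := fun y y' v v' =>
    (hT (tp y v) (tp y' v')).trans (by rw [gram_tp, gram_eq hf₁.bilinear, gram_eq hf₂.bilinear])
  have hTpol : ∀ i j v v', polar q (T i v) (T j v') = if i = j then c * a * f₂ v v' else 0 := fun i j v v' => by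
    show polar q (TT _ _) (TT _ _) = _
    rw [hpol, hb]
    split_ifs <;> ring
  have hTq : ∀ i v, q (T i v) = 2 * (c * a * f₂ v v) := fun i v => by
    have h := polar_self q (T i v)
    rw [hTpol, if_pos rfl, nsmul_eq_mul, Nat.cast_ofNat] at h
    linear_combination (-2 : F) * h - q (T i v) * three_eq_zero hq
  obtain ⟨v, hv⟩ : ∃ v, f₂ v v ≠ 0 := by
    by_contra! h
    obtain ⟨w, hw⟩ := (hf₂.nondegenerate (Pi.single ⟨0, by omega⟩ 1)
      (fun e0 => by simpa using congrFun e0 (⟨0, by omega⟩ : Fin n₂))).2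
    have := h ((Pi.single ⟨0, by omega⟩ 1 : Fin n₂ → F) + w)
    rw [hf₂.bilinear.add_left, hf₂.bilinear.add_right, hf₂.bilinear.add_right, h, h,
      hf₂.symm w, zero_add, add_zero, ← two_mul] at this
    exact hw ((mul_eq_zero.mp this).resolve_left h2F)
  obtain ⟨x, hxv, hxx⟩ : ∃ x, f₂ v x = 0 ∧ f₂ x x ≠ 0 := by
    by_contra! h
    have hker : ∀ u w, f₂ v u = 0 → f₂ v w = 0 → f₂ u w = 0 := fun u w hu hw => by
      have := h (u + w) (by rw [hf₂.bilinear.add_right, hu, hw, add_zero])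
      rw [hf₂.bilinear.add_left, hf₂.bilinear.add_right, hf₂.bilinear.add_right, h u hu, h w hw,
        hf₂.symm w u, zero_add, add_zero, ← two_mul] at this
      exact (mul_eq_zero.mp this).resolve_left h2F
    let Lv : (Fin n₂ → F) →ₗ[F] F := { toFun := f₂ v, map_add' := hf₂.bilinear.add_right v, map_smul' := fun s w => by simp [hf₂.bilinear.smul_right] }
    obtain ⟨u, hu, hu0⟩ := Submodule.exists_mem_ne_zero_of_ne_bot (p := LinearMap.ker Lv) (fun e0 => by
      have := Lv.finrank_range_add_finrank_ker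
      have h4 := Submodule.finrank_le (LinearMap.range Lv)
      rw [e0, finrank_bot, Module.finrank_fin_fun] at this
      rw [Module.finrank_self] at h4
      omega)
    obtain ⟨w, hw⟩ := (hf₂.nondegenerate u hu0).2
    apply hw
    have hu' : f₂ v u = 0 := hu
    have := hker u (w + (-(f₂ v w) / f₂ v v) • v) hu' (by
      rw [hf₂.bilinear.add_right, hf₂.bilinear.smul_right, div_mul_cancel₀ _ hv, add_neg_cancel])
    rwa [hf₂.bilinear.add_right, hf₂.bilinear.smul_right, hf₂.symm u v, hu', mul_zero, add_zero] at this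
  have hκ : c * a ≠ 0 := mul_ne_zero hc ha
  have hDdisj : ∀ i j, i ≠ j → ∀ z, z ∈ D i → z ∈ D j → ∀ w, polar q z (T i w) = 0 := by
    rintro i j hij z - ⟨u, rfl⟩ w
    rw [hTpol, if_neg (Ne.symm hij)]
  refine ⟨Cfsg.Geo.decompositionStabilizer D ⊓ Cfsg.Geo.omegaGL ⇑q, lt_of_le_not_ge ?_ ?_,
    lt_of_le_of_ne inf_le_right ?_⟩
  · rintro g ⟨hg, hgΩ⟩
    refine ⟨?_, hgΩ⟩
    obtain ⟨k, -, hk⟩ := exists_of_mem_omegaGL hgΩ
    rw [hTeq] at hg
    obtain ⟨g₀, ⟨g1, g2, he⟩, rfl⟩ := hg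
    simp only [MulEquiv.coe_toMonoidHom] at hk ⊢
    have hact : ∀ y u, (φ g₀ : Matrix (Fin n) (Fin n) F) *ᵥ TT y u =
        TT ((g1 : Matrix (Fin 3) (Fin 3) F) *ᵥ y) ((g2 : Matrix (Fin n₂) (Fin n₂) F) *ᵥ u) := fun y u => by
      show _ *ᵥ Ψ _ = Ψ _
      rw [hφ, he, kron_tp]
    have hiso : ∀ y y' u u', f₁ ((g1 : Matrix (Fin 3) (Fin 3) F) *ᵥ y) ((g1 : Matrix (Fin 3) (Fin 3) F) *ᵥ y') *
        f₂ ((g2 : Matrix (Fin n₂) (Fin n₂) F) *ᵥ u) ((g2 : Matrix (Fin n₂) (Fin n₂) F) *ᵥ u') = f₁ y y' * f₂ u u' := by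
      intro y y' u u'
      have h := polar_orth (Q := q) k (TT y u) (TT y' u')
      rw [← toGL_mulVec, ← toGL_mulVec, hk, hact, hact, hpol, hpol] at h
      exact mul_left_cancel₀ hc h
    set s := f₂ ((g2 : Matrix (Fin n₂) (Fin n₂) F) *ᵥ v) ((g2 : Matrix (Fin n₂) (Fin n₂) F) *ᵥ v)
    have hs : s ≠ 0 := fun e0 => by
      have := hiso (b 0) (b 0) v v
      rw [hb, if_pos rfl, show f₂ _ _ = s from rfl, e0, mul_zero] at this
      exact mul_ne_zero ha hv this.symm
    have hκ1 : f₂ v v / s = 1 := ratio_one hq hf₁ _ (Matrix.GeneralLinearGroup.det_ne_zero g1)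
      (fun y y' => by rw [div_mul_eq_mul_div, eq_div_iff hs, hiso y y' v v, mul_comm])
    have hiso1 : ∀ y y', f₁ ((g1 : Matrix (Fin 3) (Fin 3) F) *ᵥ y) ((g1 : Matrix (Fin 3) (Fin 3) F) *ᵥ y') = f₁ y y' :=
      fun y y' => by
        have := hiso y y' v v
        rw [show f₂ _ _ = s from rfl, (div_eq_one_iff_eq hs).1 hκ1] at this
        exact mul_right_cancel₀ hs this
    -- images of the frame
    have hform : ∀ y y', f₁ y y' = a * (b.repr y 0 * b.repr y' 0 + b.repr y 1 * b.repr y' 1 + b.repr y 2 * b.repr y' 2) := by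
      intro y y'
      let L : LinearMap.BilinForm F (Fin 3 → F) := LinearMap.mk₂ F f₁ hf₁.bilinear.add_left
        (fun r a b => by rw [hf₁.bilinear.smul_left, smul_eq_mul]) hf₁.bilinear.add_right
        (fun r a b => by rw [hf₁.bilinear.smul_right, smul_eq_mul])
      show L y y' = _
      conv_lhs => rw [← b.sum_repr y, ← b.sum_repr y']
      simp only [map_sum, LinearMap.sum_apply, map_smul, LinearMap.smul_apply, Fin.sum_univ_three, smul_eq_mul,
        map_add, LinearMap.add_apply]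
      simp only [L, LinearMap.mk₂_apply, hb, Fin.reduceEq, ↓reduceIte]
      ring
    have hsupp : ∀ j, ∃ i, b.repr ((g1 : Matrix (Fin 3) (Fin 3) F) *ᵥ b j) i ≠ 0 ∧
        (g1 : Matrix (Fin 3) (Fin 3) F) *ᵥ b j = b.repr ((g1 : Matrix (Fin 3) (Fin 3) F) *ᵥ b j) i • b i := by
      intro j
      set y := (g1 : Matrix (Fin 3) (Fin 3) F) *ᵥ b j
      have h := hiso1 (b j) (b j)
      rw [hb, if_pos rfl, hform] at h
      obtain ⟨i, hi, hi'⟩ := one_coord hq (fun i => b.repr y i) (mul_left_cancel₀ ha (by rw [mul_one]; exact h))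
      refine ⟨i, hi, ?_⟩
      conv_lhs => rw [← b.sum_repr y]
      exact Finset.sum_eq_single i (fun t _ ht => by rw [hi' t ht, zero_smul]) (by simp)
    choose σ hσ0 hσ using hsupp
    have hinj : Function.Injective σ := by
      intro j j' hjj
      by_contra hne
      have h := hiso1 (b j) (b j')
      rw [hb, if_neg hne, hσ j, hσ j', hjj, hf₁.bilinear.smul_left, hf₁.bilinear.smul_right, hb, if_pos rfl] at h
      exact mul_ne_zero (hσ0 j) (mul_ne_zero (hσ0 j') ha) (hjj ▸ h)
    refine ⟨Equiv.ofBijective σ ((Fintype.bijective_iff_injective_and_card σ).mpr ⟨hinj, rfl⟩), fun j => ?_⟩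
    show _ = D (σ j)
    apply le_antisymm
    · rintro _ ⟨_, ⟨u, rfl⟩, rfl⟩
      rw [Matrix.toLin'_apply]
      show _ *ᵥ TT (b j) u ∈ _
      rw [hact, hσ j, hsmul', ← hsmul]
      exact ⟨_, rfl⟩
    · rintro _ ⟨u, rfl⟩
      refine ⟨T j ((b.repr ((g1 : Matrix (Fin 3) (Fin 3) F) *ᵥ b j) (σ j))⁻¹ •
        ((g2⁻¹ : GL (Fin n₂) F) : Matrix (Fin n₂) (Fin n₂) F) *ᵥ u), ⟨_, rfl⟩, ?_⟩
      rw [Matrix.toLin'_apply]
      show _ *ᵥ TT (b j) _ = TT (b (σ j)) u
      rw [hact, Matrix.mulVec_smul, Matrix.mulVec_mulVec, ← Units.val_mul, mul_inv_cancel, Units.val_one,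
        Matrix.one_mulVec, hsmul]
      have hr := hσ j
      have hr0 := hσ0 j
      generalize b.repr ((g1 : Matrix (Fin 3) (Fin 3) F) *ᵥ b j) (σ j) = r at hr hr0 ⊢
      rw [hr, hsmul', inv_smul_smul₀ hr0]
  · intro hle
    have hne : ∀ i, q (T i v) ≠ 0 := fun i => by rw [hTq]; exact mul_ne_zero h2F (mul_ne_zero hκ hv)
    set g := refl q (T 0 v) (hne 0) * refl q (T 1 v) (hne 1)
    have hg0 : ∀ u, f₂ v u = 0 → g.1 (T 0 u) = T 0 u := fun u hu => by
      rw [orth_mul_apply, refl_apply q (T 1 v), hTpol 1 0, if_neg (by decide), mul_zero, zero_smul, sub_zero,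
        refl_apply, hTpol 0 0, if_pos rfl, hu, mul_zero, mul_zero, zero_smul, sub_zero]
    have hg2 : ∀ u, g.1 (T 2 u) = T 2 u := fun u => by
      rw [orth_mul_apply, refl_apply q (T 1 v), hTpol 1 2, if_neg (by decide), mul_zero, zero_smul, sub_zero,
        refl_apply, hTpol 0 2, if_neg (by decide), mul_zero, zero_smul, sub_zero]
    have hg0v : g.1 (T 0 v) = -T 0 v := by
      rw [orth_mul_apply, refl_apply q (T 1 v), hTpol 1 0, if_neg (by decide), mul_zero, zero_smul, sub_zero,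
        refl_apply, polar_self, nsmul_eq_mul, ← mul_assoc, mul_comm _ ((2 : ℕ) : F), mul_assoc,
        inv_mul_cancel₀ (hne 0), mul_one, Nat.cast_ofNat, two_smul]
      abel
    have hgK : toGL q g ∈ Cfsg.Geo.decompositionStabilizer D ⊓ Cfsg.Geo.omegaGL ⇑q := by
      refine ⟨⟨1, fun i => ?_⟩, toGL_mem (OrthUnitaryCentre.refl_mul_mem_commutator hnd (hne 0) (hne 1)
        (by rw [hTq, hTq]))⟩
      have hinto : ∀ j (z : Fin n → F), z ∈ D i → (refl q (T j v) (hne j)).1 z ∈ D i := by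
        rintro j _ ⟨u, rfl⟩
        rw [refl_apply, hTpol]
        split_ifs with hji
        · subst hji
          exact (D j).sub_mem ⟨u, rfl⟩ ((D j).smul_mem _ ⟨v, rfl⟩)
        · rw [mul_zero, zero_smul, sub_zero]
          exact ⟨u, rfl⟩
      apply le_antisymm
      · rintro _ ⟨z, hz, rfl⟩
        rw [Matrix.toLin'_apply, toGL_mulVec, orth_mul_apply]
        exact hinto 0 _ (hinto 1 z hz)
      · intro z hz
        refine ⟨(refl q (T 1 v) (hne 1)).1 ((refl q (T 0 v) (hne 0)).1 z), hinto 1 _ (hinto 0 z hz), ?_⟩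
        rw [Matrix.toLin'_apply, toGL_mulVec, orth_mul_apply, ← orth_mul_apply (refl q (T 1 v) (hne 1)), refl_sq]
        show (refl q (T 0 v) (hne 0)).1 ((refl q (T 0 v) (hne 0)).1 z) = z
        rw [← orth_mul_apply, refl_sq]
        rfl
    have hgT := (hle hgK).1
    rw [hTeq] at hgT
    obtain ⟨g₀, ⟨g1, g2, he⟩, hgg⟩ := hgT
    simp only [MulEquiv.coe_toMonoidHom] at hgg
    have hact : ∀ y u, g.1 (TT y u) =
        TT ((g1 : Matrix (Fin 3) (Fin 3) F) *ᵥ y) ((g2 : Matrix (Fin n₂) (Fin n₂) F) *ᵥ u) := fun y u => by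
      rw [← toGL_mulVec, ← hgg]
      show _ *ᵥ Ψ _ = Ψ _
      rw [hφ, he, kron_tp]
    obtain ⟨z, hz⟩ := (hf₁.nondegenerate ((g1 : Matrix (Fin 3) (Fin 3) F) *ᵥ b 2) (fun e0 => by
      have := congrArg (fun w => ((g1⁻¹ : GL (Fin 3) F) : Matrix (Fin 3) (Fin 3) F) *ᵥ w) e0
      simp only [Matrix.mulVec_mulVec, ← Units.val_mul, inv_mul_cancel, Units.val_one, Matrix.one_mulVec,
        Matrix.mulVec_zero] at this
      exact b.ne_zero 2 this)).2
    set k := f₁ (b 2) z / f₁ ((g1 : Matrix (Fin 3) (Fin 3) F) *ᵥ b 2) z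
    have hg2eq : ∀ u w, f₂ ((g2 : Matrix (Fin n₂) (Fin n₂) F) *ᵥ u) w = k * f₂ u w := by
      intro u w
      have h : polar q (g.1 (T 2 u)) (TT z w) = polar q (T 2 u) (TT z w) := by rw [hg2]
      change polar q (g.1 (TT (b 2) u)) (TT z w) = polar q (TT (b 2) u) (TT z w) at h
      rw [hact, hpol, hpol] at h
      have := mul_left_cancel₀ hc h
      rw [div_mul_eq_mul_div, eq_div_iff hz]
      linear_combination this
    have e1 : polar q (g.1 (T 0 v)) (T 0 v) = -(c * a * f₂ v v) := by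
      rw [hg0v, polar_neg_left, hTpol, if_pos rfl]
    have e2 : polar q (g.1 (T 0 x)) (T 0 x) = c * a * f₂ x x := by rw [hg0 x hxv, hTpol, if_pos rfl]
    change polar q (g.1 (TT (b 0) v)) (TT (b 0) v) = _ at e1
    change polar q (g.1 (TT (b 0) x)) (TT (b 0) x) = _ at e2
    rw [hact, hpol, hg2eq] at e1 e2
    set u := f₁ ((g1 : Matrix (Fin 3) (Fin 3) F) *ᵥ b 0) (b 0)
    have h1 : u * k = -a := mul_right_cancel₀ (mul_ne_zero hc hv) (by linear_combination e1)
    have h2' : u * k = a := mul_right_cancel₀ (mul_ne_zero hc hxx) (by linear_combination e2)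
    exact mul_ne_zero h2F ha (by linear_combination h1 - h2')
  · intro heq
    have h3 := three_eq_zero hq
    set U := T 0 v + T 1 v + T 2 v with hU
    have hqU : q U = 0 := by
      rw [hU, QuadraticMap.map_add (⇑q), QuadraticMap.map_add (⇑q), polar_add_left, hTpol, hTpol, hTpol,
        if_neg (by decide), if_neg (by decide), if_neg (by decide), hTq, hTq, hTq]
      linear_combination (2 * (c * a * f₂ v v)) * h3
    have hUx : polar q U (T 0 x) = 0 := by
      rw [hU, polar_add_left, polar_add_left, hTpol, hTpol, hTpol, if_pos rfl, if_neg (by decide),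
        if_neg (by decide), hxv]
      ring
    have hd : 5 ≤ finrank F (Fin n → F) := by simp; omega
    set g := siegel q U (T 0 x) hqU hUx
    have hgΩ : toGL q g ∈ Cfsg.Geo.omegaGL ⇑q := toGL_mem
      (OrthUnitarySimple.sGroup_le_commutator hnd hd (OrthUnitarySimple.siegel_mem hnd hd hqU hUx))
    rw [← heq] at hgΩ
    obtain ⟨σ, hσ⟩ := hgΩ.1
    have hmem : g.1 (T 0 v) ∈ D (σ 0) := by
      rw [← hσ 0]
      exact ⟨T 0 v, ⟨v, rfl⟩, by rw [Matrix.toLin'_apply, toGL_mulVec]⟩
    have hπ : polar q U (T 0 v) = c * a * f₂ v v := by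
      rw [hU, polar_add_left, polar_add_left, hTpol, hTpol, hTpol, if_pos rfl, if_neg (by decide), if_neg (by decide)]
      ring
    have hex : ∀ i, i ≠ 0 → polar q (g.1 (T 0 v)) (T i v) = -(2 * (c * a * f₂ x x) * (c * a * f₂ v v)) * (c * a * f₂ v v) := by
      intro i hi
      rw [siegel_apply, hπ, hTq, hTpol 0 0, if_pos rfl, hf₂.symm x v, hxv, mul_zero, zero_add, polar_sub_left,
        polar_add_left, polar_smul_left, polar_smul_left, hTpol 0 i, if_neg (Ne.symm hi), hTpol 0 i, if_neg (Ne.symm hi),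
        hU, polar_add_left, polar_add_left, hTpol, hTpol, hTpol]
      fin_cases i
      · exact absurd rfl hi
      · simp
      · simp
    have hne0 : ∀ i, i ≠ 0 → σ 0 = i := by
      intro i hi
      by_contra hcon
      obtain ⟨u, hu⟩ := hmem
      have h0 := hex i hi
      rw [← hu, hTpol, if_neg hcon] at h0
      exact mul_ne_zero (neg_ne_zero.mpr (mul_ne_zero (mul_ne_zero h2F (mul_ne_zero hκ hxx)) (mul_ne_zero hκ hv)))
        (mul_ne_zero hκ hv) h0.symm
    exact absurd ((hne0 1 (by decide)).symm.trans (hne0 2 (by decide))) (by decide)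

end Cfsg.Agent.S5710
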