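import Cfsg.Statements.S5712
import Cfsg.Agent.Lib.SpTwoRadGlue
import Cfsg.Agent.Lib.SymplecticBasic
import Cfsg.Agent.S0247

set_option autoImplicit false
set_option linter.unusedSimpArgs false
open Cfsg

namespace Cfsg.Agent.S5712

open Cfsg.Agent.SpTwoRad
open scoped MatrixGroups Matrix

/-- A subgroup of index six of the symmetric group of degree six. -/
theorem equiv_five {H : Subgroup (Equiv.Perm (Fin 6))} (h : Nat.card H = 120) :
    Nonempty (H ≃* Equiv.Perm (Fin 5)) := by
  classical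
  have hidx : H.index = 6 := by
    have := Subgroup.card_mul_index H
    rw [h, Nat.card_perm, Nat.card_fin, show Nat.factorial 6 = 720 from rfl] at this
    omega
  let G := Equiv.Perm (Fin 6)
  let φ : G →* Equiv.Perm (G ⧸ H) := MulAction.toPermHom G (G ⧸ H)
  have hker : φ.ker = ⊥ := by
    have hle : φ.ker ≤ H := by
      intro g hg
      have := Equiv.ext_iff.1 (MonoidHom.mem_ker.1 hg) ((1 : G) : G ⧸ H)
      simp only [φ, MulAction.toPermHom_apply, MulAction.toPerm_apply, Equiv.Perm.coe_one, id_eq,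
        MulAction.Quotient.smul_coe, smul_eq_mul, mul_one] at this
      have h2 : g⁻¹ * 1 ∈ H := QuotientGroup.eq.1 this
      rw [mul_one] at h2
      exact inv_mem_iff.1 h2
    rcases Subgroup.bot_or_nontrivial φ.ker with h' | h'
    · exact h'
    · exfalso
      replace h' := Equiv.Perm.alternatingGroup_le_of_normal (by simp) h'
      have hc := Subgroup.card_le_of_le (h'.trans hle)
      rw [h, nat_card_alternatingGroup, Nat.card_fin] at hc
      norm_num [Nat.factorial] at hc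
  have hinj : Function.Injective φ := (MonoidHom.ker_eq_bot_iff φ).1 hker
  have hq : Nat.card (G ⧸ H) = 6 := hidx
  have hbij : Function.Bijective φ := by
    refine (Nat.bijective_iff_injective_and_card _).2 ⟨hinj, ?_⟩
    rw [Nat.card_perm, Nat.card_perm, hq, Nat.card_fin]
  set x₀ : G ⧸ H := ((1 : G) : G ⧸ H)
  have hfix : ∀ g : G, g ∈ H ↔ φ g x₀ = x₀ := by
    intro g
    simp only [φ, x₀, MulAction.toPermHom_apply, MulAction.toPerm_apply, MulAction.Quotient.smul_coe, smul_eq_mul,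
      mul_one]
    rw [QuotientGroup.eq]
    simp only [inv_one, one_mul, mul_one]
    exact inv_mem_iff.symm
  haveI : Fintype (G ⧸ H) := Fintype.ofFinite _
  have h5 : Fintype.card {y : G ⧸ H // y ≠ x₀} = 5 := by
    rw [Fintype.card_subtype_compl, Fintype.card_subtype_eq, ← Nat.card_eq_fintype_card, hq]
  let θ : H →* Equiv.Perm {y : G ⧸ H // y ≠ x₀} :=
    { toFun := fun g => (φ g).subtypePerm fun y => not_congr (by
        conv_lhs => rw [← (hfix g).1 g.2]
        exact (φ g).injective.eq_iff)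
      map_one' := Equiv.ext fun y => Subtype.ext (by simp)
      map_mul' := fun g g' => Equiv.ext fun y => Subtype.ext (by simp; rfl) }
  have hθ : Function.Injective θ := by
    intro g g' hgg
    apply Subtype.ext
    apply hinj
    ext y
    by_cases hy : y = x₀
    · rw [hy, (hfix g).1 g.2, (hfix g').1 g'.2]
    · exact congrArg Subtype.val (Equiv.ext_iff.1 hgg ⟨y, hy⟩)
  have hθb : Function.Bijective θ := by
    refine (Nat.bijective_iff_injective_and_card _).2 ⟨hθ, ?_⟩
    rw [h, Nat.card_perm, Nat.card_eq_fintype_card, h5]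
    rfl
  exact ⟨(MulEquiv.ofBijective θ hθb).trans
    (Equiv.permCongrHom ((Fintype.equivFinOfCardEq h5)))⟩

/-- Let F be a finite field of characteristic two, n ≥ 2, V = F^{2n} with the non-degenerate alternating form f(u, v) = Σ (u_i v_{n+i} + u_{n+i} v_i), and G the group of invertible matrices preserving f. Let a ≠ 0 be a vector, H its stabilizer in G, and X a subgroup of O₂(H) of order |F|^{2n−2} no element of which is a transvection (no element g has g − 1 of rank one). If L is a subgroup of G containing X that acts irreducibly on V (no proper non-zero L-invariant subspace), then L = G, or, for some quadratic form Q on V whose polar form is f, L is the isometry group of Q or its subgroup of the isometries g for which g − 1 has even rank, or |F| = 2, n = 2 and L is isomorphic to the alternating group of degree 6 or to the symmetric group of degree 5. -/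
theorem result {F : Type*} [Field F] [Fintype F] [CharP F 2] {n : ℕ} (hn : 2 ≤ n) (a : (Fin n ⊕ Fin n → F)) (ha : a ≠ 0)
    (X : Subgroup (GL (Fin n ⊕ Fin n) F)) (hXG : X ≤ Cfsg.preserving (Units.coeHom (Matrix (Fin n ⊕ Fin n) (Fin n ⊕ Fin n) F)) (fun u v : (Fin n ⊕ Fin n → F) => ∑ i : Fin n, (u (Sum.inl i) * v (Sum.inr i) + u (Sum.inr i) * v (Sum.inl i))))
    (hXO : ∀ H : Subgroup (GL (Fin n ⊕ Fin n) F),
      (∀ g : GL (Fin n ⊕ Fin n) F, g ∈ H ↔ (g ∈ Cfsg.preserving (Units.coeHom (Matrix (Fin n ⊕ Fin n) (Fin n ⊕ Fin n) F)) (fun u v : (Fin n ⊕ Fin n → F) => ∑ i : Fin n, (u (Sum.inl i) * v (Sum.inr i) + u (Sum.inr i) * v (Sum.inl i))) ∧ Matrix.mulVec (g : Matrix (Fin n ⊕ Fin n) (Fin n ⊕ Fin n) F) a = a)) →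
      X ≤ (Cfsg.pCore 2 ↥H).map H.subtype)
    (hcard : Nat.card ↥X = Fintype.card F ^ (2 * n - 2))
    (hntv : ∀ x ∈ X, ((x : Matrix (Fin n ⊕ Fin n) (Fin n ⊕ Fin n) F) - 1).rank ≠ 1)
    (L : Subgroup (GL (Fin n ⊕ Fin n) F)) (hXL : X ≤ L) (hLG : L ≤ Cfsg.preserving (Units.coeHom (Matrix (Fin n ⊕ Fin n) (Fin n ⊕ Fin n) F)) (fun u v : (Fin n ⊕ Fin n → F) => ∑ i : Fin n, (u (Sum.inl i) * v (Sum.inr i) + u (Sum.inr i) * v (Sum.inl i))))
    (hirr : ∀ W : Submodule F (Fin n ⊕ Fin n → F), (∀ g ∈ L, ∀ w ∈ W, Matrix.mulVec (g : Matrix (Fin n ⊕ Fin n) (Fin n ⊕ Fin n) F) w ∈ W) → W = ⊥ ∨ W = ⊤) :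
    L = Cfsg.preserving (Units.coeHom (Matrix (Fin n ⊕ Fin n) (Fin n ⊕ Fin n) F)) (fun u v : (Fin n ⊕ Fin n → F) => ∑ i : Fin n, (u (Sum.inl i) * v (Sum.inr i) + u (Sum.inr i) * v (Sum.inl i))) ∨
    (∃ Q : QuadraticForm F (Fin n ⊕ Fin n → F), (∀ u v, QuadraticMap.polar ⇑Q u v = (fun u v : (Fin n ⊕ Fin n → F) => ∑ i : Fin n, (u (Sum.inl i) * v (Sum.inr i) + u (Sum.inr i) * v (Sum.inl i))) u v) ∧
      (L = Cfsg.isometryGroup F ⇑Q ∨
        ∀ g : GL (Fin n ⊕ Fin n) F, g ∈ L ↔ (g ∈ Cfsg.isometryGroup F ⇑Q ∧ Even ((g : Matrix (Fin n ⊕ Fin n) (Fin n ⊕ Fin n) F) - 1).rank))) ∨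
    (Fintype.card F = 2 ∧ n = 2 ∧ (Nonempty (↥L ≃* ↥(alternatingGroup (Fin 6))) ∨ Nonempty (↥L ≃* Equiv.Perm (Fin 5)))) := by
  classical
  have hfeq : (fun u v : (Fin n ⊕ Fin n → F) => ∑ i : Fin n, (u (Sum.inl i) * v (Sum.inr i) +
      u (Sum.inr i) * v (Sum.inl i))) = Cfsg.sympForm n F := by
    funext u v
    simp only [Cfsg.sympForm, Matrix.J, Matrix.fromBlocks_mulVec, dotProduct, Fintype.sum_sum_type, Sum.elim_inl,
      Sum.elim_inr, Matrix.zero_mulVec, Matrix.one_mulVec, Matrix.neg_mulVec, zero_add, add_zero, Function.comp_apply,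
      Pi.neg_apply, CharTwo.neg_eq, ← Finset.sum_add_distrib]
  simp only [hfeq] at hXG hXO hLG
  rw [hfeq]
  have hf := TransvectionMax.sympForm_isSymplecticForm (F := F) n
  set f := Cfsg.sympForm n F with hfd
  have hdim : 4 ≤ Fintype.card (Fin n ⊕ Fin n) := by simp; omega
  have hmem : ∀ g : GL (Fin n ⊕ Fin n) F,
      g ∈ Cfsg.preserving (Units.coeHom (Matrix (Fin n ⊕ Fin n) (Fin n ⊕ Fin n) F)) f ↔
        ∀ x y, f (ac g x) (ac g y) = f x y := fun g => Iff.rfl
  let H : Subgroup (GL (Fin n ⊕ Fin n) F) :=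
    { carrier := {g | (∀ x y, f (ac g x) (ac g y) = f x y) ∧ ac g a = a}
      one_mem' := ⟨fun x y => by simp [ac], by simp [ac]⟩
      mul_mem' := by
        intro g g' hg hg'
        exact ⟨fun x y => by rw [ac_mul hf, ac_mul hf, hg.1, hg'.1], by rw [ac_mul hf, hg'.2, hg.2]⟩
      inv_mem' := by
        intro g hg
        refine ⟨fun x y => ?_, ?_⟩
        · conv_rhs => rw [← TransvectionMax.act_inv_act g x, ← TransvectionMax.act_inv_act g y]
          exact (hg.1 _ _).symm
        · conv_lhs => rw [← hg.2]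
          exact TransvectionMax.inv_act_act g a }
  have hXc := hXO H fun g => Iff.rfl
  have hXH : X ≤ H := hXc.trans (Subgroup.map_subtype_le _)
  have hcls : ∀ g ∈ X, ∀ u, f u a = 0 → ∃ c : F, ac g u = u + c • a := fun g hg =>
    core_cls hf hdim ha H (fun g => Iff.rfl) (hXc hg)
  have hC : Ctx f L a :=
    { sf := hf
      ne := ha
      iso := fun g hg => (hmem g).1 (hLG hg)
      irr := hirr
      graph := graph_of_core hf hdim ha X L hXL (fun g hg => (hXH hg).1) (fun g hg => (hXH hg).2) hcls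
        (by rw [hcard, Fintype.card_sum, Fintype.card_fin, two_mul]) hntv }
  rcases hC.main hdim with h | ⟨Q, hpol, h⟩ | ⟨hq, h4, hL⟩
  · exact Or.inl (le_antisymm hLG fun g hg => h g ((hmem g).1 hg))
  · exact Or.inr (Or.inl ⟨Q, hpol, h⟩)
  right; right
  have hn2 : n = 2 := by simp at h4; omega
  subst hn2
  refine ⟨hq, rfl, ?_⟩
  obtain ⟨e⟩ := Cfsg.Agent.S0247.result (F := F) hq
  let ψ₀ : L →* Matrix.symplecticGroup (Fin 2) F :=
    { toFun := fun g => ⟨((g : GL (Fin 2 ⊕ Fin 2) F) : Matrix _ _ F),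
        Cfsg.Agent.SymplecticBasic.mem_sp_iff_form.2 ((hmem g).1 (hLG g.2))⟩
      map_one' := Subtype.ext rfl
      map_mul' := fun g g' => Subtype.ext rfl }
  have hψ₀ : Function.Injective ψ₀ := fun g g' h =>
    Subtype.ext (Units.ext (congrArg Subtype.val h))
  let ψ := e.toMonoidHom.comp ψ₀
  have hψ : Function.Injective ψ := e.injective.comp hψ₀
  let eL : L ≃* ψ.range := MonoidHom.ofInjective hψ
  rcases hL with hL | hL
  · right
    obtain ⟨e5⟩ := equiv_five (H := ψ.range) (by rw [← Nat.card_congr eL.toEquiv, hL])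
    exact ⟨eL.trans e5⟩
  · left
    have hidx : ψ.range.index = 2 := by
      have := Subgroup.card_mul_index ψ.range
      rw [← Nat.card_congr eL.toEquiv, hL, Nat.card_perm, Nat.card_fin, show Nat.factorial 6 = 720 from rfl] at this
      omega
    exact ⟨eL.trans (MulEquiv.subgroupCongr (Equiv.Perm.eq_alternatingGroup_of_index_eq_two hidx))⟩

end Cfsg.Agent.S5712
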