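import Cfsg.Statements.S5713
import Mathlib
import Cfsg.Agent.Lib.DerangementMoments


set_option autoImplicit false
open Cfsg

namespace Cfsg.Agent.S5713

open Cfsg.Agent.DerangementMoments
open scoped Pointwise

section
variable {G Ω : Type*} [Group G] [MulAction G Ω]

/-- The colour (orbital) of an ordered pair. -/
def col (G : Type*) {Ω : Type*} [Group G] [MulAction G Ω] (x y : Ω) :
    Quotient (MulAction.orbitRel G (Ω × Ω)) := Quotient.mk _ (x, y)

lemma col_smul (g : G) (x y : Ω) : col G (g • x) (g • y) = col G x y :=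
  Quotient.sound ⟨g, rfl⟩

lemma col_eq {x y z w : Ω} (h : col G x y = col G z w) : ∃ g : G, g • z = x ∧ g • w = y := by
  obtain ⟨g, hg⟩ := Quotient.exact h
  exact ⟨g, congrArg Prod.fst hg, congrArg Prod.snd hg⟩

/-- Invariance of a binary relation. -/
def Inv' (G : Type*) {Ω : Type*} [Group G] [MulAction G Ω] (R : Ω → Ω → Prop) : Prop :=
  ∀ (g : G) x y, R (g • x) (g • y) ↔ R x y

variable [Fintype Ω] [MulAction.IsPretransitive G Ω]

open scoped Classical in
lemma out_eq {R : Ω → Ω → Prop} (hR : Inv' G R) (a a' : Ω) :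
    (Finset.univ.filter (fun z => R a z)).card = (Finset.univ.filter (fun z => R a' z)).card := by
  obtain ⟨g, rfl⟩ := MulAction.exists_smul_eq G a a'
  refine Finset.card_equiv (MulAction.toPerm g) fun z => ?_
  simp [hR g a z]

open scoped Classical in
lemma in_eq_out {R : Ω → Ω → Prop} (hR : Inv' G R) (a : Ω) (z : Ω) :
    (Finset.univ.filter (fun c => R c z)).card = (Finset.univ.filter (fun w => R a w)).card := by
  have hR' : Inv' G (fun x y => R y x) := fun g x y => hR g y x
  have h1 : ∑ x : Ω, (Finset.univ.filter (fun w => R x w)).card = Fintype.card Ω * (Finset.univ.filter (fun w => R a w)).card := by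
    rw [Finset.sum_congr rfl (fun x _ => out_eq hR x a), Finset.sum_const, Finset.card_univ, smul_eq_mul]
  have h2 : ∑ y : Ω, (Finset.univ.filter (fun c => R c y)).card = Fintype.card Ω * (Finset.univ.filter (fun c => R c z)).card := by
    rw [Finset.sum_congr rfl (fun y _ => out_eq hR' y z), Finset.sum_const, Finset.card_univ, smul_eq_mul]
  have h3 : ∑ x : Ω, (Finset.univ.filter (fun w => R x w)).card = ∑ y : Ω, (Finset.univ.filter (fun c => R c y)).card := by
    simp only [Finset.card_filter]
    exact Finset.sum_comm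
  rw [h1, h2] at h3
  exact (Nat.eq_of_mul_eq_mul_left (Fintype.card_pos_iff.mpr ⟨a⟩) h3).symm

open scoped Classical in
/-- Number of points distinguishing `x` and `y`. -/
noncomputable def dst (G : Type*) {Ω : Type*} [Group G] [MulAction G Ω] [Fintype Ω] (x y : Ω) : ℕ :=
  (Finset.univ.filter (fun c => col G x c ≠ col G y c)).card

omit [MulAction.IsPretransitive G Ω] in
lemma dst_comm (x y : Ω) : dst G x y = dst G y x := by
  unfold dst; congr 1; ext c; simp [ne_comm]

omit [MulAction.IsPretransitive G Ω] in
lemma dst_self (x : Ω) : dst G x x = 0 := by simp [dst]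

omit [MulAction.IsPretransitive G Ω] in
lemma dst_triangle (x y z : Ω) : dst G x z ≤ dst G x y + dst G y z := by
  classical
  refine le_trans (Finset.card_le_card ?_) (Finset.card_union_le _ _)
  intro c hc
  simp only [Finset.mem_filter, Finset.mem_univ, true_and, Finset.mem_union] at hc ⊢
  by_contra h
  push_neg at h
  exact hc (h.1.trans h.2)

omit [MulAction.IsPretransitive G Ω] in
lemma dst_smul (g : G) (x y : Ω) : dst G (g • x) (g • y) = dst G x y := by
  classical
  unfold dst
  refine (Finset.card_equiv (MulAction.toPerm g) fun c => ?_).symm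
  simp [col_smul]

omit [Fintype Ω] [MulAction.IsPretransitive G Ω] in
lemma adj_smul {Γ : SimpleGraph Ω} (hΓ : Inv' G Γ.Adj) (g : G) {x y : Ω} (p : Γ.Walk x y) :
    ∃ q : Γ.Walk (g • x) (g • y), q.length = p.length := by
  induction p with
  | nil => exact ⟨.nil, rfl⟩
  | cons h p ih =>
    obtain ⟨q, hq⟩ := ih
    exact ⟨.cons ((hΓ g _ _).mpr h) q, by simp [hq]⟩

omit [Fintype Ω] in
lemma graph_connected [MulAction.IsPreprimitive G Ω] [Nonempty Ω] {Γ : SimpleGraph Ω} (hΓ : Inv' G Γ.Adj)
    {u w : Ω} (huw : Γ.Adj u w) : Γ.Connected := by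
  refine ⟨fun x y => ?_⟩
  have hblock : ∀ a : Ω, MulAction.IsBlock G {z | Γ.Reachable a z} := by
    intro a
    have hmem : ∀ (g : G) z, z ∈ g • {z | Γ.Reachable a z} ↔ Γ.Reachable (g • a) z := by
      intro g z
      rw [Set.mem_smul_set_iff_inv_smul_mem]
      constructor
      · rintro ⟨p⟩
        obtain ⟨q, -⟩ := adj_smul hΓ g p
        rw [smul_inv_smul] at q
        exact ⟨q⟩
      · rintro ⟨p⟩
        obtain ⟨q, -⟩ := adj_smul hΓ g⁻¹ p
        rw [inv_smul_smul] at q
        exact ⟨q⟩
    rw [MulAction.isBlock_iff_smul_eq_smul_of_nonempty]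
    rintro g₁ g₂ ⟨z, h1, h2⟩
    ext z'
    rw [hmem, hmem]
    rw [hmem] at h1 h2
    exact ⟨fun h => (h2.trans h1.symm).trans h, fun h => (h1.trans h2.symm).trans h⟩
  rcases MulAction.IsPreprimitive.isTrivialBlock_of_isBlock (hblock u) with hs | hu
  · exact absurd (hs (SimpleGraph.Reachable.refl u) huw.reachable) huw.ne
  · have hx : x ∈ {z | Γ.Reachable u z} := hu ▸ Set.mem_univ x
    have hy : y ∈ {z | Γ.Reachable u z} := hu ▸ Set.mem_univ y
    exact (SimpleGraph.Reachable.symm hx).trans hy

omit [Fintype Ω] [MulAction.IsPretransitive G Ω] in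
lemma dist_smul {Γ : SimpleGraph Ω} (hc : Γ.Connected) (hΓ : Inv' G Γ.Adj) (g : G) (x y : Ω) :
    Γ.dist (g • x) (g • y) = Γ.dist x y := by
  apply le_antisymm
  · obtain ⟨p, hp⟩ := hc.exists_walk_length_eq_dist x y
    obtain ⟨q, hq⟩ := adj_smul hΓ g p
    exact hp ▸ hq ▸ Γ.dist_le q
  · obtain ⟨p, hp⟩ := hc.exists_walk_length_eq_dist (g • x) (g • y)
    obtain ⟨q, hq⟩ := adj_smul hΓ g⁻¹ p
    have h1 := Γ.dist_le q
    rw [hq, hp] at h1
    simpa only [inv_smul_smul] using h1

omit [Fintype Ω] [MulAction.IsPretransitive G Ω] in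
lemma dist_of_col {Γ : SimpleGraph Ω} (hc : Γ.Connected) (hΓ : Inv' G Γ.Adj) {x y z w : Ω}
    (h : col G x y = col G z w) : Γ.dist x y = Γ.dist z w := by
  obtain ⟨g, rfl, rfl⟩ := col_eq h
  exact dist_smul hc hΓ g z w

omit [MulAction.IsPretransitive G Ω] in
lemma dst_le_walk {Γ : SimpleGraph Ω} {D : ℕ} (hD : ∀ x y, Γ.Adj x y → dst G x y ≤ D) {x y : Ω}
    (p : Γ.Walk x y) : dst G x y ≤ p.length * D := by
  induction p with
  | nil => simp [dst_self]
  | @cons u v w h p ih =>
    refine (dst_triangle u v w).trans ?_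
    have := hD u v h
    rw [SimpleGraph.Walk.length_cons, add_mul, one_mul]
    omega

open scoped Classical in
/-- Neighbours of a vertex. -/
noncomputable def nbr (Γ : SimpleGraph Ω) (x : Ω) : Finset Ω := Finset.univ.filter (fun z => Γ.Adj x z)

open scoped Classical in
/-- The edge-crossing inequality. -/
lemma two_mul_le {Γ : SimpleGraph Ω} (hc : Γ.Connected) (hΓ : Inv' G Γ.Adj) {D : ℕ}
    (hD : ∀ x y, Γ.Adj x y → dst G x y ≤ D) (a : Ω) : 2 * (Fintype.card Ω - 1) ≤ (nbr Γ a).card * D := by
  set n := Fintype.card Ω with hndef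
  let up : Ω → Ω → ℕ := fun x c => ((nbr Γ x).filter (fun b => Γ.dist c b = Γ.dist c x + 1)).card
  let dn : Ω → Ω → ℕ := fun x c => ((nbr Γ x).filter (fun b => Γ.dist c x = Γ.dist c b + 1)).card
  have hud : ∀ x c, up x c + dn x c ≤ ((nbr Γ x).filter (fun b => col G x c ≠ col G b c)).card := by
    intro x c
    rw [← Finset.card_union_of_disjoint]
    · refine Finset.card_le_card ?_
      intro b hb
      simp only [Finset.mem_union, Finset.mem_filter] at hb ⊢
      refine ⟨hb.elim And.left And.left, fun he => ?_⟩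
      have hd := dist_of_col hc hΓ he
      rw [SimpleGraph.dist_comm, SimpleGraph.dist_comm (u := b)] at hd
      rcases hb with h | h <;> omega
    · refine Finset.disjoint_filter.mpr fun b _ h1 h2 => ?_
      omega
  have hsum : ∑ c : Ω, (up a c + dn a c) ≤ (nbr Γ a).card * D := by
    refine (Finset.sum_le_sum fun c _ => hud a c).trans ?_
    simp only [Finset.card_filter]
    rw [Finset.sum_comm, ← smul_eq_mul]
    refine Finset.sum_le_card_nsmul _ _ _ fun b hb => ?_
    rw [← Finset.card_filter]
    exact hD a b (Finset.mem_filter.mp hb).2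
  have hdn : n - 1 ≤ ∑ c : Ω, dn a c := by
    rw [← Finset.add_sum_erase _ _ (Finset.mem_univ a)]
    refine le_trans ?_ (Nat.le_add_left _ _)
    refine le_trans (le_of_eq ?_) (Finset.card_nsmul_le_sum _ _ 1 fun c hcm => ?_)
    · simp [n, Finset.card_erase_of_mem, Finset.card_univ]
    obtain ⟨p, hp⟩ := hc.exists_walk_length_eq_dist a c
    cases p with
    | nil => exact absurd rfl (Finset.mem_erase.mp hcm).1
    | @cons _ b _ h q =>
      refine Finset.card_pos.mpr ⟨b, Finset.mem_filter.mpr ⟨Finset.mem_filter.mpr ⟨Finset.mem_univ _, h⟩, ?_⟩⟩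
      have h1 : Γ.dist b c ≤ q.length := Γ.dist_le q
      have h2 : Γ.dist a c ≤ Γ.dist a b + Γ.dist b c := hc.dist_triangle
      rw [SimpleGraph.dist_eq_one_iff_adj.mpr h] at h2
      rw [SimpleGraph.Walk.length_cons] at hp
      rw [SimpleGraph.dist_comm, SimpleGraph.dist_comm (u := c)]
      omega
  have hconst : ∀ (f : Ω → Ω → ℕ), (∀ (g : G) x c, f (g • x) (g • c) = f x c) → ∀ x, ∑ c : Ω, f x c = ∑ c : Ω, f a c := by
    intro f hf x
    obtain ⟨g, rfl⟩ := MulAction.exists_smul_eq G a x
    exact (Fintype.sum_equiv (MulAction.toPerm g) _ _ (fun c => (hf g a c).symm)).symm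
  have hinvu : ∀ (g : G) x c, up (g • x) (g • c) = up x c := by
    intro g x c
    refine (Finset.card_equiv (MulAction.toPerm g) fun b => ?_).symm
    simp [nbr, hΓ g x b, dist_smul hc hΓ]
  have hinvd : ∀ (g : G) x c, dn (g • x) (g • c) = dn x c := by
    intro g x c
    refine (Finset.card_equiv (MulAction.toPerm g) fun b => ?_).symm
    simp [nbr, hΓ g x b, dist_smul hc hΓ]
  have hrev : ∀ c, ∑ x : Ω, up x c = ∑ x : Ω, dn x c := by
    intro c
    simp only [up, dn, nbr, Finset.card_filter, Finset.sum_filter]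
    rw [Finset.sum_comm]
    refine Finset.sum_congr rfl fun x _ => Finset.sum_congr rfl fun b _ => ?_
    simp only [SimpleGraph.adj_comm]
  have heq : n * ∑ c : Ω, up a c = n * ∑ c : Ω, dn a c := by
    have h1 : ∀ f : Ω → Ω → ℕ, (∀ x, ∑ c : Ω, f x c = ∑ c : Ω, f a c) → n * ∑ c : Ω, f a c = ∑ c : Ω, ∑ x : Ω, f x c := by
      intro f hf
      rw [Finset.sum_comm, Finset.sum_congr rfl (fun x _ => hf x), Finset.sum_const, Finset.card_univ, smul_eq_mul]
    rw [h1 up (hconst up hinvu), h1 dn (hconst dn hinvd)]
    exact Finset.sum_congr rfl fun c _ => hrev c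
  have heq' : ∑ c : Ω, up a c = ∑ c : Ω, dn a c := Nat.eq_of_mul_eq_mul_left (Fintype.card_pos_iff.mpr ⟨a⟩) heq
  rw [Finset.sum_add_distrib, heq'] at hsum
  omega

open scoped Classical in
/-- Closed neighbourhoods of every third vertex of a geodesic are disjoint. -/
lemma nbhd_packing {Γ : SimpleGraph Ω} (hc : Γ.Connected) (hΓ : Inv' G Γ.Adj) (a c : Ω) (q : ℕ)
    (hq : ∀ i < q, 3 * i ≤ Γ.dist a c) (S : Finset Ω)
    (hS : ∀ i < q, ∀ z, Γ.dist a z ≤ 3 * i + 1 → z ∈ S) :
    q * ((nbr Γ a).card + 1) ≤ S.card := by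
  obtain ⟨p, hp⟩ := hc.exists_walk_length_eq_dist a c
  have hpos : ∀ i, i ≤ Γ.dist a c → Γ.dist a (p.getVert i) = i := by
    intro i hi
    have h1 : Γ.dist a (p.getVert i) ≤ i := (Γ.dist_le (p.take i)).trans (by simp)
    have h2 : Γ.dist (p.getVert i) c ≤ p.length - i := (Γ.dist_le (p.drop i)).trans (by simp)
    have h3 : Γ.dist a c ≤ Γ.dist a (p.getVert i) + Γ.dist (p.getVert i) c := hc.dist_triangle
    omega
  let B : Fin q → Finset Ω := fun i => insert (p.getVert (3 * i.1)) (nbr Γ (p.getVert (3 * i.1)))
  have hB : ∀ i, ∀ z ∈ B i, Γ.dist a z ≤ 3 * i.1 + 1 ∧ 3 * i.1 ≤ Γ.dist a z + 1 := by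
    intro i z hz
    have hxi := hpos (3 * i.1) (hq i.1 i.2)
    rcases Finset.mem_insert.mp hz with rfl | hz
    · omega
    · have hadj : Γ.Adj (p.getVert (3 * i.1)) z := (Finset.mem_filter.mp hz).2
      have h1 : Γ.dist a z ≤ Γ.dist a (p.getVert (3 * i.1)) + Γ.dist (p.getVert (3 * i.1)) z := hc.dist_triangle
      have h2 : Γ.dist a (p.getVert (3 * i.1)) ≤ Γ.dist a z + Γ.dist z (p.getVert (3 * i.1)) := hc.dist_triangle
      rw [SimpleGraph.dist_eq_one_iff_adj.mpr hadj] at h1
      rw [SimpleGraph.dist_eq_one_iff_adj.mpr hadj.symm] at h2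
      omega
  have hdisj : ∀ i ∈ (Finset.univ : Finset (Fin q)), ∀ l ∈ (Finset.univ : Finset (Fin q)), i ≠ l → Disjoint (B i) (B l) := by
    intro i _ l _ hil
    rw [Finset.disjoint_left]
    intro z h1 h2
    have := hB i z h1
    have := hB l z h2
    exact hil (Fin.ext (by omega))
  have hcard : ∀ i, (B i).card = (nbr Γ a).card + 1 := by
    intro i
    rw [Finset.card_insert_of_notMem (by simp [nbr])]
    congr 1
    exact out_eq hΓ _ a
  have hsub : Finset.univ.biUnion B ⊆ S := by
    intro z hz
    obtain ⟨i, -, hi⟩ := Finset.mem_biUnion.mp hz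
    exact hS i.1 i.2 z (hB i z hi).1
  have := Finset.card_le_card hsub
  rwa [Finset.card_biUnion hdisj, Finset.sum_congr rfl (fun i _ => hcard i), Finset.sum_const, Finset.card_univ,
    Fintype.card_fin, smul_eq_mul] at this

/-- Undirected graph of an invariant relation. -/
def relGraph (R : Ω → Ω → Prop) : SimpleGraph Ω := SimpleGraph.fromRel R

omit [Fintype Ω] [MulAction.IsPretransitive G Ω] in
lemma relGraph_inv {R : Ω → Ω → Prop} (hR : Inv' G R) : Inv' G (relGraph R).Adj := by
  intro g x y
  simp [relGraph, hR g x y, hR g y x, smul_left_cancel_iff]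

omit [MulAction.IsPretransitive G Ω] in
lemma dst_edge {j : Quotient (MulAction.orbitRel G (Ω × Ω))} {a b : Ω} (hab : col G a b = j) :
    ∀ x y, (relGraph (fun x y => col G x y = j)).Adj x y → dst G x y ≤ dst G a b := by
  intro x y h
  have hxy : ∀ u w : Ω, col G u w = j → dst G u w = dst G a b := fun u w e => by
    obtain ⟨g, rfl, rfl⟩ := col_eq (e.trans hab.symm)
    exact dst_smul g a b
  rcases h.2 with e | e
  · exact (hxy x y e).le
  · exact ((dst_comm x y).trans (hxy y x e)).le

open scoped Classical in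
/-- Uniprimitive case. -/
lemma uniprimitive [MulAction.IsPreprimitive G Ω] (hn : 26 ≤ Fintype.card Ω) (hr : 3 ≤ numOrbits G (Ω × Ω))
    {a b : Ω} (hab : a ≠ b) : Fintype.card Ω ≤ 4 * dst G a b ^ 2 := by
  set n := Fintype.card Ω with hndef
  haveI : Nonempty Ω := ⟨a⟩
  set j := col G a b with hj
  set Γ := relGraph (fun x y : Ω => col G x y = j) with hΓdef
  have hinvj : Inv' G (fun x y : Ω => col G x y = j) := fun g x y => by simp only [col_smul]
  have hΓ : Inv' G Γ.Adj := relGraph_inv hinvj
  have hadj : Γ.Adj a b := ⟨hab, Or.inl rfl⟩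
  have hc : Γ.Connected := graph_connected hΓ hadj
  have hD := dst_edge (G := G) (a := a) (b := b) hj.symm
  set D := dst G a b with hDdef
  set v := (nbr Γ a).card with hv
  have hvD : 2 * (n - 1) ≤ v * D := two_mul_le hc hΓ hD a
  let N : Ω → ℕ := fun z => (Finset.univ.filter (fun w => col G a w = col G a z)).card
  have hwalk : ∀ c, dst G a c ≤ Γ.dist a c * D := by
    intro c
    obtain ⟨p, hp⟩ := hc.exists_walk_length_eq_dist a c
    exact hp ▸ dst_le_walk hD p
  by_cases hbig : ∀ z, 3 * N z ≤ 2 * n
  · -- no dominant colour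
    have hsumN : 9 * ∑ z : Ω, N z ≤ 5 * n * n := by
      by_cases hhalf : ∀ z, 2 * N z ≤ n
      · have := Finset.sum_le_card_nsmul Finset.univ (fun z => 2 * N z) n (fun z _ => hhalf z)
        rw [← Finset.mul_sum, Finset.card_univ, smul_eq_mul] at this
        nlinarith
      · push_neg at hhalf
        obtain ⟨z₀, hz₀⟩ := hhalf
        set Z := Finset.univ.filter (fun w => col G a w = col G a z₀) with hZ
        have hZ1 : ∀ z ∈ Z, N z = Z.card := by
          intro z hz
          have : col G a z = col G a z₀ := (Finset.mem_filter.mp hz).2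
          simp only [N, this, hZ]
        have hZ2 : ∀ z ∈ Zᶜ, N z ≤ (Zᶜ).card := by
          intro z hz
          refine Finset.card_le_card fun w hw => ?_
          have hw' := (Finset.mem_filter.mp hw).2
          rw [Finset.mem_compl, hZ, Finset.mem_filter] at hz ⊢
          exact fun e => hz ⟨Finset.mem_univ _, hw'.symm.trans e.2⟩
        have hsplit := Finset.sum_add_sum_compl Z N
        have hcard : Z.card + (Zᶜ).card = n := by rw [Finset.card_compl]; have := Finset.card_le_univ Z; omega
        rw [← hsplit, Finset.sum_congr rfl hZ1, Finset.sum_const, smul_eq_mul]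
        have h2 := Finset.sum_le_card_nsmul _ N _ hZ2
        rw [smul_eq_mul] at h2
        have hM : 3 * Z.card ≤ 2 * n := hbig z₀
        have hM2 : n < 2 * Z.card := hz₀
        set K := (Zᶜ).card
        have hprod : 0 ≤ ((2 * (n : ℤ)) - 3 * Z.card) * (3 * (Z.card : ℤ) - n) := by
          apply mul_nonneg <;> omega
        have hkey : 9 * (Z.card * Z.card + K * K) ≤ 5 * n * n := by
          have hK : (K : ℤ) = (n : ℤ) - Z.card := by omega
          zify
          rw [hK]
          nlinarith
        linarith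
    have hsumD : ∑ c : Ω, dst G a c + ∑ z : Ω, N z = n * n := by
      have h1 : ∑ c : Ω, dst G a c = ∑ z : Ω, (Finset.univ.filter (fun c => col G a z ≠ col G c z)).card := by
        simp only [dst, Finset.card_filter]
        exact Finset.sum_comm
      rw [h1, ← Finset.sum_add_distrib]
      have h2 : ∀ z : Ω, (Finset.univ.filter (fun c => col G a z ≠ col G c z)).card + N z = n := by
        intro z
        have hN : N z = (Finset.univ.filter (fun c => col G c z = col G a z)).card := by
          have h := (in_eq_out (G := G) (R := fun x y => col G x y = col G a z) (fun g x y => by simp only [col_smul]) a z).symm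
          convert h using 3
        rw [hN, show (Finset.univ.filter (fun c => col G a z ≠ col G c z)) = Finset.univ.filter (fun c => ¬ col G c z = col G a z) by
          ext c; simp [eq_comm], add_comm, Finset.card_filter_add_card_filter_not, Finset.card_univ]
      rw [Finset.sum_congr rfl (fun z _ => h2 z), Finset.sum_const, Finset.card_univ, smul_eq_mul]
    obtain ⟨c, -, hcD⟩ := Finset.exists_le_of_sum_le (Finset.univ_nonempty (α := Ω))
      (f := fun _ => 4 * n) (g := fun c => 9 * dst G a c) (by
        rw [Finset.sum_const, ← Finset.mul_sum, Finset.card_univ, smul_eq_mul]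
        linarith)
    set d := Γ.dist a c
    have hpack : (d / 3 + 1) * (v + 1) ≤ n := by
      have := nbhd_packing hc hΓ a c (d / 3 + 1) (fun i hi => by omega) Finset.univ (fun i _ z _ => Finset.mem_univ z)
      rwa [Finset.card_univ] at this
    have h1 : 9 * dst G a c ≤ 27 * (d / 3 + 1) * D := by
      have := hwalk c
      calc 9 * dst G a c ≤ 9 * (d * D) := Nat.mul_le_mul_left 9 this
        _ ≤ 9 * ((3 * (d / 3 + 1)) * D) := Nat.mul_le_mul_left 9 (Nat.mul_le_mul_right D (by omega))
        _ = 27 * (d / 3 + 1) * D := by ring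
    have h2 : 4 * (v + 1) ≤ 27 * D := by
      refine Nat.le_of_mul_le_mul_left ?_ (Nat.succ_pos (d / 3))
      calc (d / 3 + 1) * (4 * (v + 1)) = 4 * ((d / 3 + 1) * (v + 1)) := by ring
        _ ≤ 4 * n := Nat.mul_le_mul_left 4 hpack
        _ ≤ 9 * dst G a c := hcD
        _ ≤ 27 * (d / 3 + 1) * D := h1
        _ = (d / 3 + 1) * (27 * D) := by ring
    have h3 : 8 * (n - 1) ≤ 27 * (D * D) := by
      calc 8 * (n - 1) = 4 * (2 * (n - 1)) := by ring
        _ ≤ 4 * (v * D) := Nat.mul_le_mul_left 4 hvD
        _ ≤ (4 * (v + 1)) * D := by nlinarith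
        _ ≤ 27 * D * D := Nat.mul_le_mul_right D h2
        _ = 27 * (D * D) := by ring
    rw [pow_two]; omega
  · -- a dominant colour
    push_neg at hbig
    obtain ⟨z₀, hz₀⟩ := hbig
    set k := col G a z₀ with hk
    have hinvk : Inv' G (fun x y : Ω => col G x y = k) := fun g x y => by simp only [col_smul]
    set M := Finset.univ.filter (fun w => col G a w = k) with hM
    let Y : Ω → Finset Ω := fun x => Finset.univ.filter (fun w => ¬ col G x w = k)
    set t := (Y a).card with ht
    have hMt : M.card + t = n := by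
      rw [hM, ht]; exact (Finset.card_filter_add_card_filter_not _).trans Finset.card_univ
    have hMbig : 2 * n < 3 * M.card := hz₀
    have hz0a : z₀ ≠ a := by
      intro e
      have hsub : M ⊆ {a} := by
        intro w hw
        obtain ⟨g, hg1, hg2⟩ := col_eq (Finset.mem_filter.mp hw).2
        rw [e, hg1] at hg2
        exact Finset.mem_singleton.mpr hg2.symm
      have := Finset.card_le_card hsub
      rw [Finset.card_singleton] at this
      omega
    have hsymm : ∀ x y, col G x y = k → col G y x = k := by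
      have hin : (Finset.univ.filter (fun w => col G w a = k)).card = M.card := by
        have h := in_eq_out hinvk a a
        rw [hM]; convert h using 3
      obtain ⟨z, hz⟩ : ∃ z, col G a z = k ∧ col G z a = k := by
        by_contra hcon
        push_neg at hcon
        have hd : Disjoint M (Finset.univ.filter (fun w => col G w a = k)) :=
          Finset.disjoint_filter.mpr fun w _ h1 h2 => hcon w h1 h2
        have := Finset.card_le_univ (M ∪ Finset.univ.filter (fun w => col G w a = k))
        rw [Finset.card_union_of_disjoint hd, hin] at this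
        omega
      intro x y hxy
      obtain ⟨g, rfl, rfl⟩ := col_eq (hxy.trans hz.1.symm)
      rw [col_smul]; exact hz.2
    -- the pairs of colour `k` are distinguished by at least `t` points
    have hYcard : ∀ x, (Y x).card = t := fun x => by
      have h := out_eq (G := G) (R := fun x y => ¬ col G x y = k) (fun g x y => by simp only [col_smul]) x a
      rw [ht]; convert h using 3
    obtain ⟨b₀, hb₀, hDb⟩ : ∃ b₀ ∈ M, t ≤ dst G a b₀ := by
      have hsum : ∑ b' ∈ M, (Y a ∩ Y b').card ≤ t * t := by
        calc ∑ b' ∈ M, (Y a ∩ Y b').card = ∑ z ∈ Y a, (M.filter (fun b' => z ∈ Y b')).card := by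
              simp only [← Finset.filter_mem_eq_inter, Finset.card_filter]
              exact Finset.sum_comm
          _ ≤ ∑ z ∈ Y a, t := Finset.sum_le_sum fun z _ => by
              refine le_trans (Finset.card_le_card (t := Finset.univ.filter (fun c => ¬ col G c z = k)) ?_) ?_
              · intro b' hb'
                simp only [Finset.mem_filter, Y] at hb' ⊢
                exact ⟨Finset.mem_univ _, hb'.2.2⟩
              · have h := (in_eq_out (G := G) (R := fun x y => ¬ col G x y = k) (fun g x y => by simp only [col_smul]) a z).le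
                rw [ht]; convert h using 3
          _ = t * t := by rw [Finset.sum_const, smul_eq_mul]
      obtain ⟨b', hb', hle⟩ := Finset.exists_le_of_sum_le (s := M) (Finset.card_pos.mp (by omega))
        (f := fun b' => 2 * (Y a ∩ Y b').card) (g := fun _ => t) (by
          rw [← Finset.mul_sum, Finset.sum_const, smul_eq_mul]
          refine (Nat.mul_le_mul_left 2 hsum).trans ?_
          rw [← mul_assoc]
          exact Nat.mul_le_mul_right t (by omega))
      refine ⟨b', hb', ?_⟩
      have h1 : (Y a \ Y b') ∪ (Y b' \ Y a) ⊆ Finset.univ.filter (fun c => col G a c ≠ col G b' c) := by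
        intro c hcm
        simp only [Finset.mem_union, Finset.mem_sdiff, Finset.mem_filter, Finset.mem_univ, true_and, Y,
          not_not] at hcm ⊢
        rcases hcm with ⟨h1, h2⟩ | ⟨h1, h2⟩
        · exact fun e => h1 (e.trans h2)
        · exact fun e => h1 (e.symm.trans h2)
      have h2 := Finset.card_le_card h1
      rw [Finset.card_union_of_disjoint disjoint_sdiff_sdiff, Finset.card_sdiff, Finset.card_sdiff,
        Finset.inter_comm (Y b') (Y a), hYcard a, hYcard b'] at h2
      have h2' : t - (Y a ∩ Y b').card + (t - (Y a ∩ Y b').card) ≤ dst G a b' := h2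
      omega
    have hb₀k : col G a b₀ = k := (Finset.mem_filter.mp hb₀).2
    by_cases hjk : j = k
    · -- the given pair has the dominant colour
      have hDt : t ≤ D := by
        obtain ⟨g, hg1, hg2⟩ := col_eq (hj.symm.trans (hjk.trans hb₀k.symm) : col G a b = col G a b₀)
        have : dst G a b = dst G a b₀ := by rw [← dst_smul g a b₀, hg1, hg2]
        omega
      set Δ := relGraph (fun x y : Ω => ¬ col G x y = k) with hΔdef
      have hΔ : Inv' G Δ.Adj := relGraph_inv (fun g x y => by simp only [col_smul])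
      have hadjΔ : ∀ x y, Δ.Adj x y ↔ x ≠ y ∧ ¬ col G x y = k := by
        intro x y
        simp only [hΔdef, relGraph, SimpleGraph.fromRel_adj]
        refine ⟨fun ⟨h, h'⟩ => ⟨h, h'.elim id (fun h'' e => h'' (hsymm x y e))⟩, fun ⟨h, h'⟩ => ⟨h, Or.inl h'⟩⟩
      obtain ⟨e, hea, hek⟩ : ∃ e, e ≠ a ∧ col G a e ≠ k := by
        by_contra hcon
        push_neg at hcon
        have hle : numOrbits G (Ω × Ω) ≤ 2 := by
          let F : Fin 2 → Quotient (MulAction.orbitRel G (Ω × Ω)) := ![col G a a, k]
          have hF : Function.Surjective F := by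
            intro q
            induction q using Quotient.inductionOn with | _ p => ?_
            obtain ⟨g, hg⟩ := MulAction.exists_smul_eq G a p.1
            by_cases he : g⁻¹ • p.2 = a
            · refine ⟨0, ?_⟩
              show col G a a = col G p.1 p.2
              rw [← col_smul g a a, hg]
              conv_lhs => rw [← hg]
              rw [← inv_smul_eq_iff.mp he] at *
              rw [hg]
            · refine ⟨1, ?_⟩
              show k = col G p.1 p.2
              rw [← hcon _ he, ← col_smul g a (g⁻¹ • p.2), hg, smul_inv_smul]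
          have := Nat.card_le_card_of_surjective F hF
          rwa [Nat.card_fin] at this
        omega
      have hcΔ : Δ.Connected := graph_connected hΔ ((hadjΔ a e).mpr ⟨Ne.symm hea, hek⟩)
      have hdist : ∀ z ∈ M, Δ.dist a z = 2 := by
        obtain ⟨p, hp⟩ := hcΔ.exists_walk_length_eq_dist a z₀
        have h2 : 2 ≤ Δ.dist a z₀ :=
          hcΔ.one_lt_dist_of_ne_of_not_adj (Ne.symm hz0a) (fun h => ((hadjΔ _ _).mp h).2 rfl)
        have h2' : Δ.dist a (p.getVert 2) = 2 := by
          have h1 : Δ.dist a (p.getVert 2) ≤ 2 := (Δ.dist_le (p.take 2)).trans (by simp)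
          have h3 : Δ.dist (p.getVert 2) z₀ ≤ p.length - 2 := (Δ.dist_le (p.drop 2)).trans (by simp)
          have h4 : Δ.dist a z₀ ≤ Δ.dist a (p.getVert 2) + Δ.dist (p.getVert 2) z₀ := hcΔ.dist_triangle
          omega
        have hk2 : col G a (p.getVert 2) = k := by
          by_contra hne
          have : a ≠ p.getVert 2 := fun e => by rw [← e, SimpleGraph.dist_self] at h2'; omega
          have := SimpleGraph.dist_eq_one_iff_adj.mpr ((hadjΔ _ _).mpr ⟨this, hne⟩)
          omega
        intro z hz
        rw [dist_of_col hcΔ hΔ ((Finset.mem_filter.mp hz).2.trans hk2.symm), h2']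
      have haY : a ∈ Y a := by
        simp only [Y, Finset.mem_filter, Finset.mem_univ, true_and]
        intro e
        obtain ⟨g, hg1, hg2⟩ := col_eq (e.symm : k = col G a a)
        rw [hg1] at hg2
        exact hz0a hg2.symm
      have hs : (nbr Δ a).card ≤ t - 1 := by
        have : nbr Δ a ⊆ (Y a).erase a := by
          intro z hz
          obtain ⟨h1, h2⟩ := (hadjΔ _ _).mp (Finset.mem_filter.mp hz).2
          exact Finset.mem_erase.mpr ⟨Ne.symm h1, Finset.mem_filter.mpr ⟨Finset.mem_univ _, h2⟩⟩
        have := Finset.card_le_card this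
        rwa [Finset.card_erase_of_mem haY] at this
      have hMsub : M ⊆ (nbr Δ a).biUnion (fun w => nbr Δ w) := by
        intro z hz
        obtain ⟨p, hp⟩ := hcΔ.exists_walk_length_eq_dist a z
        rw [hdist z hz] at hp
        have h1 := p.adj_getVert_succ (i := 0) (by omega)
        have h2 := p.adj_getVert_succ (i := 1) (by omega)
        rw [SimpleGraph.Walk.getVert_zero] at h1
        rw [p.getVert_of_length_le (i := 2) (by omega)] at h2
        exact Finset.mem_biUnion.mpr ⟨p.getVert 1, Finset.mem_filter.mpr ⟨Finset.mem_univ _, h1⟩,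
          Finset.mem_filter.mpr ⟨Finset.mem_univ _, h2⟩⟩
      have hMle : M.card ≤ (t - 1) * (t - 1) := by
        refine (Finset.card_le_card hMsub).trans (Finset.card_biUnion_le.trans ?_)
        refine (Finset.sum_le_card_nsmul _ _ (nbr Δ a).card fun w _ => le_of_eq (out_eq hΔ w a)).trans ?_
        rw [smul_eq_mul]
        exact Nat.mul_le_mul hs hs
      have hn' : n ≤ t * t := by
        obtain ⟨s, hs'⟩ : ∃ s, t = s + 1 := ⟨t - 1, by have : 0 < t := Finset.card_pos.mpr ⟨a, haY⟩; omega⟩
        rw [hs', Nat.add_sub_cancel] at hMle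
        rw [hs']
        nlinarith
      have := Nat.mul_le_mul hDt hDt
      rw [pow_two]; omega
    · -- the given pair has another colour
      set L := Γ.dist a b₀ with hL
      have hb₀a : a ≠ b₀ := fun e => by
        have h1 : col G a a = k := by conv_lhs => arg 3; rw [e]
                                      exact hb₀k
        obtain ⟨g, hg1, hg2⟩ := col_eq (h1.symm : k = col G a a)
        rw [hg1] at hg2
        exact hz0a hg2.symm
      have hL2 : 2 ≤ L := by
        refine hc.one_lt_dist_of_ne_of_not_adj hb₀a fun h => ?_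
        rcases h.2 with e | e
        · exact hjk (e.symm.trans hb₀k)
        · exact hjk (e.symm.trans (hsymm _ _ hb₀k))
      set q := (L - 2) / 3 + 1
      have hpack : q * (v + 1) ≤ t := by
        refine nbhd_packing hc hΓ a b₀ q (fun i hi => by omega) (Y a) (fun i hi z hz => ?_)
        simp only [Y, Finset.mem_filter, Finset.mem_univ, true_and]
        intro e
        have := dist_of_col hc hΓ (e.trans hb₀k.symm)
        omega
      have h1 : v + 1 ≤ 4 * D := by
        refine Nat.le_of_mul_le_mul_left ?_ (Nat.succ_pos ((L - 2) / 3))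
        calc q * (v + 1) ≤ t := hpack
          _ ≤ dst G a b₀ := hDb
          _ ≤ L * D := hwalk b₀
          _ ≤ (4 * q) * D := Nat.mul_le_mul_right D (by omega)
          _ = q * (4 * D) := by ring
      have h2 : 2 * (n - 1) ≤ 4 * (D * D) := by
        calc 2 * (n - 1) ≤ v * D := hvD
          _ ≤ (4 * D) * D := Nat.mul_le_mul_right D (by omega)
          _ = 4 * (D * D) := by ring
      rw [pow_two]; omega

open scoped Classical in
/-- Doubly transitive case. -/
lemma doubly [DecidableEq Ω] [Finite G] [FaithfulSMul G Ω] [MulAction.IsPreprimitive G Ω] (h2 : numOrbits G (Ω × Ω) ≤ 2)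
    (hA : ¬ alternatingGroup Ω ≤ (MulAction.toPermHom G Ω).range) (g : G) (hg : g ≠ 1) :
    Fintype.card Ω - 1 ≤ (Fintype.card Ω - fix Ω g - 1) ^ 2 := by
  haveI := Fintype.ofFinite G
  set n := Fintype.card Ω with hndef
  set S := Finset.univ.filter (fun x : Ω => g • x ≠ x) with hS
  set m := S.card with hm
  have hmfix : n - fix Ω g = m := by
    have h3 : fix Ω g = (Sᶜ).card := by
      unfold fix; rw [Nat.card_eq_fintype_card]
      exact Fintype.card_of_finset' Sᶜ (fun x => by simp [hS])
    rw [Finset.card_compl] at h3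
    have := Finset.card_le_univ S
    omega
  rw [hmfix]
  obtain ⟨a, ha⟩ : ∃ a : Ω, g • a ≠ a := by
    by_contra hcon
    push_neg at hcon
    exact hg (eq_of_smul_eq_smul (α := Ω) fun x => by rw [hcon x, one_smul])
  have haS : a ∈ S := by simp [hS, ha]
  have h2trans : ∀ x y z w : Ω, x ≠ y → z ≠ w → ∃ k : G, k • x = z ∧ k • y = w := by
    intro x y z w hxy hzw
    by_contra hcon
    push_neg at hcon
    let F : Fin 3 → Quotient (MulAction.orbitRel G (Ω × Ω)) := ![col G x x, col G x y, col G z w]
    have e1 : col G x x ≠ col G x y := fun e => by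
      obtain ⟨k, hk1, hk2⟩ := col_eq e; exact hxy (smul_left_cancel k (hk1.trans hk2.symm))
    have e2 : col G x x ≠ col G z w := fun e => by
      obtain ⟨k, hk1, hk2⟩ := col_eq e; exact hzw (smul_left_cancel k (hk1.trans hk2.symm))
    have e3 : col G x y ≠ col G z w := fun e => by
      obtain ⟨k, hk1, hk2⟩ := col_eq e.symm; exact hcon k hk1 hk2
    have hF : Function.Injective F := by
      intro i l hil
      fin_cases i <;> fin_cases l <;> simp [F, e1, e2, e3, e1.symm, e2.symm, e3.symm] at hil ⊢
    have := Nat.card_le_card_of_injective F hF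
    rw [Nat.card_fin] at this
    unfold numOrbits at h2
    omega
  -- averaging over conjugates
  by_contra hlt
  set cnt : G → ℕ := fun k => (S.filter (fun x => k • x ∈ S)).card with hcnt
  have hcard1 : ∀ x y : Ω, n * (Finset.univ.filter (fun k : G => k • x = y)).card = Fintype.card G := by
    intro x y
    have hcon : ∀ y', (Finset.univ.filter (fun k : G => k • x = y')).card =
        (Finset.univ.filter (fun k : G => k • x = y)).card := by
      intro y'
      obtain ⟨l, hl⟩ := MulAction.exists_smul_eq G y' y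
      refine Finset.card_equiv (Equiv.mulLeft l) fun k => ?_
      simp [mul_smul, ← hl]
    have h := Finset.card_eq_sum_card_fiberwise (s := (Finset.univ : Finset G)) (t := Finset.univ) (f := fun k => k • x) (by simp)
    rw [Finset.card_univ, Finset.sum_congr rfl (fun y' _ => hcon y'), Finset.sum_const, Finset.card_univ, smul_eq_mul] at h
    exact h.symm
  have hcard2 : ∀ x y z w : Ω, x ≠ y → z ≠ w →
      n * (n - 1) * (Finset.univ.filter (fun k : G => k • x = z ∧ k • y = w)).card = Fintype.card G := by
    intro x y z w hxy hzw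
    have hcon : ∀ p ∈ (Finset.univ : Finset Ω).offDiag,
        (Finset.univ.filter (fun k : G => (k • x, k • y) = p)).card =
        (Finset.univ.filter (fun k : G => k • x = z ∧ k • y = w)).card := by
      rintro ⟨z', w'⟩ hp
      obtain ⟨l, hl1, hl2⟩ := h2trans z' w' z w (Finset.mem_offDiag.mp hp).2.2 hzw
      refine Finset.card_equiv (Equiv.mulLeft l) fun k => ?_
      simp [mul_smul, ← hl1, ← hl2]
    have h := Finset.card_eq_sum_card_fiberwise (s := (Finset.univ : Finset G)) (t := (Finset.univ : Finset Ω).offDiag)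
      (f := fun k => (k • x, k • y)) (fun k _ => by simp [hxy])
    rw [Finset.card_univ, Finset.sum_congr rfl hcon, Finset.sum_const, Finset.offDiag_card, Finset.card_univ, smul_eq_mul] at h
    rw [Nat.mul_sub_one, h]
  have hP : (S.offDiag).card = m * m - m := Finset.offDiag_card _
  have hE1 : n * ∑ k : G, cnt k = m * m * Fintype.card G := by
    have : ∑ k : G, cnt k = ∑ x ∈ S, ∑ y ∈ S, (Finset.univ.filter (fun k : G => k • x = y)).card := by
      simp only [hcnt, Finset.card_filter]
      rw [Finset.sum_comm]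
      refine Finset.sum_congr rfl fun x _ => ?_
      rw [Finset.sum_comm]
      exact Finset.sum_congr rfl fun k _ => by rw [Finset.sum_ite_eq]
    rw [this, Finset.mul_sum]
    simp only [Finset.mul_sum, hcard1, Finset.sum_const, smul_eq_mul]
    ring
  have hE2 : n * (n - 1) * ∑ k : G, (cnt k * cnt k - cnt k) = (m * m - m) * (m * m - m) * Fintype.card G := by
    have h1 : ∀ k : G, cnt k * cnt k - cnt k = (S.offDiag.filter (fun p => k • p.1 ∈ S ∧ k • p.2 ∈ S)).card := by
      intro k
      rw [hcnt, ← Finset.offDiag_card]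
      congr 1
      ext p
      simp only [Finset.mem_offDiag, Finset.mem_filter]
      tauto
    have : ∑ k : G, (cnt k * cnt k - cnt k) =
        ∑ p ∈ S.offDiag, ∑ p' ∈ S.offDiag, (Finset.univ.filter (fun k : G => k • p.1 = p'.1 ∧ k • p.2 = p'.2)).card := by
      simp only [h1, Finset.card_filter]
      rw [Finset.sum_comm]
      refine Finset.sum_congr rfl fun p hp => ?_
      rw [Finset.sum_comm]
      refine Finset.sum_congr rfl fun k _ => ?_
      have hne : k • p.1 ≠ k • p.2 := fun e => (Finset.mem_offDiag.mp hp).2.2 (smul_left_cancel k e)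
      have hconv : ∀ p' : Ω × Ω, (k • p.1 = p'.1 ∧ k • p.2 = p'.2) ↔ ((k • p.1, k • p.2) = p') := fun p' => by rw [Prod.ext_iff]
      simp only [hconv, Finset.sum_ite_eq, Finset.mem_offDiag, hne, ne_eq, not_false_eq_true, and_true]
    rw [this, Finset.mul_sum]
    simp only [Finset.mul_sum]
    rw [Finset.sum_congr rfl (fun p hp => Finset.sum_congr rfl (fun p' hp' =>
      hcard2 p.1 p.2 p'.1 p'.2 (Finset.mem_offDiag.mp hp).2.2 (Finset.mem_offDiag.mp hp').2.2))]
    simp only [Finset.sum_const, smul_eq_mul, hP]
    ring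
  have hm1 : 1 ≤ m := Finset.card_pos.mpr ⟨a, haS⟩
  have hmn : m ≤ n := Finset.card_le_univ _
  obtain ⟨k, hk⟩ : ∃ k : G, cnt k = 1 := by
    by_contra hcon
    push_neg at hcon
    have hle : ∑ k : G, cnt k ≤ ∑ k : G, (cnt k * cnt k - cnt k) := Finset.sum_le_sum fun k _ => by
      have := hcon k
      rcases Nat.lt_or_ge (cnt k) 2 with h | h
      · interval_cases (cnt k) <;> omega
      · have := Nat.mul_le_mul_right (cnt k) h; omega
    have h3 : n * (n - 1) * ∑ k : G, cnt k ≤ (m * m - m) * (m * m - m) * Fintype.card G :=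
      hE2 ▸ Nat.mul_le_mul_left _ hle
    rw [show n * (n - 1) * ∑ k : G, cnt k = (n - 1) * (n * ∑ k : G, cnt k) by ring, hE1] at h3
    have h4 : (n - 1) * (m * m) ≤ (m * m - m) * (m * m - m) := by
      refine Nat.le_of_mul_le_mul_right ?_ (Fintype.card_pos (α := G))
      rw [mul_assoc]
      exact h3
    rw [show (m * m - m) * (m * m - m) = (m - 1) ^ 2 * (m * m) by rw [← Nat.mul_sub_one]; ring] at h4
    exact hlt (Nat.le_of_mul_le_mul_right h4 (Nat.mul_pos hm1 hm1))
  -- the commutator of the two conjugates is a three-cycle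
  obtain ⟨x₀, hx₀⟩ := Finset.card_eq_one.mp hk
  set x := k • x₀ with hx
  set u : G := k * g * k⁻¹ with hu
  have hux : x ∈ S ∧ u • x ≠ x := by
    have h1 : x₀ ∈ S.filter (fun x => k • x ∈ S) := hx₀ ▸ Finset.mem_singleton_self x₀
    obtain ⟨h1, h3⟩ := Finset.mem_filter.mp h1
    refine ⟨h3, ?_⟩
    rw [hu, hx, mul_smul, mul_smul, inv_smul_smul, Ne, smul_left_cancel_iff]
    simpa [hS] using h1
  have honly : ∀ y, g • y ≠ y → u • y ≠ y → y = x := by
    intro y hy1 hy2
    have h1 : k⁻¹ • y ∈ S.filter (fun x => k • x ∈ S) := by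
      refine Finset.mem_filter.mpr ⟨?_, ?_⟩
      · simp only [hS, Finset.mem_filter, Finset.mem_univ, true_and]
        intro e
        apply hy2
        rw [hu, mul_smul, mul_smul, e, smul_inv_smul]
      · rw [smul_inv_smul]; simpa [hS] using hy1
    rw [hx₀, Finset.mem_singleton, inv_smul_eq_iff] at h1
    exact h1
  have hgx : g • x ≠ x := by simpa [hS] using hux.1
  set σ : Equiv.Perm Ω := MulAction.toPerm g with hσ
  set τ : Equiv.Perm Ω := MulAction.toPerm u with hτ
  have hsupp : (σ * τ * σ⁻¹ * τ⁻¹).support ⊆ {x, g • x, u • x} := by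
    intro y hy
    by_contra hnot
    simp only [Finset.mem_insert, Finset.mem_singleton, not_or] at hnot
    rw [Equiv.Perm.mem_support] at hy
    apply hy
    show g • (u • (g⁻¹ • (u⁻¹ • y))) = y
    by_cases hgy : g • y = y
    · by_cases huy : u • y = y
      · rw [inv_smul_eq_iff.mpr huy.symm, inv_smul_eq_iff.mpr hgy.symm, huy, hgy]
      · have hy' : g • u⁻¹ • y = u⁻¹ • y := by
          by_contra hne
          have h1 : u • u⁻¹ • y ≠ u⁻¹ • y := fun e => huy (by
            have e' := congrArg (u • ·) e
            simp only [smul_inv_smul] at e'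
            exact e')
          exact hnot.2.2 (inv_smul_eq_iff.mp (honly _ hne h1))
        rw [inv_smul_eq_iff.mpr hy'.symm, smul_inv_smul, hgy]
    · have huy : u • y = y := by
        by_contra hne
        exact hnot.1 (honly y hgy hne)
      rw [inv_smul_eq_iff.mpr huy.symm]
      have : u • g⁻¹ • y = g⁻¹ • y := by
        by_contra hne
        have h1 : g • g⁻¹ • y ≠ g⁻¹ • y := fun e => hgy (by
          have e' := congrArg (g • ·) e
          simp only [smul_inv_smul] at e'
          exact e')
        exact hnot.2.1 (inv_smul_eq_iff.mp (honly _ h1 hne))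
      rw [this, smul_inv_smul]
  have hgu : g • x ≠ u • x := fun e => by
    have h1 : g • (g • x) ≠ g • x := fun e' => hgx (smul_left_cancel g e')
    have h3 : u • (g • x) ≠ g • x := by rw [e]; exact fun e' => hux.2 (smul_left_cancel u e')
    exact hgx (honly _ h1 h3)
  have hge3 : ({x, g • x, u • x} : Finset Ω) ⊆ (σ * τ * σ⁻¹ * τ⁻¹).support := by
    have hgt : ∀ y, y = g • x → u • y = y := fun y hy => by
      by_contra hne
      have h1 : g • y ≠ y := by rw [hy]; exact fun e' => hgx (smul_left_cancel g e')
      exact hgx (hy ▸ honly y h1 hne)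
    have hgi : g⁻¹ • x ≠ x := fun e => hgx (inv_smul_eq_iff.mp e).symm
    have hui : u⁻¹ • x ≠ x := fun e => hux.2 (inv_smul_eq_iff.mp e).symm
    have hugi : u • g⁻¹ • x = g⁻¹ • x := by
      by_contra hne
      exact hgi (honly _ (by rw [smul_inv_smul]; exact Ne.symm hgi) hne)
    have hgui : g • u⁻¹ • x = u⁻¹ • x := by
      by_contra hne
      exact hui (honly _ hne (by rw [smul_inv_smul]; exact Ne.symm hui))
    have hgux : g • u • x = u • x := by
      by_contra hne
      exact hux.2 (honly _ hne (fun e' => hux.2 (smul_left_cancel u e')))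
    intro y hy
    rw [Equiv.Perm.mem_support]
    show g • (u • (g⁻¹ • (u⁻¹ • y))) ≠ y
    simp only [Finset.mem_insert, Finset.mem_singleton] at hy
    rcases hy with rfl | rfl | rfl
    · rw [inv_smul_eq_iff.mpr hgui.symm, smul_inv_smul]
      exact hgx
    · rw [inv_smul_eq_iff.mpr (hgt _ rfl).symm, inv_smul_smul, hgux]
      exact Ne.symm hgu
    · rw [inv_smul_smul, hugi, smul_inv_smul]
      exact Ne.symm hux.2
  have h3card : (σ * τ * σ⁻¹ * τ⁻¹).support.card = 3 := by
    rw [Finset.Subset.antisymm hsupp hge3]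
    simp [Ne.symm hgx, Ne.symm hux.2, hgu]
  apply hA
  refine Equiv.Perm.alternatingGroup_le_of_isPreprimitive_of_isThreeCycle_mem ?_ (card_support_eq_three_iff.mp h3card) ?_
  · exact MulAction.IsPreprimitive.of_surjective
      (φ := (MulAction.toPermHom G Ω).rangeRestrict)
      (f := ({ toFun := id, map_smul' := fun g d => rfl } : Ω →ₑ[(MulAction.toPermHom G Ω).rangeRestrict] Ω))
      Function.surjective_id
  · have hgr : σ ∈ (MulAction.toPermHom G Ω).range := ⟨g, rfl⟩
    have hur : τ ∈ (MulAction.toPermHom G Ω).range := ⟨u, rfl⟩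
    exact Subgroup.mul_mem _ (Subgroup.mul_mem _ (Subgroup.mul_mem _ hgr hur) (Subgroup.inv_mem _ hgr)) (Subgroup.inv_mem _ hur)

end


/-- A classification-free minimal-degree bound. Let G be a finite group acting faithfully and primitively on a finite set Ω with n elements, and suppose that the image of G in the symmetric group on Ω does not contain the alternating group on Ω. Then every non-identity element of G moves at least (√n − 1)/2 points of Ω, that is, it fixes at most n − (√n − 1)/2 points. -/
theorem result {G Ω : Type*} [Group G] [Finite G] [MulAction G Ω] [FaithfulSMul G Ω] [Fintype Ω] [DecidableEq Ω]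
    (hprim : MulAction.IsPreprimitive G Ω)
    (hA : ¬ alternatingGroup Ω ≤ (MulAction.toPermHom G Ω).range)
    (g : G) (hg : g ≠ 1) :
    (Real.sqrt (Fintype.card Ω) - 1) / 2 ≤ (Fintype.card Ω : ℝ) - Nat.card (MulAction.fixedBy Ω g) := by
  classical
  haveI := hprim
  set n := Fintype.card Ω with hn
  have hfix : Nat.card (MulAction.fixedBy Ω g) = fix Ω g := rfl
  obtain ⟨a, ha⟩ : ∃ a : Ω, g • a ≠ a := by
    by_contra hcon
    push_neg at hcon
    exact hg (eq_of_smul_eq_smul (α := Ω) fun x => by rw [hcon x, one_smul])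
  have hfixcard : fix Ω g = (Finset.univ.filter (fun x : Ω => g • x = x)).card := by
    unfold fix; rw [Nat.card_eq_fintype_card, ← Fintype.card_subtype]
    exact Fintype.card_congr (Equiv.refl _)
  have hmoved : (Finset.univ.filter (fun x : Ω => ¬ g • x = x)).card + fix Ω g = n := by
    rw [hfixcard, add_comm]
    exact (Finset.card_filter_add_card_filter_not _).trans Finset.card_univ
  suffices h : ∀ M : ℕ, M + fix Ω g = n → n ≤ (2 * M + 1) ^ 2 by
    have hM := h _ hmoved
    set M := (Finset.univ.filter (fun x : Ω => ¬ g • x = x)).card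
    rw [hfix]
    have hsq : Real.sqrt n ≤ 2 * (M : ℝ) + 1 := by
      rw [Real.sqrt_le_iff]
      exact ⟨by positivity, by exact_mod_cast hM⟩
    have h2 : (n : ℝ) = M + fix Ω g := by exact_mod_cast hmoved.symm
    linarith
  intro M hM
  have hM2 : 2 ≤ M := by
    have hsub : ({a, g • a} : Finset Ω) ⊆ Finset.univ.filter (fun x : Ω => ¬ g • x = x) := by
      intro x hx
      simp only [Finset.mem_insert, Finset.mem_singleton] at hx
      rcases hx with rfl | rfl
      · simp [ha]
      · simp [smul_left_cancel_iff, ha]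
    have := Finset.card_le_card hsub
    rw [Finset.card_pair (Ne.symm ha)] at this
    omega
  by_cases hn25 : n ≤ 25
  · exact hn25.trans (Nat.pow_le_pow_left (show 5 ≤ 2 * M + 1 by omega) 2)
  by_cases hr : 3 ≤ numOrbits G (Ω × Ω)
  · have h1 := uniprimitive (G := G) (a := a) (b := g • a) (by omega : 26 ≤ Fintype.card Ω) hr (Ne.symm ha)
    have h2 : dst G a (g • a) ≤ M := by
      have : (Finset.univ.filter (fun c : Ω => col G a c ≠ col G (g • a) c)) ⊆
          Finset.univ.filter (fun x : Ω => ¬ g • x = x) := by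
        intro c hc
        simp only [Finset.mem_filter, Finset.mem_univ, true_and] at hc ⊢
        intro e
        apply hc
        conv_rhs => rw [← e]
        rw [col_smul]
      have h' : dst G a (g • a) ≤ _ := Finset.card_le_card this
      omega
    calc n ≤ 4 * dst G a (g • a) ^ 2 := h1
      _ ≤ 4 * M ^ 2 := Nat.mul_le_mul_left 4 (Nat.pow_le_pow_left h2 2)
      _ ≤ (2 * M + 1) ^ 2 := by ring_nf; omega
  · have h1 := doubly (G := G) (Ω := Ω) (by omega) hA g hg
    rw [show Fintype.card Ω - fix Ω g = M by omega] at h1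
    obtain ⟨K, rfl⟩ : ∃ K, M = K + 1 := ⟨M - 1, by omega⟩
    rw [Nat.add_sub_cancel] at h1
    have : (2 * (K + 1) + 1) ^ 2 = 4 * K ^ 2 + 12 * K + 9 := by ring
    omega

end Cfsg.Agent.S5713
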