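import Cfsg.Statements.S5722
import Mathlib
import Cfsg.Agent.Lib.CompLengthPrimitive


set_option autoImplicit false
open Cfsg

namespace Cfsg.Agent.S5722

open Cfsg.Agent.CompLengthChains Cfsg.Agent.CompLengthPerm Cfsg.Agent.CompLengthPrimitive
open Cfsg.Agent.MinNormalFactors Cfsg.Agent.DerangementMoments

lemma omega_bound {m : ℕ} (hd : m ∣ 5040) (hm : m ≤ 512) : m.primeFactorsList.length ≤ 6 := by
  obtain ⟨c, hc⟩ := hd
  have hm0 : m ≠ 0 := fun h => by rw [h, zero_mul] at hc; omega
  have hc0 : c ≠ 0 := fun h => by rw [h, mul_zero] at hc; omega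
  have h8 : (5040 : ℕ).primeFactorsList.length = 8 := by norm_num [Nat.primeFactorsList]
  rw [hc, (Nat.perm_primeFactorsList_mul hm0 hc0).length_eq, List.length_append] at h8
  by_contra hcon
  have hlen : c.primeFactorsList.length ≤ 1 := by omega
  have hprod := Nat.prod_primeFactorsList hc0
  have hc9 : 9 ≤ c := by
    have h1 : m * c ≤ 512 * c := Nat.mul_le_mul_right c hm
    omega
  match hl : c.primeFactorsList with
  | [] => rw [hl] at hprod; simp at hprod; omega
  | [p] =>
    rw [hl] at hprod
    simp at hprod
    have hp : c.Prime := hprod ▸ Nat.prime_of_mem_primeFactorsList (n := c) (by rw [hl]; simp)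
    have hdvd : c ∣ 2 ^ 4 * (3 ^ 2 * (5 * 7)) := ⟨m, by norm_num; linarith⟩
    rcases hp.dvd_mul.mp hdvd with h | h
    · have := Nat.le_of_dvd (by norm_num) (hp.dvd_of_dvd_pow h); omega
    rcases hp.dvd_mul.mp h with h | h
    · have := Nat.le_of_dvd (by norm_num) (hp.dvd_of_dvd_pow h); omega
    rcases hp.dvd_mul.mp h with h | h
    · have := Nat.le_of_dvd (by norm_num) h; omega
    · have := Nat.le_of_dvd (by norm_num) h; omega
  | _ :: _ :: _ => rw [hl] at hlen; simp at hlen

section
variable {G X : Type*} [Group G] [Finite G] [MulAction G X] [Finite X] [FaithfulSMul G X]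

/-- A regular elementary abelian normal subgroup. -/
lemma affine_case {N : Subgroup G} (hN : IsMNS N) [MulAction.IsPretransitive N X] (hab : IsMulCommutative N) {n : ℕ}
    (hn : Nat.card X = n) (hn2 : 2 ≤ n) (a : X) : CL G (bd n 1) := by
  classical
  haveI := hN.normal
  haveI : MulAction.IsPretransitive G X := PermBasic.isPretransitive_of_subgroup N
  obtain ⟨p, hp, hpow⟩ := PermMinimalNormal.IsMinNormal.exists_prime_pow_eq_one
    (M := N) ⟨hN.normal, hN.ne_bot, hN.min⟩ hab
  haveI := Fact.mk hp
  have hreg : MulAction.stabilizer N a = ⊥ := PermBasic.stabilizer_eq_bot_of_abelian N hab a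
  obtain ⟨d, hd⟩ := IsPGroup.iff_card.mp (show IsPGroup p N from fun x => ⟨1, Subtype.ext (by
    rw [pow_one, Subgroup.coe_pow]; exact hpow x x.2)⟩)
  have hnd : n = p ^ d := by rw [← hn, ← hd, PermBasic.card_eq_of_regular hreg]
  have hd1 : 1 ≤ d := by
    rcases Nat.eq_zero_or_pos d with rfl | h
    · rw [pow_zero] at hnd; omega
    · exact h
  obtain ⟨f, hf⟩ := exists_gens hp hd
  have hGa : Nat.card (MulAction.stabilizer G a) ≤ n ^ d := by
    let F : MulAction.stabilizer G a → (Fin d → N) := fun g i =>
      ⟨(g : G) * (f i : G) * (g : G)⁻¹, hN.normal.conj_mem _ (f i).2 g⟩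
    have hF : Function.Injective F := by
      intro g h hgh
      apply Subtype.ext
      have hK : Subgroup.closure (Set.range f) ≤
          (Subgroup.centralizer {(h : G)⁻¹ * g}).comap N.subtype := by
        rw [Subgroup.closure_le]
        rintro _ ⟨i, rfl⟩
        rw [SetLike.mem_coe, Subgroup.mem_comap, Subgroup.mem_centralizer_singleton_iff]
        have e : (g : G) * (f i : G) * (g : G)⁻¹ = (h : G) * (f i : G) * (h : G)⁻¹ :=
          congrArg Subtype.val (congrFun hgh i)
        symm
        calc (h : G)⁻¹ * g * (f i : G) = (h : G)⁻¹ * ((g : G) * (f i : G) * (g : G)⁻¹) * g := by group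
          _ = (h : G)⁻¹ * ((h : G) * (f i : G) * (h : G)⁻¹) * g := by rw [e]
          _ = (f i : G) * ((h : G)⁻¹ * g) := by group
      rw [hf] at hK
      have h1 : (h : G)⁻¹ * g = 1 := PermBasic.eq_one_of_commute_transitive N
        (fun u hu => (Subgroup.mem_centralizer_singleton_iff.mp (hK (Subgroup.mem_top ⟨u, hu⟩))).symm)
        ((MulAction.stabilizer G a).mul_mem ((MulAction.stabilizer G a).inv_mem h.2) g.2)
      exact (inv_mul_eq_one.mp h1).symm
    have := Nat.card_le_card_of_injective F hF
    rwa [Nat.card_fun, Nat.card_fin, hd, ← hnd] at this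
  have hG : Nat.card G ≤ p ^ (d * (d + 1)) := by
    rw [← PermBasic.card_mul_card_stabilizer (G := G) a, hn, show d * (d + 1) = d + d * d by ring, pow_add, pow_mul, ← hnd]
    exact Nat.mul_le_mul_left n hGa
  have hperm : Nat.card G ≤ n.factorial := by
    have hinj : Function.Injective (MulAction.toPermHom G X) := fun g h e =>
      eq_of_smul_eq_smul fun x : X => Equiv.Perm.ext_iff.mp e x
    have := Nat.card_le_card_of_injective _ hinj
    rwa [Nat.card_perm, hn] at this
  by_cases h8 : n = 8
  · subst h8
    haveI : MulAction.IsPretransitive N X := ‹_›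
    have hN3 : CL N 3 := cl_of_card_lt (by rw [hd, ← hnd]; norm_num)
    have hd3 : d ≤ 3 := by
      by_contra hcon
      have h16 : 2 ^ 4 ≤ p ^ d := le_trans (Nat.pow_le_pow_left hp.two_le 4) (Nat.pow_le_pow_right hp.pos (by omega))
      rw [← hnd] at h16
      norm_num at h16
    have hdvd : Nat.card (MulAction.stabilizer G a) ∣ 5040 := by
      letI := otherAction (G := G) a
      have hinj : Function.Injective (MulAction.toPermHom (MulAction.stabilizer G a) {x : X // x ≠ a}) := by
        intro g h e
        apply Subtype.ext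
        apply eq_of_smul_eq_smul (α := X)
        intro x
        by_cases hx : x = a
        · rw [hx, g.2, h.2]
        · exact congrArg Subtype.val (Equiv.Perm.ext_iff.mp e ⟨x, hx⟩)
      have hc := Subgroup.card_dvd_of_injective _ hinj
      haveI := Fintype.ofFinite X
      have h7 : Nat.card {x : X // x ≠ a} = 7 := by
        rw [Nat.card_eq_fintype_card, Fintype.card_subtype_compl, Fintype.card_subtype_eq,
          ← Nat.card_eq_fintype_card, hn]
      rw [Nat.card_perm, h7] at hc
      exact hc
    have h512 : Nat.card (MulAction.stabilizer G a) ≤ 512 :=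
      hGa.trans ((Nat.pow_le_pow_right (by norm_num) hd3).trans (by norm_num))
    exact (cl_of_normal a hN3 (cl_primeFactors (omega_bound hdvd h512))).mono (by norm_num [bd])
  refine cl_of_card_lt ?_
  by_contra hcon
  have hc : 2 ^ (bd n 1 + 1) ≤ Nat.card G := not_lt.mp hcon
  by_cases h2 : n = 2
  · subst h2; norm_num [bd, Nat.factorial] at hc hperm; omega
  by_cases h3 : n = 3
  · subst h3; norm_num [bd, Nat.factorial] at hc hperm; omega
  by_cases h4 : n = 4
  · subst h4; norm_num [bd, Nat.factorial] at hc hperm; omega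
  have := arith_affine hp hd1 (hnd ▸ h2) (hnd ▸ h3) (hnd ▸ h4) (hnd ▸ h8) (hc.trans hG)
  rw [← hnd] at this
  unfold bd at this
  omega

/-- The primitive step. -/
lemma step_primitive [MulAction.IsPreprimitive G X] {n : ℕ} (ih : Hyp n) (hn : Nat.card X = n) (hn2 : 2 ≤ n) :
    CL G (bd n 1) := by
  classical
  haveI : Nonempty X := (Nat.card_pos_iff.mp (by omega)).1
  obtain ⟨a⟩ := ‹Nonempty X›
  haveI : Nontrivial X := Finite.one_lt_card_iff_nontrivial.mp (by omega)
  haveI : Nontrivial G := by
    obtain ⟨x, y, hxy⟩ := exists_pair_ne X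
    obtain ⟨g, hg⟩ := MulAction.exists_smul_eq G x y
    exact ⟨⟨g, 1, fun e => hxy (by rw [← hg, e, one_smul])⟩⟩
  obtain ⟨N, -, hN⟩ := exists_isMNS_le (⊤ : Subgroup G) top_ne_bot
  haveI := hN.normal
  haveI := PermBasic.isPretransitive_of_normal (X := X) N hN.ne_bot
  by_cases hab : IsMulCommutative N
  · exact affine_case hN hab hn hn2 a
  obtain ⟨T, -, hT⟩ := exists_isFactor_le N le_rfl hN.ne_bot Subgroup.le_normalizer
  obtain ⟨hcl, hr1, hr2⟩ := stabilizer_bound (G := G) ih hn hn2 a
  have hk1 : 1 ≤ (factors N).card := Finset.card_pos.mpr ⟨T, mem_factors.mpr hT⟩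
  rcases (by omega : (factors N).card = 1 ∨ 2 ≤ (factors N).card) with hk | hk
  · refine (cl_of_normal a (cl_N hN hab hT) hcl).mono ?_
    unfold bd
    omega
  by_cases hreg : MulAction.stabilizer N a = ⊥
  · refine small_case hN hab a hT ih ?_
    rw [← hn, ← PermBasic.card_eq_of_regular hreg, card_N hN hab hT]
    exact mul_le_pow' (le_trans (by norm_num) (four_le_card hN hab hT)) hk1
  by_cases hA : ∀ U, IsFactor N U → U ≤ (N ⊓ MulAction.stabilizer G a) ⊔ cen N U
  · exact diagonal_case hN hab a hT ih hn hk hA
  push Not at hA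
  obtain ⟨U, hU, hW⟩ := hA
  refine product_case hN hab a hU ih hn hk ?_ hW
  by_contra hC
  haveI := hN.normal
  haveI : (Subgroup.centralizer (N : Set G)).Normal := Subgroup.normal_centralizer
  haveI := PermBasic.isPretransitive_of_normal (X := X) (Subgroup.centralizer (N : Set G)) hC
  exact hreg (PermMinimalNormal.stabilizer_eq_bot_of_commuting (Subgroup.centralizer (N : Set G)) N
    (fun x hx y hy => (Subgroup.mem_centralizer_iff.mp hx y hy).symm) a)
where
  mul_le_pow' {q k : ℕ} (hq : 2 ≤ q) (hk : 1 ≤ k) : k * q ≤ q ^ k := by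
    induction k, hk using Nat.le_induction with
    | base => simp
    | succ j hj ih =>
      rw [pow_succ, add_mul, one_mul]
      have h1 : q ^ j * 2 ≤ q ^ j * q := Nat.mul_le_mul_left _ hq
      have h2 : q ≤ j * q := Nat.le_mul_of_pos_left _ hj
      omega

/-- One step of the induction. -/
lemma step {n : ℕ} (ih : Hyp n) (hn : Nat.card X = n) : CL G (bd n (numOrbits G X)) := by
  by_cases hr : 2 ≤ numOrbits G X
  · exact step_intransitive ih hn hr
  by_cases hn2 : n ≤ 1
  · haveI : Subsingleton X := Finite.card_le_one_iff_subsingleton.mp (by omega)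
    haveI : Subsingleton G := ⟨fun g h => eq_of_smul_eq_smul fun x : X => Subsingleton.elim _ _⟩
    exact cl_subsingleton.mono (Nat.zero_le _)
  haveI : Nonempty X := (Nat.card_pos_iff.mp (by omega)).1
  have hr1 := numOrbits_pos (G := G) (X := X)
  rw [show numOrbits G X = 1 by omega]
  haveI := isPretransitive_of_numOrbits (G := G) (X := X) (by omega)
  by_cases hp : MulAction.IsPreprimitive G X
  · exact step_primitive ih hn (by omega)
  · exact step_imprimitive ih hn (by omega) hp

end

theorem hyp_all : ∀ n, Hyp n := by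
  intro n
  induction n with
  | zero => intro m hm; omega
  | succ n ih =>
    intro m hm P
    rcases Nat.lt_succ_iff_lt_or_eq.mp hm with h | h
    · exact ih m h P
    · subst h
      exact step ih (Nat.card_fin m)


/-- If a finite group G acts faithfully on a finite set with n points and r orbits, then the composition length of G is at most 4(n − r)/3. Here the composition length is expressed through chains: the conclusion bounds the length l of every chain of subgroups 1 = H₀ < H₁ < ⋯ < H_l = G in which each term is normal in the next (the longest such chains are exactly the composition series). -/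
theorem result {G Ω : Type*} [Group G] [Finite G] [MulAction G Ω] [FaithfulSMul G Ω] [Fintype Ω]
    (l : ℕ) (H : Fin (l + 1) → Subgroup G) (h0 : H 0 = ⊥) (hl : H (Fin.last l) = ⊤)
    (hchain : ∀ i : Fin l, H i.castSucc < H i.succ ∧ ((H i.castSucc).subgroupOf (H i.succ)).Normal) :
    3 * l ≤ 4 * (Fintype.card Ω - Nat.card (Quotient (MulAction.orbitRel G Ω))) := by
  classical
  have hn : Nat.card Ω = Fintype.card Ω := Nat.card_eq_fintype_card
  have hcl := (hyp_all (Fintype.card Ω + 1)).apply (G := G) (X := Ω) (by omega)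
  have h := hcl.length_le l H hl hchain
  unfold bd at h
  have e : Nat.card (Quotient (MulAction.orbitRel G Ω)) = numOrbits G Ω := rfl
  rw [e, ← hn]
  omega

end Cfsg.Agent.S5722
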