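import Cfsg.Statements.S5726
import Mathlib


set_option autoImplicit false
open Cfsg

namespace Cfsg.Agent.S5726

/-- A prime power dividing the number of points of a transitive action divides every orbit of a Sylow subgroup. -/
lemma pow_dvd_orbit {G Ω : Type*} [Group G] [Finite G] [MulAction G Ω] [Fintype Ω]
    (htr : MulAction.IsPretransitive G Ω) {p : ℕ} [Fact p.Prime] (P : Sylow p G) {v : ℕ}
    (hv : p ^ v ∣ Fintype.card Ω) (ω : Ω) : p ^ v ∣ (MulAction.orbit P ω).ncard := by
  haveI := htr
  have hp := (Fact.out : p.Prime)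
  set Pω : Subgroup P := MulAction.stabilizer P ω with hPω
  have hle : Pω.map (P : Subgroup G).subtype ≤ MulAction.stabilizer G ω := by
    rintro _ ⟨x, hx, rfl⟩
    exact hx
  have h1 : Nat.card Pω ∣ Nat.card (MulAction.stabilizer G ω) := by
    have := Subgroup.card_dvd_of_le hle
    rwa [Nat.card_congr (Subgroup.equivMapOfInjective Pω _ (P : Subgroup G).subtype_injective).toEquiv]
  have hG : Nat.card G = Fintype.card Ω * Nat.card (MulAction.stabilizer G ω) := by
    rw [← Subgroup.index_mul_card (MulAction.stabilizer G ω),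
      MulAction.index_stabilizer_of_transitive, Nat.card_eq_fintype_card]
  obtain ⟨a, ha⟩ := IsPGroup.iff_card.mp (P.isPGroup'.to_subgroup Pω)
  have hP : Nat.card P = (MulAction.orbit P ω).ncard * Nat.card Pω := by
    rw [← MulAction.index_stabilizer, Subgroup.index_mul_card]
  have h2 : p ^ (v + a) ∣ Nat.card G := by
    rw [hG, pow_add]
    exact Nat.mul_dvd_mul hv (ha ▸ h1)
  have h3 : p ^ (v + a) ∣ Nat.card P := by
    rw [P.card_eq_multiplicity]
    exact Nat.pow_dvd_pow p ((hp.pow_dvd_iff_le_factorization Nat.card_pos.ne').mp h2)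
  rw [hP, ha, pow_add] at h3
  exact Nat.dvd_of_mul_dvd_mul_right (pow_pos hp.pos a) h3

/-- If a finite group acts faithfully and transitively on a set with p^k elements, p a prime and k ≥ 1, then some element of order p fixes no point. -/
theorem result {G Ω : Type*} [Group G] [Finite G] [MulAction G Ω] [FaithfulSMul G Ω] [Fintype Ω] (htr : MulAction.IsPretransitive G Ω)
    (p k : ℕ) (hp : p.Prime) (hk : 1 ≤ k) (hΩ : Fintype.card Ω = p ^ k) :
    ∃ g : G, orderOf g = p ∧ ∀ ω : Ω, g • ω ≠ ω := by
  haveI := Fact.mk hp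
  obtain ⟨P⟩ := (inferInstance : Nonempty (Sylow p G))
  have horb : ∀ ω : Ω, MulAction.orbit P ω = Set.univ := by
    intro ω
    apply Set.eq_of_subset_of_ncard_le (Set.subset_univ _)
    rw [Set.ncard_univ, Nat.card_eq_fintype_card]
    refine Nat.le_of_dvd ?_ ?_
    · exact (Set.ncard_pos (Set.toFinite _)).mpr (MulAction.nonempty_orbit ω)
    · have := pow_dvd_orbit htr P (v := k) (by rw [hΩ]) ω
      rwa [hΩ]
  have h2 : 2 ≤ Fintype.card Ω := by
    rw [hΩ]; exact le_trans hp.two_le (Nat.le_self_pow (by omega) p)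
  haveI : Nontrivial Ω := Fintype.one_lt_card_iff_nontrivial.mp h2
  haveI : Nontrivial P := by
    rw [← not_subsingleton_iff_nontrivial]
    intro hs
    obtain ⟨a, b, hab⟩ := exists_pair_ne Ω
    have hb : b ∈ MulAction.orbit P a := by rw [horb]; trivial
    obtain ⟨x, rfl⟩ := hb
    simp only [Subsingleton.elim x 1, one_smul] at hab
    exact hab rfl
  haveI := P.isPGroup'.center_nontrivial
  obtain ⟨z, hz⟩ := exists_prime_orderOf_dvd_card' (G := Subgroup.center P) p (by
    obtain ⟨n, hn⟩ := IsPGroup.iff_card.mp (P.isPGroup'.to_subgroup (Subgroup.center P))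
    rw [hn]
    refine dvd_pow_self p ?_
    rintro rfl
    rw [pow_zero] at hn
    exact (Finite.one_lt_card_iff_nontrivial.mpr ‹Nontrivial (Subgroup.center P)›).ne' hn)
  refine ⟨((z : P) : G), by rw [Subgroup.orderOf_coe, Subgroup.orderOf_coe]; exact hz, ?_⟩
  intro ω hω
  have : z = 1 := by
    apply Subtype.ext
    apply Subtype.ext
    apply eq_of_smul_eq_smul (α := Ω)
    intro y
    have hy : y ∈ MulAction.orbit P ω := by rw [horb]; trivial
    obtain ⟨x, rfl⟩ := hy
    have hc : x * (z : P) = (z : P) * x := Subgroup.mem_center_iff.mp z.2 x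
    change ((z : P) : G) • ((x : G) • ω) = ((1 : P) : G) • ((x : G) • ω)
    rw [smul_smul, ← Subgroup.coe_mul, ← hc, Subgroup.coe_mul, mul_smul, hω, Subgroup.coe_one, one_smul]
  rw [this, orderOf_one] at hz
  exact hp.one_lt.ne hz

end Cfsg.Agent.S5726
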