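import Cfsg.Statements.S5727
import Mathlib
import Cfsg.Agent.S5726


set_option autoImplicit false
open Cfsg

namespace Cfsg.Agent.S5727



/-- If a finite group acts faithfully and transitively on a set with m·p elements, where p is a prime and 1 ≤ m ≤ p, then some element of order p fixes no point. -/
theorem result {G Ω : Type*} [Group G] [Finite G] [MulAction G Ω] [FaithfulSMul G Ω] [Fintype Ω] (htr : MulAction.IsPretransitive G Ω)
    (p m : ℕ) (hp : p.Prime) (hm : 1 ≤ m) (hmp : m ≤ p) (hΩ : Fintype.card Ω = m * p) :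
    ∃ g : G, orderOf g = p ∧ ∀ ω : Ω, g • ω ≠ ω := by
  haveI := Fact.mk hp
  rcases eq_or_lt_of_le hmp with rfl | hlt
  · exact Cfsg.Agent.S5726.result htr m 2 hp (by norm_num) (by rw [hΩ]; ring)
  classical
  obtain ⟨P⟩ := (inferInstance : Nonempty (Sylow p G))
  have horb : ∀ ω : Ω, (MulAction.orbit P ω).ncard = p := by
    intro ω
    have hd : p ∣ (MulAction.orbit P ω).ncard := by
      simpa using Cfsg.Agent.S5726.pow_dvd_orbit htr P (v := 1) (by rw [hΩ, pow_one]; exact dvd_mul_left p m) ω
    have hle : (MulAction.orbit P ω).ncard ≤ m * p := by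
      rw [← hΩ, ← Nat.card_eq_fintype_card, ← Set.ncard_univ]
      exact Set.ncard_le_ncard (Set.subset_univ _)
    obtain ⟨n, hn⟩ := P.isPGroup'.index (MulAction.stabilizer P ω)
    rw [MulAction.index_stabilizer] at hn
    rw [hn] at hd hle ⊢
    rcases n with _ | _ | n
    · rw [pow_zero, Nat.dvd_one] at hd; exact absurd hd hp.ne_one
    · rw [pow_one]
    · exfalso
      have h1 : p ^ 2 ≤ p ^ (n + 1 + 1) := Nat.pow_le_pow_right hp.pos (by omega)
      have h3 : p ^ 2 = p * p := by ring
      have h4 : m * p < p * p := Nat.mul_lt_mul_of_pos_right hlt hp.pos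
      omega
  have hnorm : ∀ ω : Ω, (MulAction.stabilizer P ω).Normal := by
    intro ω
    haveI : Nontrivial P := by
      rw [← not_subsingleton_iff_nontrivial]
      intro hs
      have := horb ω
      rw [← MulAction.index_stabilizer, Subgroup.index_eq_one.mpr (Subsingleton.elim _ _)] at this
      exact hp.one_lt.ne this
    obtain ⟨n, hn⟩ := IsPGroup.iff_card.mp P.isPGroup'
    have hn0 : n ≠ 0 := by
      rintro rfl
      rw [pow_zero] at hn
      exact (Finite.one_lt_card_iff_nontrivial.mpr ‹Nontrivial P›).ne' hn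
    exact Subgroup.normal_of_index_eq_minFac_card (by
      rw [MulAction.index_stabilizer, horb, hn, Nat.pow_minFac hn0, hp.minFac_eq])
  have hconst : ∀ (ω : Ω) (x : P), MulAction.stabilizer P (x • ω) = MulAction.stabilizer P ω := by
    intro ω x
    ext y
    have h1 : y • x • ω = x • ω ↔ (x⁻¹ * y * x) • ω = ω := by
      rw [mul_smul, mul_smul, inv_smul_eq_iff]
    rw [MulAction.mem_stabilizer_iff, h1, ← MulAction.mem_stabilizer_iff]
    constructor
    · intro h
      have := (hnorm ω).conj_mem _ h x
      simpa [mul_assoc] using this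
    · intro h
      have := (hnorm ω).conj_mem _ h x⁻¹
      simpa [mul_assoc] using this
  set S : Finset (Subgroup P) := Finset.univ.image (fun ω : Ω => MulAction.stabilizer P ω) with hS
  have hScard : S.card * p ≤ m * p := by
    rw [← hΩ, ← Finset.card_univ, Finset.card_eq_sum_card_image (fun ω : Ω => MulAction.stabilizer P ω) Finset.univ,
      ← smul_eq_mul]
    refine Finset.card_nsmul_le_sum _ _ _ ?_
    intro H hH
    obtain ⟨ω, _, rfl⟩ := Finset.mem_image.mp hH
    refine le_of_eq_of_le ((horb ω).symm.trans (Set.ncard_eq_toFinset_card' (MulAction.orbit P ω))) ?_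
    apply Finset.card_le_card
    intro y hy
    obtain ⟨x, rfl⟩ := Set.mem_toFinset.mp hy
    simp only [Finset.mem_filter, Finset.mem_univ, true_and]
    exact hconst ω x
  have hSm : S.card < p := lt_of_le_of_lt (Nat.le_of_mul_le_mul_right hScard hp.pos) hlt
  obtain ⟨z, hz⟩ : ∃ z : P, ∀ ω : Ω, z • ω ≠ ω := by
    by_contra hcon
    push_neg at hcon
    haveI := Fintype.ofFinite P
    have hcover : (Finset.univ : Finset P) ⊆ S.biUnion (fun H => Finset.univ.filter (fun x => x ∈ H)) := by
      intro x _
      obtain ⟨ω, hω⟩ := hcon x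
      exact Finset.mem_biUnion.mpr ⟨_, Finset.mem_image.mpr ⟨ω, Finset.mem_univ _, rfl⟩,
        Finset.mem_filter.mpr ⟨Finset.mem_univ _, hω⟩⟩
    have h1 := (Finset.card_le_card hcover).trans Finset.card_biUnion_le
    have h2 : ∀ H ∈ S, (Finset.univ.filter (fun x : P => x ∈ H)).card * p = Fintype.card P := by
      intro H hH
      obtain ⟨ω, _, rfl⟩ := Finset.mem_image.mp hH
      rw [← Fintype.card_subtype, ← Nat.card_eq_fintype_card, ← Nat.card_eq_fintype_card]
      conv_rhs => rw [← Subgroup.card_mul_index (MulAction.stabilizer P ω), MulAction.index_stabilizer, horb]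
      rfl
    have h3 : Fintype.card P * p ≤ S.card * Fintype.card P := by
      rw [Finset.card_univ] at h1
      calc Fintype.card P * p ≤ (∑ H ∈ S, (Finset.univ.filter (fun x : P => x ∈ H)).card) * p :=
            Nat.mul_le_mul_right _ h1
        _ = ∑ H ∈ S, Fintype.card P := by rw [Finset.sum_mul]; exact Finset.sum_congr rfl h2
        _ = S.card * Fintype.card P := by rw [Finset.sum_const, smul_eq_mul]
    rw [mul_comm S.card] at h3
    exact absurd (Nat.le_of_mul_le_mul_left h3 Fintype.card_pos) (not_le.mpr hSm)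
  have hzp : z ^ p = 1 := by
    apply Subtype.ext
    apply eq_of_smul_eq_smul (α := Ω)
    intro ω
    have : z ^ p ∈ MulAction.stabilizer P ω := by
      haveI := hnorm ω
      have := (MulAction.stabilizer P ω).pow_index_mem z
      rwa [MulAction.index_stabilizer, horb] at this
    rw [Subgroup.coe_one, one_smul]
    exact this
  refine ⟨(z : G), ?_, hz⟩
  rw [Subgroup.orderOf_coe]
  refine orderOf_eq_prime hzp ?_
  rintro rfl
  obtain ⟨ω⟩ : Nonempty Ω := Fintype.card_pos_iff.mp (by rw [hΩ]; exact Nat.mul_pos (by omega) hp.pos)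
  exact hz ω (one_smul _ _)

end Cfsg.Agent.S5727
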