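import Cfsg.Statements.S5728
import Mathlib


set_option autoImplicit false
open Cfsg

namespace Cfsg.Agent.S5728



/-- An elusive transitive action. Let p = 2^s − 1 be a prime and let F be the field with p² elements. Inside the group of affine maps x ↦ a·x + b of F (a ≠ 0), consider the subgroup of maps with both coefficients in the prime field. Then every element of prime order of the affine group is conjugate, within the affine group, to an element of that subgroup; equivalently, in the transitive action of the affine group on the cosets of that subgroup (of degree p(p + 1)) every element of prime order fixes a point. -/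
theorem result (p s : ℕ) [Fact p.Prime] (hs : p = 2 ^ s - 1)
    (g : Equiv.Perm (GaloisField p 2)) (hg : g ∈ Cfsg.affineGroup (GaloisField p 2)) (hord : (orderOf g).Prime) :
    ∃ x ∈ Cfsg.affineGroup (GaloisField p 2), ∃ a b : ZMod p, a ≠ 0 ∧
      ∀ y : GaloisField p 2, (x * g * x⁻¹) y = algebraMap (ZMod p) (GaloisField p 2) a * y + algebraMap (ZMod p) (GaloisField p 2) b := by
  classical
  have hp := (Fact.out : p.Prime)
  obtain ⟨a, b, hgx⟩ := hg
  have hcast : ∀ x : GaloisField p 2, x ^ p = x → ∃ t : ZMod p, algebraMap (ZMod p) (GaloisField p 2) t = x := by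
    intro x hx
    obtain ⟨n, rfl⟩ := (mem_bot_iff_intCast p (GaloisField p 2)).mp ((Subfield.mem_bot_iff_pow_eq_self (GaloisField p 2) p).mpr hx)
    exact ⟨(n : ZMod p), map_intCast _ n⟩
  by_cases ha : (a : GaloisField p 2) = 1
  · have hb : b ≠ 0 := by
      intro hb
      have : g = 1 := Equiv.ext fun x => by rw [hgx, ha, hb]; simp
      rw [this, orderOf_one] at hord
      exact Nat.not_prime_one hord
    refine ⟨Equiv.mulLeft₀ b⁻¹ (inv_ne_zero hb), ⟨Units.mk0 b⁻¹ (inv_ne_zero hb), 0, fun x => by simp⟩, 1, 1, one_ne_zero, fun y => ?_⟩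
    have hinv : (Equiv.mulLeft₀ b⁻¹ (inv_ne_zero hb))⁻¹ y = b * y := by
      rw [Equiv.Perm.inv_def, Equiv.symm_apply_eq]
      simp [hb]
    simp only [Equiv.Perm.mul_apply, hinv, hgx, ha, Equiv.mulLeft₀_apply, map_one]
    field_simp
  · have h1a : 1 - (a : GaloisField p 2) ≠ 0 := sub_ne_zero.mpr (Ne.symm ha)
    set c : GaloisField p 2 := b / (1 - (a : GaloisField p 2)) with hc
    set x : Equiv.Perm (GaloisField p 2) := Equiv.addRight (-c) with hx
    have hinv : ∀ y, x⁻¹ y = y + c := by
      intro y
      rw [Equiv.Perm.inv_def, Equiv.symm_apply_eq, hx]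
      simp
    have hh : ∀ y, (x * g * x⁻¹) y = (a : GaloisField p 2) * y := by
      intro y
      simp only [Equiv.Perm.mul_apply, hinv, hgx]
      rw [hx, Equiv.coe_addRight, hc]
      field_simp
      ring
    have hk : ∀ (k : ℕ) y, ((x * g * x⁻¹) ^ k) y = (a : GaloisField p 2) ^ k * y := by
      intro k
      induction k with
      | zero => simp
      | succ k ih => intro y; rw [pow_succ', Equiv.Perm.mul_apply, hh, ih, pow_succ']; ring
    set r := orderOf g with hr
    have har : (a : GaloisField p 2) ^ r = 1 := by
      have h := hk r 1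
      rw [conj_pow, hr, pow_orderOf_eq_one] at h
      simpa using h.symm
    have haord : orderOf (a : GaloisField p 2) = r := by
      haveI := Fact.mk hord
      exact orderOf_eq_prime har ha
    have hdvd : r ∣ p ^ 2 - 1 := by
      rw [← haord, orderOf_dvd_iff_pow_eq_one]
      haveI := Fintype.ofFinite (GaloisField p 2)
      have hcard : Fintype.card (GaloisField p 2) = p ^ 2 := by
        rw [← Nat.card_eq_fintype_card, GaloisField.card p 2 two_ne_zero]
      rw [← hcard]
      exact FiniteField.pow_card_sub_one_eq_one _ a.ne_zero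
    have hap : (a : GaloisField p 2) ^ p = a := by
      rcases hord.eq_two_or_odd' with h2 | hodd
      · have : (a : GaloisField p 2) = -1 := by
          rcases sq_eq_one_iff.mp (h2 ▸ har) with h | h
          · exact absurd h ha
          · exact h
        rw [this, neg_one_pow_char]
      · have hs1 : p + 1 = 2 ^ s := by
          have : 1 ≤ 2 ^ s := Nat.one_le_two_pow
          omega
        have hfac : p ^ 2 - 1 = (p + 1) * (p - 1) := by
          rw [← Nat.sq_sub_sq, one_pow]
        have hcop : Nat.Coprime r (p + 1) := by
          rw [hs1]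
          exact (Nat.coprime_two_right.mpr hodd).pow_right s
        rw [hfac] at hdvd
        have h' := hcop.dvd_of_dvd_mul_left hdvd
        rw [← haord, orderOf_dvd_iff_pow_eq_one] at h'
        calc (a : GaloisField p 2) ^ p = (a : GaloisField p 2) ^ (p - 1 + 1) := by
              rw [Nat.sub_add_cancel hp.one_le]
          _ = a := by rw [pow_succ, h', one_mul]
    obtain ⟨t, ht⟩ := hcast _ hap
    refine ⟨x, ⟨1, -c, fun y => by simp [hx]⟩, t, 0, ?_, fun y => by rw [hh, ht]; simp⟩
    rintro rfl
    rw [map_zero] at ht
    exact a.ne_zero ht.symm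

end Cfsg.Agent.S5728
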