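import Cfsg.Statements.S5729
import Mathlib
import Cfsg.Agent.Lib.DerangementMoments


set_option autoImplicit false
open Cfsg

namespace Cfsg.Agent.S5729

open Cfsg.Agent.DerangementMoments


/-- Let a finite group G act faithfully and transitively on a set with n ≥ 3 points. Then either G is a Frobenius permutation group (Frobenius as a permutation group: transitive, some non-identity element fixes a point, and no non-identity element fixes two points) of order n(n − 1) and exactly |G|/n of its elements are derangements (fix no point), or the number of derangements is greater than |G|/n. -/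
theorem result {G Ω : Type*} [Group G] [Finite G] [MulAction G Ω] [FaithfulSMul G Ω] [Fintype Ω] (htr : MulAction.IsPretransitive G Ω) (hn : 3 ≤ Fintype.card Ω) :
    ((MulAction.IsPretransitive G Ω ∧ (∃ g : G, g ≠ 1 ∧ ∃ ω : Ω, g • ω = ω) ∧ ∀ g : G, g ≠ 1 → Nat.card (MulAction.fixedBy Ω g) ≤ 1) ∧ Nat.card G = Fintype.card Ω * (Fintype.card Ω - 1) ∧ Fintype.card Ω * Nat.card {g : G // ∀ ω : Ω, g • ω ≠ ω} = Nat.card G) ∨
    Nat.card G < Fintype.card Ω * Nat.card {g : G // ∀ ω : Ω, g • ω ≠ ω} := by
  classical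
  haveI := htr
  haveI := Fintype.ofFinite G
  haveI : Nontrivial Ω := Fintype.one_lt_card_iff_nontrivial.mp (by omega)
  set n := Fintype.card Ω with hndef
  set r := numOrbits G (Ω × Ω) with hrdef
  have hr : 2 ≤ r := two_le_numOrbits_prod G Ω
  have hncard : Nat.card Ω = n := Nat.card_eq_fintype_card
  have h1 : ∑ g : G, (fix Ω g : ℤ) = (Nat.card G : ℤ) := by
    have := sum_fix G Ω
    rw [numOrbits_eq_one, one_mul] at this
    exact_mod_cast this
  have h2 : ∑ g : G, (fix Ω g : ℤ) ^ 2 = (r : ℤ) * Nat.card G := by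
    have := sum_fix G (Ω × Ω)
    simp only [fix_prod] at this
    simp only [pow_two]
    exact_mod_cast this
  set D := Finset.univ.filter (fun g : G => fix Ω g = 0) with hD
  have hDcard : Nat.card {g : G // ∀ ω : Ω, g • ω ≠ ω} = D.card := by
    rw [Nat.card_eq_fintype_card, Fintype.card_subtype, hD]
    congr 1
    ext g
    simp only [Finset.mem_filter, Finset.mem_univ, true_and]
    exact (fix_eq_zero_iff g).symm
  set f : G → ℤ := fun g => ((fix Ω g : ℤ) - 1) * ((n : ℤ) - fix Ω g) with hf
  set N := Finset.univ.filter (fun g : G => ¬ fix Ω g = 0) with hN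
  have hfN : ∀ g ∈ N, 0 ≤ f g := by
    intro g hg
    have h0 : fix Ω g ≠ 0 := (Finset.mem_filter.mp hg).2
    have hle : fix Ω g ≤ n := hncard ▸ fix_le g
    apply mul_nonneg <;> omega
  have hsum : ∑ g ∈ N, f g = (n : ℤ) * D.card - ((r : ℤ) - 1) * Nat.card G := by
    have hsplit : ∑ g ∈ D, f g + ∑ g ∈ N, f g = ∑ g : G, f g :=
      Finset.sum_filter_add_sum_filter_not _ _ _
    have hDsum : ∑ g ∈ D, f g = -(n : ℤ) * D.card := by
      rw [Finset.sum_congr rfl (g := fun _ => -(n : ℤ)) (fun g hg => by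
        simp only [hf, (Finset.mem_filter.mp hg).2]; push_cast; ring), Finset.sum_const, nsmul_eq_mul]
      ring
    have htot : ∑ g : G, f g = -((r : ℤ) - 1) * Nat.card G := by
      have : ∀ g : G, f g = ((n : ℤ) + 1) * (fix Ω g : ℤ) - (fix Ω g : ℤ) ^ 2 - n := fun g => by
        simp only [hf]; ring
      simp only [this, Finset.sum_sub_distrib, ← Finset.mul_sum, h1, h2, Finset.sum_const, Finset.card_univ,
        nsmul_eq_mul, ← Nat.card_eq_fintype_card]
      ring
    linarith
  rw [hDcard]
  by_cases hlt : Nat.card G < n * D.card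
  · exact Or.inr hlt
  left
  have hge : (Nat.card G : ℤ) ≥ (n : ℤ) * D.card := by exact_mod_cast (not_lt.mp hlt)
  have hnn : 0 ≤ ∑ g ∈ N, f g := Finset.sum_nonneg hfN
  have hG0 : (0 : ℤ) < Nat.card G := by exact_mod_cast Nat.card_pos
  have hrZ : (2 : ℤ) ≤ r := by exact_mod_cast hr
  have hprod : (0 : ℤ) ≤ ((r : ℤ) - 2) * Nat.card G := mul_nonneg (by linarith) hG0.le
  have hS0 : ∑ g ∈ N, f g = 0 := by linarith
  have hr2 : (r : ℤ) = 2 := by
    rcases eq_or_lt_of_le hrZ with h | h
    · exact h.symm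
    · have : (Nat.card G : ℤ) ≤ ((r : ℤ) - 2) * Nat.card G := le_mul_of_one_le_left hG0.le (by linarith)
      linarith
  have heq : n * D.card = Nat.card G := by
    have : (n : ℤ) * D.card = Nat.card G := by rw [hr2] at hsum; linarith
    exact_mod_cast this
  have hfix1 : ∀ g : G, g ≠ 1 → fix Ω g ≤ 1 := by
    intro g hg
    by_cases h0 : fix Ω g = 0
    · omega
    have hg0 := (Finset.sum_eq_zero_iff_of_nonneg hfN).mp hS0 g (Finset.mem_filter.mpr ⟨Finset.mem_univ _, h0⟩)
    rcases mul_eq_zero.mp hg0 with h | h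
    · omega
    · exact absurd (eq_one_of_fix_eq g (by rw [hncard]; omega)) hg
  have horder : (Nat.card G : ℤ) = (n : ℤ) * ((n : ℤ) - 1) := by
    have hq : ∀ g : G, (fix Ω g : ℤ) ^ 2 - fix Ω g = if g = 1 then (n : ℤ) ^ 2 - n else 0 := by
      intro g
      split_ifs with h
      · rw [h, fix_one, hncard]
      · have := hfix1 g h
        interval_cases (fix Ω g) <;> norm_num
    have := Finset.sum_congr rfl (fun g (_ : g ∈ (Finset.univ : Finset G)) => hq g)
    rw [Finset.sum_sub_distrib, h1, h2, hr2, Finset.sum_ite_eq' Finset.univ (1 : G)] at this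
    simp only [Finset.mem_univ, if_true] at this
    linarith [this]
  refine ⟨⟨htr, ?_, fun g hg => hfix1 g hg⟩, ?_, heq⟩
  · by_contra hcon
    push_neg at hcon
    have hone : ∀ g : G, (fix Ω g : ℤ) = if g = 1 then (n : ℤ) else 0 := by
      intro g
      split_ifs with h
      · rw [h, fix_one, hncard]
      · exact_mod_cast (fix_eq_zero_iff g).mpr (hcon g h)
    rw [Finset.sum_congr rfl (fun g _ => hone g), Finset.sum_ite_eq' Finset.univ (1 : G)] at h1
    simp only [Finset.mem_univ, if_true] at h1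
    have hn3 : (3 : ℤ) ≤ n := by exact_mod_cast hn
    rw [horder] at h1
    nlinarith
  · have : ((Nat.card G : ℕ) : ℤ) = ((n * (n - 1) : ℕ) : ℤ) := by
      rw [Nat.cast_mul, Nat.cast_sub (by omega), Nat.cast_one]; exact horder
    exact_mod_cast this

end Cfsg.Agent.S5729
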