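import Cfsg.Statements.S5730
import Mathlib
import Cfsg.Agent.Lib.DerangementMoments


set_option autoImplicit false
open Cfsg

namespace Cfsg.Agent.S5730

open Cfsg.Agent.DerangementMoments

section
variable {G Ω : Type*} [Group G] [MulAction G Ω]

/-- The stabiliser of two points. -/
def st2 (G : Type*) {Ω : Type*} [Group G] [MulAction G Ω] (x y : Ω) : Subgroup G :=
  MulAction.stabilizer G x ⊓ MulAction.stabilizer G y

lemma mem_st2 {g : G} {x y : Ω} : g ∈ st2 G x y ↔ g • x = x ∧ g • y = y := Iff.rfl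

lemma st2_comm (x y : Ω) : st2 G x y = st2 G y x := inf_comm _ _

lemma conj_mem_st2 (g k : G) (x y : Ω) : g * k * g⁻¹ ∈ st2 G (g • x) (g • y) ↔ k ∈ st2 G x y := by
  simp [mem_st2, mul_smul]

variable [Finite G] [Fintype Ω]

open scoped Classical in
/-- The points fixed by the stabiliser of two points. -/
noncomputable def line (G : Type*) {Ω : Type*} [Group G] [MulAction G Ω] [Fintype Ω] (x y : Ω) : Finset Ω :=
  Finset.univ.filter (fun z => st2 G x y ≤ MulAction.stabilizer G z)

omit [Finite G] in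
lemma mem_line {x y z : Ω} : z ∈ line G x y ↔ ∀ g ∈ st2 G x y, g • z = z := by
  simp [line, SetLike.le_def]

omit [Finite G] in
lemma left_mem_line (x y : Ω) : x ∈ line G x y := mem_line.mpr fun _ hg => hg.1

omit [Finite G] in
lemma right_mem_line (x y : Ω) : y ∈ line G x y := mem_line.mpr fun _ hg => hg.2

omit [Finite G] in
lemma line_comm (x y : Ω) : line G x y = line G y x := by
  unfold line; rw [st2_comm]

omit [Finite G] in
lemma smul_mem_line (g : G) {x y z : Ω} : g • z ∈ line G (g • x) (g • y) ↔ z ∈ line G x y := by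
  simp only [mem_line]
  constructor
  · intro h k hk
    have := h _ ((conj_mem_st2 g k x y).mpr hk)
    rwa [mul_smul, mul_smul, inv_smul_smul, smul_left_cancel_iff] at this
  · intro h k hk
    have := h (g⁻¹ * k * g) ((conj_mem_st2 g (g⁻¹ * k * g) x y).mp (by simpa [mul_assoc] using hk))
    rwa [mul_smul, mul_smul, inv_smul_eq_iff] at this

/-- Two-transitivity. -/
def TwoTrans (G Ω : Type*) [Group G] [MulAction G Ω] : Prop :=
  ∀ x y z w : Ω, x ≠ y → z ≠ w → ∃ g : G, g • x = z ∧ g • y = w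

lemma twoTrans_of_numOrbits (h : numOrbits G (Ω × Ω) ≤ 2) : TwoTrans G Ω := by
  classical
  intro x y z w hxy hzw
  by_contra hcon
  push_neg at hcon
  let F : Fin 3 → Quotient (MulAction.orbitRel G (Ω × Ω)) :=
    ![Quotient.mk _ (x, x), Quotient.mk _ (x, y), Quotient.mk _ (z, w)]
  have h1 : Quotient.mk (MulAction.orbitRel G (Ω × Ω)) (x, x) ≠ Quotient.mk _ (x, y) := by
    intro e
    obtain ⟨g, hg⟩ := Quotient.exact e
    simp only [Prod.smul_mk, Prod.mk.injEq] at hg
    exact hxy (smul_left_cancel g (hg.1.trans hg.2.symm))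
  have h2 : Quotient.mk (MulAction.orbitRel G (Ω × Ω)) (x, x) ≠ Quotient.mk _ (z, w) := by
    intro e
    obtain ⟨g, hg⟩ := Quotient.exact e
    simp only [Prod.smul_mk, Prod.mk.injEq] at hg
    exact hzw (smul_left_cancel g (hg.1.trans hg.2.symm))
  have h3 : Quotient.mk (MulAction.orbitRel G (Ω × Ω)) (x, y) ≠ Quotient.mk _ (z, w) := by
    intro e
    obtain ⟨g, hg⟩ := Quotient.exact e
    simp only [Prod.smul_mk, Prod.mk.injEq] at hg
    exact hcon g⁻¹ (inv_smul_eq_iff.mpr hg.1.symm) (inv_smul_eq_iff.mpr hg.2.symm)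
  have hF : Function.Injective F := by
    intro i j hij
    fin_cases i <;> fin_cases j <;> simp [F, h1, h2, h3, h1.symm, h2.symm, h3.symm] at hij ⊢
  have := Nat.card_le_card_of_injective F hF
  rw [Nat.card_fin] at this
  unfold numOrbits at h
  omega

omit [Fintype Ω] in
lemma card_st2_eq (h2 : TwoTrans G Ω) {x y z w : Ω} (hxy : x ≠ y) (hzw : z ≠ w) :
    Nat.card (st2 G x y) = Nat.card (st2 G z w) := by
  obtain ⟨g, rfl, rfl⟩ := h2 x y z w hxy hzw
  refine Nat.card_congr ((MulAut.conj g).toEquiv.subtypeEquiv fun k => ?_)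
  exact (conj_mem_st2 g k x y).symm

lemma st2_eq_of_mem_line (h2 : TwoTrans G Ω) {x y z w : Ω} (hxy : x ≠ y) (hzw : z ≠ w)
    (hz : z ∈ line G x y) (hw : w ∈ line G x y) : st2 G x y = st2 G z w :=
  Subgroup.eq_of_le_of_card_ge (fun g hg => ⟨mem_line.mp hz g hg, mem_line.mp hw g hg⟩)
    (card_st2_eq h2 hxy hzw).ge

lemma line_eq_of_mem (h2 : TwoTrans G Ω) {x y z w : Ω} (hxy : x ≠ y) (hzw : z ≠ w)
    (hz : z ∈ line G x y) (hw : w ∈ line G x y) : line G x y = line G z w := by
  unfold line; rw [st2_eq_of_mem_line h2 hxy hzw hz hw]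

lemma card_line_eq (h2 : TwoTrans G Ω) {x y z w : Ω} (hxy : x ≠ y) (hzw : z ≠ w) :
    (line G x y).card = (line G z w).card := by
  obtain ⟨g, rfl, rfl⟩ := h2 x y z w hxy hzw
  refine Finset.card_equiv (MulAction.toPerm g) fun p => ?_
  exact (smul_mem_line g).symm

/-- A point lying on two lines through `c` which differ is `c` itself. -/
lemma eq_of_mem_two_lines (h2 : TwoTrans G Ω) {x y c p : Ω} (hx : x ≠ c) (hy : y ≠ c)
    (hne : line G x c ≠ line G y c) (hpx : p ∈ line G x c) (hpy : p ∈ line G y c) : p = c := by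
  by_contra h
  exact hne ((line_eq_of_mem h2 hx h hpx (right_mem_line x c)).trans
    (line_eq_of_mem h2 hy h hpy (right_mem_line y c)).symm)

open scoped Classical in
/-- The lines through a point. -/
noncomputable def linesAt (G : Type*) {Ω : Type*} [Group G] [MulAction G Ω] [Fintype Ω] (c : Ω) : Finset (Finset Ω) :=
  (Finset.univ.erase c).image (fun d => line G c d)

omit [Finite G] in
lemma mem_linesAt {c : Ω} {ℓ : Finset Ω} : ℓ ∈ linesAt G c ↔ ∃ d, d ≠ c ∧ line G c d = ℓ := by
  simp [linesAt]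

lemma line_eq_iff (h2 : TwoTrans G Ω) {c d e : Ω} (hd : d ≠ c) (he : e ≠ c) :
    line G c d = line G c e ↔ d ∈ line G c e := by
  refine ⟨fun h => h ▸ right_mem_line c d, fun h => ?_⟩
  exact (line_eq_of_mem h2 (Ne.symm he) (Ne.symm hd) (left_mem_line c e) h).symm

open scoped Classical in
lemma fiber_eq (h2 : TwoTrans G Ω) {c e : Ω} (he : e ≠ c) :
    (Finset.univ.erase c).filter (fun d => line G c d = line G c e) = (line G c e).erase c := by
  ext d
  simp only [Finset.mem_filter, Finset.mem_erase, Finset.mem_univ, and_true]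
  exact ⟨fun ⟨hd, h⟩ => ⟨hd, (line_eq_iff h2 hd he).mp h⟩, fun ⟨hd, h⟩ => ⟨hd, (line_eq_iff h2 hd he).mpr h⟩⟩

lemma card_linesAt_mul (h2 : TwoTrans G Ω) {a b : Ω} (hab : a ≠ b) (c : Ω) :
    Fintype.card Ω - 1 = (linesAt G c).card * ((line G a b).card - 1) := by
  classical
  have h := Finset.card_eq_sum_card_image (fun d => line G c d) (Finset.univ.erase c)
  rw [Finset.card_erase_of_mem (Finset.mem_univ c), Finset.card_univ] at h
  rw [h, linesAt]
  refine Finset.sum_const_nat fun ℓ hℓ => ?_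
  obtain ⟨e, he, rfl⟩ := Finset.mem_image.mp hℓ
  have he' := (Finset.mem_erase.mp he).1
  rw [fiber_eq h2 he', Finset.card_erase_of_mem (left_mem_line c e), card_line_eq h2 (Ne.symm he') hab]

lemma card_line_le_linesAt (h2 : TwoTrans G Ω) {a b c : Ω} (hab : a ≠ b) (hc : c ∉ line G a b) :
    (line G a b).card ≤ (linesAt G c).card := by
  classical
  refine Finset.card_le_card_of_injOn (fun x => line G c x) (fun x hx => ?_) (fun x hx y hy hxy => ?_)
  · exact Finset.mem_coe.mpr (mem_linesAt.mpr ⟨x, fun h => hc (h ▸ Finset.mem_coe.mp hx), rfl⟩)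
  · have hx' := Finset.mem_coe.mp hx
    have hy' := Finset.mem_coe.mp hy
    by_contra h
    apply hc
    rw [line_eq_of_mem h2 hab h hx' hy']
    have hxc : x ≠ c := fun e => hc (e ▸ hx')
    have hyc : y ≠ c := fun e => hc (e ▸ hy')
    have h3 : line G c y = line G x y :=
      line_eq_of_mem h2 (Ne.symm hyc) h ((line_eq_iff h2 hxc hyc).mp hxy) (right_mem_line c y)
    rw [← h3]; exact left_mem_line c y

open scoped Classical in
lemma smul_invariant_line (h2 : TwoTrans G Ω) {g : G} {ℓx ℓy p q : Ω} (hl : ℓx ≠ ℓy) (hpq : p ≠ q)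
    (hp : p ∈ line G ℓx ℓy) (hq : q ∈ line G ℓx ℓy) (hgp : g • p = p) (hgq : g • q = q) {z : Ω}
    (hz : z ∈ line G ℓx ℓy) : g • z ∈ line G ℓx ℓy := by
  rw [line_eq_of_mem h2 hl hpq hp hq] at hz ⊢
  have := (smul_mem_line g).mpr hz
  rwa [hgp, hgq] at this

open scoped Classical in
/-- Bound for the number of fixed points of a non-identity element. -/
lemma fix_bound (h2 : TwoTrans G Ω) {a b : Ω} (hab : a ≠ b) (g : G) {c : Ω} (hc : g • c ≠ c) :
    fix Ω g + 1 ≤ (linesAt G c).card + ((line G a b).card - 1) ∧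
      ((line G a b).card = 3 → fix Ω g ≤ (linesAt G c).card) := by
  set S := Finset.univ.filter (fun x : Ω => g • x = x) with hS
  have hfix : fix Ω g = S.card := by
    unfold fix
    rw [Nat.card_eq_fintype_card, hS, ← Fintype.card_subtype]
    exact Fintype.card_congr (Equiv.refl _)
  have hcS : c ∉ S := by simp [hS, hc]
  set φ : Finset Ω → ℕ := fun ℓ => (S.filter (fun x => line G c x = ℓ)).card with hφ
  have hsum : S.card = ∑ ℓ ∈ linesAt G c, φ ℓ :=
    Finset.card_eq_sum_card_fiberwise fun x hx =>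
      Finset.mem_coe.mpr (mem_linesAt.mpr ⟨x, fun h => hcS (h ▸ Finset.mem_coe.mp hx), rfl⟩)
  have hfib : ∀ ℓ, ∀ x ∈ S.filter (fun x => line G c x = ℓ), x ∈ ℓ ∧ g • x = x ∧ x ≠ c := by
    intro ℓ x hx
    rw [Finset.mem_filter] at hx
    exact ⟨hx.2 ▸ right_mem_line c x, (Finset.mem_filter.mp hx.1).2, fun h => hcS (h ▸ hx.1)⟩
  have hbig : ∀ ℓ ∈ linesAt G c, 2 ≤ φ ℓ → g • c ∈ ℓ := by
    intro ℓ hℓ h
    obtain ⟨p, hp, q, hq, hpq⟩ := Finset.one_lt_card.mp h
    obtain ⟨d, hd, rfl⟩ := mem_linesAt.mp hℓ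
    obtain ⟨hp1, hp2, -⟩ := hfib _ p hp
    obtain ⟨hq1, hq2, -⟩ := hfib _ q hq
    exact smul_invariant_line h2 (Ne.symm hd) hpq hp1 hq1 hp2 hq2 (left_mem_line c d)
  have huniq : ∀ ℓ ∈ linesAt G c, ∀ m ∈ linesAt G c, 2 ≤ φ ℓ → 2 ≤ φ m → ℓ = m := by
    intro ℓ hℓ m hm h h'
    have h1 := hbig ℓ hℓ h
    have h3 := hbig m hm h'
    obtain ⟨d, hd, rfl⟩ := mem_linesAt.mp hℓ
    obtain ⟨e, he, rfl⟩ := mem_linesAt.mp hm
    exact ((line_eq_iff h2 hc hd).mpr h1).symm.trans ((line_eq_iff h2 hc he).mpr h3)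
  have hle : ∀ ℓ ∈ linesAt G c, φ ℓ ≤ (line G a b).card - 1 := by
    intro ℓ hℓ
    obtain ⟨d, hd, rfl⟩ := mem_linesAt.mp hℓ
    rw [← card_line_eq h2 (Ne.symm hd) hab, ← Finset.card_erase_of_mem (left_mem_line c d)]
    refine Finset.card_le_card fun x hx => ?_
    obtain ⟨h1, -, h3⟩ := hfib _ x hx
    exact Finset.mem_erase.mpr ⟨h3, h1⟩
  have hf2 : 2 ≤ (line G a b).card :=
    Finset.one_lt_card.mpr ⟨a, left_mem_line a b, b, right_mem_line a b, hab⟩
  constructor
  · rw [hfix, hsum]
    by_cases hex : ∃ ℓ ∈ linesAt G c, 2 ≤ φ ℓ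
    · obtain ⟨ℓ₀, hℓ₀, h₀⟩ := hex
      rw [← Finset.add_sum_erase _ _ hℓ₀]
      have h' : ∑ ℓ ∈ (linesAt G c).erase ℓ₀, φ ℓ ≤ ∑ ℓ ∈ (linesAt G c).erase ℓ₀, 1 :=
        Finset.sum_le_sum fun ℓ hℓ => by
          by_contra hh
          exact (Finset.mem_erase.mp hℓ).1
            (huniq ℓ (Finset.mem_erase.mp hℓ).2 ℓ₀ hℓ₀ (by omega) h₀)
      rw [← Finset.card_eq_sum_ones, Finset.card_erase_of_mem hℓ₀] at h'
      have := hle ℓ₀ hℓ₀
      have : 1 ≤ (linesAt G c).card := Finset.card_pos.mpr ⟨ℓ₀, hℓ₀⟩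
      omega
    · push_neg at hex
      have h' : ∑ ℓ ∈ linesAt G c, φ ℓ ≤ ∑ ℓ ∈ linesAt G c, 1 :=
        Finset.sum_le_sum fun ℓ hℓ => Nat.le_of_lt_succ (hex ℓ hℓ)
      rw [← Finset.card_eq_sum_ones] at h'
      omega
  · intro h3
    rw [hfix, hsum, Finset.card_eq_sum_ones (linesAt G c)]
    refine Finset.sum_le_sum fun ℓ hℓ => ?_
    by_contra hh
    have h2l : 2 ≤ φ ℓ := by omega
    obtain ⟨p, hp, q, hq, hpq⟩ := Finset.one_lt_card.mp (h2l : 1 < _)
    have hgc := hbig ℓ hℓ h2l
    obtain ⟨d, hd, rfl⟩ := mem_linesAt.mp hℓ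
    obtain ⟨hp1, hp2, hp3⟩ := hfib _ p hp
    obtain ⟨hq1, hq2, hq3⟩ := hfib _ q hq
    have hsub : ({c, g • c, p, q} : Finset Ω) ⊆ line G c d := by
      intro x hx
      simp only [Finset.mem_insert, Finset.mem_singleton] at hx
      rcases hx with rfl | rfl | rfl | rfl
      exacts [left_mem_line _ _, hgc, hp1, hq1]
    have h4 : ({c, g • c, p, q} : Finset Ω).card = 4 := by
      have hgp : g • c ≠ p := fun e => hp3 (smul_left_cancel g (e.trans hp2.symm)).symm
      have hgq : g • c ≠ q := fun e => hq3 (smul_left_cancel g (e.trans hq2.symm)).symm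
      simp [Ne.symm hc, Ne.symm hp3, Ne.symm hq3, hgp, hgq, hpq]
    have := Finset.card_le_card hsub
    rw [h4, card_line_eq h2 (Ne.symm hd) hab, h3] at this
    omega

/-- Excess of the long orbits of a two-point stabiliser. -/
noncomputable def orbLen (G : Type*) {Ω : Type*} [Group G] [MulAction G Ω] (a b c : Ω) : ℕ :=
  (MulAction.orbit (st2 G a b) c).ncard

/-- The three-point intersection has index at most two. -/
def Short (G Ω : Type*) [Group G] [MulAction G Ω] [Fintype Ω] : Prop :=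
  ∀ x y z : Ω, x ≠ y → z ∉ line G x y →
    2 * Nat.card (st2 G x y ⊓ MulAction.stabilizer G z : Subgroup G) = Nat.card (st2 G x y)

lemma orbLen_mul_card (a b c : Ω) :
    orbLen G a b c * Nat.card (st2 G a b ⊓ MulAction.stabilizer G c : Subgroup G) = Nat.card (st2 G a b) := by
  unfold orbLen
  rw [← MulAction.index_stabilizer]
  have e : Nat.card (MulAction.stabilizer (st2 G a b) c) =
      Nat.card (st2 G a b ⊓ MulAction.stabilizer G c : Subgroup G) :=
    Nat.card_congr
      { toFun := fun x => ⟨x.1.1, x.1.2, x.2⟩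
        invFun := fun x => ⟨⟨x.1, x.2.1⟩, x.2.2⟩
        left_inv := fun x => rfl
        right_inv := fun x => rfl }
  rw [← e, Subgroup.index_mul_card]

lemma short_of_orbLen (h2 : TwoTrans G Ω) {a b : Ω} (hab : a ≠ b)
    (hs : ∀ c, orbLen G a b c ≤ 2) : Short G Ω := by
  intro x y z hxy hz
  obtain ⟨g, rfl, rfl⟩ := h2 a b x y hab hxy
  set c := g⁻¹ • z with hc
  have hgc : z = g • c := by rw [hc, smul_inv_smul]
  rw [hgc] at hz ⊢
  have hcl : c ∉ line G a b := fun h => hz ((smul_mem_line g).mpr h)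
  have hcard : ∀ w, Nat.card (st2 G (g • a) (g • b) ⊓ MulAction.stabilizer G (g • w) : Subgroup G) =
      Nat.card (st2 G a b ⊓ MulAction.stabilizer G w : Subgroup G) := fun w => by
    symm
    refine Nat.card_congr ((MulAut.conj g).toEquiv.subtypeEquiv fun k => ?_)
    rw [Subgroup.mem_inf, Subgroup.mem_inf]
    refine and_congr (conj_mem_st2 g k a b).symm ?_
    show k • (w : Ω) = w ↔ (g * k * g⁻¹) • g • (w : Ω) = g • w
    rw [smul_smul, inv_mul_cancel_right, mul_smul, smul_left_cancel_iff]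
  have hlen : orbLen G a b c = 2 := by
    refine le_antisymm (hs c) ?_
    obtain ⟨k, hk, hkc⟩ : ∃ k ∈ st2 G a b, k • c ≠ c := by
      simpa [mem_line] using hcl
    exact (Set.one_lt_ncard (Set.toFinite _)).mpr
      ⟨k • c, ⟨⟨k, hk⟩, rfl⟩, c, MulAction.mem_orbit_self c, hkc⟩
  rw [hcard c, card_st2_eq h2 hxy hab, ← hlen]
  exact orbLen_mul_card a b c

omit [Fintype Ω] [MulAction G Ω] in
lemma index_two {P Q : Subgroup G} [Finite Q] (hPQ : P ≤ Q) (h : 2 * Nat.card P = Nat.card Q) :
    (P.subgroupOf Q).index = 2 := by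
  have := Subgroup.card_mul_index (P.subgroupOf Q)
  rw [Nat.card_congr (Subgroup.subgroupOfEquivOfLe hPQ).toEquiv, ← h, mul_comm 2] at this
  exact Nat.eq_of_mul_eq_mul_left Nat.card_pos this

omit [Fintype Ω] [MulAction G Ω] in
lemma mul_mem_iff' {P Q : Subgroup G} [Finite Q] (hPQ : P ≤ Q) (h : 2 * Nat.card P = Nat.card Q)
    {x y : G} (hx : x ∈ Q) (hy : y ∈ Q) : x * y ∈ P ↔ (x ∈ P ↔ y ∈ P) :=
  Subgroup.mul_mem_iff_of_index_two (index_two hPQ h) (a := ⟨x, hx⟩) (b := ⟨y, hy⟩)

/-- If all suborbits are short, the image of `c` stays on the line through `a` and `c`. -/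
lemma smul_mem_line_of_short (h2 : TwoTrans G Ω) (hS : Short G Ω) {a b c d : Ω} (hab : a ≠ b) (hac : a ≠ c)
    (hc : c ∉ line G a b) {k : G} (hk : k ∈ st2 G a b ⊓ MulAction.stabilizer G c) (hkd : k • d ≠ d)
    {s : G} (hs : s ∈ st2 G a b) (hsc : s • c ≠ c) : s • c ∈ line G a c := by
  set A := st2 G a b with hA
  set C := st2 G a c with hC
  set D := st2 G a d with hD
  set K := A ⊓ MulAction.stabilizer G c with hK
  have had : a ≠ d := fun e => hkd (e ▸ hk.1.1)
  have hb : b ∉ line G a c := fun h =>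
    hc (by rw [← line_eq_of_mem h2 hac hab (left_mem_line a c) h]; exact right_mem_line a c)
  have hKC : C ⊓ MulAction.stabilizer G b = K := by
    ext x; simp [hK, hA, hC, mem_st2]; tauto
  have hdb : d ∉ line G a b := fun h => hkd (mem_line.mp h k hk.1)
  have hdc : d ∉ line G a c := fun h => hkd (mem_line.mp h k ⟨hk.1.1, hk.2⟩)
  have hbd : b ∉ line G a d := fun h => hdb (by
    rw [← line_eq_of_mem h2 had hab (left_mem_line a d) h]; exact right_mem_line a d)
  have hcd : c ∉ line G a d := fun h => hdc (by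
    rw [← line_eq_of_mem h2 had hac (left_mem_line a d) h]; exact right_mem_line a d)
  have iA : 2 * Nat.card K = Nat.card A := hS a b c hab hc
  have iC : 2 * Nat.card K = Nat.card C := hKC ▸ hS a c b hac hb
  have iDb : 2 * Nat.card (D ⊓ MulAction.stabilizer G b : Subgroup G) = Nat.card D := hS a d b had hbd
  have iDc : 2 * Nat.card (D ⊓ MulAction.stabilizer G c : Subgroup G) = Nat.card D := hS a d c had hcd
  have hKA : K ≤ A := inf_le_left
  have hKC' : K ≤ C := hKC ▸ inf_le_left
  have hnK : ∀ Q : Subgroup G, K ≤ Q → 2 * Nat.card K = Nat.card Q → ∀ x ∈ Q, ∀ y ∈ K, x * y * x⁻¹ ∈ K := by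
    intro Q hKQ hi x hx y hy
    rw [mul_mem_iff' hKQ hi (Q.mul_mem hx (hKQ hy)) (Q.inv_mem hx), mul_mem_iff' hKQ hi hx (hKQ hy), inv_mem_iff]
    simp [hy]
  have hsK : s ∉ K := fun h => hsc h.2
  -- representatives in D of the two non-trivial cosets
  have hrep : ∀ (P : Subgroup G) (w : Ω) (_ : P ≤ MulAction.stabilizer G a) (_ : K ≤ P) (_ : 2 * Nat.card K = Nat.card P)
      (_ : 2 * Nat.card (D ⊓ MulAction.stabilizer G w : Subgroup G) = Nat.card D)
      (_ : P = st2 G a w), ∃ t, t ∈ P ∧ t ∈ D ∧ t ∉ K := by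
    intro P w _ hKP hi hiD hP
    by_contra hcon
    push_neg at hcon
    have hle : D ⊓ MulAction.stabilizer G w ≤ K := fun t ht =>
      hcon t (hP ▸ (⟨ht.1.1, ht.2⟩ : t ∈ st2 G a w)) ht.1
    have hcard : Nat.card (D ⊓ MulAction.stabilizer G w : Subgroup G) = Nat.card K := by
      have h3 : Nat.card D = Nat.card A := card_st2_eq h2 had hab
      omega
    have := Subgroup.eq_of_le_of_card_ge hle hcard.ge
    exact hkd ((this ▸ hk : k ∈ D ⊓ MulAction.stabilizer G w).1.2)
  obtain ⟨s₀, hs₀A, hs₀D, hs₀K⟩ := hrep A b inf_le_left hKA iA iDb rfl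
  obtain ⟨t, htC, htD, htK⟩ := hrep C c inf_le_left hKC' iC iDc rfl
  set m := t⁻¹ * s₀ * t * s₀⁻¹ with hm
  have hmK : m ∈ K := by
    have h1 : m ∈ D ⊓ MulAction.stabilizer G b := by
      have hsb : s₀ ∈ D ⊓ MulAction.stabilizer G b := ⟨hs₀D, hs₀A.2⟩
      refine Subgroup.mul_mem _ ?_ (Subgroup.inv_mem _ hsb)
      rw [mul_mem_iff' inf_le_left iDb (D.mul_mem (D.inv_mem htD) hs₀D) htD,
        mul_mem_iff' inf_le_left iDb (D.inv_mem htD) hs₀D, inv_mem_iff]
      simp [hsb]
    have h3 : m ∈ D ⊓ MulAction.stabilizer G c := by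
      have htc : t ∈ D ⊓ MulAction.stabilizer G c := ⟨htD, htC.2⟩
      rw [hm, mul_assoc, mul_assoc]
      refine Subgroup.mul_mem _ (Subgroup.inv_mem _ htc) ?_
      rw [mul_mem_iff' inf_le_left iDc hs₀D (D.mul_mem htD (D.inv_mem hs₀D)),
        mul_mem_iff' inf_le_left iDc htD (D.inv_mem hs₀D), inv_mem_iff]
      simp [htc]
    exact ⟨⟨h1.1.1, h1.2⟩, h3.2⟩
  have hnorm₀ : ∀ y ∈ C, s₀ * y * s₀⁻¹ ∈ C := by
    intro y hy
    by_cases hyK : y ∈ K
    · exact hKC' (hnK A hKA iA s₀ hs₀A y hyK)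
    · have hk' : y * t⁻¹ ∈ K := by
        rw [mul_mem_iff' hKC' iC hy (C.inv_mem htC), inv_mem_iff]; simp [hyK, htK]
      have e : s₀ * y * s₀⁻¹ = (s₀ * (y * t⁻¹) * s₀⁻¹) * (t * m) := by rw [hm]; group
      rw [e]
      exact C.mul_mem (hKC' (hnK A hKA iA s₀ hs₀A _ hk')) (C.mul_mem htC (hKC' hmK))
  have hnorm : ∀ y ∈ C, s * y * s⁻¹ ∈ C := by
    intro y hy
    have hk' : s₀⁻¹ * s ∈ K := by
      rw [mul_mem_iff' hKA iA (A.inv_mem hs₀A) hs, inv_mem_iff]; simp [hsK, hs₀K]
    have e : s * y * s⁻¹ = s₀ * ((s₀⁻¹ * s) * y * (s₀⁻¹ * s)⁻¹) * s₀⁻¹ := by group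
    rw [e]
    exact hnorm₀ _ (C.mul_mem (C.mul_mem (hKC' hk') hy) (C.inv_mem (hKC' hk')))
  rw [mem_line]
  intro y hy
  -- the inverse conjugate of y lies in C as well
  have hmap : C.map (MulAut.conj s).toMonoidHom = C :=
    Subgroup.eq_of_le_of_card_ge (by rintro _ ⟨z, hz, rfl⟩; exact hnorm z hz)
      (Nat.card_congr (Subgroup.equivMapOfInjective C _ (MulAut.conj s).injective).toEquiv).le
  rw [← hC, ← hmap] at hy
  obtain ⟨z, hz, rfl⟩ := hy
  show (s * z * s⁻¹) • s • c = s • c
  rw [mul_smul, mul_smul, inv_smul_smul, hz.2]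

/-- Short suborbits force a pointwise-trivial three-point stabiliser. -/
lemma inf_eq_bot_of_short [FaithfulSMul G Ω] (h2 : TwoTrans G Ω) (hS : Short G Ω) {a b c : Ω} (hab : a ≠ b)
    (hc : c ∉ line G a b) : st2 G a b ⊓ MulAction.stabilizer G c = ⊥ := by
  rw [Subgroup.eq_bot_iff_forall]
  intro k hk
  by_contra hk1
  obtain ⟨d, hd⟩ : ∃ d : Ω, k • d ≠ d := by
    by_contra hcon
    push_neg at hcon
    exact hk1 (eq_of_smul_eq_smul (α := Ω) fun x => by rw [hcon x, one_smul])
  obtain ⟨s, hs, hsc⟩ : ∃ s ∈ st2 G a b, s • c ≠ c := by simpa [mem_line] using hc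
  have hac : a ≠ c := fun e => hc (e ▸ left_mem_line a b)
  have hbc : b ≠ c := fun e => hc (e ▸ right_mem_line a b)
  have h1 := smul_mem_line_of_short h2 hS hab hac hc hk hd hs hsc
  have h3 := smul_mem_line_of_short h2 hS (Ne.symm hab) hbc (by rwa [line_comm]) (d := d)
    (k := k) (by rwa [st2_comm]) hd (s := s) (by rwa [st2_comm]) hsc
  refine hsc (eq_of_mem_two_lines h2 hac hbc ?_ h1 h3)
  intro h
  have ha : b ∈ line G a c := h ▸ left_mem_line b c
  exact hc (by rw [← line_eq_of_mem h2 hac hab (left_mem_line a c) ha]; exact right_mem_line a c)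

/-- There is no 2-transitive group on seven points with two-point stabiliser of order two and lines of size three. -/
lemma no_fano [FaithfulSMul G Ω] (h2 : TwoTrans G Ω) {a b : Ω} (hab : a ≠ b)
    (hh : Nat.card (st2 G a b) = 2) (hn : Fintype.card Ω = 7) (hf : (line G a b).card = 3) : False := by
  classical
  obtain ⟨t, htmem, ht1⟩ : ∃ t ∈ st2 G a b, t ≠ 1 := by
    by_contra hcon
    push_neg at hcon
    rw [(Subgroup.eq_bot_iff_forall _).mpr hcon, Subgroup.card_bot] at hh
    omega
  have huniq : ∀ u ∈ st2 G a b, u ≠ 1 → u = t := by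
    intro u hu hu1
    obtain ⟨x, y, hxy, hall⟩ := Nat.card_eq_two_iff.mp hh
    have h1 : (⟨u, hu⟩ : st2 G a b) ∈ ({x, y} : Set _) := hall.symm ▸ Set.mem_univ _
    have h3 : (⟨t, htmem⟩ : st2 G a b) ∈ ({x, y} : Set _) := hall.symm ▸ Set.mem_univ _
    have h4 : (1 : st2 G a b) ∈ ({x, y} : Set _) := hall.symm ▸ Set.mem_univ _
    simp only [Set.mem_insert_iff, Set.mem_singleton_iff] at h1 h3 h4
    rcases h4 with rfl | rfl <;> rcases h1 with h1 | h1 <;> rcases h3 with h3 | h3 <;>
      first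
        | exact congrArg Subtype.val (h1.trans h3.symm)
        | exact absurd (congrArg Subtype.val h1) hu1
        | exact absurd (congrArg Subtype.val h3) ht1
  have ht2 : ∀ x : Ω, t • t • x = x := by
    intro x
    by_cases hu : t * t = 1
    · rw [smul_smul, hu, one_smul]
    · exact absurd (mul_left_cancel (a := t) (by rw [huniq _ ((st2 G a b).mul_mem htmem htmem) hu, mul_one])) ht1
  have hρ : ∀ x : Ω, (linesAt G x).card = 3 := fun x => by
    have := card_linesAt_mul h2 hab x; rw [hn, hf] at this; omega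
  obtain ⟨c, hc⟩ : ∃ c : Ω, t • c ≠ c := by
    by_contra hcon
    push_neg at hcon
    exact ht1 (eq_of_smul_eq_smul (α := Ω) fun x => by rw [hcon x, one_smul])
  have hfixset : ∀ x, t • x = x → x ∈ line G a b := by
    have hle : line G a b ⊆ Finset.univ.filter (fun x => t • x = x) := fun x hx =>
      Finset.mem_filter.mpr ⟨Finset.mem_univ _, mem_line.mp hx t htmem⟩
    have hcard : (Finset.univ.filter (fun x : Ω => t • x = x)).card ≤ 3 := by
      have := (fix_bound h2 hab t hc).2 hf
      rw [hρ] at this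
      rw [← Fintype.card_subtype, ← Nat.card_eq_fintype_card]
      exact this
    intro x hx
    rw [Finset.eq_of_subset_of_card_le hle (by rw [hf]; exact hcard)]
    simp [hx]
  set m := line G c (t • c) with hm
  have hminv : ∀ z ∈ m, t • z ∈ m := by
    intro z hz
    have := (smul_mem_line t).mpr hz
    rwa [ht2, line_comm] at this
  obtain ⟨p, hpm, hpc, hptc⟩ : ∃ p ∈ m, p ≠ c ∧ p ≠ t • c := by
    by_contra hcon
    push_neg at hcon
    have hsub : m ⊆ {c, t • c} := fun x hx => by
      by_cases h : x = c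
      · simp [h]
      · simp [hcon x hx h]
    have := (Finset.card_le_card hsub).trans Finset.card_le_two
    rw [hm, card_line_eq h2 (Ne.symm hc) hab, hf] at this
    omega
  have hmem3 : ∀ z ∈ m, z = c ∨ z = t • c ∨ z = p := by
    have hsub : ({c, t • c, p} : Finset Ω) ⊆ m := by
      intro x hx
      simp only [Finset.mem_insert, Finset.mem_singleton] at hx
      rcases hx with rfl | rfl | rfl
      exacts [left_mem_line _ _, right_mem_line _ _, hpm]
    have heq := Finset.eq_of_subset_of_card_le hsub (by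
      rw [hm, card_line_eq h2 (Ne.symm hc) hab, hf]
      simp [Ne.symm hc, Ne.symm hpc, Ne.symm hptc])
    intro z hz
    rw [← heq] at hz
    simpa using hz
  have htp : t • p = p := by
    rcases hmem3 _ (hminv p hpm) with h | h | h
    · exact absurd (by rw [← h, ht2]) (Ne.symm hptc)
    · exact absurd (smul_left_cancel t h) hpc
    · exact h
  have hpl : p ∈ line G a b := hfixset p htp
  have hcl : c ∉ line G a b := fun h => hc (mem_line.mp h t htmem)
  have hcenter : ∀ d, t • d ≠ d → t • d ∈ line G p d := by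
    intro d hd
    have hdp : d ≠ p := fun e => hd (e ▸ htp)
    have hpm' : line G p c = m := (line_eq_of_mem h2 (Ne.symm hc) hpc hpm (left_mem_line _ _)).symm
    have hlne : line G a b ≠ line G p c := fun e => hcl (e ▸ right_mem_line p c)
    obtain ⟨q, hq, hqp⟩ : ∃ q ∈ line G a b, q ≠ p := by
      by_contra hcon
      push_neg at hcon
      exact hab ((hcon a (left_mem_line a b)).trans (hcon b (right_mem_line a b)).symm)
    have hlq : line G p q = line G a b := (line_eq_of_mem h2 hab (Ne.symm hqp) hpl hq).symm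
    have hdl : line G p d ≠ line G a b := fun e => hd (mem_line.mp (e ▸ right_mem_line p d) t htmem)
    by_cases hdm : d ∈ m
    · have e : line G p d = m := (line_eq_of_mem h2 (Ne.symm hc) (Ne.symm hdp) hpm hdm).symm
      rw [e]; exact hminv d hdm
    have htdm : t • d ∉ m := fun h => hdm (by have := hminv _ h; rwa [ht2] at this)
    have htdl : t • d ∉ line G a b := fun h => hd (by
      have := mem_line.mp h t htmem; rw [ht2] at this; exact this.symm)
    have htdp : t • d ≠ p := fun e => hdp (smul_left_cancel t (e.trans htp.symm))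
    have hset : ({line G a b, line G p c, line G p d} : Finset (Finset Ω)) = linesAt G p := by
      refine Finset.eq_of_subset_of_card_le ?_ ?_
      · intro x hx
        simp only [Finset.mem_insert, Finset.mem_singleton] at hx
        rcases hx with rfl | rfl | rfl
        · exact mem_linesAt.mpr ⟨q, hqp, hlq⟩
        · exact mem_linesAt.mpr ⟨c, Ne.symm hpc, rfl⟩
        · exact mem_linesAt.mpr ⟨d, hdp, rfl⟩
      · rw [hρ]
        have hdc : line G p c ≠ line G p d := fun e => hdm (hpm' ▸ e ▸ right_mem_line p d)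
        simp [hlne, Ne.symm hdl, hdc]
    have hin : line G p (t • d) ∈ linesAt G p := mem_linesAt.mpr ⟨_, htdp, rfl⟩
    rw [← hset] at hin
    simp only [Finset.mem_insert, Finset.mem_singleton] at hin
    rcases hin with h | h | h
    · exact absurd (h ▸ right_mem_line p (t • d)) htdl
    · exact absurd (hpm' ▸ h ▸ right_mem_line p (t • d)) htdm
    · rw [← h]; exact right_mem_line _ _
  obtain ⟨q, hq, hqp⟩ : ∃ q ∈ line G a b, q ≠ p := by
    by_contra hcon
    push_neg at hcon
    exact hab ((hcon a (left_mem_line a b)).trans (hcon b (right_mem_line a b)).symm)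
  obtain ⟨g, hgp, hgq⟩ := h2 p q q p (Ne.symm hqp) hqp
  have hgt : g * t * g⁻¹ = t := by
    refine huniq _ ?_ (fun e => ht1 ?_)
    · rw [st2_eq_of_mem_line h2 hab hqp hq hpl]
      have := (conj_mem_st2 g t p q).mpr (by rw [← st2_eq_of_mem_line h2 hab (Ne.symm hqp) hpl hq]; exact htmem)
      rwa [hgp, hgq] at this
    · simpa using e
  have hgd : t • c ∈ line G q c := by
    have h1 : g * t = t * g := mul_inv_eq_iff_eq_mul.mp hgt
    have hd : t • g⁻¹ • c ≠ g⁻¹ • c := by
      intro e
      apply hc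
      have := congrArg (g • ·) e
      simp only [smul_inv_smul] at this
      rwa [← mul_smul, h1, mul_smul, smul_inv_smul] at this
    have h := (smul_mem_line g).mpr (hcenter (g⁻¹ • c) hd)
    rwa [hgp, smul_inv_smul, ← mul_smul, h1, mul_smul, smul_inv_smul] at h
  have hp' := hcenter c hc
  refine hc (eq_of_mem_two_lines h2 hpc (fun e => hcl (e ▸ hq)) ?_ hp' hgd)
  intro e
  have : q ∈ line G p c := e ▸ left_mem_line q c
  exact hcl (by
    rw [line_eq_of_mem h2 hab (Ne.symm hqp) hpl hq, ← line_eq_of_mem h2 hpc (Ne.symm hqp) (left_mem_line p c) this]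
    exact right_mem_line p c)

/-- Orbit counting for a subgroup. -/
lemma orbit_count (a b : Ω) : ∃ e : ℕ,
    2 * numOrbits (st2 G a b) Ω + e = Fintype.card Ω + (line G a b).card ∧
      (e = 0 → ∀ c, orbLen G a b c ≤ 2) ∧
      (e = 1 → ∃ c, orbLen G a b c = 3 ∧ ∀ d, d ∉ MulAction.orbit (st2 G a b) c → orbLen G a b d ≤ 2) := by
  classical
  haveI : Fintype (Quotient (MulAction.orbitRel (st2 G a b) Ω)) := Fintype.ofFinite _
  let H := st2 G a b
  let Q := Quotient (MulAction.orbitRel H Ω)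
  let cls : Q → Finset Ω := fun q => Finset.univ.filter (fun x => Quotient.mk _ x = q)
  let len : Q → ℕ := fun q => (cls q).card
  have hlen : ∀ x, len (Quotient.mk _ x) = orbLen G a b x := by
    intro x
    unfold orbLen
    rw [Set.ncard_eq_toFinset_card']
    show (cls _).card = _
    congr 1
    ext y
    simp only [cls, Finset.mem_filter, Finset.mem_univ, true_and, Set.mem_toFinset]
    exact Quotient.eq
  have hn : Fintype.card Ω = ∑ q : Q, len q := by
    rw [← Finset.card_univ]; exact Finset.card_eq_sum_card_fiberwise fun x _ => by simp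
  have hf : (line G a b).card = ∑ q : Q, if len q = 1 then 1 else 0 := by
    rw [Finset.sum_boole, Nat.cast_id]
    refine Finset.card_bij (fun x _ => Quotient.mk _ x) (fun x hx => ?_) (fun x hx y hy h => ?_) (fun q hq => ?_)
    · simp only [Finset.mem_filter, Finset.mem_univ, true_and, hlen, orbLen, Set.ncard_eq_one]
      refine ⟨x, Set.eq_singleton_iff_unique_mem.mpr ⟨MulAction.mem_orbit_self x, ?_⟩⟩
      rintro _ ⟨k, rfl⟩
      exact mem_line.mp hx k.1 k.2
    · obtain ⟨k, hk⟩ := Quotient.exact h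
      exact hk.symm.trans (mem_line.mp hy k.1 k.2)
    · induction q using Quotient.inductionOn with | _ x => ?_
      simp only [Finset.mem_filter, Finset.mem_univ, true_and, hlen, orbLen, Set.ncard_eq_one] at hq
      obtain ⟨y, hy⟩ := hq
      refine ⟨x, mem_line.mpr fun k hk => ?_, rfl⟩
      have h1 : k • x ∈ MulAction.orbit H x := ⟨⟨k, hk⟩, rfl⟩
      have h3 : x ∈ MulAction.orbit H x := MulAction.mem_orbit_self x
      rw [hy] at h1 h3
      exact h1.trans h3.symm
  have hpos : ∀ q : Q, 1 ≤ len q := by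
    intro q
    induction q using Quotient.inductionOn with | _ x => ?_
    exact Finset.card_pos.mpr ⟨x, by simp [cls]⟩
  refine ⟨∑ q : Q, (len q - 2), ?_, ?_, ?_⟩
  · rw [hn, hf, numOrbits, Nat.card_eq_fintype_card, ← Finset.card_univ, Finset.card_eq_sum_ones, Finset.mul_sum,
      ← Finset.sum_add_distrib, ← Finset.sum_add_distrib]
    refine Finset.sum_congr rfl fun q _ => ?_
    have := hpos q
    split_ifs with h <;> omega
  · intro he c
    have := (Finset.sum_eq_zero_iff.mp he) (Quotient.mk _ c) (Finset.mem_univ _)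
    rw [hlen] at this
    omega
  · intro he
    obtain ⟨q, -, hq⟩ := Finset.exists_ne_zero_of_sum_ne_zero (by omega : ∑ q : Q, (len q - 2) ≠ 0)
    have hsplit := Finset.add_sum_erase Finset.univ (fun q : Q => len q - 2) (Finset.mem_univ q)
    rw [he] at hsplit
    have hq' : len q = 3 := by omega
    have hrest : ∑ q' ∈ Finset.univ.erase q, (len q' - 2) = 0 := by omega
    induction q using Quotient.inductionOn with | _ c => ?_
    refine ⟨c, by rw [← hlen]; exact hq', fun d hd => ?_⟩
    have := Finset.sum_eq_zero_iff.mp hrest (Quotient.mk _ d)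
      (Finset.mem_erase.mpr ⟨fun h => hd (Quotient.exact h), Finset.mem_univ _⟩)
    rw [hlen] at this
    omega

open scoped Classical in
/-- With a single orbit of length three there is an element moving only three points. -/
lemma exists_three (a b c : Ω) (h3 : orbLen G a b c = 3)
    (hd : ∀ d, d ∉ MulAction.orbit (st2 G a b) c → orbLen G a b d ≤ 2) :
    ∃ x : G, orderOf x = 3 ∧ (Finset.univ.filter (fun d : Ω => x • d ≠ d)).card ≤ 3 := by
  haveI := Fact.mk Nat.prime_three
  have hdvd : 3 ∣ Nat.card (st2 G a b) := ⟨_, (h3 ▸ orbLen_mul_card a b c).symm⟩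
  obtain ⟨x, hx⟩ := exists_prime_orderOf_dvd_card' (G := st2 G a b) 3 hdvd
  refine ⟨x.1, by rw [Subgroup.orderOf_coe]; exact hx, ?_⟩
  refine le_trans (Finset.card_le_card ?_) (le_of_eq (b := 3) ((Set.ncard_eq_toFinset_card' _).symm.trans h3))
  intro d hdm
  rw [Set.mem_toFinset]
  by_contra hnot
  have hsmall := hd d hnot
  apply (Finset.mem_filter.mp hdm).2
  by_contra hne
  have hx3 : x • x • x • d = d := by
    rw [smul_smul, smul_smul, show x * x * x = x ^ 3 by simp [pow_succ, mul_assoc], ← hx, pow_orderOf_eq_one,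
      one_smul]
  have hne' : x • d ≠ d := hne
  have hsub : ({d, x • d, x • x • d} : Finset Ω) ⊆ (MulAction.orbit (st2 G a b) d).toFinset := by
    intro y hy
    simp only [Finset.mem_insert, Finset.mem_singleton] at hy
    rw [Set.mem_toFinset]
    rcases hy with rfl | rfl | rfl
    exacts [MulAction.mem_orbit_self _, MulAction.mem_orbit _ _,
      ⟨x * x, mul_smul x x d⟩]
  have hcard : ({d, x • d, x • x • d} : Finset Ω).card = 3 := by
    have e1 : x • d ≠ x • x • d := fun e => hne' (smul_left_cancel x e).symm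
    have e2 : d ≠ x • x • d := fun e => hne' (by rw [← e] at hx3; exact hx3)
    simp [Ne.symm hne', e1, e2]
  have := Finset.card_le_card hsub
  rw [hcard, ← Set.ncard_eq_toFinset_card'] at this
  unfold orbLen at hsmall
  omega

lemma fix_conj (g k : G) : fix Ω (g * k * g⁻¹) = fix Ω k := by
  unfold fix
  refine Nat.card_congr ((MulAction.toPerm g).subtypeEquiv fun x => ?_).symm
  simp only [MulAction.mem_fixedBy, MulAction.toPerm_apply, mul_smul, inv_smul_smul, smul_left_cancel_iff]

open scoped Classical in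
/-- Double counting fixed pairs. -/
lemma pair_sum [Fintype G] (h2 : TwoTrans G Ω) {a b : Ω} (hab : a ≠ b) (F : G → ℤ)
    (hF : ∀ g k, F (g * k * g⁻¹) = F k) :
    ∑ g : G, ((fix Ω g : ℤ) ^ 2 - fix Ω g) * F g =
      ((Fintype.card Ω : ℤ) ^ 2 - Fintype.card Ω) * ∑ g ∈ Finset.univ.filter (fun g : G => g ∈ st2 G a b), F g := by
  have hsame : ∀ x y : Ω, x ≠ y → ∑ g ∈ Finset.univ.filter (fun g : G => g ∈ st2 G x y), F g =
      ∑ g ∈ Finset.univ.filter (fun g : G => g ∈ st2 G a b), F g := by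
    intro x y hxy
    obtain ⟨k, rfl, rfl⟩ := h2 a b x y hab hxy
    refine (Finset.sum_equiv (MulAut.conj k).toEquiv (fun g => ?_) (fun g _ => (hF k g).symm)).symm
    simp only [Finset.mem_filter, Finset.mem_univ, true_and]
    exact (conj_mem_st2 k g a b).symm
  set P := (Finset.univ : Finset Ω).offDiag with hP
  have hswap : ∑ p ∈ P, ∑ g ∈ Finset.univ.filter (fun g : G => g ∈ st2 G p.1 p.2), F g =
      ∑ g : G, ((P.filter (fun p => g ∈ st2 G p.1 p.2)).card : ℤ) * F g := by
    simp only [Finset.sum_filter]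
    rw [Finset.sum_comm]
    refine Finset.sum_congr rfl fun g _ => ?_
    rw [← Finset.sum_filter, Finset.sum_const, nsmul_eq_mul]
  have hcnt : ∀ g : G, ((P.filter (fun p => g ∈ st2 G p.1 p.2)).card : ℤ) = (fix Ω g : ℤ) ^ 2 - fix Ω g := by
    intro g
    have hset : P.filter (fun p => g ∈ st2 G p.1 p.2) = (Finset.univ.filter (fun x : Ω => g • x = x)).offDiag := by
      ext p
      simp [hP, mem_st2]
      tauto
    have hfx : fix Ω g = (Finset.univ.filter (fun x : Ω => g • x = x)).card := by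
      unfold fix
      rw [Nat.card_eq_fintype_card, ← Fintype.card_subtype]
      exact Fintype.card_congr (Equiv.refl _)
    rw [hset, Finset.offDiag_card, ← hfx, Nat.cast_sub (Nat.le_mul_self _), Nat.cast_mul]
    ring
  rw [Finset.sum_congr (s₁ := P) rfl (fun p hp => hsame p.1 p.2 (Finset.mem_offDiag.mp hp).2.2)] at hswap
  simp only [hcnt] at hswap
  rw [← hswap, Finset.sum_const, nsmul_eq_mul, hP, Finset.offDiag_card, Finset.card_univ,
    Nat.cast_sub (Nat.le_mul_self _), Nat.cast_mul]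
  ring

/-- Weighted count over the elements with a fixed point. -/
noncomputable def wt (n π : ℕ) : ℤ := if π = 0 then 0 else ((π : ℤ) - 1) * ((n : ℤ) - π)

lemma no_fail_e_one [FaithfulSMul G Ω] (h2 : TwoTrans G Ω) {a b : Ω} (hab : a ≠ b) (hn : 7 ≤ Fintype.card Ω)
    {c : Ω} (h3 : orbLen G a b c = 3) {x : G} (hx : orderOf x = 3)
    (hx' : ∀ d : Ω, True) [DecidableEq Ω] (hsupp : (Finset.univ.filter (fun d : Ω => x • d ≠ d)).card ≤ 3) : False := by
  set σ : Equiv.Perm Ω := MulAction.toPerm x with hσ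
  have hs1 : σ ≠ 1 := fun h => by
    have hx1 : x = 1 := eq_of_smul_eq_smul (α := Ω) fun d => by
      rw [one_smul]; exact Equiv.Perm.ext_iff.mp h d
    rw [hx1, orderOf_one] at hx; omega
  have hpow : σ ^ 3 = 1 := by
    rw [hσ, ← MulAction.toPermHom_apply, ← map_pow, ← hx, pow_orderOf_eq_one, map_one]
  have hsupp' : σ.support.card ≤ 3 := by
    refine le_trans (le_of_eq (congrArg Finset.card ?_)) hsupp
    ext d; simp [hσ, Equiv.Perm.mem_support]
  have h3c : σ.IsThreeCycle := by
    rw [← card_support_eq_three_iff]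
    have h2' : 2 ≤ σ.support.card := Equiv.Perm.two_le_card_support_of_ne_one hs1
    rcases (by omega : σ.support.card = 2 ∨ σ.support.card = 3) with h | h
    · exfalso
      obtain ⟨u, v, huv, hsw⟩ := Equiv.Perm.card_support_eq_two.mp h
      rw [hsw] at hpow
      simp [pow_succ, Equiv.swap_mul_self, Equiv.swap_eq_one_iff, huv] at hpow
    · exact h
  have hsub : (σ : Equiv.Perm Ω) ∈ (MulAction.toPermHom G Ω).range := ⟨x, rfl⟩
  have hprim : MulAction.IsPreprimitive G Ω := by
    have hmt : MulAction.IsMultiplyPretransitive G Ω 2 := by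
      rw [MulAction.is_two_pretransitive_iff]
      exact fun {u v w z} huv hwz => h2 u v w z huv hwz
    exact MulAction.isPreprimitive_of_is_two_pretransitive hmt
  have hA : alternatingGroup Ω ≤ (MulAction.toPermHom G Ω).range := by
    refine Equiv.Perm.alternatingGroup_le_of_isPreprimitive_of_isThreeCycle_mem ?_ h3c hsub
    exact MulAction.IsPreprimitive.of_surjective
      (φ := (MulAction.toPermHom G Ω).rangeRestrict)
      (f := ({ toFun := id, map_smul' := fun g d => rfl } : Ω →ₑ[(MulAction.toPermHom G Ω).rangeRestrict] Ω))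
      Function.surjective_id
  have hcab : c ≠ a ∧ c ≠ b := by
    constructor <;> intro hcc <;> subst hcc
    · have hle : orbLen G c b c ≤ 1 := (Set.ncard_le_one (Set.toFinite _)).mpr (by
        rintro _ ⟨u, rfl⟩ _ ⟨v, rfl⟩; exact u.2.1.trans v.2.1.symm)
      omega
    · have hle : orbLen G a c c ≤ 1 := (Set.ncard_le_one (Set.toFinite _)).mpr (by
        rintro _ ⟨u, rfl⟩ _ ⟨v, rfl⟩; exact u.2.2.trans v.2.2.symm)
      omega
  have hall : (Finset.univ \ ({a, b} : Finset Ω) : Finset Ω).card ≤ 3 := by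
    rw [← h3, orbLen, ← Set.ncard_coe_finset]
    refine Set.ncard_le_ncard ?_
    intro d hd
    simp only [Finset.coe_sdiff, Set.mem_diff, Finset.mem_coe, Finset.mem_univ, true_and, Finset.mem_insert,
      Finset.mem_singleton, not_or] at hd
    by_cases hdc : d = c
    · rw [hdc]; exact MulAction.mem_orbit_self c
    obtain ⟨z, hz⟩ : ∃ z, z ∉ ({a, b, c, d} : Finset Ω) := by
      by_contra hcon
      push_neg at hcon
      have := Finset.card_le_card (fun y (_ : y ∈ (Finset.univ : Finset Ω)) => hcon y)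
      have h4 : ({a, b, c, d} : Finset Ω).card ≤ 4 := Finset.card_le_four
      rw [Finset.card_univ] at this
      omega
    simp only [Finset.mem_insert, Finset.mem_singleton, not_or] at hz
    have hmem : Equiv.swap c d * Equiv.swap c z ∈ alternatingGroup Ω := by
      rw [Equiv.Perm.mem_alternatingGroup, map_mul, Equiv.Perm.sign_swap (Ne.symm hdc),
        Equiv.Perm.sign_swap (Ne.symm hz.2.2.1)]
      simp
    obtain ⟨k, hk⟩ := hA hmem
    have hkk : ∀ y, k • y = Equiv.swap c d (Equiv.swap c z y) := fun y => Equiv.Perm.ext_iff.mp hk y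
    have hka : k • a = a := by
      rw [hkk, Equiv.swap_apply_of_ne_of_ne (Ne.symm hcab.1) (Ne.symm hz.1),
        Equiv.swap_apply_of_ne_of_ne (Ne.symm hcab.1) (Ne.symm hd.1)]
    have hkb : k • b = b := by
      rw [hkk, Equiv.swap_apply_of_ne_of_ne (Ne.symm hcab.2) (Ne.symm hz.2.1),
        Equiv.swap_apply_of_ne_of_ne (Ne.symm hcab.2) (Ne.symm hd.2)]
    have hkz : k • z = d := by
      rw [hkk, Equiv.swap_apply_right, Equiv.swap_apply_left]
    have hmem' : Equiv.swap c z * Equiv.swap c d ∈ alternatingGroup Ω := by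
      rw [Equiv.Perm.mem_alternatingGroup, map_mul, Equiv.Perm.sign_swap (Ne.symm hdc),
        Equiv.Perm.sign_swap (Ne.symm hz.2.2.1)]
      simp
    obtain ⟨l, hl⟩ := hA hmem'
    have hll : ∀ y, l • y = Equiv.swap c z (Equiv.swap c d y) := fun y => Equiv.Perm.ext_iff.mp hl y
    refine ⟨⟨l, ?_, ?_⟩, ?_⟩
    · show l • a = a
      rw [hll, Equiv.swap_apply_of_ne_of_ne (Ne.symm hcab.1) (Ne.symm hd.1),
        Equiv.swap_apply_of_ne_of_ne (Ne.symm hcab.1) (Ne.symm hz.1)]
    · show l • b = b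
      rw [hll, Equiv.swap_apply_of_ne_of_ne (Ne.symm hcab.2) (Ne.symm hd.2),
        Equiv.swap_apply_of_ne_of_ne (Ne.symm hcab.2) (Ne.symm hz.2.1)]
    · show l • c = d
      rw [hll, Equiv.swap_apply_left, Equiv.swap_apply_of_ne_of_ne hdc (Ne.symm hz.2.2.2)]
  have : (Finset.univ \ ({a, b} : Finset Ω) : Finset Ω).card = Fintype.card Ω - 2 := by
    rw [Finset.card_sdiff_of_subset (Finset.subset_univ _), Finset.card_univ, Finset.card_pair hab]
  omega

/-- The main inequality for a 2-transitive group that is not sharply 2-transitive. -/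
lemma main_ineq [FaithfulSMul G Ω] [Fintype G] (h2 : TwoTrans G Ω) {a b : Ω} (hab : a ≠ b)
    (hn : 7 ≤ Fintype.card Ω) (hh : 2 ≤ Nat.card (st2 G a b)) :
    ((Fintype.card Ω : ℤ) ^ 2 - Fintype.card Ω) * Nat.card (st2 G a b) ≤
      ∑ g : G, wt (Fintype.card Ω) (fix Ω g) := by
  classical
  set n := Fintype.card Ω with hndef
  set h := Nat.card (st2 G a b) with hhdef
  set f := (line G a b).card with hfdef
  set N : ℤ := (n : ℤ) ^ 2 - n with hN
  set S := ∑ g : G, wt n (fix Ω g) with hSdef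
  set H' := Finset.univ.filter (fun g : G => g ∈ st2 G a b) with hH'
  have hH'card : H'.card = h := by
    rw [hH', hhdef, Nat.card_eq_fintype_card, ← Fintype.card_subtype]
  have h1H : (1 : G) ∈ H' := by simp [hH', Subgroup.one_mem]
  set T : ℤ := ∑ g ∈ H'.erase 1, (fix Ω g : ℤ) with hT
  have hO : T + n = (numOrbits (st2 G a b) Ω : ℤ) * h := by
    letI : Fintype (st2 G a b) := Fintype.ofFinite _
    have h1 := sum_fix (st2 G a b) Ω
    have h3 : ∑ g ∈ H', (fix Ω g : ℤ) = ∑ g : st2 G a b, (fix Ω g : ℤ) := by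
      rw [Finset.sum_subtype (p := fun g => g ∈ st2 G a b) H' (fun g => by simp [hH']) (fun g => (fix Ω g : ℤ))]
      rfl
    rw [hT, ← Nat.card_eq_fintype_card (α := Ω)] at *
    have h4 := Finset.sum_erase_add H' (fun g => (fix Ω g : ℤ)) h1H
    rw [fix_one] at h4
    rw [hhdef]
    have h5 : ∑ g : st2 G a b, (fix Ω g : ℤ) = (numOrbits (st2 G a b) Ω : ℤ) * (Nat.card (st2 G a b) : ℤ) := by
      exact_mod_cast h1
    linarith
  have hfixH : ∀ g ∈ H'.erase 1, f ≤ fix Ω g ∧ g ≠ 1 := by
    intro g hg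
    obtain ⟨hg1, hgH⟩ := Finset.mem_erase.mp hg
    refine ⟨?_, hg1⟩
    rw [hfdef, fix, Nat.card_eq_fintype_card, Fintype.card_of_finset' (Finset.univ.filter (fun x : Ω => g • x = x)) (by simp)]
    refine Finset.card_le_card fun x hx => ?_
    simp only [Finset.mem_filter, Finset.mem_univ, true_and]
    exact mem_line.mp hx g (by simpa [hH'] using hgH)
  have hf2 : 2 ≤ f := Finset.one_lt_card.mpr ⟨a, left_mem_line a b, b, right_mem_line a b, hab⟩
  have hE1 : (H'.erase 1).card = h - 1 := by rw [Finset.card_erase_of_mem h1H, hH'card]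
  have hTpos : 0 < T := by
    refine Finset.sum_pos (fun g hg => by have := (hfixH g hg).1; omega) ?_
    exact Finset.card_pos.mp (by omega)
  have hid : ∀ (c₁ c₂ : ℤ), ∑ g : G, ((fix Ω g : ℤ) ^ 2 - fix Ω g) *
      (if g = 1 then 0 else c₁ + c₂ * fix Ω g) = N * (c₁ * ((h : ℤ) - 1) + c₂ * T) := by
    intro c₁ c₂
    rw [pair_sum h2 hab _ (fun g k => by simp only [conj_eq_one_iff, fix_conj]), ← hH', ← hN,
      ← Finset.sum_erase_add H' _ h1H]
    rw [if_pos rfl, add_zero, Finset.sum_congr rfl (fun g hg => if_neg (hfixH g hg).2), Finset.sum_add_distrib,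
      Finset.sum_const, ← Finset.mul_sum, ← hT, nsmul_eq_mul, hE1, Nat.cast_sub (by omega), Nat.cast_one]
    ring
  by_contra hfail
  have hfail' : S < N * h := not_le.mp hfail
  have hN0 : 0 < N := by
    have : (7 : ℤ) ≤ n := by exact_mod_cast hn
    rw [hN]; nlinarith
  -- consequence of convexity
  have hA : ((h : ℤ) - 1) ^ 2 * n < (2 * (h : ℤ) - 1) * T := by
    set u : ℤ := n * ((h : ℤ) - 1) with hu
    have hle : ∀ g : G, ((fix Ω g : ℤ) ^ 2 - fix Ω g) *
        (if g = 1 then 0 else (2 * u * T - T ^ 2) * n + (-u ^ 2) * fix Ω g) ≤ T ^ 2 * n * wt n (fix Ω g) := by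
      intro g
      split_ifs with hg
      · rw [hg, fix_one, Nat.card_eq_fintype_card, wt]
        split_ifs <;> simp [hndef]
      · unfold wt
        split_ifs with h0
        · rw [h0]; simp
        · have h1 : (1 : ℤ) ≤ fix Ω g := by exact_mod_cast Nat.one_le_iff_ne_zero.mpr h0
          have := mul_nonneg (by linarith : (0 : ℤ) ≤ (fix Ω g : ℤ) - 1) (sq_nonneg ((n : ℤ) * T - fix Ω g * u))
          nlinarith
    have h1 := Finset.sum_le_sum (s := (Finset.univ : Finset G)) fun g _ => hle g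
    rw [hid, ← Finset.mul_sum, ← hSdef] at h1
    have hn0 : (0 : ℤ) < n := by exact_mod_cast (by omega : 0 < n)
    have h3 : N * ((n : ℤ) * T * (((h : ℤ) - 1) * (u - T))) ≤ T ^ 2 * n * S := by
      refine le_trans (le_of_eq ?_) h1
      rw [hu]; ring
    by_contra hcon
    have h4 : (h : ℤ) * T ≤ ((h : ℤ) - 1) * (u - T) := by rw [hu]; linarith [not_lt.mp hcon]
    have h5 : N * ((n : ℤ) * T * ((h : ℤ) * T)) ≤ N * ((n : ℤ) * T * (((h : ℤ) - 1) * (u - T))) :=
      mul_le_mul_of_nonneg_left (mul_le_mul_of_nonneg_left h4 (by positivity)) hN0.le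
    have h6 : T ^ 2 * n * S < T ^ 2 * n * (N * h) := mul_lt_mul_of_pos_left hfail' (by positivity)
    linarith
  have hB : ∀ B : ℕ, (∀ g : G, g ≠ 1 → fix Ω g ≤ B) → ((h : ℤ) - 1) * ((n : ℤ) - B) < h * B := by
    intro B hBd
    have hle : ∀ g : G, ((fix Ω g : ℤ) ^ 2 - fix Ω g) *
        (if g = 1 then 0 else ((n : ℤ) - B) + 0 * fix Ω g) ≤ (B : ℤ) * wt n (fix Ω g) := by
      intro g
      split_ifs with hg
      · rw [hg, fix_one, Nat.card_eq_fintype_card, wt]
        split_ifs <;> simp [hndef]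
      · unfold wt
        split_ifs with h0
        · rw [h0]; simp
        · have h1 : (1 : ℤ) ≤ fix Ω g := by exact_mod_cast Nat.one_le_iff_ne_zero.mpr h0
          have h3 : (fix Ω g : ℤ) ≤ B := by exact_mod_cast hBd g hg
          have hprod : (0 : ℤ) ≤ ((fix Ω g : ℤ) - 1) * ((n : ℤ) * ((B : ℤ) - fix Ω g)) :=
            mul_nonneg (by linarith) (mul_nonneg (by positivity) (by linarith))
          nlinarith
    have h1 := Finset.sum_le_sum (s := (Finset.univ : Finset G)) fun g _ => hle g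
    rw [hid, ← Finset.mul_sum, ← hSdef, zero_mul, add_zero] at h1
    by_contra hcon
    have h3 := mul_le_mul_of_nonneg_left (not_lt.mp hcon) hN0.le
    rcases Nat.eq_zero_or_pos B with hB0 | hB0
    · obtain ⟨g, hg⟩ := Finset.card_pos.mp (by omega : 0 < (H'.erase 1).card)
      have := (hfixH g hg).1
      have := hBd g (hfixH g hg).2
      omega
    · have h4 : (B : ℤ) * S < B * (N * h) := mul_lt_mul_of_pos_left hfail' (by exact_mod_cast hB0)
      linarith
  obtain ⟨e, heq, he0, he1⟩ := orbit_count (G := G) a b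
  -- `n < (f - e) (2 h - 1)`
  have hC : (n : ℤ) < ((f : ℤ) - e) * (2 * (h : ℤ) - 1) := by
    have he' : 2 * (numOrbits (st2 G a b) Ω : ℤ) + e = (n : ℤ) + f := by exact_mod_cast heq
    have hh' : (2 : ℤ) ≤ h := by exact_mod_cast hh
    have h1 : (h : ℤ) * (h * n) < h * ((2 * (h : ℤ) - 1) * numOrbits (st2 G a b) Ω) := by linear_combination hA + (2 * (h : ℤ) - 1) * hO
    have h3 := lt_of_mul_lt_mul_left h1 (by linarith)
    linear_combination 2 * h3 + (2 * (h : ℤ) - 1) * he'
  obtain ⟨c₀, hc₀⟩ : ∃ c, c ∉ line G a b := by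
    by_contra hcon
    push_neg at hcon
    have : st2 G a b = ⊥ := (Subgroup.eq_bot_iff_forall _).mpr fun g hg =>
      eq_of_smul_eq_smul (α := Ω) fun x => by rw [one_smul]; exact mem_line.mp (hcon x) g hg
    rw [hhdef, this, Subgroup.card_bot] at hh
    omega
  set ρ := (linesAt G c₀).card with hρdef
  have hρn : n - 1 = ρ * (f - 1) := card_linesAt_mul h2 hab c₀
  have hρall : ∀ c, (linesAt G c).card = ρ := fun c => by
    have := card_linesAt_mul h2 hab c
    rw [hρn] at this
    exact Nat.eq_of_mul_eq_mul_right (by omega) this.symm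
  have hρf : f ≤ ρ := card_line_le_linesAt h2 hab hc₀
  have hmove : ∀ g : G, g ≠ 1 → ∃ c : Ω, g • c ≠ c := fun g hg => by
    by_contra hcon
    push_neg at hcon
    exact hg (eq_of_smul_eq_smul (α := Ω) fun x => by rw [hcon x, one_smul])
  have hb1 : ∀ g : G, g ≠ 1 → fix Ω g ≤ ρ + f - 2 := fun g hg => by
    obtain ⟨c, hc⟩ := hmove g hg
    have := (fix_bound h2 hab g hc).1
    rw [hρall, ← hfdef] at this
    omega
  have hρnZ : (n : ℤ) - 1 = (ρ : ℤ) * ((f : ℤ) - 1) := by
    have : ((n - 1 : ℕ) : ℤ) = ((ρ * (f - 1) : ℕ) : ℤ) := by rw [hρn]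
    rw [Nat.cast_sub (by omega), Nat.cast_mul, Nat.cast_sub (by omega), Nat.cast_one] at this
    exact this
  -- lines of size at least five are impossible
  have hf4 : f ≤ 4 := by
    by_contra hf5
    have h1 := hB _ hb1
    rw [Nat.cast_sub (by omega), Nat.cast_add, Nat.cast_ofNat] at h1
    set B : ℤ := (ρ : ℤ) + f - 2 with hBdef
    have hf5' : (5 : ℤ) ≤ f := by exact_mod_cast (by omega : 5 ≤ f)
    have hρf' : (f : ℤ) ≤ ρ := by exact_mod_cast hρf
    have hh' : (2 : ℤ) ≤ h := by exact_mod_cast hh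
    have hp := mul_nonneg (by linarith : (0 : ℤ) ≤ (f : ℤ) - 5) (by linarith : (0 : ℤ) ≤ (f : ℤ) - 1)
    have hq := mul_nonneg (by linarith : (0 : ℤ) ≤ (ρ : ℤ) - f) (by linarith : (0 : ℤ) ≤ (f : ℤ) - 3)
    have h2B : 2 * B + f ≤ n := by nlinarith [hBdef]
    have he' : (0 : ℤ) ≤ (e : ℤ) * (2 * (h : ℤ) - 1) := mul_nonneg (by positivity) (by linarith)
    have h5 : (n : ℤ) - f < 2 * (f : ℤ) * ((h : ℤ) - 1) := by linarith
    have h6 : ((n : ℤ) - f) * ((n : ℤ) - 2 * B) ≤ (2 * (f : ℤ) * ((h : ℤ) - 1)) * ((n : ℤ) - 2 * B) :=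
      mul_le_mul_of_nonneg_right h5.le (by linarith)
    have h7 : 2 * (f : ℤ) * (((h : ℤ) - 1) * ((n : ℤ) - 2 * B)) < 2 * (f : ℤ) * B :=
      mul_lt_mul_of_pos_left (by linarith) (by linarith)
    have h8 : (0 : ℤ) ≤ (n : ℤ) * ((n : ℤ) - f - 2 * B) := mul_nonneg (by positivity) (by linarith)
    nlinarith
  rcases Nat.lt_or_ge e 1 with he | he
  · -- all suborbits are short
    obtain rfl : e = 0 := by omega
    have hS := short_of_orbLen h2 hab (he0 rfl)
    have hbot := inf_eq_bot_of_short h2 hS hab hc₀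
    have h22 : h = 2 := by
      have := hS a b c₀ hab hc₀
      rw [hbot, Subgroup.card_bot] at this
      omega
    rw [h22] at hC
    push_cast at hC
    have hn' : n < 3 * f := by
      have : (n : ℤ) < 3 * f := by linarith
      exact_mod_cast this
    interval_cases f
    · omega
    · have : n = 7 := by omega
      exact no_fano h2 hab h22 this hfdef.symm
    · omega
  · have heZ : (1 : ℤ) ≤ e := by exact_mod_cast he
    have hef : e < f := by
      by_contra hcon
      have : (f : ℤ) ≤ e := by exact_mod_cast not_lt.mp hcon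
      have : (0 : ℤ) ≤ ((e : ℤ) - f) * (2 * (h : ℤ) - 1) :=
        mul_nonneg (by linarith) (by have : (2 : ℤ) ≤ h := (by exact_mod_cast hh); linarith)
      have : (0 : ℤ) ≤ (n : ℤ) := by positivity
      linarith
    interval_cases f
    · -- `f = 2`
      obtain rfl : e = 1 := by omega
      obtain ⟨c, hc3, hd⟩ := he1 rfl
      obtain ⟨x, hx, hsupp⟩ := exists_three a b c hc3 hd
      exact no_fail_e_one h2 hab hn hc3 hx (fun _ => trivial) hsupp
    · -- `f = 3`
      have h3' : (line G a b).card = 3 := hfdef.symm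
      have h1 := hB ρ (fun g hg => by
        obtain ⟨c, hc⟩ := hmove g hg
        have := (fix_bound h2 hab g hc).2 h3'
        rwa [hρall] at this)
      have hρ2 : (n : ℤ) = 2 * ρ + 1 := by push_cast at hρnZ; linarith
      rcases (by omega : e = 1 ∨ e = 2) with rfl | rfl
      · omega
      · push_cast at hC
        rw [hρ2] at h1
        linarith
    · -- `f = 4`
      have hn3 : n = 3 * ρ + 1 := by omega
      have h1 := hB _ hb1
      have hρ6 : ρ ≤ 6 := by
        by_contra hcon
        have hρ7 : (7 : ℤ) ≤ ρ := by exact_mod_cast (by omega : 7 ≤ ρ)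
        rw [Nat.cast_sub (by omega), Nat.cast_add, Nat.cast_ofNat] at h1
        have hh' : (2 : ℤ) ≤ h := by exact_mod_cast hh
        have hnZ : (n : ℤ) = 3 * ρ + 1 := by exact_mod_cast hn3
        push_cast at hC h1
        rw [hnZ] at h1 hC
        have hmul : (0 : ℤ) ≤ ((e : ℤ) - 1) * (2 * (h : ℤ) - 1) := mul_nonneg (by linarith) (by linarith)
        have hk : (ρ : ℤ) + 1 ≤ 2 * (h : ℤ) - 1 := by linarith
        nlinarith
      interval_cases ρ
      · -- thirteen points
        rw [hn3] at hC h1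
        norm_num at hC h1
        rcases (by omega : e = 1 ∨ e = 2 ∨ e = 3) with rfl | rfl | rfl
        · obtain ⟨c, hc3, hd⟩ := he1 rfl
          obtain ⟨x, hx, hsupp⟩ := exists_three a b c hc3 hd
          have hx1 : x ≠ 1 := fun e => by rw [e, orderOf_one] at hx; omega
          have hle := hb1 x hx1
          have hge : n ≤ fix Ω x + 3 := by
            have := Finset.card_filter_add_card_filter_not (s := (Finset.univ : Finset Ω)) (fun d : Ω => x • d ≠ d)
            simp only [not_not] at this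
            rw [Finset.card_univ, ← Fintype.card_subtype, ← Fintype.card_subtype] at this
            rw [← Fintype.card_subtype] at hsupp
            rw [fix, Nat.card_eq_fintype_card]
            have e2 : Fintype.card ↥(MulAction.fixedBy Ω x) = Fintype.card {d : Ω // x • d = d} :=
              Fintype.card_congr (Equiv.refl _)
            omega
          omega
        · omega
        · omega
      · rw [hn3] at hC h1
        norm_num at hC h1
        rcases (by omega : e = 1 ∨ e = 2 ∨ e = 3) with rfl | rfl | rfl <;> omega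
      · rw [hn3] at hC h1
        norm_num at hC h1
        rcases (by omega : e = 1 ∨ e = 2 ∨ e = 3) with rfl | rfl | rfl <;> omega

end


/-- Let a finite group G act faithfully and transitively on a set with n ≥ 7 points. Then either G is a Frobenius permutation group (Frobenius as a permutation group: transitive, some non-identity element fixes a point, and no non-identity element fixes two points) of order n(n − 1)/a with a ∈ {1, 2}, in which case exactly a|G|/n of its elements are derangements, or the number of derangements is at least 2|G|/n. (Equality does occur: PSL₃(2) acting on the 7 points of the Fano plane has exactly 2|G|/7 derangements.) -/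
theorem result {G Ω : Type*} [Group G] [Finite G] [MulAction G Ω] [FaithfulSMul G Ω] [Fintype Ω] (htr : MulAction.IsPretransitive G Ω) (hn : 7 ≤ Fintype.card Ω) :
    (∃ a : ℕ, (a = 1 ∨ a = 2) ∧ (MulAction.IsPretransitive G Ω ∧ (∃ g : G, g ≠ 1 ∧ ∃ ω : Ω, g • ω = ω) ∧ ∀ g : G, g ≠ 1 → Nat.card (MulAction.fixedBy Ω g) ≤ 1) ∧ a * Nat.card G = Fintype.card Ω * (Fintype.card Ω - 1) ∧ Fintype.card Ω * Nat.card {g : G // ∀ ω : Ω, g • ω ≠ ω} = a * Nat.card G) ∨
    2 * Nat.card G ≤ Fintype.card Ω * Nat.card {g : G // ∀ ω : Ω, g • ω ≠ ω} := by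
  classical
  haveI := htr
  haveI := Fintype.ofFinite G
  haveI : Nontrivial Ω := Fintype.one_lt_card_iff_nontrivial.mp (by omega)
  set n := Fintype.card Ω with hndef
  set r := numOrbits G (Ω × Ω) with hrdef
  have hr : 2 ≤ r := two_le_numOrbits_prod G Ω
  have hncard : Nat.card Ω = n := Nat.card_eq_fintype_card
  have h1 : ∑ g : G, (fix Ω g : ℤ) = (Nat.card G : ℤ) := by
    have := sum_fix G Ω
    rw [numOrbits_eq_one, one_mul] at this
    exact_mod_cast this
  have h2 : ∑ g : G, (fix Ω g : ℤ) ^ 2 = (r : ℤ) * Nat.card G := by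
    have := sum_fix G (Ω × Ω)
    simp only [fix_prod] at this
    simp only [pow_two]
    exact_mod_cast this
  set D := Finset.univ.filter (fun g : G => fix Ω g = 0) with hD
  have hDcard : Nat.card {g : G // ∀ ω : Ω, g • ω ≠ ω} = D.card := by
    rw [Nat.card_eq_fintype_card, Fintype.card_subtype, hD]
    congr 1
    ext g
    simp only [Finset.mem_filter, Finset.mem_univ, true_and]
    exact (fix_eq_zero_iff g).symm
  rw [hDcard]
  have hsum : ∑ g : G, wt n (fix Ω g) = (n : ℤ) * D.card - ((r : ℤ) - 1) * Nat.card G := by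
    have hw : ∀ g : G, wt n (fix Ω g) =
        ((n : ℤ) + 1) * (fix Ω g : ℤ) - (fix Ω g : ℤ) ^ 2 - n + (if fix Ω g = 0 then (n : ℤ) else 0) := by
      intro g
      unfold wt
      split_ifs with h0
      · rw [h0]; push_cast; ring
      · ring
    simp only [hw, Finset.sum_add_distrib, Finset.sum_sub_distrib, ← Finset.mul_sum, h1, h2, Finset.sum_const,
      Finset.card_univ, nsmul_eq_mul, ← Nat.card_eq_fintype_card, ← Finset.sum_filter]
    rw [← hD]
    ring
  have hwt0 : ∀ g : G, 0 ≤ wt n (fix Ω g) := by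
    intro g
    unfold wt
    split_ifs with h0
    · exact le_rfl
    · have hle : fix Ω g ≤ n := hncard ▸ fix_le g
      apply mul_nonneg <;> omega
  have hS0 : 0 ≤ ∑ g : G, wt n (fix Ω g) := Finset.sum_nonneg fun g _ => hwt0 g
  by_cases hr3 : 3 ≤ r
  · right
    have hG : (0 : ℤ) ≤ ((r : ℤ) - 3) * Nat.card G :=
      mul_nonneg (by have : (3 : ℤ) ≤ r := (by exact_mod_cast hr3); linarith) (by positivity)
    have : (2 : ℤ) * Nat.card G ≤ (n : ℤ) * D.card := by linarith
    exact_mod_cast this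
  have hr2 : (r : ℤ) = 2 := by exact_mod_cast (by omega : r = 2)
  have h2t : TwoTrans G Ω := twoTrans_of_numOrbits (by omega)
  obtain ⟨a, b, hab⟩ := exists_pair_ne Ω
  set h := Nat.card (st2 G a b) with hhdef
  have hGh : (Nat.card G : ℤ) = ((n : ℤ) ^ 2 - n) * h := by
    have := pair_sum h2t hab (fun _ => (1 : ℤ)) (fun _ _ => rfl)
    simp only [mul_one, Finset.sum_sub_distrib, h1, h2, hr2, Finset.sum_const, nsmul_eq_mul] at this
    simp only [← Fintype.card_subtype, ← Nat.card_eq_fintype_card] at this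
    rw [hhdef, hndef, ← Nat.card_eq_fintype_card]
    linarith [this]
  by_cases hh : 2 ≤ h
  · right
    have := main_ineq h2t hab hn hh
    rw [← hndef, ← hhdef, ← hGh, hsum, hr2] at this
    have : (2 : ℤ) * Nat.card G ≤ (n : ℤ) * D.card := by linarith
    exact_mod_cast this
  left
  have hh1 : h = 1 := by
    have : 0 < h := Nat.card_pos
    omega
  refine ⟨1, Or.inl rfl, ?_, ?_, ?_⟩
  · have hfix1 : ∀ g : G, g ≠ 1 → Nat.card (MulAction.fixedBy Ω g) ≤ 1 := by
      intro g hg
      by_contra hcon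
      obtain ⟨x, y, hxy⟩ := (Finite.one_lt_card_iff_nontrivial.mp (not_le.mp hcon)).exists_pair_ne
      have hxy' : (x : Ω) ≠ y := fun e => hxy (Subtype.ext e)
      have hbot : st2 G (x : Ω) y = ⊥ := Subgroup.eq_bot_of_card_eq _ (by rw [card_st2_eq h2t hxy' hab]; exact hh1)
      have hmem : g ∈ st2 G (x : Ω) y := ⟨x.2, y.2⟩
      rw [hbot, Subgroup.mem_bot] at hmem
      exact hg hmem
    refine ⟨htr, ?_, hfix1⟩
    obtain ⟨c, hca, hcb⟩ : ∃ c : Ω, c ≠ a ∧ c ≠ b := by
      obtain ⟨c, hc⟩ := Finset.exists_mem_notMem_of_card_lt_card (s := ({a, b} : Finset Ω)) (t := Finset.univ)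
        (by rw [Finset.card_univ]; exact lt_of_le_of_lt Finset.card_le_two (by omega))
      exact ⟨c, by simpa using hc.2⟩
    obtain ⟨g, hga, hgb⟩ := h2t a b a c hab (Ne.symm hca)
    exact ⟨g, fun e => hcb (by rw [← hgb, e, one_smul]), a, hga⟩
  · have hGn : (Nat.card G : ℤ) = ((n * (n - 1) : ℕ) : ℤ) := by
      rw [hGh, hh1, Nat.cast_mul, Nat.cast_sub (by omega)]; push_cast; ring
    rw [one_mul]; exact_mod_cast hGn
  · have hfix1 : ∀ g : G, wt n (fix Ω g) = 0 := by
      intro g
      unfold wt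
      split_ifs with h0
      · rfl
      · by_cases hg : g = 1
        · rw [hg, fix_one, hncard]; simp
        · have : fix Ω g ≤ 1 := by
            by_contra hcon
            obtain ⟨x, y, hxy⟩ := (Finite.one_lt_card_iff_nontrivial.mp (not_le.mp hcon)).exists_pair_ne
            have hxy' : (x : Ω) ≠ y := fun e => hxy (Subtype.ext e)
            have hbot : st2 G (x : Ω) y = ⊥ := Subgroup.eq_bot_of_card_eq _ (by rw [card_st2_eq h2t hxy' hab]; exact hh1)
            have hmem : g ∈ st2 G (x : Ω) y := ⟨x.2, y.2⟩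
            rw [hbot, Subgroup.mem_bot] at hmem
            exact hg hmem
          have : fix Ω g = 1 := by omega
          rw [this]; simp
    rw [Finset.sum_eq_zero (fun g _ => hfix1 g), hr2] at hsum
    have : (n : ℤ) * D.card = ((1 * Nat.card G : ℕ) : ℤ) := by push_cast; linarith
    exact_mod_cast this

end Cfsg.Agent.S5730
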