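import Cfsg.Statements.S5732
import Cfsg.Agent.Lib.DerangeIndexTransitive21

set_option autoImplicit false
open Cfsg

namespace Cfsg.Agent.S5732

/-- There is a bound N such that for every finite group G acting faithfully and transitively on a set with n ≥ N points, either G is primitive and a Frobenius permutation group (Frobenius as a permutation group: transitive, some non-identity element fixes a point, and no non-identity element fixes two points), or the subgroup generated by the derangements of G has index at most √n − 1 in G. -/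
theorem result : ∃ N : ℕ, ∀ (G Ω : Type*) [Group G] [Finite G] [MulAction G Ω] [FaithfulSMul G Ω] [Fintype Ω],
      MulAction.IsPretransitive G Ω → N ≤ Fintype.card Ω →
      (MulAction.IsPreprimitive G Ω ∧ (MulAction.IsPretransitive G Ω ∧ (∃ g : G, g ≠ 1 ∧ ∃ ω : Ω, g • ω = ω) ∧ ∀ g : G, g ≠ 1 → Nat.card (MulAction.fixedBy Ω g) ≤ 1)) ∨
      ((Subgroup.closure {g : G | ∀ ω : Ω, g • ω ≠ ω}).index : ℝ) ≤ Real.sqrt (Fintype.card Ω) - 1 := by
  refine ⟨4, fun G Ω _ _ _ _ _ htr h4 => ?_⟩
  have := htr
  by_cases hg : ((DerangementSubgroup.derSub G Ω).index + 1) ^ 2 ≤ Nat.card Ω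
  · right
    rw [le_sub_iff_add_le]
    rw [Nat.card_eq_fintype_card (α := Ω)] at hg
    exact Real.le_sqrt_of_sq_le (by exact_mod_cast hg)
  · have h4' : 4 ≤ Nat.card Ω := by rwa [Nat.card_eq_fintype_card]
    obtain ⟨h1, h2, h3⟩ := DerangeIndex.index_or_frobenius h4' hg
    exact Or.inl ⟨h1, htr, h2, h3⟩

end Cfsg.Agent.S5732
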