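import Cfsg.Statements.S5737
import Cfsg.Agent.Lib.SuzukiGroupBinaryMain
import Cfsg.Agent.Lib.SuzukiGroupLie

set_option autoImplicit false
open Cfsg

namespace Cfsg.Agent.S5737

open Cfsg.Agent.SuzukiBinary Cfsg.Agent.SuzukiGroupBasic Cfsg.Agent.SuzukiGroupStructure

/-- The centre of a subgroup, as a subgroup of the whole group. -/
def centreIn {X : Type*} [Group X] (U : Subgroup X) : Subgroup X := (Subgroup.center U).map U.subtype

theorem mem_centreIn {X : Type*} [Group X] {U : Subgroup X} {g : X} :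
    g ∈ centreIn U ↔ g ∈ U ∧ ∀ h ∈ U, h * g = g * h := by
  constructor
  · rintro ⟨⟨z, hz⟩, hzc, rfl⟩
    exact ⟨hz, fun h hh => congrArg Subtype.val (Subgroup.mem_center_iff.mp hzc ⟨h, hh⟩)⟩
  · rintro ⟨hg, hc⟩
    exact ⟨⟨g, hg⟩, Subgroup.mem_center_iff.mpr fun h => Subtype.ext (hc h h.2), rfl⟩

theorem centreIn_map {X Y : Type*} [Group X] [Group Y] (e : X ≃* Y) (U : Subgroup X) :
    centreIn (U.map e.toMonoidHom) = (centreIn U).map e.toMonoidHom := by
  ext g
  rw [Subgroup.mem_map_equiv, mem_centreIn, mem_centreIn, Subgroup.mem_map_equiv]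
  refine and_congr_right fun _ => ⟨fun h x hx => ?_, fun h x hx => ?_⟩
  · have := congrArg e.symm (h (e x) (by rw [Subgroup.mem_map_equiv, e.symm_apply_apply]; exact hx))
    rwa [map_mul, map_mul, e.symm_apply_apply] at this
  · refine e.symm.injective ?_
    rw [map_mul, map_mul]
    exact h _ (Subgroup.mem_map_equiv.mp hx)

theorem centreIn_unipotent {F : Type*} [Field F] {m : ℕ} [Param F m] :
    centreIn (unipotent : Subgroup ↥(Cfsg.Sz F m)) = zInf F m := by
  ext g
  rw [mem_centreIn]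
  constructor
  · rintro ⟨⟨a, b, rfl⟩, hc⟩
    exact ⟨b, by rw [(commute_Ts_iff a b).mp hc]⟩
  · rintro ⟨b, rfl⟩
    exact ⟨Ts_mem 0 b, (commute_Ts_iff 0 b).mpr rfl⟩

/-- Let G = Sz(q) be a Suzuki group, q = 2^(2a+1) with a ≥ 1 (realised inside Sp₄ over the field with q elements), and let H be a proper subgroup of G. Then the action of G on the cosets of H is binary if and only if H is trivial or H is the centre of a Sylow 2-subgroup of G. Here an action is binary (relational complexity 2) when, for every n ≥ 2 and all n-tuples I, J of points, if for every pair of positions some group element carries the corresponding pair of entries of I to those of J, then a single group element carries I to J. -/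
theorem result {F : Type*} [Field F] [Fintype F] (a : ℕ) (ha : 1 ≤ a) (hF : Fintype.card F = 2 ^ (2 * a + 1))
    (H : Subgroup (Cfsg.Lie.Sz F (2 ^ (a + 1)))) (hH : H ≠ ⊤) :
    (∀ (n : ℕ) (I J : Fin n → (Cfsg.Lie.Sz F (2 ^ (a + 1))) ⧸ H), 2 ≤ n →
        (∀ i j : Fin n, i ≠ j → ∃ g : (Cfsg.Lie.Sz F (2 ^ (a + 1))), g • I i = J i ∧ g • I j = J j) → ∃ g : (Cfsg.Lie.Sz F (2 ^ (a + 1))), ∀ i, g • I i = J i) ↔
      (H = ⊥ ∨ ∃ P : Sylow 2 (Cfsg.Lie.Sz F (2 ^ (a + 1))), H = (Subgroup.center (P : Subgroup (Cfsg.Lie.Sz F (2 ^ (a + 1))))).map (P : Subgroup (Cfsg.Lie.Sz F (2 ^ (a + 1)))).subtype) := by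
  have hP : Param F a := Param.mk' ha hF
  have : Fact (Nat.Prime 2) := ⟨Nat.prime_two⟩
  let e := SuzukiGroupLie.lieEquiv (F := F) (m := a)
  change Binary H ↔ (H = ⊥ ∨ ∃ P : Sylow 2 _, H = centreIn P.1)
  have hne : H.map e.toMonoidHom ≠ ⊤ := fun h => hH (by
    rw [← map_map_symm H e, h]
    exact Subgroup.map_top_of_surjective _ e.symm.surjective)
  rw [← binary_map_iff H e, binary_iff_zInf _ hne,
    Subgroup.map_eq_bot_iff_of_injective H (f := e.toMonoidHom) e.injective]
  refine or_congr Iff.rfl ⟨fun ⟨c, hc⟩ => ?_, fun ⟨P, hP⟩ => ?_⟩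
  · refine ⟨(c • sylowU).mapSurjective (f := e.symm.toMonoidHom) e.symm.surjective, ?_⟩
    change H = centreIn (((unipotent : Subgroup ↥(Cfsg.Sz F a)).map (MulAut.conj c).toMonoidHom).map
      e.symm.toMonoidHom)
    rw [centreIn_map, centreIn_map, centreIn_unipotent, ← hc, map_map_symm]
  · obtain ⟨c, hc⟩ := exists_conj_sylow (P.mapSurjective (f := e.toMonoidHom) e.surjective)
    replace hc : (P : Subgroup _).map e.toMonoidHom = _ := hc
    refine ⟨c, ?_⟩
    rw [hP, ← centreIn_map, hc, centreIn_map, centreIn_unipotent]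

end Cfsg.Agent.S5737
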