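import Cfsg.Statements.S5738
import Mathlib


set_option autoImplicit false
open Cfsg

namespace Cfsg.Agent.S5738



/-- Let F ⊆ K be finite fields with |F| = q and [K : F] = n ≥ 2, so |K| = q^n. Regard K as an n-dimensional F-vector space; the multiplications by non-zero elements of K form a cyclic subgroup of GL_F(K) of order q^n − 1 acting regularly on the non-zero vectors (a Singer group). Its normaliser in GL_F(K) has order n·(q^n − 1). -/
theorem result {F K : Type*} [Field F] [Fintype F] [Field K] [Fintype K] [Algebra F K] (n : ℕ) (hn : 2 ≤ n) (hdim : Module.finrank F K = n) :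
    Nat.card (Subgroup.normalizer (((Units.map ((Algebra.lmul F K : K →ₐ[F] Module.End F K) : K →* Module.End F K)).range : Subgroup (Module.End F K)ˣ) : Set (Module.End F K)ˣ)) = n * (Fintype.card K - 1) := by
  classical
  set L : K →ₐ[F] Module.End F K := Algebra.lmul F K with hL
  set M : Subgroup (Module.End F K)ˣ := (Units.map (L : K →* Module.End F K)).range with hM
  haveI : FiniteDimensional F K := Module.finite_of_finrank_pos (by omega)
  let U : (K ≃ₐ[F] K) → (Module.End F K)ˣ := fun φ =>
    { val := φ.toLinearMap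
      inv := φ.symm.toLinearMap
      val_inv := LinearMap.ext fun x => φ.apply_symm_apply x
      inv_val := LinearMap.ext fun x => φ.symm_apply_apply x }
  have hU : ∀ φ : K ≃ₐ[F] K, ∀ m ∈ M, U φ * m * (U φ)⁻¹ ∈ M := by
    rintro φ _ ⟨x, rfl⟩
    refine ⟨Units.map (φ : K →* K) x, Units.ext (LinearMap.ext fun y => ?_)⟩
    change φ (x : K) * y = φ ((x : K) * φ.symm y)
    rw [map_mul, φ.apply_symm_apply]
  have hUN : ∀ φ : K ≃ₐ[F] K, U φ ∈ Subgroup.normalizer (M : Set (Module.End F K)ˣ) := by
    intro φ
    rw [Subgroup.mem_normalizer_iff]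
    intro m
    refine ⟨fun hm => hU φ m hm, fun hm => ?_⟩
    have := hU φ.symm _ hm
    have e : U φ.symm = (U φ)⁻¹ := Units.ext rfl
    rw [e] at this
    simpa [mul_assoc] using this
  let Φ : Kˣ × (K ≃ₐ[F] K) → ↥(Subgroup.normalizer (M : Set (Module.End F K)ˣ)) := fun p =>
    ⟨Units.map (L : K →* Module.End F K) p.1 * U p.2,
      Subgroup.mul_mem _ (Subgroup.le_normalizer ⟨p.1, rfl⟩) (hUN p.2)⟩
  have hbij : Function.Bijective Φ := by
    constructor
    · rintro ⟨a, φ⟩ ⟨b, ψ⟩ h
      have h' : ∀ y, (a : K) * φ y = (b : K) * ψ y := fun y =>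
        congrArg (fun u : ↥(Subgroup.normalizer (M : Set (Module.End F K)ˣ)) => ((u : (Module.End F K)ˣ) : Module.End F K) y) h
      have hab : a = b := Units.ext (by simpa using h' 1)
      subst hab
      have : φ = ψ := AlgEquiv.ext fun y => mul_left_cancel₀ a.ne_zero (h' y)
      rw [this]
    · rintro ⟨g, hg⟩
      have hgi : Function.Injective (g : Module.End F K) := fun x y h => by
        have := congrArg ((g⁻¹ : (Module.End F K)ˣ) : Module.End F K) h
        simpa [← Module.End.mul_apply] using this
      set a : Kˣ := Units.mk0 ((g : Module.End F K) 1) (fun h => one_ne_zero (hgi (h.trans (map_zero _).symm))) with ha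
      set h : (Module.End F K)ˣ := (Units.map (L : K →* Module.End F K) a)⁻¹ * g with hh
      have hhN : h ∈ Subgroup.normalizer (M : Set (Module.End F K)ˣ) :=
        Subgroup.mul_mem _ (Subgroup.inv_mem _ (Subgroup.le_normalizer ⟨a, rfl⟩)) hg
      have h1 : (h : Module.End F K) 1 = 1 := by
        change ((a⁻¹ : Kˣ) : K) * (g : Module.End F K) 1 = 1
        exact a.inv_mul
      have hmul : ∀ x y : K, (h : Module.End F K) (x * y) = (h : Module.End F K) x * (h : Module.End F K) y := by
        intro x y
        by_cases hx : x = 0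
        · simp [hx]
        obtain ⟨z, hz⟩ := (Subgroup.mem_normalizer_iff.mp hhN (Units.map (L : K →* Module.End F K) (Units.mk0 x hx))).mp ⟨_, rfl⟩
        have hz' : Units.map (L : K →* Module.End F K) z * h = h * Units.map (L : K →* Module.End F K) (Units.mk0 x hx) := by
          rw [hz]; simp [mul_assoc]
        have hv := fun w => congrArg (fun u : (Module.End F K)ˣ => (u : Module.End F K) w) hz'
        have hzx : (z : K) * (h : Module.End F K) 1 = (h : Module.End F K) (x * 1) := hv 1
        have hy : (z : K) * (h : Module.End F K) y = (h : Module.End F K) (x * y) := hv y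
        rw [h1, mul_one, mul_one] at hzx
        rw [← hy, hzx]
      let φ : K ≃ₐ[F] K := AlgEquiv.ofLinearEquiv (LinearMap.GeneralLinearGroup.toLinearEquiv h) h1 hmul
      refine ⟨(a, φ), Subtype.ext ?_⟩
      have e : U φ = h := Units.ext rfl
      change Units.map (L : K →* Module.End F K) a * U φ = g
      rw [e, hh, mul_inv_cancel_left]
  rw [← Nat.card_congr (Equiv.ofBijective Φ hbij), Nat.card_prod, IsGalois.card_aut_eq_finrank, hdim,
    Nat.card_eq_fintype_card, Fintype.card_units, mul_comm]

end Cfsg.Agent.S5738
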