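import Cfsg.Statements.S5739
import Mathlib


set_option autoImplicit false
open Cfsg

namespace Cfsg.Agent.S5739



/-- Let F ⊆ K be finite fields with |F| = q and [K : F] = n ≥ 2, and let M ≤ GL_F(K) be the Singer group of multiplications by non-zero elements of K. If g ∈ GL_F(K) does not normalise M, then the order of M ∩ gMg⁻¹ divides q^r − 1 for some proper divisor r of n. In particular, when n is prime, that order divides q − 1. -/
theorem result {F K : Type*} [Field F] [Fintype F] [Field K] [Fintype K] [Algebra F K] (n : ℕ) (hn : 2 ≤ n) (hdim : Module.finrank F K = n)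
    (g : (Module.End F K)ˣ) (hg : ((Units.map ((Algebra.lmul F K : K →ₐ[F] Module.End F K) : K →* Module.End F K)).range).map (MulAut.conj g).toMonoidHom ≠ (Units.map ((Algebra.lmul F K : K →ₐ[F] Module.End F K) : K →* Module.End F K)).range) :
    ∃ r : ℕ, 1 ≤ r ∧ r ∣ n ∧ r < n ∧ Nat.card ↥(((Units.map ((Algebra.lmul F K : K →ₐ[F] Module.End F K) : K →* Module.End F K)).range).map (MulAut.conj g).toMonoidHom ⊓ (Units.map ((Algebra.lmul F K : K →ₐ[F] Module.End F K) : K →* Module.End F K)).range) ∣ Fintype.card F ^ r - 1 := by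
  classical
  haveI : Finite (Module.End F K) := Finite.of_injective (fun f => (f : K → K)) DFunLike.coe_injective
  haveI : FiniteDimensional F K := Module.finite_of_finrank_pos (by omega)
  set L : K →ₐ[F] Module.End F K := Algebra.lmul F K with hL
  set M : Subgroup (Module.End F K)ˣ := (Units.map (L : K →* Module.End F K)).range with hM
  let C : Module.End F K →ₐ[F] Module.End F K :=
    { toFun := fun f => (g : Module.End F K) * f * ((g⁻¹ : (Module.End F K)ˣ) : Module.End F K)
      map_one' := by simp
      map_mul' := fun a b => by simp [mul_assoc]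
      map_zero' := by simp
      map_add' := fun a b => by simp [mul_add, add_mul]
      commutes' := fun c => by
        rw [← Algebra.commutes, mul_assoc, Units.mul_inv, mul_one] }
  set A : Subalgebra F K := (L.range.map C).comap L with hA
  have hLinj : Function.Injective L := Algebra.lmul_injective
  have hmem : ∀ x : Kˣ, Units.map (L : K →* Module.End F K) x ∈ M.map (MulAut.conj g).toMonoidHom ↔ (x : K) ∈ A := by
    intro x
    constructor
    · rintro ⟨m, ⟨y, rfl⟩, hy⟩
      refine ⟨L y, ⟨y, rfl⟩, ?_⟩
      exact congrArg Units.val hy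
    · rintro ⟨f, ⟨y, rfl⟩, hy⟩
      have hy0 : y ≠ 0 := by
        rintro rfl
        have : L (x : K) = 0 := by rw [show L (x : K) = C (L 0) from hy.symm]; simp
        exact x.ne_zero (hLinj (by rw [this, map_zero]))
      exact ⟨Units.map (L : K →* Module.End F K) (Units.mk0 y hy0), ⟨_, rfl⟩, Units.ext hy⟩
  have hinj : Function.Injective (Units.map (L : K →* Module.End F K)) := Units.map_injective hLinj
  have hcard : Nat.card ↥(M.map (MulAut.conj g).toMonoidHom ⊓ M) = Nat.card A - 1 := by
    haveI := Fintype.ofFinite A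
    have e1 : {x : Kˣ // (x : K) ∈ A} ≃ ↥(M.map (MulAut.conj g).toMonoidHom ⊓ M) :=
      Equiv.ofBijective (fun x => ⟨Units.map (L : K →* Module.End F K) x.1, (hmem x.1).mpr x.2, ⟨x.1, rfl⟩⟩)
        ⟨fun a b h => Subtype.ext (hinj (congrArg Subtype.val h)), fun ⟨m, hm1, hm2⟩ => by
          obtain ⟨x, rfl⟩ := hm2
          exact ⟨⟨x, (hmem x).mp hm1⟩, rfl⟩⟩
    have e2 : {x : Kˣ // (x : K) ∈ A} ≃ {a : A // a ≠ 0} :=
      { toFun := fun x => ⟨⟨x.1, x.2⟩, fun h => x.1.ne_zero (congrArg Subtype.val h)⟩
        invFun := fun a => ⟨Units.mk0 a.1.1 (fun h => a.2 (Subtype.ext h)), a.1.2⟩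
        left_inv := fun x => Subtype.ext (Units.ext rfl)
        right_inv := fun a => Subtype.ext (Subtype.ext rfl) }
    rw [← Nat.card_congr e1, Nat.card_congr e2, Nat.card_eq_fintype_card, Nat.card_eq_fintype_card,
      Fintype.card_subtype_compl, Fintype.card_subtype_eq]
  let E : IntermediateField F K := A.toIntermediateField (fun x hx => by
    by_cases h0 : x = 0
    · rw [h0, inv_zero]; exact A.zero_mem
    have hq := FiniteField.pow_card_sub_one_eq_one x h0
    have h2 : 2 ≤ Fintype.card K := Fintype.one_lt_card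
    have : x ^ (Fintype.card K - 2) * x = 1 := by
      rw [← pow_succ, show Fintype.card K - 2 + 1 = Fintype.card K - 1 by omega]; exact hq
    rw [← eq_inv_of_mul_eq_one_left this]
    exact pow_mem hx _)
  refine ⟨Module.finrank F A, Module.finrank_pos, ?_, ?_, ?_⟩
  · rw [← hdim]
    exact ⟨Module.finrank E K, (Module.finrank_mul_finrank F E K).symm⟩
  · rw [← hdim]
    by_contra hcon
    have hle : Module.finrank F A ≤ Module.finrank F K := Submodule.finrank_le (Subalgebra.toSubmodule A)
    have htop : Subalgebra.toSubmodule A = ⊤ := Submodule.eq_top_of_finrank_eq (le_antisymm hle (not_lt.mp hcon))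
    have hall : ∀ x : K, x ∈ A := fun x => (Subalgebra.mem_toSubmodule A).mp (htop ▸ Submodule.mem_top)
    apply hg
    symm
    refine Subgroup.eq_of_le_of_card_ge ?_ (le_of_eq (Nat.card_congr
      (Subgroup.equivMapOfInjective M _ (MulAut.conj g).injective).toEquiv).symm)
    rintro _ ⟨x, rfl⟩
    exact (hmem x).mpr (hall _)
  · rw [hcard, Module.natCard_eq_pow_finrank (K := F) (V := A), Nat.card_eq_fintype_card]

end Cfsg.Agent.S5739
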