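import Cfsg.Statements.S5742
import Cfsg.Agent.Lib.TwistedE6Fi22Sub15
import Cfsg.Agent.S2079

set_option autoImplicit false
open Cfsg

namespace Cfsg.Agent.S5742

/-- the square of an automorphism of Fi22 is inner -/
theorem sq_inner {O : Type*} [Group O] (e : O ≃* Cfsg.Spor.Fi22) (α : MulAut O) : ∃ h : O, α ^ 2 = MulAut.conj h := by
  haveI : Finite (Cfsg.Out Cfsg.Spor.Fi22) := Nat.finite_of_card_ne_zero (by rw [Agent.S2079.result]; norm_num)
  let β : MulAut Cfsg.Spor.Fi22 := MulAut.congr e α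
  have h1 : (QuotientGroup.mk' (Cfsg.Inn Cfsg.Spor.Fi22) β) ^ 2 = 1 := by
    have := pow_card_eq_one' (x := QuotientGroup.mk' (Cfsg.Inn Cfsg.Spor.Fi22) β)
    rwa [show Nat.card (MulAut Cfsg.Spor.Fi22 ⧸ Cfsg.Inn Cfsg.Spor.Fi22) = 2 from Agent.S2079.result] at this
  rw [← map_pow, ← MonoidHom.mem_ker, QuotientGroup.ker_mk'] at h1
  obtain ⟨k, hk⟩ := h1
  refine ⟨e.symm k, (MulAut.congr e).injective (MulEquiv.ext fun y => ?_)⟩
  rw [map_pow, show MulAut.congr e α = β from rfl, ← hk]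
  show k * y * k⁻¹ = e (e.symm k * e.symm y * (e.symm k)⁻¹)
  simp

/-- The simple group ²E₆(2) (the twisted group of type E₆ over the field with 4 elements) contains at least three pairwise non-conjugate subgroups isomorphic to the Fischer group Fi₂₂. -/
theorem result {K : Type*} [Field K] [Fintype K] (hK : Fintype.card K = 4) :
    ∃ H : Fin 3 → Subgroup (Cfsg.Lie.twistedE6 K 2),
      (∀ i, Cfsg.Spor.IsoFi22 (H i)) ∧
      (∀ i j, i ≠ j → ∀ g : (Cfsg.Lie.twistedE6 K 2), (H i).map (MulAut.conj g).toMonoidHom ≠ H j) := by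
  haveI : Fact (Nat.Prime 2) := ⟨Nat.prime_two⟩
  haveI : CharP K 2 := charP_of_card_eq_prime_pow (f := 2) (p := 2) (by rw [hK]; norm_num)
  have hK' : Fintype.card K = 2 ^ 2 := hK.trans (by norm_num)
  obtain ⟨f, hf⟩ := Agent.TwistedField.exists_frob hK' two_ne_zero
  obtain ⟨ω, hω⟩ := Agent.TwistedE6Fi22Sub15.exists_omega hK
  set R := (Agent.TwistAutE6.mu hK' (q := 2)).range with hR
  have hidx : R.index = 3 := by
    rw [hR, Agent.TwistAutE6.index_mu f hf hK']; norm_num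
  obtain ⟨d, hd⟩ : ∃ d, d ∉ R := by
    by_contra hne
    push Not at hne
    rw [(Subgroup.eq_top_iff' R).2 hne, Subgroup.index_top] at hidx
    omega
  have hord : orderOf (QuotientGroup.mk' R d) = 3 := by
    haveI := Fact.mk Nat.prime_three
    refine orderOf_eq_prime ?_ fun h => hd ((QuotientGroup.eq_one_iff d).1 h)
    rw [← hidx, Subgroup.index_eq_card]
    exact pow_card_eq_one'
  set T := Cfsg.Lie.twistedE6 K 2 with hT
  set E := Agent.TwistedE6Fi22Sub15.emb hω with hE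
  set O : Subgroup ↥T := E.range with hO
  let eO : O ≃* Cfsg.Spor.Fi22 := (MonoidHom.ofInjective (Agent.TwistedE6Fi22Sub15.emb_injective hω)).symm
  refine ⟨fun i => O.map (Agent.TwistAutE6.diagAut f hf (d ^ i.val)).toMonoidHom,
    fun i => ⟨((O.equivMapOfInjective _ (MulEquiv.injective _)).symm).trans eO⟩, ?_⟩
  intro i j hij g hg
  set e := (d ^ j.val)⁻¹ * d ^ i.val with he
  have her : e * e ∉ R := by
    intro h
    have h1 : QuotientGroup.mk' R (e * e) = 1 := (QuotientGroup.eq_one_iff _).2 h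
    have h3 : (QuotientGroup.mk' R e) ^ 3 = 1 := by
      rw [← hidx, Subgroup.index_eq_card]; exact pow_card_eq_one'
    rw [map_mul, ← pow_two] at h1
    rw [pow_succ, h1, one_mul] at h3
    rw [he, map_mul, map_inv, map_pow, map_pow, inv_mul_eq_one] at h3
    rw [pow_inj_mod, hord, Nat.mod_eq_of_lt j.isLt, Nat.mod_eq_of_lt i.isLt] at h3
    exact hij (Fin.ext h3.symm)
  set Aj := Agent.TwistAutE6.diagAut f hf (d ^ j.val) with hAj
  set θ : MulAut ↥T := MulAut.conj (Aj⁻¹ g) * Agent.TwistAutE6.diagAut f hf e with hθ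
  have hmem : ∀ y : ↥T, y ∈ O → θ y ∈ O := by
    intro y hy
    have h1 : g * Agent.TwistAutE6.diagAut f hf (d ^ i.val) y * g⁻¹ ∈ O.map Aj.toMonoidHom := by
      have hg' : (O.map (Agent.TwistAutE6.diagAut f hf (d ^ i.val)).toMonoidHom).map (MulAut.conj g).toMonoidHom =
          O.map Aj.toMonoidHom := hg
      rw [← hg']
      exact ⟨_, ⟨y, hy, rfl⟩, rfl⟩
    obtain ⟨z, hz, hze⟩ := h1
    have h2 : θ y = z := by
      rw [hθ, MulAut.mul_apply, he, map_mul, map_inv, MulAut.mul_apply, ← hAj, MulAut.conj_apply,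
        ← map_mul (Aj⁻¹), ← map_inv (Aj⁻¹), ← map_mul (Aj⁻¹), ← hze]
      exact MulEquiv.symm_apply_apply Aj z
    rwa [h2]
  haveI : Finite O := by
    exact inferInstance
  let a0 : O →* O := (θ.toMonoidHom.comp O.subtype).codRestrict O fun y => hmem y y.2
  have ha0 : Function.Bijective a0 := Finite.injective_iff_bijective.1 fun a b h =>
    Subtype.ext (θ.injective (congrArg Subtype.val h))
  obtain ⟨h, hh⟩ := sq_inner eO (MulEquiv.ofBijective a0 ha0)
  refine her (Agent.TwistedE6Fi22Sub15.centralize hω f hf hK' ((h : ↥T)⁻¹ * ((Aj⁻¹ g) *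
    Agent.TwistAutE6.diagAut f hf e (Aj⁻¹ g))) (e * e) fun x hx => ?_)
  have hx' : Agent.TwistedE6Fi22Sub15.gen hω x ∈ O :=
    ⟨_, Agent.TwistedE6Fi22Sub15.emb_of hω x⟩
  have h2 := congrArg (fun y : O => (y : ↥T)) (DFunLike.congr_fun hh ⟨_, hx'⟩)
  set u := Agent.TwistedE6Fi22Sub15.gen hω x
  set m := Aj⁻¹ g
  set D := Agent.TwistAutE6.diagAut f hf e with hD
  replace h2 : θ (θ u) = (h : ↥T) * u * (h : ↥T)⁻¹ := h2
  rw [hθ, MulAut.mul_apply, MulAut.mul_apply, MulAut.conj_apply, MulAut.conj_apply, map_mul, map_mul,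
    map_inv] at h2
  rw [map_mul, MulAut.mul_apply, ← hD]
  calc (h : ↥T)⁻¹ * (m * D m) * D (D u) * ((h : ↥T)⁻¹ * (m * D m))⁻¹
      = (h : ↥T)⁻¹ * (m * (D m * D (D u) * (D m)⁻¹) * m⁻¹) * h := by group
    _ = u := by rw [h2]; group

end Cfsg.Agent.S5742
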