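import Cfsg.Statements.S5743
import Cfsg.Agent.Lib.TwistedE6F4Sub15

set_option autoImplicit false
open Cfsg

namespace Cfsg.Agent.S5743

/-- The simple group ²E₆(2) (the twisted group of type E₆ over the field with 4 elements) contains at least three pairwise non-conjugate subgroups isomorphic to the Chevalley group F₄(2). -/
theorem result {K : Type*} [Field K] [Fintype K] (hK : Fintype.card K = 4) :
    ∃ H : Fin 3 → Subgroup (Cfsg.Lie.twistedE6 K 2),
      (∀ i, Nonempty ((H i) ≃* Cfsg.Lie.chevF4.group (ZMod 2))) ∧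
      (∀ i j, i ≠ j → ∀ g : (Cfsg.Lie.twistedE6 K 2), (H i).map (MulAut.conj g).toMonoidHom ≠ H j) := by
  haveI : CharP K 2 := by
    haveI := Fact.mk Nat.prime_two
    exact charP_of_card_eq_prime_pow (f := 2) (p := 2) (by rw [hK]; norm_num)
  haveI : Fact (Nat.Prime 2) := ⟨Nat.prime_two⟩
  set ι : ZMod 2 →+* K := ZMod.castHom (dvd_refl 2) K with hιdef
  have hι : Function.Injective ι := ι.injective
  have hK' : Fintype.card K = 2 ^ 2 := hK.trans (by norm_num)
  obtain ⟨f, hf⟩ := Agent.TwistedField.exists_frob hK' two_ne_zero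
  set R := (Agent.TwistAutE6.mu hK' (q := 2)).range with hR
  have hidx : R.index = 3 := by
    rw [hR, Agent.TwistAutE6.index_mu f hf hK']; norm_num
  obtain ⟨d, hd⟩ : ∃ d, d ∉ R := by
    by_contra hne
    push Not at hne
    rw [(Subgroup.eq_top_iff' R).2 hne, Subgroup.index_top] at hidx
    omega
  have hord : orderOf (QuotientGroup.mk' R d) = 3 := by
    haveI := Fact.mk Nat.prime_three
    refine orderOf_eq_prime ?_ fun h => hd ((QuotientGroup.eq_one_iff d).1 h)
    rw [← hidx, Subgroup.index_eq_card]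
    exact pow_card_eq_one'
  have hdist : ∀ i j : Fin 3, i ≠ j → (d ^ j.val)⁻¹ * d ^ i.val ∉ R := by
    intro i j hij h
    have h1 : QuotientGroup.mk' R d ^ j.val = QuotientGroup.mk' R d ^ i.val := by
      rw [← map_pow, ← map_pow]; exact QuotientGroup.eq.2 h
    rw [pow_inj_mod, hord, Nat.mod_eq_of_lt j.isLt, Nat.mod_eq_of_lt i.isLt] at h1
    exact hij (Fin.ext h1.symm)
  set H0 : Subgroup ↥(Cfsg.Lie.twistedE6 K 2) :=
    (Agent.TwistedE6F4Sub15.imG ι).subgroupOf (Cfsg.Lie.twistedE6 K 2) with hH0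
  obtain ⟨e0⟩ := Agent.TwistedE6F4Sub15.imG_equiv ι hι
  refine ⟨fun i => H0.map (Agent.TwistAutE6.diagAut f hf (d ^ i.val)).toMonoidHom,
    fun i => ⟨((H0.equivMapOfInjective _ (MulEquiv.injective _)).symm.trans
      (Subgroup.subgroupOfEquivOfLe (Agent.TwistedE6F4Sub15.imG_le ι))).trans e0⟩, ?_⟩
  intro i j hij g hg
  set Aj := Agent.TwistAutE6.diagAut f hf (d ^ j.val) with hAj
  refine Agent.TwistedE6F4Sub15.not_conj ι f hf hK' _ (hdist i j hij) (Aj⁻¹ g) fun y hy => ?_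
  have h1 : g * Agent.TwistAutE6.diagAut f hf (d ^ i.val) y * g⁻¹ ∈ H0.map Aj.toMonoidHom := by
    have hg' : (H0.map (Agent.TwistAutE6.diagAut f hf (d ^ i.val)).toMonoidHom).map (MulAut.conj g).toMonoidHom =
        H0.map Aj.toMonoidHom := hg
    rw [← hg']
    exact ⟨_, ⟨y, hy, rfl⟩, rfl⟩
  obtain ⟨z, hz, hze⟩ := h1
  have h2 : Aj⁻¹ g * Agent.TwistAutE6.diagAut f hf ((d ^ j.val)⁻¹ * d ^ i.val) y * (Aj⁻¹ g)⁻¹ = z := by
    rw [map_mul, map_inv, MulAut.mul_apply, ← hAj, ← map_mul (Aj⁻¹), ← map_inv (Aj⁻¹), ← map_mul (Aj⁻¹), ← hze]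
    exact MulEquiv.symm_apply_apply Aj z
  rw [h2]
  exact hz

end Cfsg.Agent.S5743
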