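import Cfsg.Statements.S5746
import Cfsg.Agent.Lib.G2FourJ2Max45


set_option autoImplicit false
open Cfsg

namespace Cfsg.Agent.S5746

section Field
open Cfsg.Lie

variable {F F' : Type*} [Field F] [Field F']

theorem xMat_map (D : ChevalleyDatum) (σ : F →+* F') (r : Fin D.nroots) (t : F) :
    (D.xMat F r t).map σ = D.xMat F' r (σ t) := by
  ext row col
  rcases col with i | s
  · rcases row with i' | u <;> simp [ChevalleyDatum.xMat, apply_ite σ]
  · rcases row with i' | u <;> simp [ChevalleyDatum.xMat, apply_ite σ] <;> split_ifs <;>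
      simp [map_list_sum, Function.comp_def]

/-- The Chevalley group depends only on the field up to isomorphism. -/
theorem nonempty_equiv (D : ChevalleyDatum) (σ : F ≃+* F') :
    Nonempty (↥(D.group F) ≃* ↥(D.group F')) := by
  let f : GL D.Idx F →* GL D.Idx F' := Matrix.GeneralLinearGroup.map σ.toRingHom
  have hinj : Function.Injective f := fun a b h => Units.ext (Matrix.map_injective σ.injective
    (congrArg (fun u : GL D.Idx F' => (u : Matrix D.Idx D.Idx F')) h))
  have hmap : (D.group F).map f = D.group F' := by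
    rw [ChevalleyDatum.group, ChevalleyDatum.group, MonoidHom.map_closure]
    refine congrArg Subgroup.closure (Set.ext fun A => ⟨?_, ?_⟩)
    · rintro ⟨g, ⟨r, t, hg⟩, rfl⟩
      refine ⟨r, σ t, ?_⟩
      show (g : Matrix D.Idx D.Idx F).map σ.toRingHom = _
      rw [hg, xMat_map]
      rfl
    · rintro ⟨r, t, hA⟩
      refine ⟨Matrix.GeneralLinearGroup.map σ.symm.toRingHom A, ⟨r, σ.symm t, ?_⟩, ?_⟩
      · show (A : Matrix D.Idx D.Idx F').map σ.symm.toRingHom = _
        rw [hA, xMat_map]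
        rfl
      · exact Units.ext (Matrix.ext fun i j => σ.apply_symm_apply _)
  exact ⟨((D.group F).equivMapOfInjective f hinj).trans (MulEquiv.subgroupCongr hmap)⟩

end Field

/-- The properties are preserved by isomorphisms. -/
theorem transport {A B : Type*} [Group A] [Group B] (e : A ≃* B) {H : Subgroup A} (hH : IsCoatom H)
    (hx : ∀ x : A, x ∉ H → IsCoatom ((H ⊓ H.map (MulAut.conj x).toMonoidHom).subgroupOf H)) :
    IsCoatom (H.map e.toMonoidHom) ∧ ∀ y : B, y ∉ H.map e.toMonoidHom →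
      IsCoatom ((H.map e.toMonoidHom ⊓ (H.map e.toMonoidHom).map (MulAut.conj y).toMonoidHom).subgroupOf
        (H.map e.toMonoidHom)) := by
  refine ⟨(OrderIso.isCoatom_iff e.mapSubgroup H).2 hH, fun y hy => ?_⟩
  obtain ⟨x, rfl⟩ := e.surjective y
  have hxH : x ∉ H := fun h => hy (Subgroup.mem_map_of_mem _ h)
  let E : ↥H ≃* ↥(H.map e.toMonoidHom) := e.subgroupMap H
  have h := (OrderIso.isCoatom_iff E.mapSubgroup _).2 (hx x hxH)
  suffices heq : (H.map e.toMonoidHom ⊓ (H.map e.toMonoidHom).map (MulAut.conj (e x)).toMonoidHom).subgroupOf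
      (H.map e.toMonoidHom) = E.mapSubgroup ((H ⊓ H.map (MulAut.conj x).toMonoidHom).subgroupOf H) by
    rw [heq]; exact h
  ext ⟨z, hz⟩
  obtain ⟨a, ha, rfl⟩ := hz
  constructor
  · intro hm
    obtain ⟨-, c, ⟨d, hd, rfl⟩, hc⟩ := Subgroup.mem_subgroupOf.1 hm
    refine ⟨⟨a, ha⟩, Subgroup.mem_subgroupOf.2 ⟨ha, d, hd, e.injective ?_⟩, rfl⟩
    simpa [MulAut.conj_apply] using hc
  · rintro ⟨b, hb, hbe⟩
    obtain ⟨-, d, hd, hd'⟩ := Subgroup.mem_subgroupOf.1 hb
    have hba : (b : A) = a := e.injective (congrArg Subtype.val hbe)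
    refine Subgroup.mem_subgroupOf.2 ⟨⟨a, ha, rfl⟩, e d, ⟨d, hd, rfl⟩, ?_⟩
    rw [hba] at hd'
    show _ = e a
    rw [← hd']
    simp [MulAut.conj_apply]


/-- The Chevalley group G₂(4) (over the field with 4 elements) has a maximal subgroup H isomorphic to the Hall–Janko group J₂ such that for every x outside H the intersection H ∩ xHx⁻¹ is a maximal subgroup of H; that is, the action of G₂(4) on the cosets of H is extremely primitive. -/
theorem result {F : Type*} [Field F] [Fintype F] (hF : Fintype.card F = 4) :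
    ∃ H : Subgroup (Cfsg.Lie.chevG2.group F), IsCoatom H ∧ Cfsg.Spor.IsoJ2 H ∧
      ∀ x : Cfsg.Lie.chevG2.group F, x ∉ H → IsCoatom ((H ⊓ H.map (MulAut.conj x).toMonoidHom).subgroupOf H) := by
  obtain ⟨σ⟩ : Nonempty (FieldFour15.K4 ≃+* F) :=
    ⟨FiniteField.ringEquivOfCardEq (by rw [FieldFour15.K4.card_eq, hF])⟩
  obtain ⟨ψ⟩ := nonempty_equiv Cfsg.Lie.chevG2 σ
  have Ψ : ↥G2FourModule.M ≃* ↥(Cfsg.Lie.chevG2.group F) := G2FourModule.equivM.trans ψ
  obtain ⟨h1, h2⟩ := G2FourJ2Max45.main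
  obtain ⟨h3, h4⟩ := transport Ψ h1 h2
  exact ⟨_, h3, ⟨(Ψ.subgroupMap _).symm.trans (G2FourJ2Embed45.equivH.trans J2Group.toLineGroup.symm)⟩, h4⟩

end Cfsg.Agent.S5746
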