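import Cfsg.Statements.S5747
import Mathlib


set_option autoImplicit false
open Cfsg

namespace Cfsg.Agent.S5747

section
variable {G Ω : Type*} [Group G] [MulAction G Ω]

/-- Irredundant base of a subgroup, as a list. -/
def Irr : Subgroup G → List Ω → Prop
  | H, [] => H = ⊥
  | H, a :: l => (∃ g ∈ H, g • a ≠ a) ∧ Irr (H ⊓ MulAction.stabilizer G a) l

lemma irr_fix {l : List Ω} : ∀ {H : Subgroup G}, Irr H l → ∀ g ∈ H, (∀ x ∈ l, g • x = x) → g = 1 := by
  induction l with
  | nil =>
    intro H h g hg _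
    rw [show H = ⊥ from h] at hg
    exact Subgroup.mem_bot.mp hg
  | cons a l ih =>
    intro H h g hg hfix
    exact ih h.2 g ⟨hg, hfix a List.mem_cons_self⟩ (fun x hx => hfix x (List.mem_cons_of_mem _ hx))

lemma irr_nodup_aux {l : List Ω} : ∀ {H : Subgroup G}, Irr H l →
    l.Nodup ∧ ∀ x, (∀ g ∈ H, g • x = x) → x ∉ l := by
  induction l with
  | nil => intro H _; simp
  | cons a l ih =>
    intro H h
    obtain ⟨hnd, hmem⟩ := ih h.2
    refine ⟨List.nodup_cons.mpr ⟨hmem a (fun g hg => hg.2), hnd⟩, fun x hx hxl => ?_⟩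
    rcases List.mem_cons.mp hxl with rfl | hxl
    · obtain ⟨g, hg, hne⟩ := h.1
      exact hne (hx g hg)
    · exact hmem x (fun g hg => hx g hg.1) hxl

lemma irr_nodup {l : List Ω} {H : Subgroup G} (h : Irr H l) : l.Nodup := (irr_nodup_aux h).1

lemma card_stab_lt [Finite G] {H : Subgroup G} {a : Ω} (ha : ∃ g ∈ H, g • a ≠ a) :
    Nat.card (H ⊓ MulAction.stabilizer G a : Subgroup G) < Nat.card H := by
  obtain ⟨g, hg, hne⟩ := ha
  refine lt_of_le_of_ne (Subgroup.card_le_of_le inf_le_left) (fun h => hne ?_)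
  have hge : H ⊓ MulAction.stabilizer G a = H := Subgroup.eq_of_le_of_card_ge inf_le_left h.ge
  exact (hge.symm ▸ hg : g ∈ H ⊓ MulAction.stabilizer G a).2

lemma exists_irr [Finite G] {H : Subgroup G} (hf : ∀ g ∈ H, (∀ x : Ω, g • x = x) → g = 1) :
    ∃ l : List Ω, Irr H l := by
  suffices h : ∀ n : ℕ, ∀ H : Subgroup G, Nat.card H ≤ n → (∀ g ∈ H, (∀ x : Ω, g • x = x) → g = 1) →
      ∃ l : List Ω, Irr H l from h _ H le_rfl hf
  intro n
  induction n with
  | zero => intro H h; exact absurd h (not_le.mpr Nat.card_pos)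
  | succ n ih =>
    intro H h hf
    by_cases hb : H = ⊥
    · exact ⟨[], hb⟩
    obtain ⟨g, hg, hne⟩ := (Subgroup.bot_or_exists_ne_one H).resolve_left hb
    obtain ⟨x, hx⟩ : ∃ x : Ω, g • x ≠ x := by
      by_contra hcon
      push_neg at hcon
      exact hne (hf g hg hcon)
    obtain ⟨l, hl⟩ := ih (H ⊓ MulAction.stabilizer G x)
      (by have := card_stab_lt (H := H) (a := x) ⟨g, hg, hx⟩; omega) (fun k hk => hf k hk.1)
    exact ⟨x :: l, ⟨g, hg, hx⟩, hl⟩

/-- Reordering invariance. -/
def Reord (Ω : Type*) [MulAction G Ω] (H : Subgroup G) : Prop :=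
  ∀ l l' : List Ω, l.Perm l' → Irr H l → Irr H l'

lemma reord_stab {H : Subgroup G} (hR : Reord Ω H) {a : Ω} (ha : ∃ g ∈ H, g • a ≠ a) :
    Reord Ω (H ⊓ MulAction.stabilizer G a) :=
  fun _ _ hp hl => (hR _ _ (hp.cons a) ⟨ha, hl⟩).2

lemma length_eq [Finite G] : ∀ (n : ℕ) (H : Subgroup G), Nat.card H ≤ n → Reord Ω H →
    ∀ l l' : List Ω, Irr H l → Irr H l' → l.length = l'.length := by
  intro n
  induction n with
  | zero => intro H h; exact absurd h (not_le.mpr Nat.card_pos)
  | succ n ih =>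
    intro H hn hR l l' hl hl'
    match l, l', hl, hl' with
    | [], [], _, _ => rfl
    | [], b :: r', hl, hl' =>
      obtain ⟨g, hg, hne⟩ := hl'.1
      rw [show H = ⊥ from hl, Subgroup.mem_bot] at hg
      exact absurd (by rw [hg, one_smul]) hne
    | a :: r, [], hl, hl' =>
      obtain ⟨g, hg, hne⟩ := hl.1
      rw [show H = ⊥ from hl', Subgroup.mem_bot] at hg
      exact absurd (by rw [hg, one_smul]) hne
    | a :: r, b :: r', hl, hl' =>
      have same : ∀ (c : Ω) (s s' : List Ω), Irr H (c :: s) → Irr H (c :: s') →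
          (c :: s).length = (c :: s').length := by
        intro c s s' hs hs'
        rw [List.length_cons, List.length_cons, ih (H ⊓ MulAction.stabilizer G c)
          (by have := card_stab_lt hs.1; omega) (reord_stab hR hs.1) s s' hs.2 hs'.2]
      have step : ∀ (a b : Ω) (r r' : List Ω), Irr H (a :: r) → Irr H (b :: r') →
          ¬ (H ⊓ MulAction.stabilizer G a ≤ MulAction.stabilizer G b) →
          (a :: r).length = (b :: r').length := by
        intro a b r r' hl hl' hle
        obtain ⟨g, hg, hgb⟩ := SetLike.not_le_iff_exists.mp hle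
        obtain ⟨s, hs⟩ := exists_irr (Ω := Ω) (H := H ⊓ MulAction.stabilizer G a ⊓ MulAction.stabilizer G b)
          (fun k hk hfix => irr_fix hl k hk.1.1 (fun x _ => hfix x))
        have h1 : Irr H (a :: b :: s) := ⟨hl.1, ⟨g, hg, hgb⟩, hs⟩
        exact ((same a r _ hl h1).trans (List.Perm.swap b a s).length_eq).trans
          (same b _ r' (hR _ _ (List.Perm.swap b a s) h1) hl')
      by_cases hab : H ⊓ MulAction.stabilizer G a ≤ MulAction.stabilizer G b
      · by_cases hba : H ⊓ MulAction.stabilizer G b ≤ MulAction.stabilizer G a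
        · have heq : H ⊓ MulAction.stabilizer G a = H ⊓ MulAction.stabilizer G b :=
            le_antisymm (le_inf inf_le_left hab) (le_inf inf_le_left hba)
          have h1 : Irr H (b :: r) := ⟨hl'.1, heq ▸ hl.2⟩
          have := same b r r' h1 hl'
          simpa using this
        · exact (step b a r' r hl' hl hba).symm
      · exact step a b r r' hl hl' hab

lemma prune : ∀ (l : List Ω) (H : Subgroup G), (∀ g ∈ H, (∀ x ∈ l, g • x = x) → g = 1) →
    ∃ l' : List Ω, Irr H l' ∧ l'.length ≤ l.length ∧ (l'.length = l.length → Irr H l) := by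
  intro l
  induction l with
  | nil =>
    intro H h
    have hb : H = ⊥ := (Subgroup.eq_bot_iff_forall H).mpr fun g hg => h g hg (by simp)
    exact ⟨[], hb, le_rfl, fun _ => hb⟩
  | cons a l ih =>
    intro H h
    obtain ⟨l', hl', hle, heq⟩ := ih (H ⊓ MulAction.stabilizer G a) (fun g hg hfix => h g hg.1
      (fun x hx => (List.mem_cons.mp hx).elim (fun e => e ▸ hg.2) (hfix x)))
    by_cases ha : ∃ g ∈ H, g • a ≠ a
    · exact ⟨a :: l', ⟨ha, hl'⟩, by simp only [List.length_cons]; omega,
        fun e => ⟨ha, heq (by simpa using e)⟩⟩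
    · push_neg at ha
      have hH : H ⊓ MulAction.stabilizer G a = H := inf_eq_left.mpr ha
      rw [hH] at hl'
      exact ⟨l', hl', by simp only [List.length_cons]; omega,
        fun e => absurd e (by simp only [List.length_cons]; omega)⟩

lemma irr_ofFn : ∀ {t : ℕ} (f : Fin t → Ω) (H : Subgroup G),
    Irr H (List.ofFn f) ↔ ((∀ g ∈ H, (∀ i : Fin t, g • f i = f i) → g = 1) ∧
      ∀ i : Fin t, ∃ g ∈ H, (∀ j : Fin t, j < i → g • f j = f j) ∧ g • f i ≠ f i) := by
  intro t
  induction t with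
  | zero =>
    intro f H
    simp [Irr, Subgroup.eq_bot_iff_forall]
  | succ t ih =>
    intro f H
    rw [List.ofFn_succ]
    show ((∃ g ∈ H, g • f 0 ≠ f 0) ∧ Irr _ _) ↔ _
    rw [ih]
    constructor
    · rintro ⟨h0, hstab, hmove⟩
      refine ⟨fun g hg hfix => hstab g ⟨hg, hfix 0⟩ (fun i => hfix i.succ), fun i => ?_⟩
      induction i using Fin.cases with
      | zero =>
        obtain ⟨g, hg, hne⟩ := h0
        exact ⟨g, hg, fun j hj => absurd hj (by simp), hne⟩
      | succ i =>
        obtain ⟨g, hg, hfix, hne⟩ := hmove i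
        refine ⟨g, hg.1, fun j hj => ?_, hne⟩
        induction j using Fin.cases with
        | zero => exact hg.2
        | succ j => exact hfix j (Fin.succ_lt_succ_iff.mp hj)
    · rintro ⟨hstab, hmove⟩
      refine ⟨?_, fun g hg hfix => hstab g hg.1 (fun i => ?_), fun i => ?_⟩
      · obtain ⟨g, hg, _, hne⟩ := hmove 0
        exact ⟨g, hg, hne⟩
      · induction i using Fin.cases with
        | zero => exact hg.2
        | succ i => exact hfix i
      · obtain ⟨g, hg, hfix, hne⟩ := hmove i.succ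
        exact ⟨g, ⟨hg, hfix 0 (Fin.succ_pos i)⟩, fun j hj => hfix j.succ (Fin.succ_lt_succ_iff.mpr hj), hne⟩

lemma irr_ofFn_top {t : ℕ} (f : Fin t → Ω) :
    Irr (⊤ : Subgroup G) (List.ofFn f) ↔ ((∀ g : G, (∀ i : Fin t, g • f i = f i) → g = 1) ∧
      ∀ i : Fin t, ∃ g : G, (∀ j : Fin t, j < i → g • f j = f j) ∧ g • f i ≠ f i) := by
  simp [irr_ofFn]

end


/-- Let a finite group G act on a finite set Ω. An irredundant base is a sequence of points ω₁, …, ω_t whose pointwise stabiliser is trivial and in which each ω_i is moved by some element fixing ω₁, …, ω_{i−1}. Then all irredundant bases have the same length if and only if every reordering of an irredundant base is again an irredundant base. -/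
theorem result {G Ω : Type*} [Group G] [Finite G] [MulAction G Ω] [Fintype Ω] :
    (∀ (t t' : ℕ) (f : Fin t → Ω) (f' : Fin t' → Ω), ((∀ g : G, (∀ i : Fin t, g • f i = f i) → g = 1) ∧ ∀ i : Fin t, ∃ g : G, (∀ j : Fin t, j < i → g • f j = f j) ∧ g • f i ≠ f i) → ((∀ g : G, (∀ i : Fin t', g • f' i = f' i) → g = 1) ∧ ∀ i : Fin t', ∃ g : G, (∀ j : Fin t', j < i → g • f' j = f' j) ∧ g • f' i ≠ f' i) → t = t') ↔
    (∀ (t : ℕ) (f : Fin t → Ω) (σ : Equiv.Perm (Fin t)), ((∀ g : G, (∀ i : Fin t, g • f i = f i) → g = 1) ∧ ∀ i : Fin t, ∃ g : G, (∀ j : Fin t, j < i → g • f j = f j) ∧ g • f i ≠ f i) → ((∀ g : G, (∀ i : Fin t, g • (f ∘ σ) i = (f ∘ σ) i) → g = 1) ∧ ∀ i : Fin t, ∃ g : G, (∀ j : Fin t, j < i → g • (f ∘ σ) j = (f ∘ σ) j) ∧ g • (f ∘ σ) i ≠ (f ∘ σ) i)) := by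
  constructor
  · intro hlen t f σ hf
    have hl := (irr_ofFn_top f).mpr hf
    rw [← irr_ofFn_top]
    obtain ⟨l', hl', hle, heq⟩ := prune (List.ofFn (f ∘ σ)) (⊤ : Subgroup G) (fun g _ hfix =>
      hf.1 g (fun i => hfix (f i) (List.mem_ofFn.mpr ⟨σ.symm i, by simp⟩)))
    refine heq ?_
    rw [← List.ofFn_get l'] at hl'
    rw [List.length_ofFn]
    exact hlen l'.length t l'.get f ((irr_ofFn_top _).mp hl') hf
  · intro hre t t' f f' hf hf'
    have hR : Reord Ω (⊤ : Subgroup G) := by
      intro l l' hp hl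
      have hnd := irr_nodup hl
      have hnd' : l'.Nodup := hp.nodup hnd
      classical
      let σ : Fin l.length ≃ Fin l.length :=
        (finCongr hp.length_eq).trans <| (hnd'.getEquiv l').trans <|
          (Equiv.subtypeEquivRight (fun x => hp.symm.mem_iff)).trans (hnd.getEquiv l).symm
      have hσ : ∀ i, l.get (σ i) = l'.get (finCongr hp.length_eq i) := by
        intro i
        exact congrArg Subtype.val ((hnd.getEquiv l).apply_symm_apply
          (Equiv.subtypeEquivRight (fun x => hp.symm.mem_iff) (hnd'.getEquiv l' (finCongr hp.length_eq i))))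
      rw [← List.ofFn_get l] at hl
      have h2 := (irr_ofFn_top _).mpr (hre _ l.get σ ((irr_ofFn_top _).mp hl))
      have h3 : List.ofFn (l.get ∘ σ) = l' := by
        rw [show l.get ∘ σ = l'.get ∘ (finCongr hp.length_eq) from funext hσ]
        exact List.ext_get (by simp [hp.length_eq]) (fun k h₁ h₂ => by simp)
      rwa [h3] at h2
    have := length_eq _ ⊤ le_rfl hR _ _ ((irr_ofFn_top f).mpr hf) ((irr_ofFn_top f').mpr hf')
    simpa using this

end Cfsg.Agent.S5747
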