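import Cfsg.Statements.S5751
import Cfsg.Agent.Lib.CoreLengthE8Data40
import Cfsg.Agent.S1054

set_option autoImplicit false
open Cfsg

namespace Cfsg.Agent.S5751

open Cfsg.Lie Cfsg.Agent.ChevalleyCore Cfsg.Agent.ChevalleyUnipotent Cfsg.Agent.ChevalleyRoots
  Cfsg.Agent.ChevBruhat Cfsg.Agent.CoreLengthGroup40 Cfsg.Agent.CoreLengthChev40
  Cfsg.Agent.CoreLengthE8Data40

theorem mem_e8 : chevE8 ∈ [chevG2, chevB2, chevD4, chevF4, chevE6, chevE7, chevE8] := by simp

noncomputable def C : ChevalleyCert.Cert chevE8 := ChevalleyAll.cert chevE8 mem_e8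

noncomputable def sysE8 : Sys chevE8 F2 := ChevBruhatInstance.sys chevE8 mem_e8 F2

/-- the node set of the maximal parabolic subgroup -/
def J : Set ℕ := {j | j < 8 ∧ j ≠ 3}

theorem rank_eq : chevE8.rank = 8 := rfl
theorem nroots_eq : chevE8.nroots = 240 := rfl
theorem three_lt : 3 < chevE8.rank := by decide

theorem inJ (r : ℕ) (hr : r < 240) :
    chevE8.InRootSub J r ↔ (chevE8.coroot.getD r #[]).getD 3 0 = 0 := by
  refine ⟨fun h => h.2 3 three_lt (fun h => h.2 rfl), fun h => ⟨hr, fun i hi hiJ => ?_⟩⟩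
  have : i = 3 := by
    by_contra h3
    exact hiJ ⟨hi, h3⟩
  subst this
  exact h

theorem parabolic_eq : chevE8.parabolicSubgroup F2 J = rootSpan C (mask 0) := by
  refine parabolic_eq_span C fun r hr => ?_
  have h2 := hr
  rw [nroots_eq] at h2
  rw [parabolic_roots r h2, inJ r h2, isPos C, nroots_eq]
  omega

theorem simple_three : chevE8.simple 3 = 130 ∧ chevE8.neg 130 = 109 ∧ chevE8.reflectRoot 3 130 = 109 := by
  decide +kernel

theorem neg_notMem : xg C 109 (1 : F2) ∉ chevE8.parabolicSubgroup F2 J := by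
  intro h
  have hp : chevE8.IsPosRoot 130 := (isPos C).2 (by rw [nroots_eq]; omega)
  have h130 : xg C 130 (1 : F2) ∈ chevE8.parabolicSubgroup F2 J :=
    ChevalleyParabolic.root_mem_parabolic C (Or.inl hp) 1
  have hn : ng C 130 (1 : F2) ∈ chevE8.parabolicSubgroup F2 J := by
    rw [ChevalleyCore.ng, simple_three.2.1, show -(1 : F2)⁻¹ = 1 by decide +kernel]
    exact mul_mem (mul_mem h130 h) h130
  have hnot : ¬ chevE8.InRootSub J 130 := by
    rw [inJ 130 (by norm_num)]
    decide +kernel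
  have hU : xg C 130 (1 : F2) ∈ chevE8.unipotentRadical F2 J :=
    Subgroup.subset_closure ⟨130, 1, hp, hnot, coe_xg C _ _⟩
  have h1 := (Subgroup.mem_normalizer_iff.1
    (ChevalleyParabolic.parabolic_le_normalizer C J hn) _).1 hU
  have e : ng C 130 (1 : F2) * xg C 130 1 * (ng C 130 1)⁻¹ = xg C 109 1 := by
    have := refl_conj C (s := 130) (u := 109) three_lt (by rw [nroots_eq]; omega) simple_three.2.2
    rwa [simple_three.1] at this
  rw [e] at h1
  have hB : chevE8.unipotentRadical F2 J ≤ chevE8.borelSubgroup F2 :=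
    (Subgroup.closure_le _).2 fun g ⟨r, t, h, _, hg'⟩ =>
      (le_sup_left : chevE8.posUnipotent F2 ≤ chevE8.borelSubgroup F2)
        (Subgroup.subset_closure ⟨r, t, h, hg'⟩)
  have hneg : chevE8.IsNegRoot 109 := (isNeg C).2 (by rw [nroots_eq]; omega)
  exact one_ne_zero (sysE8.xg_neg_notMem_B hneg (t := (1 : F2))
    (by rw [ChevalleyParabolicBN.sys_xg C sysE8]; exact hB h1))

abbrev G : Type := ↥(chevE8.group F2)

/-- a root element in the group -/
noncomputable def x (r : ℕ) : G := ⟨xg C r 1, xg_mem_group C r 1⟩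

/-- the reflection representative -/
noncomputable def g : G :=
  ⟨ng C (chevE8.simple 3) 1,
    mul_mem (mul_mem (xg_mem_group C _ _) (xg_mem_group C _ _)) (xg_mem_group C _ _)⟩

theorem g_sq : g * g = 1 := Subtype.ext (ng_sq C _)

theorem g_inv : g⁻¹ = g := inv_eq_of_mul_eq_one_right g_sq

/-- the maximal parabolic subgroup -/
noncomputable def M : Subgroup G := (rootSpan C (mask 0)).subgroupOf (chevE8.group F2)

noncomputable def A (i : ℕ) : Subgroup G := iter M g i

theorem mem_M {z : G} : z ∈ M ↔ (z : GL chevE8.Idx F2) ∈ chevE8.parabolicSubgroup F2 J := by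
  rw [parabolic_eq]; exact Subgroup.mem_subgroupOf

theorem B_le_M : sysE8.bnPair.B ≤ M := fun z hz => mem_M.2
  ((le_sup_left : chevE8.borelSubgroup F2 ≤ _) (Subgroup.mem_subgroupOf.1 hz))

theorem isCoatom_M : IsCoatom M := by
  refine ⟨fun h => neg_notMem (mem_M.1 (h ▸ Subgroup.mem_top (x 109))), fun K hK => ?_⟩
  by_contra hKne
  have hB : sysE8.bnPair.B ≤ K := B_le_M.trans hK.le
  have heq := BNPairLib.eq_parabolic sysE8.bnPair hB
  have hrep : ∀ s ∈ sysE8.bnPair.S, ∀ i : Fin chevE8.rank,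
      (s : GL chevE8.Idx F2) = sysE8.nn (chevE8.simple i) 1 → i.val ≠ 3 → s ∈ M := by
    intro s _ i hi h3
    refine mem_M.2 ?_
    rw [hi, ChevalleyParabolicBN.sys_nn C sysE8]
    exact ChevalleyParabolic.ns_mem_parabolic C (J := J) ⟨i.isLt, h3⟩ i.isLt
  by_cases h3 : g ∈ K
  · apply hKne
    rw [eq_top_iff, ← BNPairLib.parabolic_S sysE8.bnPair]
    refine sup_le hB ((Subgroup.closure_le _).2 fun s hs => ?_)
    obtain ⟨i, hi⟩ := sysE8.sSet_eq hs
    by_cases hi3 : i.val = 3
    · have : s = g := Subtype.ext (by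
        rw [hi, ChevalleyParabolicBN.sys_nn C sysE8, hi3]; rfl)
      rw [SetLike.mem_coe, this]; exact h3
    · exact hK.le (hrep s hs i hi hi3)
  · refine hK.not_ge ?_
    rw [heq]
    refine sup_le B_le_M ((Subgroup.closure_le _).2 ?_)
    rintro s ⟨hs, hsK⟩
    obtain ⟨i, hi⟩ := sysE8.sSet_eq hs
    refine hrep s hs i hi fun hi3 => h3 ?_
    have : s = g := Subtype.ext (by
      rw [hi, ChevalleyParabolicBN.sys_nn C sysE8, hi3]; rfl)
    rwa [this] at hsK

theorem conj_g_eq {r u : ℕ} (hr : r < 240) (hu : chevE8.reflectRoot 3 r = u) :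
    g * x r * g⁻¹ = x u :=
  Subtype.ext (refl_conj C three_lt (by rw [nroots_eq]; exact hr) hu)

theorem normalCore_M : M.normalCore = ⊥ := by
  haveI := (S1054.result (F := F2) chevE8 (by simp)).1
  rcases (Subgroup.normalCore_normal M).eq_bot_or_eq_top with h | h
  · exact h
  · exact absurd (eq_top_iff.2 (h ▸ Subgroup.normalCore_le M)) isCoatom_M.1

theorem conj_ne : M ≠ M.map (MulAut.conj g).toMonoidHom := by
  intro h
  have h130 : x 130 ∈ M := Subgroup.mem_subgroupOf.2
    (mem_rootSpan C (by rw [nroots_eq]; omega) (by decide +kernel))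
  have : x 109 ∈ M := by
    rw [h, Subgroup.mem_map_equiv, MulAut.conj_symm_apply]
    convert h130 using 1
    have e := conj_g_eq (r := 109) (u := 130) (by norm_num) (by decide +kernel)
    rwa [g_inv] at e ⊢
  exact neg_notMem (mem_M.1 this)

theorem span_le {i : ℕ} (hi : i ≤ 5) :
    (rootSpan C (mask i)).subgroupOf (chevE8.group F2) ≤ A i := by
  induction i with
  | zero => exact le_rfl
  | succ i ih =>
    have ih' := ih (by omega)
    have hsub : rootSpan C (mask (i + 1)) ≤ rootSpan C (mask i) := by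
      refine (Subgroup.closure_le _).2 ?_
      rintro y ⟨r, hr, hb, rfl⟩
      exact mem_rootSpan C hr (step i (by omega) r (by rwa [nroots_eq] at hr) hb).1
    have h1 : (rootSpan C (mask (i + 1))).subgroupOf (chevE8.group F2) ≤ A i :=
      le_trans (Subgroup.comap_mono hsub) ih'
    refine le_core (h1.trans (iter_le M g i)) (le_inf h1 fun z hz => ?_) fun m hm z hz => ?_
    · rw [Subgroup.mem_map_equiv, MulAut.conj_symm_apply, g_inv]
      refine ih' (Subgroup.mem_subgroupOf.2 ?_)
      have hgg : ((g : GL chevE8.Idx F2))⁻¹ = g := by rw [← Subgroup.coe_inv, g_inv]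
      show (g : GL chevE8.Idx F2) * z * (g : GL chevE8.Idx F2) ∈ _
      nth_rw 2 [← hgg]
      refine Sys.conj_closure_le _ ?_ (Subgroup.mem_subgroupOf.1 hz)
      rintro y ⟨r, hr, hb, rfl⟩
      have h := step i (by omega) r (by rwa [nroots_eq] at hr) hb
      show ng C (chevE8.simple 3) 1 * xg C r 1 * (ng C (chevE8.simple 3) 1)⁻¹ ∈ _
      rw [refl_conj C three_lt hr rfl]
      exact mem_rootSpan C (C.w_lt 3 r three_lt hr) h.2
    · exact Subgroup.mem_subgroupOf.2 (span_normal C short (normal i (by omega))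
        (Subgroup.mem_subgroupOf.1 hm) (Subgroup.mem_subgroupOf.1 hz))

theorem A_five : A 5 ≠ ⊥ := by
  intro h
  have := span_le (le_refl 5) (Subgroup.mem_subgroupOf.2
    (mem_rootSpan C (show 239 < chevE8.nroots by rw [nroots_eq]; omega) top) :
    x 239 ∈ (rootSpan C (mask 5)).subgroupOf (chevE8.group F2))
  rw [h, Subgroup.mem_bot] at this
  have h1 : xg C 239 (1 : F2) = 1 := congrArg Subtype.val this
  exact one_ne_zero (sysE8.xg_eq_one (r := 239) (t := (1 : F2)) (by rw [nroots_eq]; omega)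
    (by rw [ChevalleyParabolicBN.sys_xg C sysE8]; exact h1))

theorem comm_mem {i r s u : ℕ} (hc : commStep r s u = true) (h : x r ∈ A i) : x u ∈ A i := by
  simp only [commStep, Bool.and_eq_true, decide_eq_true_eq, beq_iff_eq] at hc
  obtain ⟨⟨⟨⟨⟨hr, hs⟩, hP⟩, hne⟩, hneg⟩, hone⟩ := hc
  have hs' : x s ∈ M :=
    Subgroup.mem_subgroupOf.2 (mem_rootSpan C (by rw [nroots_eq]; exact hs) hP)
  have e := comm_one C (r := s) (s := r) (by rw [nroots_eq]; exact hs) (by rw [nroots_eq]; exact hr)
    hne hneg hone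
  have eu : x u = x r * (x s * x r * (x s)⁻¹) := Subtype.ext (by
    show xg C u 1 = xg C r 1 * (xg C s 1 * xg C r 1 * (xg C s 1)⁻¹)
    rw [xg_inv_self, mul_assoc (xg C s 1), e]
    simp [mul_assoc, xg_sq_mul])
  rw [eu]
  exact mul_mem h (iter_conj M g i h hs')

theorem refl_mem {i r u : ℕ} (hr : r < 240) (hu : chevE8.reflectRoot 3 r = u) (h : x r ∈ A (i + 1)) :
    x u ∈ A i := by
  have := (iter_step M h).2
  rw [g_inv] at this
  rw [← conj_g_eq hr hu, g_inv]
  exact this

theorem top_notMem : x 239 ∉ A 6 := by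
  intro h0
  have h1 := comm_mem (r := 239) (s := 110) (u := 235) (by decide +kernel) h0
  have h2 := refl_mem (r := 235) (u := 234) (by norm_num) (by decide +kernel) h1
  have h3 := comm_mem (r := 234) (s := 76) (u := 225) (by decide +kernel) h2
  have h4 := comm_mem (r := 225) (s := 98) (u := 224) (by decide +kernel) h3
  have h5 := refl_mem (r := 224) (u := 223) (by norm_num) (by decide +kernel) h4
  have h6 := comm_mem (r := 223) (s := 104) (u := 218) (by decide +kernel) h5
  have h7 := comm_mem (r := 218) (s := 110) (u := 214) (by decide +kernel) h6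
  have h8 := refl_mem (r := 214) (u := 210) (by norm_num) (by decide +kernel) h7
  have h9 := comm_mem (r := 210) (s := 98) (u := 200) (by decide +kernel) h8
  have h10 := comm_mem (r := 200) (s := 111) (u := 194) (by decide +kernel) h9
  have h11 := refl_mem (r := 194) (u := 188) (by norm_num) (by decide +kernel) h10
  have h12 := comm_mem (r := 188) (s := 76) (u := 156) (by decide +kernel) h11
  have h13 := comm_mem (r := 156) (s := 112) (u := 152) (by decide +kernel) h12
  have h14 := refl_mem (r := 152) (u := 148) (by norm_num) (by decide +kernel) h13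
  have h15 := comm_mem (r := 148) (s := 98) (u := 137) (by decide +kernel) h14
  have h16 := comm_mem (r := 137) (s := 104) (u := 131) (by decide +kernel) h15
  have h17 := comm_mem (r := 131) (s := 113) (u := 130) (by decide +kernel) h16
  have h18 := refl_mem (r := 130) (u := 109) (by norm_num) (by decide +kernel) h17
  exact neg_notMem (mem_M.1 h18)

theorem A_six : A 6 = ⊥ := by
  by_contra hA
  set N : Subgroup (GL chevE8.Idx F2) := (A 6).map (chevE8.group F2).subtype with hN
  have hNP : N ≤ chevE8.parabolicSubgroup F2 J := by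
    rintro z ⟨y, hy, rfl⟩
    exact mem_M.1 (iter_le M g 6 hy)
  have hconj : ∀ p ∈ chevE8.parabolicSubgroup F2 J, ∀ z ∈ N, p * z * p⁻¹ ∈ N := by
    rintro p hp z ⟨y, hy, rfl⟩
    have hpG := ChevalleyParabolicBN.parabolic_le_group C sysE8 J hp
    have hpM : (⟨p, hpG⟩ : G) ∈ M := mem_M.2 hp
    have hc : (⟨p, hpG⟩ : G) * y * (⟨p, hpG⟩ : G)⁻¹ ∈ A 6 := iter_conj M g 6 hy hpM
    refine ⟨_, hc, ?_⟩
    simp only [Subgroup.coe_subtype, Subgroup.coe_mul, Subgroup.coe_inv]
  have hne : ∃ z ∈ N, z ≠ 1 := by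
    obtain ⟨⟨y, hy⟩, hy1⟩ := Subgroup.ne_bot_iff_exists_ne_one.1 hA
    exact ⟨y, ⟨y, hy, rfl⟩, fun h => hy1 (Subtype.ext (Subtype.ext h))⟩
  have hU : chevE8.unipotentRadical F2 J ≤ chevE8.posUnipotent F2 :=
    Subgroup.closure_mono fun g ⟨r, t, h, _, hg'⟩ => ⟨r, t, h, hg'⟩
  have hex : ∃ z ∈ N, z ∈ chevE8.posUnipotent F2 ∧ z ≠ 1 := by
    by_contra hno
    push Not at hno
    obtain ⟨z, hzN, hz1⟩ := hne
    refine hz1 (hno z hzN (ChevRadicalCentralizer.centralizer_le_U C sysE8 (by decide +kernel)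
      ⟨3, three_lt, fun h => h.2 rfl⟩ (hNP hzN) fun y hy => ?_))
    have hyP : y ∈ chevE8.parabolicSubgroup F2 J :=
      (le_sup_left : chevE8.borelSubgroup F2 ≤ _) (Sys.U_le_B (hU hy))
    have hnorm := (Subgroup.mem_normalizer_iff.1
      (ChevalleyParabolic.parabolic_le_normalizer C J (hNP hzN)) y).1 hy
    have e : z * y * z⁻¹ * y⁻¹ = 1 := by
      refine hno _ ?_ (hU (mul_mem hnorm (inv_mem hy)))
      rw [show z * y * z⁻¹ * y⁻¹ = z * (y * z⁻¹ * y⁻¹) by group]
      exact mul_mem hzN (hconj y hyP _ (inv_mem hzN))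
    show z * y = y * z
    rwa [mul_inv_eq_one, mul_inv_eq_iff_eq_mul] at e
  obtain ⟨z, hzN, hzU, hz1⟩ := hex
  rw [posUnipotent_eq C] at hzU
  have htop := top_mem C (P := mask 0) raise (N := N)
    (fun r hr hP w hw => by
      have := hconj _ (parabolic_eq ▸ mem_rootSpan C hr hP) w hw
      rwa [xg_inv_self] at this)
    120 (chevE8.nroots / 2) (by rw [nroots_eq]) le_rfl z hzN hzU hz1
  obtain ⟨y, hy, hye⟩ := htop
  refine top_notMem ?_
  have : y = x 239 := Subtype.ext hye
  rwa [← this]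

/-- An extremal example for iterated cores of conjugate maximal subgroups: there exist a finite group G and two distinct conjugate maximal subgroups M₁, M₂ of G, with M₁ having trivial core in G, such that, if we define two descending sequences of subgroups by A₀ = M₁, B₀ = M₂ and, for every i, A_{i+1} = the core in M₁ of A_i ∩ B_i and B_{i+1} = the core in M₂ of A_i ∩ B_i (the core in M of a subgroup Y ≤ M is the largest normal subgroup of M contained in Y), the subgroup A₆ is trivial while A₅ is not (so the index 6 cannot be lowered to 5). (One example is a maximal parabolic subgroup of the Chevalley group of type E₈ over a finite field and a suitable conjugate of it.) -/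
theorem result :
    ∃ (G : Type) (_ : Group G) (_ : Finite G) (M₁ M₂ : Subgroup G) (g : G) (A B : ℕ → Subgroup G),
      IsCoatom M₁ ∧ M₂ = M₁.map (MulAut.conj g).toMonoidHom ∧ M₁ ≠ M₂ ∧ M₁.normalCore = ⊥ ∧ A 0 = M₁ ∧ B 0 = M₂ ∧
      (∀ i, A (i + 1) = ((A i ⊓ B i).subgroupOf M₁).normalCore.map M₁.subtype) ∧
      (∀ i, B (i + 1) = ((A i ⊓ B i).subgroupOf M₂).normalCore.map M₂.subtype) ∧ A 6 = ⊥ ∧ A 5 ≠ ⊥ :=
  ⟨G, inferInstance, inferInstance, M, M.map (MulAut.conj g).toMonoidHom, g, A,
    fun i => (A i).map (MulAut.conj g).toMonoidHom, isCoatom_M, rfl, conj_ne, normalCore_M, rfl, rfl,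
    fun _ => rfl, fun i => iter_conj_rec M g_sq i, A_six, A_five⟩

end Cfsg.Agent.S5751
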