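import Cfsg.Statements.S5752
import Cfsg.Agent.Lib.ComponentsThompsonWielandt

set_option autoImplicit false
open Cfsg

namespace Cfsg.Agent.S5752

open Subgroup Cfsg.Agent.ComponentsThompsonWielandt Cfsg.Agent.ComponentsBender Cfsg.Agent.ComponentsFitting Cfsg.Agent.ComponentsCores

theorem gen_eq_pCore_of_isPGroup {H : Type*} [Group H] [Finite H] {p : ℕ} (hp : p.Prime)
    (h : IsPGroup p (generalizedFittingSubgroup H)) :
    generalizedFittingSubgroup H = pCore p H :=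
  le_antisymm (le_pCore' h) ((pCore_le_fitting hp).trans fitting_le_gen)

/-- A form of the Thompson–Wielandt Theorem on primitive permutation groups. Let G be a finite group and M₁, M₂ two distinct conjugate maximal subgroups of G with trivial core in G; define two descending sequences of subgroups by A₀ = M₁, B₀ = M₂ and, for every i, A_{i+1} = the core in M₁ of A_i ∩ B_i and B_{i+1} = the core in M₂ of A_i ∩ B_i (the core in M of a subgroup Y ≤ M is the largest normal subgroup of M contained in Y). If A₂ and B₂ are both non-trivial, then for some prime p the subgroup generated by A₂ and B₂ is a p-group, and for each j the generalized Fitting subgroups of M_j and of its first core (A₁, resp. B₁) are their largest normal p-subgroups. -/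
theorem result {G : Type*} [Group G] [Finite G] (M₁ M₂ : Subgroup G) (hmax : IsCoatom M₁) (g : G)
    (hconj : M₂ = M₁.map (MulAut.conj g).toMonoidHom) (hne : M₁ ≠ M₂) (hcore : M₁.normalCore = ⊥)
    (A B : ℕ → Subgroup G) (hA0 : A 0 = M₁) (hB0 : B 0 = M₂)
    (hA : ∀ i, A (i + 1) = ((A i ⊓ B i).subgroupOf M₁).normalCore.map M₁.subtype)
    (hB : ∀ i, B (i + 1) = ((A i ⊓ B i).subgroupOf M₂).normalCore.map M₂.subtype) (hA2 : A 2 ≠ ⊥) (hB2 : B 2 ≠ ⊥) :
    ∃ p : ℕ, p.Prime ∧ IsPGroup p ↥(A 2 ⊔ B 2) ∧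
      Cfsg.generalizedFittingSubgroup ↥M₁ = Cfsg.pCore p ↥M₁ ∧ Cfsg.generalizedFittingSubgroup ↥(A 1) = Cfsg.pCore p ↥(A 1) ∧
      Cfsg.generalizedFittingSubgroup ↥M₂ = Cfsg.pCore p ↥M₂ ∧ Cfsg.generalizedFittingSubgroup ↥(B 1) = Cfsg.pCore p ↥(B 1) := by
  have hM2 : IsCoatom M₂ := by
    rw [hconj]
    exact (MulAut.conj g).mapSubgroup.isCoatom_iff _ |>.mpr hmax
  have hcore2 : M₂.normalCore = ⊥ := by
    rw [eq_bot_iff]
    intro x hx
    have hm : x ∈ M₁.normalCore := by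
      intro b
      have h := hx (g * b)
      rw [hconj] at h
      obtain ⟨y, hy, hyx⟩ := h
      have : b * x * b⁻¹ = y := by
        have e : g * y * g⁻¹ = g * b * x * (g * b)⁻¹ := hyx
        simpa [mul_assoc] using congrArg (fun t => g⁻¹ * t * g) e.symm
      rwa [this]
    rwa [hcore] at hm
  have hc1 : Ctrl M₁ M₂ := ctrl_of_isCoatom_core hmax hcore M₂
  have hc2 : Ctrl M₂ M₁ := ctrl_of_isCoatom_core hM2 hcore2 M₁
  have eA1 : A 1 = cor M₁ (M₁ ⊓ M₂) := by rw [hA 0, hA0, hB0]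
  have eB1 : B 1 = cor M₂ (M₁ ⊓ M₂) := by rw [hB 0, hA0, hB0]
  have eA2 : A 2 = cor M₁ (cor M₁ (M₁ ⊓ M₂) ⊓ cor M₂ (M₁ ⊓ M₂)) := by rw [hA 1, eA1, eB1]
  have eB2 : B 2 = cor M₂ (cor M₁ (M₁ ⊓ M₂) ⊓ cor M₂ (M₁ ⊓ M₂)) := by rw [hB 1, eA1, eB1]
  rw [eA2] at hA2
  rw [eB2] at hB2
  obtain ⟨p, hp, h1, h2⟩ := isPGroup_gen hc1 hc2 hne hA2 hB2
  haveI := Fact.mk hp
  have hA := isPGroup_cor hc1 hc2 hne hconj h1 hA2
  have hconj' : M₁ = M₂.map (MulAut.conj g⁻¹).toMonoidHom := by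
    rw [hconj, map_map, show (MulAut.conj g⁻¹).toMonoidHom.comp (MulAut.conj g).toMonoidHom =
      MonoidHom.id G from MonoidHom.ext fun z => by simp [mul_assoc], Subgroup.map_id]
  have hB : IsPGroup p ↥(cor M₂ (cor M₁ (M₁ ⊓ M₂) ⊓ cor M₂ (M₁ ⊓ M₂))) := by
    have hB2' : cor M₂ (cor M₂ (M₂ ⊓ M₁) ⊓ cor M₁ (M₂ ⊓ M₁)) ≠ ⊥ := by
      rwa [inf_comm M₂ M₁, inf_comm (cor M₂ (M₁ ⊓ M₂))]
    have h := isPGroup_cor hc2 hc1 hne.symm hconj' h2 hB2'
    rwa [inf_comm M₂ M₁, inf_comm (cor M₂ (M₁ ⊓ M₂))] at h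
  refine ⟨p, hp, ?_, gen_eq_pCore_of_isPGroup hp h1, ?_, gen_eq_pCore_of_isPGroup hp h2, ?_⟩
  · rw [eA2, eB2]
    exact hA.to_sup_of_normal_left' hB
      ((cor_le_right.trans (inf_le_left.trans cor_le_left)).trans le_normalizer_cor)
  · rw [eA1]
    exact gen_eq_pCore_of_isPGroup hp (fs_isPGroup_of_normal cor_le_left le_normalizer_cor h1)
  · rw [eB1]
    exact gen_eq_pCore_of_isPGroup hp (fs_isPGroup_of_normal cor_le_left le_normalizer_cor h2)

end Cfsg.Agent.S5752
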