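import Cfsg.Statements.S5753
import Cfsg.Agent.Lib.CherlinBinary73OddShape
import Cfsg.Agent.Lib.CherlinBinary73TwoShape
import Cfsg.Agent.Lib.CherlinBinary73Field

set_option autoImplicit false
open Cfsg

namespace Cfsg.Agent.S5753

open Module CherlinBinary73

open scoped IsMulCommutative

section

variable {G : Type*} [Group G] (N : Subgroup G) [N.Normal] [IsMulCommutative N] (p : ℕ)
  [Module (ZMod p) (Additive N)]

/-- Conjugation as an additive automorphism. -/
noncomputable def conjAdd (g : G) : Additive N ≃+ Additive N :=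
  MulEquiv.toAdditive (MulAut.conjNormal (H := N) g)

/-- Conjugation as a linear automorphism. -/
noncomputable def conjLin (g : G) : Additive N ≃ₗ[ZMod p] Additive N :=
  (conjAdd N g).toLinearEquiv fun c x => ZMod.map_smul (conjAdd N g).toAddMonoidHom c x

theorem conjLin_val (g : G) (v : Additive N) :
    ((conjLin N p g v).toMul : G) = g * (v.toMul : G) * g⁻¹ := rfl

/-- Conjugation as a homomorphism to the linear automorphisms. -/
noncomputable def conjHom : G →* (Additive N ≃ₗ[ZMod p] Additive N) where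
  toFun := conjLin N p
  map_one' := LinearEquiv.ext fun v => Additive.toMul.injective (Subtype.ext (by
    rw [conjLin_val, one_mul, inv_one, mul_one]
    rfl))
  map_mul' a b := LinearEquiv.ext fun v => Additive.toMul.injective (Subtype.ext (by
    rw [conjLin_val]
    show _ = ((conjLin N p a (conjLin N p b v)).toMul : G)
    rw [conjLin_val, conjLin_val]
    group))

theorem conjHom_val (g : G) (v : Additive N) :
    ((conjHom N p g v).toMul : G) = g * (v.toMul : G) * g⁻¹ := rfl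

end

/-- The classification, for a given regular normal subgroup of prime exponent. -/
theorem core {G Ω : Type*} [Group G] [Finite G] [MulAction G Ω] [FaithfulSMul G Ω] [Fintype Ω]
    [MulAction.IsPretransitive G Ω]
    (hbin : ∀ (n : ℕ) (I J : Fin n → Ω), 2 ≤ n →
      (∀ i j : Fin n, i ≠ j → ∃ g : G, g • I i = J i ∧ g • I j = J j) → ∃ g : G, ∀ i, g • I i = J i)
    (N : Subgroup G) [hNn : N.Normal] [IsMulCommutative N] (p : ℕ) [Fact p.Prime]
    [Module (ZMod p) (Additive N)] (ω₀ : Ω)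
    (hN : ∀ ω : Ω, ∃ m ∈ N, m • ω₀ = ω)
    (hfree : ∀ x ∈ N, x • ω₀ = ω₀ → x = 1)
    (hmin : ∀ M : Subgroup G, M ≤ N → M ≠ ⊥ →
      (∀ s ∈ MulAction.stabilizer G ω₀, ∀ m ∈ M, s * m * s⁻¹ ∈ M) → N ≤ M)
    (n₁ : G) (hn₁ : n₁ ∈ N) (hn₁1 : n₁ ≠ 1) :
    ((Fintype.card Ω).Prime ∧ ∀ ω : Ω, Nat.card ↥(MulAction.stabilizer G ω) ≤ 2) ∨
    (∃ (F E : Type) (_ : Field F) (_ : Fintype F) (_ : Field E) (_ : Fintype E) (_ : Algebra F E) (e : Ω ≃ E),
        Module.finrank F E = 2 ∧
        ∀ σ : Equiv.Perm Ω, σ ∈ (MulAction.toPermHom G Ω).range ↔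
          ∃ (a b : E) (φ : E ≃ₐ[F] E), Algebra.norm F a = 1 ∧ ∀ ω : Ω, e (σ ω) = a * φ (e ω) + b) := by
  classical
  -- points and vectors
  let pt : Additive N → Ω := fun v => (v.toMul : G) • ω₀
  have hptinj : Function.Injective pt := fun v w h => Additive.toMul.injective (Subtype.ext (by
    refine inv_mul_eq_one.1 (hfree _ (N.mul_mem (N.inv_mem v.toMul.2) w.toMul.2) ?_)
    rw [mul_smul]
    exact (congrArg (fun z => (v.toMul : G)⁻¹ • z) h.symm).trans (inv_smul_smul _ _)))
  have hptsurj : Function.Surjective pt := fun ω => by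
    obtain ⟨m, hm, h⟩ := hN ω
    exact ⟨Additive.ofMul ⟨m, hm⟩, h⟩
  have hpt_add : ∀ v w : Additive N, (v.toMul : G) • pt w = pt (v + w) := fun v w => by
    show _ = ((v.toMul * w.toMul : N) : G) • ω₀
    rw [Subgroup.coe_mul, mul_smul]
  -- the linear action of the stabiliser
  let L : MulAction.stabilizer G ω₀ →* (Additive N ≃ₗ[ZMod p] Additive N) :=
    (conjHom N p).comp (MulAction.stabilizer G ω₀).subtype
  have hL : ∀ (s : MulAction.stabilizer G ω₀) (v : Additive N), (s : G) • pt v = pt (L s v) :=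
    fun s v => by
    show (s : G) • ((v.toMul : G) • ω₀) = ((conjHom N p (s : G) v).toMul : G) • ω₀
    rw [conjHom_val, mul_smul, mul_smul, show (s : G)⁻¹ • ω₀ = ω₀ from inv_smul_eq_iff.2 s.2.symm]
  have hLinj : Function.Injective L := fun a b h => Subtype.ext (eq_of_smul_eq_smul fun ω : Ω => by
    obtain ⟨v, rfl⟩ := hptsurj ω
    rw [hL, hL, h])
  set H := L.range with hH
  have hcH : Nat.card H = Nat.card (MulAction.stabilizer G ω₀) :=
    (Nat.card_congr (MonoidHom.ofInjective hLinj).toEquiv).symm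
  have hpt0 : pt 0 = ω₀ := one_smul G ω₀
  -- binarity
  have hBin : Bin H := by
    intro W y hW
    have : Fintype W := Fintype.ofFinite W
    let ι := Option (Option W)
    let I₀ : ι → Ω := fun i => (i.getD none).elim ω₀ fun w => pt w.1
    let J₀ : ι → Ω := fun i => (i.getD none).elim ω₀ fun w => pt (w.1 + y)
    have hone : ∀ w : W, ∃ g : G, g • ω₀ = ω₀ ∧ g • pt w.1 = pt (w.1 + y) := fun w => by
      obtain ⟨_, ⟨s, rfl⟩, hs⟩ := hW w.1 w.2
      exact ⟨s, s.2, by rw [hL, hs]⟩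
    have hpair : ∀ i j : ι, ∃ g : G, g • I₀ i = J₀ i ∧ g • I₀ j = J₀ j := by
      intro i j
      show ∃ g : G, g • (i.getD none).elim ω₀ _ = _ ∧ g • (j.getD none).elim ω₀ _ = _
      simp only [I₀, J₀]
      rcases i.getD none with _ | w <;> rcases j.getD none with _ | w'
      · exact ⟨1, one_smul _ _, one_smul _ _⟩
      · exact hone w'
      · exact (hone w).imp fun g h => h.symm
      · refine ⟨(y.toMul : G), ?_, ?_⟩ <;>
          simp only [Option.elim_some] <;> rw [hpt_add, add_comm]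
    let eι := Fintype.equivFin ι
    obtain ⟨g, hg⟩ := hbin (Fintype.card ι) (I₀ ∘ eι.symm) (J₀ ∘ eι.symm)
      (by simp [ι, Fintype.card_option]) (fun i j _ => hpair _ _)
    have hg0 : g • ω₀ = ω₀ := by simpa [I₀, J₀] using hg (eι none)
    refine ⟨L ⟨g, hg0⟩, ⟨_, rfl⟩, fun w hw => hptinj ?_⟩
    rw [← hL]
    simpa [I₀, J₀] using hg (eι (some (some ⟨w, hw⟩)))
  have hnt : Nontrivial (Additive N) :=
    ⟨⟨Additive.ofMul ⟨n₁, hn₁⟩, 0, fun h => hn₁1 (congrArg (fun z => (z.toMul : G)) h)⟩⟩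
  have hIrr : Irred H := by
    intro S hS
    let M : Subgroup G :=
      { carrier := {x | ∃ h : x ∈ N, Additive.ofMul (⟨x, h⟩ : N) ∈ S}
        mul_mem' := fun {x y} ⟨hx, hxS⟩ ⟨hy, hyS⟩ => ⟨N.mul_mem hx hy, S.add_mem hxS hyS⟩
        one_mem' := ⟨N.one_mem, S.zero_mem⟩
        inv_mem' := fun {x} ⟨hx, hxS⟩ => ⟨N.inv_mem hx, S.neg_mem hxS⟩ }
    by_cases hMb : M = ⊥
    · left
      refine (Submodule.eq_bot_iff _).2 fun v hv => Additive.toMul.injective (Subtype.ext ?_)
      have : (v.toMul : G) ∈ M := ⟨v.toMul.2, hv⟩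
      rw [hMb, Subgroup.mem_bot] at this
      exact this
    · right
      refine Submodule.eq_top_iff'.2 fun v => ?_
      obtain ⟨_, h⟩ := hmin M (fun x ⟨hx, _⟩ => hx) hMb (fun s hs m ⟨hm, hmS⟩ =>
        ⟨hNn.conj_mem m hm s, hS (L ⟨s, hs⟩) ⟨_, rfl⟩ _ hmS⟩) v.toMul.2
      exact h
  have hcΩ : Fintype.card Ω = Nat.card (Additive N) := by
    rw [← Nat.card_eq_fintype_card, Nat.card_eq_of_bijective pt ⟨hptinj, hptsurj⟩]
  have hmain : (finrank (ZMod p) (Additive N) = 1 ∧ Nat.card H ≤ 2) ∨ Shape H := by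
    by_cases h2 : (2 : ZMod p) = 0
    · exact two_main hBin h2 hIrr
    · exact odd_main hBin h2 hIrr
  rcases hmain with ⟨h1, h2⟩ | hshape
  · left
    refine ⟨?_, fun ω => ?_⟩
    · rw [hcΩ, ← FiniteField.pow_finrank_eq_natCard p (Additive N), h1, pow_one]
      exact Fact.out
    · rw [Nat.card_congr (MulAction.stabilizerEquivStabilizerOfOrbitRel
        (show MulAction.orbitRel G Ω ω ω₀ from MulAction.exists_smul_eq G ω₀ ω)).toEquiv, ← hcH]
      exact h2
  · right
    obtain ⟨F, E, iF, iF', iE, iE', iA, ψ, hrk, hto, hfrom⟩ := field_model hshape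
    let ptE : Additive N ≃ Ω := Equiv.ofBijective pt ⟨hptinj, hptsurj⟩
    let e : Ω ≃ E := ptE.symm.trans ψ.toEquiv
    have he : ∀ v, e (pt v) = ψ v := fun v => congrArg ψ (ptE.symm_apply_apply v)
    refine ⟨F, E, iF, iF', iE, iE', iA, e, hrk, fun σ => ⟨?_, ?_⟩⟩
    · rintro ⟨g, rfl⟩
      obtain ⟨v, hv⟩ := hptsurj (g • ω₀)
      have hs : (v.toMul : G)⁻¹ * g ∈ MulAction.stabilizer G ω₀ := by
        rw [MulAction.mem_stabilizer_iff, mul_smul, ← hv, inv_smul_smul]
      obtain ⟨a, φ, ha, hφ⟩ := hto (L ⟨_, hs⟩) ⟨_, rfl⟩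
      refine ⟨a, ψ v, φ, ha, fun ω => ?_⟩
      obtain ⟨w, rfl⟩ := hptsurj ω
      show e (g • pt w) = _
      have : g • pt w = pt (v + L ⟨_, hs⟩ w) := by
        rw [← hpt_add, ← hL]
        show g • pt w = (v.toMul : G) • ((v.toMul : G)⁻¹ * g) • pt w
        rw [mul_smul, smul_inv_smul]
      rw [this, he, he, map_add, hφ, add_comm]
    · rintro ⟨a, b, φ, ha, hσ⟩
      obtain ⟨_, ⟨s, rfl⟩, hs⟩ := hfrom a φ ha
      refine ⟨((ψ.symm b).toMul : G) * (s : G), Equiv.ext fun ω => e.injective ?_⟩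
      obtain ⟨w, rfl⟩ := hptsurj ω
      rw [hσ, he]
      show e ((((ψ.symm b).toMul : G) * (s : G)) • pt w) = _
      rw [mul_smul, hL, hpt_add, he, map_add, hs, AddEquiv.apply_symm_apply, add_comm]


/-- The binary primitive permutation groups of affine type (the known proof uses the classification of the finite simple groups). Let a finite group G act faithfully and primitively on a finite set Ω, with a non-trivial abelian normal subgroup, and suppose the action is binary: for every n ≥ 2 and all n-tuples I, J of points, if for every pair of positions some element of G carries the corresponding pair of entries of I to those of J, then a single element carries I to J. Then either Ω has a prime number of points and every point stabilizer has order at most 2, or Ω can be identified with a field E that is a quadratic extension of a subfield F in such a way that the permutations induced by G are exactly the maps x ↦ a·φ(x) + b with a ∈ E of norm 1 over F, φ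 an automorphism of E over F and b ∈ E (the affine group of the anisotropic plane orthogonal group). -/
theorem result {G Ω : Type*} [Group G] [Finite G] [MulAction G Ω] [FaithfulSMul G Ω] [Fintype Ω]
    (hprim : MulAction.IsPreprimitive G Ω)
    (haff : ∃ N : Subgroup G, N.Normal ∧ N ≠ ⊥ ∧ IsMulCommutative ↥N)
    (hbin : ∀ (n : ℕ) (I J : Fin n → Ω), 2 ≤ n →
      (∀ i j : Fin n, i ≠ j → ∃ g : G, g • I i = J i ∧ g • I j = J j) → ∃ g : G, ∀ i, g • I i = J i) :
    ((Fintype.card Ω).Prime ∧ ∀ ω : Ω, Nat.card ↥(MulAction.stabilizer G ω) ≤ 2) ∨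
    (∃ (F E : Type) (_ : Field F) (_ : Fintype F) (_ : Field E) (_ : Fintype E) (_ : Algebra F E) (e : Ω ≃ E),
        Module.finrank F E = 2 ∧
        ∀ σ : Equiv.Perm Ω, σ ∈ (MulAction.toPermHom G Ω).range ↔
          ∃ (a b : E) (φ : E ≃ₐ[F] E), Algebra.norm F a = 1 ∧ ∀ ω : Ω, e (σ ω) = a * φ (e ω) + b) := by
  classical
  obtain ⟨N, hNn, hNb, hNc⟩ := haff
  have hNcomm : ∀ x y : N, x * y = y * x := fun x y => mul_comm' x y
  have hcg : ∀ x ∈ N, ∀ y ∈ N, x * y = y * x := fun x hx y hy =>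
    congrArg Subtype.val (hNcomm ⟨x, hx⟩ ⟨y, hy⟩)
  -- non-trivial normal subgroups are transitive
  have htrans : ∀ M : Subgroup G, M.Normal → M ≠ ⊥ → ∀ a b : Ω, ∃ m ∈ M, m • a = b := by
    intro M hM hMb a b
    have hfix : MulAction.fixedPoints M Ω ≠ Set.univ := by
      intro h
      refine hMb ((Subgroup.eq_bot_iff_forall _).2 fun m hm => eq_of_smul_eq_smul fun ω : Ω => ?_)
      rw [one_smul]
      exact (h ▸ Set.mem_univ ω : ω ∈ MulAction.fixedPoints M Ω) ⟨m, hm⟩
    have : MulAction.IsPretransitive M Ω :=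
      MulAction.IsQuasiPreprimitive.isPretransitive_of_normal hfix
    obtain ⟨m, hm⟩ := MulAction.exists_smul_eq M a b
    exact ⟨m, m.2, hm⟩
  obtain ⟨n₁, hn₁, hn₁1⟩ := (Subgroup.bot_or_exists_ne_one N).resolve_left hNb
  obtain ⟨ω₀, -⟩ : ∃ ω : Ω, n₁ • ω ≠ ω := by
    by_contra h
    push Not at h
    exact hn₁1 (eq_of_smul_eq_smul fun ω : Ω => by rw [h, one_smul])
  have hfree : ∀ x ∈ N, x • ω₀ = ω₀ → x = 1 := by
    intro x hx h
    refine eq_of_smul_eq_smul fun ω : Ω => ?_
    obtain ⟨m, hm, rfl⟩ := htrans N hNn hNb ω₀ ω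
    rw [one_smul, ← mul_smul, hcg x hx m hm, mul_smul, h]
  -- invariant subgroups of `N`
  have hmin : ∀ M : Subgroup G, M ≤ N → M ≠ ⊥ →
      (∀ s ∈ MulAction.stabilizer G ω₀, ∀ m ∈ M, s * m * s⁻¹ ∈ M) → N ≤ M := by
    intro M hMN hMb hinv
    have hMn : M.Normal := ⟨fun m hm g => by
      obtain ⟨x, hx, hxg⟩ := htrans N hNn hNb ω₀ (g • ω₀)
      have hs : x⁻¹ * g ∈ MulAction.stabilizer G ω₀ := by
        rw [MulAction.mem_stabilizer_iff, mul_smul, ← hxg, inv_smul_smul]
      have h1 := hinv _ hs m hm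
      have e : g * m * g⁻¹ = x * (x⁻¹ * g * m * (x⁻¹ * g)⁻¹) * x⁻¹ := by group
      rw [e, hcg x hx _ (hMN h1), mul_inv_cancel_right]
      exact h1⟩
    intro x hx
    obtain ⟨m, hm, hmx⟩ := htrans M hMn hMb ω₀ (x • ω₀)
    have : x⁻¹ * m = 1 := hfree _ (N.mul_mem (N.inv_mem hx) (hMN hm))
      (by rw [mul_smul, hmx, inv_smul_smul])
    rw [inv_mul_eq_one.1 this]
    exact hm
  -- the exponent
  have hcN : Nat.card N ≠ 1 := fun h => hNb (Subgroup.card_eq_one.1 h)
  obtain ⟨p, hp, hpdvd⟩ := Nat.exists_prime_and_dvd hcN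
  have hfact : Fact p.Prime := ⟨hp⟩
  obtain ⟨x₁, hx₁⟩ := exists_prime_orderOf_dvd_card' p hpdvd
  have hexp : ∀ x : N, x ^ p = 1 := by
    let M : Subgroup G :=
      { carrier := {x | x ∈ N ∧ x ^ p = 1}
        mul_mem' := fun {x y} hx hy => ⟨N.mul_mem hx.1 hy.1, by
          rw [Commute.mul_pow (hcg x hx.1 y hy.1), hx.2, hy.2, one_mul]⟩
        one_mem' := ⟨N.one_mem, one_pow p⟩
        inv_mem' := fun {x} hx => ⟨N.inv_mem hx.1, by rw [inv_pow, hx.2, inv_one]⟩ }
    have hMb : M ≠ ⊥ := fun h => by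
      have hmem : (x₁ : G) ∈ M :=
        ⟨x₁.2, congrArg Subtype.val (hx₁ ▸ pow_orderOf_eq_one x₁)⟩
      rw [h, Subgroup.mem_bot] at hmem
      rw [show x₁ = 1 from Subtype.ext hmem, orderOf_one] at hx₁
      exact hp.ne_one hx₁.symm
    have hle := hmin M (fun x hx => hx.1) hMb fun s _ m hm =>
      ⟨hNn.conj_mem m hm.1 s, by rw [conj_pow, hm.2, mul_one, mul_inv_cancel]⟩
    exact fun x => Subtype.ext (hle x.2).2
  have hsmul : ∀ x : Additive N, p • x = 0 := fun x =>
    Additive.toMul.injective (hexp x.toMul)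
  letI : Module (ZMod p) (Additive N) := AddCommGroup.zmodModule hsmul
  exact core hbin N p ω₀ (htrans N hNn hNb ω₀) hfree hmin n₁ hn₁ hn₁1

end Cfsg.Agent.S5753
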