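import Cfsg.Statements.S5754
import Mathlib


set_option autoImplicit false
open Cfsg

namespace Cfsg.Agent.S5754

section
variable {F V : Type*} [Field F] [AddCommGroup V] [Module F V]

lemma map_sub_polar (Q : QuadraticForm F V) (a b : V) :
    Q (a - b) = Q a + Q b - QuadraticMap.polar Q a b := by
  have h := QuadraticMap.map_add Q (a - b) b
  rw [sub_add_cancel, QuadraticMap.polar_sub_left, QuadraticMap.polar_self] at h
  simp only [nsmul_eq_mul, Nat.cast_ofNat] at h
  linear_combination -h

/-- The reflection in a vector with non-zero norm. -/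
lemma exists_reflection (Q : QuadraticForm F V) (z : V) (hz : Q z ≠ 0) :
    ∃ φ : Q.IsometryEquiv Q, ∀ t : V, φ t = t - (QuadraticMap.polar Q z t / Q z) • z := by
  let L : V →ₗ[F] V :=
    { toFun := fun t => t - (QuadraticMap.polar Q z t / Q z) • z
      map_add' := fun a b => by rw [QuadraticMap.polar_add_right, add_div, add_smul]; abel
      map_smul' := fun c a => by
        rw [QuadraticMap.polar_smul_right, smul_eq_mul, mul_div_assoc, smul_sub, RingHom.id_apply, smul_smul] }
  have hzz : QuadraticMap.polar Q z z = 2 * Q z := by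
    rw [QuadraticMap.polar_self]; simp
  have hinv : Function.Involutive L := by
    intro t
    change (t - (QuadraticMap.polar Q z t / Q z) • z) -
      (QuadraticMap.polar Q z (t - (QuadraticMap.polar Q z t / Q z) • z) / Q z) • z = t
    rw [QuadraticMap.polar_sub_right, QuadraticMap.polar_smul_right, hzz, smul_eq_mul]
    have : (QuadraticMap.polar Q z t - QuadraticMap.polar Q z t / Q z * (2 * Q z)) / Q z
        = -(QuadraticMap.polar Q z t / Q z) := by field_simp; ring
    rw [this, neg_smul]; abel
  refine ⟨{ LinearEquiv.ofInvolutive L hinv with map_app' := fun t => ?_ }, fun t => rfl⟩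
  change Q (t - (QuadraticMap.polar Q z t / Q z) • z) = Q t
  rw [map_sub_polar, QuadraticMap.map_smul, QuadraticMap.polar_smul_right, QuadraticMap.polar_comm Q t z,
    smul_eq_mul, smul_eq_mul]
  field_simp
  ring

/-- Witt's extension property for an anisotropic form. -/
lemma witt {ι : Type*} (Q : QuadraticForm F V) (hQ : Q.Anisotropic) (v v' : ι → V)
    (h1 : ∀ i, Q (v i) = Q (v' i)) (h2 : ∀ i j, Q (v i - v j) = Q (v' i - v' j)) (s : Finset ι) :
    ∃ φ : Q.IsometryEquiv Q, ∀ i ∈ s, φ (v i) = v' i := by
  classical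
  induction s using Finset.induction_on with
  | empty => exact ⟨QuadraticMap.IsometryEquiv.refl Q, by simp⟩
  | @insert a s ha ih =>
    obtain ⟨φ, hφ⟩ := ih
    by_cases hxy : φ (v a) = v' a
    · exact ⟨φ, fun i hi => (Finset.mem_insert.mp hi).elim (fun e => e ▸ hxy) (hφ i)⟩
    have hz : Q (φ (v a) - v' a) ≠ 0 := fun h => hxy (sub_eq_zero.mp (hQ _ h))
    obtain ⟨r, hr⟩ := exists_reflection Q _ hz
    refine ⟨φ.trans r, fun i hi => ?_⟩
    change r (φ (v i)) = v' i
    rcases Finset.mem_insert.mp hi with rfl | hi
    · rw [hr]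
      have : QuadraticMap.polar Q (φ (v i) - v' i) (φ (v i)) = Q (φ (v i) - v' i) := by
        rw [QuadraticMap.polar_sub_left, QuadraticMap.polar_self, map_sub_polar,
          QuadraticMap.polar_comm Q (v' i) (φ (v i)), ← h1 i, φ.map_app]
        simp only [nsmul_eq_mul, Nat.cast_ofNat]
        ring
      rw [this, div_self hz, one_smul]; abel
    · rw [hφ i hi, hr]
      have hw : Q (φ (v a) - v' i) = Q (v' a - v' i) := by
        rw [← h2 a i, ← hφ i hi]
        have : φ (v a) - φ (v i) = φ (v a - v i) := (map_sub φ.toLinearEquiv _ _).symm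
        rw [this, φ.map_app]
      rw [map_sub_polar, map_sub_polar, φ.map_app, h1 a] at hw
      have : QuadraticMap.polar Q (φ (v a) - v' a) (v' i) = 0 := by
        rw [QuadraticMap.polar_sub_left]
        linear_combination -hw
      rw [this, zero_div, zero_smul, sub_zero]

end


/-- Let V be a finite-dimensional vector space over a finite field F carrying an anisotropic quadratic form Q (Q(v) = 0 only for v = 0). Then the group of all maps v ↦ φ(v) + c, with φ an isometry of Q and c ∈ V, acts on V as a binary permutation group: given n ≥ 2 and two n-tuples u, u' of vectors such that every pair of corresponding entries of u is carried to that of u' by such a map, one such map carries u to u'. -/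
theorem result {F V : Type*} [Field F] [Finite F] [AddCommGroup V] [Module F V] [Module.Finite F V]
    (Q : QuadraticForm F V) (hQ : Q.Anisotropic) (n : ℕ) (hn : 2 ≤ n) (u u' : Fin n → V)
    (h2 : ∀ i j : Fin n, i ≠ j → ∃ (φ : Q.IsometryEquiv Q) (c : V), φ (u i) + c = u' i ∧ φ (u j) + c = u' j) :
    ∃ (φ : Q.IsometryEquiv Q) (c : V), ∀ i, φ (u i) + c = u' i := by
  classical
  haveI : NeZero n := ⟨by omega⟩
  have hd : ∀ i j, Q (u i - u j) = Q (u' i - u' j) := by
    intro i j
    rcases eq_or_ne i j with rfl | hij
    · simp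
    obtain ⟨φ, c, hi, hj⟩ := h2 i j hij
    rw [← hi, ← hj, add_sub_add_right_eq_sub]
    have : φ (u i) - φ (u j) = φ (u i - u j) := (map_sub φ.toLinearEquiv _ _).symm
    rw [this, φ.map_app]
  obtain ⟨φ, hφ⟩ := witt Q hQ (fun i => u i - u 0) (fun i => u' i - u' 0) (fun i => hd i 0)
    (fun i j => by simp only [sub_sub_sub_cancel_right]; exact hd i j) Finset.univ
  refine ⟨φ, u' 0 - φ (u 0), fun i => ?_⟩
  have h : φ (u i - u 0) = u' i - u' 0 := hφ i (Finset.mem_univ i)
  have : φ (u i - u 0) = φ (u i) - φ (u 0) := map_sub φ.toLinearEquiv _ _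
  rw [this] at h
  calc φ (u i) + (u' 0 - φ (u 0)) = (φ (u i) - φ (u 0)) + u' 0 := by abel
    _ = u' i := by rw [h]; abel

end Cfsg.Agent.S5754
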