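import Cfsg.Statements.S5763
import Mathlib


set_option autoImplicit false
open Cfsg

namespace Cfsg.Agent.S5763

section
variable {α : Type*}

/-- A fixed-point-free involution. -/
def FPFI (u : Equiv.Perm α) : Prop := u * u = 1 ∧ ∀ a, u a ≠ a

lemma key [Fintype α] [DecidableEq α] (h8 : Fintype.card α = 8) (u v : Equiv.Perm α) (hu : FPFI u) (hv : FPFI v)
    (hne : ∀ a, v a ≠ u a) :
    ∃ z : Equiv.Perm α, z * z = 1 ∧ z * u = u * z ∧ z * v = v * z ∧ ∀ a, z a ≠ a ∧ z a ≠ u a ∧ z a ≠ v a := by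
  obtain ⟨hu2, hu0⟩ := hu
  obtain ⟨hv2, hv0⟩ := hv
  have huu : ∀ x, u (u x) = x := fun x => by rw [← Equiv.Perm.mul_apply, hu2, Equiv.Perm.one_apply]
  have hvv : ∀ x, v (v x) = x := fun x => by rw [← Equiv.Perm.mul_apply, hv2, Equiv.Perm.one_apply]
  set r : Equiv.Perm α := u * v with hr
  have hrx : ∀ x, r x = u (v x) := fun x => rfl
  by_cases h2 : ∀ x, r (r x) = x
  · have hcomm : ∀ x, u (v x) = v (u x) := fun x => by
      have := h2 (v (u x))
      rw [hrx, hrx, hvv, huu] at this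
      exact this
    refine ⟨r, Equiv.ext h2, Equiv.ext fun x => ?_, Equiv.ext fun x => ?_, fun a => ⟨?_, ?_, ?_⟩⟩
    · show u (v (u x)) = u (u (v x))
      rw [hcomm x]
    · show u (v (v x)) = v (u (v x))
      rw [← hcomm (v x)]
    · intro h
      apply hne a
      exact u.injective (((hrx a).symm.trans h).trans (huu a).symm)
    · intro h
      exact hv0 a (u.injective ((hrx a).symm.trans h))
    · intro h
      exact hu0 (v a) ((hrx a).symm.trans h)
  push_neg at h2
  obtain ⟨a, ha2⟩ := h2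
  have hvr : ∀ x, v x = u (r x) := fun x => by rw [hrx, huu]
  have hru : ∀ x, r (u (r x)) = u x := fun x => by rw [hrx, hrx, huu, hvv]
  have hruk : ∀ (k : ℕ) x, (r ^ k) (u ((r ^ k) x)) = u x := by
    intro k
    induction k with
    | zero => simp
    | succ k ih =>
      intro x
      have h' : (r ^ (k + 1)) x = r ((r ^ k) x) := by rw [pow_succ']; rfl
      have h'' : ∀ y, (r ^ (k + 1)) y = (r ^ k) (r y) := fun y => by rw [pow_succ]; rfl
      rw [h'', h', hru, ih]
  have hD : ∀ (i : ℕ) x, u x ≠ (r ^ i) x := by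
    intro i x h
    rcases Nat.even_or_odd' i with ⟨j, hj | hj⟩
    · apply hu0 ((r ^ j) x)
      apply (r ^ j).injective
      rw [hruk, h, hj, two_mul, pow_add]; rfl
    · apply hv0 ((r ^ j) x)
      apply u.injective
      rw [← hrx]
      symm
      apply (r ^ j).injective
      rw [hruk, h, hj, two_mul, pow_add, pow_add, pow_one]
      show (r ^ j) ((r ^ j) (r x)) = (r ^ j) (r ((r ^ j) x))
      rw [← Equiv.Perm.mul_apply (r ^ j) r, ← Equiv.Perm.mul_apply r (r ^ j), (Commute.pow_self r j).eq]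
  have hD' : ∀ i j, (r ^ i) a ≠ u ((r ^ j) a) := by
    intro i j h
    apply hD (j + i) a
    rw [← hruk j a, ← h, pow_add]; rfl
  have e1 : r a ≠ a := fun h => ha2 (by rw [h, h])
  have e3 : r (r (r a)) ≠ a := by
    intro h3
    let S : Finset α := {a, r a, r (r a), u a, u (r a), u (r (r a))}
    have hcl : ∀ x ∈ S, u x ∈ S ∧ v x ∈ S := by
      intro x hx
      simp only [S, Finset.mem_insert, Finset.mem_singleton] at hx ⊢
      have hvu : ∀ y, v (u (r y)) = y := fun y => by rw [hrx, huu, hvv]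
      rcases hx with rfl | rfl | rfl | rfl | rfl | rfl
      · exact ⟨by simp, by simp [hvr x]⟩
      · exact ⟨by simp, by simp [hvr (r a)]⟩
      · exact ⟨by simp, by simp [hvr (r (r a)), h3]⟩
      · refine ⟨by simp [huu], Or.inr (Or.inr (Or.inl ?_))⟩
        conv_lhs => rw [← h3]
        exact hvu _
      · exact ⟨by simp [huu], Or.inl (hvu a)⟩
      · exact ⟨by simp [huu], Or.inr (Or.inl (hvu _))⟩
    have hlt : (Sᶜ).card ≠ 0 ∧ (Sᶜ).card ≤ 2 := by
      rw [Finset.card_compl, h8]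
      have hle : S.card ≤ 6 := by
        have hS : S = [a, r a, r (r a), u a, u (r a), u (r (r a))].toFinset := by simp [S]
        rw [hS]
        exact List.toFinset_card_le _
      have hge : 6 ≤ S.card := by
        have hne' : ∀ i j, u ((r ^ i) a) ≠ (r ^ j) a := fun i j h => hD' j i h.symm
        have a0 := hD' 0 0; have a1 := hD' 0 1; have a2 := hD' 0 2
        have b0 := hD' 1 0; have b1 := hD' 1 1; have b2 := hD' 1 2
        have c0 := hD' 2 0; have c1 := hD' 2 1; have c2 := hD' 2 2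
        simp only [pow_zero, pow_one, pow_two, Equiv.Perm.one_apply, Equiv.Perm.mul_apply] at a0 a1 a2 b0 b1 b2 c0 c1 c2
        have d : r a ≠ r (r a) := fun h => e1 (r.injective h).symm
        simp [S, a0, a1, a2, b0, b1, b2, c0, c1, c2, d, Ne.symm e1, Ne.symm ha2, u.injective.eq_iff]
      omega
    obtain ⟨b, hb⟩ := Finset.card_pos.mp (Nat.pos_of_ne_zero hlt.1)
    have hbS : b ∉ S := Finset.mem_compl.mp hb
    have hub : u b ∈ Sᶜ := Finset.mem_compl.mpr fun h => hbS (huu b ▸ (hcl _ h).1)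
    have hvb : v b ∈ Sᶜ := Finset.mem_compl.mpr fun h => hbS (hvv b ▸ (hcl _ h).2)
    have : ({b, u b, v b} : Finset α) ⊆ Sᶜ := by
      intro x hx
      simp only [Finset.mem_insert, Finset.mem_singleton] at hx
      rcases hx with rfl | rfl | rfl <;> assumption
    have h3' : ({b, u b, v b} : Finset α).card = 3 := by
      simp [Ne.symm (hu0 b), Ne.symm (hv0 b), Ne.symm (hne b)]
    have := Finset.card_le_card this
    omega
  let T : Finset α := {a, r a, r (r a), r (r (r a)), u a, u (r a), u (r (r a)), u (r (r (r a)))}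
  have hT : T = Finset.univ := by
    apply Finset.eq_univ_of_card
    rw [h8]
    have a0 := hD' 0 0; have a1 := hD' 0 1; have a2 := hD' 0 2; have a3 := hD' 0 3
    have b0 := hD' 1 0; have b1 := hD' 1 1; have b2 := hD' 1 2; have b3 := hD' 1 3
    have c0 := hD' 2 0; have c1 := hD' 2 1; have c2 := hD' 2 2; have c3 := hD' 2 3
    have d0 := hD' 3 0; have d1 := hD' 3 1; have d2 := hD' 3 2; have d3 := hD' 3 3
    simp only [pow_succ', pow_zero, mul_one, Equiv.Perm.one_apply, Equiv.Perm.mul_apply] at a0 a1 a2 a3 b0 b1 b2 b3 c0 c1 c2 c3 d0 d1 d2 d3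
    have f1 : r a ≠ r (r a) := fun h => e1 (r.injective h).symm
    have f2 : r a ≠ r (r (r a)) := fun h => ha2 (r.injective h).symm
    have f3 : r (r a) ≠ r (r (r a)) := fun h => f1 (r.injective h)
    simp [T, a0, a1, a2, a3, b0, b1, b2, b3, c0, c1, c2, c3, d0, d1, d2, d3, f1, f2, f3, Ne.symm e1, Ne.symm ha2,
      Ne.symm e3, u.injective.eq_iff]
  have hr4a : r (r (r (r a))) = a := by
    have hm : r (r (r (r a))) ∈ T := by rw [hT]; exact Finset.mem_univ _
    have a0 := hD' 4 0; have a1 := hD' 4 1; have a2 := hD' 4 2; have a3 := hD' 4 3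
    simp only [pow_succ', pow_zero, mul_one, Equiv.Perm.one_apply, Equiv.Perm.mul_apply] at a0 a1 a2 a3
    simp only [T, Finset.mem_insert, Finset.mem_singleton] at hm
    rcases hm with h | h | h | h | h | h | h | h
    · exact h
    · exact absurd (r.injective h) e3
    · exact absurd (r.injective (r.injective h)) ha2
    · exact absurd (r.injective (r.injective (r.injective h))) e1
    · exact absurd h a0
    · exact absurd h a1
    · exact absurd h a2
    · exact absurd h a3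
  have hr4 : ∀ x, r (r (r (r x))) = x := by
    intro x
    have hu4 : ∀ y, r (r (r (r y))) = y → r (r (r (r (u y)))) = u y := fun y hy => by
      have := hruk 4 y
      simp only [pow_succ', pow_zero, mul_one, Equiv.Perm.mul_apply] at this
      rwa [hy] at this
    have hm : x ∈ T := by rw [hT]; exact Finset.mem_univ _
    simp only [T, Finset.mem_insert, Finset.mem_singleton] at hm
    rcases hm with rfl | rfl | rfl | rfl | rfl | rfl | rfl | rfl
    · exact hr4a
    · rw [hr4a]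
    · rw [hr4a]
    · rw [hr4a]
    all_goals exact hu4 _ (by simp only [hr4a])
  have hz : ∀ x, r (r x) ≠ x := by
    intro x hx
    have hu' : ∀ y, r (r (u y)) = u y → r (r y) = y := fun y hy => by
      apply u.injective
      have := hruk 2 y
      simp only [pow_succ', pow_zero, mul_one, Equiv.Perm.mul_apply] at this
      exact r.injective (r.injective (this.trans hy.symm))
    have hm : x ∈ T := by rw [hT]; exact Finset.mem_univ _
    simp only [T, Finset.mem_insert, Finset.mem_singleton] at hm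
    have hb : ∀ y, r (r (r y)) = r y → r (r y) = y := fun y h => r.injective h
    rcases hm with rfl | rfl | rfl | rfl | rfl | rfl | rfl | rfl
    · exact ha2 hx
    · exact ha2 (hb _ hx)
    · exact ha2 (hb _ (hb _ hx))
    · exact ha2 (hb _ (hb _ (hb _ hx)))
    · exact ha2 (hu' _ hx)
    · exact ha2 (hb _ (hu' _ hx))
    · exact ha2 (hb _ (hb _ (hu' _ hx)))
    · exact ha2 (hb _ (hb _ (hb _ (hu' _ hx))))
  refine ⟨r * r, Equiv.ext fun x => hr4 x, Equiv.ext fun x => ?_, Equiv.ext fun x => ?_, fun x => ⟨hz x, ?_, ?_⟩⟩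
  · show r (r (u x)) = u (r (r x))
    have := hruk 2 (r (r x))
    simp only [pow_succ', pow_zero, mul_one, Equiv.Perm.mul_apply, hr4] at this
    exact this
  · show r (r (v x)) = v (r (r x))
    rw [hvr, hvr]
    have := hruk 2 (r (r (r x)))
    simp only [pow_succ', pow_zero, mul_one, Equiv.Perm.mul_apply] at this
    rw [show r (r (r (r (r x)))) = r x from hr4 (r x)] at this
    exact this
  · intro h
    exact hD 2 x (by simp only [pow_succ', pow_zero, mul_one, Equiv.Perm.mul_apply]; exact h.symm)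
  · intro h
    rw [hvr] at h
    exact hD 1 (r x) (by rw [pow_one]; exact h.symm)

end

/-- The other end of an edge. -/
def flipEnd (a : Fin 8) : Fin 8 :=
  if h : (a : ℕ) % 2 = 0 then ⟨(a : ℕ) + 1, by omega⟩ else ⟨(a : ℕ) - 1, by omega⟩

lemma flipEnd_flipEnd : ∀ a : Fin 8, flipEnd (flipEnd a) = a := by decide

/-- The standard fixed-point-free involution. -/
def u₀ : Equiv.Perm (Fin 8) := Function.Involutive.toPerm flipEnd flipEnd_flipEnd

/-- The edge of a point. -/
def ed (a : Fin 8) : ℕ := (a : ℕ) / 2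

/-- Permutations acting on the four edges as translations. -/
def O : Subgroup (Equiv.Perm (Fin 8)) where
  carrier := {σ | ∃ t : ℕ, ∀ a, ed (σ a) = ed a ^^^ t}
  mul_mem' := by
    rintro σ τ ⟨s, hs⟩ ⟨t, ht⟩
    exact ⟨t ^^^ s, fun a => by rw [Equiv.Perm.mul_apply, hs, ht, Nat.xor_assoc]⟩
  one_mem' := ⟨0, fun a => by simp⟩
  inv_mem' := by
    rintro σ ⟨t, ht⟩
    refine ⟨t, fun a => ?_⟩
    have := ht (σ⁻¹ a)
    rw [Equiv.Perm.inv_def, Equiv.apply_symm_apply] at this
    rw [Equiv.Perm.inv_def, this, Nat.xor_assoc, Nat.xor_self, Nat.xor_zero]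

lemma ed_eq_iff : ∀ a b : Fin 8, ed a = ed b ↔ b = a ∨ b = u₀ a := by decide

lemma O_pgroup : IsPGroup 2 O := by
  rintro ⟨σ, t, ht⟩
  refine ⟨2, Subtype.ext (Equiv.ext fun a => ?_)⟩
  have h2 : ∀ b, ed (σ (σ b)) = ed b := fun b => by rw [ht, ht, Nat.xor_assoc, Nat.xor_self, Nat.xor_zero]
  change σ (σ (σ (σ a))) = a
  have hu₀ : ∀ b : Fin 8, u₀ b ≠ b := by decide
  rcases (ed_eq_iff a (σ (σ a))).mp (h2 a).symm with h | h
  · rw [h, h]
  · rcases (ed_eq_iff a (σ (σ (u₀ a)))).mp (by rw [h2]; exact (ed_eq_iff _ _).mpr (Or.inr rfl)) with h' | h'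
    · rw [h, h']
    · exact absurd (σ.injective (σ.injective (h.trans h'.symm))).symm (hu₀ a)

lemma fourth' : ∀ a b c d : Fin 4, (a ≠ b ∧ a ≠ c ∧ a ≠ d ∧ b ≠ c ∧ b ≠ d ∧ c ≠ d) →
    (d : ℕ) = (c : ℕ) ^^^ ((a : ℕ) ^^^ (b : ℕ)) := by decide +kernel

lemma mem_O (z : Equiv.Perm (Fin 8)) (h2 : z * z = 1) (hu : z * u₀ = u₀ * z)
    (h : ∀ a, z a ≠ a ∧ z a ≠ u₀ a) : z ∈ O := by
  have hzz : ∀ a, z (z a) = a := fun a => by rw [← Equiv.Perm.mul_apply, h2, Equiv.Perm.one_apply]
  have hne : ∀ a, ed a ≠ ed (z a) := fun a he => by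
    rcases (ed_eq_iff _ _).mp he with h' | h'
    · exact (h a).1 h'
    · exact (h a).2 h'
  have hc : ∀ a b, ed a = ed b → ed (z a) = ed (z b) := by
    intro a b he
    rcases (ed_eq_iff _ _).mp he with rfl | rfl
    · rfl
    · have : z (u₀ a) = u₀ (z a) := Equiv.Perm.ext_iff.mp hu a
      rw [this]
      exact (ed_eq_iff _ _).mpr (Or.inr rfl)
  refine ⟨ed 0 ^^^ ed (z 0), fun a => ?_⟩
  by_cases h0 : ed a = ed 0
  · rw [hc _ _ h0, h0, ← Nat.xor_assoc, Nat.xor_self, Nat.zero_xor]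
  by_cases h1 : ed a = ed (z 0)
  · rw [hc _ _ h1, hzz, h1, Nat.xor_comm (ed 0), ← Nat.xor_assoc, Nat.xor_self, Nat.zero_xor]
  have g1 : ed (z a) ≠ ed 0 := fun e => h1 (by have := hc _ _ e; rwa [hzz] at this)
  have g2 : ed (z a) ≠ ed (z 0) := fun e => h0 (by have := hc _ _ e; rwa [hzz, hzz] at this)
  have hb : ∀ c : Fin 8, ed c < 4 := by decide
  exact fourth' ⟨ed 0, hb _⟩ ⟨ed (z 0), hb _⟩ ⟨ed a, hb _⟩ ⟨ed (z a), hb _⟩
    ⟨(fun e => hne 0 (congrArg Fin.val e)), (fun e => h0 (congrArg Fin.val e).symm),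
    (fun e => g1 (congrArg Fin.val e).symm), (fun e => h1 (congrArg Fin.val e).symm),
    (fun e => g2 (congrArg Fin.val e).symm), (fun e => hne a (congrArg Fin.val e))⟩

lemma swap_mem_O : ∀ a : Fin 8, Equiv.swap a (u₀ a) ∈ O := by
  intro a
  refine ⟨0, fun b => ?_⟩
  rw [Nat.xor_zero]
  revert a b
  decide

lemma mem_map_conj {g z : Equiv.Perm (Fin 8)} {S : Subgroup (Equiv.Perm (Fin 8))} (h : g⁻¹ * z * g ∈ S) :
    z ∈ S.map (MulAut.conj g).toMonoidHom := by
  refine ⟨_, h, ?_⟩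
  show g * (g⁻¹ * z * g) * g⁻¹ = z
  group

lemma conj_fpfi (g : Equiv.Perm (Fin 8)) : FPFI (g * u₀ * g⁻¹) := by
  have h0 : u₀ * u₀ = 1 := by decide
  refine ⟨?_, fun a h => ?_⟩
  · calc g * u₀ * g⁻¹ * (g * u₀ * g⁻¹) = g * (u₀ * u₀) * g⁻¹ := by group
      _ = 1 := by rw [h0]; group
  · have h1 : ∀ b : Fin 8, u₀ b ≠ b := by decide
    apply h1 (g⁻¹ a)
    apply g.injective
    simpa using h

lemma exists_common (g₁ g₂ : Equiv.Perm (Fin 8)) :
    ∃ z : Equiv.Perm (Fin 8), z ≠ 1 ∧ g₁⁻¹ * z * g₁ ∈ O ∧ g₂⁻¹ * z * g₂ ∈ O := by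
  set u := g₁ * u₀ * g₁⁻¹ with hu
  set v := g₂ * u₀ * g₂⁻¹ with hv
  by_cases hs : ∃ a, v a = u a
  · obtain ⟨a, ha⟩ := hs
    have hconj : ∀ g : Equiv.Perm (Fin 8),
        g⁻¹ * Equiv.swap a ((g * u₀ * g⁻¹) a) * g = Equiv.swap (g⁻¹ a) (u₀ (g⁻¹ a)) := by
      intro g
      have := Equiv.swap_apply_apply g⁻¹ a ((g * u₀ * g⁻¹) a)
      rw [inv_inv] at this
      rw [← this]
      simp
    refine ⟨Equiv.swap a (u a), fun h => ?_, ?_, ?_⟩
    · exact (conj_fpfi g₁).2 a (Equiv.swap_eq_one_iff.mp h).symm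
    · rw [hu, hconj]; exact swap_mem_O _
    · rw [← ha, hv, hconj]; exact swap_mem_O _
  push_neg at hs
  obtain ⟨z, hz2, hzu, hzv, hz⟩ := key (by simp) u v (conj_fpfi g₁) (conj_fpfi g₂) hs
  have hin : ∀ g : Equiv.Perm (Fin 8), z * (g * u₀ * g⁻¹) = g * u₀ * g⁻¹ * z →
      (∀ a, z a ≠ (g * u₀ * g⁻¹) a) → g⁻¹ * z * g ∈ O := by
    intro g hc hne
    refine mem_O _ ?_ ?_ fun a => ⟨fun h => ?_, fun h => ?_⟩
    · calc g⁻¹ * z * g * (g⁻¹ * z * g) = g⁻¹ * (z * z) * g := by group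
        _ = 1 := by rw [hz2]; group
    · calc g⁻¹ * z * g * u₀ = g⁻¹ * (z * (g * u₀ * g⁻¹)) * g := by group
        _ = u₀ * (g⁻¹ * z * g) := by rw [hc]; group
    · apply (hz (g a)).1
      apply g⁻¹.injective
      simpa using h
    · apply hne (g a)
      apply g⁻¹.injective
      simpa using h
  exact ⟨z, fun h => (hz 0).1 (by rw [h]; rfl), hin g₁ hzu (fun a => (hz a).2.1), hin g₂ hzv (fun a => (hz a).2.2)⟩


/-- In the symmetric group on 8 letters any two Sylow 2-subgroups have non-trivial intersection: for a Sylow 2-subgroup H and every element x, H ∩ xHx⁻¹ ≠ 1. -/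
theorem result (H : Sylow 2 (Equiv.Perm (Fin 8))) (x : Equiv.Perm (Fin 8)) :
    (H : Subgroup (Equiv.Perm (Fin 8))) ⊓ (H : Subgroup (Equiv.Perm (Fin 8))).map (MulAut.conj x).toMonoidHom ≠ ⊥ := by
  obtain ⟨S, hS⟩ := O_pgroup.exists_le_sylow
  obtain ⟨g, rfl⟩ := MulAction.exists_smul_eq (Equiv.Perm (Fin 8)) S H
  obtain ⟨z, hz, hz1, hz2⟩ := exists_common g (x * g)
  intro hbot
  apply hz
  rw [← Subgroup.mem_bot, ← hbot]
  have hH : ((g • S : Sylow 2 (Equiv.Perm (Fin 8))) : Subgroup (Equiv.Perm (Fin 8))) =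
      (S : Subgroup (Equiv.Perm (Fin 8))).map (MulAut.conj g).toMonoidHom := rfl
  rw [hH]
  refine ⟨mem_map_conj (hS hz1), mem_map_conj (mem_map_conj (hS ?_))⟩
  simpa [mul_assoc] using hz2

end Cfsg.Agent.S5763
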