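import Cfsg.Statements.S5775
import Cfsg.Agent.Lib.AschPrimeLinear

set_option autoImplicit false
open Cfsg

namespace Cfsg.Agent.S5775

open scoped Matrix
open Cfsg.Geo Cfsg.Agent.AschPrimeBasic Cfsg.Agent.AschPrimeForms Cfsg.Agent.AschPrimeLinear

variable {F : Type*} [Field F] [Fintype F]

/-- For q = 4 the normaliser in SL_3 of a cubic subfield is realised over the field with two elements. -/
lemma field_normalizer_le_subfield (h4 : Fintype.card F = 4)
    {K : Subalgebra F (Matrix (Fin 3) (Fin 3) F)} (hK : IsFieldSubalgebra 3 K) :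
    ∃ (F₀ : Subfield F) (P : GL (Fin 3) F), Fintype.card F = Nat.card F₀ ^ 2 ∧
      subalgebraNormalizer K ⊓ specialLinear (Fin 3) F ≤ subfieldSubgroup F₀ P := by
  classical
  obtain ⟨p, hp⟩ := CharP.exists F
  obtain ⟨e, hpp, he⟩ := FiniteField.card F p
  have hp2 : p = 2 := by
    have : p ∣ 2 ^ 2 := by
      rw [show (2 : ℕ) ^ 2 = Fintype.card F by rw [h4]; rfl, he]
      exact dvd_pow_self p e.pos.ne'
    exact (Nat.prime_dvd_prime_iff_eq hpp Nat.prime_two).1 (hpp.dvd_of_dvd_pow this)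
  subst hp2
  haveI : Fact (Nat.Prime 2) := ⟨hpp⟩
  let φ := frobeniusEquiv F 2
  have hφ : ∀ x, φ x = x ^ 2 := fun x => frobeniusEquiv_def F 2 x
  have hcard0 : Nat.card (fixedField φ) = 2 := card_fixedField le_rfl (by rw [h4]; norm_num) hφ
  have h2F : (2 : F) = 0 := by exact_mod_cast CharP.cast_eq_zero F 2
  have hF4 : ∀ c : F, c ^ 4 = c := fun c => by
    have := FiniteField.pow_card c
    rwa [h4] at this
  -- K as a field
  letI : CommRing K :=
    { (inferInstance : Ring K) with mul_comm := fun x y => Subtype.ext (hK.comm _ x.2 _ y.2) }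
  have hfield : IsField K :=
    { exists_pair_ne := ⟨0, 1, fun h => zero_ne_one (α := Matrix (Fin 3) (Fin 3) F) (congrArg Subtype.val h)⟩
      mul_comm := fun x y => mul_comm x y
      mul_inv_cancel := fun {x} hx => by
        obtain ⟨y, hy, hxy⟩ := hK.inv x x.2 (fun h => hx (Subtype.ext h))
        exact ⟨⟨y, hy⟩, Subtype.ext hxy⟩ }
  letI : Field K := hfield.toField
  have hfin : Finite K := inferInstance
  letI : Fintype K := Fintype.ofFinite K
  have hK64 : Fintype.card K = 64 := by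
    rw [Module.card_eq_pow_finrank (K := F) (V := K), h4, show Module.finrank F K = 3 from hK.finrank_eq]
    norm_num
  have hinjK : Function.Injective (algebraMap F K) := (algebraMap F K).injective
  have h2K : (2 : K) = 0 := by
    rw [← map_ofNat (algebraMap F K) 2, h2F, map_zero]
  have hdouble : ∀ x : K, x + x = 0 := fun x => by linear_combination x * h2K
  haveI : CharP K 2 := charP_of_injective_algebraMap hinjK 2
  -- elements fixed by the fourth power are scalars
  have hscal : ∀ w : K, w ^ 4 = w → ∃ c : F, w = algebraMap F K c := by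
    intro w hw
    by_contra hcon
    push Not at hcon
    let S : Finset K := insert w (Finset.univ.image (algebraMap F K))
    have h5 : S.card = 5 := by
      rw [Finset.card_insert_of_notMem (by simpa [eq_comm] using hcon),
        Finset.card_image_of_injective _ hinjK, Finset.card_univ, h4]
    let f : Polynomial K := Polynomial.X ^ 4 - Polynomial.X
    have hf : f.natDegree = 4 := by
      simp only [f]
      exact FiniteField.X_pow_card_sub_X_natDegree_eq K (by norm_num)
    have hf0 : f ≠ 0 := fun h => by simp [h] at hf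
    have : S.card ≤ f.roots.toFinset.card := by
      refine Finset.card_le_card fun x hx => ?_
      rw [Multiset.mem_toFinset, Polynomial.mem_roots hf0]
      simp only [S, Finset.mem_insert, Finset.mem_image, Finset.mem_univ, true_and] at hx
      rcases hx with rfl | ⟨c, rfl⟩
      · simp [f, Polynomial.IsRoot, hw]
      · simp [f, Polynomial.IsRoot, ← map_pow, hF4 c]
    have := this.trans ((Multiset.toFinset_card_le _).trans (Polynomial.card_roots' f))
    omega
  -- an element of order 7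
  haveI : Fact (Nat.Prime 7) := ⟨by norm_num⟩
  obtain ⟨θu, hθu⟩ := exists_prime_orderOf_dvd_card (G := Kˣ) 7 (by
    rw [Fintype.card_units, hK64]
    norm_num)
  let θ : K := (θu : K)
  have hθo : orderOf θ = 7 := by rw [← hθu]; exact orderOf_units
  have hθ7 : θ ^ 7 = 1 := by rw [← hθo]; exact pow_orderOf_eq_one θ
  have hθne : ∀ k : ℕ, 0 < k → k < 7 → θ ^ k ≠ 1 := fun k h0 h7 h => by
    have := orderOf_dvd_of_pow_eq_one h
    rw [hθo] at this
    exact absurd (Nat.le_of_dvd h0 this) (by omega)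
  have hθF : ∀ c : F, θ ≠ algebraMap F K c := by
    intro c hc
    have h1 : θ ^ 4 = θ := by rw [hc, ← map_pow, hF4]
    have hθ0 : θ ≠ 0 := θu.ne_zero
    exact hθne 3 (by norm_num) (by norm_num) (mul_right_cancel₀ hθ0 (by rw [one_mul, ← pow_succ]; exact h1))
  -- the cubic
  have h01 : ∀ x : K, x ^ 2 = x → ∃ a : F, a ^ 2 = a ∧ x = algebraMap F K a := by
    intro x hx
    obtain ⟨a, ha⟩ := hscal x (by rw [show (4 : ℕ) = 2 * 2 from rfl, pow_mul, hx, hx])
    exact ⟨a, hinjK (by rw [map_pow, ← ha, hx]), ha⟩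
  obtain ⟨a, ha2, ha⟩ := h01 (θ + θ ^ 2 + θ ^ 4) (by
    linear_combination θ * hθ7 + (θ ^ 3 + θ ^ 5 + θ ^ 6) * h2K)
  obtain ⟨b, hb2, hb⟩ := h01 (θ ^ 3 + θ ^ 5 + θ ^ 6) (by
    linear_combination (θ ^ 3 + θ ^ 5) * hθ7 + (θ ^ 8 + θ ^ 9 + θ ^ 11) * h2K)
  have hcubic : θ ^ 3 = algebraMap F K a * θ ^ 2 + algebraMap F K b * θ + 1 := by
    rw [← ha, ← hb]
    linear_combination -hθ7 - (θ ^ 4 + θ ^ 6 + 1) * h2K
  have hθ0 : θ ≠ 0 := θu.ne_zero
  have hab : a ≠ b := by
    intro h
    subst h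
    have : a = 0 ∨ a = 1 := by
      have h0 : a * (a - 1) = 0 := by linear_combination ha2
      rcases mul_eq_zero.1 h0 with h | h
      · exact Or.inl h
      · exact Or.inr (sub_eq_zero.1 h)
    rcases this with rfl | rfl
    · rw [map_zero, zero_mul, zero_mul, zero_add, zero_add] at hcubic
      exact hθne 3 (by norm_num) (by norm_num) hcubic
    · rw [map_one, one_mul, one_mul] at hcubic
      refine hθne 4 (by norm_num) (by norm_num) ?_
      linear_combination (θ + 1) * hcubic + (θ ^ 2 + θ) * h2K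
  -- independence of 1, θ, θ²
  have hind : ∀ x y z : F,
      algebraMap F K x + algebraMap F K y * θ + algebraMap F K z * θ ^ 2 = 0 → x = 0 ∧ y = 0 ∧ z = 0 := by
    intro x y z hxyz
    have hlin : ∀ u w : F, algebraMap F K u + algebraMap F K w * θ = 0 → u = 0 ∧ w = 0 := by
      intro u w huw
      by_cases hw : w = 0
      · subst hw
        refine ⟨hinjK ?_, rfl⟩
        simpa using huw
      · exfalso
        apply hθF (-u / w)
        have hw' : algebraMap F K w ≠ 0 := fun h => hw (hinjK (by rw [h, map_zero]))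
        rw [map_div₀, map_neg, eq_div_iff hw']
        linear_combination huw
    by_cases hz : z = 0
    · subst hz
      rw [map_zero, zero_mul, add_zero] at hxyz
      obtain ⟨h1, h2⟩ := hlin x y hxyz
      exact ⟨h1, h2, rfl⟩
    exfalso
    have hz' : algebraMap F K z ≠ 0 := fun h => hz (hinjK (by rw [h, map_zero]))
    set α : F := -y / z with hα
    set β : F := -x / z with hβ
    have hsq : θ ^ 2 = algebraMap F K α * θ + algebraMap F K β := by
      rw [hα, hβ, map_div₀, map_div₀, map_neg, map_neg]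
      field_simp
      linear_combination hxyz
    have h1 : algebraMap F K (α * β - a * β - 1) + algebraMap F K (α ^ 2 + β - a * α - b) * θ = 0 := by
      simp only [map_sub, map_add, map_mul, map_pow, map_one]
      linear_combination hcubic - (θ + algebraMap F K α - algebraMap F K a) * hsq
    obtain ⟨e1, e2⟩ := hlin _ _ h1
    set r : F := α - a with hr
    have hrβ : r * β = 1 := by rw [hr]; linear_combination e1
    have hr0 : r ≠ 0 := left_ne_zero_of_mul_eq_one hrβ
    have hr3 : r ^ 3 = 1 := mul_right_cancel₀ hr0 (by rw [one_mul, ← pow_succ]; exact hF4 r)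
    have h3 : a * r + b = 0 := by
      have : (a * r + b) * r = 0 := by
        have e3 : (r + a) ^ 2 + β - a * (r + a) - b = 0 := by rw [hr]; linear_combination e2
        linear_combination r * e3 - hrβ - hr3 + (b * r - 1) * h2F - (0 : F) * ha2 +
          (0 : F) * hb2 + (1 - r ^ 3 + 0) * 0
      exact (mul_eq_zero.1 this).resolve_right hr0
    rcases (mul_eq_zero.1 (show a * (a - 1) = 0 by linear_combination ha2)) with h | h
    · apply hab
      rw [h, zero_mul, zero_add] at h3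
      rw [h, h3]
    · have ha1 : a = 1 := sub_eq_zero.1 h
      rcases (mul_eq_zero.1 (show b * (b - 1) = 0 by linear_combination hb2)) with h' | h'
      · rw [ha1, h', one_mul, add_zero] at h3
        exact hr0 h3
      · exact hab (ha1.trans (sub_eq_zero.1 h').symm)
  -- the basis v, θv, θ²v
  let v : Fin 3 → F := Pi.single 0 1
  let Θ : Matrix (Fin 3) (Fin 3) F := (θ : Matrix (Fin 3) (Fin 3) F)
  let Bm : Matrix (Fin 3) (Fin 3) F := Matrix.of fun r i => ((Θ ^ (i : ℕ)) *ᵥ v) r
  have hcomb : ∀ w : Fin 3 → F, Bm *ᵥ w =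
      ((algebraMap F K (w 0) + algebraMap F K (w 1) * θ + algebraMap F K (w 2) * θ ^ 2 : K) :
        Matrix (Fin 3) (Fin 3) F) *ᵥ v := by
    intro w
    funext r
    simp only [Matrix.mulVec, dotProduct, Bm, Matrix.of_apply, Fin.sum_univ_three]
    simp [Θ, Algebra.algebraMap_eq_smul_one, Matrix.mulVec, dotProduct, Fin.sum_univ_three,
      Matrix.add_apply, Matrix.smul_apply]
    ring
  have hevalinj : ∀ k : K, (k : Matrix (Fin 3) (Fin 3) F) *ᵥ v = 0 → k = 0 := by
    intro k hk
    by_contra hne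
    have h1 : (((k⁻¹ * k : K)) : Matrix (Fin 3) (Fin 3) F) *ᵥ v = 0 := by
      rw [Subalgebra.coe_mul, ← Matrix.mulVec_mulVec, hk, Matrix.mulVec_zero]
    rw [inv_mul_cancel₀ hne, OneMemClass.coe_one, Matrix.one_mulVec] at h1
    exact one_ne_zero (α := F) (by simpa [v] using congrFun h1 0)
  have hBdet : Bm.det ≠ 0 := by
    intro h0
    obtain ⟨w, hw0, hw⟩ := Matrix.exists_mulVec_eq_zero_iff.2 h0
    rw [hcomb] at hw
    obtain ⟨e0, e1, e2⟩ := hind _ _ _ (hevalinj _ hw)
    exact hw0 (funext fun i => by fin_cases i <;> assumption)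
  let B : GL (Fin 3) F := Matrix.GeneralLinearGroup.mkOfDetNeZero Bm hBdet
  -- every element commuting with θ is in K
  have hcen : ∀ U : Matrix (Fin 3) (Fin 3) F, U * Θ = Θ * U → ∃ k : K, (k : Matrix (Fin 3) (Fin 3) F) = U ∧
      ∃ x y z : F, k = algebraMap F K x + algebraMap F K y * θ + algebraMap F K z * θ ^ 2 := by
    intro U hU
    set w := ((B⁻¹ : GL (Fin 3) F) : Matrix (Fin 3) (Fin 3) F) *ᵥ (U *ᵥ v) with hw
    set k : K := algebraMap F K (w 0) + algebraMap F K (w 1) * θ + algebraMap F K (w 2) * θ ^ 2 with hk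
    refine ⟨k, ?_, _, _, _, rfl⟩
    have hkv : (k : Matrix (Fin 3) (Fin 3) F) *ᵥ v = U *ᵥ v := by
      rw [hk, ← hcomb, hw]
      exact mulVec_inv_mulVec B _
    have hpow : ∀ n : ℕ, U * Θ ^ n = Θ ^ n * U := fun n => (Commute.pow_right hU n).eq
    have hkpow : ∀ n : ℕ, (k : Matrix (Fin 3) (Fin 3) F) * Θ ^ n = Θ ^ n * (k : Matrix (Fin 3) (Fin 3) F) :=
      fun n => by
        have := congrArg Subtype.val (mul_comm k (θ ^ n))
        simpa [Θ] using this
    have hkB : (k : Matrix (Fin 3) (Fin 3) F) * Bm = U * Bm := by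
      ext r i
      have e : ∀ M : Matrix (Fin 3) (Fin 3) F, (M * Bm) r i = (M *ᵥ ((Θ ^ (i : ℕ)) *ᵥ v)) r := fun M => by
        simp [Matrix.mul_apply, Bm, Matrix.mulVec, dotProduct]
      rw [e, e, Matrix.mulVec_mulVec, Matrix.mulVec_mulVec, hkpow, hpow, ← Matrix.mulVec_mulVec,
        ← Matrix.mulVec_mulVec, hkv]
    have := congrArg (fun M => M * ((B⁻¹ : GL (Fin 3) F) : Matrix (Fin 3) (Fin 3) F)) hkB
    simp only [mul_assoc] at this
    rwa [show Bm = (B : Matrix (Fin 3) (Fin 3) F) from rfl, ← Units.val_mul, mul_inv_cancel, Units.val_one,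
      mul_one, mul_one] at this
  -- θ in the new basis is fixed by φ
  let C : Matrix (Fin 3) (Fin 3) F := !![0, 0, 1; 1, 0, b; 0, 1, a]
  have hΘB : Θ * Bm = Bm * C := by
    ext r i
    have hc : (Θ ^ 3) = a • Θ ^ 2 + b • Θ + 1 := by
      have := congrArg Subtype.val hcubic
      simpa [Θ, Algebra.algebraMap_eq_smul_one] using this
    have e : (Θ * Bm) r i = ((Θ ^ ((i : ℕ) + 1)) *ᵥ v) r := by
      rw [pow_succ', ← Matrix.mulVec_mulVec]
      simp [Matrix.mul_apply, Bm, Matrix.mulVec, dotProduct]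
    rw [e]
    fin_cases i
    · simp [Matrix.mul_apply, Bm, C, Fin.sum_univ_three]
    · simp [Matrix.mul_apply, Bm, C, Fin.sum_univ_three]
    · simp only [Fin.reduceFinMk, Fin.isValue, Fin.val_two]
      rw [hc]
      simp [Matrix.mul_apply, Bm, C, Fin.sum_univ_three, Matrix.add_mulVec, Matrix.smul_mulVec]
      ring
  have hCfix : C.map φ = C := by
    have fa : φ a = a := by rw [hφ]; exact ha2
    have fb : φ b = b := by rw [hφ]; exact hb2
    ext i j
    fin_cases i <;> fin_cases j <;> simp [C, fa, fb]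
  refine ⟨fixedField φ, B⁻¹⁻¹, by rw [hcard0, h4]; norm_num, ?_⟩
  rintro h ⟨hhK, hhdet⟩
  -- θ' = h θ h⁻¹ is a power of θ
  have hconj : (h : Matrix (Fin 3) (Fin 3) F) * Θ * ((h⁻¹ : GL (Fin 3) F) : Matrix (Fin 3) (Fin 3) F) ∈ K :=
    (hhK Θ).1 θ.2
  set θ' : K := ⟨_, hconj⟩ with hθ'
  have hθ'7 : θ' ^ 7 = 1 := by
    apply Subtype.ext
    have h7 : Θ ^ 7 = 1 := by simpa [Θ] using congrArg Subtype.val hθ7
    have hcp : ∀ n : ℕ, ((θ' ^ n : K) : Matrix (Fin 3) (Fin 3) F) =
        (h : Matrix (Fin 3) (Fin 3) F) * Θ ^ n * ((h⁻¹ : GL (Fin 3) F) : Matrix (Fin 3) (Fin 3) F) := by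
      intro n
      induction n with
      | zero => simp [← Units.val_mul]
      | succ n ih =>
        rw [pow_succ, Subalgebra.coe_mul, ih, hθ', pow_succ]
        simp [mul_assoc]
    rw [hcp, h7]
    simp
  obtain ⟨k, -, hk⟩ :=
    (IsPrimitiveRoot.iff_orderOf.2 hθo).eq_pow_of_pow_eq_one (k := 7) hθ'7
  set h' : GL (Fin 3) F := B⁻¹ * h * B⁻¹⁻¹ with hh'
  let X : GL (Fin 3) F := Matrix.GeneralLinearGroup.mkOfDetNeZero Θ (by
    intro h0
    have h7 : Θ ^ 7 = 1 := by simpa [Θ] using congrArg Subtype.val hθ7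
    have := congrArg Matrix.det h7
    rw [Matrix.det_pow, h0, Matrix.det_one] at this
    norm_num at this)
  have hXval : (X : Matrix (Fin 3) (Fin 3) F) = Θ := rfl
  let X' : GL (Fin 3) F := B⁻¹ * X * B
  have hX' : glMap φ X' = X' := by
    apply Units.ext
    rw [glMap_val]
    have : (X' : Matrix (Fin 3) (Fin 3) F) = C := by
      simp only [X', Units.val_mul, hXval, mul_assoc]
      rw [show (B : Matrix (Fin 3) (Fin 3) F) = Bm from rfl, hΘB, ← mul_assoc,
        show Bm = (B : Matrix (Fin 3) (Fin 3) F) from rfl, ← Units.val_mul, inv_mul_cancel, Units.val_one,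
        one_mul]
    rw [this, hCfix]
  have hhX : h * X * h⁻¹ = X ^ k := by
    apply Units.ext
    have := congrArg Subtype.val hk
    simp only [hθ', SubmonoidClass.coe_pow] at this
    simp only [Units.val_mul, Units.val_pow_eq_pow_val, hXval]
    exact this.symm
  have hh'X : h' * X' * h'⁻¹ = X' ^ k := by
    have hp : ∀ n : ℕ, X' ^ n = B⁻¹ * X ^ n * B := fun n => by
      induction n with
      | zero => simp
      | succ n ih => rw [pow_succ, ih, pow_succ]; simp [X', mul_assoc]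
    rw [hp, ← hhX, hh']
    simp [X', mul_assoc]
  set u : GL (Fin 3) F := h'⁻¹ * glMap φ h' with hu
  have huX : u * X' = X' * u := by
    have e1 : glMap φ h' * X' * (glMap φ h')⁻¹ = X' ^ k := by
      conv_lhs => rw [← hX', ← map_inv, ← map_mul, ← map_mul, hh'X, map_pow, hX']
    have e2 : glMap φ h' * X' * (glMap φ h')⁻¹ = h' * X' * h'⁻¹ := e1.trans hh'X.symm
    calc u * X' = h'⁻¹ * (glMap φ h' * X' * (glMap φ h')⁻¹) * glMap φ h' := by rw [hu]; group
      _ = X' * u := by rw [e2, hu]; group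
  set U : GL (Fin 3) F := B * u * B⁻¹ with hU
  have hUX : (U : Matrix (Fin 3) (Fin 3) F) * Θ = Θ * (U : Matrix (Fin 3) (Fin 3) F) := by
    have : U * X = X * U := by
      rw [hU]
      calc B * u * B⁻¹ * X = B * (u * X') * B⁻¹ := by simp [X', mul_assoc]
        _ = X * (B * u * B⁻¹) := by rw [huX]; simp [X', mul_assoc]
    simpa [hXval] using congrArg Units.val this
  obtain ⟨κ, hκU, x, y, z, hκ⟩ := hcen _ hUX
  -- φ(u) corresponds to κ⁸
  have hκ8 : ((κ ^ 8 : K) : Matrix (Fin 3) (Fin 3) F) = ((B * glMap φ u * B⁻¹ : GL (Fin 3) F) :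
      Matrix (Fin 3) (Fin 3) F) := by
    have hθ8 : θ ^ 8 = θ := by rw [show (8 : ℕ) = 7 + 1 from rfl, pow_succ, hθ7, one_mul]
    have hc8 : ∀ c : F, c ^ 8 = φ c := fun c => by
      rw [hφ, show (8 : ℕ) = 4 * 2 from rfl, pow_mul, hF4]
    have h8 : κ ^ 8 = algebraMap F K (φ x) + algebraMap F K (φ y) * θ + algebraMap F K (φ z) * θ ^ 2 := by
      rw [hκ, show (8 : ℕ) = 2 ^ 3 from rfl, add_pow_char_pow, add_pow_char_pow, mul_pow, mul_pow,
        ← map_pow, ← map_pow, ← map_pow, ← pow_mul θ 2]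
      norm_num
      rw [← map_pow, ← map_pow, ← map_pow, hc8, hc8, hc8, hθ8, show θ ^ 16 = θ ^ 2 by
        rw [show (16 : ℕ) = 7 * 2 + 2 from rfl, pow_add, pow_mul, hθ7, one_pow, one_mul]]
    have hlin : ∀ p q r : F, (((algebraMap F K p + algebraMap F K q * θ + algebraMap F K r * θ ^ 2 : K)) :
        Matrix (Fin 3) (Fin 3) F) = p • (1 : Matrix (Fin 3) (Fin 3) F) + q • Θ + r • Θ ^ 2 := fun p q r => by
      simp [Θ, Algebra.algebraMap_eq_smul_one]
    have hXC : (X' : Matrix (Fin 3) (Fin 3) F) = ((B⁻¹ : GL (Fin 3) F) : Matrix (Fin 3) (Fin 3) F) * Θ *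
        (B : Matrix (Fin 3) (Fin 3) F) := by simp [X', hXval]
    have hBB : (B : Matrix (Fin 3) (Fin 3) F) * ((B⁻¹ : GL (Fin 3) F) : Matrix (Fin 3) (Fin 3) F) = 1 := by
      rw [← Units.val_mul, mul_inv_cancel, Units.val_one]
    have hu' : (u : Matrix (Fin 3) (Fin 3) F) = x • (1 : Matrix (Fin 3) (Fin 3) F) +
        y • (X' : Matrix (Fin 3) (Fin 3) F) + z • (X' : Matrix (Fin 3) (Fin 3) F) ^ 2 := by
      have h1 : (U : Matrix (Fin 3) (Fin 3) F) = x • 1 + y • Θ + z • Θ ^ 2 := by rw [← hκU, hκ, hlin]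
      have h2 : u = B⁻¹ * U * B := by rw [hU]; group
      rw [h2, Units.val_mul, Units.val_mul, h1, hXC]
      simp only [mul_add, add_mul, Matrix.mul_smul, Matrix.smul_mul, mul_one, sq, ← Units.val_mul,
        inv_mul_cancel, Units.val_one, mul_assoc]
      rw [← mul_assoc (B : Matrix (Fin 3) (Fin 3) F), hBB, one_mul]
    have hu'' : (glMap φ u : Matrix (Fin 3) (Fin 3) F) = φ x • (1 : Matrix (Fin 3) (Fin 3) F) +
        φ y • (X' : Matrix (Fin 3) (Fin 3) F) + φ z • (X' : Matrix (Fin 3) (Fin 3) F) ^ 2 := by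
      have hm : (X' : Matrix (Fin 3) (Fin 3) F).map φ = (X' : Matrix (Fin 3) (Fin 3) F) := by
        rw [← glMap_val, hX']
      have e : ∀ M : Matrix (Fin 3) (Fin 3) F, M.map φ = (φ : F →+* F).mapMatrix M := fun _ => rfl
      rw [glMap_val, hu', e]
      rw [e] at hm
      have hs : ∀ (c : F) (M : Matrix (Fin 3) (Fin 3) F),
          (φ : F →+* F).mapMatrix (c • M) = φ c • (φ : F →+* F).mapMatrix M := fun c M => by
        ext i j; simp
      simp only [map_add, hs, map_one, map_pow, hm]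
    rw [h8, hlin, Units.val_mul, Units.val_mul, hu'', hXC]
    simp only [mul_add, add_mul, Matrix.mul_smul, Matrix.smul_mul, mul_one, one_mul, sq, mul_assoc, hBB]
    simp only [← mul_assoc, hBB, one_mul]
  -- κ⁹ = 1
  have hκ9 : κ ^ 9 = 1 := by
    have e1 : u * glMap φ u = 1 := by
      have hinv : ∀ g : GL (Fin 3) F, glMap φ (glMap φ g) = g := fun g => by
        apply Units.ext
        ext i j
        simp only [glMap_val, Matrix.map_apply, hφ, ← pow_mul]
        exact hF4 _
      rw [hu, map_mul (glMap φ) h'⁻¹ (glMap φ h'), map_inv (glMap φ) h', hinv h']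
      group
    apply Subtype.ext
    rw [pow_succ', Subalgebra.coe_mul, hκ8, hκU, ← Units.val_mul, OneMemClass.coe_one]
    have : U * (B * glMap φ u * B⁻¹) = 1 := by
      rw [hU]
      calc B * u * B⁻¹ * (B * glMap φ u * B⁻¹) = B * (u * glMap φ u) * B⁻¹ := by group
        _ = 1 := by rw [e1]; group
    rw [this, Units.val_one]
  -- det U = 1, so U is a scalar
  have hdetU : (U : Matrix (Fin 3) (Fin 3) F).det = 1 := by
    have h1 : (h' : Matrix (Fin 3) (Fin 3) F).det = 1 := by
      rw [← mem_sl_iff]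
      exact conj_mem_sl _ _ hhdet
    have h2 : (glMap φ h' : Matrix (Fin 3) (Fin 3) F).det = 1 := by
      have h4 := (φ : F →+* F).map_det (h' : Matrix (Fin 3) (Fin 3) F)
      rw [h1, map_one] at h4
      exact h4.symm
    rw [hU, Units.val_mul, Units.val_mul, Matrix.det_units_conj, hu, Units.val_mul, Matrix.det_mul, h2,
      mul_one]
    have h3 := congrArg (fun g : GL (Fin 3) F => (g : Matrix (Fin 3) (Fin 3) F).det) (inv_mul_cancel h')
    simp only [Units.val_mul, Matrix.det_mul, h1, mul_one, Units.val_one, Matrix.det_one] at h3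
    exact h3
  obtain ⟨c, hc⟩ := hscal (κ ^ 3) (by
    rw [← pow_mul, show 3 * 4 = 9 + 3 from rfl, pow_add, hκ9, one_mul])
  have hUs : ∃ d : F, κ = algebraMap F K d := by
    by_cases hcube : ∃ d : F, d ^ 3 = c
    · obtain ⟨d, hd⟩ := hcube
      have hd0 : d ≠ 0 := by
        rintro rfl
        rw [zero_pow (by norm_num)] at hd
        rw [← hd, map_zero] at hc
        rw [show (9 : ℕ) = 3 * 3 from rfl, pow_mul, hc] at hκ9
        simp at hκ9
      set μ := κ * algebraMap F K d⁻¹ with hμ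
      have hμ3 : μ ^ 3 = 1 := by
        rw [hμ, mul_pow, hc, ← hd, map_pow, ← mul_pow, ← map_mul, mul_inv_cancel₀ hd0, map_one, one_pow]
      obtain ⟨d', hd'⟩ := hscal μ (by rw [pow_succ, hμ3, one_mul])
      refine ⟨d' * d, ?_⟩
      rw [map_mul, ← hd', hμ, mul_assoc, ← map_mul, inv_mul_cancel₀ hd0, map_one, mul_one]
    · exfalso
      push Not at hcube
      have hirr := X_pow_sub_C_irreducible_of_prime (K := F) (p := 3) (by norm_num) hcube
      have hae : Polynomial.aeval (U : Matrix (Fin 3) (Fin 3) F) (Polynomial.X ^ 3 - Polynomial.C c) = 0 := by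
        rw [← hκU]
        have := congrArg Subtype.val hc
        simp only [SubmonoidClass.coe_pow, Subalgebra.coe_algebraMap] at this
        simp [this]
      have hmin := minpoly.eq_of_irreducible_of_monic hirr hae
        (Polynomial.monic_X_pow_sub_C c (by norm_num))
      have hchar := Polynomial.eq_of_monic_of_dvd_of_natDegree_le
        (minpoly.monic (Algebra.IsIntegral.isIntegral _)) (Matrix.charpoly_monic _)
        (Matrix.minpoly_dvd_charpoly (U : Matrix (Fin 3) (Fin 3) F))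
        (by rw [Matrix.charpoly_natDegree_eq_dim, ← hmin, Polynomial.natDegree_X_pow_sub_C, Fintype.card_fin])
      have hd := Matrix.det_eq_sign_charpoly_coeff (U : Matrix (Fin 3) (Fin 3) F)
      rw [hdetU, hchar, ← hmin, Fintype.card_fin] at hd
      simp [Polynomial.coeff_X_pow] at hd
      exact hcube 1 (by rw [one_pow]; linear_combination hd)
  obtain ⟨d, hd⟩ := hUs
  apply mem_subfieldSubgroup (c := d)
  have hUd : (U : Matrix (Fin 3) (Fin 3) F) = d • 1 := by
    rw [← hκU, hd]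
    simp [Algebra.algebraMap_eq_smul_one]
  have h1 : glMap φ h' = h' * B⁻¹ * U * B := by rw [hU, hu]; group
  have h2 := congrArg Units.val h1
  rw [glMap_val, Units.val_mul (h' * B⁻¹ * U), Units.val_mul (h' * B⁻¹), hUd] at h2
  rw [← hh', h2, Matrix.mul_smul, mul_one, Units.val_mul, Matrix.smul_mul, mul_assoc, ← Units.val_mul B⁻¹,
    inv_mul_cancel, Units.val_one, mul_one]

/-- Every maximal subgroup of SL_3(q) is of one of the listed geometric types or lies in the residual class. -/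
theorem result {F : Type*} [Field F] [Fintype F] (H : Subgroup (Matrix.GeneralLinearGroup (Fin 3) F)) (hH : Cfsg.Geo.IsMaximalIn (Cfsg.Geo.specialLinear (Fin 3) F) H) :
    (∃ W : Submodule F (Fin 3 → F), W ≠ ⊥ ∧ W ≠ ⊤ ∧ H = Cfsg.Geo.subspaceStabilizer W ⊓ Cfsg.Geo.specialLinear (Fin 3) F) ∨
    (5 ≤ Fintype.card F ∧ ∃ D : Fin 3 → Submodule F (Fin 3 → F), Cfsg.Geo.IsMDecomposition 1 D ∧ H = Cfsg.Geo.decompositionStabilizer D ⊓ Cfsg.Geo.specialLinear (Fin 3) F) ∨
    (Fintype.card F ≠ 4 ∧ ∃ K : Subalgebra F (Matrix (Fin 3) (Fin 3) F), Cfsg.Geo.IsFieldSubalgebra 3 K ∧ H = Cfsg.Geo.subalgebraNormalizer K ⊓ Cfsg.Geo.specialLinear (Fin 3) F) ∨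
    (∃ (F₀ : Subfield F) (r : ℕ) (P : Matrix.GeneralLinearGroup (Fin 3) F), r.Prime ∧ Fintype.card F = Nat.card F₀ ^ r ∧ H = Cfsg.Geo.subfieldSubgroup F₀ P ⊓ Cfsg.Geo.specialLinear (Fin 3) F) ∨
    (∃ (p : ℕ) (R : Subgroup (Matrix.GeneralLinearGroup (Fin 3) F)), p.Prime ∧ Fintype.card F = p ∧ p % 3 = 1 ∧ Cfsg.Geo.IsLinearSymplecticTypeData 3 R ∧ H = Cfsg.Geo.subgroupNormalizer R ⊓ Cfsg.Geo.specialLinear (Fin 3) F) ∨
    (Odd (Fintype.card F) ∧ ∃ Q : (Fin 3 → F) → F, Cfsg.Geo.IsNondegenerateQuadraticForm Q ∧ H = Cfsg.Geo.quadSimilarityGroup Q ⊓ Cfsg.Geo.specialLinear (Fin 3) F) ∨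
    (∃ (σ : F ≃+* F) (f : (Fin 3 → F) → (Fin 3 → F) → F), Cfsg.Geo.IsUnitaryForm σ f ∧ H = Cfsg.Geo.similarityGroup f ⊓ Cfsg.Geo.specialLinear (Fin 3) F) ∨
    Cfsg.Geo.InLinearResidualClass H := by
  rcases linear_cases (ι := Fin 3) (by norm_num [Fintype.card_fin]) (by simp) hH with
    h | ⟨h5, D, hD, hH'⟩ | ⟨K, hK, hH'⟩ | h | ⟨p, e, R, hp, hpc, hcard, he, hdvd, hmin, hR, hH'⟩ | h | h | h
  · exact Or.inl h
  · refine Or.inr (Or.inl ⟨h5, D ∘ Fin.cast (Fintype.card_fin 3).symm, ?_, ?_⟩)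
    · exact isMDecomposition_cast _ hD
    · rw [hH', decompositionStabilizer_cast]
  · rw [Fintype.card_fin] at hK
    by_cases h4 : Fintype.card F = 4
    · obtain ⟨F₀, P, hcard, hle⟩ := field_normalizer_le_subfield h4 hK
      exact Or.inr (Or.inr (Or.inr (Or.inl ⟨F₀, 2, P, Nat.prime_two, hcard,
        eq_of_maximal hH (hH' ▸ hle) (sl_not_le_subfieldSubgroup (by simp)
          (card_eq_pow_ne_top Nat.prime_two hcard) P)⟩)))
    · exact Or.inr (Or.inr (Or.inl ⟨h4, K, hK, hH'⟩))
  · exact Or.inr (Or.inr (Or.inr (Or.inl h)))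
  · rw [Fintype.card_fin] at hdvd hmin hR
    have hd := exp_dvd (by norm_num) hp (Odd.pos he) hdvd hmin
    have he1 : e = 1 := by
      have h2 : e ≤ 2 := Nat.le_of_dvd (by norm_num) hd
      obtain ⟨k, rfl⟩ := he
      omega
    subst he1
    rw [pow_one] at hcard hdvd
    have := hp.two_le
    exact Or.inr (Or.inr (Or.inr (Or.inr (Or.inl ⟨p, R, hp, hcard, by omega, hR, hH'⟩))))
  · exact Or.inr (Or.inr (Or.inr (Or.inr (Or.inr (Or.inl h)))))
  · exact Or.inr (Or.inr (Or.inr (Or.inr (Or.inr (Or.inr (Or.inl h))))))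
  · exact Or.inr (Or.inr (Or.inr (Or.inr (Or.inr (Or.inr (Or.inr h))))))

end Cfsg.Agent.S5775
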