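import Cfsg.Statements.S5778
import Cfsg.Agent.Lib.OrthUnitarySUThreeExc

set_option autoImplicit false
open Cfsg

namespace Cfsg.Agent.S5778

/-- Every maximal subgroup of SU_3(q), q ≥ 3, is of one of the listed geometric types or lies in the residual class. Let F be the field with q² elements, f the standard unitary form Σ u_i v_i^q on F^3, and H a maximal subgroup of SU_3(q) (the determinant-one isometries of f, inside GL_3(F)). Then H is the intersection with SU_3(q) of one of: the stabiliser of a non-zero subspace on which f vanishes; the stabiliser of a non-degenerate 1-space; for q ≠ 5, the stabiliser of a decomposition into three mutually orthogonal non-degenerate 1-spaces; for q ≠ 3, 5, the normaliser of an adjoint-closed degree-3 subfield of the matrix algebra; a subfield group of odd prime index whose F₀-structure carries f; for q odd, q ≥ 7, a subfield group of index 2 whose F₀-structure carries f; for q = p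 ≡ 2 mod 3 prime with p ≥ 11, the normaliser of an absolutely irreducible subgroup of order 27 with centre of order 3, exponent 3 and all characteristic abelian subgroups cyclic, contained in the similarity group of f — or else H lies in the residual class of the unitary case. -/
theorem result {F : Type*} [Field F] [Fintype F] (q : ℕ) (hF : Fintype.card F = q ^ 2) (hq : 3 ≤ q) (H : Subgroup (Matrix.GeneralLinearGroup (Fin 3) F)) (hH : Cfsg.Geo.IsMaximalIn (Cfsg.GU 3 F q ⊓ Cfsg.Geo.specialLinear (Fin 3) F) H) :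
    (∃ W : Submodule F (Fin 3 → F), W ≠ ⊥ ∧ Cfsg.Geo.IsTotallySingularFor (Cfsg.hermForm 3 F q) W ∧ H = Cfsg.Geo.subspaceStabilizer W ⊓ (Cfsg.GU 3 F q ⊓ Cfsg.Geo.specialLinear (Fin 3) F)) ∨
    (∃ W : Submodule F (Fin 3 → F), W ≠ ⊥ ∧ Cfsg.Geo.IsNondegenerateOn (Cfsg.hermForm 3 F q) W ∧ 2 * Module.finrank F W < 3 ∧ H = Cfsg.Geo.subspaceStabilizer W ⊓ (Cfsg.GU 3 F q ⊓ Cfsg.Geo.specialLinear (Fin 3) F)) ∨
    (q ≠ 5 ∧ ∃ D : Fin 3 → Submodule F (Fin 3 → F), Cfsg.Geo.IsNondegenerateMDecomposition (Cfsg.hermForm 3 F q) 1 D ∧ H = Cfsg.Geo.decompositionStabilizer D ⊓ (Cfsg.GU 3 F q ⊓ Cfsg.Geo.specialLinear (Fin 3) F)) ∨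
    (q ≠ 3 ∧ q ≠ 5 ∧ ∃ K : Subalgebra F (Matrix (Fin 3) (Fin 3) F), Cfsg.Geo.IsFieldSubalgebra 3 K ∧ Cfsg.Geo.IsAdjointClosedFor (Cfsg.hermForm 3 F q) K ∧ H = Cfsg.Geo.subalgebraNormalizer K ⊓ (Cfsg.GU 3 F q ⊓ Cfsg.Geo.specialLinear (Fin 3) F)) ∨
    (∃ (F₀ : Subfield F) (r : ℕ) (P : Matrix.GeneralLinearGroup (Fin 3) F), r.Prime ∧ Odd r ∧ Fintype.card F = Nat.card F₀ ^ r ∧ Cfsg.Geo.IsFormRationalStructure (Cfsg.hermForm 3 F q) F₀ 1 P ∧ H = Cfsg.Geo.subfieldSubgroup F₀ P ⊓ (Cfsg.GU 3 F q ⊓ Cfsg.Geo.specialLinear (Fin 3) F)) ∨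
    (Odd q ∧ 7 ≤ q ∧ ∃ (F₀ : Subfield F) (P : Matrix.GeneralLinearGroup (Fin 3) F), Fintype.card F = Nat.card F₀ ^ 2 ∧ Cfsg.Geo.IsFormRationalStructure (Cfsg.hermForm 3 F q) F₀ 1 P ∧ H = Cfsg.Geo.subfieldSubgroup F₀ P ⊓ (Cfsg.GU 3 F q ⊓ Cfsg.Geo.specialLinear (Fin 3) F)) ∨
    (∃ (p : ℕ) (R : Subgroup (Matrix.GeneralLinearGroup (Fin 3) F)), p.Prime ∧ q = p ∧ p % 3 = 2 ∧ 11 ≤ p ∧ Cfsg.Geo.IsSymplecticTypeGroup 3 R ∧ Cfsg.Geo.ActsAbsolutelyIrreducibly (Cfsg.Geo.matrixSet R) ∧ R ≤ Cfsg.Geo.similarityGroup (Cfsg.hermForm 3 F q) ∧ Nat.card R = 27 ∧ Nat.card (Subgroup.center R) = 3 ∧ H = Cfsg.Geo.subgroupNormalizer R ⊓ (Cfsg.GU 3 F q ⊓ Cfsg.Geo.specialLinear (Fin 3) F)) ∨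
    Cfsg.Geo.InUnitaryResidualClass H := by
  classical
  open Cfsg.Agent.OrthUnitarySUThreeCode Cfsg.Agent.OrthUnitarySUThreeExc in
  rcases Cfsg.Agent.OrthUnitarySUThree.unitary_cases3 hq hF hH with
    h | h | ⟨D, hD, hH'⟩ | ⟨K, hK, hadj, hH'⟩ | h | ⟨hodd, F₀, P, hcard, hrat, hH'⟩ |
      ⟨p, m, R, hp, hpc, hqp, hm, hdvd, hexp, hmin, hsymp, habs, hR, hcardR, hcen, hH'⟩ | h
  · exact Or.inl h
  · exact Or.inr (Or.inl h)
  · refine Or.inr (Or.inr (Or.inl ⟨?_, D, hD, hH'⟩))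
    rintro rfl
    obtain ⟨t, ht⟩ := exists_code (Or.inr rfl) hF
    exact not_frame ht hH hD (hH'.le.trans inf_le_left)
  · refine Or.inr (Or.inr (Or.inr (Or.inl ⟨?_, ?_, K, hK, hadj, hH'⟩)))
    · rintro rfl
      obtain ⟨t, ht⟩ := exists_code (Or.inl rfl) hF
      exact not_field3 ht hH hK hadj (hH'.le.trans inf_le_left)
    · rintro rfl
      obtain ⟨t, ht⟩ := exists_code (Or.inr rfl) hF
      exact not_field5 ht hH hK hadj (hH'.le.trans inf_le_left)
  · exact Or.inr (Or.inr (Or.inr (Or.inr (Or.inl h))))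
  · by_cases h3 : q = 3
    · subst h3
      obtain ⟨t, ht⟩ := exists_code (Or.inl rfl) hF
      obtain ⟨D, hD, hH''⟩ := subfield3_frame ht hH hcard hrat (hH'.le.trans inf_le_left)
      exact Or.inr (Or.inr (Or.inl ⟨by norm_num, D, hD, hH''⟩))
    · refine Or.inr (Or.inr (Or.inr (Or.inr (Or.inr (Or.inl ⟨hodd, ?_, F₀, P, hcard, hrat, hH'⟩)))))
      have h5 : q ≠ 5 := by
        rintro rfl
        obtain ⟨t, ht⟩ := exists_code (Or.inr rfl) hF
        exact not_subfield5 ht hH hcard hrat (hH'.le.trans inf_le_left)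
      obtain ⟨k, hk⟩ := hodd
      omega
  · have h2m : 2 * m ≤ 2 := Nat.le_of_dvd (by norm_num) (by simpa using hexp)
    have hm1 : m = 1 := by omega
    subst hm1
    rw [pow_one] at hqp
    subst hqp
    have h5 : q ≠ 5 := by
      rintro rfl
      obtain ⟨t, ht⟩ := exists_code (Or.inr rfl) hF
      exact not_extraspecial ht hH hR (by rw [hcardR]; norm_num) (hH'.le.trans inf_le_left)
    have hq3 : q ≠ 3 := by
      rintro rfl
      omega
    have h4 : q ≠ 4 := by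
      rintro rfl
      norm_num at hp
    have hpodd : q % 2 = 1 := by
      rcases hp.eq_two_or_odd with h | h
      · omega
      · exact h
    refine Or.inr (Or.inr (Or.inr (Or.inr (Or.inr (Or.inr (Or.inl
      ⟨q, R, hp, rfl, by omega, by omega, hsymp, habs, fun g hg => ⟨1, fun u v => ?_⟩,
        by rw [hcardR]; norm_num, hcen, hH'⟩))))))
    rw [Units.val_one, one_mul]
    exact (hR hg).1 u v
  · exact Or.inr (Or.inr (Or.inr (Or.inr (Or.inr (Or.inr (Or.inr h))))))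

end Cfsg.Agent.S5778
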