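import Cfsg.Statements.S5781
import Mathlib
import Cfsg.Agent.Lib.AschGenCases


set_option autoImplicit false
open Cfsg

namespace Cfsg.Agent.S5781



/-- Every maximal subgroup of SL_4(q) is of one of the listed geometric types or lies in the residual class. Let F be a finite field with q elements and H a maximal subgroup of SL_4(F) (inside GL_4(F)). Then H is the intersection with SL_4(F) of one of: the stabiliser of a proper non-zero subspace; for q ≥ 7, the stabiliser of a decomposition into four independent lines; for q ≥ 4, the stabiliser of a decomposition into two independent planes; the normaliser of a degree-2 subfield of the matrix algebra; a subfield group for a subfield F₀ with |F| = |F₀|^r, r prime; for q = p ≡ 1 mod 4 prime, the normaliser of an absolutely irreducible 2-subgroup R of exponent 4 with centre of order 4, all of whose characteristic abelian subgroups are cyclic, of order 2^(2+2m) for some m (here |R| = 64), with 4 dividing p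 − 1; for q odd, the similarity group of a non-degenerate quadratic form; the similarity group of a non-degenerate symplectic form; the similarity group of a non-degenerate unitary form — or else H lies in the residual class of the linear case. -/
theorem result {F : Type*} [Field F] [Fintype F] (H : Subgroup (Matrix.GeneralLinearGroup (Fin 4) F)) (hH : Cfsg.Geo.IsMaximalIn (Cfsg.Geo.specialLinear (Fin 4) F) H) :
    (∃ W : Submodule F (Fin 4 → F), W ≠ ⊥ ∧ W ≠ ⊤ ∧ H = Cfsg.Geo.subspaceStabilizer W ⊓ Cfsg.Geo.specialLinear (Fin 4) F) ∨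
    (7 ≤ Fintype.card F ∧ ∃ D : Fin 4 → Submodule F (Fin 4 → F), Cfsg.Geo.IsMDecomposition 1 D ∧ H = Cfsg.Geo.decompositionStabilizer D ⊓ Cfsg.Geo.specialLinear (Fin 4) F) ∨
    (4 ≤ Fintype.card F ∧ ∃ D : Fin 2 → Submodule F (Fin 4 → F), Cfsg.Geo.IsMDecomposition 2 D ∧ H = Cfsg.Geo.decompositionStabilizer D ⊓ Cfsg.Geo.specialLinear (Fin 4) F) ∨
    (∃ K : Subalgebra F (Matrix (Fin 4) (Fin 4) F), Cfsg.Geo.IsFieldSubalgebra 2 K ∧ H = Cfsg.Geo.subalgebraNormalizer K ⊓ Cfsg.Geo.specialLinear (Fin 4) F) ∨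
    (∃ (F₀ : Subfield F) (r : ℕ) (P : Matrix.GeneralLinearGroup (Fin 4) F), r.Prime ∧ Fintype.card F = Nat.card F₀ ^ r ∧ H = Cfsg.Geo.subfieldSubgroup F₀ P ⊓ Cfsg.Geo.specialLinear (Fin 4) F) ∨
    (∃ (p : ℕ) (R : Subgroup (Matrix.GeneralLinearGroup (Fin 4) F)), p.Prime ∧ Fintype.card F = p ∧ p % 4 = 1 ∧ Cfsg.Geo.IsLinearSymplecticTypeData 2 R ∧ H = Cfsg.Geo.subgroupNormalizer R ⊓ Cfsg.Geo.specialLinear (Fin 4) F) ∨
    (Odd (Fintype.card F) ∧ ∃ Q : (Fin 4 → F) → F, Cfsg.Geo.IsNondegenerateQuadraticForm Q ∧ H = Cfsg.Geo.quadSimilarityGroup Q ⊓ Cfsg.Geo.specialLinear (Fin 4) F) ∨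
    (∃ f : (Fin 4 → F) → (Fin 4 → F) → F, Cfsg.Geo.IsSymplecticForm f ∧ H = Cfsg.Geo.similarityGroup f ⊓ Cfsg.Geo.specialLinear (Fin 4) F) ∨
    (∃ (σ : F ≃+* F) (f : (Fin 4 → F) → (Fin 4 → F) → F), Cfsg.Geo.IsUnitaryForm σ f ∧ H = Cfsg.Geo.similarityGroup f ⊓ Cfsg.Geo.specialLinear (Fin 4) F) ∨
    Cfsg.Geo.InLinearResidualClass H := by
  classical
  rcases Cfsg.Agent.AschGenCases.maximal_cases (by simp) hH with h | h
  swap
  · exact (Or.inr (Or.inr (Or.inr (Or.inr (Or.inr (Or.inr (Or.inr (Or.inr (Or.inr h)))))))))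
  cases h with
  | sub W hb ht eq => exact (Or.inl ⟨W, hb, ht, eq⟩)
  | decomp t m D hD hn h1 h2 h22 eq =>
    rw [Fintype.card_fin] at hn
    have h2t := hD.two_le
    have ht : t ≤ 4 := Nat.le_of_dvd (by omega) ⟨m, hn⟩
    interval_cases t
    · obtain rfl : m = 2 := by omega
      exact (Or.inr (Or.inr (Or.inl ⟨h22 rfl rfl, D, hD, eq⟩)))
    · omega
    · obtain rfl : m = 1 := by omega
      by_cases hq5 : Fintype.card F = 5
      · obtain ⟨R, hR, htr, hle⟩ := Cfsg.Agent.AschGenMaximal.lines_five hq5 hH.1.le hD (eq.le.trans inf_le_left)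
        exact (Or.inr (Or.inr (Or.inr (Or.inr (Or.inr (Or.inl ⟨5, R, by norm_num, hq5, by norm_num, hR, Cfsg.Agent.AschPrimeBasic.eq_of_maximal hH hle (Cfsg.Agent.AschGenExtra.sl_not_le_normalizer (by simp) htr)⟩))))))
      · have h6 : Fintype.card F ≠ 6 := fun h6 => by
          obtain ⟨p, hp⟩ := CharP.exists F
          obtain ⟨e, hpp, he⟩ := FiniteField.card F p
          rw [h6] at he
          have h2' := (Nat.prime_dvd_prime_iff_eq Nat.prime_two hpp).1 (Nat.prime_two.dvd_of_dvd_pow (he ▸ (by norm_num : 2 ∣ 6)))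
          have h3' := (Nat.prime_dvd_prime_iff_eq Nat.prime_three hpp).1 (Nat.prime_three.dvd_of_dvd_pow (he ▸ (by norm_num : 3 ∣ 6)))
          omega
        have h5 := h1 rfl
        exact (Or.inr (Or.inl ⟨by omega, D, hD, eq⟩))
  | field r K hr hK dvd eq =>
    rw [Fintype.card_fin] at dvd
    have hrn : r ≤ 4 := Nat.le_of_dvd (by omega) dvd
    have := hr.two_le
    interval_cases r
    · exact (Or.inr (Or.inr (Or.inr (Or.inl ⟨K, hK, eq⟩))))
    · omega
    · norm_num at hr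
  | tensor n₁ n₂ e P h1 h12 hn hq eq =>
    rw [Fintype.card_fin] at hn
    have h1' : n₁ * n₁ < 4 := hn ▸ Nat.mul_lt_mul_of_pos_left h12 (by omega)
    have h1'' : n₁ < 3 := by nlinarith
    interval_cases n₁
    · omega
  | subfield F₀ r P hr hc eq => exact (Or.inr (Or.inr (Or.inr (Or.inr (Or.inl ⟨F₀, r, P, hr, hc, eq⟩)))))
  | extra p e r m R hp hchar hF hr hn hmin hR eq =>
    rw [Fintype.card_fin] at hn
    have hr' : r = 2 := by
      refine ((Nat.prime_dvd_prime_iff_eq (by norm_num) hr).1 ((by norm_num : Nat.Prime 2).dvd_of_dvd_pow (m := r) (n := m) ?_)).symm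
      rw [← hn]; norm_num
    subst hr'
    rcases hmin with ⟨ho, -⟩ | ⟨-, rfl, hp4⟩
    · exact absurd ho (by decide)
    rw [pow_one] at hF
    exact (Or.inr (Or.inr (Or.inr (Or.inr (Or.inr (Or.inl ⟨p, R, hp, hF, hp4, hR, eq⟩))))))
  | wreath m t e P hm ht hn eq =>
    rw [Fintype.card_fin] at hn
    have hm2 : m ^ 2 ≤ 4 := hn ▸ Nat.pow_le_pow_right (by omega) ht
    nlinarith
  | symp f hf heven eq => exact (Or.inr (Or.inr (Or.inr (Or.inr (Or.inr (Or.inr (Or.inr (Or.inl ⟨f, hf, eq⟩))))))))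
  | unit σ f hf eq => exact (Or.inr (Or.inr (Or.inr (Or.inr (Or.inr (Or.inr (Or.inr (Or.inr (Or.inl ⟨σ, f, hf, eq⟩)))))))))
  | quad Q hodd hQ eq => exact (Or.inr (Or.inr (Or.inr (Or.inr (Or.inr (Or.inr (Or.inl ⟨hodd, Q, hQ, eq⟩)))))))

end Cfsg.Agent.S5781
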