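import Cfsg.Statements.S5784
import Cfsg.Agent.Lib.AschCaseUnit
import Cfsg.Agent.Lib.AschSU4Proper44
import Cfsg.Agent.Lib.AschSU4Pair44
import Cfsg.Agent.Lib.AschSU4LinesMax44

set_option autoImplicit false
open Cfsg

namespace Cfsg.Agent.S5784

/-- Every maximal subgroup of SU_4(q) is of one of the listed geometric types or lies in the residual class. Let F be the field with q² elements, f the standard unitary form Σ u_i v_i^q on F^4, and H a maximal subgroup of SU_4(q) (inside GL_4(F)). Then H is the intersection with SU_4(q) of one of: the stabiliser of a non-zero subspace on which f vanishes; the stabiliser of a non-degenerate 1-space; for q ≠ 3, the stabiliser of a decomposition into four mutually orthogonal non-degenerate 1-spaces; for q ≥ 3, of a decomposition into two orthogonal non-degenerate 2-spaces; for q ≥ 4, of a decomposition into two totally isotropic 2-spaces; a subfield group of odd prime index whose F₀-structure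 carries f; a subfield group of index 2 whose F₀-structure carries ζ f, vanishing on pairs (u, u), for some non-zero ζ with ζ + ζ^q = 0; for q odd, a subfield group of index 2 whose F₀-structure carries f; for q = p ≡ 3 mod 4 prime, the normaliser of an absolutely irreducible symplectic-type 2-group of exponent 4, order 64 and centre of order 4 inside the similarity group of f — or else H lies in the residual class of the unitary case. -/
theorem result {F : Type*} [Field F] [Fintype F] (q : ℕ) (hF : Fintype.card F = q ^ 2) (H : Subgroup (Matrix.GeneralLinearGroup (Fin 4) F)) (hH : Cfsg.Geo.IsMaximalIn (Cfsg.GU 4 F q ⊓ Cfsg.Geo.specialLinear (Fin 4) F) H) :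
    (∃ W : Submodule F (Fin 4 → F), W ≠ ⊥ ∧ Cfsg.Geo.IsTotallySingularFor (Cfsg.hermForm 4 F q) W ∧ H = Cfsg.Geo.subspaceStabilizer W ⊓ (Cfsg.GU 4 F q ⊓ Cfsg.Geo.specialLinear (Fin 4) F)) ∨
    (∃ W : Submodule F (Fin 4 → F), W ≠ ⊥ ∧ Cfsg.Geo.IsNondegenerateOn (Cfsg.hermForm 4 F q) W ∧ 2 * Module.finrank F W < 4 ∧ H = Cfsg.Geo.subspaceStabilizer W ⊓ (Cfsg.GU 4 F q ⊓ Cfsg.Geo.specialLinear (Fin 4) F)) ∨
    (q ≠ 3 ∧ ∃ D : Fin 4 → Submodule F (Fin 4 → F), Cfsg.Geo.IsNondegenerateMDecomposition (Cfsg.hermForm 4 F q) 1 D ∧ H = Cfsg.Geo.decompositionStabilizer D ⊓ (Cfsg.GU 4 F q ⊓ Cfsg.Geo.specialLinear (Fin 4) F)) ∨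
    (3 ≤ q ∧ ∃ D : Fin 2 → Submodule F (Fin 4 → F), Cfsg.Geo.IsNondegenerateMDecomposition (Cfsg.hermForm 4 F q) 2 D ∧ H = Cfsg.Geo.decompositionStabilizer D ⊓ (Cfsg.GU 4 F q ⊓ Cfsg.Geo.specialLinear (Fin 4) F)) ∨
    (4 ≤ q ∧ ∃ D : Fin 2 → Submodule F (Fin 4 → F), Cfsg.Geo.IsMDecomposition 2 D ∧ (∀ i, Cfsg.Geo.IsTotallySingularFor (Cfsg.hermForm 4 F q) (D i)) ∧ H = Cfsg.Geo.decompositionStabilizer D ⊓ (Cfsg.GU 4 F q ⊓ Cfsg.Geo.specialLinear (Fin 4) F)) ∨
    (∃ (F₀ : Subfield F) (r : ℕ) (P : Matrix.GeneralLinearGroup (Fin 4) F), r.Prime ∧ Odd r ∧ Fintype.card F = Nat.card F₀ ^ r ∧ Cfsg.Geo.IsFormRationalStructure (Cfsg.hermForm 4 F q) F₀ 1 P ∧ H = Cfsg.Geo.subfieldSubgroup F₀ P ⊓ (Cfsg.GU 4 F q ⊓ Cfsg.Geo.specialLinear (Fin 4) F)) ∨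
    (∃ (F₀ : Subfield F) (P : Matrix.GeneralLinearGroup (Fin 4) F) (ζ : F), Fintype.card F = Nat.card F₀ ^ 2 ∧ ζ ≠ 0 ∧ ζ + ζ ^ q = 0 ∧ Cfsg.Geo.IsFormRationalStructure (Cfsg.hermForm 4 F q) F₀ ζ P ∧ (∀ u : Fin 4 → F, (∀ i, u i ∈ F₀) → (Cfsg.hermForm 4 F q) (Matrix.mulVec (P : Matrix (Fin 4) (Fin 4) F) u) (Matrix.mulVec (P : Matrix (Fin 4) (Fin 4) F) u) = 0) ∧ H = Cfsg.Geo.subfieldSubgroup F₀ P ⊓ (Cfsg.GU 4 F q ⊓ Cfsg.Geo.specialLinear (Fin 4) F)) ∨
    (Odd q ∧ ∃ (F₀ : Subfield F) (P : Matrix.GeneralLinearGroup (Fin 4) F), Fintype.card F = Nat.card F₀ ^ 2 ∧ Cfsg.Geo.IsFormRationalStructure (Cfsg.hermForm 4 F q) F₀ 1 P ∧ H = Cfsg.Geo.subfieldSubgroup F₀ P ⊓ (Cfsg.GU 4 F q ⊓ Cfsg.Geo.specialLinear (Fin 4) F)) ∨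
    (∃ (p : ℕ) (R : Subgroup (Matrix.GeneralLinearGroup (Fin 4) F)), p.Prime ∧ q = p ∧ p % 4 = 3 ∧ Cfsg.Geo.IsSymplecticTypeGroup 2 R ∧ Cfsg.Geo.ActsAbsolutelyIrreducibly (Cfsg.Geo.matrixSet R) ∧ R ≤ Cfsg.Geo.similarityGroup (Cfsg.hermForm 4 F q) ∧ Nat.card R = 64 ∧ Nat.card (Subgroup.center R) = 4 ∧ H = Cfsg.Geo.subgroupNormalizer R ⊓ (Cfsg.GU 4 F q ⊓ Cfsg.Geo.specialLinear (Fin 4) F)) ∨
    Cfsg.Geo.InUnitaryResidualClass H := by
  classical
  haveI : Nonempty (Fin 4) := ⟨0⟩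
  have hq := AschCase.two_le_q hF
  have hΩ := AschCase.su_transvected (n := 4) hF le_rfl
  have hGU : H ≤ Cfsg.GU 4 F q := hH.1.le.trans inf_le_left
  rcases AschFormUnit.unit_fine hF (by norm_num) hGU with ⟨M, hM, hle'⟩ | hres
  swap
  · exact Or.inr (Or.inr (Or.inr (Or.inr (Or.inr (Or.inr (Or.inr (Or.inr (Or.inr hres))))))))
  rcases hM with (⟨W, hb, hts, rfl⟩ | ⟨W, hb, hnd, hsm, rfl⟩ | ⟨t, k, D, hD, rfl⟩ | ⟨k, D, hk, hD, hts, rfl⟩ |
      ⟨F₀, r, P, hr, hro, hc, hrat, rfl⟩ | ⟨F₀, P, hodd, hc, hrat, rfl⟩ |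
      ⟨F₀, P, ζ, hev, hc, hζ, hζ', hrat, hts, rfl⟩ | ⟨r, R, p, e, k, hR, habs, hsim, hrp, hmin, h2, hnk, hcase, rfl⟩) |
      ⟨r, K, hr, hro, hK, hadj, rfl⟩ | ⟨n₁, n₂, e, P, f₁, f₂, h1, h12, hf₁, hf₂, hT, rfl⟩ |
      ⟨k, t, e, P, f₁, hk, ht, hexc, hf₁, hT, rfl⟩ <;>
    have hle := hle'.trans inf_le_left
  · have ht : W ≠ ⊤ := fun h => by
      subst h
      have := hts (Pi.single 0 1) trivial (Pi.single 0 1) trivial
      rw [OrthUnitaryHerm.herm_single_right hF] at this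
      simp at this
    exact Or.inl ⟨W, hb, hts, AschPrimeBasic.eq_of_maximal hH hle (hΩ.not_le_subspace hb ht)⟩
  · have ht : W ≠ ⊤ := fun h => by
      subst h
      rw [finrank_top, Module.finrank_pi, Fintype.card_fin] at hsm
      omega
    exact Or.inr (Or.inl ⟨W, hb, hnd, hsm, AschPrimeBasic.eq_of_maximal hH hle (hΩ.not_le_subspace hb ht)⟩)
  · have lines : ∀ D : Fin 4 → Submodule F (Fin 4 → F), Geo.IsNondegenerateMDecomposition (hermForm 4 F q) 1 D →
        H ≤ Geo.decompositionStabilizer D → q ≠ 3 ∧ ∃ D : Fin 4 → Submodule F (Fin 4 → F),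
          Geo.IsNondegenerateMDecomposition (hermForm 4 F q) 1 D ∧
            H = Geo.decompositionStabilizer D ⊓ (Cfsg.GU 4 F q ⊓ Geo.specialLinear (Fin 4) F) := fun D hD hle =>
      have heq := AschPrimeBasic.eq_of_maximal hH hle (AschCase.su_not_le_decomposition hF le_rfl hD.decomp)
      if h : q = 3 then (show False by subst h; exact AschSU4Lines44.lines_not_maximal hF hH hD heq).elim
      else ⟨h, D, hD, heq⟩
    have hcount : t * k = 4 := by have := AschCase.decomposition_count hD.decomp; rwa [Fintype.card_fin] at this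
    have ht2 := hD.decomp.two_le
    have hk0 := hD.decomp.pos
    have hk2 : k ≤ 2 := by nlinarith
    interval_cases k
    · obtain rfl : t = 4 := by omega
      exact Or.inr (Or.inr (Or.inl (lines D hD hle)))
    · obtain rfl : t = 2 := by omega
      by_cases h : 3 ≤ q
      · exact Or.inr (Or.inr (Or.inr (Or.inl ⟨h, D, hD,
          AschPrimeBasic.eq_of_maximal hH hle (AschCase.su_not_le_decomposition hF le_rfl hD.decomp)⟩)))
      · obtain rfl : q = 2 := by omega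
        obtain ⟨D', hD', hle''⟩ := AschCase.unit_planes_lines hF rfl hGU hD hle
        exact Or.inr (Or.inr (Or.inl (lines D' hD' hle'')))
  · obtain rfl : k = 2 := by omega
    have heq := AschPrimeBasic.eq_of_maximal hH hle (AschCase.su_not_le_decomposition hF le_rfl hD)
    by_cases h : 4 ≤ q
    · exact Or.inr (Or.inr (Or.inr (Or.inr (Or.inl ⟨h, D, hD, hts, heq⟩))))
    · exact (AschSU4Pair44.pair_not_maximal hF (by omega) hH hD hts heq).elim
  · exact Or.inr (Or.inr (Or.inr (Or.inr (Or.inr (Or.inl ⟨F₀, r, P, hr, hro, hc, hrat, AschPrimeBasic.eq_of_maximal hH hle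
      (AschPrimeUnitaryProper.su_not_le_subfieldSubgroup hF (by norm_num) (AschCase.subfield_ne_top hr.two_le hc) P)⟩)))))
  · exact Or.inr (Or.inr (Or.inr (Or.inr (Or.inr (Or.inr (Or.inr (Or.inl ⟨hodd, F₀, P, hc, hrat,
      AschPrimeBasic.eq_of_maximal hH hle
      (AschPrimeUnitaryProper.su_not_le_subfieldSubgroup hF (by norm_num) (AschCase.subfield_ne_top le_rfl hc) P)⟩)))))))
  · exact Or.inr (Or.inr (Or.inr (Or.inr (Or.inr (Or.inr (Or.inl ⟨F₀, P, ζ, hc, hζ, hζ', hrat, hts,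
      AschPrimeBasic.eq_of_maximal hH hle
      (AschPrimeUnitaryProper.su_not_le_subfieldSubgroup hF (by norm_num) (AschCase.subfield_ne_top le_rfl hc) P)⟩))))))
  · obtain rfl : r = 2 := AschCase.prime_eq_of_dvd_pow (AschCase.symplecticType_prime hR) Nat.prime_two hnk (by norm_num)
    obtain rfl : k = 2 := Nat.pow_right_injective le_rfl (hnk.symm.trans (by norm_num))
    rcases hcase with ⟨ho, -⟩ | ⟨-, he, hz, hcard⟩
    · exact absurd ho (by decide)
    rw [hz] at hmin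
    obtain ⟨hqp, hdvd, hndvd⟩ := AschCase.minimal_two hF hmin he.le
    have hpodd : p % 2 = 1 := (hmin.1.eq_two_or_odd).resolve_left fun h => hrp h.symm
    haveI := hmin.2.1
    exact Or.inr (Or.inr (Or.inr (Or.inr (Or.inr (Or.inr (Or.inr (Or.inr (Or.inl
      ⟨p, R, hmin.1, hqp, by omega, hR, habs, hsim, hcard, hz, AschPrimeBasic.eq_of_maximal hH hle
        (AschSU4Proper44.su_not_le_normalizer_four hF hmin.1 (fun h => hrp h.symm) habs h2 hR.pGroup)⟩))))))))
  · exfalso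
    have hd : r ∣ 4 := by simpa using AschGenLinear.field_degree_dvd hK
    have := (Nat.prime_dvd_prime_iff_eq hr Nat.prime_two).1 (hr.dvd_of_dvd_pow (m := 2) (n := 2) hd)
    subst this
    exact absurd hro (by decide)
  · exfalso
    have hmul : n₁ * n₂ = 4 := by simpa using (Fintype.card_congr e).symm
    nlinarith
  · exfalso
    have hmul : k ^ t = 4 := by simpa using (Fintype.card_congr e).symm
    have := Nat.pow_le_pow_right (show 0 < k by omega) ht
    nlinarith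

end Cfsg.Agent.S5784
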