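import Cfsg.Statements.S5787
import Cfsg.Agent.Lib.AschCaseSp4

set_option autoImplicit false
open Cfsg

namespace Cfsg.Agent.S5787

/-- Every maximal subgroup of Sp_4(q), q odd, is of one of the listed geometric types or lies in the residual class. Let F be a finite field of odd order q, f the standard alternating form on F^4 (coordinates Fin 2 ⊕ Fin 2), and H a maximal subgroup of the isometry group Sp_4(F) (inside GL_4(F)). Then H is the intersection with Sp_4(F) of one of: the stabiliser of a non-zero totally isotropic subspace; the stabiliser of a decomposition into two orthogonal non-degenerate 2-spaces; for q ≥ 5, of a decomposition into two totally isotropic 2-spaces; the normaliser of a degree-2 subfield K of the matrix algebra, self-adjoint with f(k v, v) = 0; for q ≥ 5, the normaliser of a degree-2 subfield closed under adjoints but not self-adjoint; a subfield group whose F₀-structure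 carries a non-zero multiple of f, |F| = |F₀|^r with r prime; for q = p prime, the normaliser of an absolutely irreducible symplectic-type 2-group of exponent 4, order 32, centre of order 2 and minus type inside the similarity group of f — or else H lies in the residual class of the symplectic case. -/
theorem result {F : Type*} [Field F] [Fintype F] (hodd : Odd (Fintype.card F)) (H : Subgroup (Matrix.GeneralLinearGroup (Fin 2 ⊕ Fin 2) F)) (hH : Cfsg.Geo.IsMaximalIn (Cfsg.spGL 2 F) H) :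
    (∃ W : Submodule F (Fin 2 ⊕ Fin 2 → F), W ≠ ⊥ ∧ Cfsg.Geo.IsTotallySingularFor (Cfsg.sympForm 2 F) W ∧ H = Cfsg.Geo.subspaceStabilizer W ⊓ Cfsg.spGL 2 F) ∨
    (∃ D : Fin 2 → Submodule F (Fin 2 ⊕ Fin 2 → F), Cfsg.Geo.IsNondegenerateMDecomposition (Cfsg.sympForm 2 F) 2 D ∧ H = Cfsg.Geo.decompositionStabilizer D ⊓ Cfsg.spGL 2 F) ∨
    (5 ≤ Fintype.card F ∧ ∃ D : Fin 2 → Submodule F (Fin 2 ⊕ Fin 2 → F), Cfsg.Geo.IsMDecomposition 2 D ∧ (∀ i, Cfsg.Geo.IsTotallySingularFor (Cfsg.sympForm 2 F) (D i)) ∧ H = Cfsg.Geo.decompositionStabilizer D ⊓ Cfsg.spGL 2 F) ∨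
    (∃ K : Subalgebra F (Matrix (Fin 2 ⊕ Fin 2) (Fin 2 ⊕ Fin 2) F), Cfsg.Geo.IsFieldSubalgebra 2 K ∧ Cfsg.Geo.IsSelfAdjointFor (Cfsg.sympForm 2 F) K ∧ (∀ k ∈ K, ∀ v : (Fin 2 ⊕ Fin 2 → F), (Cfsg.sympForm 2 F) (Matrix.mulVec k v) v = 0) ∧ H = Cfsg.Geo.subalgebraNormalizer K ⊓ Cfsg.spGL 2 F) ∨
    (5 ≤ Fintype.card F ∧ ∃ K : Subalgebra F (Matrix (Fin 2 ⊕ Fin 2) (Fin 2 ⊕ Fin 2) F), Cfsg.Geo.IsFieldSubalgebra 2 K ∧ Cfsg.Geo.IsAdjointClosedFor (Cfsg.sympForm 2 F) K ∧ ¬ Cfsg.Geo.IsSelfAdjointFor (Cfsg.sympForm 2 F) K ∧ H = Cfsg.Geo.subalgebraNormalizer K ⊓ Cfsg.spGL 2 F) ∨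
    (∃ (F₀ : Subfield F) (r : ℕ) (P : Matrix.GeneralLinearGroup (Fin 2 ⊕ Fin 2) F) (ζ : F), r.Prime ∧ Fintype.card F = Nat.card F₀ ^ r ∧ ζ ≠ 0 ∧ Cfsg.Geo.IsFormRationalStructure (Cfsg.sympForm 2 F) F₀ ζ P ∧ H = Cfsg.Geo.subfieldSubgroup F₀ P ⊓ Cfsg.spGL 2 F) ∨
    (∃ (p : ℕ) (R : Subgroup (Matrix.GeneralLinearGroup (Fin 2 ⊕ Fin 2) F)), p.Prime ∧ Fintype.card F = p ∧ Cfsg.Geo.IsSymplecticTypeGroup 2 R ∧ Cfsg.Geo.ActsAbsolutelyIrreducibly (Cfsg.Geo.matrixSet R) ∧ R ≤ Cfsg.Geo.similarityGroup (Cfsg.sympForm 2 F) ∧ Nat.card R = 32 ∧ Nat.card (Subgroup.center R) = 2 ∧ Cfsg.Geo.IsOfMinusType 2 R ∧ H = Cfsg.Geo.subgroupNormalizer R ⊓ Cfsg.spGL 2 F) ∨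
    Cfsg.Geo.InSymplecticResidualClass H := by
  classical
  have h2 : (2 : F) ≠ 0 := AschCase.two_ne_zero_of_odd hodd
  have h3or5 : Fintype.card F = 3 ∨ 5 ≤ Fintype.card F := by
    have := Fintype.one_lt_card (α := F)
    obtain ⟨j, hj⟩ := hodd
    omega
  rcases AschCase.sp_list le_rfl hH with h | ⟨W, hb, hnd, hsm, hev, hH'⟩ | ⟨t, k, D, htk, ht, hk, hk1, hq3, hD, hH'⟩ |
      ⟨D, -, hD, hts, hH'⟩ | ⟨r, K, hr, hrm, hK, hsa, halt, hH'⟩ | ⟨K, -, hK, hadj, hns, hH'⟩ |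
      ⟨n₁, n₂, e, P, f₁, f₂, hn, hev, h1, hn2, -, h35, hf₁, hf₂, hT, hcs, hH'⟩ |
      ⟨k, t, e, P, f₁, hn, -, hto, ht, hexc, hf₁, hT, hH'⟩ | h |
      ⟨R, p, k, hR, habs, hsim, hp, hpo, hcp, hcR, hz, hminus, hk, hH'⟩ | ⟨Q, hev, hQ, hpol, hH'⟩ | h
  · exact Or.inl h
  · obtain ⟨j, hj⟩ := hev
    rcases Nat.eq_zero_or_pos (Module.finrank F W) with h0 | h0
    · exact absurd (Submodule.finrank_eq_zero.1 h0) hb
    · omega
  · have hk' : k ≤ 2 := by nlinarith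
    obtain ⟨j, rfl⟩ := hk
    obtain rfl : j = 1 := by omega
    obtain rfl : t = 2 := by omega
    exact Or.inr (Or.inl ⟨D, hD, hH'⟩)
  · rcases h3or5 with h3 | h5
    · exact Or.inr (Or.inr (Or.inr (Or.inl (AschCase.Sp4.singular_pair h3 hH hD hts (hH'.le.trans inf_le_left)))))
    · exact Or.inr (Or.inr (Or.inl ⟨h5, D, hD, hts, hH'⟩))
  · obtain rfl : r = 2 := (Nat.prime_dvd_prime_iff_eq hr Nat.prime_two).1 hrm
    exact Or.inr (Or.inr (Or.inr (Or.inl ⟨K, hK, hsa, halt, hH'⟩)))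
  · rcases h3or5 with h3 | h5
    · exact (AschCase.Sp4.no_unitary_field h3 hH hK hadj hns (hH'.le.trans inf_le_left)).elim
    · exact Or.inr (Or.inr (Or.inr (Or.inr (Or.inl ⟨h5, K, hK, hadj, hns, hH'⟩))))
  · obtain ⟨j, rfl⟩ := hev
    have := Nat.mul_le_mul (show 2 ≤ j + j by omega) hn2; omega
  · have hk2 : 2 ≤ k := by
      by_contra h
      interval_cases k
      · rw [zero_pow (by omega)] at hn; omega
      · rw [one_pow] at hn; omega
    have h8 : 2 ^ 3 ≤ k ^ t := (Nat.pow_le_pow_left hk2 3).trans (Nat.pow_le_pow_right (by omega) ht)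
    omega
  · exact Or.inr (Or.inr (Or.inr (Or.inr (Or.inr (Or.inl h)))))
  · obtain rfl : k = 2 := Nat.pow_right_injective le_rfl (hk.symm.trans (by norm_num))
    exact Or.inr (Or.inr (Or.inr (Or.inr (Or.inr (Or.inr (Or.inl ⟨p, R, hp, hcp, hR, habs, hsim, hcR, hz, hminus,
      hH'⟩))))))
  · exact absurd hodd hev
  · exact Or.inr (Or.inr (Or.inr (Or.inr (Or.inr (Or.inr (Or.inr h))))))

end Cfsg.Agent.S5787
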