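import Cfsg.Statements.S5789
import Cfsg.Agent.Lib.SympSingularMax97
import Cfsg.Agent.Lib.SympDecompMax97
import Cfsg.Agent.Lib.SympQuadMax97
import Cfsg.Agent.Lib.Sp4ExtField97
import Cfsg.Agent.Lib.SubfieldSympTwo97

set_option autoImplicit false
open Cfsg

namespace Cfsg.Agent.S5789

open Cfsg.Agent.TransvectionMax
open scoped Matrix MatrixGroups

section Helpers

variable {F : Type*} [Field F]

lemma zeta_form {ι : Type} [Fintype ι] [DecidableEq ι] {f : (ι → F) → (ι → F) → F} {ζ : F} (hζ : ζ ≠ 0)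
    (hf : Cfsg.Geo.IsSymplecticForm f) : Cfsg.Geo.IsSymplecticForm (fun x y => ζ * f x y) := by
  refine ⟨⟨?_, ?_, ?_, ?_⟩, ?_, ?_, ?_⟩
  · intro x y v; simp only [hf.bilinear.add_left]; ring
  · intro c x v; simp only [hf.bilinear.smul_left]; ring
  · intro v x y; simp only [hf.bilinear.add_right]; ring
  · intro c v x; simp only [hf.bilinear.smul_right]; ring
  · intro v w; simp only [hf.skew v w]; ring
  · intro v; simp only [hf.alternating, mul_zero]
  · intro v hv
    obtain ⟨⟨w, hw⟩, ⟨w', hw'⟩⟩ := hf.nondegenerate v hv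
    exact ⟨⟨w, mul_ne_zero hζ hw⟩, ⟨w', mul_ne_zero hζ hw'⟩⟩

lemma st_zeta {ι : Type} [Fintype ι] [DecidableEq ι] {f : (ι → F) → (ι → F) → F} {ζ : F} (hζ : ζ ≠ 0)
    (hf : Cfsg.Geo.IsSymplecticForm f) (u : ι → F) (c : F) : st (fun x y => ζ * f x y) u c = st f u (c * ζ) :=
  gl_ext fun x => by rw [st_act (zeta_form hζ hf), st_act hf, mul_assoc]

lemma rat_mem {ι : Type} [Fintype ι] [DecidableEq ι] {f : (ι → F) → (ι → F) → F} {ζ : F} (hζ : ζ ≠ 0)
    (hf : Cfsg.Geo.IsSymplecticForm f) {F₀ : Subfield F} {P : GL ι F}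
    (hP : Cfsg.Geo.IsFormRationalStructure f F₀ ζ P) (a : ι → F₀) (c : F₀) :
    st (fun x y => ζ * f x y) (SubfieldRational.rat P a) (c : F) ∈ Cfsg.Geo.subfieldSubgroup F₀ P := by
  have hf0 := SubfieldRational.form_symplectic hP hζ hf
  rw [← show SubfieldRational.lift P (st (SubfieldRational.form hP) a c) =
      st (fun x y => ζ * f x y) (SubfieldRational.rat P a) (c : F) from
    SubfieldRational.ext_rat (F₀ := F₀) P fun u => by
      rw [SubfieldRational.lift_act, st_act hf0, st_act (zeta_form hζ hf), SubfieldRational.rat_add,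
        SubfieldRational.rat_smul, Subfield.coe_mul]
      rfl]
  exact SubfieldRational.lift_mem P _

lemma not_le_normalizer (K : Subalgebra F (Matrix (Fin 2 ⊕ Fin 2) (Fin 2 ⊕ Fin 2) F))
    (hK : Cfsg.Geo.IsFieldSubalgebra 2 K)
    (halt : ∀ k ∈ K, ∀ v : (Fin 2 ⊕ Fin 2 → F), Cfsg.sympForm 2 F (Matrix.mulVec k v) v = 0) :
    ¬ Cfsg.spGL 2 F ≤ Cfsg.Geo.subalgebraNormalizer K := by
  intro hle
  have hf := sympForm_isSymplecticForm (F := F) 2
  have hbot : K = ⊥ := eq_bot_iff.2 fun k hk => by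
    set u : Fin 2 ⊕ Fin 2 → F := Pi.single (Sum.inl 0) 1 with hu_def
    have hu : u ≠ 0 := by simp [u]
    obtain ⟨⟨y, hy⟩, -⟩ := hf.nondegenerate u hu
    set T := st (Cfsg.sympForm 2 F) u 1 with hT
    have hTx : ∀ x, (T : Matrix _ _ F) *ᵥ x = x + Cfsg.sympForm 2 F x u • u := fun x => by
      rw [hT, st_act hf, one_mul]
    have hk' := (hle (st_mem_spGL 2 u 1) k).1 hk
    set k' := (T : Matrix _ _ F) * k * ((T⁻¹ : GL _ F) : Matrix _ _ F) with hk'def
    have hcm : ∀ x, k' *ᵥ ((T : Matrix _ _ F) *ᵥ x) = (T : Matrix _ _ F) *ᵥ (k *ᵥ x) := fun x => by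
      rw [Matrix.mulVec_mulVec, Matrix.mulVec_mulVec, hk'def, Units.inv_mul_cancel_right]
    have hkk : k' = k := by
      by_contra hne
      obtain ⟨w, hw, hwe⟩ := hK.inv _ (K.sub_mem hk' hk) (sub_ne_zero.2 hne)
      rw [hK.comm _ (K.sub_mem hk' hk) w hw] at hwe
      apply hu
      have h0 : (k' - k) *ᵥ u = 0 := by
        have := hcm u
        rw [hTx, hTx, hf.alternating, zero_smul, add_zero, halt k hk u, zero_smul, add_zero] at this
        rw [Matrix.sub_mulVec, this, sub_self]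
      have := congrArg (fun m => w *ᵥ m) h0
      simpa [Matrix.mulVec_mulVec, hwe] using this
    have h := hcm y
    rw [hkk, hTx, hTx, Matrix.mulVec_add, add_right_inj, Matrix.mulVec_smul] at h
    set e := (Cfsg.sympForm 2 F y u)⁻¹ * Cfsg.sympForm 2 F (k *ᵥ y) u
    refine Algebra.mem_bot.2 ⟨e, ?_⟩
    by_contra hne
    have hmem : k - e • 1 ∈ K := K.sub_mem hk (K.smul_mem K.one_mem e)
    obtain ⟨w, hw, hwe⟩ := hK.inv _ hmem (fun h0 => hne (by rw [Algebra.algebraMap_eq_smul_one, sub_eq_zero.1 h0]))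
    rw [hK.comm _ hmem w hw] at hwe
    apply hu
    have h0 : (k - e • 1) *ᵥ u = 0 := by
      have h5 := congrArg (fun m => (Cfsg.sympForm 2 F y u)⁻¹ • m) h
      simp only [smul_smul, inv_mul_cancel₀ hy, one_smul] at h5
      rw [Matrix.sub_mulVec, Matrix.smul_mulVec, Matrix.one_mulVec, h5, sub_self]
    have := congrArg (fun m => w *ᵥ m) h0
    simpa [Matrix.mulVec_mulVec, hwe] using this
  have := hK.finrank_eq
  rw [hbot, Subalgebra.finrank_bot] at this
  exact absurd this (by norm_num)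

lemma not_le_subfield [Fintype F] (F₀ : Subfield F) {r : ℕ} (hr : r.Prime)
    (hcard : Fintype.card F = Nat.card F₀ ^ r) (P : GL (Fin 2 ⊕ Fin 2) F) (ζ : F) (hζ : ζ ≠ 0)
    (hP : Cfsg.Geo.IsFormRationalStructure (Cfsg.sympForm 2 F) F₀ ζ P) :
    ¬ Cfsg.spGL 2 F ≤ Cfsg.Geo.subfieldSubgroup F₀ P := by
  intro hle
  have hf := sympForm_isSymplecticForm (F := F) 2
  have hg := zeta_form hζ hf
  have hf0 := SubfieldRational.form_symplectic hP hζ hf
  obtain ⟨θ, hθ⟩ : ∃ θ : F, θ ∉ F₀ := by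
    by_contra! h
    have h1 : Nat.card F₀ = Fintype.card F := by
      rw [← Nat.card_eq_fintype_card]
      exact Nat.card_congr (Equiv.subtypeUnivEquiv h)
    have h2 := Nat.pow_right_injective (Finite.one_lt_card (α := F₀))
      (show Nat.card F₀ ^ 1 = Nat.card F₀ ^ r by rw [pow_one, ← hcard, h1])
    exact hr.one_lt.ne h2
  set a0 : Fin 2 ⊕ Fin 2 → F₀ := Pi.single (Sum.inl 0) 1
  have ha0 : a0 ≠ 0 := by simp [a0]
  obtain ⟨b, hb⟩ := (hf0.nondegenerate a0 ha0).1
  have hmem : st (fun x y => ζ * Cfsg.sympForm 2 F x y) (SubfieldRational.rat P a0) θ ∈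
      Cfsg.Geo.subfieldSubgroup F₀ P := hle (by rw [st_zeta hζ hf]; exact st_mem_spGL 2 _ _)
  obtain ⟨k, w, hkw⟩ := (SubfieldRational.mem_subfieldSubgroup_iff (F₀ := F₀) P _).mp hmem b
  rw [st_act hg] at hkw
  change SubfieldRational.rat P b + (θ * (SubfieldRational.form hP b a0 : F)) • SubfieldRational.rat P a0 = _ at hkw
  have hba : b ∉ Submodule.span F₀ {a0} := S5650.notMem_span_of hf0.bilinear hb (hf0.alternating a0)
  have hk : k ≠ 0 := fun h0 => by
    rw [h0, zero_smul] at hkw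
    exact one_ne_zero (SubfieldRational.rat_indep P (s := (1 : F))
      (t := θ * (SubfieldRational.form hP b a0 : F)) ha0 hba (by rw [one_smul]; exact hkw)).1
  obtain ⟨h1, h2⟩ := SubfieldRational.rat_coeff_mem P (a := k⁻¹)
    (b := k⁻¹ * (θ * (SubfieldRational.form hP b a0 : F))) ha0 hba (z := w) (by
      have h3 := congrArg (fun v => k⁻¹ • v) hkw
      simpa [smul_add, smul_smul, inv_mul_cancel₀ hk] using h3)
  have h3 : θ * (SubfieldRational.form hP b a0 : F) ∈ F₀ := by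
    have := F₀.div_mem h2 h1
    rwa [mul_div_cancel_left₀ _ (inv_ne_zero hk)] at this
  apply hθ
  have h4 := F₀.div_mem h3 (SubfieldRational.form hP b a0).2
  rwa [mul_div_assoc, div_self (fun h => hb (Subtype.ext h)), mul_one] at h4

end Helpers

/-- Maximal subgroups of Sp_4(q) of geometric type, q ≥ 4 even. Let F be a finite field of even order q ≥ 4, f the standard alternating form on F^4 (coordinates Fin 2 ⊕ Fin 2) and Sp_4(F) its isometry group inside GL_4(F). Each of the following, intersected with Sp_4(F), is a maximal subgroup of Sp_4(F): (1) the stabiliser of any non-zero totally isotropic subspace (totally isotropic 1-spaces and 2-spaces); (2) the stabiliser of any decomposition of F^4 into two mutually orthogonal non-degenerate 2-spaces; (3) the normaliser of any degree-2 subfield K of the matrix algebra whose elements are self-adjoint for f with f(k v, v) = 0 for all k in K and all v; (4) every subfield group for a subfield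 F₀ with |F| = |F₀|^r, r prime, whose F₀-structure carries a non-zero scalar multiple of f; (5) the similarity group of any non-degenerate quadratic form whose polar form is f (either Witt type); its intersection with Sp_4(F) is the orthogonal group of that form. -/
theorem result {F : Type*} [Field F] [Fintype F] (heven : ¬ Odd (Fintype.card F)) (h4 : 4 ≤ Fintype.card F) :
    (∀ W : Submodule F (Fin 2 ⊕ Fin 2 → F), W ≠ ⊥ → Cfsg.Geo.IsTotallySingularFor (Cfsg.sympForm 2 F) W → Cfsg.Geo.IsMaximalIn (Cfsg.spGL 2 F) (Cfsg.Geo.subspaceStabilizer W ⊓ Cfsg.spGL 2 F)) ∧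
    (∀ D : Fin 2 → Submodule F (Fin 2 ⊕ Fin 2 → F), Cfsg.Geo.IsNondegenerateMDecomposition (Cfsg.sympForm 2 F) 2 D → Cfsg.Geo.IsMaximalIn (Cfsg.spGL 2 F) (Cfsg.Geo.decompositionStabilizer D ⊓ Cfsg.spGL 2 F)) ∧
    (∀ K : Subalgebra F (Matrix (Fin 2 ⊕ Fin 2) (Fin 2 ⊕ Fin 2) F), Cfsg.Geo.IsFieldSubalgebra 2 K → Cfsg.Geo.IsSelfAdjointFor (Cfsg.sympForm 2 F) K → (∀ k ∈ K, ∀ v : (Fin 2 ⊕ Fin 2 → F), (Cfsg.sympForm 2 F) (Matrix.mulVec k v) v = 0) → Cfsg.Geo.IsMaximalIn (Cfsg.spGL 2 F) (Cfsg.Geo.subalgebraNormalizer K ⊓ Cfsg.spGL 2 F)) ∧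
    (∀ (F₀ : Subfield F) (r : ℕ) (P : Matrix.GeneralLinearGroup (Fin 2 ⊕ Fin 2) F) (ζ : F), r.Prime → Fintype.card F = Nat.card F₀ ^ r → ζ ≠ 0 → Cfsg.Geo.IsFormRationalStructure (Cfsg.sympForm 2 F) F₀ ζ P → Cfsg.Geo.IsMaximalIn (Cfsg.spGL 2 F) (Cfsg.Geo.subfieldSubgroup F₀ P ⊓ Cfsg.spGL 2 F)) ∧
    (∀ Q : (Fin 2 ⊕ Fin 2 → F) → F, Cfsg.Geo.IsNondegenerateQuadraticForm Q → (∀ u v : (Fin 2 ⊕ Fin 2 → F), QuadraticMap.polar Q u v = (Cfsg.sympForm 2 F) u v) → Cfsg.Geo.IsMaximalIn (Cfsg.spGL 2 F) (Cfsg.Geo.quadSimilarityGroup Q ⊓ Cfsg.spGL 2 F)) := by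
  classical
  have hf := sympForm_isSymplecticForm (F := F) 2
  have h2 : (2 : F) = 0 := by
    haveI := Fact.mk Nat.prime_two
    have hc : ringChar F = 2 := by
      by_contra hc
      exact heven (Nat.odd_iff.2 (FiniteField.odd_card_of_char_ne_two hc))
    haveI := ringChar.of_eq hc
    exact_mod_cast CharP.cast_eq_zero F 2
  refine ⟨fun W hW0 hW => SympSingularMax97.isMaximalIn_stab 2 le_rfl W hW0 hW,
    fun D hD => SympDecompMax97.isMaximalIn_stab 2 le_rfl 2 D hD (fun h => by omega),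
    fun K hK hsa halt => ?_, fun F₀ r P ζ hr hcard hζ hP => ?_,
    fun Q hQ hpol => SympQuadMax97.isMaximalIn_stab 2 le_rfl heven Q hQ hpol⟩
  · refine ⟨lt_of_le_of_ne inf_le_right fun he => not_le_normalizer K hK halt (he ▸ inf_le_left),
      fun M h1 h2' => ?_⟩
    by_cases h : M ≤ Cfsg.Geo.subalgebraNormalizer K
    · exact Or.inl (le_antisymm (le_inf h h2') h1)
    exact Or.inr (le_antisymm h2' (spGL_le 2 (Sp4ExtField97.all_transvections hf (by simp) (by omega) K hK hsa halt M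
      (fun g hg hN => h1 ⟨hN, hg⟩) (fun g hg => h2' hg) h)))
  · refine ⟨lt_of_le_of_ne inf_le_right fun he => not_le_subfield F₀ hr hcard P ζ hζ hP (he ▸ inf_le_left),
      fun M h1 h2' => ?_⟩
    by_cases h : M ≤ Cfsg.Geo.subfieldSubgroup F₀ P
    · exact Or.inl (le_antisymm (le_inf h h2') h1)
    refine Or.inr (le_antisymm h2' (spGL_le 2 fun u c => ?_))
    have hall := SubfieldSympTwo97.all_transvections h2 (by simp) F₀ r hr hcard P ζ hζ _ hf hP M
      (fun v c => h1 ⟨rat_mem hζ hf hP v c, by rw [st_zeta hζ hf]; exact st_mem_spGL 2 _ _⟩) (fun g hg => h2' hg) h u (c / ζ)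
    rwa [st_zeta hζ hf, div_mul_cancel₀ _ hζ] at hall

end Cfsg.Agent.S5789
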