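import Cfsg.Statements.S5799
import Mathlib
import Cfsg.Agent.Lib.AschGenCases


set_option autoImplicit false
open Cfsg

namespace Cfsg.Agent.S5799



/-- Every maximal subgroup of SL_6(q) is of one of the listed geometric types or lies in the residual class. Let F be a finite field with q elements (p its characteristic) and H a maximal subgroup of SL_6(F) (inside GL_6(F)). Then H is the intersection with SL_6(F) of one of: the stabiliser of a proper non-zero subspace; for q ≥ 5, the stabiliser of a decomposition into 6 independent 1-spaces; for q ≥ 3, the stabiliser of a decomposition into 3 independent 2-spaces; the stabiliser of a decomposition into 2 independent 3-spaces; the normaliser of a degree-2 subfield of the matrix algebra; the normaliser of a degree-3 subfield of the matrix algebra; for q ≥ 3, the stabiliser of a tensor decomposition F^2 ⊗ F^3; a subfield group for a subfield F₀ with |F| = |F₀|^r, r prime; for q odd, the similarity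 group of a non-degenerate quadratic form; the similarity group of a non-degenerate symplectic form; the similarity group of a non-degenerate unitary form — or else H lies in the residual class of the linear case (modulo scalars H is almost simple, with absolutely irreducible perfect socle preimage realisable over no proper subfield and fixing no non-degenerate quadratic, symplectic or unitary form). -/
theorem result {F : Type*} [Field F] [Fintype F] (H : Subgroup (Matrix.GeneralLinearGroup (Fin 6) F)) (hH : Cfsg.Geo.IsMaximalIn (Cfsg.Geo.specialLinear (Fin 6) F) H) :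
    (∃ W : Submodule F (Fin 6 → F), W ≠ ⊥ ∧ W ≠ ⊤ ∧ H = Cfsg.Geo.subspaceStabilizer W ⊓ Cfsg.Geo.specialLinear (Fin 6) F) ∨
    (5 ≤ Fintype.card F ∧ ∃ D : Fin 6 → Submodule F (Fin 6 → F), Cfsg.Geo.IsMDecomposition 1 D ∧ H = Cfsg.Geo.decompositionStabilizer D ⊓ Cfsg.Geo.specialLinear (Fin 6) F) ∨
    (3 ≤ Fintype.card F ∧ ∃ D : Fin 3 → Submodule F (Fin 6 → F), Cfsg.Geo.IsMDecomposition 2 D ∧ H = Cfsg.Geo.decompositionStabilizer D ⊓ Cfsg.Geo.specialLinear (Fin 6) F) ∨
    (∃ D : Fin 2 → Submodule F (Fin 6 → F), Cfsg.Geo.IsMDecomposition 3 D ∧ H = Cfsg.Geo.decompositionStabilizer D ⊓ Cfsg.Geo.specialLinear (Fin 6) F) ∨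
    (∃ K : Subalgebra F (Matrix (Fin 6) (Fin 6) F), Cfsg.Geo.IsFieldSubalgebra 2 K ∧ H = Cfsg.Geo.subalgebraNormalizer K ⊓ Cfsg.Geo.specialLinear (Fin 6) F) ∨
    (∃ K : Subalgebra F (Matrix (Fin 6) (Fin 6) F), Cfsg.Geo.IsFieldSubalgebra 3 K ∧ H = Cfsg.Geo.subalgebraNormalizer K ⊓ Cfsg.Geo.specialLinear (Fin 6) F) ∨
    (3 ≤ Fintype.card F ∧ ∃ (e : Fin 6 ≃ Fin 2 × Fin 3) (P : Matrix.GeneralLinearGroup (Fin 6) F), H = Cfsg.Geo.tensorProductSubgroup 2 3 e P ⊓ Cfsg.Geo.specialLinear (Fin 6) F) ∨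
    (∃ (F₀ : Subfield F) (r : ℕ) (P : Matrix.GeneralLinearGroup (Fin 6) F), r.Prime ∧ Fintype.card F = Nat.card F₀ ^ r ∧ H = Cfsg.Geo.subfieldSubgroup F₀ P ⊓ Cfsg.Geo.specialLinear (Fin 6) F) ∨
    (Odd (Fintype.card F) ∧ ∃ Q : (Fin 6 → F) → F, Cfsg.Geo.IsNondegenerateQuadraticForm Q ∧ H = Cfsg.Geo.quadSimilarityGroup Q ⊓ Cfsg.Geo.specialLinear (Fin 6) F) ∨
    (∃ f : (Fin 6 → F) → (Fin 6 → F) → F, Cfsg.Geo.IsSymplecticForm f ∧ H = Cfsg.Geo.similarityGroup f ⊓ Cfsg.Geo.specialLinear (Fin 6) F) ∨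
    (∃ (σ : F ≃+* F) (f : (Fin 6 → F) → (Fin 6 → F) → F), Cfsg.Geo.IsUnitaryForm σ f ∧ H = Cfsg.Geo.similarityGroup f ⊓ Cfsg.Geo.specialLinear (Fin 6) F) ∨
    Cfsg.Geo.InLinearResidualClass H := by
  classical
  rcases Cfsg.Agent.AschGenCases.maximal_cases (by simp) hH with h | h
  swap
  · exact (Or.inr (Or.inr (Or.inr (Or.inr (Or.inr (Or.inr (Or.inr (Or.inr (Or.inr (Or.inr (Or.inr h)))))))))))
  cases h with
  | sub W hb ht eq => exact (Or.inl ⟨W, hb, ht, eq⟩)
  | decomp t m D hD hn h1 h2 h22 eq =>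
    rw [Fintype.card_fin] at hn
    have h2t := hD.two_le
    have ht : t ≤ 6 := Nat.le_of_dvd (by omega) ⟨m, hn⟩
    interval_cases t
    · obtain rfl : m = 3 := by omega
      exact (Or.inr (Or.inr (Or.inr (Or.inl ⟨D, hD, eq⟩))))
    · obtain rfl : m = 2 := by omega
      exact (Or.inr (Or.inr (Or.inl ⟨h2 rfl, D, hD, eq⟩)))
    · omega
    · omega
    · obtain rfl : m = 1 := by omega
      exact (Or.inr (Or.inl ⟨h1 rfl, D, hD, eq⟩))
  | field r K hr hK dvd eq =>
    rw [Fintype.card_fin] at dvd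
    have hrn : r ≤ 6 := Nat.le_of_dvd (by omega) dvd
    have := hr.two_le
    interval_cases r
    · exact (Or.inr (Or.inr (Or.inr (Or.inr (Or.inl ⟨K, hK, eq⟩)))))
    · exact (Or.inr (Or.inr (Or.inr (Or.inr (Or.inr (Or.inl ⟨K, hK, eq⟩))))))
    · omega
    · omega
    · norm_num at hr
  | tensor n₁ n₂ e P h1 h12 hn hq eq =>
    rw [Fintype.card_fin] at hn
    have h1' : n₁ * n₁ < 6 := hn ▸ Nat.mul_lt_mul_of_pos_left h12 (by omega)
    have h1'' : n₁ < 3 := by nlinarith
    interval_cases n₁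
    · obtain rfl : n₂ = 3 := by omega
      exact (Or.inr (Or.inr (Or.inr (Or.inr (Or.inr (Or.inr (Or.inl ⟨hq rfl, e, P, eq⟩)))))))
  | subfield F₀ r P hr hc eq => exact (Or.inr (Or.inr (Or.inr (Or.inr (Or.inr (Or.inr (Or.inr (Or.inl ⟨F₀, r, P, hr, hc, eq⟩))))))))
  | extra p e r m R hp hchar hF hr hn hmin hR eq =>
    rw [Fintype.card_fin] at hn
    exact (Cfsg.Agent.AschGenCases.not_pow hr hn Nat.prime_two (by norm_num : Nat.Prime 3) (by norm_num) (by norm_num) (by norm_num)).elim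
  | wreath m t e P hm ht hn eq =>
    rw [Fintype.card_fin] at hn
    have hm2 : m ^ 2 ≤ 6 := hn ▸ Nat.pow_le_pow_right (by omega) ht
    nlinarith
  | symp f hf heven eq => exact (Or.inr (Or.inr (Or.inr (Or.inr (Or.inr (Or.inr (Or.inr (Or.inr (Or.inr (Or.inl ⟨f, hf, eq⟩))))))))))
  | unit σ f hf eq => exact (Or.inr (Or.inr (Or.inr (Or.inr (Or.inr (Or.inr (Or.inr (Or.inr (Or.inr (Or.inr (Or.inl ⟨σ, f, hf, eq⟩)))))))))))
  | quad Q hodd hQ eq => exact (Or.inr (Or.inr (Or.inr (Or.inr (Or.inr (Or.inr (Or.inr (Or.inr (Or.inl ⟨hodd, Q, hQ, eq⟩)))))))))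

end Cfsg.Agent.S5799
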