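import Cfsg.Statements.S5813
import Cfsg.Agent.Lib.OmegaMaxGlue
import Cfsg.Agent.Lib.OmegaStd
import Cfsg.Agent.Lib.OmegaStabSingular
import Cfsg.Agent.Lib.OmegaNondegMax11
import Cfsg.Agent.Lib.OrthSubfieldMax44
import Cfsg.Agent.Lib.Frame10Glue

set_option autoImplicit false
open Cfsg

namespace Cfsg.Agent.S5813

open Cfsg.Agent.OrthUnitaryQuad Cfsg.Agent.OrthUnitaryPrelude Cfsg.Agent.OmegaClasses Cfsg.Agent.OmegaGeo Cfsg.Agent.OmegaMaxGlue

/-- Maximal subgroups of Ω_7(q) of geometric type, q odd. Let F be a finite field of odd order q, Q the standard quadratic form x₀² + Σ x_i y_i on F^7 (coordinates Unit ⊕ (Fin 3 ⊕ Fin 3)), and Ω = Ω_7(q) the commutator subgroup of its isometry group, inside GL_7(F). Each of the following, intersected with Ω, is a maximal subgroup of Ω: (1) the stabiliser of any non-zero subspace on which Q vanishes identically (totally singular 1-, 2- and 3-spaces); (2) the stabiliser of any non-zero even-dimensional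 subspace W on which the polar form of Q is non-degenerate (equivalently of its odd-dimensional orthogonal complement), except when q = 3 and W is a 2-space containing a non-zero singular vector (a plus-type plane); (3) for q = p prime, the stabiliser of any decomposition of F^7 into seven pairwise orthogonal, pairwise Q-isometric non-degenerate 1-spaces; (4) every subfield group for a subfield F₀ with |F| = |F₀|^r, r prime, whose F₀-structure carries Q. -/
theorem result {F : Type*} [Field F] [Fintype F] (hodd : Odd (Fintype.card F)) :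
    (∀ W : Submodule F (Unit ⊕ (Fin 3 ⊕ Fin 3) → F), W ≠ ⊥ → Cfsg.Geo.IsTotallySingularQuad (Cfsg.quadFormOdd 3 F) W → Cfsg.Geo.IsMaximalIn (Cfsg.Geo.omegaGL (Cfsg.quadFormOdd 3 F)) (Cfsg.Geo.subspaceStabilizer W ⊓ Cfsg.Geo.omegaGL (Cfsg.quadFormOdd 3 F))) ∧
    (∀ W : Submodule F (Unit ⊕ (Fin 3 ⊕ Fin 3) → F), W ≠ ⊥ → Even (Module.finrank F W) → Cfsg.Geo.IsNondegenerateOn (QuadraticMap.polar (Cfsg.quadFormOdd 3 F)) W → ¬ (Fintype.card F = 3 ∧ Module.finrank F W = 2 ∧ Cfsg.Geo.IsPlusTypeOn (Cfsg.quadFormOdd 3 F) W) → Cfsg.Geo.IsMaximalIn (Cfsg.Geo.omegaGL (Cfsg.quadFormOdd 3 F)) (Cfsg.Geo.subspaceStabilizer W ⊓ Cfsg.Geo.omegaGL (Cfsg.quadFormOdd 3 F))) ∧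
    ((Fintype.card F).Prime → ∀ D : Fin 7 → Submodule F (Unit ⊕ (Fin 3 ⊕ Fin 3) → F), Cfsg.Geo.IsOrthogonalMDecomposition (Cfsg.quadFormOdd 3 F) 1 D → Cfsg.Geo.IsMaximalIn (Cfsg.Geo.omegaGL (Cfsg.quadFormOdd 3 F)) (Cfsg.Geo.decompositionStabilizer D ⊓ Cfsg.Geo.omegaGL (Cfsg.quadFormOdd 3 F))) ∧
    (∀ (F₀ : Subfield F) (r : ℕ) (P : Matrix.GeneralLinearGroup (Unit ⊕ (Fin 3 ⊕ Fin 3)) F), r.Prime → Fintype.card F = Nat.card F₀ ^ r → Cfsg.Geo.IsQuadFormRationalStructure (Cfsg.quadFormOdd 3 F) F₀ P → Cfsg.Geo.IsMaximalIn (Cfsg.Geo.omegaGL (Cfsg.quadFormOdd 3 F)) (Cfsg.Geo.subfieldSubgroup F₀ P ⊓ Cfsg.Geo.omegaGL (Cfsg.quadFormOdd 3 F))) := by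
  classical
  have h2 : (2 : F) ≠ 0 := OmegaStd.two_ne_zero rfl hodd
  obtain ⟨q, hq, hnd⟩ : ∃ q : QuadraticForm F (Unit ⊕ (Fin 3 ⊕ Fin 3) → F),
      ⇑q = Cfsg.quadFormOdd 3 F ∧ (QuadraticMap.polarBilin q).Nondegenerate :=
    ⟨QuadClassify.qOdd 3 F, QuadClassify.qOdd_coe 3, nondeg_odd h2⟩
  have hd : Module.finrank F (Unit ⊕ (Fin 3 ⊕ Fin 3) → F) = 7 := by simp
  have h1 := Fintype.one_lt_card (α := F)
  rw [← hq]
  refine ⟨fun W hW0 hW => ?_, fun W hW0 hev hW hex => ?_, fun hp D hD => ?_,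
    fun F₀ r P hr hcard hP => ?_⟩
  · exact isMaximalIn_stabilizer (OmegaStabSingular.exists_move hnd (by omega) hW0 hW)
      fun M hM g hg _ hgW => OmegaStabSingular.commutator_le hnd (by omega) hW
        (fun _ _ => by omega) M hM hg hgW
  · refine OmegaNondegMax11.isMaximalIn hnd hW hW0 (fun h => ?_) (by omega) (fun _ => h2)
      (fun _ h => by omega) (fun h _ _ => by omega) ?_
    · rw [h, finrank_top, hd] at hev
      exact absurd hev (by decide)
    · rintro ⟨hq3, U, hU2, -, hplus, rfl | ⟨-, hsum⟩⟩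
      · refine hex ⟨?_, hU2, hplus⟩
        obtain ⟨r, hr⟩ := hodd
        omega
      · obtain ⟨r, hr⟩ := hev
        omega
  · exact Frame10.isMaximalIn_small hnd hp hodd (by simp) (by simp) hD
  · exact OrthSubfieldMax44.isMaximalIn q hnd (by simp) F₀ r hr hcard P hP

end Cfsg.Agent.S5813
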