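import Cfsg.Statements.S5825
import Cfsg.Agent.Lib.OmegaMaxGlue
import Cfsg.Agent.Lib.OmegaStabSingular
import Cfsg.Agent.Lib.OmegaStabNonsingular
import Cfsg.Agent.Lib.OmegaNondegMax11
import Cfsg.Agent.Lib.OmegaStabNondegGlue
import Cfsg.Agent.Lib.ExtFieldOrthGlue
import Cfsg.Agent.Lib.OrthSubfieldMax44

set_option autoImplicit false
open Cfsg

namespace Cfsg.Agent.S5825

open Cfsg.Agent.OrthUnitaryQuad Cfsg.Agent.OrthUnitaryPrelude Cfsg.Agent.OmegaClasses Cfsg.Agent.OmegaGeo Cfsg.Agent.OmegaMaxGlue Cfsg.Agent.OmegaStabNondeg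

/-- Maximal subgroups of Ω_8^-(q) of geometric type (any q). Let F be a finite field with q elements, Q a non-degenerate quadratic form on F^8 (non-degenerate polar form) of minus type (Witt index 3: no totally singular 4-space), and Ω = Ω_8^-(q) the commutator subgroup of the isometry group of Q, inside GL_8(F). Each of the following, intersected with Ω, is a maximal subgroup of Ω: (1) the stabiliser of any non-zero subspace on which Q vanishes identically (totally singular 1-, 2- and 3-spaces); (2) for q odd, the stabiliser of any proper subspace of odd dimension (1, 3, 5 or 7) on which the polar form of Q is non-degenerate; (3) the stabiliser of any non-degenerate 2-space of minus type (containing no non-zero singular vector); (4) for q ≥ 4, the stabiliser of any non-degenerate 2-space of plus type (containing a non-zero singular vector); (5) the stabiliser of any non-degenerate 4-space (its orthogonal complement is then a non-degenerate 4-space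 of the opposite type); (6) for q even, the stabiliser of the 1-space spanned by any non-singular vector v (Q(v) ≠ 0); (7) for q odd, the normaliser of any degree-2 subfield K of the matrix algebra whose elements are self-adjoint for the polar form of Q (Q is then the trace of a quadratic form over K); (8) every subfield group for a subfield F₀ of odd prime index r in F whose F₀-structure carries a non-zero scalar multiple of Q. -/
theorem result {F : Type*} [Field F] [Fintype F] (Q : (Fin 8 → F) → F) (hQ : Cfsg.Geo.IsNondegenerateQuadraticForm Q) (hminus : ¬ Cfsg.Geo.IsPlusTypeOn Q ⊤) :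
    (∀ W : Submodule F (Fin 8 → F), W ≠ ⊥ → Cfsg.Geo.IsTotallySingularQuad Q W → Cfsg.Geo.IsMaximalIn (Cfsg.Geo.omegaGL Q) (Cfsg.Geo.subspaceStabilizer W ⊓ Cfsg.Geo.omegaGL Q)) ∧
    (Odd (Fintype.card F) → ∀ W : Submodule F (Fin 8 → F), W ≠ ⊥ → W ≠ ⊤ → Odd (Module.finrank F W) → Cfsg.Geo.IsNondegenerateOn (QuadraticMap.polar Q) W → Cfsg.Geo.IsMaximalIn (Cfsg.Geo.omegaGL Q) (Cfsg.Geo.subspaceStabilizer W ⊓ Cfsg.Geo.omegaGL Q)) ∧
    (∀ W : Submodule F (Fin 8 → F), Module.finrank F W = 2 → Cfsg.Geo.IsNondegenerateOn (QuadraticMap.polar Q) W → ¬ Cfsg.Geo.IsPlusTypeOn Q W → Cfsg.Geo.IsMaximalIn (Cfsg.Geo.omegaGL Q) (Cfsg.Geo.subspaceStabilizer W ⊓ Cfsg.Geo.omegaGL Q)) ∧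
    (4 ≤ Fintype.card F → ∀ W : Submodule F (Fin 8 → F), Module.finrank F W = 2 → Cfsg.Geo.IsNondegenerateOn (QuadraticMap.polar Q) W → Cfsg.Geo.IsPlusTypeOn Q W → Cfsg.Geo.IsMaximalIn (Cfsg.Geo.omegaGL Q) (Cfsg.Geo.subspaceStabilizer W ⊓ Cfsg.Geo.omegaGL Q)) ∧
    (∀ W : Submodule F (Fin 8 → F), Module.finrank F W = 4 → Cfsg.Geo.IsNondegenerateOn (QuadraticMap.polar Q) W → Cfsg.Geo.IsMaximalIn (Cfsg.Geo.omegaGL Q) (Cfsg.Geo.subspaceStabilizer W ⊓ Cfsg.Geo.omegaGL Q)) ∧
    (¬ Odd (Fintype.card F) → ∀ v : (Fin 8 → F), Q v ≠ 0 → Cfsg.Geo.IsMaximalIn (Cfsg.Geo.omegaGL Q) (Cfsg.Geo.subspaceStabilizer (Submodule.span F {v}) ⊓ Cfsg.Geo.omegaGL Q)) ∧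
    (Odd (Fintype.card F) → ∀ K : Subalgebra F (Matrix (Fin 8) (Fin 8) F), Cfsg.Geo.IsFieldSubalgebra 2 K → Cfsg.Geo.IsSelfAdjointFor (QuadraticMap.polar Q) K → Cfsg.Geo.IsMaximalIn (Cfsg.Geo.omegaGL Q) (Cfsg.Geo.subalgebraNormalizer K ⊓ Cfsg.Geo.omegaGL Q)) ∧
    (∀ (F₀ : Subfield F) (r : ℕ) (P : Matrix.GeneralLinearGroup (Fin 8) F) (ζ : F), r.Prime → Odd r → Fintype.card F = Nat.card F₀ ^ r → ζ ≠ 0 → Cfsg.Geo.IsQuadFormRationalStructure (fun v : Fin 8 → F => ζ * Q v) F₀ P → Cfsg.Geo.IsMaximalIn (Cfsg.Geo.omegaGL Q) (Cfsg.Geo.subfieldSubgroup F₀ P ⊓ Cfsg.Geo.omegaGL Q)) := by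
  classical
  obtain ⟨q, rfl, hnd⟩ := exists_quad hQ
  have hd : Module.finrank F (Fin 8 → F) = 8 := by simp
  have hL : ∀ U : Submodule F (Fin 8 → F), ¬ Lagr q U := fun U hU =>
    hminus ⟨U, le_top, hU.1, by rw [finrank_top]; exact hU.2⟩
  have hnond : ∀ W : Submodule F (Fin 8 → F), Cfsg.Geo.IsNondegenerateOn (QuadraticMap.polar ⇑q) W →
      W ≠ ⊥ → W ≠ ⊤ →
      (2 * Module.finrank F W = 8 → Even (Module.finrank F W)) →
      ¬ (Fintype.card F ≤ 3 ∧ ∃ U : Submodule F (Fin 8 → F), Module.finrank F U = 2 ∧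
        Cfsg.Geo.IsPlusTypeOn (⇑q) U ∧ (U = W ∨ Module.finrank F U + Module.finrank F W = 8)) →
      Cfsg.Geo.IsMaximalIn (Cfsg.Geo.omegaGL ⇑q)
        (Cfsg.Geo.subspaceStabilizer W ⊓ Cfsg.Geo.omegaGL ⇑q) := fun W hW hW0 hW1 hev hex => by
    refine OmegaNondegMax11.isMaximalIn hnd hW hW0 hW1 (by omega) (fun h => by omega)
      (fun _ _ => hL) (fun h g hg => ?_) ?_
    · rw [hd] at h
      obtain ⟨m, hm⟩ := hev h
      obtain ⟨U, hU⟩ := OmegaStabNondegGlue.exists_lagr_of_isometric hnd (S := W) (fun u hu hz => by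
        by_contra h0
        obtain ⟨x, hx, hne⟩ := (hW u hu h0).2
        exact hne (hz x hx)) (m := m) (by omega) (by omega) g hg
      exact hL U hU
    · rintro ⟨hq, U, hU2, -, hUp, hU⟩
      rw [hd] at hU
      exact hex ⟨hq, U, hU2, hUp, hU.imp id And.right⟩
  have hne : ∀ W : Submodule F (Fin 8 → F), 0 < Module.finrank F W → Module.finrank F W < 8 →
      W ≠ ⊥ ∧ W ≠ ⊤ := fun W h0 h8 => by
    refine ⟨fun h => ?_, fun h => ?_⟩ <;> subst h
    · simp at h0
    · rw [finrank_top, hd] at h8; omega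
  refine ⟨fun W hW0 hW => ?_, fun hodd W hW0 hW1 hWo hW => ?_, fun W hW2 hW hWm => ?_,
    fun h4 W hW2 hW hWp => ?_, fun W hW4 hW => ?_, fun hchar v hv => ?_, fun hodd K hK hsa => ?_,
    fun F₀ r P ζ hr hro hcard hζ hP => ?_⟩
  · exact isMaximalIn_stabilizer (OmegaStabSingular.exists_move hnd (by omega) hW0 hW)
      fun M hM g hg _ hgW => OmegaStabSingular.commutator_le hnd (by omega) hW
        (fun U hU _ => hL U hU) M hM hg hgW
  · refine hnond W hW hW0 hW1 (fun h => ?_) ?_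
    · obtain ⟨k, hk⟩ := hWo; omega
    · rintro ⟨-, U, hU2, -, rfl | hU⟩ <;> obtain ⟨k, hk⟩ := hWo <;> omega
  · obtain ⟨h0, h1⟩ := hne W (by omega) (by omega)
    refine hnond W hW h0 h1 (fun h => by omega) ?_
    rintro ⟨-, U, hU2, hUp, rfl | hU⟩
    · exact hWm hUp
    · omega
  · obtain ⟨h0, h1⟩ := hne W (by omega) (by omega)
    exact hnond W hW h0 h1 (fun h => by omega) (fun h => by omega)
  · obtain ⟨h0, h1⟩ := hne W (by omega) (by omega)
    refine hnond W hW h0 h1 (fun _ => ⟨2, by omega⟩) ?_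
    rintro ⟨-, U, hU2, -, rfl | hU⟩ <;> omega
  · exact isMaximalIn_stabilizer (OmegaStabNonsingular.exists_move hnd (by omega) hv)
      fun M hM g hg _ hgW => OmegaStabNonsingular.commutator_le hnd (by omega) hv M hM hg hgW
  · have h2 : (2 : F) ≠ 0 := Ring.two_ne_zero fun h => Nat.not_even_iff_odd.2 hodd
      (FiniteField.even_card_of_char_two h |> Nat.even_iff.2)
    exact ExtFieldOrthGlue.isMaximalIn' q hnd h2 Nat.prime_two K hK hsa (by simp)
      (fun _ => Or.inr hL)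
  · rw [← OrthSubfieldMax44.omegaGL_smul hζ ⇑q]
    have hnd' : (QuadraticMap.polarBilin (ζ • q)).Nondegenerate := by
      have h : ∀ v w, QuadraticMap.polar (⇑(ζ • q)) v w = ζ * QuadraticMap.polar (⇑q) v w := fun v w => by
        simp only [QuadraticMap.polar, QuadraticMap.smul_apply, smul_eq_mul]; ring
      exact ⟨fun v hv => hnd.1 v fun w => (mul_eq_zero.1 ((h v w).symm.trans (hv w))).resolve_left hζ,
        fun v hv => hnd.2 v fun w => (mul_eq_zero.1 ((h w v).symm.trans (hv w))).resolve_left hζ⟩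
    exact OrthSubfieldMax44.isMaximalIn (ζ • q) hnd' (by simp) F₀ r hr hcard P hP

end Cfsg.Agent.S5825
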