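import Cfsg.Statements.S5826
import Cfsg.Agent.Lib.AschEvenCases44

set_option autoImplicit false
open Cfsg QuadraticMap Module Cfsg.Geo Cfsg.Agent

namespace Cfsg.Agent.S5826

/-- Every maximal subgroup of Ω_8^-(q) is of one of the listed geometric types or lies in the residual class. Let F be a finite field with q elements, Q a non-degenerate quadratic form on F^8 of minus type (no totally singular 4-space), Ω the commutator subgroup of its isometry group, and H a maximal subgroup of Ω (inside GL_8(F)). Then H is the intersection with Ω of one of: the stabiliser of a non-zero totally singular subspace; for q odd, the stabiliser of a non-degenerate subspace of odd dimension; the stabiliser of a non-degenerate 2-space of minus type; for q ≥ 4, the stabiliser of a non-degenerate 2-space of plus type; the stabiliser of a non-degenerate 4-space; for q even, the stabiliser of the span of a non-singular vector; the normaliser of a degree-2 subfield of the matrix algebra;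 a subfield group of odd prime index whose F₀-structure carries a non-zero multiple of Q — or else H lies in the residual class of the orthogonal case (modulo scalars H is almost simple, with absolutely irreducible perfect socle preimage realisable over no proper subfield and fixing no non-degenerate unitary form). -/
theorem result {F : Type*} [Field F] [Fintype F] (Q : (Fin 8 → F) → F) (hQ : Cfsg.Geo.IsNondegenerateQuadraticForm Q) (hminus : ¬ Cfsg.Geo.IsPlusTypeOn Q ⊤) (H : Subgroup (Matrix.GeneralLinearGroup (Fin 8) F)) (hH : Cfsg.Geo.IsMaximalIn (Cfsg.Geo.omegaGL Q) H) :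
    (∃ W : Submodule F (Fin 8 → F), W ≠ ⊥ ∧ Cfsg.Geo.IsTotallySingularQuad Q W ∧ H = Cfsg.Geo.subspaceStabilizer W ⊓ Cfsg.Geo.omegaGL Q) ∨
    (Odd (Fintype.card F) ∧ ∃ W : Submodule F (Fin 8 → F), W ≠ ⊥ ∧ W ≠ ⊤ ∧ Odd (Module.finrank F W) ∧ Cfsg.Geo.IsNondegenerateOn (QuadraticMap.polar Q) W ∧ H = Cfsg.Geo.subspaceStabilizer W ⊓ Cfsg.Geo.omegaGL Q) ∨
    (∃ W : Submodule F (Fin 8 → F), Module.finrank F W = 2 ∧ Cfsg.Geo.IsNondegenerateOn (QuadraticMap.polar Q) W ∧ ¬ Cfsg.Geo.IsPlusTypeOn Q W ∧ H = Cfsg.Geo.subspaceStabilizer W ⊓ Cfsg.Geo.omegaGL Q) ∨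
    (4 ≤ Fintype.card F ∧ ∃ W : Submodule F (Fin 8 → F), Module.finrank F W = 2 ∧ Cfsg.Geo.IsNondegenerateOn (QuadraticMap.polar Q) W ∧ Cfsg.Geo.IsPlusTypeOn Q W ∧ H = Cfsg.Geo.subspaceStabilizer W ⊓ Cfsg.Geo.omegaGL Q) ∨
    (∃ W : Submodule F (Fin 8 → F), Module.finrank F W = 4 ∧ Cfsg.Geo.IsNondegenerateOn (QuadraticMap.polar Q) W ∧ H = Cfsg.Geo.subspaceStabilizer W ⊓ Cfsg.Geo.omegaGL Q) ∨
    (¬ Odd (Fintype.card F) ∧ ∃ v : (Fin 8 → F), Q v ≠ 0 ∧ H = Cfsg.Geo.subspaceStabilizer (Submodule.span F {v}) ⊓ Cfsg.Geo.omegaGL Q) ∨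
    (∃ K : Subalgebra F (Matrix (Fin 8) (Fin 8) F), Cfsg.Geo.IsFieldSubalgebra 2 K ∧ H = Cfsg.Geo.subalgebraNormalizer K ⊓ Cfsg.Geo.omegaGL Q) ∨
    (∃ (F₀ : Subfield F) (r : ℕ) (P : Matrix.GeneralLinearGroup (Fin 8) F) (ζ : F), r.Prime ∧ Odd r ∧ Fintype.card F = Nat.card F₀ ^ r ∧ ζ ≠ 0 ∧ Cfsg.Geo.IsQuadFormRationalStructure (fun v : Fin 8 → F => ζ * Q v) F₀ P ∧ H = Cfsg.Geo.subfieldSubgroup F₀ P ⊓ Cfsg.Geo.omegaGL Q) ∨
    Cfsg.Geo.InOrthogonalResidualClass H := by
  obtain ⟨q, rfl, hnd⟩ := OmegaGeo.exists_quad hQ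
  have hsub : H ≤ omegaGL ⇑q := hH.1.le
  by_cases hirr : AschPrimeBasic.Irred H
  · rcases AschEvenCases44.main_cases (m := 4) rfl (Or.inl rfl) (fun _ => hminus) hnd hsub hirr with
      ⟨t, k, D, hD, hle⟩ | ⟨k, D, hk, hD, hts, hle⟩ | ⟨r, K, hr, hK, -, -, hrn, hle⟩ |
      ⟨k, l, e, P, G₁, G₂, a, b, hkl, hn, hcs, hd⟩ | h | h
    · exfalso
      have hn := AschEvenCases44.decomp_count hD.decomp.decomp
      have ht := hD.decomp.decomp.two_le
      have hk0 := hD.decomp.decomp.pos
      have hk4 : k ≤ 4 := by nlinarith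
      interval_cases k
      · obtain rfl : t = 8 := by omega
        obtain ⟨v, ε, hfr⟩ := AschEvenFrame44.frame_of_lines hirr
          (fun g hg x => AschEvenBase44.omega_quad (hsub hg) x) hD.decomp hle
        exact hminus ((AschEvenFrame44.frame_type hnd hfr (m := 4) rfl (by norm_num)).2.2 (by decide))
      · obtain rfl : t = 4 := by omega
        exact hminus ((AschEvenType44.plus_iff_members (j := 1) hnd hD ⟨0, by norm_num⟩).2 (Or.inr (by decide)))
      · omega
      · obtain rfl : t = 2 := by omega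
        exact hminus ((AschEvenType44.plus_iff_members (j := 2) hnd hD ⟨0, by norm_num⟩).2 (Or.inr (by decide)))
    · exact (hminus ⟨D 0, le_top, hts 0, by rw [hD.finrank_eq, finrank_top, Module.finrank_pi, Fintype.card_fin, hk]⟩).elim
    · obtain rfl : r = 2 := (Nat.prime_dvd_prime_iff_eq hr Nat.prime_two).1 (hr.dvd_of_dvd_pow (n := 3) hrn)
      exact Or.inr (Or.inr (Or.inr (Or.inr (Or.inr (Or.inr (Or.inl
        ⟨K, hK, AschEvenCases44.field_member (by norm_num) hnd hH le_rfl hK hle⟩))))))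
    · exfalso
      have hk := hd.two_le₁
      obtain rfl : k = 2 := by
        have hk3 : k ≤ 2 := by
          by_contra hc
          have hk' : k ∣ 8 := ⟨l, hn.symm⟩
          have := Nat.le_of_dvd (by norm_num) hk'
          interval_cases k <;> omega
        omega
      exact hminus (AschEvenCases44.two_factor_plus (by norm_num) hnd hsub hirr hcs hd)
    · obtain ⟨F₀, r, P, ζ, hr, ho, hc, hζ, hrat, hH'⟩ := AschEvenCases44.subfield_member (by norm_num) hnd hH h
      exact Or.inr (Or.inr (Or.inr (Or.inr (Or.inr (Or.inr (Or.inr (Or.inl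
        ⟨F₀, r, P, ζ, hr, ho hminus, hc, hζ, hrat, hH'⟩)))))))
    · exact Or.inr (Or.inr (Or.inr (Or.inr (Or.inr (Or.inr (Or.inr (Or.inr h)))))))
  · rcases AschEvenCases44.reducible_member (by norm_num) hnd hH hirr with
      ⟨U, hb, hts, -, -, hH'⟩ | ⟨hev, v, hv, hH'⟩ | ⟨U, hb, ht, hU, hle, h1, hH', hodd, hpl, -⟩
    · exact Or.inl ⟨U, hb, hts, hH'⟩
    · exact Or.inr (Or.inr (Or.inr (Or.inr (Or.inr (Or.inl ⟨hev, v, hv, hH'⟩)))))
    · by_cases ho : Odd (finrank F U)
      · exact Or.inr (Or.inl ⟨hodd ho, U, hb, ht, ho, hU, hH'⟩)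
      · have h24 : finrank F U = 2 ∨ finrank F U = 4 := by
          have he := Nat.even_iff.1 (Nat.not_odd_iff_even.1 ho)
          omega
        rcases h24 with h2 | h4
        · by_cases hp : IsPlusTypeOn (⇑q) U
          · exact Or.inr (Or.inr (Or.inr (Or.inl ⟨hpl h2 hp, U, h2, hU, hp, hH'⟩)))
          · exact Or.inr (Or.inr (Or.inl ⟨U, h2, hU, hp, hH'⟩))
        · exact Or.inr (Or.inr (Or.inr (Or.inr (Or.inl ⟨U, h4, hU, hH'⟩))))

end Cfsg.Agent.S5826
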