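import Cfsg.Statements.S5829
import Mathlib
import Cfsg.Agent.Lib.AschGenCases


set_option autoImplicit false
open Cfsg

namespace Cfsg.Agent.S5829



/-- Every maximal subgroup of SL_9(q) is of one of the listed geometric types or lies in the residual class. Let F be a finite field with q elements (p its characteristic) and H a maximal subgroup of SL_9(F) (inside GL_9(F)). Then H is the intersection with SL_9(F) of one of: the stabiliser of a proper non-zero subspace; for q ≥ 5, the stabiliser of a decomposition into 9 independent 1-spaces; the stabiliser of a decomposition into 3 independent 3-spaces; the normaliser of a degree-3 subfield of the matrix algebra; a subfield group for a subfield F₀ with |F| = |F₀|^r, r prime; for q = p prime with p ≡ 1 mod 3, the normaliser of an absolutely irreducible 3-subgroup R of exponent 3 and order 3^(1+2m) with centre of order 3, all of whose characteristic abelian subgroups are cyclic, F being the smallest field of characteristic p containing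 the cube roots of unity (here R is extraspecial of order 3^5); the stabiliser of a tensor decomposition into 2 factors of dimension 3; for q odd, the similarity group of a non-degenerate quadratic form; the similarity group of a non-degenerate unitary form — or else H lies in the residual class of the linear case (modulo scalars H is almost simple, with absolutely irreducible perfect socle preimage realisable over no proper subfield and fixing no non-degenerate quadratic, symplectic or unitary form). -/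
theorem result {F : Type*} [Field F] [Fintype F] (H : Subgroup (Matrix.GeneralLinearGroup (Fin 9) F)) (hH : Cfsg.Geo.IsMaximalIn (Cfsg.Geo.specialLinear (Fin 9) F) H) :
    (∃ W : Submodule F (Fin 9 → F), W ≠ ⊥ ∧ W ≠ ⊤ ∧ H = Cfsg.Geo.subspaceStabilizer W ⊓ Cfsg.Geo.specialLinear (Fin 9) F) ∨
    (5 ≤ Fintype.card F ∧ ∃ D : Fin 9 → Submodule F (Fin 9 → F), Cfsg.Geo.IsMDecomposition 1 D ∧ H = Cfsg.Geo.decompositionStabilizer D ⊓ Cfsg.Geo.specialLinear (Fin 9) F) ∨
    (∃ D : Fin 3 → Submodule F (Fin 9 → F), Cfsg.Geo.IsMDecomposition 3 D ∧ H = Cfsg.Geo.decompositionStabilizer D ⊓ Cfsg.Geo.specialLinear (Fin 9) F) ∨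
    (∃ K : Subalgebra F (Matrix (Fin 9) (Fin 9) F), Cfsg.Geo.IsFieldSubalgebra 3 K ∧ H = Cfsg.Geo.subalgebraNormalizer K ⊓ Cfsg.Geo.specialLinear (Fin 9) F) ∨
    (∃ (F₀ : Subfield F) (r : ℕ) (P : Matrix.GeneralLinearGroup (Fin 9) F), r.Prime ∧ Fintype.card F = Nat.card F₀ ^ r ∧ H = Cfsg.Geo.subfieldSubgroup F₀ P ⊓ Cfsg.Geo.specialLinear (Fin 9) F) ∨
    ((∃ p : ℕ, p.Prime ∧ Fintype.card F = p ∧ (p % 3 = 1)) ∧ ∃ R : Subgroup (Matrix.GeneralLinearGroup (Fin 9) F), Cfsg.Geo.IsLinearSymplecticTypeData 3 R ∧ H = Cfsg.Geo.subgroupNormalizer R ⊓ Cfsg.Geo.specialLinear (Fin 9) F) ∨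
    (∃ (e : Fin 9 ≃ (Fin 2 → Fin 3)) (P : Matrix.GeneralLinearGroup (Fin 9) F), H = Cfsg.Geo.tensorWreathSubgroup 3 2 e P ⊓ Cfsg.Geo.specialLinear (Fin 9) F) ∨
    (Odd (Fintype.card F) ∧ ∃ Q : (Fin 9 → F) → F, Cfsg.Geo.IsNondegenerateQuadraticForm Q ∧ H = Cfsg.Geo.quadSimilarityGroup Q ⊓ Cfsg.Geo.specialLinear (Fin 9) F) ∨
    (∃ (σ : F ≃+* F) (f : (Fin 9 → F) → (Fin 9 → F) → F), Cfsg.Geo.IsUnitaryForm σ f ∧ H = Cfsg.Geo.similarityGroup f ⊓ Cfsg.Geo.specialLinear (Fin 9) F) ∨
    Cfsg.Geo.InLinearResidualClass H := by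
  classical
  rcases Cfsg.Agent.AschGenCases.maximal_cases (by simp) hH with h | h
  swap
  · exact (Or.inr (Or.inr (Or.inr (Or.inr (Or.inr (Or.inr (Or.inr (Or.inr (Or.inr h)))))))))
  cases h with
  | sub W hb ht eq => exact (Or.inl ⟨W, hb, ht, eq⟩)
  | decomp t m D hD hn h1 h2 h22 eq =>
    rw [Fintype.card_fin] at hn
    have h2t := hD.two_le
    have ht : t ≤ 9 := Nat.le_of_dvd (by omega) ⟨m, hn⟩
    interval_cases t
    · omega
    · obtain rfl : m = 3 := by omega
      exact (Or.inr (Or.inr (Or.inl ⟨D, hD, eq⟩)))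
    · omega
    · omega
    · omega
    · omega
    · omega
    · obtain rfl : m = 1 := by omega
      exact (Or.inr (Or.inl ⟨h1 rfl, D, hD, eq⟩))
  | field r K hr hK dvd eq =>
    rw [Fintype.card_fin] at dvd
    have hrn : r ≤ 9 := Nat.le_of_dvd (by omega) dvd
    have := hr.two_le
    interval_cases r
    · omega
    · exact (Or.inr (Or.inr (Or.inr (Or.inl ⟨K, hK, eq⟩))))
    · omega
    · omega
    · omega
    · omega
    · omega
    · norm_num at hr
  | tensor n₁ n₂ e P h1 h12 hn hq eq =>
    rw [Fintype.card_fin] at hn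
    have h1' : n₁ * n₁ < 9 := hn ▸ Nat.mul_lt_mul_of_pos_left h12 (by omega)
    have h1'' : n₁ < 4 := by nlinarith
    interval_cases n₁
    · omega
    · omega
  | subfield F₀ r P hr hc eq => exact (Or.inr (Or.inr (Or.inr (Or.inr (Or.inl ⟨F₀, r, P, hr, hc, eq⟩)))))
  | extra p e r m R hp hchar hF hr hn hmin hR eq =>
    rw [Fintype.card_fin] at hn
    have hr' : r = 3 := by
      refine ((Nat.prime_dvd_prime_iff_eq (by norm_num) hr).1 ((by norm_num : Nat.Prime 3).dvd_of_dvd_pow (m := r) (n := m) ?_)).symm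
      rw [← hn]; norm_num
    subst hr'
    rcases hmin with ⟨-, he, hd, hmin⟩ | ⟨h, -⟩
    swap
    · omega
    obtain ⟨k, hk⟩ := he
    have hp3 : p % 3 = 1 := by
      have h1 : p ^ e % 3 = 1 := by
        have := Nat.one_le_pow e p hp.pos
        omega
      rw [hk, pow_succ, pow_mul, Nat.mul_mod, Nat.pow_mod, Nat.pow_mod p 2] at h1
      have h3 : p % 3 < 3 := Nat.mod_lt _ (by norm_num)
      interval_cases hh : p % 3 <;> simp_all
    have he1 : e = 1 := by
      by_contra hne
      have := hp.two_le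
      exact hmin 1 one_pos (by omega) (by rw [pow_one]; omega)
    rw [he1, pow_one] at hF
    exact (Or.inr (Or.inr (Or.inr (Or.inr (Or.inr (Or.inl ⟨⟨p, hp, hF, hp3⟩, R, hR, eq⟩))))))
  | wreath m t e P hm ht hn eq =>
    rw [Fintype.card_fin] at hn
    have hm2 : m ^ 2 ≤ 9 := hn ▸ Nat.pow_le_pow_right (by omega) ht
    obtain rfl : m = 3 := by nlinarith
    obtain rfl : t = 2 := (Nat.pow_right_injective (le_refl 2 |>.trans (by norm_num)) (show 3 ^ 2 = 3 ^ t by rw [← hn])).symm
    exact (Or.inr (Or.inr (Or.inr (Or.inr (Or.inr (Or.inr (Or.inl ⟨e, P, eq⟩)))))))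
  | symp f hf heven eq => exact absurd heven (by simp; decide)
  | unit σ f hf eq => exact (Or.inr (Or.inr (Or.inr (Or.inr (Or.inr (Or.inr (Or.inr (Or.inr (Or.inl ⟨σ, f, hf, eq⟩)))))))))
  | quad Q hodd hQ eq => exact (Or.inr (Or.inr (Or.inr (Or.inr (Or.inr (Or.inr (Or.inr (Or.inl ⟨hodd, Q, hQ, eq⟩))))))))

end Cfsg.Agent.S5829
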