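import Cfsg.Statements.S5835
import Cfsg.Agent.Lib.AschCaseOmega

set_option autoImplicit false
open Cfsg

namespace Cfsg.Agent.S5835

/-- Every maximal subgroup of Ω_9(q), q odd, is of one of the listed geometric types or lies in the residual class. Let F be a finite field of odd order q, Q the standard quadratic form x₀² + Σ x_i y_i on F^9 (coordinates Unit ⊕ (Fin 4 ⊕ Fin 4)), Ω the commutator subgroup of its isometry group, and H a maximal subgroup of Ω (inside GL_9(F)). Then H is the intersection with Ω of one of: the stabiliser of a non-zero totally singular subspace; the stabiliser of a non-zero non-degenerate subspace of even dimension (not a plus-type plane when q = 3); for q prime, the stabiliser of a decomposition into nine pairwise orthogonal, pairwise isometric non-degenerate 1-spaces; for q ≥ 5, the stabiliser of a decomposition into three pairwise orthogonal, pairwise isometric non-degenerate 3-spaces; the normaliser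 of a degree-3 subfield of the matrix algebra, self-adjoint for the polar form; a subfield group (|F| = |F₀|^r, r prime) whose F₀-structure carries Q; for q ≥ 5, the stabiliser of a tensor decomposition of the polar form as a tensor square of a symmetric form on F^3 — or else H lies in the residual class of the orthogonal case (modulo scalars H is almost simple, with absolutely irreducible perfect socle preimage realisable over no proper subfield and fixing no non-degenerate unitary form). -/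
theorem result {F : Type*} [Field F] [Fintype F] (hodd : Odd (Fintype.card F)) (H : Subgroup (Matrix.GeneralLinearGroup (Unit ⊕ (Fin 4 ⊕ Fin 4)) F)) (hH : Cfsg.Geo.IsMaximalIn (Cfsg.Geo.omegaGL (Cfsg.quadFormOdd 4 F)) H) :
    (∃ W : Submodule F (Unit ⊕ (Fin 4 ⊕ Fin 4) → F), W ≠ ⊥ ∧ Cfsg.Geo.IsTotallySingularQuad (Cfsg.quadFormOdd 4 F) W ∧ H = Cfsg.Geo.subspaceStabilizer W ⊓ Cfsg.Geo.omegaGL (Cfsg.quadFormOdd 4 F)) ∨
    (∃ W : Submodule F (Unit ⊕ (Fin 4 ⊕ Fin 4) → F), W ≠ ⊥ ∧ Even (Module.finrank F W) ∧ Cfsg.Geo.IsNondegenerateOn (QuadraticMap.polar (Cfsg.quadFormOdd 4 F)) W ∧ ¬ (Fintype.card F = 3 ∧ Module.finrank F W = 2 ∧ Cfsg.Geo.IsPlusTypeOn (Cfsg.quadFormOdd 4 F) W) ∧ H = Cfsg.Geo.subspaceStabilizer W ⊓ Cfsg.Geo.omegaGL (Cfsg.quadFormOdd 4 F)) ∨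
    ((Fintype.card F).Prime ∧ ∃ D : Fin 9 → Submodule F (Unit ⊕ (Fin 4 ⊕ Fin 4) → F), Cfsg.Geo.IsOrthogonalMDecomposition (Cfsg.quadFormOdd 4 F) 1 D ∧ H = Cfsg.Geo.decompositionStabilizer D ⊓ Cfsg.Geo.omegaGL (Cfsg.quadFormOdd 4 F)) ∨
    (5 ≤ Fintype.card F ∧ ∃ D : Fin 3 → Submodule F (Unit ⊕ (Fin 4 ⊕ Fin 4) → F), Cfsg.Geo.IsOrthogonalMDecomposition (Cfsg.quadFormOdd 4 F) 3 D ∧ H = Cfsg.Geo.decompositionStabilizer D ⊓ Cfsg.Geo.omegaGL (Cfsg.quadFormOdd 4 F)) ∨
    (∃ K : Subalgebra F (Matrix (Unit ⊕ (Fin 4 ⊕ Fin 4)) (Unit ⊕ (Fin 4 ⊕ Fin 4)) F), Cfsg.Geo.IsFieldSubalgebra 3 K ∧ Cfsg.Geo.IsSelfAdjointFor (QuadraticMap.polar (Cfsg.quadFormOdd 4 F)) K ∧ H = Cfsg.Geo.subalgebraNormalizer K ⊓ Cfsg.Geo.omegaGL (Cfsg.quadFormOdd 4 F)) ∨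
    (∃ (F₀ : Subfield F) (r : ℕ) (P : Matrix.GeneralLinearGroup (Unit ⊕ (Fin 4 ⊕ Fin 4)) F), r.Prime ∧ Fintype.card F = Nat.card F₀ ^ r ∧ Cfsg.Geo.IsQuadFormRationalStructure (Cfsg.quadFormOdd 4 F) F₀ P ∧ H = Cfsg.Geo.subfieldSubgroup F₀ P ⊓ Cfsg.Geo.omegaGL (Cfsg.quadFormOdd 4 F)) ∨
    (5 ≤ Fintype.card F ∧ ∃ (e : (Unit ⊕ (Fin 4 ⊕ Fin 4)) ≃ (Fin 2 → Fin 3)) (P : Matrix.GeneralLinearGroup (Unit ⊕ (Fin 4 ⊕ Fin 4)) F) (f₁ : (Fin 3 → F) → (Fin 3 → F) → F), Cfsg.Geo.IsSymmetricForm f₁ ∧ Cfsg.Geo.IsTensorPowerFormStructure id (QuadraticMap.polar (Cfsg.quadFormOdd 4 F)) f₁ e P ∧ H = Cfsg.Geo.tensorWreathSubgroup 3 2 e P ⊓ Cfsg.Geo.omegaGL (Cfsg.quadFormOdd 4 F)) ∨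
    Cfsg.Geo.InOrthogonalResidualClass H := by
  classical
  have h2 : (2 : F) ≠ 0 := OmegaStd.two_ne_zero rfl hodd
  have hO : H ≤ AschPrimeOrthProper.omg 4 F := hH.1.le
  by_cases hirr : ¬ AschPrimeBasic.Irred H
  · unfold AschPrimeBasic.Irred at hirr
    push Not at hirr
    obtain ⟨W, hW, hb, ht⟩ := hirr
    rcases AschPrimeOrth.reducible_cases h2 (by norm_num) hO hW hb ht with
      ⟨U, hUb, hUt, hUi, hU⟩ | ⟨U, hUb, hUt, hUi, he, hU, hex⟩
    · exact Or.inl ⟨U, hUb, hU, AschPrimeBasic.eq_of_maximal hH ((AschPrimeBasic.inv_iff_le_stabilizer _ _).1 hUi)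
        (AschPrimeOrthProper.omega_not_le_subspaceStabilizer h2 (by norm_num) hUb hUt)⟩
    · exact Or.inr (Or.inl ⟨U, hUb, he, hU, hex, AschPrimeBasic.eq_of_maximal hH
        ((AschPrimeBasic.inv_iff_le_stabilizer _ _).1 hUi)
        (AschPrimeOrthProper.omega_not_le_subspaceStabilizer h2 (by norm_num) hUb hUt)⟩)
  push Not at hirr
  rcases AschFormOrth.orth_structure hodd (by norm_num : 3 ≤ 4) hO with ⟨M, hM, hle'⟩ | hres
  swap
  · exact Or.inr (Or.inr (Or.inr (Or.inr (Or.inr (Or.inr (Or.inr hres))))))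
  have h9 : Fintype.card (AschPrimeOrthProper.Idx 4) = 9 := by simp
  have lines : ∀ (t : ℕ) (D : Fin t → Submodule F (AschPrimeOrthProper.Idx 4 → F)),
      Geo.IsOrthogonalMDecomposition (Cfsg.quadFormOdd 4 F) 1 D → H ≤ Geo.decompositionStabilizer D →
      ∃ D : Fin 9 → Submodule F (AschPrimeOrthProper.Idx 4 → F), Geo.IsOrthogonalMDecomposition (Cfsg.quadFormOdd 4 F) 1 D ∧
        H = Geo.decompositionStabilizer D ⊓ Geo.omegaGL (Cfsg.quadFormOdd 4 F) := by
    intro t D hD hle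
    obtain rfl : t = 9 := by
      have := AschFormImprim.finrank_mDecomposition hD.decomp.decomp
      rw [h9] at this; omega
    refine ⟨D, hD, AschPrimeBasic.eq_of_maximal hH hle fun h => ?_⟩
    refine AschPrimeOrthProper.omega_not_le_lines h2 (by norm_num)
      (AschPrimeLinear.isMDecomposition_cast h9 hD.decomp.decomp) ?_
    rw [AschPrimeLinear.decompositionStabilizer_cast]
    exact h
  have hnoinv : ∀ W : Submodule F (AschPrimeOrthProper.Idx 4 → F), W ≠ ⊥ → W ≠ ⊤ → H ≤ Geo.subspaceStabilizer W →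
      False := fun W hb ht h => (hirr W ((AschPrimeBasic.inv_iff_le_stabilizer _ _).2 h)).elim hb ht
  have h5 : Fintype.card F ≠ 3 → 5 ≤ Fintype.card F := fun h => by
    have := Fintype.one_lt_card (α := F)
    obtain ⟨j, hj⟩ := hodd
    omega
  rcases hM with ⟨W, hb, hts, rfl⟩ | ⟨W, hb, ht, hnd, rfl⟩ | ⟨t, k, D, hk, hD, rfl⟩ | ⟨t, D, hpr, hD, rfl⟩ |
    ⟨r, K, hr, hrn, hK, hsa, rfl⟩ | ⟨n₁, n₂, e, P, f₁, f₂, h1, h12, hf₁, hf₂, hT, rfl⟩ |
    ⟨F₀, r, P, hr, hc, hrat, rfl⟩ | ⟨k, t, e, P, f₁, hk, ht, hex, hf₁, hT, rfl⟩ <;>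
    have hle := hle'.trans inf_le_left
  · refine (hnoinv W hb (fun h => ?_) hle).elim
    subst h
    have := hts (Pi.single (Sum.inl ()) 1) trivial
    simp [Cfsg.quadFormOdd] at this
  · exact (hnoinv W hb ht hle).elim
  · have hcount := AschFormImprim.finrank_mDecomposition hD.decomp.decomp
    rw [h9] at hcount
    have htwo := hD.decomp.decomp.two_le
    have hk4 : k ≤ 4 := by nlinarith
    interval_cases k
    · omega
    · obtain rfl : t = 3 := by omega
      by_cases h3 : Fintype.card F = 3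
      · obtain ⟨t', D', hD', hle''⟩ := AschCase.three_spaces_frame h3 (by norm_num) hO hD hle
        exact Or.inr (Or.inr (Or.inl ⟨by rw [h3]; exact Nat.prime_three, lines t' D' hD' hle''⟩))
      · exact Or.inr (Or.inr (Or.inr (Or.inl ⟨h5 h3, D, hD, AschPrimeBasic.eq_of_maximal hH hle
          (AschCase.omega_not_le_decomposition h2 (by norm_num) hD.decomp.decomp le_rfl)⟩)))
    · omega
  · exact Or.inr (Or.inr (Or.inl ⟨hpr, lines t D hD hle⟩))
  · have hdvd : r ∣ 3 ^ 2 := by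
      have := AschGenLinear.field_degree_dvd hK
      rw [h9] at this
      exact this
    obtain rfl : r = 3 := (Nat.prime_dvd_prime_iff_eq hr Nat.prime_three).1 (hr.dvd_of_dvd_pow hdvd)
    exact Or.inr (Or.inr (Or.inr (Or.inr (Or.inl ⟨K, hK, hsa, AschPrimeBasic.eq_of_maximal hH hle
      (AschCase.omega_not_le_algebra h2 (by norm_num) le_rfl hK)⟩))))
  · exfalso
    have hn : n₁ * n₂ = 9 := by rw [← h9]; simpa using (Fintype.card_congr e).symm
    have : n₁ ≤ 2 := by nlinarith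
    omega
  · exact Or.inr (Or.inr (Or.inr (Or.inr (Or.inr (Or.inl ⟨F₀, r, P, hr, hc, hrat,
      AschPrimeBasic.eq_of_maximal hH hle (AschPrimeOrthProper.omega_not_le_subfieldSubgroup h2 (by norm_num)
        (AschPrimeForms.card_eq_pow_ne_top hr hc) P)⟩)))))
  · have hkt : k ^ t = 9 := by rw [← h9]; simpa using (Fintype.card_congr e).symm
    obtain ⟨rfl, rfl⟩ : k = 3 ∧ t = 2 := by
      have := Nat.pow_le_pow_right (show 0 < k by omega) ht
      obtain rfl : k = 3 := by nlinarith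
      exact ⟨rfl, Nat.pow_right_injective (by norm_num) (hkt.trans (by norm_num))⟩
    exact Or.inr (Or.inr (Or.inr (Or.inr (Or.inr (Or.inr (Or.inl ⟨h5 fun h => hex ⟨h, rfl⟩, e, P, f₁, hf₁, hT,
      AschPrimeBasic.eq_of_maximal hH hle (AschCase.omega_not_le_wreath h2 (by norm_num) le_rfl e P)⟩))))))

end Cfsg.Agent.S5835
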