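import Mathlib
import Cfsg.Statements.S5847
import Cfsg.Agent.Lib.AschEvenCases44
-- import your own Cfsg.Agent.* helpers here

set_option autoImplicit false
open Cfsg

namespace Cfsg.Agent.S5847

open Cfsg QuadraticMap Module Cfsg.Geo Cfsg.Agent

/-- Every maximal subgroup of Ω_10^+(q) is of one of the listed geometric types or lies in the residual class. Let F be a finite field with q elements (characteristic p), Q a non-degenerate quadratic form on F^10 of plus type (Witt index 5: some totally singular 5-space), Ω the commutator subgroup of its isometry group, and H a maximal subgroup of Ω (inside GL_10(F)). Then H is the intersection with Ω of one of: the stabiliser of a non-zero totally singular subspace of dimension ≠ 4; for q odd, the stabiliser of a non-degenerate subspace of odd dimension ≠ 5; the stabiliser of a non-degenerate 2-space of minus type; for q ≥ 4, the stabiliser of a non-degenerate 2-space of plus type; the stabiliser of a non-degenerate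 4-space; for q even, the stabiliser of the span of a non-singular vector; for q = p prime with p ≡ 1 mod 4, the stabiliser of a decomposition into 10 pairwise orthogonal, pairwise isometric non-degenerate 1-spaces; for q ≥ 7, the stabiliser of a decomposition into 5 pairwise orthogonal, pairwise isometric non-degenerate 2-spaces; for q ≡ 1 mod 4, the stabiliser of a decomposition into 2 pairwise orthogonal, pairwise isometric non-degenerate 5-spaces; for q ≡ 3 mod 4, the stabiliser of a decomposition into two orthogonal, non-isometric non-degenerate 5-spaces; for q odd, the normaliser of a degree-2 subfield of the matrix algebra, self-adjoint for the polar form; a subfield group (|F| = |F₀|^r, r prime) whose F₀-structure carries a non-zero multiple of Q — or else H lies in the residual class of the orthogonal case (modulo scalars H is almost simple, with absolutely irreducible perfect socle preimage realisable over no proper subfield and fixing no non-degenerate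 unitary form). -/
theorem result {F : Type*} [Field F] [Fintype F] (Q : (Fin 10 → F) → F) (hQ : Cfsg.Geo.IsNondegenerateQuadraticForm Q) (hplus : Cfsg.Geo.IsPlusTypeOn Q ⊤) (H : Subgroup (Matrix.GeneralLinearGroup (Fin 10) F)) (hH : Cfsg.Geo.IsMaximalIn (Cfsg.Geo.omegaGL Q) H) :
    (∃ W : Submodule F (Fin 10 → F), W ≠ ⊥ ∧ Cfsg.Geo.IsTotallySingularQuad Q W ∧ Module.finrank F W ≠ 4 ∧ H = Cfsg.Geo.subspaceStabilizer W ⊓ Cfsg.Geo.omegaGL Q) ∨
    (Odd (Fintype.card F) ∧ ∃ W : Submodule F (Fin 10 → F), W ≠ ⊥ ∧ W ≠ ⊤ ∧ Odd (Module.finrank F W) ∧ 2 * Module.finrank F W ≠ 10 ∧ Cfsg.Geo.IsNondegenerateOn (QuadraticMap.polar Q) W ∧ H = Cfsg.Geo.subspaceStabilizer W ⊓ Cfsg.Geo.omegaGL Q) ∨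
    (∃ W : Submodule F (Fin 10 → F), Module.finrank F W = 2 ∧ Cfsg.Geo.IsNondegenerateOn (QuadraticMap.polar Q) W ∧ ¬ Cfsg.Geo.IsPlusTypeOn Q W ∧ H = Cfsg.Geo.subspaceStabilizer W ⊓ Cfsg.Geo.omegaGL Q) ∨
    (4 ≤ Fintype.card F ∧ ∃ W : Submodule F (Fin 10 → F), Module.finrank F W = 2 ∧ Cfsg.Geo.IsNondegenerateOn (QuadraticMap.polar Q) W ∧ Cfsg.Geo.IsPlusTypeOn Q W ∧ H = Cfsg.Geo.subspaceStabilizer W ⊓ Cfsg.Geo.omegaGL Q) ∨
    (∃ W : Submodule F (Fin 10 → F), Module.finrank F W = 4 ∧ Cfsg.Geo.IsNondegenerateOn (QuadraticMap.polar Q) W ∧ H = Cfsg.Geo.subspaceStabilizer W ⊓ Cfsg.Geo.omegaGL Q) ∨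
    (¬ Odd (Fintype.card F) ∧ ∃ v : (Fin 10 → F), Q v ≠ 0 ∧ H = Cfsg.Geo.subspaceStabilizer (Submodule.span F {v}) ⊓ Cfsg.Geo.omegaGL Q) ∨
    ((∃ p : ℕ, p.Prime ∧ Fintype.card F = p ∧ (p % 4 = 1)) ∧ ∃ D : Fin 10 → Submodule F (Fin 10 → F), Cfsg.Geo.IsOrthogonalMDecomposition Q 1 D ∧ H = Cfsg.Geo.decompositionStabilizer D ⊓ Cfsg.Geo.omegaGL Q) ∨
    (7 ≤ Fintype.card F ∧ ∃ D : Fin 5 → Submodule F (Fin 10 → F), Cfsg.Geo.IsOrthogonalMDecomposition Q 2 D ∧ H = Cfsg.Geo.decompositionStabilizer D ⊓ Cfsg.Geo.omegaGL Q) ∨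
    (Fintype.card F % 4 = 1 ∧ ∃ D : Fin 2 → Submodule F (Fin 10 → F), Cfsg.Geo.IsOrthogonalMDecomposition Q 5 D ∧ H = Cfsg.Geo.decompositionStabilizer D ⊓ Cfsg.Geo.omegaGL Q) ∨
    (Fintype.card F % 4 = 3 ∧ ∃ D : Fin 2 → Submodule F (Fin 10 → F), Cfsg.Geo.IsNondegenerateMDecomposition (QuadraticMap.polar Q) 5 D ∧ ¬ Cfsg.Geo.AreIsometricFor Q (D 0) (D 1) ∧ H = Cfsg.Geo.decompositionStabilizer D ⊓ Cfsg.Geo.omegaGL Q) ∨
    (Odd (Fintype.card F) ∧ ∃ K : Subalgebra F (Matrix (Fin 10) (Fin 10) F), Cfsg.Geo.IsFieldSubalgebra 2 K ∧ Cfsg.Geo.IsSelfAdjointFor (QuadraticMap.polar Q) K ∧ H = Cfsg.Geo.subalgebraNormalizer K ⊓ Cfsg.Geo.omegaGL Q) ∨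
    (∃ (F₀ : Subfield F) (r : ℕ) (P : Matrix.GeneralLinearGroup (Fin 10) F) (ζ : F), r.Prime ∧ Fintype.card F = Nat.card F₀ ^ r ∧ ζ ≠ 0 ∧ Cfsg.Geo.IsQuadFormRationalStructure (fun v : Fin 10 → F => ζ * Q v) F₀ P ∧ H = Cfsg.Geo.subfieldSubgroup F₀ P ⊓ Cfsg.Geo.omegaGL Q) ∨
    Cfsg.Geo.InOrthogonalResidualClass H := by

  obtain ⟨q, rfl, hnd⟩ := OmegaGeo.exists_quad hQ
  have hsub : H ≤ omegaGL ⇑q := hH.1.le
  have hHq : ∀ g ∈ H, ∀ x, q (Matrix.mulVec (g : Matrix (Fin 10) (Fin 10) F) x) = q x :=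
    fun g hg x => AschEvenBase44.omega_quad (hsub hg) x
  have hframe : ∀ (v : Fin 10 → Fin 10 → F) (ε : F), AschEvenFrame44.FrameData q H v ε →
      ((∃ p : ℕ, p.Prime ∧ Fintype.card F = p ∧ (p % 4 = 1)) ∧ ∃ D : Fin 10 → Submodule F (Fin 10 → F),
        IsOrthogonalMDecomposition (⇑q) 1 D ∧ H = decompositionStabilizer D ⊓ omegaGL ⇑q) ∨
      AschEvenCore44.SubfieldOut q H := by
    intro v ε hfr
    rcases AschEvenCases44.frame_out (m := 5) rfl (by norm_num) hnd hsub hfr with ⟨⟨p, hp, hpc⟩, h2, D, hD, hle⟩ | h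
    · exact Or.inl ⟨⟨p, hp, hpc, hpc ▸ AschEvenCases44.mod_four_one h2 ((AschEvenFrame44.frame_type hnd hfr (m := 5) rfl (by norm_num)).1 (by decide) hplus)⟩,
        D, hD, AschEvenCases44.decomp_member (by norm_num) hnd hH hD.decomp hle⟩
    · exact Or.inr h
  have hsubfield := fun (h : AschEvenCore44.SubfieldOut q H) =>
    AschEvenCases44.subfield_member (n := 10) (by norm_num) hnd hH h
  have hhalf : ∀ D : Fin 2 → Submodule F (Fin 10 → F), IsNondegenerateMDecomposition (polar ⇑q) 5 D →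
      (AreIsometricFor (⇑q) (D 0) (D 1) → Fintype.card F % 4 = 1) ∧
        (¬ AreIsometricFor (⇑q) (D 0) (D 1) → Fintype.card F % 4 = 3) := by
    intro D hD
    have hn0 := AschEvenType44.nondeg_iff.1 (hD.nondegenerate 0)
    have h2 := AschEvenReduce44.two_ne_zero_of_odd_dim hn0 (by rw [hD.decomp.finrank_eq]; decide)
    have hp := AschEvenType44.odd_pair hnd h2 hn0 (AschEvenType44.nondeg_iff.1 (hD.nondegenerate 1)) (j := 2)
      (hD.decomp.finrank_eq 0) (hD.decomp.finrank_eq 1) (hD.orthogonal 0 1 (by decide))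
      (eq_top_iff.2 (hD.decomp.iSup_eq_top.ge.trans (iSup_le fun i => by
        fin_cases i; exacts [le_sup_left, le_sup_right])))
    exact ⟨fun h => AschEvenCases44.mod_four_one h2 (hp.1 hplus h),
      fun h => AschEvenCases44.mod_four_three h2 (hp.2.1 hplus h)⟩
  have hdec : ∀ (t k : ℕ) (D : Fin t → Submodule F (Fin 10 → F)), AschPrimeBasic.Irred H →
      IsOrthogonalMDecomposition (⇑q) k D → H ≤ decompositionStabilizer D →
      ((∃ p : ℕ, p.Prime ∧ Fintype.card F = p ∧ (p % 4 = 1)) ∧ ∃ D : Fin 10 → Submodule F (Fin 10 → F),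
        IsOrthogonalMDecomposition (⇑q) 1 D ∧ H = decompositionStabilizer D ⊓ omegaGL ⇑q) ∨
      (7 ≤ Fintype.card F ∧ ∃ D : Fin 5 → Submodule F (Fin 10 → F),
        IsOrthogonalMDecomposition (⇑q) 2 D ∧ H = decompositionStabilizer D ⊓ omegaGL ⇑q) ∨
      (Fintype.card F % 4 = 1 ∧ ∃ D : Fin 2 → Submodule F (Fin 10 → F),
        IsOrthogonalMDecomposition (⇑q) 5 D ∧ H = decompositionStabilizer D ⊓ omegaGL ⇑q) ∨
      AschEvenCore44.SubfieldOut q H := by
    intro t k D hirr hD hle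
    have hn := AschEvenCases44.decomp_count hD.decomp.decomp
    have ht := hD.decomp.decomp.two_le
    have hk0 := hD.decomp.decomp.pos
    have hk5 : k ≤ 5 := by nlinarith
    interval_cases k
    · obtain rfl : t = 10 := by omega
      obtain ⟨v, ε, hfr⟩ := AschEvenFrame44.frame_of_lines hirr hHq hD.decomp hle
      rcases hframe v _ hfr with h | h
      · exact Or.inl h
      · exact Or.inr (Or.inr (Or.inr h))
    · obtain rfl : t = 5 := by omega
      have hp : ∀ i, IsPlusTypeOn (⇑q) (D i) := fun i =>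
        ((AschEvenType44.plus_iff_members (j := 1) hnd hD i).1 hplus).resolve_right (by decide)
      have hn0 := AschEvenType44.nondeg_iff.1 (hD.decomp.nondegenerate 0)
      have hd0 := hD.decomp.decomp.finrank_eq 0
      have use : ∀ ε : F, ε ≠ 0 → (2 : F) ≠ 0 → OmegaDecompThree.Frame q (D 0) ε → _ ∨ _ := fun ε hε h2 hf => by
        obtain ⟨v, hfr⟩ := AschEvenFrame44.frame_of_member h2 hirr hHq hD.decomp hle 0 hε hf
        exact hframe v _ hfr
      rcases AschEvenCases44.card_small (F := F) with h2F | h3 | h4 | h5 | h7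
      · exact (AschEvenFrame44.two_planes h2F hirr hHq hD.decomp hle hp).elim
      · rcases use 1 one_ne_zero (OmegaDecompThree.two_ne h3) (OmegaDecompThree.frame_two h3 hn0 hd0 one_ne_zero)
          with h | h
        · exact Or.inl h
        · exact Or.inr (Or.inr (Or.inr h))
      · exact Or.inr (Or.inr (Or.inr (AschEvenCases44.four_out (m := 5) rfl hnd hsub h4 hD.decomp hle hp)))
      · rcases use 1 one_ne_zero (AschEvenBase44.two_ne_zero_of_odd (by rw [h5]; decide))
          (AschEvenFrame44.frame_five h5 hn0 hd0 (hp 0)) with h | h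
        · exact Or.inl h
        · exact Or.inr (Or.inr (Or.inr h))
      · exact Or.inr (Or.inl ⟨h7, D, hD, AschEvenCases44.decomp_member (by norm_num) hnd hH hD.decomp hle⟩)
    · omega
    · omega
    · obtain rfl : t = 2 := by omega
      exact Or.inr (Or.inr (Or.inl ⟨(hhalf D hD.decomp).1 (hD.isometric 0 1), D, hD,
        AschEvenCases44.decomp_member (by norm_num) hnd hH hD.decomp hle⟩))
  have hout : AschPrimeBasic.Irred H → AschEvenCases44.DecompOut q H ∨ AschEvenCases44.PairOut q H →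
      ((∃ p : ℕ, p.Prime ∧ Fintype.card F = p ∧ (p % 4 = 1)) ∧ ∃ D : Fin 10 → Submodule F (Fin 10 → F),
        IsOrthogonalMDecomposition (⇑q) 1 D ∧ H = decompositionStabilizer D ⊓ omegaGL ⇑q) ∨
      (7 ≤ Fintype.card F ∧ ∃ D : Fin 5 → Submodule F (Fin 10 → F),
        IsOrthogonalMDecomposition (⇑q) 2 D ∧ H = decompositionStabilizer D ⊓ omegaGL ⇑q) ∨
      (Fintype.card F % 4 = 1 ∧ ∃ D : Fin 2 → Submodule F (Fin 10 → F),
        IsOrthogonalMDecomposition (⇑q) 5 D ∧ H = decompositionStabilizer D ⊓ omegaGL ⇑q) ∨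
      AschEvenCore44.SubfieldOut q H := by
    intro hirr h
    rcases h with ⟨t, k, D, hD, hle⟩ | ⟨k, D, hk, hD, hts, hle⟩
    · exact hdec t k D hirr hD hle
    · obtain rfl : k = 5 := by omega
      exact (AschEvenCases44.no_invariant hirr (AschEvenReduce44.pair_fixed hnd (by simp) hsub (k := 5) (by simp)
        (by decide) hD hts hle) (AschEvenCases44.ne_bot_of_finrank (by rw [hD.finrank_eq]; norm_num))
        (AschEvenCases44.ne_top_of_finrank (by rw [hD.finrank_eq]; norm_num))).elim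
  by_cases hirr : AschPrimeBasic.Irred H
  · rcases AschEvenCases44.main_cases (m := 5) rfl (Or.inr (Or.inl rfl)) (fun h => absurd h (by norm_num)) hnd hsub
        hirr with hD | hP | ⟨r, K, hr, hK, hKs, hKn, hrn, -⟩ | ⟨k, l, e, P, G₁, G₂, a, b, hkl, hn, hcs, hd⟩ | h | h
    · have := hout hirr (Or.inl hD)
      rcases this with h | h | h | h
      · exact Or.inr (Or.inr (Or.inr (Or.inr (Or.inr (Or.inr (Or.inl (h)))))))
      · exact Or.inr (Or.inr (Or.inr (Or.inr (Or.inr (Or.inr (Or.inr (Or.inl (h))))))))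
      · exact Or.inr (Or.inr (Or.inr (Or.inr (Or.inr (Or.inr (Or.inr (Or.inr (Or.inl (h)))))))))
      · obtain ⟨F₀, r, P, ζ, hr, -, hc, hζ, hrat, hH'⟩ := hsubfield h
        exact Or.inr (Or.inr (Or.inr (Or.inr (Or.inr (Or.inr (Or.inr (Or.inr (Or.inr (Or.inr (Or.inr (Or.inl (⟨F₀, r, P, ζ, hr, hc, hζ, hrat, hH'⟩))))))))))))
    · have := hout hirr (Or.inr hP)
      rcases this with h | h | h | h
      · exact Or.inr (Or.inr (Or.inr (Or.inr (Or.inr (Or.inr (Or.inl (h)))))))
      · exact Or.inr (Or.inr (Or.inr (Or.inr (Or.inr (Or.inr (Or.inr (Or.inl (h))))))))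
      · exact Or.inr (Or.inr (Or.inr (Or.inr (Or.inr (Or.inr (Or.inr (Or.inr (Or.inl (h)))))))))
      · obtain ⟨F₀, r, P, ζ, hr, -, hc, hζ, hrat, hH'⟩ := hsubfield h
        exact Or.inr (Or.inr (Or.inr (Or.inr (Or.inr (Or.inr (Or.inr (Or.inr (Or.inr (Or.inr (Or.inr (Or.inl (⟨F₀, r, P, ζ, hr, hc, hζ, hrat, hH'⟩))))))))))))
    · rcases AschEvenField44.ten_field rfl hnd hsub hirr hr hrn hK hKs hKn with himp | ⟨K, hK, hle, h⟩
      · have := hout hirr (AschEvenCases44.imprim_out (by norm_num) hsub hirr himp)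
        rcases this with h | h | h | h
        · exact Or.inr (Or.inr (Or.inr (Or.inr (Or.inr (Or.inr (Or.inl (h)))))))
        · exact Or.inr (Or.inr (Or.inr (Or.inr (Or.inr (Or.inr (Or.inr (Or.inl (h))))))))
        · exact Or.inr (Or.inr (Or.inr (Or.inr (Or.inr (Or.inr (Or.inr (Or.inr (Or.inl (h)))))))))
        · obtain ⟨F₀, r, P, ζ, hr, -, hc, hζ, hrat, hH'⟩ := hsubfield h
          exact Or.inr (Or.inr (Or.inr (Or.inr (Or.inr (Or.inr (Or.inr (Or.inr (Or.inr (Or.inr (Or.inr (Or.inl (⟨F₀, r, P, ζ, hr, hc, hζ, hrat, hH'⟩))))))))))))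
      · have hH' := AschEvenCases44.field_member (by norm_num) hnd hH le_rfl hK hle
        rcases h with ⟨ho, hsa⟩ | ⟨hnp, hac, hnsa, hsim⟩
        · exact Or.inr (Or.inr (Or.inr (Or.inr (Or.inr (Or.inr (Or.inr (Or.inr (Or.inr (Or.inr (Or.inl (⟨ho, K, hK, hsa, hH'⟩)))))))))))
        · exact absurd hplus hnp
    · exfalso
      have hk := hd.two_le₁
      obtain rfl : k = 2 := by
        have hk3 : k ≤ 3 := by
          by_contra hc
          nlinarith
        interval_cases k <;> omega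
      obtain rfl : l = 5 := by omega
      exact absurd (AschEvenCases44.two_factor hnd hsub hirr hcs hd).2.2.2.2 (by decide)
    · obtain ⟨F₀, r, P, ζ, hr, -, hc, hζ, hrat, hH'⟩ := hsubfield h
      exact Or.inr (Or.inr (Or.inr (Or.inr (Or.inr (Or.inr (Or.inr (Or.inr (Or.inr (Or.inr (Or.inr (Or.inl (⟨F₀, r, P, ζ, hr, hc, hζ, hrat, hH'⟩))))))))))))
    · exact Or.inr (Or.inr (Or.inr (Or.inr (Or.inr (Or.inr (Or.inr (Or.inr (Or.inr (Or.inr (Or.inr (Or.inr (h))))))))))))
  · rcases AschEvenCases44.reducible_member (by norm_num) hnd hH hirr with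
      ⟨U, hb, hts, hle, hi, hH'⟩ | ⟨hev, v, hv, hH'⟩ | ⟨U, hb, ht, hU, hle, h1, hH', hodd, hpl, hpair⟩
    · by_cases h4 : finrank F U = 4
      · obtain ⟨W, hW, hWd, hWi⟩ := AschEvenReduce44.submaximal hnd (by simp) hplus hsub hts hi (by simp [h4])
        rw [Fintype.card_fin] at hWd
        have hWb : W ≠ ⊥ := AschEvenCases44.ne_bot_of_finrank (by omega)
        exact Or.inl (⟨W, hWb, hW, by omega, AschEvenCases44.subspace_member (by norm_num) hnd hH hWi hWb (AschEvenCases44.ne_top_of_finrank (by omega))⟩)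
      · exact Or.inl (⟨U, hb, hts, h4, hH'⟩)
    · exact Or.inr (Or.inr (Or.inr (Or.inr (Or.inr (Or.inl (⟨hev, v, hv, hH'⟩))))))
    · by_cases h5 : finrank F U = 5
      · obtain ⟨U', -, -, hD, hDle⟩ := hpair (by omega)
        rw [h5] at hD
        have hH'' := AschEvenCases44.decomp_member (by norm_num) hnd hH hD hDle
        by_cases hiso : AreIsometricFor (⇑q) (![U, U'] 0) (![U, U'] 1)
        · refine Or.inr (Or.inr (Or.inr (Or.inr (Or.inr (Or.inr (Or.inr (Or.inr (Or.inl (⟨(hhalf _ hD).1 hiso, ![U, U'], ⟨hD, fun i j => ?_⟩, hH''⟩)))))))))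
          obtain ⟨g, hg⟩ := hiso
          fin_cases i <;> fin_cases j
          · exact ⟨LinearEquiv.refl F _, fun _ => rfl⟩
          · exact ⟨g, hg⟩
          · exact ⟨g.symm, fun x => (hg (g.symm x)).symm.trans (by rw [LinearEquiv.apply_symm_apply])⟩
          · exact ⟨LinearEquiv.refl F _, fun _ => rfl⟩
        · exact Or.inr (Or.inr (Or.inr (Or.inr (Or.inr (Or.inr (Or.inr (Or.inr (Or.inr (Or.inl (⟨(hhalf _ hD).2 hiso, _, hD, hiso, hH''⟩))))))))))
      by_cases ho : Odd (finrank F U)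
      · exact Or.inr (Or.inl (⟨hodd ho, U, hb, ht, ho, by omega, hU, hH'⟩))
      · have h24 : finrank F U = 2 ∨ finrank F U = 4 := by
          have he := Nat.even_iff.1 (Nat.not_odd_iff_even.1 ho)
          omega
        rcases h24 with h2 | h4
        · by_cases hp : IsPlusTypeOn (⇑q) U
          · exact Or.inr (Or.inr (Or.inr (Or.inl (⟨hpl h2 hp, U, h2, hU, hp, hH'⟩))))
          · exact Or.inr (Or.inr (Or.inl (⟨U, h2, hU, hp, hH'⟩)))
        · exact Or.inr (Or.inr (Or.inr (Or.inr (Or.inl (⟨U, h4, hU, hH'⟩)))))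

end Cfsg.Agent.S5847
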