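import Mathlib
import Cfsg.Statements.S5870
import Cfsg.Agent.Lib.OmegaMaxGlue
import Cfsg.Agent.Lib.OmegaStabSingular
import Cfsg.Agent.Lib.OmegaStabNonsingular
import Cfsg.Agent.Lib.OmegaStabNondegGlue
import Cfsg.Agent.Lib.OmegaPlusDecompGlue73
import Cfsg.Agent.Lib.OmegaDecompTwoGlue
import Cfsg.Agent.Lib.OmegaDecompGlue
import Cfsg.Agent.Lib.ExtFieldOrthGlue
import Cfsg.Agent.Lib.ExtFieldGUMax58
import Cfsg.Agent.Lib.OrthSubfieldMax44
import Cfsg.Agent.Lib.OrthGeoMax44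
import Cfsg.Agent.Lib.Frame10Glue
-- import your own Cfsg.Agent.* helpers here

set_option autoImplicit false
open Cfsg

namespace Cfsg.Agent.S5870

open Cfsg.Agent.OrthUnitaryQuad Cfsg.Agent.OrthUnitaryPrelude Cfsg.Agent.OmegaClasses Cfsg.Agent.OmegaGeo Cfsg.Agent.OmegaMaxGlue

/-- Maximal subgroups of Ω_12^+(q) of geometric type (any q). Let F be a finite field with q elements (characteristic p), Q a non-degenerate quadratic form on F^12 (non-degenerate polar form) of plus type (Witt index 6: some totally singular 6-space), and Ω = Ω_12^+(q) the commutator subgroup of the isometry group of Q, inside GL_12(F). Each of the following, intersected with Ω, is a maximal subgroup of Ω: (1) the stabiliser of any non-zero subspace on which Q vanishes identically other than those of dimension 5 (totally singular subspaces, dimensions 1, 2, 3, 4 and 6); (2) for q odd, the stabiliser of any subspace of odd dimension on which the polar form of Q is non-degenerate;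 (3) the stabiliser of any non-degenerate 2-space of minus type (containing no non-zero singular vector); (4) for q ≥ 4, the stabiliser of any non-degenerate 2-space of plus type (containing a non-zero singular vector); (5) the stabiliser of any non-degenerate 4-space (either type); (6) for q even, the stabiliser of the 1-space spanned by any non-singular vector v (Q(v) ≠ 0); (7) for q = p an odd prime, the stabiliser of any decomposition of F^12 into 12 pairwise orthogonal, pairwise Q-isometric non-degenerate 1-spaces; (8) for q ≥ 7, the stabiliser of any decomposition of F^12 into 6 pairwise orthogonal, pairwise Q-isometric non-degenerate 2-spaces of plus type; (9) for q ≠ 3, the stabiliser of any decomposition of F^12 into 6 pairwise orthogonal, pairwise Q-isometric non-degenerate 2-spaces of minus type; (10) for q odd with q ≥ 5, the stabiliser of any decomposition of F^12 into 4 pairwise orthogonal, pairwise Q-isometric non-degenerate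 3-spaces; (11) for q ≥ 3, the stabiliser of any decomposition of F^12 into 3 pairwise orthogonal, pairwise Q-isometric non-degenerate 4-spaces; (12) the stabiliser of any decomposition of F^12 into 2 pairwise orthogonal, pairwise Q-isometric non-degenerate 6-spaces; (13) the stabiliser of any decomposition into two totally singular 6-spaces; (14) for q odd, the normaliser of any degree-2 subfield K of the matrix algebra whose elements are self-adjoint for the polar form of Q (Q is then the trace of a quadratic form over K); (15) for q odd, the normaliser of any degree-3 subfield K of the matrix algebra whose elements are self-adjoint for the polar form of Q (Q is then the trace of a quadratic form over K); (16) the normaliser of any degree-2 subfield K of the matrix algebra, closed under adjoints for the polar form but not self-adjoint, whose elements act as similarities of Q (so F^12 becomes a 6-dimensional space over K with a hermitian form,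 and the subgroup is of the type of the unitary group GU_6(q)); (17) for q ≥ 3, the stabiliser of any tensor decomposition F^12 = F^2 ⊗ F^6 in which the polar form of Q is (alternating form) ⊗ (alternating form) up to a scalar and Q vanishes on all pure tensors; (18) every subfield group for a subfield F₀ with |F| = |F₀|^r, r prime, whose F₀-structure carries a non-zero scalar multiple of Q. -/
theorem result {F : Type*} [Field F] [Fintype F] (Q : (Fin 12 → F) → F) (hQ : Cfsg.Geo.IsNondegenerateQuadraticForm Q) (hplus : Cfsg.Geo.IsPlusTypeOn Q ⊤) :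
    (∀ W : Submodule F (Fin 12 → F), W ≠ ⊥ → Cfsg.Geo.IsTotallySingularQuad Q W → Module.finrank F W ≠ 5 → Cfsg.Geo.IsMaximalIn (Cfsg.Geo.omegaGL Q) (Cfsg.Geo.subspaceStabilizer W ⊓ Cfsg.Geo.omegaGL Q)) ∧
    (Odd (Fintype.card F) → ∀ W : Submodule F (Fin 12 → F), W ≠ ⊥ → W ≠ ⊤ → Odd (Module.finrank F W) → 2 * Module.finrank F W ≠ 12 → Cfsg.Geo.IsNondegenerateOn (QuadraticMap.polar Q) W → Cfsg.Geo.IsMaximalIn (Cfsg.Geo.omegaGL Q) (Cfsg.Geo.subspaceStabilizer W ⊓ Cfsg.Geo.omegaGL Q)) ∧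
    (∀ W : Submodule F (Fin 12 → F), Module.finrank F W = 2 → Cfsg.Geo.IsNondegenerateOn (QuadraticMap.polar Q) W → ¬ Cfsg.Geo.IsPlusTypeOn Q W → Cfsg.Geo.IsMaximalIn (Cfsg.Geo.omegaGL Q) (Cfsg.Geo.subspaceStabilizer W ⊓ Cfsg.Geo.omegaGL Q)) ∧
    (4 ≤ Fintype.card F → ∀ W : Submodule F (Fin 12 → F), Module.finrank F W = 2 → Cfsg.Geo.IsNondegenerateOn (QuadraticMap.polar Q) W → Cfsg.Geo.IsPlusTypeOn Q W → Cfsg.Geo.IsMaximalIn (Cfsg.Geo.omegaGL Q) (Cfsg.Geo.subspaceStabilizer W ⊓ Cfsg.Geo.omegaGL Q)) ∧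
    (∀ W : Submodule F (Fin 12 → F), Module.finrank F W = 4 → Cfsg.Geo.IsNondegenerateOn (QuadraticMap.polar Q) W → Cfsg.Geo.IsMaximalIn (Cfsg.Geo.omegaGL Q) (Cfsg.Geo.subspaceStabilizer W ⊓ Cfsg.Geo.omegaGL Q)) ∧
    (¬ Odd (Fintype.card F) → ∀ v : (Fin 12 → F), Q v ≠ 0 → Cfsg.Geo.IsMaximalIn (Cfsg.Geo.omegaGL Q) (Cfsg.Geo.subspaceStabilizer (Submodule.span F {v}) ⊓ Cfsg.Geo.omegaGL Q)) ∧
    ((∃ p : ℕ, p.Prime ∧ Odd p ∧ Fintype.card F = p) → ∀ D : Fin 12 → Submodule F (Fin 12 → F), Cfsg.Geo.IsOrthogonalMDecomposition Q 1 D → Cfsg.Geo.IsMaximalIn (Cfsg.Geo.omegaGL Q) (Cfsg.Geo.decompositionStabilizer D ⊓ Cfsg.Geo.omegaGL Q)) ∧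
    (7 ≤ Fintype.card F → ∀ D : Fin 6 → Submodule F (Fin 12 → F), Cfsg.Geo.IsOrthogonalMDecomposition Q 2 D → (∀ i, Cfsg.Geo.IsPlusTypeOn Q (D i)) → Cfsg.Geo.IsMaximalIn (Cfsg.Geo.omegaGL Q) (Cfsg.Geo.decompositionStabilizer D ⊓ Cfsg.Geo.omegaGL Q)) ∧
    (Fintype.card F ≠ 3 → ∀ D : Fin 6 → Submodule F (Fin 12 → F), Cfsg.Geo.IsOrthogonalMDecomposition Q 2 D → (∀ i, ¬ Cfsg.Geo.IsPlusTypeOn Q (D i)) → Cfsg.Geo.IsMaximalIn (Cfsg.Geo.omegaGL Q) (Cfsg.Geo.decompositionStabilizer D ⊓ Cfsg.Geo.omegaGL Q)) ∧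
    (Odd (Fintype.card F) ∧ 5 ≤ Fintype.card F → ∀ D : Fin 4 → Submodule F (Fin 12 → F), Cfsg.Geo.IsOrthogonalMDecomposition Q 3 D → Cfsg.Geo.IsMaximalIn (Cfsg.Geo.omegaGL Q) (Cfsg.Geo.decompositionStabilizer D ⊓ Cfsg.Geo.omegaGL Q)) ∧
    (3 ≤ Fintype.card F → ∀ D : Fin 3 → Submodule F (Fin 12 → F), Cfsg.Geo.IsOrthogonalMDecomposition Q 4 D → Cfsg.Geo.IsMaximalIn (Cfsg.Geo.omegaGL Q) (Cfsg.Geo.decompositionStabilizer D ⊓ Cfsg.Geo.omegaGL Q)) ∧
    (∀ D : Fin 2 → Submodule F (Fin 12 → F), Cfsg.Geo.IsOrthogonalMDecomposition Q 6 D → Cfsg.Geo.IsMaximalIn (Cfsg.Geo.omegaGL Q) (Cfsg.Geo.decompositionStabilizer D ⊓ Cfsg.Geo.omegaGL Q)) ∧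
    (∀ D : Fin 2 → Submodule F (Fin 12 → F), Cfsg.Geo.IsMDecomposition 6 D → (∀ i, Cfsg.Geo.IsTotallySingularQuad Q (D i)) → Cfsg.Geo.IsMaximalIn (Cfsg.Geo.omegaGL Q) (Cfsg.Geo.decompositionStabilizer D ⊓ Cfsg.Geo.omegaGL Q)) ∧
    (Odd (Fintype.card F) → ∀ K : Subalgebra F (Matrix (Fin 12) (Fin 12) F), Cfsg.Geo.IsFieldSubalgebra 2 K → Cfsg.Geo.IsSelfAdjointFor (QuadraticMap.polar Q) K → Cfsg.Geo.IsMaximalIn (Cfsg.Geo.omegaGL Q) (Cfsg.Geo.subalgebraNormalizer K ⊓ Cfsg.Geo.omegaGL Q)) ∧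
    (Odd (Fintype.card F) → ∀ K : Subalgebra F (Matrix (Fin 12) (Fin 12) F), Cfsg.Geo.IsFieldSubalgebra 3 K → Cfsg.Geo.IsSelfAdjointFor (QuadraticMap.polar Q) K → Cfsg.Geo.IsMaximalIn (Cfsg.Geo.omegaGL Q) (Cfsg.Geo.subalgebraNormalizer K ⊓ Cfsg.Geo.omegaGL Q)) ∧
    (∀ K : Subalgebra F (Matrix (Fin 12) (Fin 12) F), Cfsg.Geo.IsFieldSubalgebra 2 K → Cfsg.Geo.IsAdjointClosedFor (QuadraticMap.polar Q) K → ¬ Cfsg.Geo.IsSelfAdjointFor (QuadraticMap.polar Q) K → (∀ k ∈ K, ∃ c : F, ∀ v : (Fin 12 → F), Q (Matrix.mulVec k v) = c * Q v) → Cfsg.Geo.IsMaximalIn (Cfsg.Geo.omegaGL Q) (Cfsg.Geo.subalgebraNormalizer K ⊓ Cfsg.Geo.omegaGL Q)) ∧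
    (3 ≤ Fintype.card F → ∀ (e : Fin 12 ≃ Fin 2 × Fin 6) (P : Matrix.GeneralLinearGroup (Fin 12) F) (f₁ : (Fin 2 → F) → (Fin 2 → F) → F) (f₂ : (Fin 6 → F) → (Fin 6 → F) → F), Cfsg.Geo.IsSymplecticForm f₁ → Cfsg.Geo.IsSymplecticForm f₂ → Cfsg.Geo.IsTensorFormStructure id (QuadraticMap.polar Q) f₁ f₂ e P → (∀ (x₁ : Fin 2 → F) (x₂ : Fin 6 → F), Q (Matrix.mulVec (P : Matrix (Fin 12) (Fin 12) F) ((fun a : Fin 2 × Fin 6 => x₁ a.1 * x₂ a.2) ∘ e)) = 0) → Cfsg.Geo.IsMaximalIn (Cfsg.Geo.omegaGL Q) (Cfsg.Geo.tensorProductSubgroup 2 6 e P ⊓ Cfsg.Geo.omegaGL Q)) ∧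
    (∀ (F₀ : Subfield F) (r : ℕ) (P : Matrix.GeneralLinearGroup (Fin 12) F) (ζ : F), r.Prime → Fintype.card F = Nat.card F₀ ^ r → ζ ≠ 0 → Cfsg.Geo.IsQuadFormRationalStructure (fun v : Fin 12 → F => ζ * Q v) F₀ P → Cfsg.Geo.IsMaximalIn (Cfsg.Geo.omegaGL Q) (Cfsg.Geo.subfieldSubgroup F₀ P ⊓ Cfsg.Geo.omegaGL Q)) := by

  classical
  obtain ⟨q, rfl, hnd⟩ := exists_quad hQ
  have hd : Module.finrank F (Fin 12 → F) = 12 := by simp
  have h1 := Fintype.one_lt_card (α := F)
  have h2 : Odd (Fintype.card F) → (2 : F) ≠ 0 := fun h => OmegaStd.two_ne_zero rfl h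
  have hdim : 5 ≤ Module.finrank F (Fin 12 → F) := by omega
  refine ⟨fun W hW0 hW h5 => ?_, fun ho W hW0 hW1 hod hne hW => ?_, fun W hW2 hW hnp => ?_,
    fun hq4 W hW2 hW hp => ?_, fun W hW4 hW => ?_, fun hc v hv => ?_, ?_,
    fun hq7 D hD hall => ?_, fun hq3 D hD hall => ?_, fun hq D hD => ?_, fun hq D hD => ?_, fun D hD => ?_,
    fun D hD hts => ?_, fun ho K hK hsa => ?_, fun ho K hK hsa => ?_, fun K hK hac hnsa hsc => ?_,
    fun hq e P f₁ f₂ hf₁ hf₂ hT hpure => ?_, fun F₀ r P ζ hr hcard hζ hP => ?_⟩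
  · exact isMaximalIn_stabilizer (OmegaStabSingular.exists_move hnd (by omega) hW0 hW)
      fun M hM g hg _ hgW => OmegaStabSingular.commutator_le hnd (by omega) hW
        (fun _ _ => by omega) M hM hg hgW
  · refine OmegaStabNondegGlue.isMaximalIn hnd hW hW0 hW1 (by omega) (fun h => by omega) ?_
    rintro ⟨-, U, hU2, -, -, rfl | ⟨-, hsum⟩⟩ <;> obtain ⟨a, ha⟩ := hod <;> omega
  · refine OmegaStabNondegGlue.isMaximalIn hnd hW (fun h => ?_) (fun h => ?_) (by omega) (fun h => by omega) ?_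
    · rw [h, finrank_bot] at hW2; omega
    · rw [h, finrank_top] at hW2; omega
    rintro ⟨-, U, hU2, -, hUp, rfl | ⟨-, hsum⟩⟩
    · exact hnp hUp
    · omega
  · refine OmegaStabNondegGlue.isMaximalIn hnd hW (fun h => ?_) (fun h => ?_) (by omega) (fun h => by omega) ?_
    · rw [h, finrank_bot] at hW2; omega
    · rw [h, finrank_top] at hW2; omega
    rintro ⟨hle, -⟩
    omega
  · refine OmegaStabNondegGlue.isMaximalIn hnd hW (fun h => ?_) (fun h => ?_) (by omega) (fun h => by omega) ?_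
    · rw [h, finrank_bot] at hW4; omega
    · rw [h, finrank_top] at hW4; omega
    rintro ⟨-, U, hU2, -, -, rfl | ⟨-, hsum⟩⟩ <;> omega
  · exact isMaximalIn_stabilizer (OmegaStabNonsingular.exists_move hnd (by omega) hv)
      fun M hM g hg _ hgW => OmegaStabNonsingular.commutator_le hnd (by omega) hv M hM hg hgW
  · rintro ⟨p, hp, hpo, hqp⟩ D hD
    exact Frame10.isMaximalIn hnd (hqp ▸ hp) (hqp ▸ hpo) (by simp) hD
  · have hdec := OmegaDecompGlue.dec_of_decomposition hD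
    exact OmegaPlusDecompGlue73.isMaximalIn hnd hD ⟨hdec,
      fun i => OmegaPlusDecompGlue73.exists_singular_of_plus (by rw [hdec.dim]; omega) (hall i),
      le_rfl, hdim, by omega⟩
  · have hdec := OmegaDecompGlue.dec_of_decomposition hD
    exact OmegaDecompTwoGlue.isMaximalIn hnd hD ⟨hdec,
      fun i => OmegaDecompTwoGlue.aniso_of_not_plus (hdec.dim i) (hall i), le_rfl, hdim, hq3⟩
  · exact OmegaDecompGlue.isMaximalIn hnd hD ⟨le_rfl, by omega, hdim, fun _ => by omega,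
      fun _ => hq.2, fun _ => h2 hq.1, fun _ h => by omega⟩
  · exact OmegaDecompGlue.isMaximalIn hnd hD ⟨by omega, by omega, hdim, fun _ => le_rfl,
      fun h => by omega, fun h => by omega, fun h _ => by omega⟩
  · exact OmegaDecompGlue.isMaximalIn hnd hD ⟨by omega, le_rfl, hdim, fun h => by omega,
      fun h => by omega, fun h => by omega, fun _ h => by omega⟩
  · exact OrthGeoMax44.pair le_rfl _ hQ 6 rfl ⟨3, rfl⟩ D hD hts
  · exact ExtFieldOrthGlue.isMaximalIn q hnd (h2 ho) Nat.prime_two K hK hsa (by simp) (fun h => by simp at h)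
  · exact ExtFieldOrthGlue.isMaximalIn q hnd (h2 ho) Nat.prime_three K hK hsa (by simp) (fun _ => le_rfl)
  · exact ExtFieldGUMax58.isMaximalIn (by omega) _ hQ K hK hac hnsa hsc
  · exact OrthGeoMax44.tensor le_rfl _ hQ 2 6 (by omega) le_rfl (fun h => by omega) e P f₁ f₂ hf₁ hf₂ hT hpure
  · rw [← OrthSubfieldMax44.omegaGL_smul hζ ⇑q]
    have hnd' : (QuadraticMap.polarBilin (ζ • q)).Nondegenerate := by
      have h : ∀ v w, QuadraticMap.polar (⇑(ζ • q)) v w = ζ * QuadraticMap.polar (⇑q) v w := fun v w => by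
        simp only [QuadraticMap.polar, QuadraticMap.smul_apply, smul_eq_mul]; ring
      exact ⟨fun v hv => hnd.1 v fun w => (mul_eq_zero.1 ((h v w).symm.trans (hv w))).resolve_left hζ,
        fun v hv => hnd.2 v fun w => (mul_eq_zero.1 ((h w v).symm.trans (hv w))).resolve_left hζ⟩
    exact OrthSubfieldMax44.isMaximalIn (ζ • q) hnd' (by simp) F₀ r hr hcard P hP

end Cfsg.Agent.S5870
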