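import Mathlib
import Cfsg.Statements.S5871
import Cfsg.Agent.Lib.AschEvenCases44
-- import your own Cfsg.Agent.* helpers here

set_option autoImplicit false
open Cfsg

namespace Cfsg.Agent.S5871

open Cfsg QuadraticMap Module Cfsg.Geo Cfsg.Agent

/-- Every maximal subgroup of Ω_12^+(q) is of one of the listed geometric types or lies in the residual class. Let F be a finite field with q elements (characteristic p), Q a non-degenerate quadratic form on F^12 of plus type (Witt index 6: some totally singular 6-space), Ω the commutator subgroup of its isometry group, and H a maximal subgroup of Ω (inside GL_12(F)). Then H is the intersection with Ω of one of: the stabiliser of a non-zero totally singular subspace of dimension ≠ 5; for q odd, the stabiliser of a non-degenerate subspace of odd dimension; the stabiliser of a non-degenerate 2-space of minus type; for q ≥ 4, the stabiliser of a non-degenerate 2-space of plus type; the stabiliser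 of a non-degenerate 4-space; for q even, the stabiliser of the span of a non-singular vector; for q = p an odd prime, the stabiliser of a decomposition into 12 pairwise orthogonal, pairwise isometric non-degenerate 1-spaces; for q ≥ 7, the stabiliser of a decomposition into 6 pairwise orthogonal, pairwise isometric non-degenerate 2-spaces of plus type; for q ≠ 3, the stabiliser of a decomposition into 6 pairwise orthogonal, pairwise isometric non-degenerate 2-spaces of minus type; for q odd with q ≥ 5, the stabiliser of a decomposition into 4 pairwise orthogonal, pairwise isometric non-degenerate 3-spaces; for q ≥ 3, the stabiliser of a decomposition into 3 pairwise orthogonal, pairwise isometric non-degenerate 4-spaces; the stabiliser of a decomposition into 2 pairwise orthogonal, pairwise isometric non-degenerate 6-spaces; of a decomposition into two totally singular 6-spaces; the normaliser of a degree-2 subfield of the matrix algebra;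 the normaliser of a degree-3 subfield of the matrix algebra; the normaliser of a degree-2 subfield K, adjoint-closed but not self-adjoint, acting by similarities of Q; for q ≥ 3, the stabiliser of a tensor decomposition of Q into alternating forms on F^2 and F^6 (Q vanishing on pure tensors); a subfield group (|F| = |F₀|^r, r prime) whose F₀-structure carries a non-zero multiple of Q — or else H lies in the residual class of the orthogonal case (modulo scalars H is almost simple, with absolutely irreducible perfect socle preimage realisable over no proper subfield and fixing no non-degenerate unitary form). -/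
theorem result {F : Type*} [Field F] [Fintype F] (Q : (Fin 12 → F) → F) (hQ : Cfsg.Geo.IsNondegenerateQuadraticForm Q) (hplus : Cfsg.Geo.IsPlusTypeOn Q ⊤) (H : Subgroup (Matrix.GeneralLinearGroup (Fin 12) F)) (hH : Cfsg.Geo.IsMaximalIn (Cfsg.Geo.omegaGL Q) H) :
    (∃ W : Submodule F (Fin 12 → F), W ≠ ⊥ ∧ Cfsg.Geo.IsTotallySingularQuad Q W ∧ Module.finrank F W ≠ 5 ∧ H = Cfsg.Geo.subspaceStabilizer W ⊓ Cfsg.Geo.omegaGL Q) ∨
    (Odd (Fintype.card F) ∧ ∃ W : Submodule F (Fin 12 → F), W ≠ ⊥ ∧ W ≠ ⊤ ∧ Odd (Module.finrank F W) ∧ 2 * Module.finrank F W ≠ 12 ∧ Cfsg.Geo.IsNondegenerateOn (QuadraticMap.polar Q) W ∧ H = Cfsg.Geo.subspaceStabilizer W ⊓ Cfsg.Geo.omegaGL Q) ∨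
    (∃ W : Submodule F (Fin 12 → F), Module.finrank F W = 2 ∧ Cfsg.Geo.IsNondegenerateOn (QuadraticMap.polar Q) W ∧ ¬ Cfsg.Geo.IsPlusTypeOn Q W ∧ H = Cfsg.Geo.subspaceStabilizer W ⊓ Cfsg.Geo.omegaGL Q) ∨
    (4 ≤ Fintype.card F ∧ ∃ W : Submodule F (Fin 12 → F), Module.finrank F W = 2 ∧ Cfsg.Geo.IsNondegenerateOn (QuadraticMap.polar Q) W ∧ Cfsg.Geo.IsPlusTypeOn Q W ∧ H = Cfsg.Geo.subspaceStabilizer W ⊓ Cfsg.Geo.omegaGL Q) ∨
    (∃ W : Submodule F (Fin 12 → F), Module.finrank F W = 4 ∧ Cfsg.Geo.IsNondegenerateOn (QuadraticMap.polar Q) W ∧ H = Cfsg.Geo.subspaceStabilizer W ⊓ Cfsg.Geo.omegaGL Q) ∨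
    (¬ Odd (Fintype.card F) ∧ ∃ v : (Fin 12 → F), Q v ≠ 0 ∧ H = Cfsg.Geo.subspaceStabilizer (Submodule.span F {v}) ⊓ Cfsg.Geo.omegaGL Q) ∨
    ((∃ p : ℕ, p.Prime ∧ Odd p ∧ Fintype.card F = p) ∧ ∃ D : Fin 12 → Submodule F (Fin 12 → F), Cfsg.Geo.IsOrthogonalMDecomposition Q 1 D ∧ H = Cfsg.Geo.decompositionStabilizer D ⊓ Cfsg.Geo.omegaGL Q) ∨
    (7 ≤ Fintype.card F ∧ ∃ D : Fin 6 → Submodule F (Fin 12 → F), Cfsg.Geo.IsOrthogonalMDecomposition Q 2 D ∧ (∀ i, Cfsg.Geo.IsPlusTypeOn Q (D i)) ∧ H = Cfsg.Geo.decompositionStabilizer D ⊓ Cfsg.Geo.omegaGL Q) ∨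
    (Fintype.card F ≠ 3 ∧ ∃ D : Fin 6 → Submodule F (Fin 12 → F), Cfsg.Geo.IsOrthogonalMDecomposition Q 2 D ∧ (∀ i, ¬ Cfsg.Geo.IsPlusTypeOn Q (D i)) ∧ H = Cfsg.Geo.decompositionStabilizer D ⊓ Cfsg.Geo.omegaGL Q) ∨
    (Odd (Fintype.card F) ∧ 5 ≤ Fintype.card F ∧ ∃ D : Fin 4 → Submodule F (Fin 12 → F), Cfsg.Geo.IsOrthogonalMDecomposition Q 3 D ∧ H = Cfsg.Geo.decompositionStabilizer D ⊓ Cfsg.Geo.omegaGL Q) ∨
    (3 ≤ Fintype.card F ∧ ∃ D : Fin 3 → Submodule F (Fin 12 → F), Cfsg.Geo.IsOrthogonalMDecomposition Q 4 D ∧ H = Cfsg.Geo.decompositionStabilizer D ⊓ Cfsg.Geo.omegaGL Q) ∨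
    (∃ D : Fin 2 → Submodule F (Fin 12 → F), Cfsg.Geo.IsOrthogonalMDecomposition Q 6 D ∧ H = Cfsg.Geo.decompositionStabilizer D ⊓ Cfsg.Geo.omegaGL Q) ∨
    (∃ D : Fin 2 → Submodule F (Fin 12 → F), Cfsg.Geo.IsMDecomposition 6 D ∧ (∀ i, Cfsg.Geo.IsTotallySingularQuad Q (D i)) ∧ H = Cfsg.Geo.decompositionStabilizer D ⊓ Cfsg.Geo.omegaGL Q) ∨
    (∃ K : Subalgebra F (Matrix (Fin 12) (Fin 12) F), Cfsg.Geo.IsFieldSubalgebra 2 K ∧ H = Cfsg.Geo.subalgebraNormalizer K ⊓ Cfsg.Geo.omegaGL Q) ∨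
    (∃ K : Subalgebra F (Matrix (Fin 12) (Fin 12) F), Cfsg.Geo.IsFieldSubalgebra 3 K ∧ H = Cfsg.Geo.subalgebraNormalizer K ⊓ Cfsg.Geo.omegaGL Q) ∨
    (∃ K : Subalgebra F (Matrix (Fin 12) (Fin 12) F), Cfsg.Geo.IsFieldSubalgebra 2 K ∧ Cfsg.Geo.IsAdjointClosedFor (QuadraticMap.polar Q) K ∧ ¬ Cfsg.Geo.IsSelfAdjointFor (QuadraticMap.polar Q) K ∧ (∀ k ∈ K, ∃ c : F, ∀ v : (Fin 12 → F), Q (Matrix.mulVec k v) = c * Q v) ∧ H = Cfsg.Geo.subalgebraNormalizer K ⊓ Cfsg.Geo.omegaGL Q) ∨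
    (3 ≤ Fintype.card F ∧ ∃ (e : Fin 12 ≃ Fin 2 × Fin 6) (P : Matrix.GeneralLinearGroup (Fin 12) F) (f₁ : (Fin 2 → F) → (Fin 2 → F) → F) (f₂ : (Fin 6 → F) → (Fin 6 → F) → F), Cfsg.Geo.IsSymplecticForm f₁ ∧ Cfsg.Geo.IsSymplecticForm f₂ ∧ Cfsg.Geo.IsTensorFormStructure id (QuadraticMap.polar Q) f₁ f₂ e P ∧ (∀ (x₁ : Fin 2 → F) (x₂ : Fin 6 → F), Q (Matrix.mulVec (P : Matrix (Fin 12) (Fin 12) F) ((fun a : Fin 2 × Fin 6 => x₁ a.1 * x₂ a.2) ∘ e)) = 0) ∧ H = Cfsg.Geo.tensorProductSubgroup 2 6 e P ⊓ Cfsg.Geo.omegaGL Q) ∨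
    (∃ (F₀ : Subfield F) (r : ℕ) (P : Matrix.GeneralLinearGroup (Fin 12) F) (ζ : F), r.Prime ∧ Fintype.card F = Nat.card F₀ ^ r ∧ ζ ≠ 0 ∧ Cfsg.Geo.IsQuadFormRationalStructure (fun v : Fin 12 → F => ζ * Q v) F₀ P ∧ H = Cfsg.Geo.subfieldSubgroup F₀ P ⊓ Cfsg.Geo.omegaGL Q) ∨
    Cfsg.Geo.InOrthogonalResidualClass H := by

  obtain ⟨q, rfl, hnd⟩ := OmegaGeo.exists_quad hQ
  have hsub : H ≤ omegaGL ⇑q := hH.1.le
  have hHq : ∀ g ∈ H, ∀ x, q (Matrix.mulVec (g : Matrix (Fin 12) (Fin 12) F) x) = q x :=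
    fun g hg x => AschEvenBase44.omega_quad (hsub hg) x
  by_cases hirr : AschPrimeBasic.Irred H
  · have hframe : ∀ (v : Fin 12 → Fin 12 → F) (ε : F), AschEvenFrame44.FrameData q H v ε →
        ((∃ p : ℕ, p.Prime ∧ Odd p ∧ Fintype.card F = p) ∧ ∃ D : Fin 12 → Submodule F (Fin 12 → F), IsOrthogonalMDecomposition (⇑q) 1 D ∧ H = decompositionStabilizer D ⊓ omegaGL ⇑q) ∨
          AschEvenCore44.SubfieldOut q H := by
      intro v ε hfr
      rcases AschEvenCases44.frame_out (m := 6) rfl (by norm_num) hnd hsub hfr with ⟨⟨p, hp, hpc⟩, h2, D, hD, hle⟩ | h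
      · exact Or.inl ⟨⟨p, hp, hpc ▸ AschEvenBase44.odd_of_two_ne_zero h2, hpc⟩, D, hD,
          AschEvenCases44.decomp_member (by norm_num) hnd hH hD.decomp hle⟩
      · exact Or.inr h
    have htens : ∀ (e : Fin 12 ≃ Fin 2 × Fin 6) (P : GL (Fin 12) F) (G₁ : Matrix (Fin 2) (Fin 2) F)
        (G₂ : Matrix (Fin 6) (Fin 6) F) (a b : F),
        AschFormAlg.CommSimple (RingEquiv.refl F) (polar ⇑q) H →
        AschFormAlg.TensorData (RingEquiv.refl F) 1 (polar ⇑q) H 2 6 e P G₁ G₂ a b →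
        (3 ≤ Fintype.card F ∧ ∃ (e : Fin 12 ≃ Fin 2 × Fin 6) (P : Matrix.GeneralLinearGroup (Fin 12) F) (f₁ : (Fin 2 → F) → (Fin 2 → F) → F) (f₂ : (Fin 6 → F) → (Fin 6 → F) → F), IsSymplecticForm f₁ ∧ IsSymplecticForm f₂ ∧ IsTensorFormStructure id (polar ⇑q) f₁ f₂ e P ∧ (∀ (x₁ : Fin 2 → F) (x₂ : Fin 6 → F), (⇑q) (Matrix.mulVec (P : Matrix (Fin 12) (Fin 12) F) ((fun a : Fin 2 × Fin 6 => x₁ a.1 * x₂ a.2) ∘ e)) = 0) ∧ H = tensorProductSubgroup 2 6 e P ⊓ omegaGL ⇑q) := by
      intro e P G₁ G₂ a b hcs hd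
      have hf := AschEvenBase44.formData hnd
      have hI := AschEvenBase44.isos hsub
      obtain ⟨h1, h1d, h2, h2d, -⟩ := AschEvenCases44.two_factor hnd hsub hirr hcs hd
      have h3 : 3 ≤ Fintype.card F := by
        have := Fintype.one_lt_card (α := F)
        by_contra hc
        exact AschEvenTensor44.plane_two (by omega) hf hI hcs hd (h1d 0) (h1d 1)
      have hT := AschFormStruct.tensor_structure hf one_ne_zero
        (e := e) (P := P) (G₁ := G₁) (G₂ := G₂) (by rw [one_smul]; exact hd.gram)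
      exact ⟨h3, e, P, _, _, AschFormStruct.symplectic_of_gram hd.det₁ h1 h1d,
        AschFormStruct.symplectic_of_gram hd.det₂ h2 h2d, hT,
        AschEvenTensor44.pure_zero (by simp) hirr hHq hf hI hd h1 h1d h2 h2d,
        AschEvenBase44.finish hH hd.le (AschEvenProper44.not_le_tensor hnd (by simp) le_rfl (by norm_num))⟩
    rcases AschEvenCases44.main_cases (m := 6) rfl (Or.inr (Or.inr rfl)) (fun h => absurd h (by norm_num)) hnd hsub
        hirr with ⟨t, k, D, hD, hle⟩ | ⟨k, D, hk, hD, hts, hle⟩ | ⟨r, K, hr, hK, -, -, hrn, hle⟩ |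
      ⟨k, l, e, P, G₁, G₂, a, b, hkl, hn, hcs, hd⟩ | h | h
    · have hn := AschEvenCases44.decomp_count hD.decomp.decomp
      have ht := hD.decomp.decomp.two_le
      have hk0 := hD.decomp.decomp.pos
      have hk6 : k ≤ 6 := by nlinarith
      have hdm := AschEvenCases44.decomp_member (by norm_num) hnd hH hD.decomp hle
      suffices h : (((∃ p : ℕ, p.Prime ∧ Odd p ∧ Fintype.card F = p) ∧ ∃ D : Fin 12 → Submodule F (Fin 12 → F), IsOrthogonalMDecomposition (⇑q) 1 D ∧ H = decompositionStabilizer D ⊓ omegaGL ⇑q)) ∨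
          ((7 ≤ Fintype.card F ∧ ∃ D : Fin 6 → Submodule F (Fin 12 → F), IsOrthogonalMDecomposition (⇑q) 2 D ∧ (∀ i, IsPlusTypeOn (⇑q) (D i)) ∧ H = decompositionStabilizer D ⊓ omegaGL ⇑q)) ∨
          ((Fintype.card F ≠ 3 ∧ ∃ D : Fin 6 → Submodule F (Fin 12 → F), IsOrthogonalMDecomposition (⇑q) 2 D ∧ (∀ i, ¬ IsPlusTypeOn (⇑q) (D i)) ∧ H = decompositionStabilizer D ⊓ omegaGL ⇑q)) ∨
          ((Odd (Fintype.card F) ∧ 5 ≤ Fintype.card F ∧ ∃ D : Fin 4 → Submodule F (Fin 12 → F), IsOrthogonalMDecomposition (⇑q) 3 D ∧ H = decompositionStabilizer D ⊓ omegaGL ⇑q)) ∨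
          ((3 ≤ Fintype.card F ∧ ∃ D : Fin 3 → Submodule F (Fin 12 → F), IsOrthogonalMDecomposition (⇑q) 4 D ∧ H = decompositionStabilizer D ⊓ omegaGL ⇑q)) ∨
          ((∃ D : Fin 2 → Submodule F (Fin 12 → F), IsOrthogonalMDecomposition (⇑q) 6 D ∧ H = decompositionStabilizer D ⊓ omegaGL ⇑q)) ∨ AschEvenCore44.SubfieldOut q H by
        rcases h with h | h | h | h | h | h | h
        · exact Or.inr (Or.inr (Or.inr (Or.inr (Or.inr (Or.inr (Or.inl (h)))))))
        · exact Or.inr (Or.inr (Or.inr (Or.inr (Or.inr (Or.inr (Or.inr (Or.inl (h))))))))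
        · exact Or.inr (Or.inr (Or.inr (Or.inr (Or.inr (Or.inr (Or.inr (Or.inr (Or.inl (h)))))))))
        · exact Or.inr (Or.inr (Or.inr (Or.inr (Or.inr (Or.inr (Or.inr (Or.inr (Or.inr (Or.inl (h))))))))))
        · exact Or.inr (Or.inr (Or.inr (Or.inr (Or.inr (Or.inr (Or.inr (Or.inr (Or.inr (Or.inr (Or.inl (h)))))))))))
        · exact Or.inr (Or.inr (Or.inr (Or.inr (Or.inr (Or.inr (Or.inr (Or.inr (Or.inr (Or.inr (Or.inr (Or.inl (h))))))))))))
        · obtain ⟨F₀, r, P, ζ, hr, -, hc, hζ, hrat, hH'⟩ := AschEvenCases44.subfield_member (by norm_num) hnd hH h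
          exact Or.inr (Or.inr (Or.inr (Or.inr (Or.inr (Or.inr (Or.inr (Or.inr (Or.inr (Or.inr (Or.inr (Or.inr (Or.inr (Or.inr (Or.inr (Or.inr (Or.inr (Or.inl (⟨F₀, r, P, ζ, hr, hc, hζ, hrat, hH'⟩))))))))))))))))))
      have hn0 : ∀ i, QuadClassify.Nondeg q (D i) := fun i => AschEvenType44.nondeg_iff.1 (hD.decomp.nondegenerate i)
      have use : ∀ (i : Fin t) (ε : F), ε ≠ 0 → (2 : F) ≠ 0 → OmegaDecompThree.Frame q (D i) ε →
          (((∃ p : ℕ, p.Prime ∧ Odd p ∧ Fintype.card F = p) ∧ ∃ D : Fin 12 → Submodule F (Fin 12 → F), IsOrthogonalMDecomposition (⇑q) 1 D ∧ H = decompositionStabilizer D ⊓ omegaGL ⇑q)) ∨ AschEvenCore44.SubfieldOut q H :=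
        fun i ε hε h2 hf => by
          obtain ⟨v, hfr⟩ := AschEvenFrame44.frame_of_member h2 hirr hHq hD.decomp hle i hε hf
          exact hframe v _ hfr
      interval_cases k
      · obtain rfl : t = 12 := by omega
        obtain ⟨v, ε, hfr⟩ := AschEvenFrame44.frame_of_lines hirr hHq hD.decomp hle
        exact (hframe v _ hfr).elim Or.inl fun h => Or.inr (Or.inr (Or.inr (Or.inr (Or.inr (Or.inr h)))))
      · obtain rfl : t = 6 := by omega
        have hd0 := hD.decomp.decomp.finrank_eq 0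
        by_cases hp0 : IsPlusTypeOn (⇑q) (D 0)
        · have hp : ∀ i, IsPlusTypeOn (⇑q) (D i) := fun i => AschEvenCases44.same_type (j := 1) hD 0 i hp0
          rcases AschEvenCases44.card_small (F := F) with h2F | h3 | h4 | h5 | h7
          · exact (AschEvenFrame44.two_planes h2F hirr hHq hD.decomp hle hp).elim
          · exact (use 0 1 one_ne_zero (OmegaDecompThree.two_ne h3) (OmegaDecompThree.frame_two h3 (hn0 0) hd0 one_ne_zero)).elim Or.inl fun h => Or.inr (Or.inr (Or.inr (Or.inr (Or.inr (Or.inr h)))))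
          · exact Or.inr (Or.inr (Or.inr (Or.inr (Or.inr (Or.inr
              (AschEvenCases44.four_out (m := 6) rfl hnd hsub h4 hD.decomp hle hp))))))
          · exact (use 0 1 one_ne_zero (AschEvenBase44.two_ne_zero_of_odd (by rw [h5]; decide)) (AschEvenFrame44.frame_five h5 (hn0 0) hd0 hp0)).elim Or.inl fun h => Or.inr (Or.inr (Or.inr (Or.inr (Or.inr (Or.inr h)))))
          · exact Or.inr (Or.inl ⟨h7, D, hD, hp, hdm⟩)
        · by_cases h3 : Fintype.card F = 3
          · exact (use 0 1 one_ne_zero (OmegaDecompThree.two_ne h3) (OmegaDecompThree.frame_two h3 (hn0 0) hd0 one_ne_zero)).elim Or.inl fun h => Or.inr (Or.inr (Or.inr (Or.inr (Or.inr (Or.inr h)))))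
          · exact Or.inr (Or.inr (Or.inl ⟨h3, D, hD,
              fun i hpi => hp0 (AschEvenCases44.same_type (j := 1) hD i 0 hpi), hdm⟩))
      · obtain rfl : t = 4 := by omega
        have hd0 := hD.decomp.decomp.finrank_eq 0
        have h2 := AschEvenReduce44.two_ne_zero_of_odd_dim (hn0 0) (by rw [hd0]; decide)
        have hodd := AschEvenBase44.odd_of_two_ne_zero h2
        by_cases h5 : 5 ≤ Fintype.card F
        · exact Or.inr (Or.inr (Or.inr (Or.inl ⟨hodd, h5, D, hD, hdm⟩)))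
        · have h3 : Fintype.card F = 3 := by
            have := Fintype.one_lt_card (α := F)
            have := Nat.odd_iff.1 hodd
            omega
          obtain ⟨ε, hε, hf⟩ := OmegaDecompThree.frame_three h3 (hn0 0) hd0
          exact (use 0 ε hε h2 hf).elim Or.inl fun h => Or.inr (Or.inr (Or.inr (Or.inr (Or.inr (Or.inr h)))))
      · obtain rfl : t = 3 := by omega
        by_cases h3 : 3 ≤ Fintype.card F
        · exact Or.inr (Or.inr (Or.inr (Or.inr (Or.inl ⟨h3, D, hD, hdm⟩))))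
        · have h2F : Fintype.card F = 2 := by
            have := Fintype.one_lt_card (α := F)
            omega
          obtain ⟨E, hE, hEp, hEle⟩ := AschEvenCases44.refine_planes h2F rfl hsub hD hle fun i =>
            ((AschEvenType44.plus_iff_members (j := 2) hnd hD i).1 hplus).resolve_right (by decide)
          exact Or.inr (Or.inr (Or.inl ⟨by omega, E, hE, hEp,
            AschEvenCases44.decomp_member (by norm_num) hnd hH hE.decomp hEle⟩))
      · omega
      · obtain rfl : t = 2 := by omega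
        exact Or.inr (Or.inr (Or.inr (Or.inr (Or.inr (Or.inl ⟨D, hD, hdm⟩)))))
    · obtain rfl : k = 6 := by omega
      exact Or.inr (Or.inr (Or.inr (Or.inr (Or.inr (Or.inr (Or.inr (Or.inr (Or.inr (Or.inr (Or.inr (Or.inr (Or.inl (⟨D, hD, hts, AschEvenBase44.finish hH hle (AschEvenProper44.not_le_decomposition hnd (by simp) hD (Or.inr (Or.inl (by norm_num))))⟩)))))))))))))
    · have hH' := AschEvenCases44.field_member (by norm_num) hnd hH hr.two_le hK hle
      have h23 : r = 2 ∨ r = 3 := by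
        have := Nat.le_of_dvd (by norm_num) hrn
        have := hr.two_le
        interval_cases r <;> first | omega | (norm_num at hr)
      rcases h23 with rfl | rfl
      · exact Or.inr (Or.inr (Or.inr (Or.inr (Or.inr (Or.inr (Or.inr (Or.inr (Or.inr (Or.inr (Or.inr (Or.inr (Or.inr (Or.inl (⟨K, hK, hH'⟩))))))))))))))
      · exact Or.inr (Or.inr (Or.inr (Or.inr (Or.inr (Or.inr (Or.inr (Or.inr (Or.inr (Or.inr (Or.inr (Or.inr (Or.inr (Or.inr (Or.inl (⟨K, hK, hH'⟩)))))))))))))))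
    · have hk := hd.two_le₁
      have h23 : k = 2 ∨ k = 3 := by
        have hk3 : k ≤ 3 := by
          by_contra hc
          nlinarith
        omega
      rcases h23 with rfl | rfl
      · obtain rfl : l = 6 := by omega
        exact Or.inr (Or.inr (Or.inr (Or.inr (Or.inr (Or.inr (Or.inr (Or.inr (Or.inr (Or.inr (Or.inr (Or.inr (Or.inr (Or.inr (Or.inr (Or.inr (Or.inl (htens e P G₁ G₂ a b hcs hd)))))))))))))))))
      obtain rfl : l = 4 := by omega
      obtain ⟨h2, hs₁, hs₂⟩ := AschEvenCases44.three_factor hnd hsub hirr hd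
      obtain ⟨e', P', J₁, J₂, hd'⟩ := AschEvenTensor44.three_four h2 (AschEvenBase44.formData hnd)
        (AschEvenBase44.isos hsub) (fun g hg => AschEvenBase44.omega_det (hsub hg)) hd hs₁ hs₂
        ((AschEvenCases44.copies_type h2 hnd hd hs₁ hs₂).1 hplus)
      exact Or.inr (Or.inr (Or.inr (Or.inr (Or.inr (Or.inr (Or.inr (Or.inr (Or.inr (Or.inr (Or.inr (Or.inr (Or.inr (Or.inr (Or.inr (Or.inr (Or.inl (htens e' P' J₁ J₂ _ _ hcs hd')))))))))))))))))
    · obtain ⟨F₀, r, P, ζ, hr, -, hc, hζ, hrat, hH'⟩ := AschEvenCases44.subfield_member (by norm_num) hnd hH h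
      exact Or.inr (Or.inr (Or.inr (Or.inr (Or.inr (Or.inr (Or.inr (Or.inr (Or.inr (Or.inr (Or.inr (Or.inr (Or.inr (Or.inr (Or.inr (Or.inr (Or.inr (Or.inl (⟨F₀, r, P, ζ, hr, hc, hζ, hrat, hH'⟩))))))))))))))))))
    · exact Or.inr (Or.inr (Or.inr (Or.inr (Or.inr (Or.inr (Or.inr (Or.inr (Or.inr (Or.inr (Or.inr (Or.inr (Or.inr (Or.inr (Or.inr (Or.inr (Or.inr (Or.inr (h))))))))))))))))))
  · rcases AschEvenCases44.reducible_member (by norm_num) hnd hH hirr with
      ⟨U, hb, hts, hle, hi, hH'⟩ | ⟨hev, v, hv, hH'⟩ | ⟨U, hb, ht, hU, hle, h1, hH', hodd, hpl, hpair⟩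
    · by_cases h5 : finrank F U = 5
      · obtain ⟨W, hW, hWd, hWi⟩ := AschEvenReduce44.submaximal hnd (by simp) hplus hsub hts hi (by simp [h5])
        rw [Fintype.card_fin] at hWd
        have hWb : W ≠ ⊥ := AschEvenCases44.ne_bot_of_finrank (by omega)
        exact Or.inl (⟨W, hWb, hW, by omega, AschEvenCases44.subspace_member (by norm_num) hnd hH hWi hWb (AschEvenCases44.ne_top_of_finrank (by omega))⟩)
      · exact Or.inl (⟨U, hb, hts, h5, hH'⟩)
    · exact Or.inr (Or.inr (Or.inr (Or.inr (Or.inr (Or.inl (⟨hev, v, hv, hH'⟩))))))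
    · by_cases h6 : finrank F U = 6
      · obtain ⟨U', hd', hU', hD, hDle⟩ := hpair (by omega)
        rw [h6] at hd' hD
        exact Or.inr (Or.inr (Or.inr (Or.inr (Or.inr (Or.inr (Or.inr (Or.inr (Or.inr (Or.inr (Or.inr (Or.inl (⟨_, AschEvenCases44.pair_isometric (j := 3) rfl hnd hplus h6 hd' hU hU' hD, AschEvenCases44.decomp_member (by norm_num) hnd hH hD hDle⟩))))))))))))
      by_cases ho : Odd (finrank F U)
      · exact Or.inr (Or.inl (⟨hodd ho, U, hb, ht, ho, by omega, hU, hH'⟩))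
      · have h24 : finrank F U = 2 ∨ finrank F U = 4 := by
          have he := Nat.even_iff.1 (Nat.not_odd_iff_even.1 ho)
          omega
        rcases h24 with h2 | h4
        · by_cases hp : IsPlusTypeOn (⇑q) U
          · exact Or.inr (Or.inr (Or.inr (Or.inl (⟨hpl h2 hp, U, h2, hU, hp, hH'⟩))))
          · exact Or.inr (Or.inr (Or.inl (⟨U, h2, hU, hp, hH'⟩)))
        · exact Or.inr (Or.inr (Or.inr (Or.inr (Or.inl (⟨U, h4, hU, hH'⟩)))))

end Cfsg.Agent.S5871
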