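import Cfsg.Statements.S5873
import Cfsg.Agent.Lib.OmegaMaxGlue
import Cfsg.Agent.Lib.OmegaStabSingular
import Cfsg.Agent.Lib.OmegaStabNonsingular
import Cfsg.Agent.Lib.OmegaNondegMax11
import Cfsg.Agent.Lib.OmegaStabNondegGlue
import Cfsg.Agent.Lib.OmegaDecompTwoGlue
import Cfsg.Agent.Lib.OmegaStd
import Cfsg.Agent.Lib.ExtFieldOrthGlue
import Cfsg.Agent.Lib.OrthSubfieldMax44
import Cfsg.Agent.Lib.OrthUnitaryTensorThreeFourGlue

set_option autoImplicit false
open Cfsg

namespace Cfsg.Agent.S5873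

open Cfsg.Agent.OmegaGeo Cfsg.Agent.OmegaMaxGlue

/-- Maximal subgroups of Ω_12^-(q) of geometric type (any q). Let F be a finite field with q elements (characteristic p), Q a non-degenerate quadratic form on F^12 (non-degenerate polar form) of minus type (Witt index 5: no totally singular 6-space), and Ω = Ω_12^-(q) the commutator subgroup of the isometry group of Q, inside GL_12(F). Each of the following, intersected with Ω, is a maximal subgroup of Ω: (1) the stabiliser of any non-zero subspace on which Q vanishes identically (totally singular subspaces, dimensions 1 to 5); (2) for q odd, the stabiliser of any subspace of odd dimension on which the polar form of Q is non-degenerate; (3) the stabiliser of any non-degenerate 2-space of minus type (containing no non-zero singular vector); (4) for q ≥ 4, the stabiliser of any non-degenerate 2-space of plus type (containing a non-zero singular vector); (5) the stabiliser of any non-degenerate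 4-space (either type); (6) the stabiliser of any non-degenerate 6-space (either type); (7) for q even, the stabiliser of the 1-space spanned by any non-singular vector v (Q(v) ≠ 0); (8) the stabiliser of any decomposition of F^12 into 3 pairwise orthogonal, pairwise Q-isometric non-degenerate 4-spaces of minus type; (9) for q odd, the normaliser of any degree-2 subfield K of the matrix algebra whose elements are self-adjoint for the polar form of Q (Q is then the trace of a quadratic form over K); (10) for q odd, the normaliser of any degree-3 subfield K of the matrix algebra whose elements are self-adjoint for the polar form of Q (Q is then the trace of a quadratic form over K); (11) for q odd with q ≥ 5, the stabiliser of any tensor decomposition F^12 = F^3 ⊗ F^4 in which the polar form of Q is the product of non-degenerate symmetric bilinear forms, the second of minus type, up to a scalar; (12) every subfield group for a subfield F₀ with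 |F| = |F₀|^r, r an odd prime, whose F₀-structure carries a non-zero scalar multiple of Q. -/
theorem result {F : Type*} [Field F] [Fintype F] (Q : (Fin 12 → F) → F) (hQ : Cfsg.Geo.IsNondegenerateQuadraticForm Q) (hminus : ¬ Cfsg.Geo.IsPlusTypeOn Q ⊤) :
    (∀ W : Submodule F (Fin 12 → F), W ≠ ⊥ → Cfsg.Geo.IsTotallySingularQuad Q W → Cfsg.Geo.IsMaximalIn (Cfsg.Geo.omegaGL Q) (Cfsg.Geo.subspaceStabilizer W ⊓ Cfsg.Geo.omegaGL Q)) ∧
    (Odd (Fintype.card F) → ∀ W : Submodule F (Fin 12 → F), W ≠ ⊥ → W ≠ ⊤ → Odd (Module.finrank F W) → 2 * Module.finrank F W ≠ 12 → Cfsg.Geo.IsNondegenerateOn (QuadraticMap.polar Q) W → Cfsg.Geo.IsMaximalIn (Cfsg.Geo.omegaGL Q) (Cfsg.Geo.subspaceStabilizer W ⊓ Cfsg.Geo.omegaGL Q)) ∧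
    (∀ W : Submodule F (Fin 12 → F), Module.finrank F W = 2 → Cfsg.Geo.IsNondegenerateOn (QuadraticMap.polar Q) W → ¬ Cfsg.Geo.IsPlusTypeOn Q W → Cfsg.Geo.IsMaximalIn (Cfsg.Geo.omegaGL Q) (Cfsg.Geo.subspaceStabilizer W ⊓ Cfsg.Geo.omegaGL Q)) ∧
    (4 ≤ Fintype.card F → ∀ W : Submodule F (Fin 12 → F), Module.finrank F W = 2 → Cfsg.Geo.IsNondegenerateOn (QuadraticMap.polar Q) W → Cfsg.Geo.IsPlusTypeOn Q W → Cfsg.Geo.IsMaximalIn (Cfsg.Geo.omegaGL Q) (Cfsg.Geo.subspaceStabilizer W ⊓ Cfsg.Geo.omegaGL Q)) ∧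
    (∀ W : Submodule F (Fin 12 → F), Module.finrank F W = 4 → Cfsg.Geo.IsNondegenerateOn (QuadraticMap.polar Q) W → Cfsg.Geo.IsMaximalIn (Cfsg.Geo.omegaGL Q) (Cfsg.Geo.subspaceStabilizer W ⊓ Cfsg.Geo.omegaGL Q)) ∧
    (∀ W : Submodule F (Fin 12 → F), Module.finrank F W = 6 → Cfsg.Geo.IsNondegenerateOn (QuadraticMap.polar Q) W → Cfsg.Geo.IsMaximalIn (Cfsg.Geo.omegaGL Q) (Cfsg.Geo.subspaceStabilizer W ⊓ Cfsg.Geo.omegaGL Q)) ∧
    (¬ Odd (Fintype.card F) → ∀ v : (Fin 12 → F), Q v ≠ 0 → Cfsg.Geo.IsMaximalIn (Cfsg.Geo.omegaGL Q) (Cfsg.Geo.subspaceStabilizer (Submodule.span F {v}) ⊓ Cfsg.Geo.omegaGL Q)) ∧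
    (∀ D : Fin 3 → Submodule F (Fin 12 → F), Cfsg.Geo.IsOrthogonalMDecomposition Q 4 D → (∀ i, ¬ Cfsg.Geo.IsPlusTypeOn Q (D i)) → Cfsg.Geo.IsMaximalIn (Cfsg.Geo.omegaGL Q) (Cfsg.Geo.decompositionStabilizer D ⊓ Cfsg.Geo.omegaGL Q)) ∧
    (Odd (Fintype.card F) → ∀ K : Subalgebra F (Matrix (Fin 12) (Fin 12) F), Cfsg.Geo.IsFieldSubalgebra 2 K → Cfsg.Geo.IsSelfAdjointFor (QuadraticMap.polar Q) K → Cfsg.Geo.IsMaximalIn (Cfsg.Geo.omegaGL Q) (Cfsg.Geo.subalgebraNormalizer K ⊓ Cfsg.Geo.omegaGL Q)) ∧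
    (Odd (Fintype.card F) → ∀ K : Subalgebra F (Matrix (Fin 12) (Fin 12) F), Cfsg.Geo.IsFieldSubalgebra 3 K → Cfsg.Geo.IsSelfAdjointFor (QuadraticMap.polar Q) K → Cfsg.Geo.IsMaximalIn (Cfsg.Geo.omegaGL Q) (Cfsg.Geo.subalgebraNormalizer K ⊓ Cfsg.Geo.omegaGL Q)) ∧
    (Odd (Fintype.card F) ∧ 5 ≤ Fintype.card F → ∀ (e : Fin 12 ≃ Fin 3 × Fin 4) (P : Matrix.GeneralLinearGroup (Fin 12) F) (f₁ : (Fin 3 → F) → (Fin 3 → F) → F) (f₂ : (Fin 4 → F) → (Fin 4 → F) → F), Cfsg.Geo.IsSymmetricForm f₁ → Cfsg.Geo.IsSymmetricForm f₂ → ¬ Cfsg.Geo.IsPlusTypeOn (fun v : Fin 4 → F => f₂ v v) ⊤ → Cfsg.Geo.IsTensorFormStructure id (QuadraticMap.polar Q) f₁ f₂ e P → Cfsg.Geo.IsMaximalIn (Cfsg.Geo.omegaGL Q) (Cfsg.Geo.tensorProductSubgroup 3 4 e P ⊓ Cfsg.Geo.omegaGL Q)) ∧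
    (∀ (F₀ : Subfield F) (r : ℕ) (P : Matrix.GeneralLinearGroup (Fin 12) F) (ζ : F), r.Prime → Odd r → Fintype.card F = Nat.card F₀ ^ r → ζ ≠ 0 → Cfsg.Geo.IsQuadFormRationalStructure (fun v : Fin 12 → F => ζ * Q v) F₀ P → Cfsg.Geo.IsMaximalIn (Cfsg.Geo.omegaGL Q) (Cfsg.Geo.subfieldSubgroup F₀ P ⊓ Cfsg.Geo.omegaGL Q)) := by
  classical
  obtain ⟨q, rfl, hnd⟩ := exists_quad hQ
  have hd : Module.finrank F (Fin 12 → F) = 12 := by simp
  have hnoL : ∀ U : Submodule F (Fin 12 → F), (∀ u ∈ U, q u = 0) →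
      2 * Module.finrank F U = 12 → False := fun U hU hU2 =>
    hminus ⟨U, le_top, hU, by rw [finrank_top, hd]; exact hU2⟩
  have hnd2 : ∀ W : Submodule F (Fin 12 → F), W ≠ ⊥ → W ≠ ⊤ →
      Cfsg.Geo.IsNondegenerateOn (QuadraticMap.polar q) W →
      (2 * Module.finrank F W = 12 → Even (Module.finrank F W)) →
      (Fintype.card F ≤ 3 → Module.finrank F W = 2 → ¬ Cfsg.Geo.IsPlusTypeOn (⇑q) W) →
      Module.finrank F W ≠ 10 →
      Cfsg.Geo.IsMaximalIn (Cfsg.Geo.omegaGL ⇑q) (Cfsg.Geo.subspaceStabilizer W ⊓ Cfsg.Geo.omegaGL ⇑q) := by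
    intro W hW0 hW1 hW hhalf h2 h10
    refine OmegaNondegMax11.isMaximalIn hnd hW hW0 hW1 (by omega) (fun h => absurd h (by omega))
      (fun _ h => absurd h (by omega)) (fun h g hg => ?_) ?_
    · rw [hd] at h
      obtain ⟨m, hm⟩ := hhalf h
      obtain ⟨U, hU, hU2⟩ := OmegaStabNondegGlue.exists_lagr_of_isometric hnd (S := W) (fun u hu hz => by
        by_contra h0
        obtain ⟨x, hx, hne⟩ := (hW u hu h0).2
        exact hne (hz x hx)) (m := m) (by omega) (by omega) g hg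
      exact hnoL U hU (hU2.trans hd)
    · rintro ⟨hq, U, hU, -, hUp, rfl | ⟨-, hs⟩⟩
      · exact h2 hq hU hUp
      · omega
  have hne : ∀ W : Submodule F (Fin 12 → F), ∀ k, Module.finrank F W = k → 0 < k → k < 12 → W ≠ ⊥ ∧ W ≠ ⊤ := by
    intro W k hk h0 h1
    constructor <;> rintro rfl
    · rw [finrank_bot] at hk; omega
    · rw [finrank_top, hd] at hk; omega
  refine ⟨?_, ?_, ?_, ?_, ?_, ?_, ?_, ?_, ?_, ?_, ?_, ?_⟩
  · intro W hW0 hW
    exact isMaximalIn_stabilizer (OmegaStabSingular.exists_move hnd (by omega) hW0 hW)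
      fun M hM g hg _ hgW => OmegaStabSingular.commutator_le hnd (by omega) hW
        (fun U hU _ => hnoL U hU.1 (hU.2.trans hd)) M hM hg hgW
  · intro _ W hW0 hW1 ho hhalf hW
    exact hnd2 W hW0 hW1 hW (fun h => absurd h hhalf)
      (fun _ h => absurd (h ▸ ho) (by decide)) (fun h => absurd (h ▸ ho) (by decide))
  · intro W h hW hm
    obtain ⟨h0, h1⟩ := hne W 2 h (by omega) (by omega)
    exact hnd2 W h0 h1 hW (fun _ => ⟨1, h⟩) (fun _ _ => hm) (by omega)
  · intro hq W h hW _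
    obtain ⟨h0, h1⟩ := hne W 2 h (by omega) (by omega)
    exact hnd2 W h0 h1 hW (fun _ => ⟨1, h⟩) (fun h3 => absurd h3 (by omega)) (by omega)
  · intro W h hW
    obtain ⟨h0, h1⟩ := hne W 4 h (by omega) (by omega)
    exact hnd2 W h0 h1 hW (fun _ => ⟨2, h⟩) (fun _ h' => absurd h' (by omega)) (by omega)
  · intro W h hW
    obtain ⟨h0, h1⟩ := hne W 6 h (by omega) (by omega)
    exact hnd2 W h0 h1 hW (fun _ => ⟨3, h⟩) (fun _ h' => absurd h' (by omega)) (by omega)
  · intro _ v hv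
    exact isMaximalIn_stabilizer (OmegaStabNonsingular.exists_move hnd (by omega) hv)
      fun M hM g hg _ hgW => OmegaStabNonsingular.commutator_le hnd (by omega) hv M hM hg hgW
  · intro D hD hm
    have hdec := OmegaDecompGlue.dec_of_decomposition hD
    refine OmegaDecompGlue.isMaximalIn hnd hD ⟨by omega, by omega, by omega, fun _ => le_rfl,
      fun h => absurd h (by omega), fun h => absurd h (by omega),
      fun _ _ i a ha b hb hQa hQb hab =>
        OmegaDecompTwoGlue.dep_of_not_plus (hdec.dim i) (hm i) ha hb hQa hQb hab⟩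
  · intro hodd K hK hsa
    exact Cfsg.Agent.ExtFieldOrthGlue.isMaximalIn q hnd (OmegaStd.two_ne_zero rfl hodd) Nat.prime_two K hK hsa
      (by simp) (by simp)
  · intro hodd K hK hsa
    exact Cfsg.Agent.ExtFieldOrthGlue.isMaximalIn q hnd (OmegaStd.two_ne_zero rfl hodd) Nat.prime_three K hK hsa
      (by simp) (fun _ => le_rfl)
  · rintro ⟨hodd, hq⟩ e P f₁ f₂ hf₁ hf₂ hm hP
    exact OrthUnitaryTensorThreeFour.isMaximalIn q (OmegaStd.two_ne_zero rfl hodd) hq e P f₁ f₂ hf₁ hf₂ hm hP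
  · intro F₀ r P ζ hr _ hcard hζ hP
    rw [← OrthSubfieldMax44.omegaGL_smul hζ ⇑q]
    have hnd' : (QuadraticMap.polarBilin (ζ • q)).Nondegenerate := by
      have h : ∀ v w, QuadraticMap.polar (⇑(ζ • q)) v w = ζ * QuadraticMap.polar (⇑q) v w := fun v w => by
        simp only [QuadraticMap.polar, QuadraticMap.smul_apply, smul_eq_mul]; ring
      exact ⟨fun v hv => hnd.1 v fun w => (mul_eq_zero.1 ((h v w).symm.trans (hv w))).resolve_left hζ,
        fun v hv => hnd.2 v fun w => (mul_eq_zero.1 ((h w v).symm.trans (hv w))).resolve_left hζ⟩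
    exact OrthSubfieldMax44.isMaximalIn (ζ • q) hnd' (by simp) F₀ r hr hcard P hP

end Cfsg.Agent.S5873
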