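import Cfsg.Statements.S5874
import Cfsg.Agent.Lib.AschEvenCases44

set_option autoImplicit false
open Cfsg QuadraticMap Module Cfsg.Geo Cfsg.Agent

namespace Cfsg.Agent.S5874

/-- Every maximal subgroup of Ω_12^-(q) is of one of the listed geometric types or lies in the residual class. Let F be a finite field with q elements (characteristic p), Q a non-degenerate quadratic form on F^12 of minus type (Witt index 5: no totally singular 6-space), Ω the commutator subgroup of its isometry group, and H a maximal subgroup of Ω (inside GL_12(F)). Then H is the intersection with Ω of one of: the stabiliser of a non-zero totally singular subspace; for q odd, the stabiliser of a non-degenerate subspace of odd dimension; the stabiliser of a non-degenerate 2-space of minus type; for q ≥ 4, the stabiliser of a non-degenerate 2-space of plus type; the stabiliser of a non-degenerate 4-space; the stabiliser of a non-degenerate 6-space; for q even, the stabiliser of the span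 of a non-singular vector; the stabiliser of a decomposition into 3 pairwise orthogonal, pairwise isometric non-degenerate 4-spaces of minus type; the normaliser of a degree-2 subfield of the matrix algebra; the normaliser of a degree-3 subfield of the matrix algebra; for q odd with q ≥ 5, the stabiliser of a tensor decomposition of the polar form into symmetric forms on F^3 and F^4 (minus type); a subfield group (|F| = |F₀|^r, r odd prime) whose F₀-structure carries a non-zero multiple of Q — or else H lies in the residual class of the orthogonal case (modulo scalars H is almost simple, with absolutely irreducible perfect socle preimage realisable over no proper subfield and fixing no non-degenerate unitary form). -/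
theorem result {F : Type*} [Field F] [Fintype F] (Q : (Fin 12 → F) → F) (hQ : Cfsg.Geo.IsNondegenerateQuadraticForm Q) (hminus : ¬ Cfsg.Geo.IsPlusTypeOn Q ⊤) (H : Subgroup (Matrix.GeneralLinearGroup (Fin 12) F)) (hH : Cfsg.Geo.IsMaximalIn (Cfsg.Geo.omegaGL Q) H) :
    (∃ W : Submodule F (Fin 12 → F), W ≠ ⊥ ∧ Cfsg.Geo.IsTotallySingularQuad Q W ∧ H = Cfsg.Geo.subspaceStabilizer W ⊓ Cfsg.Geo.omegaGL Q) ∨
    (Odd (Fintype.card F) ∧ ∃ W : Submodule F (Fin 12 → F), W ≠ ⊥ ∧ W ≠ ⊤ ∧ Odd (Module.finrank F W) ∧ 2 * Module.finrank F W ≠ 12 ∧ Cfsg.Geo.IsNondegenerateOn (QuadraticMap.polar Q) W ∧ H = Cfsg.Geo.subspaceStabilizer W ⊓ Cfsg.Geo.omegaGL Q) ∨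
    (∃ W : Submodule F (Fin 12 → F), Module.finrank F W = 2 ∧ Cfsg.Geo.IsNondegenerateOn (QuadraticMap.polar Q) W ∧ ¬ Cfsg.Geo.IsPlusTypeOn Q W ∧ H = Cfsg.Geo.subspaceStabilizer W ⊓ Cfsg.Geo.omegaGL Q) ∨
    (4 ≤ Fintype.card F ∧ ∃ W : Submodule F (Fin 12 → F), Module.finrank F W = 2 ∧ Cfsg.Geo.IsNondegenerateOn (QuadraticMap.polar Q) W ∧ Cfsg.Geo.IsPlusTypeOn Q W ∧ H = Cfsg.Geo.subspaceStabilizer W ⊓ Cfsg.Geo.omegaGL Q) ∨
    (∃ W : Submodule F (Fin 12 → F), Module.finrank F W = 4 ∧ Cfsg.Geo.IsNondegenerateOn (QuadraticMap.polar Q) W ∧ H = Cfsg.Geo.subspaceStabilizer W ⊓ Cfsg.Geo.omegaGL Q) ∨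
    (∃ W : Submodule F (Fin 12 → F), Module.finrank F W = 6 ∧ Cfsg.Geo.IsNondegenerateOn (QuadraticMap.polar Q) W ∧ H = Cfsg.Geo.subspaceStabilizer W ⊓ Cfsg.Geo.omegaGL Q) ∨
    (¬ Odd (Fintype.card F) ∧ ∃ v : (Fin 12 → F), Q v ≠ 0 ∧ H = Cfsg.Geo.subspaceStabilizer (Submodule.span F {v}) ⊓ Cfsg.Geo.omegaGL Q) ∨
    (∃ D : Fin 3 → Submodule F (Fin 12 → F), Cfsg.Geo.IsOrthogonalMDecomposition Q 4 D ∧ (∀ i, ¬ Cfsg.Geo.IsPlusTypeOn Q (D i)) ∧ H = Cfsg.Geo.decompositionStabilizer D ⊓ Cfsg.Geo.omegaGL Q) ∨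
    (∃ K : Subalgebra F (Matrix (Fin 12) (Fin 12) F), Cfsg.Geo.IsFieldSubalgebra 2 K ∧ H = Cfsg.Geo.subalgebraNormalizer K ⊓ Cfsg.Geo.omegaGL Q) ∨
    (∃ K : Subalgebra F (Matrix (Fin 12) (Fin 12) F), Cfsg.Geo.IsFieldSubalgebra 3 K ∧ H = Cfsg.Geo.subalgebraNormalizer K ⊓ Cfsg.Geo.omegaGL Q) ∨
    (Odd (Fintype.card F) ∧ 5 ≤ Fintype.card F ∧ ∃ (e : Fin 12 ≃ Fin 3 × Fin 4) (P : Matrix.GeneralLinearGroup (Fin 12) F) (f₁ : (Fin 3 → F) → (Fin 3 → F) → F) (f₂ : (Fin 4 → F) → (Fin 4 → F) → F), Cfsg.Geo.IsSymmetricForm f₁ ∧ Cfsg.Geo.IsSymmetricForm f₂ ∧ ¬ Cfsg.Geo.IsPlusTypeOn (fun v : Fin 4 → F => f₂ v v) ⊤ ∧ Cfsg.Geo.IsTensorFormStructure id (QuadraticMap.polar Q) f₁ f₂ e P ∧ H = Cfsg.Geo.tensorProductSubgroup 3 4 e P ⊓ Cfsg.Geo.omegaGL Q) ∨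
    (∃ (F₀ : Subfield F) (r : ℕ) (P : Matrix.GeneralLinearGroup (Fin 12) F) (ζ : F), r.Prime ∧ Odd r ∧ Fintype.card F = Nat.card F₀ ^ r ∧ ζ ≠ 0 ∧ Cfsg.Geo.IsQuadFormRationalStructure (fun v : Fin 12 → F => ζ * Q v) F₀ P ∧ H = Cfsg.Geo.subfieldSubgroup F₀ P ⊓ Cfsg.Geo.omegaGL Q) ∨
    Cfsg.Geo.InOrthogonalResidualClass H := by
  obtain ⟨q, rfl, hnd⟩ := OmegaGeo.exists_quad hQ
  have hsub : H ≤ omegaGL ⇑q := hH.1.le
  have hdec : ∀ (t k : ℕ) (D : Fin t → Submodule F (Fin 12 → F)), AschPrimeBasic.Irred H →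
      IsOrthogonalMDecomposition (⇑q) k D → H ≤ decompositionStabilizer D →
      ∃ D : Fin 3 → Submodule F (Fin 12 → F), IsOrthogonalMDecomposition (⇑q) 4 D ∧
        (∀ i, ¬ IsPlusTypeOn (⇑q) (D i)) ∧ H = decompositionStabilizer D ⊓ omegaGL ⇑q := by
    intro t k D hirr hD hle
    have hn := AschEvenCases44.decomp_count hD.decomp.decomp
    have ht := hD.decomp.decomp.two_le
    have hk0 := hD.decomp.decomp.pos
    have hk6 : k ≤ 6 := by nlinarith
    interval_cases k
    · exfalso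
      obtain rfl : t = 12 := by omega
      obtain ⟨v, ε, hfr⟩ := AschEvenFrame44.frame_of_lines hirr
        (fun g hg x => AschEvenBase44.omega_quad (hsub hg) x) hD.decomp hle
      exact hminus ((AschEvenFrame44.frame_type hnd hfr (m := 6) rfl (by norm_num)).2.2 (by decide))
    · obtain rfl : t = 6 := by omega
      exact (hminus ((AschEvenType44.plus_iff_members (j := 1) hnd hD ⟨0, by norm_num⟩).2 (Or.inr (by decide)))).elim
    · exfalso
      obtain rfl : t = 4 := by omega
      exact hminus (AschEvenCases44.four_members (AschEvenReduce44.two_ne_zero_of_odd_dim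
        (AschEvenType44.nondeg_iff.1 (hD.decomp.nondegenerate 0)) (by rw [hD.decomp.decomp.finrank_eq]; decide)) hD)
    · obtain rfl : t = 3 := by omega
      exact ⟨D, hD, fun i hp => hminus ((AschEvenType44.plus_iff_members (j := 2) hnd hD i).2 (Or.inl hp)),
        AschEvenCases44.decomp_member (by norm_num) hnd hH hD.decomp hle⟩
    · omega
    · obtain rfl : t = 2 := by omega
      exact (hminus ((AschEvenType44.plus_iff_members (j := 3) hnd hD ⟨0, by norm_num⟩).2 (Or.inr (by decide)))).elim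
  by_cases hirr : AschPrimeBasic.Irred H
  · rcases AschEvenCases44.main_cases (m := 6) rfl (Or.inr (Or.inr rfl)) (fun h => absurd h (by norm_num)) hnd hsub hirr with
      ⟨t, k, D, hD, hle⟩ | ⟨k, D, hk, hD, hts, hle⟩ | ⟨r, K, hr, hK, -, -, hrn, hle⟩ |
      ⟨k, l, e, P, G₁, G₂, a, b, hkl, hn, hcs, hd⟩ | h | h
    · exact Or.inr (Or.inr (Or.inr (Or.inr (Or.inr (Or.inr (Or.inr (Or.inl (hdec t k D hirr hD hle))))))))
    · exact (hminus ⟨D 0, le_top, hts 0, by rw [hD.finrank_eq, finrank_top, Module.finrank_pi, Fintype.card_fin, hk]⟩).elim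
    · have hH' := AschEvenCases44.field_member (by norm_num) hnd hH hr.two_le hK hle
      have h23 : r = 2 ∨ r = 3 := by
        have := Nat.le_of_dvd (by norm_num) hrn
        have := hr.two_le
        interval_cases r <;> first | omega | (norm_num at hr)
      rcases h23 with rfl | rfl
      · exact Or.inr (Or.inr (Or.inr (Or.inr (Or.inr (Or.inr (Or.inr (Or.inr (Or.inl ⟨K, hK, hH'⟩))))))))
      · exact Or.inr (Or.inr (Or.inr (Or.inr (Or.inr (Or.inr (Or.inr (Or.inr (Or.inr (Or.inl ⟨K, hK, hH'⟩)))))))))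
    · have hk := hd.two_le₁
      have h23 : k = 2 ∨ k = 3 := by
        have hk3 : k ≤ 3 := by
          by_contra hc
          nlinarith
        omega
      rcases h23 with rfl | rfl
      · exact (hminus (AschEvenCases44.two_factor_plus (by norm_num) hnd hsub hirr hcs hd)).elim
      obtain rfl : l = 4 := by omega
      obtain ⟨h2, hs₁, hs₂⟩ := AschEvenCases44.three_factor hnd hsub hirr hd
      have hodd := AschEvenBase44.odd_of_two_ne_zero h2
      have hnp := (AschEvenCases44.copies_type h2 hnd hd hs₁ hs₂).not.1 hminus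
      have hf₁ := AschFormStruct.symmetric_of_gram hd.det₁ hs₁
      have hf₂ := AschFormStruct.symmetric_of_gram hd.det₂ hs₂
      have hf := AschEvenBase44.formData hnd
      have hT := AschFormStruct.tensor_structure hf one_ne_zero
        (e := e) (P := P) (G₁ := G₁) (G₂ := G₂) (by rw [one_smul]; exact hd.gram)
      by_cases h5 : 5 ≤ Fintype.card F
      · exact Or.inr (Or.inr (Or.inr (Or.inr (Or.inr (Or.inr (Or.inr (Or.inr (Or.inr (Or.inr (Or.inl ⟨hodd, h5, e, P,
          _, _, hf₁, hf₂, hnp, hT, AschEvenBase44.finish hH hd.le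
            (AschEvenProper44.not_le_tensor hnd (by simp) (by norm_num) (by norm_num))⟩))))))))))
      · have h3 : Fintype.card F = 3 := by
          have := Fintype.one_lt_card (α := F)
          have := Nat.odd_iff.1 hodd
          omega
        have hd' := hd.swap
        obtain ⟨D, hD, hle⟩ := AschCase.sym_tensor_three h3 hf (AschEvenBase44.isos hsub) (by norm_num) hf₁
          (AschFormStruct.tensor_structure hf one_ne_zero (by rw [one_smul]; exact hd'.gram)) hd'.le
        obtain ⟨t, k, D', hD', hle'⟩ := AschEvenCases44.decomp_of_nondeg hsub hirr hD hle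
        exact Or.inr (Or.inr (Or.inr (Or.inr (Or.inr (Or.inr (Or.inr (Or.inl (hdec t k D' hirr hD' hle'))))))))
    · obtain ⟨F₀, r, P, ζ, hr, ho, hc, hζ, hrat, hH'⟩ := AschEvenCases44.subfield_member (by norm_num) hnd hH h
      exact Or.inr (Or.inr (Or.inr (Or.inr (Or.inr (Or.inr (Or.inr (Or.inr (Or.inr (Or.inr (Or.inr (Or.inl
        ⟨F₀, r, P, ζ, hr, ho hminus, hc, hζ, hrat, hH'⟩)))))))))))
    · exact Or.inr (Or.inr (Or.inr (Or.inr (Or.inr (Or.inr (Or.inr (Or.inr (Or.inr (Or.inr (Or.inr (Or.inr h)))))))))))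
  · rcases AschEvenCases44.reducible_member (by norm_num) hnd hH hirr with
      ⟨U, hb, hts, -, -, hH'⟩ | ⟨hev, v, hv, hH'⟩ | ⟨U, hb, ht, hU, hle, h1, hH', hodd, hpl, -⟩
    · exact Or.inl ⟨U, hb, hts, hH'⟩
    · exact Or.inr (Or.inr (Or.inr (Or.inr (Or.inr (Or.inr (Or.inl ⟨hev, v, hv, hH'⟩))))))
    · by_cases ho : Odd (finrank F U)
      · exact Or.inr (Or.inl ⟨hodd ho, U, hb, ht, ho, (fun h => by have := Nat.odd_iff.1 ho; omega), hU, hH'⟩)
      · have h24 : finrank F U = 2 ∨ finrank F U = 4 ∨ finrank F U = 6 := by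
          have he := Nat.even_iff.1 (Nat.not_odd_iff_even.1 ho)
          omega
        rcases h24 with h2 | h4 | h6
        · by_cases hp : IsPlusTypeOn (⇑q) U
          · exact Or.inr (Or.inr (Or.inr (Or.inl ⟨hpl h2 hp, U, h2, hU, hp, hH'⟩)))
          · exact Or.inr (Or.inr (Or.inl ⟨U, h2, hU, hp, hH'⟩))
        · exact Or.inr (Or.inr (Or.inr (Or.inr (Or.inl ⟨U, h4, hU, hH'⟩))))
        · exact Or.inr (Or.inr (Or.inr (Or.inr (Or.inr (Or.inl ⟨U, h6, hU, hH'⟩)))))

end Cfsg.Agent.S5874
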