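import Cfsg.Statements.S5876

set_option autoImplicit false
set_option linter.unusedSectionVars false
set_option linter.style.haveILetI false
set_option linter.deprecated false
open Cfsg

namespace Cfsg.Agent.S5876

section GroupLemmas
variable {G : Type*} [Group G]

/-- A nilpotent normal subgroup centralising all abelian normal subgroups has class at most two. -/
theorem class_le_two (C : Subgroup G) [C.Normal] (hnil : Group.IsNilpotent C)
    (hC : ∀ A : Subgroup G, A.Normal → (∀ a ∈ A, ∀ b ∈ A, a * b = b * a) →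
      C ≤ Subgroup.centralizer (A : Set G)) :
    C.lowerCentralSeries 2 = ⊥ := by
  classical
  have hex := (Subgroup.isNilpotent_iff_lowerCentralSeries C).1 hnil
  by_contra hne
  have hspec : C.lowerCentralSeries (Nat.find hex) = ⊥ := Nat.find_spec hex
  have h3 : 3 ≤ Nat.find hex := by
    by_contra h
    apply hne
    rw [← le_bot_iff, ← hspec]
    exact C.lowerCentralSeries_antitone (by omega)
  obtain ⟨c, hc⟩ : ∃ c, Nat.find hex = c + 3 := ⟨_, (Nat.sub_add_cancel h3).symm⟩
  rw [hc] at hspec
  set A : Subgroup G := C.lowerCentralSeries (c + 1) with hA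
  have hAC : ⁅⁅A, C⁆, C⁆ = ⊥ := hspec
  have hCA : ⁅⁅C, A⁆, C⁆ = ⊥ := by rw [Subgroup.commutator_comm C A]; exact hAC
  have h2 : ⁅⁅C, C⁆, A⁆ = ⊥ := Subgroup.commutator_commutator_eq_bot_of_rotate hCA hAC
  have hAle : A ≤ ⁅C, C⁆ := C.lowerCentralSeries_antitone (show 1 ≤ c + 1 by omega)
  have hab : ∀ a ∈ A, ∀ b ∈ A, a * b = b * a := by
    intro a ha b hb
    have h := (Subgroup.commutator_eq_bot_iff_le_centralizer.1 h2) (hAle ha)
    exact (Subgroup.mem_centralizer_iff.1 h b hb).symm
  have hcen := hC A inferInstance hab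
  have : C.lowerCentralSeries (c + 2) = ⊥ := by
    show ⁅A, C⁆ = ⊥
    rw [Subgroup.commutator_comm]
    exact Subgroup.commutator_eq_bot_iff_le_centralizer.2 hcen
  exact Nat.find_min hex (by omega : c + 2 < Nat.find hex) this

/-- Iterated commutator subgroups starting from `K`. -/
def derIter (K : Subgroup G) : ℕ → Subgroup G
  | 0 => K
  | i + 1 => ⁅derIter K i, derIter K i⁆

/-- In a soluble group a maximal normal nilpotent subgroup contains its centraliser. -/
theorem centralizer_le_of_maximal [Group.IsSolvable G] (N : Subgroup G) [N.Normal]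
    (hnil : Group.IsNilpotent N)
    (hmax : ∀ P : Subgroup G, P.Normal → Group.IsNilpotent P → N ≤ P → P ≤ N) :
    Subgroup.centralizer (N : Set G) ≤ N := by
  classical
  let K := Subgroup.centralizer (N : Set G)
  let D : ℕ → Subgroup G := derIter K
  have hDn : ∀ i, (D i).Normal := by
    intro i
    induction i with
    | zero => exact (inferInstance : K.Normal)
    | succ i ih => exact @Subgroup.commutator_normal _ _ (D i) (D i) ih ih
  have hDK : ∀ i, D i ≤ K := by
    intro i
    induction i with
    | zero => exact le_rfl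
    | succ i ih =>
      exact le_trans (@Subgroup.commutator_le_left _ _ (D i) (D i) (hDn i)) ih
  have hDder : ∀ i, D i ≤ derivedSeries G i := by
    intro i
    induction i with
    | zero => exact le_top
    | succ i ih => exact Subgroup.commutator_mono ih ih
  have hex : ∃ i, D i ≤ N := by
    obtain ⟨k, hk⟩ := (Group.isSolvable_def G).1 inferInstance
    exact ⟨k, (hDder k).trans (hk ▸ bot_le)⟩
  suffices hstep : ∀ i, D (i + 1) ≤ N → D i ≤ N by
    obtain ⟨k, hk⟩ := hex
    induction k with
    | zero => exact hk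
    | succ k ih => exact ih (hstep k hk)
  intro i hsub
  haveI := hDn i
  have hnilE : Group.IsNilpotent ↥(D i) := by
    refine Subgroup.isNilpotent_of_lowerCentralSeries_eq_bot (n := 2) ?_
    show ⁅⁅D i, D i⁆, D i⁆ = ⊥
    rw [← le_bot_iff]
    calc ⁅⁅D i, D i⁆, D i⁆ ≤ ⁅N, K⁆ := Subgroup.commutator_mono hsub (hDK i)
      _ = ⊥ := by
        rw [Subgroup.commutator_comm]
        exact Subgroup.commutator_eq_bot_iff_le_centralizer.2 le_rfl
  have comm : ∀ (a : ↥(D i)) (b : N), Commute ((D i).subtype a) (N.subtype b) := fun a b =>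
    (Subgroup.mem_centralizer_iff.1 (hDK i a.2) b b.2).symm
  let φ : D i × N →* G := MonoidHom.noncommCoprod (D i).subtype N.subtype comm
  have hrange : φ.range = D i ⊔ N := by
    simp only [φ]
    rw [MonoidHom.noncommCoprod_range, Subgroup.range_subtype, Subgroup.range_subtype]
  haveI := hnilE
  haveI := hnil
  have hPnil : Group.IsNilpotent φ.range :=
    Group.nilpotent_of_surjective φ.rangeRestrict φ.rangeRestrict_surjective
  rw [hrange] at hPnil
  exact le_sup_left.trans (hmax _ inferInstance hPnil le_sup_right)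

end GroupLemmas

section Linear
variable {F : Type*} [Field F] [Fintype F] {n : ℕ}

/-- The endomorphism of `F^n` given by a group element. -/
noncomputable def actEnd (G : Subgroup (Matrix.GeneralLinearGroup (Fin n) F)) :
    G →* Module.End F (Fin n → F) where
  toFun g := Matrix.toLin' ((g : Matrix.GeneralLinearGroup (Fin n) F) : Matrix (Fin n) (Fin n) F)
  map_one' := by simp [Module.End.one_eq_id]
  map_mul' a b := by simp [Matrix.toLin'_mul, Module.End.mul_eq_comp]

theorem act_inv_apply {G : Subgroup (Matrix.GeneralLinearGroup (Fin n) F)} (g : G) (v : Fin n → F) :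
    actEnd G g⁻¹ (actEnd G g v) = v := by
  rw [← Module.End.mul_apply, ← map_mul, inv_mul_cancel, map_one, Module.End.one_apply]

theorem act_apply_inv {G : Subgroup (Matrix.GeneralLinearGroup (Fin n) F)} (g : G) (v : Fin n → F) :
    actEnd G g (actEnd G g⁻¹ v) = v := by
  rw [← Module.End.mul_apply, ← map_mul, mul_inv_cancel, map_one, Module.End.one_apply]

theorem act_injective (G : Subgroup (Matrix.GeneralLinearGroup (Fin n) F)) :
    Function.Injective (actEnd G) := fun _ _ h =>
  Subtype.ext (Units.ext (Matrix.toLin'.injective h))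

/-- In a primitive irreducible group, a non-trivial element of an abelian normal subgroup fixes no
non-zero vector. -/
theorem abelian_normal_fpf {G : Subgroup (Matrix.GeneralLinearGroup (Fin n) F)}
    (hirr : Cfsg.Geo.ActsIrreducibly (Cfsg.Geo.matrixSet G))
    (hprim : ∀ (m t : ℕ) (D : Fin t → Submodule F (Fin n → F)), 2 ≤ t →
      Cfsg.Geo.IsMDecomposition m D → ¬ G ≤ Cfsg.Geo.decompositionStabilizer D)
    (A : Subgroup G) (hAn : A.Normal) (hab : ∀ a ∈ A, ∀ b ∈ A, a * b = b * a)
    (a : G) (ha : a ∈ A) (v : Fin n → F) (hv : v ≠ 0) (hfix : actEnd G a v = v) : a = 1 := by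
  classical
  let R := Algebra.adjoin F (actEnd G '' (A : Set G))
  letI : CommRing R := Algebra.adjoinCommRingOfComm F (by
    rintro _ ⟨x, hx, rfl⟩ _ ⟨y, hy, rfl⟩
    rw [← map_mul, ← map_mul, hab x hx y hy])
  -- torsion subspace of an ideal
  let T : Ideal R → Submodule F (Fin n → F) := fun I =>
    ⨅ r ∈ I, LinearMap.ker (r : Module.End F (Fin n → F))
  have memT : ∀ (I : Ideal R) w, w ∈ T I ↔ ∀ r ∈ I, (r : Module.End F (Fin n → F)) w = 0 := by
    intro I w; simp [T]
  haveI : Finite (Module.End F (Fin n → F)) := Finite.of_injective (fun f => (f : (Fin n → F) → (Fin n → F))) DFunLike.coe_injective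
  -- an ideal maximal among annihilators
  let annI : (Fin n → F) → Ideal R := fun w =>
    { carrier := {r | (r : Module.End F (Fin n → F)) w = 0}
      zero_mem' := by simp
      add_mem' := by intro x y hx hy; simp_all
      smul_mem' := by
        intro c x hx
        show ((c * x : R) : Module.End F (Fin n → F)) w = 0
        simp only [Set.mem_ofPred_eq] at hx
        simp [hx] }
  have memann : ∀ w r, r ∈ annI w ↔ (r : Module.End F (Fin n → F)) w = 0 := fun _ _ => Iff.rfl
  haveI : Nonempty {w : Fin n → F // w ≠ 0} := ⟨⟨v, hv⟩⟩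
  obtain ⟨⟨w0, hw0⟩, hmax⟩ := Finite.exists_max
    (fun w : {w : Fin n → F // w ≠ 0} => Nat.card (annI w.1))
  let m0 := annI w0
  have hprime : m0.IsPrime := by
    constructor
    · intro h
      have : (1 : R) ∈ m0 := h ▸ Submodule.mem_top
      exact hw0 (by simpa [m0, memann] using this)
    · intro r s hrs
      by_contra hcon
      push Not at hcon
      obtain ⟨hr, hs⟩ := hcon
      have hsw : (s : Module.End F (Fin n → F)) w0 ≠ 0 := hs
      have hlt : (m0 : Set R) ⊂ (annI ((s : Module.End F (Fin n → F)) w0) : Set R) := by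
        refine (Set.ssubset_iff_of_subset ?_).2 ⟨r, ?_, hr⟩
        · intro x hx
          show (x : Module.End F (Fin n → F)) ((s : Module.End F (Fin n → F)) w0) = 0
          have : (x * s : R) ∈ m0 := Ideal.mul_mem_right _ _ hx
          simpa [m0, memann] using this
        · simpa [m0, memann] using hrs
      have h1 := hmax ⟨_, hsw⟩
      have h2 := Set.ncard_lt_ncard hlt (Set.toFinite _)
      rw [← Nat.card_coe_set_eq, ← Nat.card_coe_set_eq] at h2
      exact absurd h1 (not_le.2 h2)
  haveI hm0 : m0.IsMaximal := by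
    haveI := hprime
    haveI : Finite (R ⧸ m0) := Quotient.finite _
    exact Ideal.Quotient.maximal_of_isField _ (Finite.isField_of_domain (R ⧸ m0))
  let D0 := T m0
  have hw0D : w0 ∈ D0 := (memT _ _).2 fun r hr => hr
  -- conjugation action on `R`
  let cg : G → (Module.End F (Fin n → F) →ₐ[F] Module.End F (Fin n → F)) := fun g =>
    AlgHom.ofLinearMap
      { toFun := fun f => actEnd G g * f * actEnd G g⁻¹
        map_add' := fun x y => by simp [mul_add, add_mul]
        map_smul' := fun c x => by simp }
      (by simp [← map_mul])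
      (fun x y => by
        have h : actEnd G g⁻¹ * actEnd G g = 1 := by rw [← map_mul, inv_mul_cancel, map_one]
        simp only [LinearMap.coe_mk, AddHom.coe_mk]
        calc actEnd G g * (x * y) * actEnd G g⁻¹
            = actEnd G g * x * (actEnd G g⁻¹ * actEnd G g) * y * actEnd G g⁻¹ := by
              rw [h]; simp [mul_assoc]
          _ = _ := by simp [mul_assoc])
  have hcg_apply : ∀ g f, cg g f = actEnd G g * f * actEnd G g⁻¹ := fun _ _ => rfl
  have hcg : ∀ g, ∀ r ∈ R, cg g r ∈ R := by
    intro g r hr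
    have h1 : R.map (cg g) ≤ R := by
      show (Algebra.adjoin F (actEnd G '' (A : Set G))).map (cg g) ≤ R
      rw [AlgHom.map_adjoin, Algebra.adjoin_le_iff]
      rintro _ ⟨_, ⟨x, hx, rfl⟩, rfl⟩
      rw [hcg_apply, ← map_mul, ← map_mul]
      exact Algebra.subset_adjoin ⟨_, hAn.conj_mem x hx g, rfl⟩
    exact h1 (Subalgebra.mem_map.2 ⟨r, hr, rfl⟩)
  let φ : G → (R →ₐ[F] R) := fun g => ((cg g).comp R.val).codRestrict R (fun x => hcg g _ x.2)
  have hφ : ∀ g (r : R), (φ g r : Module.End F (Fin n → F)) = actEnd G g * r * actEnd G g⁻¹ :=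
    fun _ _ => rfl
  have hφφ : ∀ g r, φ g (φ g⁻¹ r) = r := by
    intro g r
    apply Subtype.ext
    rw [hφ, hφ, inv_inv, ← mul_assoc, ← mul_assoc, ← map_mul, mul_inv_cancel, map_one, one_mul,
      mul_assoc, ← map_mul, mul_inv_cancel, map_one, mul_one]
  let mI : G → Ideal R := fun g => Ideal.comap (φ g⁻¹).toRingHom m0
  have hmI : ∀ g, (mI g).IsMaximal := fun g =>
    Ideal.comap_isMaximal_of_surjective _ (fun r => ⟨φ g r, by
      show φ g⁻¹ (φ g r) = r
      have := hφφ g⁻¹ r
      rwa [inv_inv] at this⟩)
  let Dg : G → Submodule F (Fin n → F) := fun g => D0.map (actEnd G g)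
  have hTm : ∀ g, T (mI g) = Dg g := by
    intro g
    ext w
    constructor
    · intro hw
      refine ⟨actEnd G g⁻¹ w, (memT _ _).2 fun s hs => ?_, act_apply_inv g w⟩
      have hmem : φ g s ∈ mI g := by
        show φ g⁻¹ (φ g s) ∈ m0
        have := hφφ g⁻¹ s
        rw [inv_inv] at this
        rwa [this]
      have h0 := (memT _ _).1 hw _ hmem
      rw [hφ, Module.End.mul_apply, Module.End.mul_apply] at h0
      have := congrArg (actEnd G g⁻¹) h0
      rwa [act_inv_apply, map_zero] at this
    · rintro ⟨u, hu, rfl⟩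
      refine (memT _ _).2 fun r hr => ?_
      have h0 := (memT _ _).1 hu _ hr
      change (φ g⁻¹ r : Module.End F (Fin n → F)) u = 0 at h0
      rw [hφ, inv_inv, Module.End.mul_apply, Module.End.mul_apply] at h0
      have := congrArg (actEnd G g) h0
      rwa [act_apply_inv, map_zero] at this
  -- the set of translates of `D0`
  let I := Set.range Dg
  let t := Fintype.card I
  let D : Fin t → Submodule F (Fin n → F) := fun i => ((Fintype.equivFin I).symm i : Submodule F (Fin n → F))
  have hDinj : Function.Injective D := fun i j h =>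
    (Fintype.equivFin I).symm.injective (Subtype.ext h)
  have hDex : ∀ i, ∃ g, D i = Dg g := fun i =>
    let ⟨g, hg⟩ := ((Fintype.equivFin I).symm i).2; ⟨g, hg.symm⟩
  have hexD : ∀ g, ∃ i, D i = Dg g := fun g =>
    ⟨Fintype.equivFin I ⟨Dg g, g, rfl⟩, by simp [D]⟩
  have hDgmul : ∀ g h, (Dg h).map (actEnd G g) = Dg (g * h) := by
    intro g h
    show (D0.map (actEnd G h)).map (actEnd G g) = D0.map (actEnd G (g * h))
    rw [← Submodule.map_comp, map_mul]
    rfl
  have hDg1 : Dg 1 = D0 := by
    show D0.map (actEnd G 1) = D0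
    rw [map_one, Module.End.one_eq_id, Submodule.map_id]
  have hinv : ∀ s ∈ Cfsg.Geo.matrixSet G, (iSup D).map (Matrix.toLin' s) ≤ iSup D := by
    rintro _ ⟨g, hg, rfl⟩
    rw [Submodule.map_iSup]
    refine iSup_le fun i => ?_
    obtain ⟨h, hh⟩ := hDex i
    obtain ⟨j, hj⟩ := hexD (⟨g, hg⟩ * h)
    refine le_trans (le_of_eq ?_) (le_iSup D j)
    show (D i).map (actEnd G ⟨g, hg⟩) = D j
    rw [hj, hh, ← hDgmul]
  have hsup : iSup D = ⊤ := by
    rcases hirr (iSup D) hinv with h | h
    · exfalso
      obtain ⟨i, hi⟩ := hexD 1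
      have : w0 ∈ iSup D := le_iSup D i (by rw [hi, hDg1]; exact hw0D)
      rw [h] at this
      exact hw0 this
    · exact h
  have hindep : iSupIndep D := by
    intro i
    rw [disjoint_iff, Submodule.eq_bot_iff]
    rintro u ⟨hu, hu'⟩
    choose gf hgf using hDex
    have hdist : ∀ j, j ≠ i → ¬ mI (gf j) ≤ mI (gf i) := by
      intro j hj hle
      have := (hmI (gf j)).eq_of_le (hmI (gf i)).ne_top hle
      apply hj
      apply hDinj
      rw [hgf j, hgf i, ← hTm, ← hTm, this]
    choose r hr hr' using fun j (hj : j ≠ i) => SetLike.not_le_iff_exists.1 (hdist j hj)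
    let f : Fin t → R := fun j => if hj : j ≠ i then r j hj else 1
    let P : R := ∏ j, f j
    haveI := (hmI (gf i)).isPrime
    have hP : P ∉ mI (gf i) := by
      intro hP
      obtain ⟨j, -, hj⟩ := Ideal.IsPrime.prod_mem_iff.1 hP
      by_cases hji : j ≠ i
      · simp only [f, dif_pos hji] at hj; exact hr' j hji hj
      · simp only [f, dif_neg hji] at hj
        exact (hmI (gf i)).ne_top ((Ideal.eq_top_iff_one _).2 hj)
    obtain ⟨s, hs⟩ : ∃ s : R, s * P - 1 ∈ mI (gf i) := by
      obtain ⟨s, z, hz, hsz⟩ := (hmI (gf i)).exists_inv hP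
      exact ⟨s, by have : s * P - 1 = -z := by linear_combination hsz
                   rw [this]; exact neg_mem hz⟩
    have hle : (⨆ (j) (_ : j ≠ i), D j) ≤ LinearMap.ker (P : Module.End F (Fin n → F)) := by
      refine iSup₂_le fun j hj x hx => ?_
      have hPj : P ∈ mI (gf j) := by
        refine Ideal.mem_of_dvd _ (Finset.dvd_prod_of_mem f (Finset.mem_univ j)) ?_
        simp only [f, dif_pos hj]; exact hr j hj
      rw [hgf j, ← hTm] at hx
      exact (memT _ _).1 hx _ hPj
    have hPu : (P : Module.End F (Fin n → F)) u = 0 := hle hu'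
    rw [SetLike.mem_coe, hgf i, ← hTm] at hu
    have := (memT _ _).1 hu _ hs
    simpa [hPu] using this
  have hrank : ∀ i, Module.finrank F (D i) = Module.finrank F D0 := by
    intro i
    obtain ⟨g, hg⟩ := hDex i
    rw [hg]
    exact (LinearEquiv.finrank_eq (Submodule.equivMapOfInjective (actEnd G g)
      (Function.LeftInverse.injective (act_inv_apply g)) D0)).symm
  have hstab : G ≤ Cfsg.Geo.decompositionStabilizer D := by
    intro g hg
    let k : G := ⟨g, hg⟩
    have hex : ∀ i, ∃ j, D j = (D i).map (actEnd G k) := by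
      intro i
      obtain ⟨h, hh⟩ := hDex i
      obtain ⟨j, hj⟩ := hexD (k * h)
      exact ⟨j, by rw [hj, hh, hDgmul]⟩
    choose σ hσ using hex
    have hσi : Function.Injective σ := by
      intro i j hij
      apply hDinj
      have := hσ i
      rw [hij, hσ j] at this
      exact (Submodule.map_injective_of_injective
        (Function.LeftInverse.injective (act_inv_apply k)) this).symm
    exact ⟨Equiv.ofBijective σ ⟨hσi, Finite.surjective_of_injective hσi⟩, fun i => (hσ i).symm⟩
  have ht : t ≤ 1 := by
    by_contra ht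
    refine hprim (Module.finrank F D0) t D (by omega) ⟨by omega, ?_, hrank, hindep, hsup⟩ hstab
    rw [Module.finrank_pos_iff_exists_ne_zero]
    exact ⟨⟨w0, hw0D⟩, fun h => hw0 (congrArg Subtype.val h)⟩
  have hD0 : D0 = ⊤ := by
    rw [eq_top_iff, ← hsup]
    refine iSup_le fun i => ?_
    obtain ⟨j, hj⟩ := hexD 1
    have : i = j := by
      have := Fin.subsingleton_iff_le_one.2 ht
      exact Subsingleton.elim _ _
    rw [this, hj, hDg1]
  have hm0bot : ∀ r ∈ m0, r = 0 := by
    intro r hr
    apply Subtype.ext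
    apply LinearMap.ext
    intro x
    have hx : x ∈ D0 := by rw [hD0]; exact Submodule.mem_top
    simpa using (memT m0 x).1 hx r hr
  -- conclude
  let x : R := ⟨actEnd G a, Algebra.subset_adjoin ⟨a, ha, rfl⟩⟩ - 1
  have hx0 : x = 0 := by
    by_contra hne
    obtain ⟨s, z, hz, hsz⟩ := hm0.exists_inv (fun h => hne (hm0bot x h))
    rw [hm0bot z hz, add_zero] at hsz
    have h := congrArg (fun r : R => (r : Module.End F (Fin n → F)) v) hsz
    simp [x, hfix] at h
    exact hv h.symm
  apply act_injective G
  rw [map_one]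
  exact congrArg Subtype.val (sub_eq_zero.1 hx0)

/-- The fixed space. -/
noncomputable def fixSpace (G : Subgroup (Matrix.GeneralLinearGroup (Fin n) F)) (g : G) :
    Submodule F (Fin n → F) := Module.End.eigenspace (actEnd G g) 1

theorem mem_fixSpace {G : Subgroup (Matrix.GeneralLinearGroup (Fin n) F)} {g : G} {v : Fin n → F} :
    v ∈ fixSpace G g ↔ actEnd G g v = v := by
  simp [fixSpace, Module.End.mem_eigenspace_iff]

theorem fix_commutator {G : Subgroup (Matrix.GeneralLinearGroup (Fin n) F)} (g x : G) :
    2 * Module.finrank F (fixSpace G g) ≤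
      n + Module.finrank F (fixSpace G (g * x * g⁻¹ * x⁻¹)) := by
  let W := fixSpace G g
  let W' := W.map (actEnd G x)
  have hW' : Module.finrank F W' = Module.finrank F W :=
    (LinearEquiv.finrank_eq (Submodule.equivMapOfInjective (actEnd G x)
      (Function.LeftInverse.injective (act_inv_apply x)) W)).symm
  have h1 : W ⊓ W' ≤ fixSpace G (g * x * g⁻¹ * x⁻¹) := by
    rintro v ⟨hv, u, hu, rfl⟩
    rw [SetLike.mem_coe, mem_fixSpace] at hv hu
    rw [mem_fixSpace, map_mul, map_mul, map_mul]
    simp only [Module.End.mul_apply]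
    rw [act_inv_apply]
    have hu' : actEnd G g⁻¹ u = u := by
      conv_lhs => rw [← hu]
      exact act_inv_apply g u
    rw [hu', hv]
  have h2 := Submodule.finrank_sup_add_finrank_inf_eq W W'
  have h3 : Module.finrank F (W ⊔ W' : Submodule F (Fin n → F)) ≤ n :=
    (Submodule.finrank_le _).trans_eq (Module.finrank_fin_fun F)
  have h4 := Submodule.finrank_mono h1
  show 2 * Module.finrank F W ≤ _
  omega

end Linear

/-- Fixed-point spaces in primitive soluble linear groups. Let F be a finite field and G a soluble subgroup of GL_n(F) that acts irreducibly on F^n and primitively (G preserves no decomposition of F^n into two or more independent subspaces of equal dimension). Then every non-identity element g of G has fixed-point space {v : g v = v} of dimension at most 3n/4. -/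
theorem result {F : Type*} [Field F] [Fintype F] {n : ℕ} (G : Subgroup (Matrix.GeneralLinearGroup (Fin n) F)) (hsol : IsSolvable G) (hirr : Cfsg.Geo.ActsIrreducibly (Cfsg.Geo.matrixSet G)) (hprim : ∀ (m t : ℕ) (D : Fin t → Submodule F (Fin n → F)), 2 ≤ t → Cfsg.Geo.IsMDecomposition m D → ¬ G ≤ Cfsg.Geo.decompositionStabilizer D) (g : Matrix.GeneralLinearGroup (Fin n) F) (hg : g ∈ G) (hg1 : g ≠ 1) :
    4 * Module.finrank F (Module.End.eigenspace (Matrix.toLin' (g : Matrix (Fin n) (Fin n) F)) 1) ≤ 3 * n := by
  haveI : Group.IsSolvable G := hsol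
  let f : G → ℕ := fun x => Module.finrank F (fixSpace G x)
  -- abelian normal subgroups act without fixed points
  have hfpf : ∀ A : Subgroup G, A.Normal → (∀ a ∈ A, ∀ b ∈ A, a * b = b * a) →
      ∀ a ∈ A, 0 < f a → a = 1 := by
    intro A hA hab a ha hpos
    obtain ⟨⟨v, hv⟩, hv0⟩ := Module.finrank_pos_iff_exists_ne_zero.1 hpos
    exact abelian_normal_fpf hirr hprim A hA hab a ha v (fun h => hv0 (Subtype.ext h))
      (mem_fixSpace.1 hv)
  have hcomm : ∀ a b : G, a * b * a⁻¹ * b⁻¹ = 1 → a * b = b * a := by
    intro a b h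
    rwa [mul_inv_eq_one, mul_inv_eq_iff_eq_mul] at h
  have hnilp : ∀ N : Subgroup G, N.Normal → Group.IsNilpotent N →
      ∀ y ∈ N, n < 2 * f y → y = 1 := by
    intro N hN hnil y hy hfy
    let Z : Subgroup G := ⨅ (A : Subgroup G) (_ : A.Normal)
      (_ : ∀ a ∈ A, ∀ b ∈ A, a * b = b * a), Subgroup.centralizer (A : Set G)
    have hZn : Z.Normal := by
      refine Subgroup.normal_iInf_normal fun A => Subgroup.normal_iInf_normal fun hA =>
        Subgroup.normal_iInf_normal fun _ => ?_
      haveI := hA
      infer_instance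
    let C := N ⊓ Z
    haveI : C.Normal := Subgroup.normal_inf_normal _ _
    have hCZ : ∀ A : Subgroup G, A.Normal → (∀ a ∈ A, ∀ b ∈ A, a * b = b * a) →
        C ≤ Subgroup.centralizer (A : Set G) := fun A hA hab =>
      inf_le_right.trans (iInf_le_of_le A (iInf_le_of_le hA (iInf_le _ hab)))
    have hCnil : Group.IsNilpotent C := by
      haveI := hnil
      exact Group.nilpotent_of_mulEquiv (Subgroup.subgroupOfEquivOfLe (inf_le_left : C ≤ N))
    have hcl := class_le_two C hCnil hCZ
    have hyC : y ∈ C := by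
      refine ⟨hy, ?_⟩
      show y ∈ Z
      simp only [Z, Subgroup.mem_iInf]
      intro A hA hab
      rw [Subgroup.mem_centralizer_iff]
      intro a ha
      refine (hcomm y a (hfpf A hA hab _ ?_ ?_)).symm
      · exact mul_mem (hA.conj_mem a ha y) (inv_mem ha)
      · have := fix_commutator y a
        simp only [f] at hfy ⊢
        omega
    -- commutators of `C` are central in `C`
    let B : Subgroup G := C ⊓ Subgroup.centralizer (C : Set G)
    have hBn : B.Normal := inferInstance
    have hBab : ∀ a ∈ B, ∀ b ∈ B, a * b = b * a := fun a ha b hb =>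
      (Subgroup.mem_centralizer_iff.1 ha.2 b hb.1).symm
    have hyB : y ∈ B := by
      refine ⟨hyC, Subgroup.mem_centralizer_iff.2 fun x hx => ?_⟩
      refine (hcomm y x (hfpf B hBn hBab _ ?_ ?_)).symm
      · have hx' : x ∈ C := hx
        have hmem : y * x * y⁻¹ * x⁻¹ ∈ C :=
          C.mul_mem (C.mul_mem (C.mul_mem hyC hx') (C.inv_mem hyC)) (C.inv_mem hx')
        refine ⟨hmem, ?_⟩
        have h : ⁅C, C⁆ ≤ Subgroup.centralizer (C : Set G) :=
          Subgroup.commutator_eq_bot_iff_le_centralizer.1 hcl
        exact h (Subgroup.commutator_mem_commutator hyC hx')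
      · have := fix_commutator y x
        simp only [f] at hfy ⊢
        omega
    exact hfpf B hBn hBab y hyB (by omega)
  by_contra hcon
  let g' : G := ⟨g, hg⟩
  have hfg : 3 * n < 4 * f g' := not_le.1 hcon
  -- a maximal normal nilpotent subgroup
  obtain ⟨N, ⟨hNn, hNnil⟩, hNmax⟩ := (Set.toFinite {P : Subgroup G | P.Normal ∧ Group.IsNilpotent P}).exists_maximal
    ⟨⊥, Subgroup.normal_bot, Group.isNilpotent_of_subsingleton⟩
  haveI := hNn
  have hgC : g' ∈ Subgroup.centralizer (N : Set G) := by
    rw [Subgroup.mem_centralizer_iff]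
    intro x hx
    refine (hcomm g' x (hnilp N hNn hNnil _ ?_ ?_)).symm
    · exact mul_mem (hNn.conj_mem x hx g') (inv_mem hx)
    · have := fix_commutator g' x
      simp only [f] at hfg ⊢
      omega
  have hgN : g' ∈ N := centralizer_le_of_maximal N hNnil (fun P h1 h2 h3 => hNmax ⟨h1, h2⟩ h3) hgC
  have := hnilp N hNn hNnil g' hgN (by omega)
  exact hg1 (congrArg Subtype.val this)

end Cfsg.Agent.S5876
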