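import Cfsg.Statements.S5877
import Cfsg.Agent.Lib.AschPrimeBasic
import Cfsg.Agent.Lib.ExtraEigen92

set_option autoImplicit false
open Cfsg

namespace Cfsg.Agent.S5877

open Cfsg.Geo Cfsg.Agent.ExtraEigen92 Module
open scoped commutatorElement

variable {F : Type*} [Field F] {n : ℕ}


/-- scalar matrices -/
def sc : Fˣ →* (Matrix.GeneralLinearGroup (Fin n) F) := Units.map (Matrix.scalar (Fin n) : F →+* Matrix (Fin n) (Fin n) F).toMonoidHom

theorem sc_mem (c : Fˣ) : (sc c : (Matrix.GeneralLinearGroup (Fin n) F)) ∈ scalars (Fin n) F := ⟨c, rfl⟩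

theorem sc_comm (c : Fˣ) (x : (Matrix.GeneralLinearGroup (Fin n) F)) : sc c * x = x * sc c :=
  AschPrimeBasic.scalar_comm (sc_mem c) x

theorem sc_inj (hn : 0 < n) : Function.Injective (sc : Fˣ →* (Matrix.GeneralLinearGroup (Fin n) F)) := by
  intro a b h
  have := congrArg (fun z : Matrix.GeneralLinearGroup (Fin n) F =>
    (z : Matrix (Fin n) (Fin n) F) ⟨0, hn⟩ ⟨0, hn⟩) h
  exact Units.ext (by simpa [sc] using this)

/-- the linear map of a matrix -/
def L (x : (Matrix.GeneralLinearGroup (Fin n) F)) : Module.End F (Fin n → F) := Matrix.toLin' (x : Matrix (Fin n) (Fin n) F)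

theorem L_mul (x y : (Matrix.GeneralLinearGroup (Fin n) F)) (v : (Fin n → F)) : L (x * y) v = L x (L y v) := by
  simp [L, Matrix.mulVec_mulVec]

theorem L_one (v : (Fin n → F)) : L (1 : (Matrix.GeneralLinearGroup (Fin n) F)) v = v := by simp [L]

theorem L_inj (x : (Matrix.GeneralLinearGroup (Fin n) F)) : Function.Injective (L x) :=
  Function.LeftInverse.injective (g := L x⁻¹) fun v => by rw [← L_mul, inv_mul_cancel, L_one]

theorem L_pow (x : (Matrix.GeneralLinearGroup (Fin n) F)) (k : ℕ) (v : (Fin n → F)) : (L x ^ k) v = L (x ^ k) v := by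
  induction k with
  | zero => rw [pow_zero, pow_zero, L_one]; rfl
  | succ k ih => rw [pow_succ', pow_succ', L_mul, Module.End.mul_apply, ih]

theorem L_sc (c : Fˣ) (v : (Fin n → F)) : L (sc c : (Matrix.GeneralLinearGroup (Fin n) F)) v = (c : F) • v := by
  ext i; simp [L, sc, Matrix.mulVec_diagonal]

theorem L_twist {x y : (Matrix.GeneralLinearGroup (Fin n) F)} {c : Fˣ} (h : x * y = sc c * (y * x)) (v : (Fin n → F)) :
    L x (L y v) = (c : F) • L y (L x v) := by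
  rw [← L_mul, h, L_mul, L_sc, L_mul]

/-- conjugation by the `i`-th power -/
def cj (g : (Matrix.GeneralLinearGroup (Fin n) F)) (i : ℕ) (x : (Matrix.GeneralLinearGroup (Fin n) F)) : (Matrix.GeneralLinearGroup (Fin n) F) := g ^ i * x * (g ^ i)⁻¹

theorem cj_zero (g x : (Matrix.GeneralLinearGroup (Fin n) F)) : cj g 0 x = x := by simp [cj]

theorem cj_cj (g : (Matrix.GeneralLinearGroup (Fin n) F)) (i j : ℕ) (x : (Matrix.GeneralLinearGroup (Fin n) F)) : cj g i (cj g j x) = cj g (i + j) x := by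
  simp [cj, pow_add]; group

theorem cj_mul (g : (Matrix.GeneralLinearGroup (Fin n) F)) (i : ℕ) (x y : (Matrix.GeneralLinearGroup (Fin n) F)) : cj g i (x * y) = cj g i x * cj g i y := by
  simp [cj]

theorem cj_inv (g : (Matrix.GeneralLinearGroup (Fin n) F)) (i : ℕ) (x : (Matrix.GeneralLinearGroup (Fin n) F)) : cj g i x⁻¹ = (cj g i x)⁻¹ := by simp [cj, mul_assoc]

theorem cj_sc (g : (Matrix.GeneralLinearGroup (Fin n) F)) (i : ℕ) (c : Fˣ) : cj g i (sc c) = sc c := by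
  rw [cj, ← sc_comm, mul_inv_cancel_right]

/-- commutation with the conjugate -/
def dlt (g x : (Matrix.GeneralLinearGroup (Fin n) F)) : (Matrix.GeneralLinearGroup (Fin n) F) := cj g 1 x * x⁻¹

theorem mul_pow_eq_one {G : Type*} [Group G] {r : ℕ} (hr : r.Prime) (hr2 : r ≠ 2) {a b c : G}
    (ha : a ^ r = 1) (hb : b ^ r = 1) (hc : c ^ r = 1) (hcen : ∀ x, c * x = x * c)
    (hba : b * a = c * (a * b)) : (a * b) ^ r = 1 := by
  have hck : ∀ k x, c ^ k * x = x * c ^ k := fun k x =>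
    (Commute.pow_left (show Commute c x from hcen x) k).eq
  have h1 : ∀ k, b ^ k * a = c ^ k * (a * b ^ k) := by
    intro k
    induction k with
    | zero => simp
    | succ k ih =>
      rw [pow_succ' b, mul_assoc, ih, ← mul_assoc, ← hck, mul_assoc, ← mul_assoc b, hba, pow_succ c]
      simp only [mul_assoc]
  have h2 : ∀ k, (a * b) ^ k = a ^ k * b ^ k * c ^ (k.choose 2) := by
    intro k
    induction k with
    | zero => simp
    | succ k ih =>
      rw [pow_succ, ih, mul_assoc, hck,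
        show a ^ k * b ^ k * (a * b * c ^ k.choose 2) = a ^ k * (b ^ k * a * (b * c ^ k.choose 2)) by
          simp [mul_assoc],
        h1, hck k (a * b ^ k),
        show a ^ k * (a * b ^ k * c ^ k * (b * c ^ k.choose 2)) =
          a ^ k * a * (b ^ k * (c ^ k * b)) * c ^ k.choose 2 by simp [mul_assoc],
        hck k b, pow_succ a, pow_succ b, Nat.choose_succ_succ, Nat.choose_one_right, pow_add]
      simp [mul_assoc]
  obtain ⟨q, hq⟩ := hr.dvd_choose_self (k := 2) (by norm_num)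
    (lt_of_le_of_ne hr.two_le (Ne.symm hr2))
  rw [h2, ha, hb, hq, pow_mul, hc, one_pow, one_mul, one_mul]

/-- the running hypotheses -/
structure Ctx (R : Subgroup (Matrix.GeneralLinearGroup (Fin n) F)) (g : (Matrix.GeneralLinearGroup (Fin n) F)) (r ϖ : ℕ) : Prop where
  hn : 0 < n
  hr : r.Prime
  hirr : AschPrimeBasic.AbsIrred R
  hcomm : ∀ x ∈ R, ∀ y ∈ R, ∃ c : Fˣ, sc c = ⁅x, y⁆ ∧ c ^ r = 1
  hσ : ∀ x ∈ R ⊔ scalars (Fin n) F, g * x * g⁻¹ ∈ R ⊔ scalars (Fin n) F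
  hgp : g ^ ϖ = 1
  hpow : r ≠ 2 → ∀ x ∈ R, x ^ r = 1

variable {R : Subgroup (Matrix.GeneralLinearGroup (Fin n) F)} {g : (Matrix.GeneralLinearGroup (Fin n) F)} {r ϖ : ℕ}

theorem mem_N {x : (Matrix.GeneralLinearGroup (Fin n) F)} (hx : x ∈ (R ⊔ scalars (Fin n) F)) : ∃ a ∈ R, ∃ c : Fˣ, x = a * sc c := by
  haveI : (scalars (Fin n) F).Normal :=
    ⟨fun z hz a => by rwa [← AschPrimeBasic.scalar_comm hz a, mul_inv_cancel_right]⟩
  obtain ⟨a, ha, z, ⟨c, rfl⟩, rfl⟩ := Subgroup.mem_sup_of_normal_right.1 hx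
  exact ⟨a, ha, c, rfl⟩

theorem comm_mul_sc (a y : (Matrix.GeneralLinearGroup (Fin n) F)) (c : Fˣ) : ⁅a * sc c, y⁆ = ⁅a, y⁆ := by
  rw [commutatorElement_def, commutatorElement_def, mul_inv_rev, mul_assoc a, sc_comm c y]
  group

theorem comm_mul_sc' (a y : (Matrix.GeneralLinearGroup (Fin n) F)) (c : Fˣ) : ⁅y, a * sc c⁆ = ⁅y, a⁆ := by
  rw [← inv_inj, commutatorElement_inv, commutatorElement_inv, comm_mul_sc]

theorem Ctx.commN (C : Ctx R g r ϖ) {x y : (Matrix.GeneralLinearGroup (Fin n) F)} (hx : x ∈ (R ⊔ scalars (Fin n) F)) (hy : y ∈ (R ⊔ scalars (Fin n) F)) :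
    ∃ c : Fˣ, sc c = ⁅x, y⁆ ∧ c ^ r = 1 := by
  obtain ⟨a, ha, c, rfl⟩ := mem_N hx
  obtain ⟨b, hb, d, rfl⟩ := mem_N hy
  rw [comm_mul_sc, comm_mul_sc']
  exact C.hcomm a ha b hb

open Classical in
/-- the commutator pairing -/
noncomputable def ep (x y : (Matrix.GeneralLinearGroup (Fin n) F)) : Additive Fˣ :=
  if h : ∃ c : Fˣ, sc c = ⁅x, y⁆ then Additive.ofMul h.choose else 0

theorem Ctx.sc_ep (C : Ctx R g r ϖ) {x y : (Matrix.GeneralLinearGroup (Fin n) F)} (hx : x ∈ (R ⊔ scalars (Fin n) F)) (hy : y ∈ (R ⊔ scalars (Fin n) F)) :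
    sc (Additive.toMul (ep x y)) = ⁅x, y⁆ := by
  obtain ⟨c, hc, -⟩ := C.commN hx hy
  have h : ∃ c : Fˣ, sc c = ⁅x, y⁆ := ⟨c, hc⟩
  rw [ep, dif_pos h]
  exact h.choose_spec

theorem Ctx.ep_eq (C : Ctx R g r ϖ) {x y : (Matrix.GeneralLinearGroup (Fin n) F)} (hx : x ∈ (R ⊔ scalars (Fin n) F)) (hy : y ∈ (R ⊔ scalars (Fin n) F)) {a : Additive Fˣ}
    (h : ⁅x, y⁆ = sc (Additive.toMul a)) : ep x y = a :=
  Additive.toMul.injective (sc_inj C.hn ((C.sc_ep hx hy).trans h))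

theorem Ctx.tors (C : Ctx R g r ϖ) {x y : (Matrix.GeneralLinearGroup (Fin n) F)} (hx : x ∈ (R ⊔ scalars (Fin n) F)) (hy : y ∈ (R ⊔ scalars (Fin n) F)) : r • ep x y = 0 := by
  obtain ⟨c, hc, hcr⟩ := C.commN hx hy
  rw [C.ep_eq (a := Additive.ofMul c) hx hy hc.symm, ← ofMul_pow, hcr, ofMul_one]

theorem Ctx.ep_zero (C : Ctx R g r ϖ) {x y : (Matrix.GeneralLinearGroup (Fin n) F)} (hx : x ∈ (R ⊔ scalars (Fin n) F)) (hy : y ∈ (R ⊔ scalars (Fin n) F)) :
    ep x y = 0 ↔ x * y = y * x := by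
  rw [← commutatorElement_eq_one_iff_mul_comm]
  constructor
  · intro h; rw [← C.sc_ep hx hy, h, toMul_zero, map_one]
  · intro h; exact C.ep_eq hx hy (by rw [h, toMul_zero, map_one])

theorem Ctx.ep_self (C : Ctx R g r ϖ) {x : (Matrix.GeneralLinearGroup (Fin n) F)} (hx : x ∈ (R ⊔ scalars (Fin n) F)) : ep x x = 0 :=
  (C.ep_zero hx hx).2 rfl

theorem Ctx.ep_swap (C : Ctx R g r ϖ) {x y : (Matrix.GeneralLinearGroup (Fin n) F)} (hx : x ∈ (R ⊔ scalars (Fin n) F)) (hy : y ∈ (R ⊔ scalars (Fin n) F)) :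
    ep y x = -ep x y :=
  C.ep_eq hy hx (by rw [toMul_neg, map_inv, C.sc_ep hx hy, commutatorElement_inv])

theorem Ctx.ep_mul (C : Ctx R g r ϖ) {x y z : (Matrix.GeneralLinearGroup (Fin n) F)} (hx : x ∈ (R ⊔ scalars (Fin n) F)) (hy : y ∈ (R ⊔ scalars (Fin n) F)) (hz : z ∈ (R ⊔ scalars (Fin n) F)) :
    ep x (y * z) = ep x y + ep x z := by
  refine C.ep_eq hx (mul_mem hy hz) ?_
  rw [toMul_add, map_mul, C.sc_ep hx hy]
  have h : x * z = sc (Additive.toMul (ep x z)) * z * x := by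
    rw [C.sc_ep hx hz, commutatorElement_def]; group
  calc ⁅x, y * z⁆ = x * y * x⁻¹ * (x * z) * x⁻¹ * z⁻¹ * y⁻¹ := by rw [commutatorElement_def]; group
    _ = x * y * x⁻¹ * (sc (Additive.toMul (ep x z)) * y⁻¹) := by rw [h]; group
    _ = _ := by rw [sc_comm, commutatorElement_def]; group

theorem Ctx.ep_inv (C : Ctx R g r ϖ) {x y : (Matrix.GeneralLinearGroup (Fin n) F)} (hx : x ∈ (R ⊔ scalars (Fin n) F)) (hy : y ∈ (R ⊔ scalars (Fin n) F)) :
    ep x y⁻¹ = -ep x y := by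
  have h := C.ep_mul hx hy (inv_mem hy)
  rw [mul_inv_cancel, (C.ep_zero hx (one_mem _)).2 (by simp)] at h
  exact (neg_eq_of_add_eq_zero_right h.symm).symm

theorem Ctx.ep_mul_left (C : Ctx R g r ϖ) {x y z : (Matrix.GeneralLinearGroup (Fin n) F)} (hx : x ∈ (R ⊔ scalars (Fin n) F)) (hy : y ∈ (R ⊔ scalars (Fin n) F)) (hz : z ∈ (R ⊔ scalars (Fin n) F)) :
    ep (x * y) z = ep x z + ep y z := by
  rw [C.ep_swap hz (mul_mem hx hy), C.ep_mul hz hx hy, C.ep_swap hz hx, C.ep_swap hz hy]; abel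

theorem Ctx.ep_inv_left (C : Ctx R g r ϖ) {x y : (Matrix.GeneralLinearGroup (Fin n) F)} (hx : x ∈ (R ⊔ scalars (Fin n) F)) (hy : y ∈ (R ⊔ scalars (Fin n) F)) :
    ep x⁻¹ y = -ep x y := by
  rw [C.ep_swap hy (inv_mem hx), C.ep_inv hy hx, C.ep_swap hy hx]

theorem Ctx.cj_mem (C : Ctx R g r ϖ) {x : (Matrix.GeneralLinearGroup (Fin n) F)} (hx : x ∈ (R ⊔ scalars (Fin n) F)) (i : ℕ) : cj g i x ∈ (R ⊔ scalars (Fin n) F) := by
  induction i with
  | zero => rwa [cj_zero]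
  | succ i ih =>
    rw [Nat.add_comm, ← cj_cj]
    simpa [cj] using C.hσ _ ih

theorem Ctx.cj_period (C : Ctx R g r ϖ) (x : (Matrix.GeneralLinearGroup (Fin n) F)) (i : ℕ) : cj g (i + ϖ) x = cj g i x := by
  rw [← cj_cj]; simp [cj, C.hgp]

theorem Ctx.dlt_mem (C : Ctx R g r ϖ) {x : (Matrix.GeneralLinearGroup (Fin n) F)} (hx : x ∈ (R ⊔ scalars (Fin n) F)) : dlt g x ∈ (R ⊔ scalars (Fin n) F) :=
  mul_mem (C.cj_mem hx 1) (inv_mem hx)

theorem Ctx.ep_cj (C : Ctx R g r ϖ) {x y : (Matrix.GeneralLinearGroup (Fin n) F)} (hx : x ∈ (R ⊔ scalars (Fin n) F)) (hy : y ∈ (R ⊔ scalars (Fin n) F)) (i : ℕ) :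
    ep (cj g i x) (cj g i y) = ep x y := by
  refine C.ep_eq (C.cj_mem hx i) (C.cj_mem hy i) ?_
  rw [C.sc_ep hx hy]
  have h1 : ⁅cj g i x, cj g i y⁆ = cj g i ⁅x, y⁆ := by
    simp [commutatorElement_def, cj_mul, cj_inv]
  obtain ⟨c, hc, -⟩ := C.commN hx hy
  rw [h1, ← hc, cj_sc]

theorem Ctx.scalar_of (C : Ctx R g r ϖ) {x : (Matrix.GeneralLinearGroup (Fin n) F)} (hx : x ∈ (R ⊔ scalars (Fin n) F))
    (h : ∀ y ∈ R, ep x y = 0) : x ∈ scalars (Fin n) F := by
  haveI : Nonempty (Fin n) := ⟨⟨0, C.hn⟩⟩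
  exact C.hirr.scalar_of_comm fun s hs => (C.ep_zero hx (le_sup_left (b := scalars (Fin n) F) hs)).1 (h s hs)

theorem prime_root {r : ℕ} (hr : r.Prime) {c : Fˣ} (hc : c ^ r = 1) (hc1 : c ≠ 1) :
    IsPrimitiveRoot (c : F) r := by
  haveI := Fact.mk hr
  rw [IsPrimitiveRoot.coe_units_iff, ← orderOf_eq_prime hc hc1]
  exact IsPrimitiveRoot.orderOf c

theorem Ctx.eig_bound (C : Ctx R g r ϖ) {h : (Matrix.GeneralLinearGroup (Fin n) F)} (hh : h ∈ (R ⊔ scalars (Fin n) F)) (hns : h ∉ scalars (Fin n) F) :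
    2 * finrank F (eig (L h) ⊤ 1) ≤ n ∧ (h ^ r = 1 → r * finrank F (eig (L h) ⊤ 1) = n) := by
  obtain ⟨y, hy, hy0⟩ : ∃ y ∈ R, ep h y ≠ 0 := by
    by_contra hcon
    push Not at hcon
    exact hns (C.scalar_of hh hcon)
  have hy' : y ∈ (R ⊔ scalars (Fin n) F) := le_sup_left (b := scalars (Fin n) F) hy
  obtain ⟨z, hz, hzr⟩ := C.commN hh hy'
  have hz1 : z ≠ 1 := fun hz1 => hy0 <| C.ep_eq hh hy' (by rw [← hz, hz1, toMul_zero])
  have htw : ∀ v ∈ (⊤ : Submodule F (Fin n → F)), L h (L y v) = (z : F) • L y (L h v) := fun v _ =>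
    L_twist (by rw [hz, commutatorElement_def]; group) v
  have hne : (z : F) ≠ 1 := fun h1 => hz1 (Units.ext h1)
  refine ⟨?_, fun hhr => ?_⟩
  · simpa using two_mul_eig_le (L_inj y) (fun _ _ => Submodule.mem_top) htw hne one_ne_zero
  · have hζ := prime_root C.hr hzr hz1
    have := finrank_split (L h) ⊤ (fun _ _ => Submodule.mem_top) C.hr hζ fun v _ => by
      rw [L_pow, hhr, L_one]
    rw [Finset.sum_congr rfl fun a ha => finrank_eig_eq (L_inj y) (fun _ _ => Submodule.mem_top) htw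
      C.hr.pos hζ.pow_eq_one (Finset.mem_range.1 ha)] at this
    simpa using this

theorem Ctx.dlt_pow (C : Ctx R g r ϖ) (hr2 : r ≠ 2) {y : (Matrix.GeneralLinearGroup (Fin n) F)} (hy : y ∈ (R ⊔ scalars (Fin n) F)) (hyr : y ^ r = 1) :
    dlt g y ^ r = 1 := by
  obtain ⟨z, hz, hzr⟩ := C.commN (inv_mem hy) (C.cj_mem hy 1)
  refine mul_pow_eq_one (c := sc z) C.hr hr2 ?_ (by rw [inv_pow, hyr, inv_one]) (by rw [← map_pow, hzr, map_one])
    (sc_comm z) ?_
  · simp only [cj]; rw [conj_pow, hyr]; simp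
  · rw [hz, commutatorElement_def]; group

/-- the eigenspace -/
def Wsp (g : (Matrix.GeneralLinearGroup (Fin n) F)) (c : F) : Submodule F (Fin n → F) := eig (L g) ⊤ c

theorem mem_Wsp {c : F} {v : (Fin n → F)} : v ∈ Wsp g c ↔ L g v = c • v := by simp [Wsp, mem_eig]

theorem twist_bound {x : (Matrix.GeneralLinearGroup (Fin n) F)} {z : Fˣ} (h : g * x = sc z * (x * g)) (hz : z ≠ 1) {c : F} (hc : c ≠ 0) :
    2 * finrank F (Wsp g c) ≤ n := by
  have h2 := two_mul_eig_le (L_inj x) (U := ⊤) (fun _ _ => Submodule.mem_top)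
    (fun v _ => L_twist h v) (fun h1 => hz (Units.ext h1)) hc
  rw [finrank_top, Module.finrank_fin_fun] at h2
  exact h2

theorem inter_fixed {c : F} (hc : c ≠ 0) (y : (Matrix.GeneralLinearGroup (Fin n) F)) (i : ℕ) :
    Wsp g c ⊓ (Wsp g c).map (L y) ≤ eig (L (cj g i (dlt g y))) ⊤ 1 := by
  rintro v ⟨hv, u, hu, rfl⟩
  rw [SetLike.mem_coe, mem_Wsp] at hu hv
  refine mem_eig.2 ⟨Submodule.mem_top, ?_⟩
  rw [one_smul]
  have hgi : ∀ k, L (g ^ k) (L y u) = c ^ k • L y u := by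
    intro k
    induction k with
    | zero => rw [pow_zero, L_one, pow_zero, one_smul]
    | succ k ih => rw [pow_succ', L_mul, ih, map_smul, hv, smul_smul, pow_succ]
  have h1 : L g⁻¹ u = c⁻¹ • u := by
    apply L_inj g
    rw [← L_mul, mul_inv_cancel, L_one, map_smul, hu, smul_smul, inv_mul_cancel₀ hc, one_smul]
  have hd : L (dlt g y) (L y u) = L y u := by
    rw [← L_mul, show dlt g y * y = g * (y * g⁻¹) by simp [dlt, cj, mul_assoc], L_mul, L_mul, h1,
      map_smul, map_smul, hv, smul_smul, inv_mul_cancel₀ hc, one_smul]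
  have hinv : L (g ^ i)⁻¹ (L y u) = (c ^ i)⁻¹ • L y u := by
    apply L_inj (g ^ i)
    rw [← L_mul, mul_inv_cancel, L_one, map_smul, hgi, smul_smul, inv_mul_cancel₀ (pow_ne_zero i hc), one_smul]
  rw [cj, L_mul, hinv, map_smul, L_mul, hd, hgi, smul_smul, inv_mul_cancel₀ (pow_ne_zero i hc), one_smul]

theorem two_le_add_inter (c : F) (y : (Matrix.GeneralLinearGroup (Fin n) F)) :
    2 * finrank F (Wsp g c) ≤ n + finrank F (Wsp g c ⊓ (Wsp g c).map (L y) : Submodule F (Fin n → F)) := by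
  have h := Submodule.finrank_sup_add_finrank_inf_eq (Wsp g c) ((Wsp g c).map (L y))
  rw [finrank_map (L_inj y)] at h
  have := Submodule.finrank_le (Wsp g c ⊔ (Wsp g c).map (L y))
  rw [Module.finrank_fin_fun] at this
  omega

/-- the general bound for odd `ϖ` -/
theorem Ctx.half_bound (C : Ctx R g r ϖ) (hϖ : ϖ.Prime) (hϖ2 : ϖ ≠ 2) (hne : r ≠ ϖ ∨ 5 ≤ r)
    (hB : ∃ y ∈ R, dlt g y ∉ scalars (Fin n) F) {c : F} (hc : c ≠ 0) :
    2 * finrank F (Wsp g c) ≤ n := by
  have hRN : R ≤ (R ⊔ scalars (Fin n) F) := le_sup_left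
  by_cases hpair : ∃ y ∈ R, ∃ i, ep (dlt g y) (cj g i (dlt g y)) ≠ 0
  · obtain ⟨y, hy, i, hne'⟩ := hpair
    have hd := C.dlt_mem (hRN hy)
    obtain ⟨z, hz, -⟩ := C.commN hd (C.cj_mem hd i)
    have hz1 : z ≠ 1 := fun hz1 => hne' <| C.ep_eq hd (C.cj_mem hd i) (by rw [← hz, hz1, toMul_zero])
    have hbot : Wsp g c ⊓ (Wsp g c).map (L y) = ⊥ := by
      rw [Submodule.eq_bot_iff]
      intro v hv
      have h0 := (mem_eig.1 (inter_fixed hc y 0 hv)).2
      have hi := (mem_eig.1 (inter_fixed hc y i hv)).2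
      rw [cj_zero, one_smul] at h0
      rw [one_smul] at hi
      have h2 := L_twist (x := dlt g y) (y := cj g i (dlt g y)) (c := z)
        (by rw [hz, commutatorElement_def]; group) v
      rw [hi, h0, hi] at h2
      have h3 : ((z : F) - 1) • v = 0 := by rw [sub_smul, one_smul, ← h2, sub_self]
      exact (smul_eq_zero.1 h3).resolve_left (sub_ne_zero.2 fun h => hz1 (Units.ext h))
    have h := two_le_add_inter (g := g) c y
    rw [hbot, finrank_bot] at h
    exact h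
  push Not at hpair
  have H : ∀ y ∈ (R ⊔ scalars (Fin n) F), ∀ i, ep (dlt g y) (cj g i (dlt g y)) = 0 := by
    intro y hy i
    obtain ⟨a, ha, d, rfl⟩ := mem_N hy
    have : dlt g (a * sc d) = dlt g a := by
      simp [dlt, cj_mul, cj_sc, mul_assoc]
    rw [this]
    exact hpair a ha i
  -- the progression
  have hprog : ∀ y ∈ (R ⊔ scalars (Fin n) F), ∀ i : ℕ, ep y (cj g i y) = i • ep y (cj g 1 y) := by
    intro y hy i
    have hm := fun i => C.cj_mem hy i
    induction i using Nat.twoStepInduction with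
    | zero => rw [cj_zero, C.ep_self hy, zero_smul]
    | one => rw [one_smul]
    | more k ih1 ih2 =>
      have h := H y hy (k + 1)
      simp only [dlt, cj_mul, cj_inv, cj_cj] at h
      rw [C.ep_mul_left (hm 1) (inv_mem hy) (mul_mem (hm _) (inv_mem (hm _))),
        C.ep_mul (hm 1) (hm _) (inv_mem (hm _)), C.ep_inv (hm 1) (hm _),
        C.ep_mul (inv_mem hy) (hm _) (inv_mem (hm _)), C.ep_inv (inv_mem hy) (hm _),
        C.ep_inv_left hy (hm _), C.ep_inv_left hy (hm _)] at h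
      have e1 : ep (cj g 1 y) (cj g (k + 1 + 1) y) = ep y (cj g (k + 1) y) := by
        rw [show k + 1 + 1 = 1 + (k + 1) by omega, ← cj_cj, C.ep_cj hy (hm _)]
      have e2 : ep (cj g 1 y) (cj g (k + 1) y) = ep y (cj g k y) := by
        rw [show k + 1 = 1 + k by omega, ← cj_cj, C.ep_cj hy (hm _)]
      rw [e1, e2, ih1, ih2] at h
      rw [show k + 2 = k + 1 + 1 by omega]
      linear_combination (norm := module) -h
  -- polarisation
  have hpol : (∀ y ∈ (R ⊔ scalars (Fin n) F), ep y (cj g 1 y) = 0) → False := by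
    intro h0
    have hsymm : ∀ x ∈ (R ⊔ scalars (Fin n) F), ∀ y ∈ (R ⊔ scalars (Fin n) F), ep x (cj g 2 y) = ep x y := by
      intro x hx y hy
      have key : ∀ x ∈ (R ⊔ scalars (Fin n) F), ∀ y ∈ (R ⊔ scalars (Fin n) F), ep x (cj g 1 y) + ep y (cj g 1 x) = 0 := by
        intro x hx y hy
        have h := h0 _ (mul_mem hx hy)
        rw [cj_mul, C.ep_mul_left hx hy (mul_mem (C.cj_mem hx 1) (C.cj_mem hy 1)),
          C.ep_mul hx (C.cj_mem hx 1) (C.cj_mem hy 1), C.ep_mul hy (C.cj_mem hx 1) (C.cj_mem hy 1),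
          h0 x hx, h0 y hy] at h
        simpa using h
      have h1 := key x hx (cj g 1 y) (C.cj_mem hy 1)
      rw [cj_cj, C.ep_cj hy hx, C.ep_swap hx hy] at h1
      exact add_neg_eq_zero.1 h1
    obtain ⟨y, hy, hyd⟩ := hB
    obtain ⟨m, hm⟩ := hϖ.odd_of_ne_two hϖ2
    have hk : ∀ k, cj g (2 * k) y * y⁻¹ ∈ scalars (Fin n) F := by
      intro k
      induction k with
      | zero => simp [cj_zero, one_mem]
      | succ k ih =>
        have h2 : cj g 2 y * y⁻¹ ∈ scalars (Fin n) F := by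
          refine C.scalar_of (mul_mem (C.cj_mem (hRN hy) 2) (inv_mem (hRN hy))) fun x hx => ?_
          rw [C.ep_swap (hRN hx) (mul_mem (C.cj_mem (hRN hy) 2) (inv_mem (hRN hy))),
            C.ep_mul (hRN hx) (C.cj_mem (hRN hy) 2) (inv_mem (hRN hy)), C.ep_inv (hRN hx) (hRN hy),
            hsymm x (hRN hx) y (hRN hy)]
          simp
        obtain ⟨d, hd⟩ := h2
        change sc d = cj g 2 y * y⁻¹ at hd
        rw [show 2 * (k + 1) = 2 * k + 2 by omega, ← cj_cj, eq_mul_inv_iff_mul_eq.1 hd |>.symm,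
          cj_mul, cj_sc, mul_assoc]
        exact mul_mem (sc_mem d) ih
    have := hk (m + 1)
    rw [show 2 * (m + 1) = 1 + ϖ by omega, C.cj_period] at this
    exact hyd this
  have hclose : ∀ y ∈ (R ⊔ scalars (Fin n) F), ϖ • ep y (cj g 1 y) = 0 := fun y hy => by
    rw [← hprog y hy, ← zero_add ϖ, C.cj_period, cj_zero, C.ep_self hy]
  by_cases hrϖ : r ≠ ϖ
  · refine (hpol fun y hy => ?_).elim
    rw [← AddMonoid.addOrderOf_eq_one_iff]
    exact Nat.eq_one_of_dvd_coprimes ((Nat.coprime_primes C.hr hϖ).2 hrϖ)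
      (addOrderOf_dvd_of_nsmul_eq_zero (C.tors hy (C.cj_mem hy 1)))
      (addOrderOf_dvd_of_nsmul_eq_zero (hclose y hy))
  push Not at hrϖ
  subst hrϖ
  have hr5 : 5 ≤ r := hne.resolve_left (by simp)
  obtain ⟨y, hy, hy1⟩ : ∃ y ∈ R, ep y (cj g 1 y) ≠ 0 := by
    by_contra hcon
    push Not at hcon
    refine hpol fun x hx => ?_
    obtain ⟨a, ha, d, rfl⟩ := mem_N hx
    rw [cj_mul, cj_sc]
    refine C.ep_eq hx (mul_mem (C.cj_mem (hRN ha) 1) (le_sup_right (a := R) (sc_mem d))) ?_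
    rw [comm_mul_sc, comm_mul_sc', ← C.sc_ep (hRN ha) (C.cj_mem (hRN ha) 1), hcon a ha]
  have hyN : y ∈ (R ⊔ scalars (Fin n) F) := hRN hy
  have hym := fun i => C.cj_mem hyN i
  set h := dlt g y with hdef
  set h2 := dlt g h with h2def
  have hhN : h ∈ (R ⊔ scalars (Fin n) F) := C.dlt_mem hyN
  have h2N : h2 ∈ (R ⊔ scalars (Fin n) F) := C.dlt_mem hhN
  have hhy : ep y h = ep y (cj g 1 y) := by
    rw [hdef, dlt, C.ep_mul hyN (hym 1) (inv_mem hyN), C.ep_inv hyN hyN, C.ep_self hyN]; simp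
  have hy2 : ep y h2 = 0 := by
    have e : ep y (cj g 1 h) = ep y h := by
      rw [hhy, hdef, dlt, cj_mul, cj_inv, cj_cj, C.ep_mul hyN (hym _) (inv_mem (hym _)), C.ep_inv hyN (hym _),
        hprog y hyN (1 + 1)]
      module
    rw [h2def, dlt, C.ep_mul hyN (C.cj_mem hhN 1) (inv_mem hhN), C.ep_inv hyN hhN, e]; simp
  have hh2 : ep h h2 = 0 := by
    rw [h2def, dlt, C.ep_mul hhN (C.cj_mem hhN 1) (inv_mem hhN), C.ep_inv hhN hhN, C.ep_self hhN,
      hdef, H y hyN 1]; simp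
  have hd3 : dlt g h2 ∈ scalars (Fin n) F := by
    refine C.scalar_of (C.dlt_mem h2N) fun w hw => ?_
    have hwN : w ∈ (R ⊔ scalars (Fin n) F) := hRN hw
    have rel : ∀ k, ep w (cj g (k + 4) y) - ep w (cj g k y) =
        2 • (ep w (cj g (k + 3) y) - ep w (cj g (k + 1) y)) := by
      intro k
      have pol : ∀ a ∈ (R ⊔ scalars (Fin n) F), ∀ b ∈ (R ⊔ scalars (Fin n) F), ∀ i : ℕ,
          ep a (cj g i b) + ep b (cj g i a) = i • (ep a (cj g 1 b) + ep b (cj g 1 a)) := by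
        intro a ha b hb i
        have hab := hprog _ (mul_mem ha hb) i
        simp only [cj_mul] at hab
        rw [C.ep_mul_left ha hb (mul_mem (C.cj_mem ha _) (C.cj_mem hb _)),
          C.ep_mul ha (C.cj_mem ha _) (C.cj_mem hb _), C.ep_mul hb (C.cj_mem ha _) (C.cj_mem hb _),
          C.ep_mul_left ha hb (mul_mem (C.cj_mem ha _) (C.cj_mem hb _)),
          C.ep_mul ha (C.cj_mem ha _) (C.cj_mem hb _), C.ep_mul hb (C.cj_mem ha _) (C.cj_mem hb _),
          hprog a ha i, hprog b hb i] at hab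
        linear_combination (norm := module) hab
      have hp := pol w hwN (cj g (k + 2) y) (hym _) 2
      simp only [cj_cj] at hp
      have s1 : ep (cj g (k + 2) y) (cj g 2 w) = - ep w (cj g k y) := by
        rw [show k + 2 = 2 + k by omega, ← cj_cj, C.ep_cj (hym k) hwN, C.ep_swap hwN (hym k)]
      have s2 : ep (cj g (k + 2) y) (cj g 1 w) = - ep w (cj g (k + 1) y) := by
        rw [show k + 2 = 1 + (k + 1) by omega, ← cj_cj, C.ep_cj (hym _) hwN, C.ep_swap hwN (hym _)]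
      rw [s1, s2, show 2 + (k + 2) = k + 4 by omega, show 1 + (k + 2) = k + 3 by omega] at hp
      linear_combination (norm := module) hp
    let v : ℕ → Additive Fˣ := fun k => ep w (cj g (k + 3) y) - 3 • ep w (cj g (k + 2) y) +
      3 • ep w (cj g (k + 1) y) - ep w (cj g k y)
    have hv1 : ∀ k, v (k + 1) = - v k := fun k => by
      simp only [v, show k + 1 + 3 = k + 4 by omega, show k + 1 + 2 = k + 3 by omega,
        show k + 1 + 1 = k + 2 by omega]
      linear_combination (norm := module) rel k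
    have hv2 : ∀ k, v (2 * k) = v 0 := by
      intro k
      induction k with
      | zero => rfl
      | succ k ih => rw [show 2 * (k + 1) = 2 * k + 1 + 1 by omega, hv1, hv1, neg_neg, ih]
    obtain ⟨m, hm⟩ := hϖ.odd_of_ne_two hϖ2
    have hvr : v r = v 0 := by
      simp only [v, show r + 3 = 3 + r by omega, show r + 2 = 2 + r by omega, show r + 1 = 1 + r by omega,
        C.cj_period]
      rw [← zero_add r, C.cj_period]
    have hv0 : 2 • v 0 = 0 := by
      rw [hm, hv1, hv2] at hvr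
      linear_combination (norm := module) -hvr
    have hvt : r • v 0 = 0 := by
      have t : ∀ k, r • ep w (cj g k y) = 0 := fun k => C.tors hwN (hym k)
      simp only [v, zero_add]
      linear_combination (norm := module) t 3 - 3 • t 2 + 3 • t 1 - t 0
    have hv00 : v 0 = 0 := by
      rw [← AddMonoid.addOrderOf_eq_one_iff]
      exact Nat.eq_one_of_dvd_coprimes ((Nat.coprime_primes C.hr Nat.prime_two).2 (by omega))
        (addOrderOf_dvd_of_nsmul_eq_zero hvt) (addOrderOf_dvd_of_nsmul_eq_zero hv0)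
    rw [C.ep_swap hwN (C.dlt_mem h2N), neg_eq_zero]
    have hh : ∀ i, ep w (cj g i h) = ep w (cj g (i + 1) y) - ep w (cj g i y) := fun i => by
      rw [hdef, dlt, cj_mul, cj_inv, cj_cj, C.ep_mul hwN (hym _) (inv_mem (hym _)), C.ep_inv hwN (hym _)]
      abel
    have hh2' : ∀ i, ep w (cj g i h2) = ep w (cj g (i + 1) h) - ep w (cj g i h) := fun i => by
      rw [h2def, dlt, cj_mul, cj_inv, cj_cj, C.ep_mul hwN (C.cj_mem hhN _) (inv_mem (C.cj_mem hhN _)),
        C.ep_inv hwN (C.cj_mem hhN _)]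
      abel
    rw [dlt, C.ep_mul hwN (C.cj_mem h2N 1) (inv_mem h2N), C.ep_inv hwN h2N]
    have h20 := hh2' 0
    rw [cj_zero] at h20
    rw [hh2', h20, hh, hh, hh]
    simp only [v] at hv00
    linear_combination (norm := module) hv00
  obtain ⟨lam, hlam⟩ := hd3
  change sc lam = dlt g h2 at hlam
  by_cases hl : lam ≠ 1
  · exact twist_bound (x := h2) (by rw [hlam]; simp [dlt, cj, mul_assoc]) hl hc
  push Not at hl
  have hg2 : g * h2 = h2 * g := by
    rw [hl, map_one, dlt, eq_mul_inv_iff_mul_eq, one_mul] at hlam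
    simp only [cj, pow_one] at hlam
    exact (eq_mul_inv_iff_mul_eq.1 hlam).symm
  have hr2 : r ≠ 2 := by omega
  have hhr : h ^ r = 1 := C.dlt_pow hr2 hyN (C.hpow hr2 y hy)
  have h2r : h2 ^ r = 1 := C.dlt_pow hr2 hhN hhr
  obtain ⟨ζ, hζ, hζr⟩ := C.commN hhN hyN
  have hζ1 : ζ ≠ 1 := fun h1 => hy1 <| by
    rw [← hhy, C.ep_zero hyN hhN, eq_comm, ← commutatorElement_eq_one_iff_mul_comm, ← hζ, h1, map_one]
  have hprim := prime_root C.hr hζr hζ1
  have hc_g : ∀ v, L g (L h2 v) = L h2 (L g v) := fun v => by rw [← L_mul, hg2, L_mul]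
  have hc_y : ∀ v, L y (L h2 v) = L h2 (L y v) := fun v => by
    rw [← L_mul, (C.ep_zero hyN h2N).1 hy2, L_mul]
  have hc_h : ∀ v, L h (L h2 v) = L h2 (L h v) := fun v => by
    rw [← L_mul, (C.ep_zero hhN h2N).1 hh2, L_mul]
  have hgh : ∀ v, L g (L h v) = L h2 (L h (L g v)) := fun v => by
    rw [← L_mul, show g * h = h2 * (h * g) by simp [h2def, dlt, cj, mul_assoc], L_mul, L_mul]
  have hW : ∀ v ∈ Wsp g c, L h2 v ∈ Wsp g c := fun v hv => by
    rw [mem_Wsp] at hv ⊢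
    rw [hc_g, hv, map_smul]
  have hsW := finrank_split (L h2) (Wsp g c) hW C.hr hprim fun v _ => by rw [L_pow, h2r, L_one]
  have hsV := finrank_split (L h2) ⊤ (fun _ _ => Submodule.mem_top) C.hr hprim fun v _ => by
    rw [L_pow, h2r, L_one]
  rw [finrank_top, Module.finrank_fin_fun] at hsV
  refine le_of_le_of_eq ?_ hsV
  rw [← hsW, Finset.mul_sum]
  refine Finset.sum_le_sum fun j hj => ?_
  set U := eig (L h2) ⊤ ((ζ : F) ^ j) with hU
  have hinv : ∀ T : Module.End F (Fin n → F), (∀ v, T (L h2 v) = L h2 (T v)) → ∀ v ∈ U, T v ∈ U := fun T hT v hv => by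
    obtain ⟨-, hv⟩ := mem_eig.1 hv
    exact mem_eig.2 ⟨Submodule.mem_top, by rw [← hT, hv, map_smul]⟩
  have heq : eig (L h2) (Wsp g c) ((ζ : F) ^ j) = eig (L g) U c := by
    ext v; simp [mem_eig, mem_Wsp, hU, and_comm]
  rw [heq]
  have hscal : ∀ v ∈ U, L g (L h v) = ((ζ : F) ^ j) • L h (L g v) := fun v hv => by
    rw [hgh]
    exact (mem_eig.1 (hinv _ hc_h _ (hinv _ hc_g v hv))).2
  by_cases hj0 : j = 0
  · subst hj0
    refine two_mul_core (H := L h) (L_inj y) (hinv _ hc_h) (hinv _ hc_y) C.hr hr5 hprim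
      (fun v _ => by rw [L_pow, hhr, L_one])
      (fun v _ => L_twist (by rw [hζ, commutatorElement_def]; group) v) (fun v _ => ?_)
      (fun v hv => by simpa using hscal v hv) hc
    rw [← L_mul, ← L_mul, ← L_mul]
    simp [hdef, dlt, cj, mul_assoc]
  · exact two_mul_eig_le (L_inj h) (hinv _ hc_h) hscal
      (hprim.pow_ne_one_of_pos_of_lt hj0 (Finset.mem_range.1 hj)) hc

/-- Eigenspaces of elements normalising an absolutely irreducible extraspecial group. Let F be a finite field, r a prime, and R ≤ GL_n(F) an absolutely irreducible extraspecial r-group (an r-group whose centre equals its derived subgroup and has order r) of exponent r or 4. Let g ∈ GL_n(F) normalise the product of R with the scalar matrices, have prime order ϖ and not be scalar, and let W be the eigenspace of g for any c ∈ F (W may be the zero subspace). Then dim W ≤ 3n/4 if ϖ = 2, dim W ≤ 2n/3 if ϖ = 3, and dim W ≤ n/2 if ϖ > 3; moreover if ϖ = 3 and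 3 does not divide n then dim W ≤ n/2. -/
theorem result {F : Type*} [Field F] [Fintype F] {n r ϖ : ℕ} (R : Subgroup (Matrix.GeneralLinearGroup (Fin n) F)) (hr : r.Prime) (hR : IsPGroup r R) (hZ : Nat.card (Subgroup.center R) = r) (hext : commutator R = Subgroup.center R) (hexp : Monoid.exponent R = r ∨ Monoid.exponent R = 4) (hirr : Cfsg.Geo.ActsAbsolutelyIrreducibly (Cfsg.Geo.matrixSet R)) (g : Matrix.GeneralLinearGroup (Fin n) F) (hg : g ∈ Cfsg.Geo.subgroupNormalizer (R ⊔ Cfsg.Geo.scalars (Fin n) F)) (hϖ : ϖ.Prime) (hord : orderOf g = ϖ) (hns : g ∉ Cfsg.Geo.scalars (Fin n) F) (c : F) :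
    (ϖ = 2 → 4 * Module.finrank F (Module.End.eigenspace (Matrix.toLin' (g : Matrix (Fin n) (Fin n) F)) c) ≤ 3 * n) ∧
    (ϖ = 3 → 3 * Module.finrank F (Module.End.eigenspace (Matrix.toLin' (g : Matrix (Fin n) (Fin n) F)) c) ≤ 2 * n) ∧
    (3 < ϖ → 2 * Module.finrank F (Module.End.eigenspace (Matrix.toLin' (g : Matrix (Fin n) (Fin n) F)) c) ≤ n) ∧
    (ϖ = 3 → ¬ 3 ∣ n → 2 * Module.finrank F (Module.End.eigenspace (Matrix.toLin' (g : Matrix (Fin n) (Fin n) F)) c) ≤ n) := by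
  have hWeq : Module.End.eigenspace (Matrix.toLin' (g : Matrix (Fin n) (Fin n) F)) c = Wsp g c := by
    ext v; rw [Module.End.mem_eigenspace_iff, mem_Wsp]; rfl
  rw [hWeq]
  set w := finrank F (Wsp g c) with hw
  suffices key : 2 * w ≤ n ∨ (ϖ = 2 ∧ 4 * w ≤ 3 * n) ∨ (ϖ = 3 ∧ 3 ∣ n ∧ 3 * w ≤ 2 * n) by
    rcases key with h | ⟨h1, h⟩ | ⟨h1, h3, h⟩
    · omega
    · omega
    · exact ⟨fun h2 => by omega, fun _ => h, fun h2 => by omega, fun _ h4 => absurd h3 h4⟩
  rcases eq_or_ne c 0 with hc | hc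
  · left
    have : Wsp g c = ⊥ := by
      rw [Submodule.eq_bot_iff]
      intro v hv
      rw [mem_Wsp, hc, zero_smul] at hv
      exact L_inj g (hv.trans (map_zero _).symm)
    show 2 * finrank F (Wsp g c) ≤ n
    rw [this, finrank_bot]
    exact Nat.zero_le _
  have hn : 0 < n := by
    rcases Nat.eq_zero_or_pos n with h | h
    · subst h
      exact absurd (by rw [Cfsg.Geo.mem_scalars_iff]; exact ⟨1, Subsingleton.elim _ _⟩) hns
    · exact h
  haveI : Nonempty (Fin n) := ⟨⟨0, hn⟩⟩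
  have hcomm : ∀ x ∈ R, ∀ y ∈ R, ∃ c : Fˣ, sc c = ⁅x, y⁆ ∧ c ^ r = 1 := by
    intro x hx y hy
    have hz : (⁅(⟨x, hx⟩ : R), (⟨y, hy⟩ : R)⁆ : R) ∈ Subgroup.center R :=
      hext ▸ Subgroup.commutator_mem_commutator (Subgroup.mem_top (⟨x, hx⟩ : R))
        (Subgroup.mem_top (⟨y, hy⟩ : R))
    have hpow : (⁅(⟨x, hx⟩ : R), (⟨y, hy⟩ : R)⁆ : R) ^ r = 1 := by
      have := pow_card_eq_one' (x := (⟨_, hz⟩ : Subgroup.center R))
      rw [hZ] at this
      exact congrArg Subtype.val this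
    obtain ⟨c, hc⟩ := AschPrimeBasic.AbsIrred.scalar_of_comm (S := R) hirr (g := ⁅x, y⁆) fun s hs =>
      (congrArg Subtype.val (Subgroup.mem_center_iff.1 hz ⟨s, hs⟩)).symm
    change sc c = _ at hc
    refine ⟨c, hc, sc_inj hn ?_⟩
    rw [map_pow, hc, map_one]
    exact congrArg Subtype.val hpow
  have hpow : r ≠ 2 → ∀ x ∈ R, x ^ r = 1 := by
    intro hr2 x hx
    have hexp' : Monoid.exponent R = r := by
      refine hexp.resolve_right fun h4 => ?_
      obtain ⟨k, hk⟩ := hR ⟨x, hx⟩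
      haveI : Finite (Subgroup.center R) := Nat.finite_of_card_ne_zero (hZ.trans_ne hr.ne_zero)
      haveI : Nontrivial (Subgroup.center R) :=
        Finite.one_lt_card_iff_nontrivial.1 (hZ.symm ▸ hr.one_lt)
      obtain ⟨z, hz1⟩ := exists_ne (1 : Subgroup.center R)
      obtain ⟨l, hl⟩ := hR z.1
      have hz4 : (z.1) ^ 4 = 1 := h4 ▸ Monoid.pow_exponent_eq_one z.1
      have : orderOf z.1 = 1 := Nat.eq_one_of_dvd_coprimes
        (Nat.Coprime.pow l 2 ((Nat.coprime_primes hr Nat.prime_two).2 hr2))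
        (orderOf_dvd_of_pow_eq_one hl) (orderOf_dvd_of_pow_eq_one hz4)
      exact hz1 (Subtype.ext (orderOf_eq_one_iff.1 this))
    exact congrArg Subtype.val (hexp' ▸ Monoid.pow_exponent_eq_one (⟨x, hx⟩ : R))
  have C : Ctx R g r ϖ := ⟨hn, hr, hirr, hcomm, fun x hx => (hg x).1 hx,
    hord ▸ pow_orderOf_eq_one g, hpow⟩
  have hRN : R ≤ R ⊔ Cfsg.Geo.scalars (Fin n) F := le_sup_left
  by_cases hA : ∀ y ∈ R, dlt g y ∈ Cfsg.Geo.scalars (Fin n) F
  · left
    obtain ⟨y, hy, hgy⟩ : ∃ y ∈ R, g * y ≠ y * g := by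
      by_contra hcon
      push Not at hcon
      exact hns (AschPrimeBasic.AbsIrred.scalar_of_comm (S := R) hirr hcon)
    obtain ⟨z, hz⟩ := hA y hy
    change sc z = _ at hz
    refine twist_bound (x := y) (z := z) (by rw [hz]; simp [dlt, cj, mul_assoc]) (fun h1 => hgy ?_) hc
    rw [h1, map_one, dlt, eq_mul_inv_iff_mul_eq, one_mul] at hz
    simp only [cj, pow_one] at hz
    exact (eq_mul_inv_iff_mul_eq.1 hz).symm
  push Not at hA
  by_cases hspec : ϖ = 2 ∨ (ϖ = 3 ∧ r = 3)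
  · obtain ⟨y, hy, hyd⟩ := hA
    obtain ⟨he, he'⟩ := C.eig_bound (C.dlt_mem (hRN hy)) hyd
    have h := two_le_add_inter (g := g) c y
    have hle := Submodule.finrank_mono (inter_fixed (g := g) hc y 0)
    rw [cj_zero] at hle
    rcases hspec with h2 | ⟨h3, hr3⟩
    · exact Or.inr (Or.inl ⟨h2, by omega⟩)
    · have := he' (C.dlt_pow (by omega) (hRN hy) (hpow (by omega) y hy))
      subst hr3
      exact Or.inr (Or.inr ⟨h3, ⟨_, this.symm⟩, by omega⟩)
  · left
    push Not at hspec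
    refine C.half_bound hϖ hspec.1 ?_ hA hc
    by_cases h : r = ϖ
    · right
      have h2 := hϖ.two_le
      have h4 : ϖ ≠ 4 := fun h4 => by rw [h4] at hϖ; norm_num at hϖ
      have h3 : ϖ ≠ 3 := fun h3 => hspec.2 h3 (h.trans h3)
      have := hspec.1
      omega
    · exact Or.inl h

end Cfsg.Agent.S5877
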