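import Cfsg.Statements.S5885

set_option autoImplicit false
set_option linter.style.haveILetI false
open Cfsg

namespace Cfsg.Agent.S5885

open MulAction
open scoped Pointwise

/-- With enough three-cycles, a subgroup `K` maximal containing `H`, with `K ⊓ G_a = H`, has `H` maximal. -/
theorem key {G Ω : Type*} [Group G] [MulAction G Ω] [Finite Ω] [IsPretransitive G Ω]
    (hodd : Odd (Nat.card Ω)) (a : Ω)
    (h3 : ∀ x y z : Ω, x ≠ y → y ≠ z → x ≠ z → ∃ g : G, g • x = y ∧ g • y = z ∧ g • z = x ∧
      ∀ w, w ≠ x → w ≠ y → w ≠ z → g • w = w)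
    (H K : Subgroup G) (hK : IsCoatom K) (hHK : K ⊓ stabilizer G a = H)
    (hmax : ∀ X : Subgroup G, H ≤ X → X ≤ stabilizer G a → X = H ∨ X = stabilizer G a)
    (L : Subgroup G) (hHL : H < L) (hLK : L ≤ K) : L = K := by
  classical
  have hH : ∀ k ∈ K, k • a = a → k ∈ L := fun k hk h =>
    hHL.le (hHK ▸ (⟨hk, h⟩ : k ∈ K ⊓ stabilizer G a))
  let B : Set Ω := orbit L a
  have hblock : ∀ k ∈ K, ∀ p ∈ B, k • p ∈ B → k ∈ L := by
    rintro k hk p ⟨⟨l, hl⟩, rfl⟩ ⟨⟨l', hl'⟩, h⟩
    change l' • a = k • (l • a) at h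
    have : l'⁻¹ * k * l ∈ L := hH _ (mul_mem (mul_mem (inv_mem (hLK hl')) hk) (hLK hl)) (by
      rw [mul_smul, mul_smul, ← h, inv_smul_smul])
    simpa [mul_assoc] using mul_mem (mul_mem hl' this) (inv_mem hl)
  have hLB : ∀ l ∈ L, ∀ p, l • p ∈ B ↔ p ∈ B := fun l hl p => by
    constructor
    · rintro ⟨⟨l', hl'⟩, h⟩
      refine ⟨⟨l⁻¹ * l', mul_mem (inv_mem hl) hl'⟩, ?_⟩
      change l' • a = l • p at h
      change (l⁻¹ * l') • a = p
      rw [mul_smul, h, inv_smul_smul]
    · rintro ⟨⟨l', hl'⟩, rfl⟩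
      exact ⟨⟨l * l', mul_mem hl hl'⟩, mul_smul l l' a⟩
  have haB : a ∈ B := mem_orbit_self a
  have hblock' : ∀ g ∈ K, ∀ k ∈ K, ∀ p, k⁻¹ • p ∈ B → k⁻¹ • (g • p) ∈ B →
      ∀ q, k⁻¹ • q ∈ B → k⁻¹ • (g • q) ∈ B := by
    intro g hg k hk p hp hgp q hq
    have hl : k⁻¹ * g * k ∈ L := hblock _ (mul_mem (mul_mem (inv_mem hk) hg) hk) _ hp (by
      rw [mul_smul, mul_smul, smul_inv_smul]; exact hgp)
    have := (hLB _ hl _).2 hq
    rwa [mul_smul, mul_smul, smul_inv_smul] at this
  obtain ⟨l0, hl0, hl0H⟩ := SetLike.exists_of_lt hHL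
  let x := l0 • a
  have hxB : x ∈ B := ⟨⟨l0, hl0⟩, rfl⟩
  have hxa : x ≠ a := fun h => hl0H (hHK ▸ (⟨hLK hl0, h⟩ : l0 ∈ K ⊓ stabilizer G a))
  refine le_antisymm hLK fun k hk => ?_
  by_contra hkL
  have hkB : k • a ∉ B := fun h => hkL (hblock k hk a haB h)
  let O : Set Ω := orbit K a
  by_cases hO : O = Set.univ
  · -- `K` is transitive
    have hkxB : k • x ∉ B := fun h => hkL (hblock k hk x hxB h)
    have hne : k • a ≠ k • x := fun h => hxa (smul_left_cancel k h).symm
    -- the elements fixing `a` and stabilising `B` lie in `H`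
    let X := stabilizer G a ⊓ stabilizer G B
    have hX : X = H := by
      refine (hmax X ?_ inf_le_left).resolve_right fun hX => ?_
      · intro h hh
        refine ⟨(hHK.symm ▸ hh : h ∈ K ⊓ stabilizer G a).2, ?_⟩
        show h • B = B
        ext p
        constructor
        · rintro ⟨q, hq, rfl⟩
          exact (hLB h (hHL.le hh) q).2 hq
        · intro hp
          exact ⟨h⁻¹ • p, (hLB _ (inv_mem (hHL.le hh)) p).2 hp, smul_inv_smul h p⟩
      · obtain ⟨g, hg1, hg2, hg3, hg4⟩ := h3 x (k • a) (k • x) (fun h => hkB (h ▸ hxB)) hne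
          (fun h => hkxB (h ▸ hxB))
        have hga : g ∈ stabilizer G a := hg4 a hxa.symm (fun h => hkB (h ▸ haB)) (fun h => hkxB (h ▸ haB))
        rw [← hX] at hga
        have hgB : g • B = B := hga.2
        exact hkB (hgB ▸ ⟨x, hxB, hg1⟩)
    -- the size of `B` is odd
    have hdvd : B.ncard ∣ Nat.card Ω := by
      have h1 : B.ncard = H.relIndex L := by
        show (orbit L a).ncard = _
        rw [← index_stabilizer L a]
        show _ = (H.subgroupOf L).index
        congr 1
        ext ⟨l, hl⟩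
        rw [mem_stabilizer_iff, Subgroup.mem_subgroupOf]
        exact ⟨fun h => hHK ▸ (⟨hLK hl, h⟩ : l ∈ K ⊓ stabilizer G a),
          fun h => (hHK.symm ▸ h : l ∈ K ⊓ stabilizer G a).2⟩
      have h2 : Nat.card Ω = H.relIndex K := by
        rw [← Set.ncard_univ, ← hO]
        show (orbit K a).ncard = _
        rw [← index_stabilizer K a]
        show _ = (H.subgroupOf K).index
        congr 1
        ext ⟨l, hl⟩
        rw [mem_stabilizer_iff, Subgroup.mem_subgroupOf]
        exact ⟨fun h => hHK ▸ (⟨hl, h⟩ : l ∈ K ⊓ stabilizer G a),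
          fun h => (hHK.symm ▸ h : l ∈ K ⊓ stabilizer G a).2⟩
      rw [h1, h2, ← Subgroup.relIndex_mul_relIndex H L K hHL.le hLK]
      exact dvd_mul_right _ _
    have hBodd : Odd B.ncard := hodd.of_dvd_nat hdvd
    have hB2 : 1 < B.ncard := (Set.one_lt_ncard (Set.toFinite _)).2 ⟨a, haB, x, hxB, hxa.symm⟩
    obtain ⟨p, hpB, hpa, hpx⟩ : ∃ p ∈ B, p ≠ a ∧ p ≠ x := by
      by_contra hcon
      push Not at hcon
      have hB : B = {a, x} := by
        ext p
        constructor
        · intro hp
          by_cases h : p = a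
          · exact Or.inl h
          · exact Or.inr (hcon p hp h)
        · rintro (rfl | rfl) <;> assumption
      rw [hB, Set.ncard_pair hxa.symm] at hBodd
      exact absurd hBodd (by decide)
    obtain ⟨z, hzB, hzk⟩ : ∃ z, z ∉ B ∧ k⁻¹ • z ∉ B := by
      by_contra hcon
      push Not at hcon
      have hu : (Set.univ : Set Ω) = B ∪ (k • B) := by
        ext z
        simp only [Set.mem_univ, Set.mem_union, true_iff]
        by_cases h : z ∈ B
        · exact Or.inl h
        · exact Or.inr ⟨_, hcon z h, smul_inv_smul k z⟩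
      have hd : Disjoint B (k • B) := by
        rw [Set.disjoint_left]
        rintro z hz ⟨q, hq, rfl⟩
        exact hkL (hblock k hk q hq hz)
      have := congrArg Set.ncard hu
      rw [Set.ncard_univ, Set.ncard_union_eq hd (Set.toFinite _) (Set.toFinite _),
        Set.ncard_smul_set] at this
      exact Nat.not_even_iff_odd.2 hodd ⟨_, this⟩
    have hkpB : k • p ∉ B := fun h => hkL (hblock k hk p hpB h)
    have hzk' : ∀ q ∈ B, k • q ≠ z := fun q hq h => hzk (by rw [← h, inv_smul_smul]; exact hq)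
    obtain ⟨g, hg1, hg2, hg3, hg4⟩ := h3 (k • a) z (k • p) (hzk' a haB) (hzk' p hpB).symm
      (fun h => hpa (smul_left_cancel k h).symm)
    have hgX : g ∈ X := by
      have hfix : ∀ q ∈ B, g • q = q := fun q hq => hg4 q (fun h => hkB (h ▸ hq))
        (fun h => hzB (h ▸ hq)) (fun h => hkpB (h ▸ hq))
      refine ⟨hfix a haB, ?_⟩
      show g • B = B
      ext q
      constructor
      · rintro ⟨r, hr, rfl⟩
        show g • r ∈ B
        rwa [hfix r hr]
      · exact fun hq => ⟨q, hq, hfix q hq⟩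
    have hgK : g ∈ K := (hHK.symm ▸ (hX ▸ hgX) : g ∈ K ⊓ stabilizer G a).1
    have hgx : g • (k • x) = k • x := hg4 _ (fun h => hxa (smul_left_cancel k h))
      (hzk' x hxB) (fun h => hpx (smul_left_cancel k h).symm)
    have := hblock' g hgK k hk (k • x) (by rwa [inv_smul_smul])
      (by rwa [hgx, inv_smul_smul]) (k • a) (by rwa [inv_smul_smul])
    rw [hg1] at this
    exact hzk this
  · -- `K` is intransitive
    have hKO : K ≤ stabilizer G O := fun g hg => by
      show g • O = O
      exact MulAction.smul_orbit (⟨g, hg⟩ : K) a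
    have hne : stabilizer G O ≠ ⊤ := by
      intro h
      apply hO
      rw [Set.eq_univ_iff_forall]
      intro w
      obtain ⟨g, rfl⟩ := exists_smul_eq G a w
      have hg : g ∈ stabilizer G O := h ▸ Subgroup.mem_top g
      rw [← (hg : g • O = O)]
      exact Set.smul_mem_smul_set (mem_orbit_self a)
    have hKeq : stabilizer G O = K := hKO.eq_or_lt.elim Eq.symm fun h => absurd (hK.2 _ h) hne
    have hxO : x ∈ O := ⟨⟨l0, hLK hl0⟩, rfl⟩
    have hkO : k • a ∈ O := ⟨⟨k, hk⟩, rfl⟩
    obtain ⟨g, hg1, hg2, hg3, hg4⟩ := h3 a x (k • a) hxa.symm (fun h => hkB (h ▸ hxB))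
      (fun h => hkB (by rwa [← h]))
    have hgK : g ∈ K := by
      rw [← hKeq]
      show g • O = O
      refine Set.eq_of_subset_of_ncard_le ?_ (le_of_eq (Set.ncard_smul_set g O).symm) (Set.toFinite _)
      rintro _ ⟨q, hq, rfl⟩
      show g • q ∈ O
      by_cases h1 : q = a
      · rw [h1, hg1]; exact hxO
      by_cases h2 : q = x
      · rw [h2, hg2]; exact hkO
      by_cases h3' : q = k • a
      · rw [h3', hg3]; exact mem_orbit_self a
      rwa [hg4 q h1 h2 h3']
    have hgL : g ∈ L := hblock g hgK a haB (hg1.symm ▸ hxB)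
    exact hkB (hg2 ▸ (hLB g hgL x).2 hxB)

/-- Let n be an odd positive integer such that every primitive permutation group of degree n contains the alternating group (so the symmetric and alternating groups are the only primitive groups of degree n). Let G be a finite group, M a maximal subgroup of G of index n, and H a maximal subgroup of M. Then H is a second maximal subgroup of G: H is maximal in every maximal subgroup K of G containing H. -/
theorem result {G : Type*} [Group G]
    [Finite G] (n : ℕ) (hodd : Odd n)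
    (hA : ∀ P : Subgroup (Equiv.Perm (Fin n)), MulAction.IsPreprimitive P (Fin n) → alternatingGroup (Fin n) ≤ P)
    (M : Subgroup G) (hM : IsCoatom M) (hn : M.index = n) (H : Subgroup G) (hHM : H ≤ M)
    (hmax : IsCoatom (H.subgroupOf M)) (K : Subgroup G) (hK : IsCoatom K) (hHK : H ≤ K) :
    IsCoatom (H.subgroupOf K) := by
  classical
  by_cases hKM : K = M
  · subst hKM; exact hmax
  have hne : M ≠ ⊤ := hM.1
  haveI : Fintype (G ⧸ M) := Fintype.ofFinite _
  have hcard : Nat.card (G ⧸ M) = n := hn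
  haveI : Nontrivial (G ⧸ M) := by
    refine Finite.one_lt_card_iff_nontrivial.1 ?_
    refine Subgroup.one_lt_index_of_ne_top hne
  let a : G ⧸ M := ((1 : G) : G ⧸ M)
  have hstab : MulAction.stabilizer G a = M := by
    show MulAction.stabilizer G ((1 : G) : G ⧸ M) = M
    exact MulAction.stabilizer_quotient M
  haveI hprim : MulAction.IsPreprimitive G (G ⧸ M) :=
    (MulAction.isCoatom_stabilizer_iff_preprimitive G a).1 (hstab.symm ▸ hM)
  -- transport to `Fin n`
  let e : (G ⧸ M) ≃ Fin n := (Finite.equivFinOfCardEq hcard)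
  let ψ : G →* Equiv.Perm (Fin n) := e.permCongrHom.toMonoidHom.comp (MulAction.toPermHom G (G ⧸ M))
  have hψ : ∀ g q, ψ g (e q) = e (g • q) := fun g q => by simp [ψ, Equiv.permCongr_apply]
  have hP : MulAction.IsPreprimitive ψ.range (Fin n) := by
    let f : (G ⧸ M) →ₑ[ψ.rangeRestrict] Fin n :=
      { toFun := e, map_smul' := fun g q => (hψ g q).symm }
    exact MulAction.IsPreprimitive.of_surjective (f := f) e.surjective
  have hAle := hA _ hP
  have h3 : ∀ x y z : G ⧸ M, x ≠ y → y ≠ z → x ≠ z → ∃ g : G, g • x = y ∧ g • y = z ∧ g • z = x ∧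
      ∀ w, w ≠ x → w ≠ y → w ≠ z → g • w = w := by
    intro x y z hxy hyz hxz
    have hmem : Equiv.swap (e x) (e y) * Equiv.swap (e y) (e z) ∈ alternatingGroup (Fin n) := by
      rw [Equiv.Perm.mem_alternatingGroup, map_mul, Equiv.Perm.sign_swap (e.injective.ne hxy),
        Equiv.Perm.sign_swap (e.injective.ne hyz)]
      rfl
    obtain ⟨g, hg⟩ := hAle hmem
    have hgq : ∀ q, e (g • q) = Equiv.swap (e x) (e y) (Equiv.swap (e y) (e z) (e q)) := fun q => by
      rw [← hψ, hg]; rfl
    have e1 := e.injective.ne hxy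
    have e2 := e.injective.ne hyz
    have e3 := e.injective.ne hxz
    refine ⟨g, e.injective ?_, e.injective ?_, e.injective ?_, fun w h1 h2 h4 => e.injective ?_⟩
    · rw [hgq, Equiv.swap_apply_of_ne_of_ne e1 e3, Equiv.swap_apply_left]
    · rw [hgq, Equiv.swap_apply_left, Equiv.swap_apply_of_ne_of_ne e3.symm e2.symm]
    · rw [hgq, Equiv.swap_apply_right, Equiv.swap_apply_right]
    · rw [hgq, Equiv.swap_apply_of_ne_of_ne (e.injective.ne h2) (e.injective.ne h4),
        Equiv.swap_apply_of_ne_of_ne (e.injective.ne h1) (e.injective.ne h2)]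
  have hHeq : ∀ X : Subgroup G, H ≤ X → X ≤ M → X = H ∨ X = M := by
    intro X h1 h2
    rcases hmax.le_iff.1 (Subgroup.comap_mono h1 : H.subgroupOf M ≤ X.subgroupOf M) with h | h
    · right
      exact le_antisymm h2 (Subgroup.subgroupOf_eq_top.1 h)
    · left
      have := Subgroup.subgroupOf_inj.1 h
      rwa [inf_of_le_left h2, inf_of_le_left hHM] at this
  have hKH : K ⊓ M = H := by
    rcases hHeq (K ⊓ M) (le_inf hHK hHM) inf_le_right with h | h
    · exact h
    · exfalso
      rcases (inf_eq_right.1 h).eq_or_lt with h' | h'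
      · exact hKM h'.symm
      · exact hK.1 (hM.2 K h')
  refine ⟨fun h => ?_, fun L hL => ?_⟩
  · have : K ≤ M := (Subgroup.subgroupOf_eq_top.1 h).trans hHM
    rcases this.eq_or_lt with h' | h'
    · exact hKM h'
    · exact hM.1 (hK.2 M h')
  · have hmapH : (H.subgroupOf K).map K.subtype = H := by
      rw [Subgroup.subgroupOf_map_subtype, inf_of_le_left hHK]
    have h1 : H < L.map K.subtype := by
      rw [← hmapH]
      exact Subgroup.map_lt_map_iff_of_injective K.subtype_injective |>.2 hL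
    have := key (G := G) (Ω := G ⧸ M) (hcard.symm ▸ hodd) a h3 H K hK (by rw [hstab]; exact hKH)
      (by rw [hstab]; exact hHeq) _ h1 (Subgroup.map_subtype_le L)
    apply Subgroup.map_injective K.subtype_injective
    rw [this, ← MonoidHom.range_eq_map, Subgroup.range_subtype]

end Cfsg.Agent.S5885
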