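import Cfsg.Statements.S5887

set_option autoImplicit false
set_option linter.style.haveILetI false
set_option synthInstance.maxHeartbeats 400000
open Cfsg

namespace Cfsg.Agent.S5887

open scoped Matrix

variable {F : Type*} [Field F] [Fintype F] {n : ℕ}

/-- A determinant one element centralising a subfield `E` and moving `k` out of `A`. -/
theorem exists_moving (A E : Subalgebra F (Matrix (Fin n) (Fin n) F)) (hEA : E ≤ A)
    (hcomm : ∀ x ∈ A, ∀ y ∈ A, x * y = y * x) (hinv : ∀ x ∈ A, x ≠ 0 → ∃ y ∈ A, x * y = 1)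
    (hEinv : ∀ x ∈ E, x ≠ 0 → ∃ y ∈ E, x * y = 1)
    (hdim : Module.finrank F A < n) (k : Matrix (Fin n) (Fin n) F) (hk : k ∈ A) (hkE : k ∉ E) :
    ∃ g : Matrix.GeneralLinearGroup (Fin n) F, g ∈ Cfsg.Geo.specialLinear (Fin n) F ∧
      (∀ e ∈ E, (g : Matrix (Fin n) (Fin n) F) * e * ((g⁻¹ : Matrix.GeneralLinearGroup (Fin n) F) : Matrix (Fin n) (Fin n) F) = e) ∧
      (g : Matrix (Fin n) (Fin n) F) * k * ((g⁻¹ : Matrix.GeneralLinearGroup (Fin n) F) : Matrix (Fin n) (Fin n) F) ∉ A := by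
  classical
  haveI : Nonempty (Fin n) := ⟨⟨0, by omega⟩⟩
  letI : CommRing E :=
    { (inferInstance : Ring E) with mul_comm := fun x y => Subtype.ext (hcomm _ (hEA x.2) _ (hEA y.2)) }
  have hfld : IsField E := by
    refine ⟨⟨0, 1, zero_ne_one⟩, mul_comm, fun {x} hx => ?_⟩
    obtain ⟨y, hy, hxy⟩ := hEinv x x.2 (fun h => hx (Subtype.ext h))
    exact ⟨⟨y, hy⟩, Subtype.ext hxy⟩
  letI : Field E := hfld.toField
  have hsmul : ∀ (e : E) (x : Fin n → F), e • x = (e : Matrix (Fin n) (Fin n) F) *ᵥ x := fun e x => rfl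
  -- a vector `v` and one outside `A v`
  let v : Fin n → F := Pi.single ⟨0, by omega⟩ 1
  have hv : v ≠ 0 := by simp [v]
  let ev : A →ₗ[F] (Fin n → F) :=
    { toFun := fun a => (a : Matrix (Fin n) (Fin n) F) *ᵥ v
      map_add' := fun a b => by simp [Matrix.add_mulVec]
      map_smul' := fun c a => by simp [Matrix.smul_mulVec] }
  obtain ⟨w, hw⟩ : ∃ w, w ∉ LinearMap.range ev := by
    by_contra hcon
    push Not at hcon
    have h1 := LinearMap.finrank_range_le ev
    rw [show LinearMap.range ev = ⊤ from eq_top_iff.2 fun x _ => hcon x, finrank_top,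
      Module.finrank_fin_fun] at h1
    omega
  have hAinj : ∀ a ∈ A, a *ᵥ v = 0 → a = 0 := by
    intro a ha h0
    by_contra hne
    obtain ⟨b, hb, hab⟩ := hinv a ha hne
    rw [hcomm a ha b hb] at hab
    apply hv
    rw [← Matrix.one_mulVec v, ← hab, ← Matrix.mulVec_mulVec, h0, Matrix.mulVec_zero]
  let W : Submodule E (Fin n → F) := Submodule.span E {v, w}
  have hkW : k *ᵥ v ∉ W := by
    intro h
    obtain ⟨a, b, hab⟩ := Submodule.mem_span_pair.1 h
    rw [hsmul, hsmul] at hab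
    have hb : (b : Matrix (Fin n) (Fin n) F) = 0 := by
      by_contra hne
      obtain ⟨c, hc, hbc⟩ := hinv _ (hEA b.2) hne
      apply hw
      refine ⟨⟨c * (k - (a : Matrix (Fin n) (Fin n) F)), mul_mem hc (sub_mem hk (hEA a.2))⟩, ?_⟩
      show (c * (k - (a : Matrix (Fin n) (Fin n) F))) *ᵥ v = w
      rw [← Matrix.mulVec_mulVec, Matrix.sub_mulVec, ← hab, add_sub_cancel_left, Matrix.mulVec_mulVec,
        ← hcomm _ (hEA b.2) c hc, hbc, Matrix.one_mulVec]
    rw [hb, Matrix.zero_mulVec, add_zero] at hab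
    have h0 := hAinj _ (sub_mem hk (hEA a.2)) (by rw [Matrix.sub_mulVec, hab, sub_self])
    exact hkE ((sub_eq_zero.1 h0) ▸ a.2)
  obtain ⟨φ, hφk, hφW⟩ := Submodule.exists_dual_map_eq_bot_of_notMem hkW inferInstance
  have hφ0 : ∀ x ∈ W, φ x = 0 := fun x hx => by
    have : φ x ∈ W.map φ := Submodule.mem_map_of_mem hx
    rw [hφW] at this
    simpa using this
  have hsc : ∀ (c : F) (x : Fin n → F), c • x = (algebraMap F E c) • x := fun c x => by
    rw [hsmul, Subalgebra.coe_algebraMap, Algebra.algebraMap_eq_smul_one, Matrix.smul_mulVec,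
      Matrix.one_mulVec]
  let N₀ : (Fin n → F) →ₗ[F] (Fin n → F) :=
    { toFun := fun x => φ x • w
      map_add' := fun x y => by rw [map_add, add_smul]
      map_smul' := fun c x => by
        rw [RingHom.id_apply, hsc c x, map_smul, smul_eq_mul, mul_smul, ← hsc] }
  let N := LinearMap.toMatrix' N₀
  have hN : ∀ x, N *ᵥ x = φ x • w := fun x => LinearMap.toMatrix'_mulVec N₀ x
  have hw0 : φ w = 0 := hφ0 w (Submodule.subset_span (by simp))
  have hv0 : φ v = 0 := hφ0 v (Submodule.subset_span (by simp))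
  have hNN : N * N = 0 := by
    apply Matrix.toLin'.injective
    apply LinearMap.ext
    intro x
    simp only [Matrix.toLin'_apply, map_zero, LinearMap.zero_apply]
    rw [← Matrix.mulVec_mulVec, hN, hN, map_smul, hw0]
    simp
  let g : Matrix.GeneralLinearGroup (Fin n) F :=
    ⟨1 + N, 1 - N, by rw [add_mul, mul_sub, mul_sub, hNN]; simp,
      by rw [sub_mul, mul_add, mul_add, hNN]; simp⟩
  refine ⟨g, ?_, ?_, ?_⟩
  · obtain ⟨p, hp⟩ := CharP.exists F
    haveI := hp
    haveI : Fact p.Prime := ⟨CharP.char_is_prime F p⟩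
    haveI : CharP (Matrix (Fin n) (Fin n) F) p := inferInstance
    have hNp : N ^ p = 0 := by
      obtain ⟨m, hm⟩ := Nat.exists_eq_add_of_le (Fact.out : p.Prime).two_le
      rw [hm, pow_add, sq, hNN, zero_mul]
    have hgp : (1 + N) ^ p = 1 := by
      rw [add_pow_char_of_commute p (Commute.one_left N), one_pow, hNp, add_zero]
    show Matrix.GeneralLinearGroup.det g = 1
    apply Units.ext
    show (1 + N).det = 1
    have := congrArg Matrix.det hgp
    rw [Matrix.det_pow, Matrix.det_one] at this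
    exact frobenius_inj F p (by simpa [frobenius_def] using this)
  · intro e he
    have hc : N * e = e * N := by
      apply Matrix.toLin'.injective
      apply LinearMap.ext
      intro x
      simp only [Matrix.toLin'_apply]
      rw [← Matrix.mulVec_mulVec, ← Matrix.mulVec_mulVec, hN, hN]
      show φ ((⟨e, he⟩ : E) • x) • w = (⟨e, he⟩ : E) • (φ x • w)
      rw [map_smul, smul_eq_mul, mul_smul]
    show (1 + N) * e * (1 - N) = e
    rw [add_mul, one_mul, hc, ← mul_one_add, mul_assoc]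
    have : (1 + N) * (1 - N) = 1 := g.val_inv
    rw [this, mul_one]
  · intro hmem
    apply hw
    have hinv1 : (1 - N) *ᵥ v = v := by
      rw [Matrix.sub_mulVec, Matrix.one_mulVec, hN, hv0, zero_smul, sub_zero]
    obtain ⟨c, hc, hbc⟩ := hEinv (φ (k *ᵥ v) : E) (φ (k *ᵥ v) : E).2 (fun h => hφk (Subtype.ext h))
    refine ⟨⟨c * ((1 + N) * k * (1 - N) - k), mul_mem (hEA hc) (sub_mem hmem hk)⟩, ?_⟩
    show (c * ((1 + N) * k * (1 - N) - k)) *ᵥ v = w
    rw [← Matrix.mulVec_mulVec, Matrix.sub_mulVec, ← Matrix.mulVec_mulVec, hinv1,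
      ← Matrix.mulVec_mulVec, Matrix.add_mulVec, Matrix.one_mulVec, hN, add_sub_cancel_left]
    show c *ᵥ ((φ (k *ᵥ v) : E) • w) = w
    rw [hsmul, Matrix.mulVec_mulVec, ← hcomm _ (hEA (φ (k *ᵥ v)).2) c (hEA hc), hbc, Matrix.one_mulVec]

/-- Let F be a finite field, n a positive integer and r a composite number (r > 1, not prime) that divides n with r < n. Let K be a subalgebra of the algebra of n × n matrices over F which is a field of degree r over F (commutative, every non-zero element invertible, of dimension r over F). Then the normaliser N of K in GL_n(F) (a group of type ΓL_{n/r}(F_{q^r})) is not a maximal subgroup of GL_n(F), and N ∩ SL_n(F) is not a maximal subgroup of SL_n(F): both lie properly inside the normaliser of an intermediate subfield of prime degree over F. -/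
theorem result {F : Type*} [Field F]
    [Fintype F] (n r : ℕ) (hr1 : 1 < r) (hrp : ¬ r.Prime) (hrn : r ∣ n) (hlt : r < n)
    (K : Subalgebra F (Matrix (Fin n) (Fin n) F)) (hK : Cfsg.Geo.IsFieldSubalgebra r K) :
    ¬ IsCoatom (Cfsg.Geo.subalgebraNormalizer K) ∧
      ¬ Cfsg.Geo.IsMaximalIn (Cfsg.Geo.specialLinear (Fin n) F)
        (Cfsg.Geo.subalgebraNormalizer K ⊓ Cfsg.Geo.specialLinear (Fin n) F) := by
  classical
  obtain ⟨p, hp⟩ := CharP.exists F
  haveI := hp
  haveI : Fact p.Prime := ⟨CharP.char_is_prime F p⟩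
  obtain ⟨f, -, hq⟩ := FiniteField.card F p
  set q := Fintype.card F with hqdef
  have hq2 : 2 ≤ q := Fintype.one_lt_card
  let s := r.minFac
  have hsprime : s.Prime := Nat.minFac_prime (by omega)
  have hsr : s ∣ r := Nat.minFac_dvd r
  have hslt : s < r := lt_of_le_of_ne (Nat.le_of_dvd (by omega) hsr) (fun h => hrp (h ▸ hsprime))
  haveI : Nonempty (Fin n) := ⟨⟨0, by omega⟩⟩
  haveI : CharP (Matrix (Fin n) (Fin n) F) p := inferInstance
  have hQ : q ^ s = p ^ ((f : ℕ) * s) := by rw [hq, ← pow_mul]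
  -- the subfield
  let K1 : Subalgebra F (Matrix (Fin n) (Fin n) F) :=
    { carrier := {x | x ∈ K ∧ x ^ (q ^ s) = x}
      mul_mem' := fun {x y} hx hy => ⟨mul_mem hx.1 hy.1, by
        rw [(show Commute x y from hK.comm x hx.1 y hy.1).mul_pow, hx.2, hy.2]⟩
      one_mem' := ⟨one_mem K, one_pow _⟩
      add_mem' := fun {x y} hx hy => ⟨add_mem hx.1 hy.1, by
        rw [hQ, add_pow_char_pow_of_commute p _ (show Commute x y from hK.comm x hx.1 y hy.1), ← hQ, hx.2, hy.2]⟩
      zero_mem' := ⟨zero_mem K, zero_pow (by positivity)⟩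
      algebraMap_mem' := fun c => ⟨algebraMap_mem K c, by rw [← map_pow, FiniteField.pow_card_pow]⟩ }
  have hK1K : K1 ≤ K := fun x hx => hx.1
  have hK1inv : ∀ x ∈ K1, x ≠ 0 → ∃ y ∈ K1, x * y = 1 := by
    intro x hx hne
    obtain ⟨y, hy, hxy⟩ := hK.inv x hx.1 hne
    refine ⟨y, ⟨hy, ?_⟩, hxy⟩
    have h := congrArg (· ^ (q ^ s)) hxy
    simp only [(show Commute x y from hK.comm x hx.1 y hy).mul_pow, hx.2, one_pow] at h
    calc y ^ (q ^ s) = (y * x) * y ^ (q ^ s) := by rw [← hK.comm x hx.1 y hy, hxy, one_mul]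
      _ = y := by rw [mul_assoc, h, mul_one]
  -- the field `K`
  letI : CommRing K :=
    { (inferInstance : Ring K) with mul_comm := fun x y => Subtype.ext (hK.comm _ x.2 _ y.2) }
  have hfld : IsField K := by
    refine ⟨⟨0, 1, zero_ne_one⟩, mul_comm, fun {x} hx => ?_⟩
    obtain ⟨y, hy, hxy⟩ := hK.inv x x.2 (fun h => hx (Subtype.ext h))
    exact ⟨⟨y, hy⟩, Subtype.ext hxy⟩
  letI : Field K := hfld.toField
  have hcardK : Nat.card K = q ^ r := by
    rw [Module.natCard_eq_pow_finrank (K := F), Nat.card_eq_fintype_card, hK.finrank_eq]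
  obtain ⟨u, hu⟩ := IsCyclic.exists_ofOrder_eq_natCard (α := Kˣ)
  rw [Nat.card_units, hcardK] at hu
  have hpow1 : ∀ m, 0 < m → ∀ y : Kˣ, orderOf y = q ^ r - 1 → ((y : K) : Matrix (Fin n) (Fin n) F) ^ (q ^ m) = ((y : K) : Matrix (Fin n) (Fin n) F) → q ^ r - 1 ∣ q ^ m - 1 := by
    intro m _ y hy h
    rw [← hy]
    apply orderOf_dvd_of_pow_eq_one
    have h' : y ^ (q ^ m) = y := Units.ext (Subtype.ext (by simpa using h))
    have hpos : 1 ≤ q ^ m := Nat.one_le_pow _ _ (by omega)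
    rw [← Nat.sub_add_cancel hpos, pow_succ] at h'
    exact mul_eq_right.1 h'
  have hlts : q ^ s < q ^ r := Nat.pow_lt_pow_right hq2 hslt
  have hs1 : q ^ 1 < q ^ s := Nat.pow_lt_pow_right hq2 hsprime.one_lt
  rw [pow_one] at hs1
  have huK1 : ((u : K) : Matrix (Fin n) (Fin n) F) ∉ K1 := by
    intro h
    have := Nat.le_of_dvd (by omega) (hpow1 s hsprime.pos u hu h.2)
    omega
  have hdvd : q ^ s - 1 ∣ q ^ r - 1 := Nat.pow_sub_one_dvd_pow_sub_one q hsr
  let z : Kˣ := u ^ ((q ^ r - 1) / (q ^ s - 1))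
  have hz : orderOf z = q ^ s - 1 := by
    show orderOf (u ^ ((q ^ r - 1) / (q ^ s - 1))) = _
    rw [orderOf_pow_of_dvd (Nat.pos_iff_ne_zero.1 (Nat.div_pos (by omega) (by omega))) (by rw [hu]; exact Nat.div_dvd_of_dvd hdvd),
      hu, Nat.div_div_self hdvd (by omega)]
  have hzK1 : ((z : K) : Matrix (Fin n) (Fin n) F) ∈ K1 := by
    refine ⟨(z : K).2, ?_⟩
    have h : z ^ (q ^ s) = z := by
      have hpos : 1 ≤ q ^ s := by omega
      rw [← Nat.sub_add_cancel hpos, pow_succ, ← hz, pow_orderOf_eq_one, one_mul]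
    have := congrArg (fun y : Kˣ => ((y : K) : Matrix (Fin n) (Fin n) F)) h
    simpa using this
  have hzbot : ((z : K) : Matrix (Fin n) (Fin n) F) ∉ (⊥ : Subalgebra F (Matrix (Fin n) (Fin n) F)) := by
    rw [Algebra.mem_bot]
    rintro ⟨c, hc⟩
    have hc0 : c ≠ 0 := by
      rintro rfl
      rw [map_zero] at hc
      exact z.ne_zero (Subtype.ext hc.symm)
    have h : z ^ (q - 1) = 1 := by
      apply Units.ext
      apply Subtype.ext
      simp only [Units.val_pow_eq_pow_val, SubmonoidClass.coe_pow, Units.val_one, OneMemClass.coe_one]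
      rw [← hc, ← map_pow, FiniteField.pow_card_sub_one_eq_one c hc0, map_one]
    have := Nat.le_of_dvd (by omega) (hz ▸ orderOf_dvd_of_pow_eq_one h)
    omega
  -- the element moving `K`
  obtain ⟨g, hgS, hgc, hgK⟩ := exists_moving K K1 hK1K hK.comm hK.inv hK1inv (by rw [hK.finrank_eq]; exact hlt) _ (u : K).2 huK1
  have hK1dim : Module.finrank F K1 < n :=
    lt_of_le_of_lt (LinearMap.finrank_le_finrank_of_injective (f := (Subalgebra.inclusion hK1K).toLinearMap)
      (Subalgebra.inclusion_injective hK1K)) (by rw [hK.finrank_eq]; exact hlt)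
  obtain ⟨g', hgS', -, hgK'⟩ := exists_moving K1 ⊥ bot_le (fun x hx y hy => hK.comm x hx.1 y hy.1) hK1inv
    (fun x hx hne => by
      obtain ⟨c, rfl⟩ := Algebra.mem_bot.1 hx
      have hc : c ≠ 0 := fun h => hne (by rw [h, map_zero])
      exact ⟨algebraMap F _ c⁻¹, Algebra.mem_bot.2 ⟨c⁻¹, rfl⟩, by rw [← map_mul, mul_inv_cancel₀ hc, map_one]⟩)
    hK1dim _ hzK1 hzbot
  let N := Cfsg.Geo.subalgebraNormalizer K
  let N1 := Cfsg.Geo.subalgebraNormalizer K1
  have hle : N ≤ N1 := by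
    intro x hx k
    have hpow : ((x : Matrix (Fin n) (Fin n) F) * k * ((x⁻¹ : Matrix.GeneralLinearGroup (Fin n) F) : Matrix (Fin n) (Fin n) F)) ^ (q ^ s)
        = (x : Matrix (Fin n) (Fin n) F) * k ^ (q ^ s) * ((x⁻¹ : Matrix.GeneralLinearGroup (Fin n) F) : Matrix (Fin n) (Fin n) F) :=
      Units.conj_pow x k _
    constructor
    · exact fun hk => ⟨(hx k).1 hk.1, by rw [hpow, hk.2]⟩
    · rintro ⟨h1, h2⟩
      refine ⟨(hx k).2 h1, ?_⟩
      rw [hpow] at h2
      have := congrArg (fun m => ((x⁻¹ : Matrix.GeneralLinearGroup (Fin n) F) : Matrix (Fin n) (Fin n) F) * m * (x : Matrix (Fin n) (Fin n) F)) h2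
      simpa [mul_assoc] using this
  have hgN1 : g ∈ N1 := by
    intro k
    constructor
    · intro hk
      rw [hgc k hk]; exact hk
    · intro hk
      have := hgc _ hk
      have h2 : (g : Matrix (Fin n) (Fin n) F) * k * ((g⁻¹ : Matrix.GeneralLinearGroup (Fin n) F) : Matrix (Fin n) (Fin n) F) = k :=
        (Units.mul_right_inj g).1 ((Units.mul_left_inj g⁻¹).1 this)
      rwa [h2] at hk
  have hgN : g ∉ N := fun h => hgK ((h _).1 (u : K).2)
  have hgN' : g' ∉ N1 := fun h => hgK' ((h _).1 hzK1)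
  refine ⟨fun h => ?_, fun h => ?_⟩
  · have hlt' : N < N1 := lt_of_le_not_ge hle (fun h' => hgN (h' hgN1))
    have := h.2 N1 hlt'
    exact hgN' (this ▸ Subgroup.mem_top _)
  · rcases h.2 (N1 ⊓ Cfsg.Geo.specialLinear (Fin n) F) (inf_le_inf_right _ hle) inf_le_right with h' | h'
    · have : g ∈ N ⊓ Cfsg.Geo.specialLinear (Fin n) F := h' ▸ ⟨hgN1, hgS⟩
      exact hgN this.1
    · have : g' ∈ N1 ⊓ Cfsg.Geo.specialLinear (Fin n) F := h'.symm ▸ hgS'
      exact hgN' this.1

end Cfsg.Agent.S5887
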