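import Cfsg.Statements.S5890
import Mathlib
import Cfsg.Agent.Lib.DicksonPGLMax

set_option autoImplicit false
open Cfsg

namespace Cfsg.Agent.S5890


open scoped MatrixGroups
open Matrix hiding inv_zero mul_inv_rev

variable {F : Type*} [Field F] [Finite F]

local notation "PSL₂" => Matrix.ProjectiveSpecialLinearGroup (Fin 2) F
local notation "PGL₂" => Matrix.ProjGenLinGroup (Fin 2) F
local notation "ιF" => Matrix.ProjectiveSpecialLinearGroup.toPGL (n := Fin 2) (R := F)

theorem transfer (M : Subgroup PGL₂) (h : IsCoatom (M.comap ιF)) :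
    IsCoatom ((M ⊓ (ιF).range).subgroupOf (ιF).range) := by
  let e : PSL₂ ≃* (ιF).range := MonoidHom.ofInjective ProjectiveSpecialLinearGroup.toPGL_injective
  have he : (M ⊓ (ιF).range).subgroupOf (ιF).range = e.mapSubgroup (M.comap ιF) := by
    ext ⟨y, hy⟩
    constructor
    · rintro ⟨hm, -⟩
      obtain ⟨x, rfl⟩ := hy
      exact ⟨x, hm, Subtype.ext rfl⟩
    · rintro ⟨x, hx, hxy⟩
      have : ιF x = y := congrArg Subtype.val hxy
      exact ⟨this ▸ hx, hy⟩
  rw [he]
  exact (e.mapSubgroup.isCoatom_iff _).mpr h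

theorem even_case (he : Even (Nat.card F)) {M : Subgroup PGL₂} (hM : IsCoatom M) :
    IsCoatom (M.comap ιF) := by
  have hd : Nat.gcd 2 (Nat.card F - 1) = 1 := by
    rcases PSL2Proj52.gcd_eq (F := F) with ⟨ho, -⟩ | ⟨-, h⟩
    · exact absurd he (Nat.not_even_iff_odd.mpr ho)
    · exact h
  have hc := PSLCard.card_PSL2_mul (F := F)
  rw [hd, one_mul, ← PSLCard.card_PGL2 (F := F)] at hc
  let e : PSL₂ ≃* PGL₂ := MulEquiv.ofBijective ιF
    (Function.Injective.bijective_of_nat_card_le ProjectiveSpecialLinearGroup.toPGL_injective hc.ge)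
  have : M.comap ιF = e.symm.mapSubgroup M := Subgroup.comap_equiv_eq_map_symm' e M
  rw [this]
  exact (e.symm.mapSubgroup.isCoatom_iff _).mpr hM

theorem dihedral_coatom (p : ℕ) [Fact p.Prime] [CharP F p] (hq : Odd (Nat.card F))
    (h4 : 4 ≤ Nat.card F) (h7 : Nat.card F ≠ 7) (h9 : Nat.card F ≠ 9) (h11 : Nat.card F ≠ 11)
    {M : Subgroup PGL₂} (hM : IsCoatom M) (hML : ¬ (ιF).range ≤ M) {k : ℕ}
    (hk : k = Nat.card F + 1 ∨ k = Nat.card F - 1) (e : M ≃* DihedralGroup k) {g h : PSL₂}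
    (hg : g ∈ M.comap ιF) (hh : h ∈ M.comap ιF) (hgk : 2 * orderOf g = k) (h3 : 3 ≤ orderOf g)
    (hgh : h * g * h⁻¹ = g⁻¹) : IsCoatom (M.comap ιF) := by
  have hc := DicksonPGLMax.card_comap hq hM hML
  have : NeZero k := ⟨by omega⟩
  rw [Nat.card_congr e.toEquiv, DihedralGroup.nat_card] at hc
  refine ⟨DicksonPGLMax.ne_top_comap hML, fun H hlt => ?_⟩
  by_contra hH
  have hk' : (orderOf g = (Nat.card F + 1) / DicksonPSL.dd F ∧ Nat.card F ≠ 7 ∧ Nat.card F ≠ 9) ∨
      (orderOf g = (Nat.card F - 1) / DicksonPSL.dd F ∧ Nat.card F ∉ ({7, 9, 11} : Finset ℕ)) := by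
    rcases DicksonDihedralMax.arith_facts (F := F) with ⟨-, -, e1, e2⟩ | ⟨he, -⟩
    · rcases hk with hk | hk
      · exact Or.inl ⟨by omega, h7, h9⟩
      · exact Or.inr ⟨by omega, by simp [h7, h9, h11]⟩
    · exact absurd he (Nat.not_even_iff_odd.mpr hq)
  have hcH := DicksonDihedralMax.card_eq_of_le p (by omega) rfl hgh h3 hk' (hlt.le hg) (hlt.le hh) hH
  exact hlt.ne (Subgroup.eq_of_le_of_card_ge hlt.le (by omega))

theorem octahedral_coatom (p : ℕ) [Fact p.Prime] [CharP F p] (hp : Nat.card F = p)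
    (h8 : p % 8 = 3 ∨ p % 8 = 5) (h5 : 5 ≤ p) (h10 : p % 10 ≠ 1 ∧ p % 10 ≠ 9)
    {M : Subgroup PGL₂} (hM : IsCoatom M) (hML : ¬ (ιF).range ≤ M) (e : M ≃* Equiv.Perm (Fin 4)) :
    IsCoatom (M.comap ιF) := by
  have hodd : Odd (Nat.card F) := by rw [hp]; exact (Fact.out : p.Prime).odd_of_ne_two (by omega)
  have hd : DicksonPSL.dd F = 2 := by
    rw [DicksonPSL.dd, hp]
    exact Nat.gcd_eq_left ⟨(p - 1) / 2, by omega⟩
  have hG := PSLCard.card_PSL2_mul (F := F)
  rw [show Nat.gcd 2 (Nat.card F - 1) = 2 from hd, hp] at hG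
  set H := M.comap ιF
  have hH : Nat.card H = 12 := by
    have := DicksonPGLMax.card_comap hodd hM hML
    rw [Nat.card_congr e.toEquiv, Nat.card_perm, Nat.card_fin] at this
    rw [show Nat.factorial 4 = 24 from rfl] at this
    change 2 * Nat.card H = 24 at this
    omega
  refine ⟨DicksonPGLMax.ne_top_comap hML, fun N hlt => ?_⟩
  by_contra hN
  obtain ⟨x, y, hx, hx1, hy, hy1, hxy⟩ : ∃ x y : Equiv.Perm (Fin 4),
      x ^ 3 = 1 ∧ x ≠ 1 ∧ y ^ 3 = 1 ∧ y ≠ 1 ∧ x * y ≠ y * x := by decide +kernel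
  have lift : ∀ z : Equiv.Perm (Fin 4), z ^ 3 = 1 → ∃ u : PSL₂, ιF u = (e.symm z).1 := by
    intro z hz
    have : z = (z * z) * (z * z) := by
      rw [show (z * z) * (z * z) = z ^ 3 * z by simp [pow_succ, mul_assoc], hz, one_mul]
    rw [this, map_mul]
    exact Subgroup.mul_self_mem_of_index_two (DicksonPGLMax.index_range hodd) ((e.symm (z * z)).1)
  obtain ⟨u, hu⟩ := lift x hx
  obtain ⟨v, hv⟩ := lift y hy
  have inj := ProjectiveSpecialLinearGroup.toPGL_injective (n := Fin 2) (R := F)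
  have hmem : ∀ (w : PSL₂) (z : Equiv.Perm (Fin 4)), ιF w = (e.symm z).1 → w ∈ H := fun w z h =>
    show ιF w ∈ M by rw [h]; exact (e.symm z).2
  have hord : ∀ (w : PSL₂) (z : Equiv.Perm (Fin 4)), ιF w = (e.symm z).1 → orderOf w = orderOf z :=
    fun w z h => by rw [← orderOf_injective ιF inj, h, Subgroup.orderOf_coe, e.symm.orderOf_eq]
  have hMG : 2 * Nat.card N ∣ p * (p ^ 2 - 1) := by
    rw [← hG]; exact Nat.mul_dvd_mul_left _ (Subgroup.card_subgroup_dvd_card N)
  have hcop : ∀ k, k.Prime → k < p → Nat.Coprime k p := fun k hk hlt =>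
    (Nat.coprime_primes hk Fact.out).mpr (by omega)
  have hnd : ¬ DicksonPSL.dd F * Nat.card H ∣ Nat.card F * (Nat.card F - 1) := by
    rw [hd, hH, hp]
    intro h
    have h8 : 2 ^ 3 ∣ p * (p - 1) := (by norm_num : 2 ^ 3 ∣ 2 * 12).trans h
    have := (Nat.Coprime.pow_left 3 (hcop 2 Nat.prime_two (by omega))).dvd_of_dvd_mul_left h8
    omega
  rcases DicksonExceptionalMax.over_cases p hlt.le hN (Or.inr hnd)
      ⟨u, hmem u x hu, v, hmem v y hv, fun h => hxy (by
          have h' := congrArg ιF h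
          rw [map_mul, map_mul, hu, hv] at h'
          exact e.symm.injective (Subtype.ext (by rw [map_mul, map_mul]; exact h'))),
        by rw [hord u x hu, orderOf_eq_prime hx hx1], by rw [hord v y hv, orderOf_eq_prime hy hy1]⟩ with
    ⟨⟨e'⟩⟩ | ⟨⟨e'⟩⟩ | ⟨⟨e'⟩⟩ | ⟨s, m, hs, hm, hsm, -⟩
  · refine hlt.ne (Subgroup.eq_of_le_of_card_ge hlt.le ?_)
    rw [hH, Nat.card_congr e'.toEquiv, nat_card_alternatingGroup, Nat.card_fin]; rfl
  · rw [Nat.card_congr e'.toEquiv, Nat.card_perm, Nat.card_fin] at hMG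
    have h16 : 2 ^ 4 ∣ p * (p ^ 2 - 1) := (by norm_num [Nat.factorial] : 2 ^ 4 ∣ 2 * Nat.factorial 4).trans hMG
    have h := (Nat.Coprime.pow_left 4 (hcop 2 Nat.prime_two (by omega))).dvd_of_dvd_mul_left h16
    have h1 : p ^ 2 % 16 = 9 := by
      rw [Nat.pow_mod]
      have : p % 16 = 3 ∨ p % 16 = 5 ∨ p % 16 = 11 ∨ p % 16 = 13 := by omega
      rcases this with h | h | h | h <;> rw [h]
    omega
  · rw [Nat.card_congr e'.toEquiv, nat_card_alternatingGroup, Nat.card_fin] at hMG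
    rcases eq_or_ne p 5 with rfl | h55
    · refine hN (Subgroup.eq_top_of_card_eq N ?_)
      rw [Nat.card_congr e'.toEquiv, nat_card_alternatingGroup, Nat.card_fin]
      norm_num [Nat.factorial] at hG ⊢
      omega
    · have h5d : 5 ∣ p * (p ^ 2 - 1) := (by norm_num [Nat.factorial] : 5 ∣ 2 * (Nat.factorial 5 / 2)).trans hMG
      have h := (hcop 5 (by norm_num) (by omega)).dvd_of_dvd_mul_left h5d
      have h1 : p ^ 2 % 5 = 4 := by
        rw [Nat.pow_mod]
        have hnd : ¬ 5 ∣ p := fun h => h55 ((Nat.prime_dvd_prime_iff_eq (by norm_num) Fact.out).mp h).symm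
        have : p % 5 = 2 ∨ p % 5 = 3 := by omega
        rcases this with h | h <;> rw [h]
      omega
  · exact DicksonExceptionalMax.no_root Fact.out hm (hp ▸ hsm)

theorem subfield_coatom (p : ℕ) [Fact p.Prime] [CharP F p] (hq : Odd (Nat.card F))
    {M : Subgroup PGL₂} (hM : IsCoatom M) (hML : ¬ (ιF).range ≤ M) (R : Subfield F) (c : PGL₂)
    {m : ℕ} (h3 : 3 ≤ Nat.card R) (hm : m.Prime) (ho : Odd m)
    (hF : Nat.card F = Nat.card R ^ m) (h : M = DicksonPGLMax.sub R c) :
    IsCoatom (M.comap ιF) := by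
  haveI : CharP R p := (RingHom.charP_iff R.subtype R.subtype.injective p).mpr inferInstance
  have inj := ProjectiveSpecialLinearGroup.toPGL_injective (n := Fin 2) (R := F)
  let θ : ProjectiveSpecialLinearGroup (Fin 2) R →* PGL₂ :=
    (MulAut.conj c⁻¹).toMonoidHom.comp
      ((Matrix.ProjGenLinGroup.map R.subtype).comp ProjectiveSpecialLinearGroup.toPGL)
  have hθ : ∀ g, θ g ∈ (ιF).range := fun g =>
    DicksonRational.conj_mem_range c⁻¹ (DicksonSubfieldEmbed.toPGL_map_mem_range R.subtype g)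
  let ψ : ProjectiveSpecialLinearGroup (Fin 2) R →* PSL₂ :=
    (MonoidHom.ofInjective inj).symm.toMonoidHom.comp (θ.codRestrict _ hθ)
  have hspec : ∀ g, ιF (ψ g) = θ g := fun g =>
    MonoidHom.apply_ofInjective_symm inj (θ.codRestrict _ hθ g)
  have hψ : Function.Injective ψ := (MonoidHom.ofInjective inj).symm.injective.comp
    fun a b e => (((MulAut.conj c⁻¹).injective.comp
      ((DicksonSubfield.pglMap_injective R.subtype).comp ProjectiveSpecialLinearGroup.toPGL_injective)))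
      (congrArg Subtype.val e)
  have hle : ψ.range ≤ M.comap ιF := by
    rintro _ ⟨g, rfl⟩
    show ιF (ψ g) ∈ M
    rw [hspec, h]
    refine ⟨ProjectiveSpecialLinearGroup.toPGL g, ?_⟩
    show Matrix.ProjGenLinGroup.map R.subtype (ProjectiveSpecialLinearGroup.toPGL g) =
      c * (c⁻¹ * _ * c⁻¹⁻¹) * c⁻¹
    rw [inv_inv, mul_assoc c⁻¹, mul_inv_cancel_left, mul_assoc, mul_inv_cancel, mul_one]
    rfl
  have hRodd : Odd (Nat.card R) := by
    rw [hF] at hq
    exact (Nat.odd_pow_iff hm.ne_zero).mp hq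
  have hcP : 2 * Nat.card (ProjectiveSpecialLinearGroup (Fin 2) R) =
      Nat.card R * (Nat.card R ^ 2 - 1) := by
    rw [← PSLCard.card_PSL2_mul (F := R)]
    congr 1
    obtain ⟨j, hj⟩ := hRodd
    exact (Nat.gcd_eq_left ⟨j, by omega⟩).symm
  have hcM := DicksonPGLMax.card_comap hq hM hML
  have heq : ψ.range = M.comap ιF := Subgroup.eq_of_le_of_card_ge hle (by
    rw [← Nat.card_congr (MonoidHom.ofInjective hψ).toEquiv]
    have hc := congrArg (fun N : Subgroup PGL₂ => Nat.card N) h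
    simp only [DicksonPGLMax.card_sub] at hc
    omega)
  rw [← heq]
  refine DicksonSubfieldMax.coatom_of p (r := Nat.card R) h3 hm hF.symm (Or.inr ⟨?_, hRodd, ho⟩) ?_ ?_
  · rw [← Nat.card_congr (MonoidHom.ofInjective hψ).toEquiv, hcP]
  · refine ⟨_, ⟨PSL2Proj52.π (PSL2Elements.u 1), rfl⟩, _, ⟨PSL2Proj52.π PSL2Elements.w, rfl⟩,
      fun e => ?_⟩
    simp only [← map_mul] at e
    have e' := hψ e
    rw [PSL2Proj52.π_eq_iff] at e'
    rcases e' with e' | e' <;>
      have h1 := congrArg (fun A : Matrix.SpecialLinearGroup (Fin 2) R => A.1 0 0) e' <;>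
      simp [PSL2Elements.u, PSL2Elements.w, PSL2Elements.mul_apply2] at h1
  · intro h4
    have hk : 3 ≤ (Nat.card R + 1) / DicksonPSL.dd R := by
      rcases DicksonDihedralMax.arith_facts (F := R) with ⟨⟨j, hj⟩, -, e1, -⟩ | ⟨-, -, e1, -⟩ <;> omega
    obtain ⟨g, k, hg, hgk, -, -⟩ := DicksonTorus.exists_torus p (F := R) (N := Nat.card R + 1)
      (Or.inr rfl) (by omega)
    refine ⟨_, ⟨g, rfl⟩, _, ⟨k, rfl⟩, by
      rw [← map_inv, ← map_mul, ← map_mul, hgk, map_inv], ?_, ?_⟩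
    all_goals rw [orderOf_injective ψ hψ, hg]
    · exact hk
    · exact DicksonDihedralMax.not_dvd_torus p (F := R) (Or.inl dvd_rfl)
/-- Let F be a finite field with q ≥ 4 elements, let L ≤ PGL₂(F) be the image of SL₂(F) (a copy of PSL₂(F), of index gcd(2, q − 1)), and let M be a maximal subgroup of PGL₂(F) that does not contain L. Suppose q ∉ {7, 9, 11} and that q is not a prime congruent to ±11 or ±19 modulo 40. Then M ∩ L is a maximal subgroup of L. (For the excluded q there are maximal subgroups of PGL₂(q) — dihedral groups of order 12 and 16 at q = 7, of order 20 and 16 at q = 9, of order 20 at q = 11, and S₄ at the excluded primes — whose intersection with L is not maximal in L.) -/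
theorem result {F : Type*} [Field F]
    [Fintype F] (h4 : 4 ≤ Fintype.card F) (h7 : Fintype.card F ≠ 7) (h9 : Fintype.card F ≠ 9) (h11 : Fintype.card F ≠ 11)
    (h40 : (Fintype.card F).Prime → Fintype.card F % 40 ∉ ({11, 19, 21, 29} : Finset ℕ))
    (M : Subgroup (Matrix.ProjGenLinGroup (Fin 2) F)) (hM : IsCoatom M)
    (hML : ¬ (Matrix.ProjGenLinGroup.mk.comp Matrix.SpecialLinearGroup.toGL).range ≤ M) :
    IsCoatom ((M ⊓ (Matrix.ProjGenLinGroup.mk.comp Matrix.SpecialLinearGroup.toGL).range).subgroupOf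
      (Matrix.ProjGenLinGroup.mk.comp Matrix.SpecialLinearGroup.toGL).range) := by
  obtain ⟨p, hpF⟩ := CharP.exists F
  haveI : Fact p.Prime := ⟨CharP.char_is_prime F p⟩
  have hn : Nat.card F = Fintype.card F := Nat.card_eq_fintype_card
  rw [← hn] at h4 h7 h9 h11 h40
  rw [DicksonPGLMax.range_eq] at hML ⊢
  refine transfer M ?_
  rcases Nat.even_or_odd (Nat.card F) with he | hodd
  · exact even_case he hM
  cases DicksonPGLMax.classify p hodd h4 hM hML with
  | point x h => rw [h]; exact DicksonPGLMax.stab_coatom x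
  | dihedral k h6 hk e hgh =>
    obtain ⟨e⟩ := e
    obtain ⟨g, h, hg, hh, hgk, hg3, hgh⟩ := hgh
    exact dihedral_coatom p hodd h4 h7 h9 h11 hM hML hk e hg hh hgk hg3 hgh
  | octahedral hP h8 e =>
    obtain ⟨e⟩ := e
    obtain ⟨n, hn0, hnq⟩ := PSL2Sylow.card_field_eq (F := F) p
    have hn1 : n = 1 := by
      rcases Nat.lt_or_ge n 2 with h | h
      · omega
      · exact (Nat.Prime.not_prime_pow h (hnq ▸ hP)).elim
    rw [hn1, pow_one] at hnq
    have h40' := h40 hP
    simp only [Finset.mem_insert, Finset.mem_singleton] at h40'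
    exact octahedral_coatom p hnq (hnq ▸ h8) (by omega) ⟨by omega, by omega⟩ hM hML e
  | subfield R c m h3 hm ho hq h _ => exact subfield_coatom p hodd hM hML R c h3 hm ho hq h

end Cfsg.Agent.S5890
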