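import Cfsg.Statements.S5891
import Mathlib
import Cfsg.Agent.Lib.DicksonPGLMax

set_option autoImplicit false
open Cfsg

namespace Cfsg.Agent.S5891

/-- Let F be a finite field of odd order q > 3 and characteristic p, and let M be a maximal subgroup of PGL₂(F) not containing the image L of SL₂(F) (a copy of PSL₂(F) of index 2). Then one of the following holds: |M| = q(q − 1) (M is the stabiliser of a point of the projective line); q ≠ 5 and M is dihedral of order 2(q − 1); M is dihedral of order 2(q + 1); q = p ≡ ±3 (mod 8) and M ≅ S₄; or q = q₀^r for an odd prime r and M ≅ PGL₂(F₀) with |F₀| = q₀. -/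
theorem result {F : Type*} [Field F] [Fintype F]
    (hodd : Odd (Fintype.card F)) (h3 : 3 < Fintype.card F) (M : Subgroup (Matrix.ProjGenLinGroup (Fin 2) F)) (hM : IsCoatom M)
    (hML : ¬ (Matrix.ProjGenLinGroup.mk.comp Matrix.SpecialLinearGroup.toGL).range ≤ M) :
    Nat.card M = Fintype.card F * (Fintype.card F - 1) ∨
    (Fintype.card F ≠ 5 ∧ Nonempty (M ≃* DihedralGroup (Fintype.card F - 1))) ∨
    Nonempty (M ≃* DihedralGroup (Fintype.card F + 1)) ∨
    ((Fintype.card F).Prime ∧ (Fintype.card F % 8 = 3 ∨ Fintype.card F % 8 = 5) ∧ Nonempty (M ≃* Equiv.Perm (Fin 4))) ∨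
    (∃ (F₀ : Type) (_ : Field F₀) (_ : Fintype F₀) (r : ℕ), r.Prime ∧ Odd r ∧ Fintype.card F = Fintype.card F₀ ^ r ∧
        Nonempty (M ≃* Matrix.ProjGenLinGroup (Fin 2) F₀)) := by
  obtain ⟨p, hpF⟩ := CharP.exists F
  haveI : Fact p.Prime := ⟨CharP.char_is_prime F p⟩
  have hn : Nat.card F = Fintype.card F := Nat.card_eq_fintype_card
  rw [← hn] at hodd h3 ⊢
  rw [DicksonPGLMax.range_eq] at hML
  cases DicksonPGLMax.classify p hodd (by omega) hM hML with
  | point x h => left; rw [h, DicksonPGLMax.card_stab]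
  | dihedral k h6 hk e _ =>
    rcases hk with hk | hk <;> subst hk
    · exact Or.inr (Or.inr (Or.inl e))
    · exact Or.inr (Or.inl ⟨fun h => by omega, e⟩)
  | octahedral hP h8 e => exact Or.inr (Or.inr (Or.inr (Or.inl ⟨hP, h8, e⟩)))
  | subfield R c m _ hm ho hq _ e =>
    obtain ⟨a, _, -, hK, -⟩ := DicksonPSL.exists_galoisField_equiv p R
    obtain ⟨i⟩ := e
    have hcard : @Fintype.card (GaloisField p a) (Fintype.ofFinite _) = Nat.card R := by
      rw [← @Nat.card_eq_fintype_card _ (Fintype.ofFinite _), hK]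
    exact Or.inr (Or.inr (Or.inr (Or.inr ⟨GaloisField p a, inferInstance, Fintype.ofFinite _, m, hm,
      ho, by rw [hcard, hq], ⟨i.trans (PSLCard.pglEquivOfCard hK.symm)⟩⟩)))

end Cfsg.Agent.S5891
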