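import Cfsg.Statements.S5892
import Mathlib
import Cfsg.Agent.Lib.DicksonLists

set_option autoImplicit false
open Cfsg

namespace Cfsg.Agent.S5892

/-- Let F be a finite field of odd order q ≥ 5 and characteristic p, and let M be a maximal subgroup of PSL₂(F). Then one of the following holds: |M| = q(q − 1)/2 (the stabiliser of a point of the projective line); q ≥ 13 and M is dihedral of order q − 1; q ∉ {7, 9} and M is dihedral of order q + 1; q = q₀² and M ≅ PGL₂(F₀) with |F₀| = q₀; q = q₀^r for an odd prime r and M ≅ PSL₂(F₀) with |F₀| = q₀; q ≡ ±1 (mod 10) with q = p or q = p², p ≡ ±3 (mod 10), and M ≅ A₅; q = p ≡ ±3 (mod 8), q ≢ ±1 (mod 10), and M ≅ A₄; or q = p ≡ ±1 (mod 8) and M ≅ S₄. -/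
theorem result {F : Type*} [Field F] [Fintype F] (p : ℕ)
    [Fact p.Prime] [CharP F p] (hodd : Odd (Fintype.card F)) (h5 : 5 ≤ Fintype.card F)
    (M : Subgroup (Matrix.ProjectiveSpecialLinearGroup (Fin 2) F)) (hM : IsCoatom M) :
    2 * Nat.card M = Fintype.card F * (Fintype.card F - 1) ∨
    (13 ≤ Fintype.card F ∧ (∃ k : ℕ, 2 * k = Fintype.card F - 1 ∧ Nonempty (M ≃* DihedralGroup k))) ∨
    (Fintype.card F ≠ 7 ∧ Fintype.card F ≠ 9 ∧ (∃ k : ℕ, 2 * k = Fintype.card F + 1 ∧ Nonempty (M ≃* DihedralGroup k))) ∨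
    (∃ (F₀ : Type) (_ : Field F₀) (_ : Fintype F₀), Fintype.card F = Fintype.card F₀ ^ 2 ∧
        Nonempty (M ≃* Matrix.ProjGenLinGroup (Fin 2) F₀)) ∨
    (∃ (F₀ : Type) (_ : Field F₀) (_ : Fintype F₀) (r : ℕ), r.Prime ∧ Odd r ∧ Fintype.card F = Fintype.card F₀ ^ r ∧
        Nonempty (M ≃* Matrix.ProjectiveSpecialLinearGroup (Fin 2) F₀)) ∨
    ((Fintype.card F % 10 = 1 ∨ Fintype.card F % 10 = 9) ∧
        (Fintype.card F = p ∨ (Fintype.card F = p ^ 2 ∧ (p % 10 = 3 ∨ p % 10 = 7))) ∧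
        Nonempty (M ≃* alternatingGroup (Fin 5))) ∨
    (Fintype.card F = p ∧ (p % 8 = 3 ∨ p % 8 = 5) ∧ ¬ (p % 10 = 1 ∨ p % 10 = 9) ∧
        Nonempty (M ≃* alternatingGroup (Fin 4))) ∨
    (Fintype.card F = p ∧ (p % 8 = 1 ∨ p % 8 = 7) ∧ Nonempty (M ≃* Equiv.Perm (Fin 4))) := by
  have hn : Nat.card F = Fintype.card F := Nat.card_eq_fintype_card
  rw [← hn] at hodd h5 ⊢
  have hd : DicksonPSL.dd F = 2 := by
    rcases DicksonDihedralMax.arith_facts (F := F) with ⟨-, h, -⟩ | ⟨he, -⟩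
    · exact h
    · exact absurd he (Nat.not_even_iff_odd.mpr hodd)
  have hp2 : p ≠ 2 := by
    rintro rfl
    obtain ⟨n, hn0, hn⟩ := PSL2Sylow.card_field_eq (F := F) 2
    rw [hn] at hodd
    exact absurd (Nat.even_pow.mpr ⟨even_two, by omega⟩) (Nat.not_even_iff_odd.mpr hodd)
  rcases DicksonPSL.dickson_psl_strong p M with ⟨hc, hco, -⟩ | ⟨-, a, ha⟩ | ⟨k, h2, hco, -, ⟨e⟩⟩ |
      ⟨hco, ⟨e⟩⟩ | ⟨hco, ⟨e⟩⟩ | ⟨hco, ⟨e⟩⟩ | ⟨R, h3, ⟨c, hc⟩, hR⟩
  · exact (DicksonMaximal.not_cyclic p (by omega) hM hc hco).elim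
  · left
    exact (congrArg (· * Nat.card M) hd).symm.trans
      (DicksonMaximal.card_borel_case p (by omega) hM ha)
  · obtain ⟨-, hk, -⟩ := DicksonMaximal.dihedral_case p (by omega) hM h2 hco e
    rw [hd] at hk
    obtain ⟨j, hj⟩ := hodd
    rcases hk with hk | hk
    · refine Or.inr (Or.inr (Or.inl ⟨fun h => ?_, fun h => ?_, k, by omega, ⟨e⟩⟩))
      · exact DicksonLists.not_small_dihedral p hp2 hM h2 hco e (Or.inl ⟨by omega, Or.inl h⟩)
      · exact DicksonLists.not_small_dihedral p hp2 hM h2 hco e (Or.inl ⟨by omega, Or.inr h⟩)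
    · refine Or.inr (Or.inl ⟨?_, k, by omega, ⟨e⟩⟩)
      by_contra h13
      obtain ⟨hk3, -, -⟩ := DicksonMaximal.dihedral_case p (by omega) hM h2 hco e
      exact DicksonLists.not_small_dihedral p hp2 hM h2 hco e
        (Or.inr ⟨by omega, by omega⟩)
  · obtain ⟨h1, h8, h10⟩ := DicksonLists.a4_case p (by omega) hM hco e
    exact Or.inr (Or.inr (Or.inr (Or.inr (Or.inr (Or.inr (Or.inl ⟨h1, h8, h10, ⟨e⟩⟩))))))
  · obtain ⟨h1, h8⟩ := DicksonLists.s4_case p hM hco e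
    exact Or.inr (Or.inr (Or.inr (Or.inr (Or.inr (Or.inr (Or.inr ⟨h1, h8, ⟨e⟩⟩))))))
  · obtain ⟨h1, h10⟩ := DicksonLists.a5_case p hp2 hM hco e
    exact Or.inr (Or.inr (Or.inr (Or.inr (Or.inr (Or.inl ⟨h1, h10, ⟨e⟩⟩)))))
  · obtain ⟨r, hr, hq, h⟩ := DicksonLists.sub_case p hM h3 (R := R) (c := c)
      (fun g hg => hc ⟨_, ⟨g, hg, rfl⟩, rfl⟩) hR
    obtain ⟨a, m, -, hK, -⟩ := DicksonPSL.exists_galoisField_equiv p R
    have hcard : @Fintype.card (GaloisField p a) (Fintype.ofFinite _) = Nat.card R := by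
      rw [← @Nat.card_eq_fintype_card _ (Fintype.ofFinite _), hK]
    rcases h with ⟨⟨i⟩, h⟩ | ⟨⟨i⟩, -, hr2⟩
    · refine Or.inr (Or.inr (Or.inr (Or.inl ⟨GaloisField p a, inferInstance, Fintype.ofFinite _,
        ?_, ⟨i.trans (PSLCard.pglEquivOfCard hK.symm)⟩⟩)))
      rcases h with he | rfl
      · exfalso
        rw [hq] at hodd
        exact absurd (Nat.even_pow.mpr ⟨he, hr.ne_zero⟩) (Nat.not_even_iff_odd.mpr hodd)
      · rw [hcard, hq]
    · refine Or.inr (Or.inr (Or.inr (Or.inr (Or.inl ⟨GaloisField p a, inferInstance,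
        Fintype.ofFinite _, r, hr, hr.odd_of_ne_two hr2, by rw [hcard, hq],
        ⟨i.trans (PSLCard.pslEquivOfCard hK.symm)⟩⟩))))

end Cfsg.Agent.S5892
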