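import Cfsg.Statements.S5893
import Mathlib
import Cfsg.Agent.Lib.DicksonLists

set_option autoImplicit false
open Cfsg

namespace Cfsg.Agent.S5893

/-- Let F be a finite field of even order q ≥ 4 and let M be a maximal subgroup of PSL₂(F) (= SL₂(F) = PGL₂(F)). Then one of the following holds: |M| = q(q − 1) (the stabiliser of a point of the projective line, elementary abelian of order q extended by a cyclic group of order q − 1); M is dihedral of order 2(q − 1); M is dihedral of order 2(q + 1); or q = q₀^r for a prime r with q₀ ≠ 2 and M ≅ PSL₂(F₀) with |F₀| = q₀. -/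
theorem result {F : Type*} [Field F] [Fintype F]
    (heven : Even (Fintype.card F)) (h4 : 4 ≤ Fintype.card F) (M : Subgroup (Matrix.ProjectiveSpecialLinearGroup (Fin 2) F)) (hM : IsCoatom M) :
    Nat.card M = Fintype.card F * (Fintype.card F - 1) ∨
    Nonempty (M ≃* DihedralGroup (Fintype.card F - 1)) ∨
    Nonempty (M ≃* DihedralGroup (Fintype.card F + 1)) ∨
    (∃ (F₀ : Type) (_ : Field F₀) (_ : Fintype F₀) (r : ℕ), r.Prime ∧ Fintype.card F₀ ≠ 2 ∧
        Fintype.card F = Fintype.card F₀ ^ r ∧ Nonempty (M ≃* Matrix.ProjectiveSpecialLinearGroup (Fin 2) F₀)) := by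
  have hn : Nat.card F = Fintype.card F := Nat.card_eq_fintype_card
  rw [← hn] at heven h4 ⊢
  have hd : DicksonPSL.dd F = 1 := by
    rcases DicksonDihedralMax.arith_facts (F := F) with ⟨ho, -⟩ | ⟨-, h, -⟩
    · exact absurd heven (Nat.not_even_iff_odd.mpr ho)
    · exact h
  obtain ⟨p, hp'⟩ := CharP.exists F
  have : Fact p.Prime := ⟨CharP.char_is_prime F p⟩
  have hp2 : p = 2 := by
    obtain ⟨n, hn0, hn⟩ := PSL2Sylow.card_field_eq (F := F) p
    by_contra h
    exact absurd heven (Nat.not_even_iff_odd.mpr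
      (hn ▸ ((Fact.out : p.Prime).odd_of_ne_two h).pow))
  subst hp2
  rcases DicksonPSL.dickson_psl_strong 2 M with ⟨hc, hco, -⟩ | ⟨-, a, ha⟩ | ⟨k, h2, hco, -, ⟨e⟩⟩ |
      ⟨hco, ⟨e⟩⟩ | ⟨hco, ⟨e⟩⟩ | ⟨hco, ⟨e⟩⟩ | ⟨R, h3, ⟨c, hc⟩, hR⟩
  · exact (DicksonMaximal.not_cyclic 2 h4 hM hc hco).elim
  · left
    have := DicksonMaximal.card_borel_case 2 h4 hM ha
    rwa [hd, one_mul] at this
  · obtain ⟨-, hk, -⟩ := DicksonMaximal.dihedral_case 2 h4 hM h2 hco e
    rw [hd, Nat.div_one, Nat.div_one] at hk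
    rcases hk with rfl | rfl
    · exact Or.inr (Or.inr (Or.inl ⟨e⟩))
    · exact Or.inr (Or.inl ⟨e⟩)
  · refine absurd ?_ hco
    rw [Nat.card_congr e.toEquiv, nat_card_alternatingGroup, Nat.card_fin]
    norm_num [Nat.factorial]
  · refine absurd ?_ hco
    rw [Nat.card_congr e.toEquiv, Nat.card_perm, Nat.card_fin]
    norm_num [Nat.factorial]
  · refine absurd ?_ (hco.resolve_right (by norm_num))
    rw [Nat.card_congr e.toEquiv, nat_card_alternatingGroup, Nat.card_fin]
    norm_num [Nat.factorial]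
  · obtain ⟨r, hr, hq, h⟩ := DicksonLists.sub_case 2 hM h3 (R := R) (c := c)
      (fun g hg => hc ⟨_, ⟨g, hg, rfl⟩, rfl⟩) hR
    obtain ⟨a, m, -, hK, -⟩ := DicksonPSL.exists_galoisField_equiv 2 R
    have heR : Even (Nat.card R) := (Nat.even_pow.mp (hq ▸ heven)).1
    have hcard : @Fintype.card (GaloisField 2 a) (Fintype.ofFinite _) = Nat.card R := by
      rw [← @Nat.card_eq_fintype_card _ (Fintype.ofFinite _), hK]
    rcases h with ⟨⟨i⟩, -⟩ | ⟨-, ho, -⟩
    swap
    · exact absurd heR (Nat.not_even_iff_odd.mpr ho)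
    have hKd : DicksonPSL.dd (GaloisField 2 a) = 1 := by
      rcases DicksonDihedralMax.arith_facts (F := GaloisField 2 a) with ⟨ho, -⟩ | ⟨-, h, -⟩
      · rw [hK] at ho; exact absurd heR (Nat.not_even_iff_odd.mpr ho)
      · exact h
    have hbij : Function.Bijective (Matrix.ProjectiveSpecialLinearGroup.toPGL
        (n := Fin 2) (R := GaloisField 2 a)) := by
      rw [Nat.bijective_iff_injective_and_card]
      refine ⟨Matrix.ProjectiveSpecialLinearGroup.toPGL_injective, ?_⟩
      rw [PSLCard.card_PGL2, ← PSLCard.card_PSL2_mul (F := GaloisField 2 a),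
        show Nat.gcd 2 (Nat.card (GaloisField 2 a) - 1) = 1 from hKd, one_mul]
    exact Or.inr (Or.inr (Or.inr ⟨GaloisField 2 a, inferInstance, Fintype.ofFinite _, r, hr,
      by rw [hcard]; omega, by rw [hcard, hq],
      ⟨(i.trans (PSLCard.pglEquivOfCard hK.symm)).trans (MulEquiv.ofBijective _ hbij).symm⟩⟩))

end Cfsg.Agent.S5893
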