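import Cfsg.Statements.S5905

set_option autoImplicit false
set_option linter.style.haveILetI false
open Cfsg

namespace Cfsg.Agent.S5905

open MulAction Equiv
open scoped Pointwise

/-- The permutations preserving the fibres of `f`, as a subgroup. -/
def wreath {Ω ι : Type*} (f : Ω → ι) : Subgroup (Equiv.Perm Ω) where
  carrier := {g | ∀ x y : Ω, f x = f y ↔ f (g x) = f (g y)}
  mul_mem' {g h} hg hh := fun x y => (hh x y).trans (hg (h x) (h y))
  one_mem' := fun x y => by simp
  inv_mem' {g} hg := fun x y => by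
    have := hg (g⁻¹ x) (g⁻¹ y)
    simpa using this.symm

theorem closure_eq_wreath {Ω ι : Type*} (f : Ω → ι) :
    Subgroup.closure {g : Equiv.Perm Ω | ∀ x y : Ω, f x = f y ↔ f (g x) = f (g y)} = wreath f :=
  Subgroup.closure_eq (wreath f)

theorem swap_mem_wreath {Ω ι : Type*} [DecidableEq Ω] (f : Ω → ι) {x y : Ω} (h : f x = f y) :
    swap x y ∈ wreath f := by
  have key : ∀ z, f (swap x y z) = f z := fun z => by
    rcases eq_or_ne z x with rfl | h1
    · rw [swap_apply_left, h]
    rcases eq_or_ne z y with rfl | h2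
    · rw [swap_apply_right, h]
    · rw [swap_apply_of_ne_of_ne h1 h2]
  intro u v
  rw [key, key]

/-- Lifting permutations of the fibre set. -/
theorem exists_lift {Ω ι : Type*} [Fintype Ω] [DecidableEq Ω] (f : Ω → ι) (a : ℕ)
    (hf : ∀ i : ι, Nat.card {x : Ω // f x = i} = a) (σ : Equiv.Perm ι) :
    ∃ g ∈ wreath f, ∀ x, f (g x) = σ (f x) ∧ (σ (f x) = f x → g x = x) := by
  classical
  let φ : (i : ι) → {x : Ω // f x = i} ≃ Fin a := fun i => Finite.equivFinOfCardEq (hf i)
  let e : Ω ≃ ι × Fin a :=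
    (sigmaFiberEquiv f).symm.trans ((sigmaCongrRight φ).trans (sigmaEquivProd ι (Fin a)))
  have he : ∀ x, (e x).1 = f x := fun x => by simp [e, sigmaFiberEquiv]
  let g : Equiv.Perm Ω := e.trans ((σ.prodCongr (Equiv.refl (Fin a))).trans e.symm)
  have hg : ∀ x, e (g x) = (σ (e x).1, (e x).2) := fun x => by simp [g]; rfl
  have hgf : ∀ x, f (g x) = σ (f x) := fun x => by rw [← he, hg, he]
  refine ⟨g, fun x y => ?_, fun x => ⟨hgf x, fun h => ?_⟩⟩
  · rw [hgf, hgf, σ.injective.eq_iff]
  · apply e.injective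
    rw [hg]
    exact Prod.ext (by rw [he, h]) rfl

/-- Let Ω be a finite set and f : Ω → Fin b a map onto b ≥ 2 labels whose fibres all have the same size a ≥ 2 (a partition of Ω into b blocks of size a, so |Ω| = ab). Then the stabilizer of this partition in the symmetric group on Ω — the permutations g such that x and y lie in the same block exactly when g x and g y do, a group isomorphic to the imprimitive wreath product S_a ≀ S_b — is a maximal subgroup of the symmetric group. -/
theorem result {Ω : Type*} [Fintype Ω] [DecidableEq Ω] (a b : ℕ) (ha : 2 ≤ a) (hb : 2 ≤ b)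
    (f : Ω → Fin b) (hf : ∀ i : Fin b, Nat.card {x : Ω // f x = i} = a) :
    IsCoatom (Subgroup.closure {g : Equiv.Perm Ω | ∀ x y : Ω, f x = f y ↔ f (g x) = f (g y)}) := by
  classical
  rw [closure_eq_wreath]
  have hfib : ∀ x, ∃ y, y ≠ x ∧ f y = f x := by
    intro x
    have : Nontrivial {y : Ω // f y = f x} := Finite.one_lt_card_iff_nontrivial.1 (by rw [hf]; omega)
    obtain ⟨⟨y, hy⟩, hne⟩ := exists_ne (⟨x, rfl⟩ : {y : Ω // f y = f x})
    exact ⟨y, fun h => hne (Subtype.ext h), hy⟩
  have hsurj : Function.Surjective f := by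
    intro i
    have : Nonempty {x : Ω // f x = i} := (Nat.card_pos_iff.1 (by rw [hf]; omega)).1
    obtain ⟨⟨x, hx⟩⟩ := this
    exact ⟨x, hx⟩
  let i0 : Fin b := ⟨0, by omega⟩
  let i1 : Fin b := ⟨1, by omega⟩
  have hi : i0 ≠ i1 := by simp [i0, i1]
  refine ⟨fun h => ?_, fun X hX => ?_⟩
  · obtain ⟨x, hx⟩ := hsurj i0
    obtain ⟨y, hy⟩ := hsurj i1
    obtain ⟨x', hne, hx'⟩ := hfib x
    have hmem : swap x y ∈ wreath f := h ▸ Subgroup.mem_top _
    have := (hmem x x').1 hx'.symm
    rw [swap_apply_left, swap_apply_of_ne_of_ne hne (fun h' => hi (by rw [← hx, ← hy, ← h', hx']))] at this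
    exact hi (by rw [← hx, ← hy, this, hx'])
  have htrans : ∀ x y : Ω, ∃ w ∈ wreath f, w x = y := by
    intro x y
    obtain ⟨g, hg, hgx⟩ := exists_lift f a hf (swap (f x) (f y))
    have h1 : f (g x) = f y := by rw [(hgx x).1, swap_apply_left]
    exact ⟨swap (g x) y * g, mul_mem (swap_mem_wreath f h1) hg, swap_apply_left _ _⟩
  haveI : IsPretransitive X Ω := ⟨fun x y => by
    obtain ⟨w, hw, hwx⟩ := htrans x y
    exact ⟨⟨w, hX.le hw⟩, hwx⟩⟩
  haveI hprim : IsPreprimitive X Ω := by
    refine ⟨fun {B} hB => ?_⟩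
    show B.Subsingleton ∨ B = Set.univ
    by_contra hcon
    push Not at hcon
    obtain ⟨hsub, huniv⟩ := hcon
    -- an element of `X` moving a point of `B` into `B` preserves `B`
    have hfixB : ∀ g ∈ X, ∀ p ∈ B, g p ∈ B → ∀ q ∈ B, g q ∈ B := by
      intro g hg p hp hgp q hq
      have hk : (⟨g, hg⟩ : X) • B = B :=
        (hB.smul_eq_or_disjoint _).resolve_right
          (Set.not_disjoint_iff.2 ⟨g p, Set.smul_mem_smul_set hp, hgp⟩)
      rw [← hk]
      exact Set.smul_mem_smul_set hq
    by_cases hsame : ∀ p ∈ B, ∀ q ∈ B, f p = f q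
    · -- `B` is a fibre, and then `X` preserves the fibres
      obtain ⟨x, hx, y, hy, hxy⟩ := hsub
      have hall : ∀ z, f z = f x → z ∈ B := by
        intro z hz
        by_cases hzx : z = x
        · rw [hzx]; exact hx
        have hmem : swap y z ∈ X := hX.le (swap_mem_wreath f (by rw [hz, hsame y hy x hx]))
        have hfx : swap y z x = x := swap_apply_of_ne_of_ne hxy (Ne.symm hzx)
        have := hfixB _ hmem x hx (by rw [hfx]; exact hx) y hy
        rwa [swap_apply_left] at this
      have hone : ∀ g ∈ X, ∀ p q : Ω, f p = f q → f (g p) = f (g q) := by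
        intro g hg p q hpq
        obtain ⟨w, hw, hwp⟩ := htrans x p
        obtain ⟨v, hv, hvp⟩ := htrans x (g p)
        have hq : w⁻¹ q ∈ B := by
          apply hall
          have h0 := (inv_mem hw p q).1 hpq
          rw [show w⁻¹ p = x by rw [← hwp]; exact w.symm_apply_apply x] at h0
          exact h0.symm
        let k : Perm Ω := v⁻¹ * g * w
        have hk : k ∈ X := mul_mem (mul_mem (inv_mem (hX.le hv)) hg) (hX.le hw)
        have hkx : k x = x := by
          show v⁻¹ (g (w x)) = x
          rw [hwp, Perm.inv_eq_iff_eq, hvp]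
        have h1 : k (w⁻¹ q) ∈ B := hfixB k hk x hx (by rw [hkx]; exact hx) _ hq
        have h2 : k (w⁻¹ q) = v⁻¹ (g q) := by
          show v⁻¹ (g (w (w⁻¹ q))) = _
          rw [show w (w⁻¹ q) = q from w.apply_symm_apply q]
        rw [h2] at h1
        have h3 := (hv x (v⁻¹ (g q))).1 (hsame x hx _ h1)
        rwa [hvp, show v (v⁻¹ (g q)) = g q from v.apply_symm_apply _] at h3
      apply hX.not_ge
      intro g hg p q
      refine ⟨hone g hg p q, fun h => ?_⟩
      have := hone g⁻¹ (inv_mem hg) _ _ h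
      simpa using this
    · push Not at hsame
      obtain ⟨x, hx, y, hy, hxy⟩ := hsame
      have hfibre : ∀ p ∈ B, ∀ q ∈ B, f p ≠ f q → ∀ z, f z = f p → z ∈ B := by
        intro p hp q hq hpq z hz
        by_cases hzp : z = p
        · rw [hzp]; exact hp
        have hmem : swap p z ∈ X := hX.le (swap_mem_wreath f hz.symm)
        have hfq : swap p z q = q := swap_apply_of_ne_of_ne (fun h => hpq (by rw [h]))
          (fun h => hpq (by rw [h, hz]))
        have := hfixB _ hmem q hq (by rw [hfq]; exact hq) p hp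
        rwa [swap_apply_left] at this
      apply huniv
      rw [Set.eq_univ_iff_forall]
      intro z
      by_cases h1 : f z = f x
      · exact hfibre x hx y hy hxy z h1
      by_cases h2 : f z = f y
      · exact hfibre y hy x hx (Ne.symm hxy) z h2
      obtain ⟨g, hg, hgx⟩ := exists_lift f a hf (swap (f y) (f z))
      have hgx' : g x = x := (hgx x).2 (swap_apply_of_ne_of_ne hxy (Ne.symm h1))
      have hgy : g y ∈ B := hfixB g (hX.le hg) x hx (by rw [hgx']; exact hx) y hy
      have hfgy : f (g y) = f z := by rw [(hgx y).1, swap_apply_left]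
      exact hfibre _ hgy x hx (by rw [hfgy]; exact h1) z hfgy.symm
  obtain ⟨x, hx⟩ := hsurj i0
  obtain ⟨x', hne, hx'⟩ := hfib x
  exact Equiv.Perm.subgroup_eq_top_of_isPreprimitive_of_isSwap_mem hprim (swap x' x)
    (Perm.swap_isSwap_iff.2 hne) (hX.le (swap_mem_wreath f hx'))

end Cfsg.Agent.S5905
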