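import Cfsg.Statements.S5894
import Cfsg.Agent.S5905

set_option autoImplicit false
open Cfsg

namespace Cfsg.Agent.S5894

open MulAction Equiv
open scoped Pointwise

/-- For every m ≥ 2 the symmetric group on 2m letters has a maximal subgroup M of index 2m together with a maximal subgroup H of M that is not second maximal: some maximal subgroup K of the symmetric group contains H without H being maximal in K. (One may take M the stabiliser of a letter, H ≅ S_m × S_{m−1} inside it, and K ≅ S_m ≀ S₂ the stabiliser of a partition into two m-sets, with H < S_m × S_m < K.) So the prime-index hypothesis in the second-maximality criterion cannot be relaxed to any even index ≥ 4. -/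
theorem result (m : ℕ) (hm : 2 ≤ m) :
    ∃ M H K : Subgroup (Equiv.Perm (Fin (2 * m))), IsCoatom M ∧ M.index = 2 * m ∧ H ≤ M ∧ IsCoatom (H.subgroupOf M) ∧
      IsCoatom K ∧ H ≤ K ∧ ¬ IsCoatom (H.subgroupOf K) := by
  classical
  let a : Fin (2 * m) := ⟨0, by omega⟩
  let a' : Fin (2 * m) := ⟨1, by omega⟩
  let O : Set (Fin (2 * m)) := {i | i.val < m}
  let f : Fin (2 * m) → Fin 2 := fun i => if i.val < m then 0 else 1
  have haO : a ∈ O := show 0 < m by omega
  have hf0 : ∀ i, f i = 0 ↔ i ∈ O := fun i => by by_cases h : i.val < m <;> simp [f, O, h]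
  have hfx : ∀ x y, f x = f y ↔ (x ∈ O ↔ y ∈ O) := fun x y => by
    by_cases h1 : x.val < m <;> by_cases h2 : y.val < m <;> simp [f, O, h1, h2]
  have hOcard : O.ncard = m := by
    have : O = Set.range (fun i : Fin m => (⟨i.val, by omega⟩ : Fin (2 * m))) := by
      ext i
      constructor
      · exact fun hi => ⟨⟨i.val, hi⟩, rfl⟩
      · rintro ⟨j, rfl⟩; exact j.2
    rw [this, Set.ncard_range_of_injective (fun i j h => Fin.ext (by simpa using h)), Nat.card_fin]
  have hfib : ∀ i : Fin 2, Nat.card {x // f x = i} = m := by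
    intro i
    fin_cases i
    · refine Eq.trans ?_ hOcard
      rw [← Nat.card_coe_set_eq]
      exact Nat.card_congr (Equiv.subtypeEquivRight fun x => hf0 x)
    · have h2 : Oᶜ.ncard = m := by
        have := Set.ncard_add_ncard_compl O
        rw [Nat.card_fin, hOcard] at this
        omega
      refine Eq.trans ?_ h2
      rw [← Nat.card_coe_set_eq]
      exact Nat.card_congr (Equiv.subtypeEquivRight fun x => by
        by_cases h : x.val < m <;> simp [f, O, h])
  have hK := Cfsg.Agent.S5905.result m 2 hm le_rfl f hfib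
  rw [Cfsg.Agent.S5905.closure_eq_wreath] at hK
  let M := stabilizer (Equiv.Perm (Fin (2 * m))) a
  let L := stabilizer (Equiv.Perm (Fin (2 * m))) O
  have hLK : L ≤ Cfsg.Agent.S5905.wreath f := by
    intro g hg x y
    have hiff : ∀ z, g z ∈ O ↔ z ∈ O := fun z => by
      conv_lhs => rw [← (hg : g • O = O)]
      exact Set.smul_mem_smul_set_iff
    rw [hfx, hfx, hiff, hiff]
  refine ⟨M, M ⊓ L, Cfsg.Agent.S5905.wreath f, ?_, ?_, inf_le_left, ?_, hK, inf_le_right.trans hLK, ?_⟩
  · have h := Equiv.Perm.isCoatom_stabilizer (s := ({a} : Set (Fin (2 * m)))) ⟨a, rfl⟩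
      ⟨a', by simp [a, a']⟩ (by simp; omega)
    rwa [MulAction.stabilizer_singleton] at h
  · rw [MulAction.index_stabilizer, MulAction.orbit_eq_univ, Set.ncard_univ, Nat.card_fin]
  · -- inside the point stabiliser
    let φ₀ : Equiv.Perm {x : Fin (2 * m) // x ≠ a} →* M :=
      (Equiv.Perm.ofSubtype).codRestrict M (fun g => Equiv.Perm.ofSubtype_apply_of_not_mem g (by simp))
    have hbij : Function.Bijective φ₀ := by
      refine ⟨fun g h hgh => Equiv.Perm.ofSubtype_injective (congrArg Subtype.val hgh), fun g => ?_⟩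
      have hga : (g : Equiv.Perm (Fin (2 * m))) a = a := g.2
      have h1 : ∀ x, g.1 x ≠ a ↔ x ≠ a := fun x => by
        constructor
        · intro h h'; exact h (h' ▸ hga)
        · intro h h'; exact h (g.1.injective (h'.trans hga.symm))
      refine ⟨(g : Equiv.Perm (Fin (2 * m))).subtypePerm h1, Subtype.ext ?_⟩
      exact Equiv.Perm.ofSubtype_subtypePerm h1 (fun x hx h' => hx (h' ▸ hga))
    let φ := MulEquiv.ofBijective φ₀ hbij
    let s : Set {x : Fin (2 * m) // x ≠ a} := {x | x.1 ∈ O}
    have hs : s.ncard + 1 = m := by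
      have h1 : Subtype.val '' s = O \ {a} := by
        ext x
        simp [s, and_comm]
      rw [← Set.ncard_image_of_injective _ Subtype.val_injective, h1,
        Set.ncard_sdiff_singleton_add_one haO, hOcard]
    have hα : Nat.card {x : Fin (2 * m) // x ≠ a} + 1 = 2 * m := by
      rw [Nat.card_eq_fintype_card, Fintype.card_subtype_compl, Fintype.card_subtype_eq, Fintype.card_fin]
      omega
    have hco := Equiv.Perm.isCoatom_stabilizer (s := s)
      (by rw [← Set.ncard_pos]; omega)
      ⟨⟨⟨2 * m - 1, by omega⟩, by simp [a, Fin.ext_iff]; omega⟩, by simp [s, O]; omega⟩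
      (by omega)
    have heq : (stabilizer (Equiv.Perm _) s).map φ.toMonoidHom = (M ⊓ L).subgroupOf M := by
      ext g
      obtain ⟨h, rfl⟩ := φ.surjective g
      rw [Subgroup.mem_map_equiv, MulEquiv.symm_apply_apply, Subgroup.mem_subgroupOf, Subgroup.mem_inf]
      have hg : ((φ h : M) : Equiv.Perm (Fin (2 * m))) = Equiv.Perm.ofSubtype h := rfl
      have hval : ∀ x : {x // x ≠ a}, Equiv.Perm.ofSubtype h x = (h x : Fin (2 * m)) :=
        fun x => Equiv.Perm.ofSubtype_apply_coe h x
      constructor
      · intro hh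
        refine ⟨(φ h).2, ?_⟩
        show ((φ h : M) : Equiv.Perm (Fin (2 * m))) • O = O
        refine Set.eq_of_subset_of_ncard_le ?_ (le_of_eq (Set.ncard_smul_set _ O).symm) (Set.toFinite _)
        rintro _ ⟨x, hx, rfl⟩
        show ((φ h : M) : Equiv.Perm (Fin (2 * m))) x ∈ O
        by_cases hxa : x = a
        · rw [hxa, show ((φ h : M) : Equiv.Perm (Fin (2 * m))) a = a from (φ h).2]; exact haO
        · rw [hg, hval ⟨x, hxa⟩]
          have : h ⟨x, hxa⟩ ∈ h • s := ⟨_, hx, rfl⟩
          rwa [(hh : h • s = s)] at this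
      · rintro ⟨-, hh⟩
        show h • s = s
        refine Set.eq_of_subset_of_ncard_le ?_ (le_of_eq (Set.ncard_smul_set _ s).symm) (Set.toFinite _)
        rintro _ ⟨x, hx, rfl⟩
        show (h x).1 ∈ O
        rw [← hval, ← hg, ← (hh : _ • O = O)]
        exact Set.smul_mem_smul_set hx
    rw [← heq]
    exact ((φ.mapSubgroup).isCoatom_iff _).2 hco
  · intro h
    have ha' : a' ∈ O := show 1 < m by omega
    have hne : a ≠ a' := by simp [a, a', Fin.ext_iff]
    have hmem : Equiv.swap a a' ∈ L := by
      rw [MulAction.mem_stabilizer_iff]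
      refine Set.eq_of_subset_of_ncard_le ?_ (le_of_eq (Set.ncard_smul_set _ O).symm) (Set.toFinite _)
      rintro _ ⟨x, hx, rfl⟩
      show Equiv.swap a a' x ∈ O
      rcases eq_or_ne x a with rfl | h1
      · rwa [swap_apply_left]
      rcases eq_or_ne x a' with rfl | h2
      · rwa [swap_apply_right]
      · rwa [swap_apply_of_ne_of_ne h1 h2]
    have hnot : Equiv.swap a a' ∉ M ⊓ L := fun h' => by
      have : Equiv.swap a a' a = a := h'.1
      rw [swap_apply_left] at this
      exact hne this.symm
    have hlt : (M ⊓ L).subgroupOf (Cfsg.Agent.S5905.wreath f) < L.subgroupOf (Cfsg.Agent.S5905.wreath f) := by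
      refine lt_of_le_not_ge (Subgroup.comap_mono inf_le_right) fun hle => hnot ?_
      exact hle (show (⟨_, hLK hmem⟩ : Cfsg.Agent.S5905.wreath f) ∈ L.subgroupOf _ from hmem)
    have htop := Subgroup.subgroupOf_eq_top.1 (h.2 _ hlt)
    obtain ⟨g, hg, hgx⟩ := Cfsg.Agent.S5905.exists_lift f m hfib (Equiv.swap 0 1)
    have hgO : g • O = O := htop hg
    have h0 : g a ∈ O := hgO ▸ Set.smul_mem_smul_set haO
    have := (hgx a).1
    rw [(hf0 (g a)).2 h0, (hf0 a).2 haO] at this
    simp at this

end Cfsg.Agent.S5894
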