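import Cfsg.Statements.S5895

set_option autoImplicit false
set_option linter.style.haveILetI false
open Cfsg

namespace Cfsg.Agent.S5895

open SemidirectProduct

/-- A group of automorphisms leaves only the trivial subgroups invariant. -/
def Irred {V : Type} [Group V] (X : Subgroup (MulAut V)) : Prop :=
  ∀ W : Subgroup V, (∀ g ∈ X, ∀ w ∈ W, g w ∈ W) → W = ⊥ ∨ W = ⊤

theorem construction {V : Type} [CommGroup V] [Finite V] (W0 : Subgroup V) (h0 : W0 ≠ ⊥) (h1 : W0 ≠ ⊤)
    (htop : Irred (⊤ : Subgroup (MulAut V))) :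
    ∃ (G : Type) (_ : Group G) (_ : Finite G) (M H K : Subgroup G), IsCoatom M ∧ M.index = Nat.card V ∧ H ≤ M ∧
      IsCoatom (H.subgroupOf M) ∧ IsCoatom K ∧ H ≤ K ∧ ¬ IsCoatom (H.subgroupOf K) := by
  classical
  haveI : Finite (MulAut V) := Finite.of_injective (fun g => (g : V → V)) DFunLike.coe_injective
  obtain ⟨Mm, hMirr, hMmin⟩ :=
    (Set.toFinite {X : Subgroup (MulAut V) | Irred X}).exists_minimal ⟨⊤, htop⟩
  obtain ⟨Hm, hHm⟩ : ∃ Hm : Subgroup Mm, IsCoatom Hm := by
    rcases eq_top_or_exists_le_coatom (⊥ : Subgroup Mm) with h | ⟨Hm, hHm, -⟩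
    · exfalso
      have hsub : ∀ g ∈ Mm, g = 1 := fun g hg => by
        have : (⟨g, hg⟩ : Mm) ∈ (⊥ : Subgroup Mm) := h ▸ Subgroup.mem_top _
        exact congrArg Subtype.val (Subgroup.mem_bot.1 this)
      rcases hMirr W0 (fun g hg w hw => by rw [hsub g hg]; exact hw) with h' | h'
      · exact h0 h'
      · exact h1 h'
    · exact ⟨Hm, hHm⟩
  -- the maximal subgroup acts reducibly
  obtain ⟨W, hWinv, hW0, hW1⟩ : ∃ W : Subgroup V, (∀ g ∈ Hm, ∀ w ∈ W, (g : MulAut V) w ∈ W) ∧ W ≠ ⊥ ∧ W ≠ ⊤ := by
    by_contra hcon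
    push Not at hcon
    have hirr : Irred (Hm.map Mm.subtype) := by
      intro W hW
      by_cases h : W = ⊥
      · exact Or.inl h
      · exact Or.inr (hcon W (fun g hg w hw => hW _ ⟨g, hg, rfl⟩ w hw) h)
    have hle := hMmin hirr (Subgroup.map_subtype_le Hm)
    apply hHm.1
    rw [eq_top_iff]
    intro g _
    obtain ⟨g', hg', he⟩ := hle g.2
    rwa [← Subtype.ext he]
  let φ : Mm →* MulAut V := Mm.subtype
  haveI : Finite (V ⋊[φ] Mm) :=
    Finite.of_injective (fun x => (x.left, x.right)) (fun x y h => by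
      simp only [Prod.mk.injEq] at h; exact SemidirectProduct.ext h.1 h.2)
  let M : Subgroup (V ⋊[φ] Mm) := (inr : Mm →* _).range
  let K : Subgroup (V ⋊[φ] Mm) := Hm.comap rightHom
  let H : Subgroup (V ⋊[φ] Mm) := Hm.map inr
  let L : Subgroup (V ⋊[φ] Mm) :=
    { carrier := {x | x.left ∈ W ∧ x.right ∈ Hm}
      mul_mem' := fun {x y} hx hy => ⟨W.mul_mem hx.1 (hWinv _ hx.2 _ hy.1), Hm.mul_mem hx.2 hy.2⟩
      one_mem' := ⟨W.one_mem, Hm.one_mem⟩
      inv_mem' := fun {x} hx => ⟨hWinv _ (Hm.inv_mem hx.2) _ (W.inv_mem hx.1), Hm.inv_mem hx.2⟩ }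
  refine ⟨_, inferInstance, inferInstance, M, H, K, ?_, ?_, ?_, ?_, ?_, ?_, ?_⟩
  · refine ⟨fun h => ?_, fun X hX => ?_⟩
    · apply h0
      rw [eq_bot_iff]
      intro w _
      obtain ⟨g, hg⟩ := (h ▸ Subgroup.mem_top _ : (inl w : V ⋊[φ] Mm) ∈ M)
      have := congrArg (fun z => z.left) hg
      simp at this
      simp [this]
    · have hinv : ∀ g ∈ Mm, ∀ w ∈ X.comap inl, g w ∈ X.comap inl := by
        intro g hg w hw
        have h := X.mul_mem (X.mul_mem (hX.le ⟨⟨g, hg⟩, rfl⟩) hw) (hX.le ⟨(⟨g, hg⟩ : Mm)⁻¹, rfl⟩)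
        rw [← inl_aut (φ := φ)] at h
        exact h
      have hleft : ∀ x ∈ X, x.left ∈ X.comap inl := by
        intro x hx
        have h := X.mul_mem hx (hX.le ⟨x.right⁻¹, rfl⟩)
        have : x * inr x.right⁻¹ = inl x.left := by
          exact SemidirectProduct.ext (by simp) (by simp)
        rwa [this] at h
      rcases hMirr (X.comap inl) hinv with hU | hU
      · exfalso
        apply hX.not_ge
        intro x hx
        have := hleft x hx
        rw [hU, Subgroup.mem_bot] at this
        refine ⟨x.right, SemidirectProduct.ext ?_ (right_inr _)⟩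
        rw [left_inr, this]
      · rw [eq_top_iff]
        intro x _
        rw [← inl_left_mul_inr_right x]
        refine X.mul_mem ?_ (hX.le ⟨x.right, rfl⟩)
        have : x.left ∈ X.comap inl := hU ▸ Subgroup.mem_top _
        exact this
  · have h := Subgroup.index_mul_card M
    rw [SemidirectProduct.card] at h
    have hc : Nat.card M = Nat.card Mm := (Nat.card_congr (MonoidHom.ofInjective inr_injective).toEquiv).symm
    rw [hc] at h
    exact Nat.eq_of_mul_eq_mul_right Nat.card_pos h
  · exact Subgroup.map_le_range inr Hm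
  · let e : Mm ≃* M := MonoidHom.ofInjective inr_injective
    have : H.subgroupOf M = Hm.map e.toMonoidHom := by
      ext x
      obtain ⟨g, rfl⟩ := e.surjective x
      rw [Subgroup.mem_map_equiv, MulEquiv.symm_apply_apply, Subgroup.mem_subgroupOf]
      exact ⟨fun ⟨g', h', he⟩ => by
        have : g' = g := inr_injective (φ := φ) he
        exact this ▸ h', fun h => ⟨g, h, rfl⟩⟩
    rw [this]
    exact ((e.mapSubgroup).isCoatom_iff _).2 hHm
  · exact Subgroup.isCoatom_comap_of_surjective (φ := (rightHom : V ⋊[φ] Mm →* Mm)) rightHom_surjective hHm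
  · rintro _ ⟨g, hg, rfl⟩
    show (inr g : V ⋊[φ] Mm).right ∈ Hm
    rwa [right_inr]
  · intro hco
    have hLK : L ≤ K := fun x hx => hx.2
    have hHL : H ≤ L := by
      rintro _ ⟨g, hg, rfl⟩
      exact ⟨by rw [left_inr]; exact W.one_mem, by rwa [right_inr]⟩
    obtain ⟨w, hw, hwne⟩ := (Subgroup.bot_or_exists_ne_one W).resolve_left hW0
    have hlt : H.subgroupOf K < L.subgroupOf K := by
      refine lt_of_le_not_ge (Subgroup.comap_mono hHL) fun hle => hwne ?_
      have hm : (inl w : V ⋊[φ] Mm) ∈ L :=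
        ⟨by rw [left_inl]; exact hw, by rw [right_inl]; exact Hm.one_mem⟩
      obtain ⟨g, -, hg⟩ := hle (show (⟨_, hLK hm⟩ : K) ∈ L.subgroupOf K from hm)
      have := congrArg (fun z => z.left) hg
      simpa using this.symm
    have htop := Subgroup.subgroupOf_eq_top.1 (hco.2 _ hlt)
    apply hW1
    rw [eq_top_iff]
    intro v _
    have hv : (inl v : V ⋊[φ] Mm) ∈ K := by
      show (inl v : V ⋊[φ] Mm).right ∈ Hm
      rw [right_inl]; exact Hm.one_mem
    simpa using (htop hv).1

/-- For every prime p and every d ≥ 2 there is a finite group G with a maximal subgroup M of index p^d and a maximal subgroup H of M that is not second maximal in G: some maximal subgroup K of G contains H without H being maximal in K. (One may take G the affine group V ⋊ GL(V) of V = 𝔽_p^d, M = GL(V), H the stabiliser in M of a line W of V, and K = V ⋊ H, with H < W ⋊ H < K.) So the prime-index hypothesis in the second-maximality criterion cannot be relaxed to prime-power index. -/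
theorem result (p d : ℕ) (hp : p.Prime)
    (hd : 2 ≤ d) :
    ∃ (G : Type) (_ : Group G) (_ : Finite G) (M H K : Subgroup G), IsCoatom M ∧ M.index = p ^ d ∧ H ≤ M ∧
      IsCoatom (H.subgroupOf M) ∧ IsCoatom K ∧ H ≤ K ∧ ¬ IsCoatom (H.subgroupOf K) := by
  haveI := Fact.mk hp
  haveI : Fintype (GaloisField p d) := Fintype.ofFinite _
  have hcardF : Nat.card (GaloisField p d) = p ^ d := GaloisField.card p d (by omega)
  have hcard : Nat.card (Multiplicative (GaloisField p d)) = p ^ d :=
    (Nat.card_congr Multiplicative.toAdd).trans hcardF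
  rw [← hcard]
  refine construction (Subgroup.zpowers (Multiplicative.ofAdd (1 : GaloisField p d))) ?_ ?_ ?_
  · rw [Ne, Subgroup.zpowers_eq_bot]
    exact fun h => (one_ne_zero : (1 : GaloisField p d) ≠ 0) (congrArg Multiplicative.toAdd h)
  · intro h
    have h1 := congrArg (fun S : Subgroup (Multiplicative (GaloisField p d)) => Nat.card S) h
    simp only [Nat.card_zpowers, Subgroup.card_top] at h1
    rw [hcard, orderOf_ofAdd_eq_addOrderOf, (CharP.eq (GaloisField p d) (CharP.addOrderOf_one _) inferInstance : addOrderOf (1 : GaloisField p d) = p)] at h1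
    have : p ^ 1 = p ^ d := by rw [pow_one]; exact h1
    have := Nat.pow_right_injective hp.two_le this
    omega
  · intro W hW
    by_cases h : W = ⊥
    · exact Or.inl h
    · right
      obtain ⟨w, hw, hwne⟩ := (Subgroup.bot_or_exists_ne_one W).resolve_left h
      rw [eq_top_iff]
      intro v _
      by_cases hv : v = 1
      · rw [hv]; exact W.one_mem
      have hv' : v.toAdd ≠ 0 := hv
      have hw' : w.toAdd ≠ 0 := hwne
      let g : MulAut (Multiplicative (GaloisField p d)) := AddEquiv.toMultiplicative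
        { Equiv.mulLeft₀ (v.toAdd / w.toAdd) (div_ne_zero hv' hw') with map_add' := fun x y => mul_add _ x y }
      have := hW g (Subgroup.mem_top _) w hw
      have he : g w = v := by
        apply Multiplicative.toAdd.injective
        exact div_mul_cancel₀ v.toAdd hw'
      rwa [he] at this

end Cfsg.Agent.S5895
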