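import Cfsg.Statements.S5896

set_option autoImplicit false
set_option linter.style.haveILetI false
set_option maxHeartbeats 1000000
open Cfsg

namespace Cfsg.Agent.S5896

open Matrix

section Elements
variable {R : Type*} [CommRing R]

local notation "SL₂" => Matrix.SpecialLinearGroup (Fin 2) R

/-- The element with the given entries. -/
def mk2 (a b c d : R) (h : a * d - b * c = 1) : SL₂ :=
  ⟨!![a, b; c, d], by rw [Matrix.det_fin_two_of]; exact h⟩

/-- Upper unitriangular element. -/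
def up (x : R) : SL₂ := mk2 1 x 0 1 (by ring)

/-- Lower unitriangular element. -/
def lo (x : R) : SL₂ := mk2 1 0 x 1 (by ring)

/-- Diagonal element. -/
def dg (t : Rˣ) : SL₂ := mk2 (t : R) 0 0 (↑t⁻¹ : R) (by simp)

theorem ext2 {g h : SL₂} (h00 : g.1 0 0 = h.1 0 0) (h01 : g.1 0 1 = h.1 0 1) (h10 : g.1 1 0 = h.1 1 0)
    (h11 : g.1 1 1 = h.1 1 1) : g = h := by
  apply Subtype.ext
  ext i j
  fin_cases i <;> fin_cases j <;> assumption

theorem mul_apply2 (g h : SL₂) (i j : Fin 2) : (g * h).1 i j = g.1 i 0 * h.1 0 j + g.1 i 1 * h.1 1 j := by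
  rw [Matrix.SpecialLinearGroup.coe_mul, Matrix.mul_apply, Fin.sum_univ_two]

@[simp] theorem mk2_00 (a b c d : R) (h : a * d - b * c = 1) : (mk2 a b c d h).1 0 0 = a := rfl
@[simp] theorem mk2_01 (a b c d : R) (h : a * d - b * c = 1) : (mk2 a b c d h).1 0 1 = b := rfl
@[simp] theorem mk2_10 (a b c d : R) (h : a * d - b * c = 1) : (mk2 a b c d h).1 1 0 = c := rfl
@[simp] theorem mk2_11 (a b c d : R) (h : a * d - b * c = 1) : (mk2 a b c d h).1 1 1 = d := rfl

theorem det2 (g : SL₂) : g.1 0 0 * g.1 1 1 - g.1 0 1 * g.1 1 0 = 1 := by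
  rw [← Matrix.det_fin_two]; exact g.2

theorem comm_dg_up (t : Rˣ) (y : R) :
    dg t * up y * (dg t)⁻¹ * (up y)⁻¹ = up (((t : R) ^ 2 - 1) * y) := by
  rw [mul_inv_eq_iff_eq_mul, mul_inv_eq_iff_eq_mul]
  have h := t.mul_inv
  refine ext2 ?_ ?_ ?_ ?_ <;> simp [mul_apply2, dg, up] <;> linear_combination (-(t : R) * y) * h

theorem comm_dg_lo (t : Rˣ) (y : R) :
    dg t⁻¹ * lo y * (dg t⁻¹)⁻¹ * (lo y)⁻¹ = lo (((t : R) ^ 2 - 1) * y) := by
  rw [mul_inv_eq_iff_eq_mul, mul_inv_eq_iff_eq_mul]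
  have h := t.mul_inv
  refine ext2 ?_ ?_ ?_ ?_ <;> simp [mul_apply2, dg, lo] <;> linear_combination (-(t : R) * y) * h

theorem comm_up_lo (x y : R) (t : Rˣ) (ht : (t : R) = 1 - x * y) :
    up x * lo y * (up x)⁻¹ * (lo y)⁻¹ = up (-(x ^ 2 * y) * (↑t⁻¹ : R)) * dg t⁻¹ * lo (x * y ^ 2 * (↑t⁻¹ : R)) := by
  rw [mul_inv_eq_iff_eq_mul, mul_inv_eq_iff_eq_mul]
  have h := t.mul_inv
  refine ext2 ?_ ?_ ?_ ?_ <;> simp [mul_apply2, dg, lo, up] <;> grind

theorem gauss (g : SL₂) (c : Rˣ) (hc : g.1 1 0 = c) :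
    g = up ((g.1 0 0 - 1) * (↑c⁻¹ : R)) * lo (c : R) * up ((g.1 1 1 - 1) * (↑c⁻¹ : R)) := by
  have h := c.mul_inv
  have hd := det2 g
  rw [hc] at hd
  refine ext2 ?_ ?_ ?_ ?_ <;> simp [mul_apply2, lo, up, hc] <;> grind

/-- The standard monomial element. -/
def ww : SL₂ := mk2 0 (-1) 1 0 (by ring)

theorem ww_eq (c : Rˣ) : (ww : SL₂) = up (-(↑c⁻¹ : R)) * lo (c : R) * up (-(↑c⁻¹ : R)) * dg c⁻¹ := by
  refine ext2 ?_ ?_ ?_ ?_ <;> simp [mul_apply2, ww, up, lo, dg]

theorem lo_eq (c : Rˣ) : (lo (c : R) : SL₂) = up (↑c⁻¹ : R) * ww * dg c * up (↑c⁻¹ : R) := by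
  refine ext2 ?_ ?_ ?_ ?_ <;> simp [mul_apply2, ww, up, lo, dg]

end Elements

section Mod
variable (k : ℕ)

theorem five5 : (5 : ZMod 5) = 0 := by decide

theorem two5 : (2 : ZMod 5) ≠ 0 := by decide

theorem three5 : (2 : ZMod 5) ^ 2 - 1 ≠ 0 := by decide

/-- Reduction modulo five. -/
def red : ZMod (5 ^ (k + 1)) →+* ZMod 5 := ZMod.castHom (Dvd.intro_left _ (pow_succ 5 k).symm) (ZMod 5)

theorem red_eq_zero_iff (x : ZMod (5 ^ (k + 1))) : red k x = 0 ↔ ∃ y, x = 5 * y := by
  constructor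
  · intro h
    obtain ⟨n, rfl⟩ := ZMod.natCast_zmod_surjective x
    rw [map_natCast, ZMod.natCast_eq_zero_iff] at h
    obtain ⟨m, rfl⟩ := h
    exact ⟨(m : ZMod (5 ^ (k + 1))), by push_cast; rfl⟩
  · rintro ⟨y, rfl⟩
    rw [map_mul, map_ofNat]
    rw [five5, zero_mul]

theorem five_pow_zero : (5 : ZMod (5 ^ (k + 1))) ^ (k + 1) = 0 := by
  have := ZMod.natCast_self (5 ^ (k + 1))
  push_cast at this
  exact this

theorem five_pow_ne (e : ℕ) (he : e < k + 1) : (5 : ZMod (5 ^ (k + 1))) ^ e ≠ 0 := by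
  intro h
  have h' : ((5 ^ e : ℕ) : ZMod (5 ^ (k + 1))) = 0 := by push_cast; exact h
  rw [ZMod.natCast_eq_zero_iff, Nat.pow_dvd_pow_iff_le_right (by omega)] at h'
  omega

theorem isUnit_of_red {x : ZMod (5 ^ (k + 1))} (hx : red k x ≠ 0) : IsUnit x := by
  obtain ⟨n, rfl⟩ := ZMod.natCast_zmod_surjective x
  rw [map_natCast, Ne, ZMod.natCast_eq_zero_iff] at hx
  rw [ZMod.isUnit_iff_coprime]
  exact Nat.Coprime.pow_right _ ((Nat.Prime.coprime_iff_not_dvd (by norm_num)).2 hx).symm

theorem lift_pow (M : Matrix (Fin 2) (Fin 2) (ZMod (5 ^ (k + 1)))) (i : ℕ) :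
    ∃ M', (1 + (5 : ZMod (5 ^ (k + 1))) • M) ^ (5 ^ i) = 1 + ((5 : ZMod (5 ^ (k + 1))) ^ (i + 1)) • M' := by
  induction i with
  | zero => exact ⟨M, by simp⟩
  | succ i ih =>
    obtain ⟨A, hA⟩ := ih
    rw [show 5 ^ (i + 1) = 5 ^ i * 5 from pow_succ 5 i, pow_mul, hA]
    set c : ZMod (5 ^ (k + 1)) := 5 ^ i with hc
    refine ⟨A + (10 * c) • (A * A) + (50 * c ^ 2) • (A * A * A) + (125 * c ^ 3) • (A * A * A * A)
      + (125 * c ^ 4) • (A * A * A * A * A), ?_⟩
    have e1 : (5 : ZMod (5 ^ (k + 1))) ^ (i + 1) = 5 * c := by rw [hc]; ring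
    have e2 : (5 : ZMod (5 ^ (k + 1))) ^ (i + 1 + 1) = 25 * c := by rw [hc]; ring
    rw [e1, e2]
    simp only [pow_succ, pow_zero, one_mul, mul_add, add_mul, mul_one, Matrix.smul_mul, Matrix.mul_smul, smul_add, smul_smul]
    module

end Mod

/-- Finite perfect groups have solvable maximal subgroups of unbounded derived length: for every d there is a finite perfect group G (equal to its commutator subgroup) with a solvable maximal subgroup H whose derived length exceeds d, i.e. the d-th term of the derived series of H is non-trivial. (Take the derived subgroup of a wreath product S ≀ A₅ with S solvable of large derived length, and H the preimage of a maximal subgroup of A₅.) -/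
theorem result (d : ℕ) :
    ∃ (G : Type) (_ : Group G) (_ : Finite G) (H : Subgroup G), commutator G = ⊤ ∧ IsCoatom H ∧ Group.IsSolvable H ∧
      derivedSeries H d ≠ ⊥ := by
  classical
  let k := 3 ^ d
  let R := ZMod (5 ^ (k + 1))
  let G := Matrix.SpecialLinearGroup (Fin 2) R
  haveI : NeZero (5 ^ (k + 1)) := ⟨by positivity⟩
  haveI : Fact (Nat.Prime 5) := ⟨by norm_num⟩
  let ρ := red k
  let H : Subgroup G :=
    { carrier := {g | ρ (g.1 1 0) = 0}
      mul_mem' := fun {g h} hg hh => by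
        show ρ ((g * h).1 1 0) = 0
        simp only [Set.mem_ofPred_eq] at hg hh
        rw [mul_apply2, map_add, map_mul, map_mul, hg, hh]; simp
      one_mem' := by show ρ ((1 : G).1 1 0) = 0; simp
      inv_mem' := fun {g} hg => by
        show ρ ((g⁻¹).1 1 0) = 0
        simp only [Set.mem_ofPred_eq] at hg
        rw [Matrix.SpecialLinearGroup.coe_inv, Matrix.adjugate_fin_two]
        simpa using hg }
  have hupH : ∀ x : R, up x ∈ H := fun x => by show ρ 0 = 0; exact map_zero _
  have hdgH : ∀ t : Rˣ, dg t ∈ H := fun t => by show ρ 0 = 0; exact map_zero _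
  have hloH : ∀ x : R, lo (5 * x) ∈ H := fun x => (red_eq_zero_iff k _).2 ⟨x, rfl⟩
  have hunit_a : ∀ g : G, ρ (g.1 1 0) = 0 → ρ (g.1 0 0) * ρ (g.1 1 1) = 1 := by
    intro g hg
    have := congrArg ρ (det2 g)
    rw [map_sub, map_mul, map_mul, map_one, hg] at this
    simpa using this
  refine ⟨G, inferInstance, inferInstance, H, ?_, ?_, ?_, ?_⟩
  · -- perfect
    rw [eq_top_iff]
    have h3 : IsUnit (((2 : R)) ^ 2 - 1) := isUnit_of_red k (by
      rw [map_sub, map_pow, map_ofNat, map_one]; exact three5)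
    obtain ⟨u3, hu3⟩ := h3
    obtain ⟨u2, hu2⟩ : IsUnit (2 : R) := isUnit_of_red k (by rw [map_ofNat]; exact two5)
    have hmem : ∀ a b : G, a * b * a⁻¹ * b⁻¹ ∈ commutator G := fun a b =>
      Subgroup.commutator_mem_commutator (Subgroup.mem_top a) (Subgroup.mem_top b)
    have hu : ∀ x : R, up x ∈ commutator G := fun x => by
      have := hmem (dg u2) (up ((↑u3⁻¹ : R) * x))
      rw [comm_dg_up, hu2, ← hu3, ← mul_assoc, Units.mul_inv, one_mul] at this
      exact this
    have hl : ∀ x : R, lo x ∈ commutator G := fun x => by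
      have := hmem (dg u2⁻¹) (lo ((↑u3⁻¹ : R) * x))
      rw [comm_dg_lo, hu2, ← hu3, ← mul_assoc, Units.mul_inv, one_mul] at this
      exact this
    intro g _
    have hgauss : ∀ g : G, ρ (g.1 1 0) ≠ 0 → g ∈ commutator G := fun g hg => by
      obtain ⟨c, hc⟩ := isUnit_of_red k hg
      rw [gauss g c hc.symm]
      exact mul_mem (mul_mem (hu _) (hl _)) (hu _)
    by_cases hg : ρ (g.1 1 0) = 0
    · have : lo 1 * g ∈ commutator G := by
        refine hgauss _ ?_
        rw [mul_apply2]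
        simp only [lo, mk2_10, mk2_11, one_mul, map_add, hg, add_zero]
        exact left_ne_zero_of_mul_eq_one (hunit_a g hg)
      exact (Subgroup.mul_mem_cancel_left _ (hl 1)).1 this
    · exact hgauss g hg
  · -- maximal
    refine ⟨fun h => ?_, fun X hX => ?_⟩
    · have : (lo 1 : G) ∈ H := h ▸ Subgroup.mem_top _
      have h1 : ρ 1 = 0 := this
      rw [map_one] at h1
      exact one_ne_zero h1
    · obtain ⟨g, hgX, hgH⟩ := SetLike.exists_of_lt hX
      obtain ⟨c, hc⟩ := isUnit_of_red k (show ρ (g.1 1 0) ≠ 0 from hgH)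
      have hlo : lo (c : R) ∈ X := by
        have h2 : lo (c : R) = (up ((g.1 0 0 - 1) * (↑c⁻¹ : R)))⁻¹ * g * (up ((g.1 1 1 - 1) * (↑c⁻¹ : R)))⁻¹ :=
          eq_mul_inv_of_mul_eq (eq_inv_mul_of_mul_eq (by rw [← mul_assoc]; exact (gauss g c hc.symm).symm))
        rw [h2]
        exact mul_mem (mul_mem (inv_mem (hX.le (hupH _))) hgX) (inv_mem (hX.le (hupH _)))
      -- the standard element
      let w : G := ww
      have hw : w ∈ X := by
        have : w = _ := ww_eq c
        rw [this]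
        exact mul_mem (mul_mem (mul_mem (hX.le (hupH _)) hlo) (hX.le (hupH _))) (hX.le (hdgH _))
      rw [eq_top_iff]
      intro h _
      have key : ∀ h : G, ρ (h.1 1 0) ≠ 0 → h ∈ X := fun h hh => by
        obtain ⟨c', hc'⟩ := isUnit_of_red k hh
        rw [gauss h c' hc'.symm]
        refine mul_mem (mul_mem (hX.le (hupH _)) ?_) (hX.le (hupH _))
        have : lo (c' : R) = up (↑c'⁻¹ : R) * w * dg c' * up (↑c'⁻¹ : R) := lo_eq c'
        rw [this]
        exact mul_mem (mul_mem (mul_mem (hX.le (hupH _)) hw) (hX.le (hdgH _))) (hX.le (hupH _))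
      by_cases hh : ρ (h.1 1 0) = 0
      · refine (X.mul_mem_cancel_left hw).1 (key _ ?_)
        rw [mul_apply2]
        simp only [w, ww, mk2_10, mk2_11, one_mul, zero_mul, add_zero]
        exact left_ne_zero_of_mul_eq_one (hunit_a h hh)
      · exact key h hh
  · -- soluble
    let f : H →* ZMod 5 :=
      { toFun := fun g => ρ (g.1.1 0 0)
        map_one' := by show ρ ((1 : G).1 0 0) = 1; simp
        map_mul' := fun g h => by
          show ρ ((g.1 * h.1).1 0 0) = _
          rw [mul_apply2, map_add, map_mul, map_mul, show ρ (h.1.1 1 0) = 0 from h.2, mul_zero, add_zero] }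
    let f' : H →* (ZMod 5)ˣ := f.toHomUnits
    have hker : IsPGroup 5 f'.ker := by
      intro g
      refine ⟨1 + k, Subtype.ext (Subtype.ext (Subtype.ext ?_))⟩
      have ha : ρ (g.1.1.1 0 0) = 1 := congrArg Units.val (MonoidHom.mem_ker.1 g.2)
      have hd : ρ (g.1.1.1 1 1) = 1 := by
        have := hunit_a g.1.1 g.1.2
        rwa [ha, one_mul] at this
      let N : Matrix (Fin 2) (Fin 2) (ZMod 5) := !![0, ρ (g.1.1.1 0 1); 0, 0]
      have hred : ρ.mapMatrix g.1.1.1 = 1 + N := by
        ext i j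
        fin_cases i <;> fin_cases j <;> simp [N, ha, hd, show ρ (g.1.1.1 1 0) = 0 from g.1.2]
      have hN : N * N = 0 := by
        ext i j
        fin_cases i <;> fin_cases j <;> simp [N, Matrix.mul_apply, Fin.sum_univ_two]
      have h5 : ρ.mapMatrix (g.1.1.1 ^ 5) = 1 := by
        rw [map_pow, hred]
        haveI : CharP (Matrix (Fin 2) (Fin 2) (ZMod 5)) 5 := inferInstance
        rw [add_pow_char_of_commute 5 (Commute.one_left N), one_pow, pow_succ N 4, pow_succ N 3, mul_assoc,
          hN, mul_zero, add_zero]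
      have hex : ∀ i j, ∃ y, (g.1.1.1 ^ 5 - 1 : Matrix (Fin 2) (Fin 2) R) i j = 5 * y := fun i j => by
        rw [← red_eq_zero_iff k]
        have := congrFun (congrFun h5 i) j
        rw [RingHom.mapMatrix_apply, Matrix.map_apply] at this
        rw [Matrix.sub_apply, map_sub, this]
        by_cases hij : i = j
        · subst hij; simp
        · simp [Matrix.one_apply_ne hij]
      choose M hM using hex
      obtain ⟨M', hM'⟩ := lift_pow k (Matrix.of M) k
      have hg5 : g.1.1.1 ^ 5 = 1 + (5 : R) • Matrix.of M := by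
        ext i j
        have := hM i j
        rw [Matrix.sub_apply] at this
        rw [Matrix.add_apply, Matrix.smul_apply, Matrix.of_apply, smul_eq_mul, ← this]
        ring
      show ((g.1.1 ^ (5 ^ (1 + k)) : Matrix.SpecialLinearGroup (Fin 2) R) : Matrix (Fin 2) (Fin 2) R) = 1
      rw [Matrix.SpecialLinearGroup.coe_pow, show 5 ^ (1 + k) = 5 * 5 ^ k from by rw [pow_add, pow_one], pow_mul, hg5, hM', five_pow_zero, zero_smul, add_zero]
    haveI : Group.IsSolvable f'.ker := by
      haveI := hker.isNilpotent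
      infer_instance
    exact Group.isSolvable_of_ker_le_range f'.ker.subtype f' (by rw [Subgroup.range_subtype])
  · -- derived length
    intro hbot
    have hcomm : ∀ j, ∀ a b : G, a ∈ (derivedSeries H j).map H.subtype → b ∈ (derivedSeries H j).map H.subtype →
        a * b * a⁻¹ * b⁻¹ ∈ (derivedSeries H (j + 1)).map H.subtype := by
      intro j a b ha hb
      obtain ⟨a', ha', rfl⟩ := ha
      obtain ⟨b', hb', rfl⟩ := hb
      exact ⟨a' * b' * a'⁻¹ * b'⁻¹, Subgroup.commutator_mem_commutator ha' hb', by simp⟩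
    have key : ∀ j, (∀ x : R, up ((5 : R) ^ (3 ^ j) * x) ∈ (derivedSeries H j).map H.subtype) ∧
        (∀ x : R, lo ((5 : R) ^ (3 ^ j) * x) ∈ (derivedSeries H j).map H.subtype) ∧
        (∀ (t : Rˣ) (s : R), (t : R) = 1 + (5 : R) ^ (3 ^ j) * s → dg t ∈ (derivedSeries H j).map H.subtype) := by
      intro j
      induction j with
      | zero =>
        simp only [derivedSeries_zero, ← MonoidHom.range_eq_map, Subgroup.range_subtype, pow_zero, pow_one]
        exact ⟨fun x => hupH _, hloH, fun t _ _ => hdgH t⟩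
      | succ j ih =>
        obtain ⟨hu, hl, hd⟩ := ih
        set e := 3 ^ j with he
        have he1 : 1 ≤ e := Nat.one_le_pow _ _ (by omega)
        obtain ⟨t, ht⟩ : IsUnit (1 + (5 : R) ^ e) := isUnit_of_red k (by
          rw [map_add, map_one, map_pow, map_ofNat, five5, zero_pow (by omega), add_zero]
          exact one_ne_zero)
        obtain ⟨v, hv⟩ : IsUnit (2 + (5 : R) ^ e) := isUnit_of_red k (by
          rw [map_add, map_pow, map_ofNat, map_ofNat, five5, zero_pow (by omega), add_zero]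
          exact two5)
        have ht2 : (t : R) ^ 2 - 1 = (5 : R) ^ e * (v : R) := by rw [ht, hv]; ring
        have hdt : dg t ∈ (derivedSeries H j).map H.subtype := hd t 1 (by rw [ht, mul_one])
        have hdt' : dg t⁻¹ ∈ (derivedSeries H j).map H.subtype :=
          hd t⁻¹ (-(↑t⁻¹ : R)) (by linear_combination (t.mul_inv) - (↑t⁻¹ : R) * ht)
        have hu2 : ∀ x : R, up ((5 : R) ^ (2 * e) * x) ∈ (derivedSeries H (j + 1)).map H.subtype := fun x => by
          have := hcomm j _ _ hdt (hu ((↑v⁻¹ : R) * x))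
          rw [comm_dg_up, ht2] at this
          convert this using 2
          linear_combination (-((5 : R) ^ e * (5 : R) ^ e * x)) * v.mul_inv
        have hl2 : ∀ x : R, lo ((5 : R) ^ (2 * e) * x) ∈ (derivedSeries H (j + 1)).map H.subtype := fun x => by
          have := hcomm j _ _ hdt' (hl ((↑v⁻¹ : R) * x))
          rw [comm_dg_lo, ht2] at this
          convert this using 2
          linear_combination (-((5 : R) ^ e * (5 : R) ^ e * x)) * v.mul_inv
        have h3 : 3 ^ (j + 1) = e + 2 * e := by rw [pow_succ, ← he]; omega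
        rw [h3]
        refine ⟨fun x => ?_, fun x => ?_, fun t s hts => ?_⟩
        · have := hu2 ((5 : R) ^ e * x); convert this using 2; ring
        · have := hl2 ((5 : R) ^ e * x); convert this using 2; ring
        · have hxy : (t : R) = 1 - (5 : R) ^ e * ((5 : R) ^ (2 * e) * -s) := by rw [hts]; ring
          have hm := hcomm j _ _ (hu 1) (hl ((5 : R) ^ e * -s))
          rw [mul_one] at hm
          rw [show (5 : R) ^ e * ((5 : R) ^ e * -s) = (5 : R) ^ (2 * e) * -s by ring,
            comm_up_lo _ _ t hxy] at hm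
          have h1 := hu2 (-((5 : R) ^ (2 * e) * -s * (↑t⁻¹ : R)))
          have h2 := hl2 ((5 : R) ^ e * (5 : R) ^ (2 * e) * s ^ 2 * (↑t⁻¹ : R))
          rw [show (5 : R) ^ (2 * e) * -((5 : R) ^ (2 * e) * -s * (↑t⁻¹ : R))
            = -(((5 : R) ^ e) ^ 2 * ((5 : R) ^ (2 * e) * -s)) * (↑t⁻¹ : R) by ring] at h1
          rw [show (5 : R) ^ (2 * e) * ((5 : R) ^ e * (5 : R) ^ (2 * e) * s ^ 2 * (↑t⁻¹ : R))
            = (5 : R) ^ e * ((5 : R) ^ (2 * e) * -s) ^ 2 * (↑t⁻¹ : R) by ring] at h2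
          have := inv_mem ((Subgroup.mul_mem_cancel_left _ h1).1 ((Subgroup.mul_mem_cancel_right _ h2).1 hm))
          convert this using 1
          rw [eq_inv_iff_mul_eq_one]
          refine ext2 ?_ ?_ ?_ ?_ <;> simp [mul_apply2, dg]
    have hu := (key d).1 1
    rw [hbot, Subgroup.map_bot, Subgroup.mem_bot] at hu
    have h01 := congrArg (fun g : G => g.1 0 1) hu
    simp [up] at h01
    exact five_pow_ne k _ (Nat.lt_succ_self _) h01

end Cfsg.Agent.S5896
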