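import Cfsg.Statements.S5902

set_option autoImplicit false
open Cfsg

namespace Cfsg.Agent.S5902
open scoped Pointwise
/-- Complement in the lattice from a conjugate of the overgroup. -/
theorem compl_aux {G : Type*} [Group G] [Finite G] (X M : Subgroup G)
    (hK : ComplementedLattice (Subgroup X))
    (huniq : ∀ M' : Subgroup G, IsCoatom M' → X ≤ M' → M' = M)
    (H : Subgroup G) (hH : ¬ H ≤ M) : ∃ C : Subgroup G, H ⊔ C = ⊤ ∧ H ⊓ C = ⊥ := by
  obtain ⟨C₀, hC⟩ := hK.exists_isCompl (H.subgroupOf X)
  refine ⟨C₀.map X.subtype, ?_, ?_⟩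
  · have hXle : X ≤ H ⊔ C₀.map X.subtype := by
      have := congrArg (Subgroup.map X.subtype) hC.sup_eq_top
      rw [Subgroup.map_sup, ← MonoidHom.range_eq_map, Subgroup.range_subtype,
        Subgroup.subgroupOf_map_subtype] at this
      exact this.symm.le.trans (sup_le (inf_le_left.trans le_sup_left) le_sup_right)
    by_contra hne
    obtain htop | ⟨M', hM', hle⟩ := eq_top_or_exists_le_coatom (H ⊔ C₀.map X.subtype)
    · exact hne htop
    · have := huniq M' hM' (hXle.trans hle)
      subst this
      exact hH (le_sup_left.trans hle)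
  · rw [eq_bot_iff]
    rintro _ ⟨hxH, ⟨c, hc, rfl⟩⟩
    have hbot : c ∈ H.subgroupOf X ⊓ C₀ := ⟨hxH, hc⟩
    rw [hC.inf_eq_bot, Subgroup.mem_bot] at hbot
    subst hbot
    simp

/-- Let G be a finite group, X a subgroup whose own subgroup lattice is complemented, and suppose X lies in exactly one maximal subgroup M of G. Then every subgroup H of G not contained in the normal core of M has a complement in the subgroup lattice of G (some C with H ⊔ C = G and H ⊓ C = 1); in particular the subgroup lattice of G modulo the normal core of M is complemented. -/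
theorem result {G : Type*} [Group G] [Finite G] (X M : Subgroup G)
    (hK : ComplementedLattice (Subgroup X))
    (hM : IsCoatom M) (hXM : X ≤ M) (huniq : ∀ M' : Subgroup G, IsCoatom M' → X ≤ M' → M' = M) :
    (∀ H : Subgroup G, ¬ H ≤ M.normalCore → ∃ C : Subgroup G, H ⊔ C = ⊤ ∧ H ⊓ C = ⊥) ∧
    ComplementedLattice (Subgroup (G ⧸ M.normalCore)) := by
  have key : ∀ H : Subgroup G, ¬ H ≤ M.normalCore → ∃ C : Subgroup G, H ⊔ C = ⊤ ∧ H ⊓ C = ⊥ := by
    intro H hH
    obtain ⟨h, hh, hnot⟩ := SetLike.not_le_iff_exists.1 hH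
    have : ∃ g : G, g * h * g⁻¹ ∉ M := by
      by_contra hc
      push Not at hc
      exact hnot hc
    obtain ⟨g, hg⟩ := this
    let e : G ≃* G := MulAut.conj g
    have hne : ¬ H.map e.toMonoidHom ≤ M := fun hle =>
      hg (hle ⟨h, hh, rfl⟩)
    obtain ⟨C, h1, h2⟩ := compl_aux X M hK huniq _ hne
    refine ⟨C.comap e.toMonoidHom, ?_, ?_⟩
    · apply Subgroup.map_injective (f := e.toMonoidHom) e.injective
      rw [Subgroup.map_sup, Subgroup.map_comap_eq_self_of_surjective e.surjective, h1,
        Subgroup.map_top_of_surjective _ e.surjective]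
    · apply Subgroup.map_injective (f := e.toMonoidHom) e.injective
      rw [Subgroup.map_inf _ _ _ e.injective, Subgroup.map_comap_eq_self_of_surjective e.surjective, h2,
        Subgroup.map_bot]
  refine ⟨key, ⟨fun H => ?_⟩⟩
  let f := QuotientGroup.mk' M.normalCore
  have hf : Function.Surjective f := QuotientGroup.mk'_surjective _
  by_cases hb : H.comap f ≤ M.normalCore
  · refine ⟨⊤, ?_⟩
    have : H = ⊥ := by
      rw [← Subgroup.map_comap_eq_self_of_surjective hf H, Subgroup.map_eq_bot_iff]
      exact hb.trans (le_of_eq (QuotientGroup.ker_mk' _).symm)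
    rw [this]
    exact isCompl_bot_top
  · obtain ⟨C, h1, h2⟩ := key _ hb
    refine ⟨C.map f, IsCompl.of_eq ?_ ?_⟩
    · rw [eq_bot_iff]
      rintro x ⟨hxH, c, hc, rfl⟩
      have : c ∈ H.comap f ⊓ C := ⟨hxH, hc⟩
      rw [h2, Subgroup.mem_bot] at this
      simp [this]
    · have := congrArg (Subgroup.map f) h1
      rwa [Subgroup.map_sup, Subgroup.map_comap_eq_self_of_surjective hf,
        Subgroup.map_top_of_surjective _ hf] at this

end Cfsg.Agent.S5902
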