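import Cfsg.Statements.S5903

set_option autoImplicit false
open Cfsg

namespace Cfsg.Agent.S5903

/-- Let G be a finite simple group, X a subgroup lying in exactly one maximal subgroup M of G, and N a subgroup of prime order with N ≤ X that is central in M. If the subgroup lattice of X/N is complemented, then the subgroup lattice of G is complemented. -/
theorem result {G : Type*} [Group G] [Finite G] [IsSimpleGroup G] (X M N : Subgroup G)
    (hM : IsCoatom M) (hXM : X ≤ M) (huniq : ∀ M' : Subgroup G, IsCoatom M' → X ≤ M' → M' = M)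
    (hNX : N ≤ X) (hN : (Nat.card N).Prime) (hcen : ∀ n ∈ N, ∀ m ∈ M, m * n = n * m)
    [(N.subgroupOf X).Normal] (hK : ComplementedLattice (Subgroup (X ⧸ N.subgroupOf X))) :
    ComplementedLattice (Subgroup G) := by
  refine ⟨fun H => ?_⟩
  by_cases hbot : H = ⊥
  · exact ⟨⊤, hbot ▸ isCompl_bot_top⟩
  by_cases htop : H = ⊤
  · exact ⟨⊥, htop ▸ isCompl_top_bot⟩
  -- it is enough to find a suitable conjugate of `H`
  suffices h : ∃ g : G, ¬ H.map (MulAut.conj g).toMonoidHom ≤ M ∧
      ¬ N ≤ H.map (MulAut.conj g).toMonoidHom by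
    obtain ⟨g, hgM, hgN⟩ := h
    let e : G ≃* G := MulAut.conj g
    let H' := H.map e.toMonoidHom
    have hdis : H' ⊓ N = ⊥ := by
      have := Fact.mk hN
      rcases (H'.subgroupOf N).eq_bot_or_eq_top_of_prime_card with h | h
      · rwa [Subgroup.subgroupOf_eq_bot, disjoint_iff] at h
      · rw [Subgroup.subgroupOf_eq_top] at h
        exact absurd h hgN
    obtain ⟨C, h1, h2⟩ : ∃ C : Subgroup G, H' ⊔ C = ⊤ ∧ H' ⊓ C = ⊥ := by
      let π := QuotientGroup.mk' (N.subgroupOf X)
      have hπ : Function.Surjective π := QuotientGroup.mk'_surjective _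
      obtain ⟨C₀, hC⟩ := hK.exists_isCompl ((H'.subgroupOf X).map π)
      let C₁ := C₀.comap π
      refine ⟨C₁.map X.subtype, ?_, ?_⟩
      · have hker : π.ker ≤ H'.subgroupOf X ⊔ C₁ := by
          refine le_trans ?_ le_sup_right
          intro x hx
          show π x ∈ C₀
          rw [MonoidHom.mem_ker.1 hx]
          exact one_mem _
        have htop' : H'.subgroupOf X ⊔ C₁ = ⊤ := by
          rw [← Subgroup.comap_map_eq_self hker, Subgroup.map_sup,
            Subgroup.map_comap_eq_self_of_surjective hπ, hC.sup_eq_top, Subgroup.comap_top]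
        have hXle : X ≤ H' ⊔ C₁.map X.subtype := by
          have := congrArg (Subgroup.map X.subtype) htop'
          rw [Subgroup.map_sup, ← MonoidHom.range_eq_map, Subgroup.range_subtype,
            Subgroup.subgroupOf_map_subtype] at this
          exact this.symm.le.trans (sup_le (inf_le_left.trans le_sup_left) le_sup_right)
        by_contra hne
        obtain h | ⟨M', hM', hle⟩ := eq_top_or_exists_le_coatom (H' ⊔ C₁.map X.subtype)
        · exact hne h
        · have := huniq M' hM' (hXle.trans hle)
          subst this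
          exact hgM (le_sup_left.trans hle)
      · rw [eq_bot_iff]
        rintro _ ⟨hxH, ⟨c, hc, rfl⟩⟩
        have hb : π c ∈ (H'.subgroupOf X).map π ⊓ C₀ := ⟨⟨c, hxH, rfl⟩, hc⟩
        rw [hC.inf_eq_bot, Subgroup.mem_bot] at hb
        have hcN : (c : G) ∈ H' ⊓ N := ⟨hxH, (QuotientGroup.eq_one_iff c).1 hb⟩
        rw [hdis] at hcN
        exact hcN
    refine ⟨C.comap e.toMonoidHom, IsCompl.of_eq ?_ ?_⟩
    · apply Subgroup.map_injective (f := e.toMonoidHom) e.injective
      rw [Subgroup.map_inf _ _ _ e.injective, Subgroup.map_comap_eq_self_of_surjective e.surjective,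
        Subgroup.map_bot]
      exact h2
    · apply Subgroup.map_injective (f := e.toMonoidHom) e.injective
      rw [Subgroup.map_sup, Subgroup.map_comap_eq_self_of_surjective e.surjective,
        Subgroup.map_top_of_surjective _ e.surjective]
      exact h1
  by_contra hcon
  push Not at hcon
  -- every conjugate of `N` lies in the normalizer of `H`
  have hmem : ∀ g : G, ∀ n ∈ N, g⁻¹ * n * g ∈ Subgroup.normalizer (H : Set G) := by
    intro g n hn
    by_cases hle : H.map (MulAut.conj g).toMonoidHom ≤ M
    · rw [Subgroup.mem_normalizer_iff]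
      intro h
      have hc : ∀ a ∈ H, (g⁻¹ * n * g) * a * (g⁻¹ * n * g)⁻¹ = a := by
        intro a ha
        have := hcen n hn (g * a * g⁻¹) (hle ⟨a, ha, rfl⟩)
        calc (g⁻¹ * n * g) * a * (g⁻¹ * n * g)⁻¹
            = g⁻¹ * (n * (g * a * g⁻¹)) * n⁻¹ * g := by group
          _ = g⁻¹ * ((g * a * g⁻¹) * n) * n⁻¹ * g := by rw [this]
          _ = a := by group
      constructor
      · intro hh; rwa [hc h hh]
      · intro hh
        have := hc _ hh
        have h' : g⁻¹ * n * g * h * (g⁻¹ * n * g)⁻¹ = h := by
          have h2 := congrArg (fun t => (g⁻¹ * n * g)⁻¹ * t * (g⁻¹ * n * g)) this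
          simpa [mul_assoc] using h2
        rwa [h'] at hh
    · obtain ⟨a, ha, hae⟩ := hcon g hle hn
      apply Subgroup.le_normalizer
      have : g⁻¹ * n * g = a := by
        rw [← hae]
        simp [MulAut.conj, mul_assoc]
      rwa [this]
  have hnc : Subgroup.normalClosure (N : Set G) = ⊤ := by
    rcases IsSimpleGroup.eq_bot_or_eq_top_of_normal (Subgroup.normalClosure (N : Set G)) Subgroup.normalClosure_normal with h | h
    · exfalso
      have : N = ⊥ := eq_bot_iff.2 (fun x hx => by
        rw [← h]; exact Subgroup.subset_normalClosure hx)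
      rw [this] at hN
      simp [Nat.not_prime_one] at hN
    · exact h
  have hnorm : Subgroup.normalizer (H : Set G) = ⊤ := by
    rw [eq_top_iff, ← hnc]
    refine (Subgroup.closure_le _).2 ?_
    intro x hx
    obtain ⟨n, hn, hxn⟩ := Group.mem_conjugatesOfSet_iff.1 hx
    obtain ⟨c, rfl⟩ := isConj_iff.1 hxn
    simpa using hmem c⁻¹ n hn
  have : H.Normal := Subgroup.normalizer_eq_top_iff.1 hnorm
  exact (IsSimpleGroup.eq_bot_or_eq_top_of_normal H this).elim hbot htop

end Cfsg.Agent.S5903
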