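import Cfsg.Statements.S5904

set_option autoImplicit false
open scoped Pointwise
open Cfsg

namespace Cfsg.Agent.S5904
open scoped Pointwise

/-- Let Ω be a finite set with more than two elements and O ⊆ Ω a subset with exactly as many elements as its complement. Then the setwise stabilizer of O in the symmetric group on Ω is not a maximal subgroup (it is properly contained in the stabilizer of the partition {O, Ω ∖ O}, which is proper). -/
theorem result {Ω : Type*} [Fintype Ω] [DecidableEq Ω] (hΩ : 2 < Fintype.card Ω)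
    (O : Set Ω) (hO : Nat.card O = Nat.card ↥Oᶜ) :
    ¬ IsCoatom (MulAction.stabilizer (Equiv.Perm Ω) O) := by
  classical
  intro hco
  let L : Subgroup (Equiv.Perm Ω) := MulAction.stabilizer (Equiv.Perm Ω) ({O, Oᶜ} : Set (Set Ω))
  have hle : MulAction.stabilizer (Equiv.Perm Ω) O ≤ L := by
    intro g hg
    rw [MulAction.mem_stabilizer_iff] at hg
    have hc : g • Oᶜ = Oᶜ := by rw [Set.smul_set_compl, hg]
    show g • ({O, Oᶜ} : Set (Set Ω)) = {O, Oᶜ}
    rw [← Set.image_smul, Set.image_insert_eq, Set.image_singleton, hg, hc]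
  have hcard : Nat.card O + Nat.card ↥Oᶜ = Fintype.card Ω := by
    rw [Nat.card_coe_set_eq, Nat.card_coe_set_eq, Set.ncard_add_ncard_compl, Nat.card_eq_fintype_card]
  have h2 : 2 ≤ Nat.card O := by omega
  obtain ⟨e⟩ : Nonempty (O ≃ ↥Oᶜ) := Finite.card_eq.1 hO
  let g : Equiv.Perm Ω := ((Equiv.Set.sumCompl O).symm.trans ((Equiv.sumCongr e e.symm).trans (Equiv.sumComm _ _))).trans (Equiv.Set.sumCompl O)
  have hgO : g • O = Oᶜ := by
    have hval : ∀ y (hy : y ∈ O), g y = (e ⟨y, hy⟩ : Ω) := by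
      intro y hy
      simp only [g, Equiv.trans_apply]
      rw [Equiv.Set.sumCompl_symm_apply_of_mem hy]
      simp
    ext x
    constructor
    · rintro ⟨y, hy, rfl⟩
      show g y ∈ Oᶜ
      rw [hval y hy]
      exact (e _).2
    · intro hx
      refine ⟨e.symm ⟨x, hx⟩, (e.symm ⟨x, hx⟩).2, ?_⟩
      show g _ = x
      rw [hval _ (e.symm ⟨x, hx⟩).2]
      simp
  obtain ⟨a, b, hab⟩ : ∃ a b : O, a ≠ b := by
    have : Nontrivial O := Finite.one_lt_card_iff_nontrivial.1 (by omega)
    exact exists_pair_ne _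
  obtain ⟨c⟩ : Nonempty (↥Oᶜ) := ⟨e a⟩
  have hne : L ≠ ⊤ := by
    intro h
    have hs : Equiv.swap (a : Ω) (c : Ω) ∈ L := h ▸ Subgroup.mem_top _
    rw [MulAction.mem_stabilizer_iff] at hs
    have hm : Equiv.swap (a : Ω) (c : Ω) • O ∈ ({O, Oᶜ} : Set (Set Ω)) := by
      rw [← hs]; exact Set.smul_mem_smul_set (Set.mem_insert _ _)
    have hc' : (c : Ω) ∈ Equiv.swap (a : Ω) (c : Ω) • O := ⟨a, a.2, by simp⟩
    have hb' : (b : Ω) ∈ Equiv.swap (a : Ω) (c : Ω) • O := by
      refine ⟨b, b.2, ?_⟩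
      show Equiv.swap (a : Ω) (c : Ω) b = b
      rw [Equiv.swap_apply_of_ne_of_ne]
      · exact fun h' => hab (Subtype.ext h'.symm)
      · exact fun h' => c.2 (h' ▸ b.2)
    rcases hm with hm | hm
    · rw [hm] at hc'
      exact c.2 hc'
    · rw [Set.mem_singleton_iff] at hm
      rw [hm] at hb'
      exact hb' b.2
  have hlt : MulAction.stabilizer (Equiv.Perm Ω) O < L := by
    refine lt_of_le_not_ge hle fun h => ?_
    have hgc : g • Oᶜ = O := by rw [Set.smul_set_compl, hgO, compl_compl]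
    have hgL : g ∈ L := by
      show g • ({O, Oᶜ} : Set (Set Ω)) = {O, Oᶜ}
      rw [← Set.image_smul, Set.image_insert_eq, Set.image_singleton, hgO, hgc, Set.pair_comm]
    have : g • O = O := h hgL
    rw [hgO] at this
    exact (Set.ext_iff.1 this a).2 a.2 a.2
  exact hne (hco.2 L hlt)

end Cfsg.Agent.S5904
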