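import Cfsg.Statements.S5909
import Cfsg.Agent.S5905

set_option autoImplicit false
set_option linter.style.haveILetI false
open Cfsg

namespace Cfsg.Agent.S5909

open MulAction Equiv
open scoped Pointwise
open Cfsg.Agent.S5905 (wreath closure_eq_wreath swap_mem_wreath exists_lift)

section
variable {Ω : Type*} [Fintype Ω] [DecidableEq Ω] {b : ℕ} (f : Ω → Fin b)

/-- An index-at-most-four subgroup of a simple group of order above `24` is everything. -/
theorem eq_top_of_small_index {A : Type*} [Group A] [Finite A] [IsSimpleGroup A] (hA : 24 < Nat.card A)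
    (Y : Subgroup A) (hY : Y.index ≤ 4) : Y = ⊤ := by
  rcases (inferInstance : (Y.normalCore).Normal).eq_bot_or_eq_top with h | h
  · exfalso
    rw [Subgroup.normalCore_eq_ker] at h
    have hinj := (MonoidHom.ker_eq_bot_iff _).1 h
    have h1 := Nat.card_le_card_of_injective _ hinj
    rw [Nat.card_perm] at h1
    have h2 : Nat.factorial (Nat.card (A ⧸ Y)) ≤ Nat.factorial 4 := Nat.factorial_le hY
    simp [Nat.factorial] at h2
    omega
  · rw [eq_top_iff, ← h]; exact Y.normalCore_le

theorem fibre_pair (a : ℕ) (ha : 2 ≤ a) (hf : ∀ i, Nat.card {x : Ω // f x = i} = a) (i : Fin b) :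
    ∃ u v, u ≠ v ∧ f u = i ∧ f v = i := by
  have : Nontrivial {x : Ω // f x = i} := Finite.one_lt_card_iff_nontrivial.1 (by rw [hf]; omega)
  obtain ⟨⟨u, hu⟩, ⟨v, hv⟩, hne⟩ := exists_pair_ne {x : Ω // f x = i}
  exact ⟨u, v, fun h => hne (Subtype.ext h), hu, hv⟩

/-- An odd fibre-preserving permutation is made even away from one fibre. -/
theorem even_fix (a : ℕ) (ha : 2 ≤ a) (hf : ∀ i, Nat.card {x : Ω // f x = i} = a) {g : Perm Ω}
    (hg : g ∈ wreath f) (j : Fin b) :
    ∃ k ∈ wreath f ⊓ alternatingGroup Ω, ∀ p, f p ≠ j → k p = g p := by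
  rcases Int.units_eq_one_or (Perm.sign g) with h | h
  · exact ⟨g, ⟨hg, h⟩, fun p _ => rfl⟩
  · obtain ⟨u, v, huv, hu, hv⟩ := fibre_pair f a ha hf j
    refine ⟨g * swap u v, ⟨mul_mem hg (swap_mem_wreath f (hu.trans hv.symm)), ?_⟩, fun p hp => ?_⟩
    · show Perm.sign (g * swap u v) = 1
      rw [map_mul, Perm.sign_swap huv, h]; rfl
    · rw [Perm.mul_apply, swap_apply_of_ne_of_ne]
      · exact fun h' => hp (h' ▸ hu)
      · exact fun h' => hp (h' ▸ hv)

theorem double_swap_mem {p q u v : Ω} (hpq : p ≠ q) (huv : u ≠ v) (h1 : f p = f q) (h2 : f u = f v) :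
    swap p q * swap u v ∈ wreath f ⊓ alternatingGroup Ω := by
  refine ⟨mul_mem (swap_mem_wreath f h1) (swap_mem_wreath f h2), ?_⟩
  show Perm.sign _ = 1
  rw [map_mul, Perm.sign_swap hpq, Perm.sign_swap huv]; rfl

variable (a : ℕ) (ha : 2 ≤ a) (hb : 2 ≤ b) (hf : ∀ i, Nat.card {x : Ω // f x = i} = a)
include ha hb hf

theorem trans_even (x y : Ω) : ∃ w ∈ wreath f ⊓ alternatingGroup Ω, w x = y := by
  obtain ⟨g, hg, hgx⟩ := exists_lift f a hf (swap (f x) (f y))
  have h1 : f (g x) = f y := by rw [(hgx x).1, swap_apply_left]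
  have hw : swap (g x) y * g ∈ wreath f := mul_mem (swap_mem_wreath f h1) hg
  haveI : Nontrivial (Fin b) := Fin.nontrivial_iff_two_le.2 hb
  obtain ⟨j, hj⟩ := exists_ne (f x)
  obtain ⟨k, hk, hk'⟩ := even_fix f a ha hf hw j
  exact ⟨k, hk, by rw [hk' x hj.symm, Perm.mul_apply, swap_apply_left]⟩

/-- An even permutation of a fibre sending `y` to `z` and fixing `x`. -/
theorem move_fix (hab : 3 ≤ a ∨ 3 ≤ b) {x y z : Ω} (hyz : f y = f z) (hxy : x ≠ y) (hxz : x ≠ z) :
    ∃ w ∈ wreath f ⊓ alternatingGroup Ω, w x = x ∧ w y = z := by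
  by_cases hzy : y = z
  · exact ⟨1, one_mem _, rfl, hzy⟩
  haveI : Nontrivial (Fin b) := Fin.nontrivial_iff_two_le.2 hb
  by_cases hx : f x = f y
  · obtain ⟨j, hj⟩ := exists_ne (f y)
    obtain ⟨u, v, huv, hu, hv⟩ := fibre_pair f a ha hf j
    refine ⟨swap y z * swap u v, double_swap_mem f hzy huv hyz (hu.trans hv.symm), ?_, ?_⟩ <;>
      rw [Perm.mul_apply]
    · rw [swap_apply_of_ne_of_ne (show x ≠ u from fun h => hj (by rw [← hu, ← h, hx]))
        (show x ≠ v from fun h => hj (by rw [← hv, ← h, hx]))]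
      exact swap_apply_of_ne_of_ne hxy hxz
    · rw [swap_apply_of_ne_of_ne (show y ≠ u from fun h => hj (by rw [← hu, ← h]))
        (show y ≠ v from fun h => hj (by rw [← hv, ← h]))]
      exact swap_apply_left _ _
  · rcases hab with h3 | h3
    · obtain ⟨t, ht, hty, htz⟩ : ∃ t, f t = f y ∧ t ≠ y ∧ t ≠ z := by
        by_contra hcon
        push Not at hcon
        have hle : (Finset.univ.filter fun t => f t = f y) ⊆ {y, z} := by
          intro t ht
          simp only [Finset.mem_filter, Finset.mem_univ, true_and] at ht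
          by_cases hty : t = y
          · simp [hty]
          · simp [hcon t ht hty]
        have := (Finset.card_le_card hle).trans Finset.card_le_two
        have he := hf (f y)
        rw [Nat.card_eq_fintype_card, Fintype.card_subtype] at he
        omega
      refine ⟨swap y t * swap y z, double_swap_mem f hty.symm hzy ht.symm hyz, ?_, ?_⟩ <;>
        rw [Perm.mul_apply]
      · rw [swap_apply_of_ne_of_ne hxy hxz, swap_apply_of_ne_of_ne hxy (show x ≠ t from fun h => hx (by rw [h, ht]))]
      · rw [swap_apply_left, swap_apply_of_ne_of_ne (Ne.symm hzy) htz.symm]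
    · obtain ⟨j, hjy, hjx⟩ : ∃ j, j ≠ f y ∧ j ≠ f x :=
        Fin.exists_ne_and_ne_of_two_lt _ _ (by omega)
      obtain ⟨u, v, huv, hu, hv⟩ := fibre_pair f a ha hf j
      refine ⟨swap y z * swap u v, double_swap_mem f hzy huv hyz (hu.trans hv.symm), ?_, ?_⟩ <;>
        rw [Perm.mul_apply]
      · rw [swap_apply_of_ne_of_ne (show x ≠ u from fun h => hjx (by rw [← hu, ← h]))
          (show x ≠ v from fun h => hjx (by rw [← hv, ← h]))]
        exact swap_apply_of_ne_of_ne hxy hxz
      · rw [swap_apply_of_ne_of_ne (show y ≠ u from fun h => hjy (by rw [← hu, ← h]))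
          (show y ≠ v from fun h => hjy (by rw [← hv, ← h]))]
        exact swap_apply_left _ _

theorem preprimitive (hab : 3 ≤ a ∨ 3 ≤ b) (X : Subgroup (Perm Ω)) (hX : wreath f ⊓ alternatingGroup Ω ≤ X)
    (hne : ¬ X ≤ wreath f) : IsPreprimitive X Ω := by
  haveI : IsPretransitive X Ω := ⟨fun x y => by
    obtain ⟨w, hw, hwx⟩ := trans_even f a ha hb hf x y
    exact ⟨⟨w, hX hw⟩, hwx⟩⟩
  refine ⟨fun {B} hB => ?_⟩
  show B.Subsingleton ∨ B = Set.univ
  by_contra hcon
  push Not at hcon
  obtain ⟨hsub, huniv⟩ := hcon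
  have hfixB : ∀ g ∈ X, ∀ p ∈ B, g p ∈ B → ∀ q ∈ B, g q ∈ B := by
    intro g hg p hp hgp q hq
    have hk : (⟨g, hg⟩ : X) • B = B :=
      (hB.smul_eq_or_disjoint _).resolve_right
        (Set.not_disjoint_iff.2 ⟨g p, Set.smul_mem_smul_set hp, hgp⟩)
    rw [← hk]
    exact Set.smul_mem_smul_set hq
  have hfibre : ∀ p ∈ B, ∀ q ∈ B, q ≠ p → ∀ z, f z = f p → z ∈ B := by
    intro p hp q hq hqp z hz
    by_cases hzq : z = q
    · rw [hzq]; exact hq
    obtain ⟨w, hw, hwq, hwp⟩ := move_fix f a ha hb hf hab hz.symm hqp (Ne.symm hzq)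
    have := hfixB w (hX hw) q hq (by rw [hwq]; exact hq) p hp
    rwa [hwp] at this
  by_cases hsame : ∀ p ∈ B, ∀ q ∈ B, f p = f q
  · obtain ⟨x, hx, y, hy, hxy⟩ := hsub
    have hall : ∀ z, f z = f x → z ∈ B := fun z hz => hfibre x hx y hy hxy.symm z hz
    have hone : ∀ g ∈ X, ∀ p q : Ω, f p = f q → f (g p) = f (g q) := by
      intro g hg p q hpq
      obtain ⟨w, hw, hwp⟩ := trans_even f a ha hb hf x p
      obtain ⟨v, hv, hvp⟩ := trans_even f a ha hb hf x (g p)
      have hq : w⁻¹ q ∈ B := by
        apply hall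
        have h0 := ((wreath f).inv_mem hw.1 p q).1 hpq
        rw [show w⁻¹ p = x by rw [← hwp]; exact w.symm_apply_apply x] at h0
        exact h0.symm
      let k : Perm Ω := v⁻¹ * g * w
      have hk : k ∈ X := mul_mem (mul_mem (inv_mem (hX hv)) hg) (hX hw)
      have hkx : k x = x := by
        show v⁻¹ (g (w x)) = x
        rw [hwp, Perm.inv_eq_iff_eq, hvp]
      have h1 : k (w⁻¹ q) ∈ B := hfixB k hk x hx (by rw [hkx]; exact hx) _ hq
      have h2 : k (w⁻¹ q) = v⁻¹ (g q) := by
        show v⁻¹ (g (w (w⁻¹ q))) = _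
        rw [show w (w⁻¹ q) = q from w.apply_symm_apply q]
      rw [h2] at h1
      have h3 := (hv.1 x (v⁻¹ (g q))).1 (hsame x hx _ h1)
      rwa [hvp, show v (v⁻¹ (g q)) = g q from v.apply_symm_apply _] at h3
    apply hne
    intro g hg p q
    refine ⟨hone g hg p q, fun h => ?_⟩
    have := hone g⁻¹ (inv_mem hg) _ _ h
    simpa using this
  · push Not at hsame
    obtain ⟨x, hx, y, hy, hxy⟩ := hsame
    have hne' : y ≠ x := fun h => hxy (by rw [h])
    apply huniv
    rw [Set.eq_univ_iff_forall]
    intro z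
    by_cases h1 : f z = f x
    · exact hfibre x hx y hy hne' z h1
    by_cases h2 : f z = f y
    · exact hfibre y hy x hx hne'.symm z h2
    obtain ⟨g, hg, hgx⟩ := exists_lift f a hf (swap (f y) (f z))
    obtain ⟨k, hk, hk'⟩ := even_fix f a ha hf hg (f z)
    have hgx' : k x = x := by
      rw [hk' x (Ne.symm h1)]
      exact (hgx x).2 (swap_apply_of_ne_of_ne hxy (Ne.symm h1))
    have hgy : k y ∈ B := hfixB k (hX hk) x hx (by rw [hgx']; exact hx) y hy
    have hfgy : f (k y) = f z := by rw [hk' y (Ne.symm h2), (hgx y).1, swap_apply_left]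
    exact hfibre _ hgy x hx (fun h => h1 (by rw [← hfgy, ← h])) z hfgy.symm

end

/-- Let Ω be a finite set whose size is not 8, and f : Ω → Fin b a labelling with b ≥ 2 whose fibres all have the same size a ≥ 2 (a partition into b blocks of size a). Then the even permutations preserving the partition — the intersection of the imprimitive wreath product S_a ≀ S_b with the alternating group — form a maximal subgroup of the alternating group on Ω. -/
theorem result {Ω : Type*} [Fintype Ω] [DecidableEq Ω] (h8 : Fintype.card Ω ≠ 8) (a b : ℕ) (ha : 2 ≤ a) (hb : 2 ≤ b)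
    (f : Ω → Fin b) (hf : ∀ i : Fin b, Nat.card {x : Ω // f x = i} = a) :
    IsCoatom ((Subgroup.closure {g : Equiv.Perm Ω | ∀ x y : Ω, f x = f y ↔ f (g x) = f (g y)} ⊓ alternatingGroup Ω).subgroupOf (alternatingGroup Ω)) := by
  classical
  rw [closure_eq_wreath]
  have hcardΩ : Fintype.card Ω = b * a := by
    have h : ∀ i, Fintype.card {x : Ω // f x = i} = a := fun i => by rw [← Nat.card_eq_fintype_card]; exact hf i
    rw [← Fintype.card_congr (sigmaFiberEquiv f), Fintype.card_sigma]
    simp [h]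
  haveI : Nontrivial (Fin b) := Fin.nontrivial_iff_two_le.2 hb
  haveI : Nontrivial Ω := by
    rw [← Fintype.one_lt_card_iff_nontrivial, hcardΩ]; nlinarith
  let W := (wreath f ⊓ alternatingGroup Ω).subgroupOf (alternatingGroup Ω)
  have hmemW : ∀ g : alternatingGroup Ω, g ∈ W ↔ (g : Perm Ω) ∈ wreath f := fun g => by
    rw [Subgroup.mem_subgroupOf]; exact ⟨fun h => h.1, fun h => ⟨h, g.2⟩⟩
  refine ⟨fun h => ?_, fun Y hY => ?_⟩
  · obtain ⟨x, x', hne, hx, hx'⟩ := fibre_pair f a ha hf ⟨0, by omega⟩
    obtain ⟨y, y', hne', hy, hy'⟩ := fibre_pair f a ha hf ⟨1, by omega⟩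
    have hxy : x ≠ y := fun h' => by rw [h', hy] at hx; simp at hx
    have hx'y : x' ≠ y := fun h' => by rw [h', hy] at hx'; simp at hx'
    have ht := Perm.isThreeCycle_swap_mul_swap_same hxy hne hx'y.symm
    have hmem : swap x y * swap x x' ∈ wreath f :=
      (hmemW ⟨_, ht.mem_alternatingGroup⟩).1 (by show _ ∈ W; rw [show W = ⊤ from h]; trivial)
    have h2 := (hmem x x').1 (hx.trans hx'.symm)
    rw [Perm.mul_apply, Perm.mul_apply, swap_apply_left, swap_apply_right,
      swap_apply_of_ne_of_ne hne.symm hx'y, swap_apply_left, hx', hy] at h2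
    simp at h2
  obtain ⟨g, hgY, hgW⟩ := SetLike.exists_of_lt hY
  have hgw : (g : Perm Ω) ∉ wreath f := fun h => hgW ((hmemW g).2 h)
  let X : Subgroup (Perm Ω) := Y.map (alternatingGroup Ω).subtype
  have hXA : X ≤ alternatingGroup Ω := by rintro _ ⟨k, _, rfl⟩; exact k.2
  have hWX : wreath f ⊓ alternatingGroup Ω ≤ X := fun k hk =>
    ⟨⟨k, hk.2⟩, hY.le ((hmemW ⟨k, hk.2⟩).2 hk.1), rfl⟩
  have hgX : (g : Perm Ω) ∈ X := ⟨g, hgY, rfl⟩
  have hXne : ¬ X ≤ wreath f := fun h => hgw (h hgX)
  suffices hsuff : alternatingGroup Ω ≤ X by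
    rw [eq_top_iff]
    intro k _
    obtain ⟨k', hk', he⟩ := hsuff k.2
    rwa [← Subtype.ext he]
  by_cases ha3 : 3 ≤ a
  · haveI := preprimitive f a ha hb hf (Or.inl ha3) X hWX hXne
    obtain ⟨x, x', hne, hx, hx'⟩ := fibre_pair f a ha hf ⟨0, by omega⟩
    obtain ⟨t, ht, htx, htx'⟩ : ∃ t, f t = f x ∧ t ≠ x ∧ t ≠ x' := by
      by_contra hcon
      push Not at hcon
      have hle : (Finset.univ.filter fun t => f t = f x) ⊆ {x, x'} := by
        intro t ht
        simp only [Finset.mem_filter, Finset.mem_univ, true_and] at ht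
        by_cases htx : t = x
        · simp [htx]
        · simp [hcon t ht htx]
      have := (Finset.card_le_card hle).trans Finset.card_le_two
      have he := hf (f x)
      rw [Nat.card_eq_fintype_card, Fintype.card_subtype] at he
      omega
    exact Perm.alternatingGroup_le_of_isPreprimitive_of_isThreeCycle_mem ‹_›
      (Perm.isThreeCycle_swap_mul_swap_same hne htx.symm htx'.symm)
      (hWX (double_swap_mem f hne htx.symm (hx.trans hx'.symm) ht.symm))
  obtain rfl : a = 2 := by omega
  -- the partner of a point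
  have hpart : ∀ x, ∃ x', x' ≠ x ∧ f x' = f x := fun x => by
    obtain ⟨u, v, huv, hu, hv⟩ := fibre_pair f 2 ha hf (f x)
    by_cases h : u = x
    · exact ⟨v, fun h' => huv (h.trans h'.symm), hv⟩
    · exact ⟨u, h, hu⟩
  have hfib2 : ∀ p q r : Ω, p ≠ q → f p = f q → f r = f p → r = p ∨ r = q := by
    intro p q r hpq h1 h2
    by_contra hcon
    push Not at hcon
    have hsub : ({p, q, r} : Finset Ω) ⊆ Finset.univ.filter fun t => f t = f p := by
      intro t ht
      simp only [Finset.mem_insert, Finset.mem_singleton] at ht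
      simp only [Finset.mem_filter, Finset.mem_univ, true_and]
      rcases ht with rfl | rfl | rfl
      exacts [rfl, h1.symm, h2]
    have := Finset.card_le_card hsub
    have he := hf (f p)
    rw [Nat.card_eq_fintype_card, Fintype.card_subtype] at he
    rw [Finset.card_insert_of_notMem (by simp [hpq, Ne.symm hcon.1]), Finset.card_pair (Ne.symm hcon.2)] at this
    omega
  obtain ⟨x, x', hne, hxx, hsplit⟩ : ∃ x x', x' ≠ x ∧ f x' = f x ∧ f ((g : Perm Ω) x') ≠ f ((g : Perm Ω) x) := by
    by_contra hcon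
    push Not at hcon
    apply hgw
    intro p q
    by_cases hpq : p = q
    · simp [hpq]
    refine ⟨fun h => (hcon p q (Ne.symm hpq) h.symm).symm, fun h => ?_⟩
    obtain ⟨p', hp', hfp⟩ := hpart p
    rcases hfib2 _ _ ((g : Perm Ω) q) (fun hh => hp' ((g : Perm Ω).injective hh).symm)
      (hcon p p' hp' hfp).symm h.symm with h' | h'
    · exact absurd ((g : Perm Ω).injective h').symm hpq
    · rw [(g : Perm Ω).injective h', hfp]
  by_cases hb5 : 5 ≤ b
  · haveI := preprimitive f 2 ha hb hf (Or.inr (by omega)) X hWX hXne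
    obtain ⟨u', hu'ne, hu'⟩ := hpart ((g : Perm Ω) x)
    obtain ⟨j, hjx, hju⟩ : ∃ j, j ≠ f x ∧ j ≠ f ((g : Perm Ω)⁻¹ u') :=
      Fin.exists_ne_and_ne_of_two_lt _ _ (by omega)
    obtain ⟨y, y', hyy, hy, hy'⟩ := fibre_pair f 2 ha hf j
    have hu'v : u' ≠ (g : Perm Ω) x' := fun h => hsplit (by rw [← h, hu'])
    have hyu : ∀ z, f z = j → (g : Perm Ω) z ≠ u' := fun z hz h => hju (by rw [← hz, ← h]; simp)
    have hyx : ∀ z, f z = j → z ≠ x ∧ z ≠ x' := fun z hz =>
      ⟨fun h => hjx (by rw [← hz, h]), fun h => hjx (by rw [← hz, h, hxx])⟩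
    obtain ⟨i, hi⟩ : ∃ i : Fin b, i ∉ ({f ((g : Perm Ω) x), f ((g : Perm Ω) x'), f ((g : Perm Ω) y),
        f ((g : Perm Ω) y')} : Finset (Fin b)) := by
      by_contra hcon
      push Not at hcon
      have h1 := Finset.card_le_card (fun i (_ : i ∈ (Finset.univ : Finset (Fin b))) => hcon i)
      rw [Finset.card_univ, Fintype.card_fin] at h1
      have := h1.trans Finset.card_le_four
      omega
    obtain ⟨w, w', hww, hw, hw'⟩ := fibre_pair f 2 ha hf i
    simp only [Finset.mem_insert, Finset.mem_singleton, not_or] at hi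
    let c : Perm Ω := swap ((g : Perm Ω) x) ((g : Perm Ω) x') * swap ((g : Perm Ω) y) ((g : Perm Ω) y')
    let d : Perm Ω := swap ((g : Perm Ω) x) u' * swap w w'
    have hc : c ∈ X := by
      have h0 := mul_mem (mul_mem hgX (hWX (double_swap_mem f hne.symm hyy hxx.symm (hy.trans hy'.symm))))
        (inv_mem hgX)
      convert h0 using 1
      rw [← conj_mul, ← Equiv.swap_apply_apply, ← Equiv.swap_apply_apply]
    have hd : d ∈ X := hWX (double_swap_mem f hu'ne.symm hww hu'.symm (hw.trans hw'.symm))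
    have hcu : c u' = u' := by
      simp only [c, Perm.mul_apply]
      rw [swap_apply_of_ne_of_ne (hyu y hy).symm (hyu y' hy').symm,
        swap_apply_of_ne_of_ne hu'ne hu'v]
    have hcw : ∀ z, f z = i → c z = z := by
      intro z hz
      simp only [c, Perm.mul_apply]
      rw [swap_apply_of_ne_of_ne (show z ≠ (g : Perm Ω) y from fun h => hi.2.2.1 (by rw [← hz, h]))
          (show z ≠ (g : Perm Ω) y' from fun h => hi.2.2.2 (by rw [← hz, h])),
        swap_apply_of_ne_of_ne (show z ≠ (g : Perm Ω) x from fun h => hi.1 (by rw [← hz, h]))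
          (show z ≠ (g : Perm Ω) x' from fun h => hi.2.1 (by rw [← hz, h]))]
    have hcx : c ((g : Perm Ω) x) = (g : Perm Ω) x' := by
      simp only [c, Perm.mul_apply]
      rw [swap_apply_of_ne_of_ne (fun h => (hyx y hy).1 ((g : Perm Ω).injective h).symm)
        (fun h => (hyx y' hy').1 ((g : Perm Ω).injective h).symm), swap_apply_left]
    have he : c * d * c⁻¹ * d = swap u' ((g : Perm Ω) x') * swap u' ((g : Perm Ω) x) := by
      have h1 : c * d * c⁻¹ = swap ((g : Perm Ω) x') u' * swap w w' := by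
        show c * (_ * _) * c⁻¹ = _
        rw [← conj_mul, ← Equiv.swap_apply_apply, ← Equiv.swap_apply_apply, hcx, hcu, hcw w hw, hcw w' hw']
      have hcomm : swap w w' * swap ((g : Perm Ω) x) u' = swap ((g : Perm Ω) x) u' * swap w w' := by
        apply Perm.Disjoint.commute
        intro z
        by_cases hz : z = w ∨ z = w'
        · right
          have hzi : f z = i := by rcases hz with rfl | rfl <;> assumption
          exact swap_apply_of_ne_of_ne (fun h => hi.1 (by rw [← hzi, h]))
            (fun h => hi.1 (by rw [← hzi, h, hu']))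
        · left
          exact swap_apply_of_ne_of_ne (fun h => hz (Or.inl h)) (fun h => hz (Or.inr h))
      rw [h1, mul_assoc]
      show _ * (_ * (swap ((g : Perm Ω) x) u' * swap w w')) = _
      rw [← mul_assoc (swap w w'), hcomm, mul_assoc, swap_mul_self, mul_one,
        swap_comm ((g : Perm Ω) x') u', swap_comm ((g : Perm Ω) x) u']
    exact Perm.alternatingGroup_le_of_isPreprimitive_of_isThreeCycle_mem ‹_›
      (Perm.isThreeCycle_swap_mul_swap_same hu'v hu'ne (fun h => hne ((g : Perm Ω).injective h)))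
      (he ▸ mul_mem (mul_mem (mul_mem hc hd) (inv_mem hc)) hd)
  have hcA : Nat.card (alternatingGroup Ω) * 2 = (b * 2).factorial := by
    rw [mul_comm, Nat.card_eq_fintype_card, two_mul_card_alternatingGroup, Fintype.card_perm, hcardΩ]
  have hcX : Nat.card X = Nat.card Y :=
    (Nat.card_congr (Y.equivMapOfInjective _ Subtype.coe_injective).toEquiv).symm
  have hYtop : Y = ⊤ := by
    obtain rfl | rfl : b = 2 ∨ b = 3 := by omega
    · -- four points
      rw [show Nat.factorial (2 * 2) = 24 from rfl] at hcA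
      obtain ⟨x0⟩ := (inferInstance : Nonempty Ω)
      have h4 : 4 ≤ Nat.card W := by
        have hs : Function.Surjective (fun w : W => ((w : alternatingGroup Ω) : Perm Ω) x0) := fun z => by
          obtain ⟨w, hw, hwx⟩ := trans_even f 2 ha hb hf x0 z
          exact ⟨⟨⟨w, hw.2⟩, (hmemW _).2 hw.1⟩, hwx⟩
        have := Nat.card_le_card_of_surjective _ hs
        rwa [Nat.card_eq_fintype_card (α := Ω), hcardΩ] at this
      have h1 := Subgroup.card_dvd_of_le hY.le
      have h2 := Y.card_subgroup_dvd_card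
      have h3 : Nat.card W ≠ Nat.card Y := fun h => hY.ne (Subgroup.eq_of_le_of_card_ge hY.le h.ge)
      rw [← Subgroup.card_eq_iff_eq_top]
      have h12 : Nat.card (alternatingGroup Ω) = 12 := by omega
      rw [h12] at h2 ⊢
      obtain ⟨k, hk⟩ := h1
      have h0 : 0 < Nat.card Y := Nat.card_pos
      have h2' := Nat.le_of_dvd (by norm_num) h2
      have hk2 : 2 ≤ k := by
        rcases k with _ | _ | k
        · rw [Nat.mul_zero] at hk; omega
        · exfalso; apply h3; rw [hk]; exact (mul_one _).symm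
        · omega
      have : 8 ≤ Nat.card Y := by
        rw [hk]; exact Nat.mul_le_mul h4 hk2
      generalize Nat.card Y = m at h2 h2' this ⊢
      interval_cases m <;> simp at h2 ⊢
    · -- six points
      rw [show Nat.factorial (3 * 2) = 720 from rfl] at hcA
      haveI : IsSimpleGroup (alternatingGroup Ω) :=
        alternatingGroup.isSimpleGroup (by rw [Nat.card_eq_fintype_card, hcardΩ]; norm_num)
      apply eq_top_of_small_index (by omega) Y
      obtain ⟨y, hy, hyx⟩ : ∃ y, f y ≠ f x ∧ True :=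
        let ⟨j, hj⟩ := exists_ne (f x)
        let ⟨y, _, _, hy, _⟩ := fibre_pair f 2 ha hf j
        ⟨y, hy ▸ hj, trivial⟩
      obtain ⟨y', hyy, hy'⟩ := hpart y
      obtain ⟨j, hjx, hjy⟩ : ∃ j, j ≠ f x ∧ j ≠ f y := Fin.exists_ne_and_ne_of_two_lt _ _ (by omega)
      obtain ⟨z, z', hzz, hz, hz'⟩ := fibre_pair f 2 ha hf j
      -- four elements fixing `x` and `x'`
      have hdiff : ∀ p q, f p ≠ f q → p ≠ q := fun p q h h' => h (by rw [h'])
      have hmemk : ∀ p q, (p = z ∧ q = z' ∨ p = z' ∧ q = z) →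
          swap y p * swap y' q ∈ wreath f ⊓ alternatingGroup Ω := by
        intro p q hpq
        have hp : f p = j ∧ f q = j ∧ p ≠ q := by
          rcases hpq with ⟨rfl, rfl⟩ | ⟨rfl, rfl⟩
          exacts [⟨hz, hz', hzz⟩, ⟨hz', hz, hzz.symm⟩]
        refine ⟨?_, ?_⟩
        · have key : ∀ r, f ((swap y p * swap y' q) r) = swap (f y) j (f r) := by
            intro r
            rw [Perm.mul_apply]
            by_cases h1 : r = y'
            · rw [h1, swap_apply_left, swap_apply_of_ne_of_ne (hdiff _ _ (by rw [hp.2.1]; exact hjy)) hp.2.2.symm,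
                hy', swap_apply_left, hp.2.1]
            by_cases h2 : r = q
            · rw [h2, swap_apply_right, swap_apply_of_ne_of_ne hyy (hdiff _ _ (by rw [hy', hp.1]; exact hjy.symm)),
                hy', hp.2.1, swap_apply_right]
            rw [swap_apply_of_ne_of_ne h1 h2]
            by_cases h3 : r = y
            · rw [h3, swap_apply_left, swap_apply_left, hp.1]
            by_cases h4 : r = p
            · rw [h4, swap_apply_right, hp.1, swap_apply_right]
            rw [swap_apply_of_ne_of_ne h3 h4, swap_apply_of_ne_of_ne]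
            · intro h5
              rcases hfib2 y y' r hyy.symm hy'.symm h5 with h | h <;> contradiction
            · intro h5
              rcases hfib2 p q r hp.2.2 (hp.1.trans hp.2.1.symm) (h5.trans hp.1.symm) with h | h <;> contradiction
          intro r s
          rw [key, key, (swap (f y) j).injective.eq_iff]
        · show Perm.sign _ = 1
          rw [map_mul, Perm.sign_swap (hdiff _ _ (by rw [hp.1]; exact hjy.symm)),
            Perm.sign_swap (hdiff _ _ (by rw [hy', hp.2.1]; exact hjy.symm))]; rfl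
      let K : Fin 4 → Perm Ω := ![1, swap y y' * swap z z', swap y z * swap y' z', swap y z' * swap y' z]
      have hK : ∀ i, K i ∈ X := by
        intro i
        fin_cases i
        · exact one_mem X
        · exact hWX (double_swap_mem f hyy.symm hzz hy'.symm (hz.trans hz'.symm))
        · exact hWX (hmemk z z' (Or.inl ⟨rfl, rfl⟩))
        · exact hWX (hmemk z' z (Or.inr ⟨rfl, rfl⟩))
      have e1 : y ≠ z := hdiff _ _ (by rw [hz]; exact hjy.symm)
      have e2 : y ≠ z' := hdiff _ _ (by rw [hz']; exact hjy.symm)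
      have hKx : ∀ i, K i x = x ∧ K i x' = x' := by
        have hfixp : ∀ p, f p = f x → ∀ i, K i p = p := by
          intro p hp i
          have d1 : p ≠ y := hdiff _ _ (by rw [hp]; exact Ne.symm hy)
          have d2 : p ≠ y' := hdiff _ _ (by rw [hp, hy']; exact Ne.symm hy)
          have d3 : p ≠ z := hdiff _ _ (by rw [hp, hz]; exact hjx.symm)
          have d4 : p ≠ z' := hdiff _ _ (by rw [hp, hz']; exact hjx.symm)
          fin_cases i <;> simp [K, swap_apply_of_ne_of_ne, d1, d2, d3, d4]
        exact fun i => ⟨hfixp x rfl i, hfixp x' hxx i⟩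
      have hKinj : ∀ i k, K i y = K k y → i = k := by
        have f1 : K 0 y = y := by simp [K]
        have f2 : K 1 y = y' := by simp [K, swap_apply_of_ne_of_ne, e1, e2]
        have f3 : K 2 y = z := by simp [K, swap_apply_of_ne_of_ne, hyy.symm, e2]
        have f4 : K 3 y = z' := by simp [K, swap_apply_of_ne_of_ne, hyy.symm, e1]
        have e3 : y' ≠ z := hdiff _ _ (by rw [hy', hz]; exact hjy.symm)
        have e4 : y' ≠ z' := hdiff _ _ (by rw [hy', hz']; exact hjy.symm)
        intro i k h
        fin_cases i <;> fin_cases k <;> first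
          | rfl
          | (exfalso; revert h; simp only [Fin.isValue, Fin.zero_eta, Fin.mk_one, Fin.reduceFinMk, f1, f2, f3, f4]
             simp [hyy, hyy.symm, e1, e2, e1.symm, e2.symm, e3, e4, e3.symm, e4.symm, hzz, hzz.symm])
      -- the stabiliser of `x` moves `x'` to every other point
      have hmove : ∀ p, p ≠ x → ∃ k ∈ X, k x = x ∧ k x' = p := by
        obtain ⟨w, hw, hwx⟩ := trans_even f 2 ha hb hf ((g : Perm Ω) x) x
        have hout : ∀ p, f p ≠ f x → ∀ q, f q ≠ f x → ∃ k ∈ X, k x = x ∧ k p = q := by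
          intro p hp q hq
          have : ∀ p, f p ≠ f x → ∃ i, K i y = p := by
            intro p hp
            have hp2 : f p = f y ∨ f p = j := by
              have : ∀ a b c d : Fin 3, c ≠ a → d ≠ a → d ≠ c → b ≠ a → b = c ∨ b = d := by decide
              exact this (f x) (f p) (f y) j hy hjx hjy hp
            rcases hp2 with h | h
            · rcases hfib2 y y' p hyy.symm hy'.symm h with rfl | rfl
              · exact ⟨0, by simp [K]⟩
              · exact ⟨1, by simp [K, swap_apply_of_ne_of_ne, e1, e2]⟩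
            · rcases hfib2 z z' p hzz (hz.trans hz'.symm) (h.trans hz.symm) with rfl | rfl
              · exact ⟨2, by simp [K, swap_apply_of_ne_of_ne, hyy.symm, e2]⟩
              · exact ⟨3, by simp [K, swap_apply_of_ne_of_ne, hyy.symm, e1]⟩
          obtain ⟨i, rfl⟩ := this p hp
          obtain ⟨k, rfl⟩ := this q hq
          refine ⟨K k * (K i)⁻¹, mul_mem (hK k) (inv_mem (hK i)), ?_, ?_⟩ <;> rw [Perm.mul_apply]
          · rw [show (K i)⁻¹ x = x by rw [Perm.inv_eq_iff_eq]; exact (hKx i).1.symm]; exact (hKx k).1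
          · rw [show (K i)⁻¹ (K i y) = y from (K i).symm_apply_apply y]
        intro p hp
        by_cases hfp : f p = f x
        · exact ⟨1, one_mem X, rfl, ((hfib2 x x' p hne.symm hxx.symm hfp).resolve_left hp).symm⟩
        have hwv : f (w ((g : Perm Ω) x')) ≠ f x := by
          conv_rhs => rw [← hwx]
          exact fun h => hsplit ((hw.1 _ _).2 h)
        obtain ⟨k, hk, hk1, hk2⟩ := hout _ hwv p hfp
        exact ⟨k * (w * g), mul_mem hk (mul_mem (hWX hw) hgX), by simp [hwx, hk1], by simp [hk2]⟩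
      choose m hm hmx hmx' using hmove
      have htr : ∀ p, ∃ k ∈ X, k x = p := fun p =>
        let ⟨k, hk, hk'⟩ := trans_even f 2 ha hb hf x p
        ⟨k, hWX hk, hk'⟩
      choose t ht htx using htr
      let F : Ω × {p : Ω // p ≠ x} × Fin 4 → X := fun q =>
        ⟨t q.1 * (m q.2.1.1 q.2.1.2 * K q.2.2), mul_mem (ht _) (mul_mem (hm _ _) (hK _))⟩
      have hF : Function.Injective F := by
        rintro ⟨p, q, i⟩ ⟨p', q', i'⟩ h
        have h' := congrArg Subtype.val h
        simp only [F] at h'
        have h1 := congrArg (fun k : Perm Ω => k x) h'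
        simp [(hKx _).1, hmx, htx] at h1
        subst h1
        replace h' := mul_left_cancel h'
        have h2 := congrArg (fun k : Perm Ω => k x') h'
        simp [(hKx _).2, hmx'] at h2
        obtain rfl := Subtype.ext h2
        replace h' := mul_left_cancel h'
        rw [hKinj i i' (by rw [h'])]
      have h120 := Nat.card_le_card_of_injective F hF
      rw [hcX] at h120
      have h5 : Nat.card {p : Ω // p ≠ x} = 5 := by
        rw [Nat.card_eq_fintype_card, Fintype.card_subtype_compl, hcardΩ, Fintype.card_subtype_eq]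
      rw [Nat.card_prod, Nat.card_prod, h5, Nat.card_fin, Nat.card_eq_fintype_card (α := Ω), hcardΩ] at h120
      have := Y.card_mul_index
      nlinarith
  intro k hk
  exact ⟨⟨k, hk⟩, by rw [hYtop]; trivial, rfl⟩

end Cfsg.Agent.S5909
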