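import Cfsg.Statements.S5910

set_option autoImplicit false
open Cfsg

namespace Cfsg.Agent.S5910

open Equiv

/-- Exclusive or on `Fin 8`. -/
def bx (x y : Fin 8) : Fin 8 := ⟨(x.val ^^^ y.val) % 8, Nat.mod_lt _ (by omega)⟩

/-- The affine permutations of `Fin 8`, for the vector space structure given by exclusive or. -/
def affine : Subgroup (Perm (Fin 8)) where
  carrier := {g | ∀ x y : Fin 8, g (bx x y) = bx (bx (g x) (g y)) (g 0)}
  mul_mem' {g h} hg hh := fun x y => by
    have e1 : ∀ a b : Fin 8, g (bx a b) = bx (bx (g a) (g b)) (g 0) := hg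
    show g (h (bx x y)) = bx (bx (g (h x)) (g (h y))) (g (h 0))
    rw [hh x y, e1, e1]
    have aux2 : ∀ a b c d : Fin 8, bx (bx (bx (bx a b) d) c) d = bx (bx a b) c := by decide +kernel
    exact aux2 _ _ _ _
  one_mem' := fun x y => by
    have aux : ∀ a b : Fin 8, bx a b = bx (bx a b) 0 := by decide +kernel
    simpa using aux x y
  inv_mem' {g} hg := fun x y => by
    have aux : ∀ a b : Fin 8, bx a a = 0 ∧ bx (bx a b) b = a ∧ bx a b = bx b a := by decide +kernel
    have aux3 : ∀ u v w o : Fin 8, bx (bx (bx (bx u v) o) w) o = bx (bx u v) w := by decide +kernel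
    apply g.injective
    have e1 : ∀ a b : Fin 8, g (bx a b) = bx (bx (g a) (g b)) (g 0) := hg
    rw [e1, e1]
    have hc : ∀ z, g (g⁻¹ z) = z := g.apply_symm_apply
    rw [hc, hc, hc, hc, aux3]
    have aux4 : ∀ a b : Fin 8, bx a b = bx (bx a b) 0 := by decide +kernel
    exact aux4 x y

/-- The vector of values of a pair preserving map determined by four values. -/
def vals (a b c d : Fin 8) (i : Fin 8) : Fin 8 :=
  if i.val = 0 then a else if i.val = 1 then bx a 1 else if i.val = 2 then b else if i.val = 3 then bx b 1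
  else if i.val = 4 then c else if i.val = 5 then bx c 1 else if i.val = 6 then d else bx d 1

/-- The parity of the number of inversions. -/
def invEven (v : Fin 8 → Fin 8) : Bool :=
  ((List.finRange 8).foldl (fun acc j => (List.finRange 8).foldl
    (fun acc i => if i.val < j.val ∧ ¬ (v i).val < (v j).val then !acc else acc) acc) true)

/-- The computation: an even pair preserving permutation is affine. -/
def check (a b c d : Fin 8) : Bool :=
  if a.val / 2 = b.val / 2 ∨ a.val / 2 = c.val / 2 ∨ a.val / 2 = d.val / 2 ∨ b.val / 2 = c.val / 2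
      ∨ b.val / 2 = d.val / 2 ∨ c.val / 2 = d.val / 2 then true
  else if invEven (vals a b c d) then
    (List.finRange 8).all (fun x => (List.finRange 8).all (fun y =>
      decide ((vals a b c d (bx x y)).val = (bx (bx (vals a b c d x) (vals a b c d y)) (vals a b c d 0)).val)))
  else true

theorem check_all : ∀ a b c d : Fin 8, check a b c d = true := by decide +kernel

theorem invEven_of_sign (g : Perm (Fin 8)) (h : Perm.sign g = 1) : invEven g = true := by
  have h8 : Perm.sign g = ∏ j : Fin 8, ∏ i ∈ Finset.Iio j, (if g i < g j then 1 else -1) :=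
    Perm.sign_eq_prod_prod_Iio g
  rw [h] at h8
  let step : Bool → Fin 8 → Fin 8 → Bool := fun acc j i =>
    if i.val < j.val ∧ ¬ (g i).val < (g j).val then !acc else acc
  let toU : Bool → ℤˣ := fun b => if b then 1 else -1
  have hin : ∀ (l : List (Fin 8)) (acc : Bool) (j : Fin 8),
      toU (l.foldl (fun acc i => step acc j i) acc) =
        toU acc * (l.map (fun i => if i < j ∧ ¬ g i < g j then (-1 : ℤˣ) else 1)).prod := by
    intro l
    induction l with
    | nil => intro acc j; simp
    | cons i l ih =>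
      intro acc j
      rw [List.foldl_cons, ih, List.map_cons, List.prod_cons, ← mul_assoc]
      congr 1
      by_cases hc : i < j ∧ ¬ g i < g j
      · have hc' : i.val < j.val ∧ ¬ (g i).val < (g j).val := hc
        simp only [step, if_pos hc', if_pos hc]
        cases acc <;> simp [toU]
      · have hc' : ¬ (i.val < j.val ∧ ¬ (g i).val < (g j).val) := hc
        simp only [step, if_neg hc', if_neg hc, mul_one]
  have hout : ∀ (l : List (Fin 8)) (acc : Bool),
      toU (l.foldl (fun acc j => (List.finRange 8).foldl (fun acc i => step acc j i) acc) acc) =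
        toU acc * (l.map (fun j => ((List.finRange 8).map
          (fun i => if i < j ∧ ¬ g i < g j then (-1 : ℤˣ) else 1)).prod)).prod := by
    intro l
    induction l with
    | nil => intro acc; simp
    | cons i l ih =>
      intro acc
      rw [List.foldl_cons, ih, hin, List.map_cons, List.prod_cons, mul_assoc]
  have h1 : toU (invEven g) = 1 := by
    rw [show invEven g = _ from rfl]
    refine (hout (List.finRange 8) true).trans ?_
    rw [show toU true = 1 from rfl, one_mul, ← Fin.prod_univ_def]
    refine Eq.trans ?_ h8.symm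
    refine Finset.prod_congr rfl fun j _ => ?_
    rw [← Fin.prod_univ_def]
    rw [← Finset.prod_subset (Finset.subset_univ (Finset.Iio j))]
    · refine Finset.prod_congr rfl fun i hi => ?_
      rw [Finset.mem_Iio] at hi
      by_cases hc : g i < g j <;> simp [hi, hc]
    · intro i _ hi
      rw [Finset.mem_Iio] at hi
      simp [hi]
  cases hh : invEven g with
  | true => rfl
  | false => rw [hh] at h1; exact absurd h1 (by decide)

theorem mem_affine (g : Perm (Fin 8)) (hs : Perm.sign g = 1)
    (hw : ∀ x y : Fin 8, x.val / 2 = y.val / 2 ↔ (g x).val / 2 = (g y).val / 2) : g ∈ affine := by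
  have hodd : ∀ u v : Fin 8, u.val / 2 = v.val / 2 → u ≠ v → v = bx u 1 := by decide +kernel
  have hp : ∀ i j : Fin 8, i.val / 2 = j.val / 2 → i ≠ j → g j = bx (g i) 1 := fun i j h1 h2 =>
    hodd _ _ ((hw i j).1 h1) (g.injective.ne h2)
  have hv : ∀ i, g i = vals (g 0) (g 2) (g 4) (g 6) i := by
    intro i
    fin_cases i
    · rfl
    · exact hp 0 1 rfl (by decide)
    · rfl
    · exact hp 2 3 rfl (by decide)
    · rfl
    · exact hp 4 5 rfl (by decide)
    · rfl
    · exact hp 6 7 rfl (by decide)
  have hd : ∀ i j : Fin 8, i.val / 2 ≠ j.val / 2 → (g i).val / 2 ≠ (g j).val / 2 := fun i j h h' =>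
    h ((hw i j).2 h')
  have hc := check_all (g 0) (g 2) (g 4) (g 6)
  have hfun : vals (g 0) (g 2) (g 4) (g 6) = g := funext fun i => (hv i).symm
  unfold check at hc
  rw [if_neg (by
    rintro (h | h | h | h | h | h)
    · exact hd 0 2 (by decide) h
    · exact hd 0 4 (by decide) h
    · exact hd 0 6 (by decide) h
    · exact hd 2 4 (by decide) h
    · exact hd 2 6 (by decide) h
    · exact hd 4 6 (by decide) h), hfun, if_pos (invEven_of_sign g hs)] at hc
  intro x y
  simp only [List.all_eq_true, List.mem_finRange, forall_const, decide_eq_true_eq] at hc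
  exact Fin.ext (hc x y)

/-- Let Ω be a set with 8 elements and f : Ω → Fin 4 a labelling whose four fibres all have size 2 (a partition of the 8 points into 4 pairs). Then the group of even permutations preserving this partition, (S₂ ≀ S₄) ∩ A₈, is not a maximal subgroup of the alternating group A₈ (it lies in a subgroup isomorphic to the affine group AGL₃(2)). -/
theorem result {Ω : Type*} [Fintype Ω] [DecidableEq Ω] (h8 : Fintype.card Ω = 8)
    (f : Ω → Fin 4) (hf : ∀ i : Fin 4, Nat.card {x : Ω // f x = i} = 2) :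
    ¬ IsCoatom ((Subgroup.closure {g : Equiv.Perm Ω | ∀ x y : Ω, f x = f y ↔ f (g x) = f (g y)} ⊓ alternatingGroup Ω).subgroupOf (alternatingGroup Ω)) := by
  classical
  let φ : (i : Fin 4) → {x : Ω // f x = i} ≃ Fin 2 := fun i => Finite.equivFinOfCardEq (hf i)
  let e : Ω ≃ Fin 8 :=
    (sigmaFiberEquiv f).symm.trans ((sigmaCongrRight φ).trans ((sigmaEquivProd (Fin 4) (Fin 2)).trans finProdFinEquiv))
  have he : ∀ x, (e x).val / 2 = (f x).val := fun x => by
    simp [e, finProdFinEquiv, sigmaFiberEquiv]
    omega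
  let ψ := e.permCongrHom
  have hψ : ∀ (g : Perm Ω) x, ψ g (e x) = e (g x) := fun g x => by simp [ψ, Equiv.permCongr_apply]
  let W := Subgroup.closure {g : Equiv.Perm Ω | ∀ x y : Ω, f x = f y ↔ f (g x) = f (g y)}
  let L : Subgroup (Perm Ω) := affine.comap ψ.toMonoidHom
  have hW : ∀ g ∈ W, ∀ x y : Ω, f x = f y ↔ f (g x) = f (g y) := by
    intro g hg
    induction hg using Subgroup.closure_induction with
    | mem g hg => exact hg
    | one => intro x y; simp
    | mul g h _ _ hg hh => exact fun x y => (hh x y).trans (hg (h x) (h y))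
    | inv g _ hg => intro x y; have := hg (g⁻¹ x) (g⁻¹ y); simpa using this.symm
  have hle : W ⊓ alternatingGroup Ω ≤ L := by
    rintro g ⟨hg, hs⟩
    refine mem_affine (ψ g) ?_ ?_
    · rw [show ψ g = e.permCongr g from rfl, Perm.sign_permCongr]
      exact hs
    · intro x y
      obtain ⟨x, rfl⟩ := e.surjective x
      obtain ⟨y, rfl⟩ := e.surjective y
      rw [hψ, hψ, he, he, he, he, ← Fin.ext_iff, ← Fin.ext_iff]
      exact hW g hg x y
  intro hco
  let g1 : Perm (Fin 8) := swap 1 2 * swap 5 6
  let g2 : Perm (Fin 8) := swap 0 1 * swap 1 2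
  have hg1 : g1 ∈ affine := by
    show ∀ x y : Fin 8, g1 (bx x y) = bx (bx (g1 x) (g1 y)) (g1 0)
    decide +kernel
  have hg2 : g2 ∉ affine := by
    show ¬ ∀ x y : Fin 8, g2 (bx x y) = bx (bx (g2 x) (g2 y)) (g2 0)
    decide +kernel
  have hmem : ∀ g : Perm (Fin 8), Perm.sign g = 1 → ψ.symm g ∈ alternatingGroup Ω := fun g hg => by
    rw [Perm.mem_alternatingGroup]
    show Perm.sign (e.symm.permCongr g) = 1
    rw [Perm.sign_permCongr, hg]
  have hs1 : Perm.sign g1 = 1 := by
    simp only [g1, map_mul, Perm.sign_swap (by decide : (1 : Fin 8) ≠ 2), Perm.sign_swap (by decide : (5 : Fin 8) ≠ 6)]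
    rfl
  have hs2 : Perm.sign g2 = 1 := by
    simp only [g2, map_mul, Perm.sign_swap (by decide : (1 : Fin 8) ≠ 2), Perm.sign_swap (by decide : (0 : Fin 8) ≠ 1)]
    rfl
  have hlt : (W ⊓ alternatingGroup Ω).subgroupOf (alternatingGroup Ω) < L.subgroupOf (alternatingGroup Ω) := by
    refine lt_of_le_not_ge (Subgroup.comap_mono hle) fun h => ?_
    have h1 : (⟨ψ.symm g1, hmem g1 hs1⟩ : alternatingGroup Ω) ∈ L.subgroupOf (alternatingGroup Ω) := by
      show ψ (ψ.symm g1) ∈ affine
      rwa [MulEquiv.apply_symm_apply]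
    have h2 : f (e.symm 0) = f (e.symm 1) ↔ f (ψ.symm g1 (e.symm 0)) = f (ψ.symm g1 (e.symm 1)) :=
      hW _ (h h1).1 (e.symm 0) (e.symm 1)
    have h3 : ∀ z, e (ψ.symm g1 (e.symm z)) = g1 z := fun z => by
      rw [← hψ, MulEquiv.apply_symm_apply, Equiv.apply_symm_apply]
    rw [Fin.ext_iff, Fin.ext_iff, ← he, ← he, ← he, ← he, h3, h3, e.apply_symm_apply, e.apply_symm_apply] at h2
    exact absurd (h2.1 rfl) (by decide +kernel)
  have htop := Subgroup.subgroupOf_eq_top.1 (hco.2 _ hlt) (hmem g2 hs2)
  exact hg2 (by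
    have : ψ (ψ.symm g2) ∈ affine := htop
    rwa [MulEquiv.apply_symm_apply] at this)

end Cfsg.Agent.S5910
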