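import Cfsg.Statements.S5911
import Cfsg.Agent.S3681

set_option autoImplicit false
set_option linter.style.haveILetI false
open Cfsg

namespace Cfsg.Agent.S5911

open MulAction Equiv
open scoped Pointwise

/-- A family of group elements in pairwise distinct cosets bounds the index from below. -/
theorem card_le_index {G ι : Type*} [Group G] [Finite G] (H : Subgroup G) (s : Finset ι) (g : ι → G)
    (hg : ∀ i ∈ s, ∀ j ∈ s, (g i)⁻¹ * g j ∈ H → i = j) : s.card ≤ H.index := by
  classical
  haveI : Fintype (G ⧸ H) := Fintype.ofFinite _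
  have h := Finset.card_image_of_injOn (s := s) (f := fun i => (g i : G ⧸ H))
    (fun i hi j hj h => hg i hi j hj (QuotientGroup.eq.1 h))
  rw [← h, Subgroup.index, Nat.card_eq_fintype_card]
  exact Finset.card_le_univ _

variable {Ω : Type*} [Fintype Ω] [DecidableEq Ω]

theorem image_swap_eq {B : Finset Ω} {x y w : Ω} (hx : x ∈ B) (hw : w ∈ B) (h1 : x ≠ w) (hy : y ∉ B) :
    Equiv.swap x y w = w :=
  swap_apply_of_ne_of_ne h1.symm (fun h => hy (h ▸ hw))

/-- A subgroup of index at most the degree fixes no set of size between two and the degree minus two. -/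
theorem orbit_small (H : Subgroup (Equiv.Perm Ω)) (hH : H.index = Fintype.card Ω) (B : Finset Ω)
    (hB : ∀ g ∈ H, ∀ x, x ∈ B → g x ∈ B) : B.card ≤ 1 ∨ Fintype.card Ω ≤ B.card + 1 := by
  by_contra hcon
  push Not at hcon
  obtain ⟨h1, h2⟩ := hcon
  let s : Finset (Option (Ω × Ω)) := Finset.insertNone (B ×ˢ Bᶜ)
  have hs : s.card = B.card * (Fintype.card Ω - B.card) + 1 := by
    simp [s, Finset.card_compl]
  let g : Option (Ω × Ω) → Equiv.Perm Ω := fun o => o.elim 1 (fun p => Equiv.swap p.1 p.2)
  have h := card_le_index H s g ?_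
  · rw [hs, hH] at h
    obtain ⟨a, ha⟩ : ∃ a, B.card = a + 2 := ⟨B.card - 2, by omega⟩
    obtain ⟨c, hc⟩ : ∃ c, Fintype.card Ω - B.card = c + 2 := ⟨Fintype.card Ω - B.card - 2, by omega⟩
    rw [hc, ha] at h
    have : Fintype.card Ω = a + c + 4 := by omega
    nlinarith
  have hinv : ∀ i j, (g i)⁻¹ * g j ∈ H → ∀ w ∈ B, g i ((g i)⁻¹ (g j w)) = g j w ∧ (g i)⁻¹ (g j w) ∈ B :=
    fun i j h w hw => ⟨(g i).apply_symm_apply _, hB _ h w hw⟩
  rintro (_ | ⟨u, v⟩) hi (_ | ⟨u', v'⟩) hj hij
  · rfl
  · exfalso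
    obtain ⟨hu, hv⟩ := by simpa [s] using hj
    obtain ⟨-, h⟩ := hinv _ _ hij u' hu
    simp [g, swap_apply_left] at h
    exact hv h
  · exfalso
    obtain ⟨hu, hv⟩ := by simpa [s] using hi
    obtain ⟨-, h⟩ := hinv _ _ hij u hu
    simp [g, swap_inv, swap_apply_left] at h
    exact hv h
  · obtain ⟨hu, hv⟩ := by simpa [s] using hi
    obtain ⟨hu', hv'⟩ := by simpa [s] using hj
    have hkey : ∀ w ∈ B, swap u v (swap u' v' w) ∈ B := fun w hw => by
      have := (hinv _ _ hij w hw).2
      simpa [g, swap_inv] using this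
    have e1 := hkey u' hu'
    rw [swap_apply_left] at e1
    rcases eq_or_ne v' u with hvu | hvu
    · exact absurd (hvu ▸ hu) hv'
    rcases eq_or_ne v' v with hvv | hvv
    · subst hvv
      rcases eq_or_ne u u' with huu | huu
      · subst huu; rfl
      · have e2 := hkey u hu
        rw [swap_apply_of_ne_of_ne huu (ne_of_mem_of_not_mem hu hv'), swap_apply_left] at e2
        exact absurd e2 hv
    · rw [swap_apply_of_ne_of_ne hvu hvv] at e1
      exact absurd e1 hv'

/-- An index `n` subgroup is a point stabiliser or transitive. -/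
theorem point_or_transitive (H : Subgroup (Equiv.Perm Ω)) (hH : H.index = Fintype.card Ω) :
    (∃ x : Ω, H = stabilizer (Equiv.Perm Ω) x) ∨ IsPretransitive H Ω := by
  classical
  rcases Classical.em (IsPretransitive H Ω) with ht | ht
  · exact Or.inr ht
  left
  have hpos : 0 < Fintype.card Ω := hH ▸ Nat.pos_of_ne_zero Subgroup.index_ne_zero_of_finite
  suffices h : ∃ x : Ω, ∀ g ∈ H, g x = x by
    obtain ⟨x, hx⟩ := h
    refine ⟨x, ?_⟩
    have hle : H ≤ stabilizer (Equiv.Perm Ω) x := fun g hg => hx g hg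
    refine Subgroup.eq_of_le_of_card_ge hle ?_
    have h2 : (stabilizer (Equiv.Perm Ω) x).index = Fintype.card Ω := by
      rw [index_stabilizer_of_transitive, Nat.card_eq_fintype_card]
    have e1 := H.card_mul_index
    have e2 := (stabilizer (Equiv.Perm Ω) x).card_mul_index
    rw [hH] at e1; rw [h2] at e2
    exact le_of_eq (Nat.eq_of_mul_eq_mul_right hpos (e2.trans e1.symm))
  obtain ⟨x, y, hxy⟩ : ∃ x y : Ω, ∀ g : H, g • x ≠ y := by
    by_contra hcon
    push Not at hcon
    exact ht ⟨hcon⟩
  let B : Finset Ω := Finset.univ.filter (fun z => ∃ g : H, g • x = z)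
  have hBinv : ∀ g ∈ H, ∀ z, z ∈ B → g z ∈ B := by
    intro g hg z hz
    obtain ⟨k, rfl⟩ := (Finset.mem_filter.1 hz).2
    exact Finset.mem_filter.2 ⟨Finset.mem_univ _, ⟨g, hg⟩ * k, rfl⟩
  have hxB : x ∈ B := Finset.mem_filter.2 ⟨Finset.mem_univ _, 1, one_smul _ x⟩
  have hyB : y ∉ B := fun h => by obtain ⟨g, hg⟩ := (Finset.mem_filter.1 h).2; exact hxy g hg
  rcases orbit_small H hH B hBinv with h | h
  · refine ⟨x, fun g hg => ?_⟩
    exact Finset.card_le_one.1 h _ (hBinv g hg x hxB) x hxB
  · refine ⟨y, fun g hg => ?_⟩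
    by_contra hne
    have hgy : g y ∉ B := fun h' => hyB (by
      have := hBinv g⁻¹ (inv_mem hg) _ h'
      rwa [show g⁻¹ (g y) = y from g.symm_apply_apply y] at this)
    have : ({g y, y} : Finset Ω) ⊆ Bᶜ := by
      intro z hz
      simp only [Finset.mem_insert, Finset.mem_singleton] at hz
      rcases hz with rfl | rfl <;> simpa
    have := Finset.card_le_card this
    rw [Finset.card_pair hne, Finset.card_compl] at this
    have := B.card_le_univ
    omega

/-- In degree other than six an index `n` subgroup preserves no non-trivial block system. -/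
theorem no_block (h6 : Fintype.card Ω ≠ 6) (H : Subgroup (Equiv.Perm Ω)) (hH : H.index = Fintype.card Ω)
    [IsPretransitive H Ω] (B : Set Ω) (hB : IsBlock H B) : B.Subsingleton ∨ B = Set.univ := by
  classical
  by_contra hcon
  push Not at hcon
  obtain ⟨hnon, huniv⟩ := hcon
  obtain ⟨x, hx, y, hy, hxy⟩ := hnon
  -- the degree divides the order
  have hdvd : Fintype.card Ω ∣ Nat.card H := by
    rw [← Nat.card_eq_fintype_card, ← index_stabilizer_of_transitive H x]
    exact Subgroup.index_dvd_card _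
  have hcard : Nat.card H * Fintype.card Ω = (Fintype.card Ω).factorial := by
    have h := H.card_mul_index
    rw [hH, Nat.card_perm, Nat.card_eq_fintype_card (α := Ω)] at h
    exact h
  have hb1 : 1 < B.ncard := (Set.one_lt_ncard (Set.toFinite _)).2 ⟨x, hx, y, hy, hxy⟩
  have hbd : B.ncard ∣ Fintype.card Ω := by
    rw [← Nat.card_eq_fintype_card]; exact hB.ncard_dvd_card ⟨x, hx⟩
  have hbn : B.ncard < Fintype.card Ω := by
    rw [← Nat.card_eq_fintype_card]
    exact lt_of_le_of_ne (Set.ncard_le_card B) fun h => huniv (Set.eq_of_subset_of_ncard_le (Set.subset_univ _) (by rw [Set.ncard_univ, h]))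
  obtain ⟨c, hc⟩ := hbd
  have hc2 : 2 ≤ c := by
    by_contra h
    interval_cases c <;> omega
  -- translates
  have hblk : ∀ g ∈ H, ∀ p ∈ B, g p ∈ B → ∀ q ∈ B, g q ∈ B := by
    intro g hg p hp hgp q hq
    have hk : (⟨g, hg⟩ : H) • B = B :=
      (hB.smul_eq_or_disjoint _).resolve_right
        (Set.not_disjoint_iff.2 ⟨g p, Set.smul_mem_smul_set hp, hgp⟩)
    rw [← hk]
    exact Set.smul_mem_smul_set hq
  rcases Nat.lt_or_ge 2 B.ncard with hb3 | hb3
  · -- blocks of size at least three
    let s : Finset (Option (Ω × Ω)) := Finset.insertNone (B.toFinset ×ˢ B.toFinsetᶜ)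
    have hs : s.card = B.ncard * (Fintype.card Ω - B.ncard) + 1 := by
      simp [s, Finset.card_compl, Set.ncard_eq_toFinset_card']
    let g : Option (Ω × Ω) → Equiv.Perm Ω := fun o => o.elim 1 (fun p => Equiv.swap p.1 p.2)
    have h := card_le_index H s g ?_
    · rw [hs, hH, hc] at h
      obtain ⟨a, ha⟩ : ∃ a, B.ncard = a + 3 := ⟨B.ncard - 3, by omega⟩
      obtain ⟨d, rfl⟩ : ∃ d, c = d + 2 := ⟨c - 2, by omega⟩
      rw [ha] at h
      have : (a + 3) * (d + 2) - (a + 3) = (a + 3) * (d + 1) := by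
        rw [Nat.sub_eq_iff_eq_add (Nat.le_mul_of_pos_right _ (by omega))]; ring
      rw [this] at h
      nlinarith
    -- a point of `B` away from two given ones
    have hthird : ∀ p q : Ω, ∃ r ∈ B, r ≠ p ∧ r ≠ q := by
      intro p q
      by_contra hcon
      push Not at hcon
      have : B ⊆ {p, q} := fun r hr => by
        by_cases h : r = p
        · exact Or.inl h
        · exact Or.inr (hcon r hr h)
      have := Set.ncard_le_ncard this (Set.toFinite _)
      have : ({p, q} : Set Ω).ncard ≤ 2 := by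
        rcases eq_or_ne p q with rfl | h
        · simp
        · rw [Set.ncard_pair h]
      omega
    rintro (_ | ⟨u, v⟩) hi (_ | ⟨u', v'⟩) hj hij
    · rfl
    · exfalso
      obtain ⟨hu, hv⟩ := by simpa [s] using hj
      obtain ⟨r, hr, hru, -⟩ := hthird u' u'
      simp [g] at hij
      have := hblk _ hij r hr (by rwa [swap_apply_of_ne_of_ne hru (ne_of_mem_of_not_mem hr hv)]) u' hu
      rw [swap_apply_left] at this
      exact hv this
    · exfalso
      obtain ⟨hu, hv⟩ := by simpa [s] using hi
      obtain ⟨r, hr, hru, -⟩ := hthird u u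
      simp [g, swap_inv] at hij
      have := hblk _ hij r hr (by rwa [swap_apply_of_ne_of_ne hru (ne_of_mem_of_not_mem hr hv)]) u hu
      rw [swap_apply_left] at this
      exact hv this
    · obtain ⟨hu, hv⟩ := by simpa [s] using hi
      obtain ⟨hu', hv'⟩ := by simpa [s] using hj
      obtain ⟨r, hr, hru, hru'⟩ := hthird u u'
      simp [g, swap_inv] at hij
      have hkey : ∀ w ∈ B, swap u v (swap u' v' w) ∈ B := hblk _ hij r hr (by
        show swap u v (swap u' v' r) ∈ B
        rwa [swap_apply_of_ne_of_ne hru' (ne_of_mem_of_not_mem hr hv'),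
          swap_apply_of_ne_of_ne hru (ne_of_mem_of_not_mem hr hv)])
      have e1 := hkey u' hu'
      rw [swap_apply_left] at e1
      rcases eq_or_ne v' u with hvu | hvu
      · exact absurd (hvu ▸ hu) hv'
      rcases eq_or_ne v' v with hvv | hvv
      · subst hvv
        rcases eq_or_ne u u' with huu | huu
        · subst huu; rfl
        · have e2 := hkey u hu
          rw [swap_apply_of_ne_of_ne huu (ne_of_mem_of_not_mem hu hv'), swap_apply_left] at e2
          exact absurd e2 hv
      · rw [swap_apply_of_ne_of_ne hvu hvv] at e1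
        exact absurd e1 hv'
  · -- blocks of size two
    have hb : B.ncard = 2 := le_antisymm hb3 hb1
    have hB2 : B = {x, y} := (Set.eq_of_subset_of_ncard_le
      (by rintro z (rfl | rfl) <;> assumption) (by rw [hb, Set.ncard_pair hxy]) (Set.toFinite _)).symm
    have hn4 : Fintype.card Ω ≠ 4 := by
      intro h4
      rw [h4] at hdvd hcard
      rw [show Nat.factorial 4 = 24 from rfl] at hcard
      have : Nat.card H = 6 := by omega
      rw [this] at hdvd
      norm_num at hdvd
    have hn8 : 8 ≤ Fintype.card Ω := by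
      rcases Nat.lt_or_ge c 4 with h | h
      · interval_cases c <;> omega
      · rw [hc, hb]; omega
    -- an auxiliary swap between two other pairs
    have hex : ∀ v : Ω, ∃ p q p' : Ω, p ≠ q ∧ p ≠ x ∧ p ≠ y ∧ p ≠ v ∧ q ≠ x ∧ q ≠ y ∧ q ≠ v ∧ p' ≠ p ∧ p' ≠ q ∧
        ∃ k ∈ H, k x = p ∧ k y = p' := by
      intro v
      obtain ⟨p, hp⟩ : ∃ p, p ∉ ({x, y, v} : Finset Ω) := by
        by_contra hcon
        push Not at hcon
        have := Finset.card_le_card (s := Finset.univ) (fun p _ => hcon p)
        have h3 : ({x, y, v} : Finset Ω).card ≤ 3 := Finset.card_le_three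
        rw [Finset.card_univ] at this
        omega
      obtain ⟨k, hk⟩ := exists_smul_eq H x p
      obtain ⟨q, hq⟩ : ∃ q, q ∉ ({x, y, v, p, (k : Equiv.Perm Ω) y} : Finset Ω) := by
        by_contra hcon
        push Not at hcon
        have := Finset.card_le_card (s := Finset.univ) (fun p _ => hcon p)
        have h3 : ({x, y, v, p, (k : Equiv.Perm Ω) y} : Finset Ω).card ≤ 5 := Finset.card_le_five
        rw [Finset.card_univ] at this
        omega
      simp only [Finset.mem_insert, Finset.mem_singleton, not_or] at hp hq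
      refine ⟨p, q, (k : Equiv.Perm Ω) y, Ne.symm hq.2.2.2.1, hp.1, hp.2.1, hp.2.2, hq.1, hq.2.1, hq.2.2.1,
        ?_, Ne.symm hq.2.2.2.2, k, k.2, hk, rfl⟩
      rw [← hk]
      exact fun h => hxy ((k : Equiv.Perm Ω).injective h).symm
    choose P Q P' hP using hex
    let g : Ω × Bool → Equiv.Perm Ω := fun o => bif o.2 then swap y o.1 * swap (P o.1) (Q o.1) else swap y o.1
    let s : Finset (Ω × Bool) := (Finset.univ.filter (fun v => v ≠ x)) ×ˢ Finset.univ
    have hs : s.card = (Fintype.card Ω - 1) * 2 := by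
      simp [s, Finset.filter_ne', Finset.card_erase_of_mem]
    have h := card_le_index H s g ?_
    · omega
    have hgx : ∀ o : Ω × Bool, o.1 ≠ x → g o x = x := by
      rintro ⟨v, b⟩ hv
      obtain ⟨-, h1, -, -, h2, -⟩ := hP v
      cases b <;> simp [g, swap_apply_of_ne_of_ne, hxy, Ne.symm hv, h1.symm, h2.symm]
    have hgy : ∀ o : Ω × Bool, g o y = o.1 := by
      rintro ⟨v, b⟩
      obtain ⟨-, -, h1, -, -, h2, -⟩ := hP v
      cases b <;> simp [g, swap_apply_of_ne_of_ne, h1.symm, h2.symm]
    rintro ⟨v, b⟩ hi ⟨w, b'⟩ hj hij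
    have hvx : v ≠ x := (Finset.mem_filter.1 (Finset.mem_product.1 hi).1).2
    have hwx : w ≠ x := (Finset.mem_filter.1 (Finset.mem_product.1 hj).1).2
    have hkx : ((g (v, b))⁻¹ * g (w, b')) x = x := by
      show (g (v, b))⁻¹ (g (w, b') x) = x
      rw [hgx _ hwx, Perm.inv_eq_iff_eq, hgx _ hvx]
    have hky := hblk _ hij x hx (by rw [hkx]; exact hx) y hy
    rw [hB2] at hky
    rcases hky with hky | hky
    · exact absurd (((g (v, b))⁻¹ * g (w, b')).injective (hky.trans hkx.symm)) (Ne.symm hxy)
    change (g (v, b))⁻¹ (g (w, b') y) = y at hky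
    rw [Perm.inv_eq_iff_eq, hgy, hgy] at hky
    change w = v at hky
    subst hky
    by_contra hne
    have hbb : b ≠ b' := fun h => hne (by rw [h])
    have hswap : swap (P w) (Q w) ∈ H := by
      cases b <;> cases b' <;> simp_all [g, swap_inv]
    obtain ⟨hpq, hpx, hpy, -, hqx, hqy, -, hp'p, hp'q, k, hk, hkx', hky'⟩ := hP w
    have hmem : k⁻¹ * swap (P w) (Q w) * k ∈ H := mul_mem (mul_mem (inv_mem hk) hswap) hk
    have hy' : (k⁻¹ * swap (P w) (Q w) * k) y = y := by
      show k⁻¹ (swap (P w) (Q w) (k y)) = y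
      rw [hky', swap_apply_of_ne_of_ne hp'p hp'q, Perm.inv_eq_iff_eq, hky']
    have := hblk _ hmem y hy (by rw [hy']; exact hy) x hx
    change k⁻¹ (swap (P w) (Q w) (k x)) ∈ B at this
    rw [hkx', swap_apply_left, hB2] at this
    rcases this with h' | h'
    · rw [Perm.inv_eq_iff_eq, hkx'] at h'
      exact hpq h'.symm
    · rw [Set.mem_singleton_iff, Perm.inv_eq_iff_eq, hky'] at h'
      exact hp'q h'.symm

theorem ceil_factorial_gt {n : ℕ} (h5 : 5 ≤ n) (h6 : n ≠ 6) : n < ((n + 1) / 2).factorial := by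
  rcases Nat.lt_or_ge n 7 with h | h
  · interval_cases n
    · decide
    · omega
  have key : ∀ m, 4 ≤ m → 2 * m < m.factorial := by
    intro m hm
    induction m, hm using Nat.le_induction with
    | base => decide
    | succ m hm ih => rw [Nat.factorial_succ]; nlinarith
  have := key ((n + 1) / 2) (by omega)
  omega

theorem not_transitive (h6 : Fintype.card Ω ≠ 6) (h5 : 5 ≤ Fintype.card Ω) (H : Subgroup (Equiv.Perm Ω))
    (hH : H.index = Fintype.card Ω) : ¬ IsPretransitive H Ω := by
  intro ht
  have hprim : IsPreprimitive H Ω := ⟨fun {B} hB => no_block h6 H hH B hB⟩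
  have hcard : Nat.card H * Fintype.card Ω = (Fintype.card Ω).factorial := by
    have h := H.card_mul_index
    rw [hH, Nat.card_perm, Nat.card_eq_fintype_card (α := Ω)] at h
    exact h
  by_cases hA : alternatingGroup Ω ≤ H
  · haveI : Nontrivial Ω := Fintype.one_lt_card_iff_nontrivial.1 (by omega)
    have h1 := Subgroup.index_antitone hA
    have h2 := alternatingGroup.index_eq_two (α := Ω)
    rw [hH, h2] at h1
    omega
  have hrange : (MulAction.toPermHom H Ω).range = H := by
    ext g
    exact ⟨fun ⟨k, hk⟩ => hk ▸ k.2, fun hg => ⟨⟨g, hg⟩, rfl⟩⟩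
  have h := Cfsg.Agent.S3681.result (G := H) (Ω := Ω) hprim (by rwa [hrange])
  rw [← hcard] at h
  exact absurd (Nat.le_of_mul_le_mul_left h Nat.card_pos) (not_le.2 (ceil_factorial_gt h5 h6))

/-- Let Ω be a finite set whose size n is not 6. Then every subgroup of the symmetric group on Ω of index n is the stabilizer of a point. -/
theorem result {Ω : Type*} [Fintype Ω] [DecidableEq Ω] (h6 : Fintype.card Ω ≠ 6)
    (H : Subgroup (Equiv.Perm Ω)) (hH : H.index = Fintype.card Ω) :
    ∃ x : Ω, H = MulAction.stabilizer (Equiv.Perm Ω) x := by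
  classical
  rcases point_or_transitive H hH with h | ht
  · exact h
  haveI := ht
  by_cases h5 : 5 ≤ Fintype.card Ω
  · exact absurd ht (not_transitive h6 h5 H hH)
  have hpos : 0 < Fintype.card Ω := hH ▸ Nat.pos_of_ne_zero Subgroup.index_ne_zero_of_finite
  obtain ⟨x⟩ := Fintype.card_pos_iff.1 hpos
  have hdvd : Fintype.card Ω ∣ Nat.card H := by
    rw [← Nat.card_eq_fintype_card, ← MulAction.index_stabilizer_of_transitive H x]
    exact Subgroup.index_dvd_card _
  have hcard : Nat.card H * Fintype.card Ω = (Fintype.card Ω).factorial := by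
    have h := H.card_mul_index
    rw [hH, Nat.card_perm, Nat.card_eq_fintype_card (α := Ω)] at h
    exact h
  interval_cases hn : Fintype.card Ω
  · -- one point
    refine ⟨x, ?_⟩
    haveI : Subsingleton Ω := Fintype.card_le_one_iff_subsingleton.1 hn.le
    exact Subsingleton.elim _ _
  all_goals
    exfalso
    obtain ⟨d, hd⟩ := hdvd
    rw [hd] at hcard
    simp only [Nat.factorial] at hcard
    omega

end Cfsg.Agent.S5911
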