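import Cfsg.Statements.S5912
import Cfsg.Agent.S5911

set_option autoImplicit false
set_option linter.style.haveILetI false
open Cfsg

namespace Cfsg.Agent.S5912

open MulAction Equiv
open scoped Pointwise

/-- The five-cycle. -/
def sg : Perm (Fin 6) where
  toFun := ![1, 2, 3, 4, 0, 5]
  invFun := ![4, 0, 1, 2, 3, 5]
  left_inv := by decide +kernel
  right_inv := by decide +kernel

/-- Doubling modulo five. -/
def tau : Perm (Fin 6) where
  toFun := ![0, 2, 4, 1, 3, 5]
  invFun := ![0, 3, 1, 4, 2, 5]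
  left_inv := by decide +kernel
  right_inv := by decide +kernel

/-- The inversion exchanging `0` and `∞ = 5`. -/
def inv0 : Perm (Fin 6) where
  toFun := ![5, 4, 2, 3, 1, 0]
  invFun := ![5, 4, 2, 3, 1, 0]
  left_inv := by decide +kernel
  right_inv := by decide +kernel

/-- The transitive subgroup of index six. -/
def P0 : Subgroup (Perm (Fin 6)) := Subgroup.closure {sg, tau, inv0}

/-- The twenty elements of the affine group. -/
def aff (ij : Fin 5 × Fin 4) : Perm (Fin 6) := sg ^ ij.1.val * tau ^ ij.2.val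

theorem aff_mem (ij : Fin 5 × Fin 4) : aff ij ∈ P0 :=
  mul_mem (pow_mem (Subgroup.subset_closure (by simp)) _) (pow_mem (Subgroup.subset_closure (by simp)) _)

theorem aff_facts : (∀ a, aff a 5 = 5) ∧ Function.Injective aff := by
  constructor
  · decide +kernel
  · have : ∀ a b, aff a = aff b → a = b := by decide +kernel
    exact this

/-- Few fixed points are moved: two or three moved points. -/
def small (g : Perm (Fin 6)) : Bool :=
  let c := ((List.finRange 6).filter (fun i => g i ≠ i)).length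
  c == 2 || c == 3

theorem step : ∀ t : Perm (Fin 6), t 5 = 0 → (∃ a, t * aff a = inv0) ∨ ∃ a, small (t * aff a) = true := by
  decide +kernel

theorem norm_five : ∀ g : Perm (Fin 6), (∃ i : Fin 5, g * sg = sg ^ i.val * g) → ∃ a, g = aff a := by
  decide +kernel

theorem conj_five : ∀ g : Perm (Fin 6), g ^ 5 = 1 → g ≠ 1 → ∃ c : Perm (Fin 6), c * g * c⁻¹ = sg := by
  intro g h5 hne
  have hord : orderOf g = 5 := by
    have := Fact.mk (by norm_num : Nat.Prime 5)
    exact orderOf_eq_prime h5 hne
  have hct : ∀ x : Perm (Fin 6), orderOf x = 5 → x.cycleType = {5} := by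
    intro x hx
    obtain ⟨n, hn⟩ := Perm.cycleType_prime_order (σ := x) (by rw [hx]; norm_num)
    rw [hx] at hn
    have h6 := x.sum_cycleType
    rw [hn, Multiset.sum_replicate] at h6
    have := x.support.card_le_univ
    simp at h6 this
    obtain rfl : n = 0 := by omega
    simpa using hn
  have hsg : orderOf sg = 5 := by
    have := Fact.mk (by norm_num : Nat.Prime 5)
    exact orderOf_eq_prime (by decide +kernel) (by decide +kernel)
  exact isConj_iff.1 (Perm.isConj_iff_cycleType_eq.2 ((hct g hord).trans (hct sg hsg).symm))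

theorem small_top (H : Subgroup (Perm (Fin 6))) [IsPreprimitive H (Fin 6)] (g : Perm (Fin 6)) (hg : g ∈ H)
    (hs : small g = true) : alternatingGroup (Fin 6) ≤ H := by
  have hc : g.support.card = 2 ∨ g.support.card = 3 := by
    have : ((List.finRange 6).filter (fun i => g i ≠ i)).length = g.support.card := by
      rw [← List.toFinset_card_of_nodup ((List.nodup_finRange 6).filter _)]
      congr 1
      ext i
      simp [Perm.mem_support]
    simp only [small, Bool.or_eq_true, beq_iff_eq] at hs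
    rwa [this] at hs
  rcases hc with h | h
  · rw [Perm.subgroup_eq_top_of_isPreprimitive_of_isSwap_mem ‹_› g (Perm.card_support_eq_two.1 h) hg]
    exact le_top
  · exact Perm.alternatingGroup_le_of_isPreprimitive_of_isThreeCycle_mem ‹_› (card_support_eq_three_iff.1 h) hg

theorem alt_not_le (H : Subgroup (Perm (Fin 6))) (hH : H.index = 6) : ¬ alternatingGroup (Fin 6) ≤ H := by
  intro h
  have h1 := Subgroup.index_antitone h
  rw [hH, alternatingGroup.index_eq_two] at h1
  omega

theorem card_le (H : Subgroup (Perm (Fin 6))) (hH : P0 ≤ H) : 120 ≤ Nat.card H := by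
  have htr : ∀ z : Fin 6, ∃ g ∈ P0, g 5 = z := by
    intro z
    have h0 : inv0 ∈ P0 := Subgroup.subset_closure (by simp)
    have hs : sg ∈ P0 := Subgroup.subset_closure (by simp)
    by_cases hz : z = 5
    · exact ⟨1, one_mem _, by rw [hz]; rfl⟩
    · refine ⟨sg ^ z.val * inv0, mul_mem (pow_mem hs _) h0, ?_⟩
      have : ∀ z : Fin 6, z ≠ 5 → (sg ^ z.val * inv0) 5 = z := by decide +kernel
      exact this z hz
  choose c hc hc5 using htr
  let f : Fin 6 × (Fin 5 × Fin 4) → H := fun p => ⟨c p.1 * aff p.2, hH (mul_mem (hc _) (aff_mem _))⟩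
  have hf : Function.Injective f := by
    rintro ⟨z, a⟩ ⟨z', a'⟩ h
    have h' : c z * aff a = c z' * aff a' := congrArg Subtype.val h
    have hz : z = z' := by
      have := congrArg (fun g : Perm (Fin 6) => g 5) h'
      simpa [aff_facts.1, hc5] using this
    subst hz
    rw [aff_facts.2 (mul_left_cancel h')]
  have := Nat.card_le_card_of_injective f hf
  simpa using this

theorem preprimitive_of_five (H : Subgroup (Perm (Fin 6))) [IsPretransitive H (Fin 6)] (g : Perm (Fin 6))
    (hg : g ∈ H) (hc : ∃ p, g p = p ∧ ∀ q, q ≠ p → ∀ r, r ≠ p → ∃ i : Fin 5, (g ^ i.val) q = r) :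
    IsPreprimitive H (Fin 6) := by
  obtain ⟨p, hp, hcyc⟩ := hc
  refine IsPreprimitive.of_isTrivialBlock_base p fun {B} hpB hB => ?_
  by_cases hs : B.Subsingleton
  · exact Or.inl hs
  right
  obtain ⟨q, hq, hqp⟩ := (Set.not_subsingleton_iff.1 hs).exists_ne p
  rw [Set.eq_univ_iff_forall]
  intro r
  by_cases hr : r = p
  · rwa [hr]
  obtain ⟨i, hi⟩ := hcyc q hqp r hr
  have hfix : ∀ n : ℕ, (g ^ n) p = p := by
    intro n
    induction n with
    | zero => rfl
    | succ n ih => rw [pow_succ', Perm.mul_apply, ih, hp]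
  have hk : (⟨g ^ i.val, pow_mem hg _⟩ : H) • B = B :=
    (hB.smul_eq_or_disjoint _).resolve_right
      (Set.not_disjoint_iff.2 ⟨p, ⟨p, hpB, hfix _⟩, hpB⟩)
  rw [← hk, ← hi]
  exact Set.smul_mem_smul_set hq

/-- A transitive subgroup of index six containing the five-cycle is `P0`. -/
theorem eq_P0 (H : Subgroup (Perm (Fin 6))) (hH : H.index = 6) [IsPretransitive H (Fin 6)] (hs : sg ∈ H) :
    H = P0 := by
  classical
  have hcard : Nat.card H = 120 := by
    have h := H.card_mul_index
    rw [hH, Nat.card_perm, Nat.card_fin, show Nat.factorial 6 = 720 from rfl] at h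
    omega
  haveI hprim : IsPreprimitive H (Fin 6) := preprimitive_of_five H sg hs ⟨5, by decide +kernel, by decide +kernel⟩
  -- the stabiliser of `5` has order twenty
  let S := stabilizer H (5 : Fin 6)
  have hScard : Nat.card S = 20 := by
    have h := S.card_mul_index
    rw [index_stabilizer_of_transitive, Nat.card_fin, hcard] at h
    omega
  haveI := Fact.mk (by norm_num : Nat.Prime 5)
  let σ : S := ⟨⟨sg, hs⟩, show sg 5 = 5 by decide +kernel⟩
  have hσ : orderOf σ = 5 := by
    rw [← Subgroup.orderOf_coe, ← Subgroup.orderOf_coe]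
    exact orderOf_eq_prime (show sg ^ 5 = 1 by decide +kernel) (show sg ≠ 1 by decide +kernel)
  have hZ : Nat.card (Subgroup.zpowers σ) = 5 := by rw [Nat.card_zpowers, hσ]
  -- Sylow: the subgroup of order five is normal
  have hnorm : ∀ x : S, x * σ * x⁻¹ ∈ Subgroup.zpowers σ := by
    intro x
    have hfac : (Nat.card S).factorization 5 = 1 := by
      rw [hScard, show (20 : ℕ) = 5 ^ 1 * 4 from rfl, Nat.factorization_mul (by norm_num) (by norm_num),
        Nat.Prime.factorization_pow (by norm_num)]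
      simp [Nat.factorization_eq_zero_of_not_dvd (show ¬ 5 ∣ 4 by norm_num)]
    let P : Sylow 5 S := Sylow.ofCard (Subgroup.zpowers σ) (by rw [hZ, hfac]; rfl)
    have hsub : Subsingleton (Sylow 5 S) := by
      have h1 := card_sylow_modEq_one 5 S
      have h2 : Nat.card (Sylow 5 S) ∣ 4 := by
        have h3 := P.card_dvd_index
        have h4 := (Subgroup.zpowers σ).card_mul_index
        rw [hZ, hScard] at h4
        have : (Subgroup.zpowers σ).index = 4 := by omega
        rwa [show (P : Subgroup S) = Subgroup.zpowers σ from rfl, this] at h3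
      have := Nat.le_of_dvd (by norm_num) h2
      have h0 : Nat.card (Sylow 5 S) ≠ 0 := Nat.card_pos.ne'
      have : Nat.card (Sylow 5 S) = 1 := by
        unfold Nat.ModEq at h1
        omega
      exact (Nat.card_eq_one_iff_unique.1 this).1
    have hPn : (P : Subgroup S).Normal := P.normal_of_subsingleton
    exact hPn.conj_mem σ (Subgroup.mem_zpowers σ) x
  have hSaff : ∀ x : S, ∃ a, ((x : H) : Perm (Fin 6)) = aff a := by
    intro x
    obtain ⟨n, hn, hn'⟩ := (isOfFinOrder_of_finite σ).mem_zpowers_iff_mem_range_orderOf.1 (hnorm x) |> Finset.mem_image.1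
    apply norm_five
    refine ⟨⟨n, by rw [Finset.mem_range, hσ] at hn; exact hn⟩, ?_⟩
    have := congrArg (fun y : S => ((y : H) : Perm (Fin 6)) * ((x : H) : Perm (Fin 6))) hn'
    simpa [σ] using this.symm
  have haff : ∀ a, aff a ∈ H := by
    choose a ha using hSaff
    have hinj : Function.Injective a := fun x y h => Subtype.ext (Subtype.ext (by rw [ha, ha, h]))
    have hbij := (Nat.bijective_iff_injective_and_card a).2 ⟨hinj, by rw [hScard]; simp⟩
    intro b
    obtain ⟨x, rfl⟩ := hbij.2 b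
    rw [← ha]
    exact (x : H).2
  have htau : tau ∈ H := by
    have := haff (0, 1)
    simpa [aff] using this
  obtain ⟨t, ht⟩ := exists_smul_eq H (5 : Fin 6) 0
  have hinv : inv0 ∈ H := by
    rcases step (t : Perm (Fin 6)) ht with ⟨a, ha⟩ | ⟨a, ha⟩
    · rw [← ha]; exact mul_mem t.2 (haff a)
    · exact absurd (small_top H _ (mul_mem t.2 (haff a)) ha) (alt_not_le H hH)
  have hle : P0 ≤ H := by
    rw [P0, Subgroup.closure_le]
    rintro g (rfl | rfl | rfl) <;> assumption
  exact (Subgroup.eq_of_le_of_card_ge hle (hcard ▸ card_le P0 le_rfl)).symm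

theorem P0_index : P0.index = 6 := by
  let inv : Fin 5 → Perm (Fin 6) :=
    ![swap 0 5 * swap 1 4 * swap 2 3, swap 0 2 * swap 1 5 * swap 3 4, swap 0 4 * swap 1 3 * swap 2 5,
      swap 0 1 * swap 2 4 * swap 3 5, swap 0 3 * swap 1 2 * swap 4 5]
  let T : Set (Perm (Fin 6)) := Set.range inv
  let K : Subgroup (ConjAct (Perm (Fin 6))) := stabilizer (ConjAct (Perm (Fin 6))) T
  let L : Subgroup (Perm (Fin 6)) := K.map ConjAct.ofConjAct.toMonoidHom
  have hmem : ∀ g : Perm (Fin 6), (∀ i : Fin 5, ∃ j : Fin 5, g * inv i * g⁻¹ = inv j) → g ∈ L := by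
    intro g hg
    refine ⟨ConjAct.toConjAct g, ?_, rfl⟩
    show ConjAct.toConjAct g • T = T
    refine Set.eq_of_subset_of_ncard_le ?_ (le_of_eq (Set.ncard_smul_set _ T).symm) (Set.toFinite _)
    rintro _ ⟨_, ⟨i, rfl⟩, rfl⟩
    obtain ⟨j, hj⟩ := hg i
    exact ⟨j, by rw [← hj]; rfl⟩
  have hle : P0 ≤ L := by
    rw [P0, Subgroup.closure_le]
    rintro g (rfl | rfl | rfl) <;> refine hmem _ ?_ <;> decide +kernel
  have hnot : swap (0 : Fin 6) 1 * swap 1 2 ∉ L := by
    rintro ⟨k, hk, he⟩
    have hk' : ConjAct.toConjAct (swap (0 : Fin 6) 1 * swap 1 2) • T = T := by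
      rw [← he]; exact hk
    have : ∃ j, inv j = ConjAct.toConjAct (swap (0 : Fin 6) 1 * swap 1 2) • inv 0 := by
      have : ConjAct.toConjAct (swap (0 : Fin 6) 1 * swap 1 2) • inv 0 ∈ T := by
        rw [← hk']; exact Set.smul_mem_smul_set ⟨0, rfl⟩
      exact this
    rw [ConjAct.toConjAct_smul] at this
    revert this
    decide +kernel
  have hAnot : ¬ alternatingGroup (Fin 6) ≤ L := fun h => hnot (h (by
    rw [Perm.mem_alternatingGroup]; decide +kernel))
  haveI : IsPretransitive L (Fin 6) := by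
    have h0 : inv0 ∈ L := hle (Subgroup.subset_closure (by simp))
    have hs : sg ∈ L := hle (Subgroup.subset_closure (by simp))
    refine (isPretransitive_iff_base (5 : Fin 6)).2 fun z => ?_
    by_cases hz : z = 5
    · exact ⟨1, by rw [hz]; rfl⟩
    · refine ⟨⟨sg ^ z.val * inv0, mul_mem (pow_mem hs _) h0⟩, ?_⟩
      have : ∀ z : Fin 6, z ≠ 5 → (sg ^ z.val * inv0) 5 = z := by decide +kernel
      exact this z hz
  have hs : sg ∈ L := hle (Subgroup.subset_closure (by simp))
  haveI hprim : IsPreprimitive L (Fin 6) := preprimitive_of_five L sg hs ⟨5, by decide +kernel, by decide +kernel⟩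
  have hb := Cfsg.Agent.S3681.result (G := L) (Ω := Fin 6) hprim (by
    rw [show (MulAction.toPermHom L (Fin 6)).range = L from by
      ext g; exact ⟨fun ⟨k, hk⟩ => hk ▸ k.2, fun hg => ⟨⟨g, hg⟩, rfl⟩⟩]
    exact hAnot)
  simp [Nat.factorial] at hb
  have h120 := card_le P0 le_rfl
  have hPL : Nat.card P0 ≤ Nat.card L := Subgroup.card_le_of_le hle
  have h := P0.card_mul_index
  rw [Nat.card_perm, Nat.card_fin, show Nat.factorial 6 = 720 from rfl] at h
  have : Nat.card P0 = 120 := by omega
  rw [this] at h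
  omega

theorem fin6 : ∃ H₁ H₂ : Subgroup (Perm (Fin 6)), H₁.index = 6 ∧ H₂.index = 6 ∧
    (¬ ∃ g : Perm (Fin 6), Subgroup.map (MulAut.conj g).toMonoidHom H₁ = H₂) ∧
    ∀ H : Subgroup (Perm (Fin 6)), H.index = 6 →
      ∃ g : Perm (Fin 6), Subgroup.map (MulAut.conj g).toMonoidHom H₁ = H ∨ Subgroup.map (MulAut.conj g).toMonoidHom H₂ = H := by
  classical
  refine ⟨stabilizer (Perm (Fin 6)) (5 : Fin 6), P0, ?_, P0_index, ?_, ?_⟩
  · rw [index_stabilizer_of_transitive, Nat.card_fin]
  · rintro ⟨g, hg⟩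
    have hfix : ∀ k ∈ P0, k (g 5) = g 5 := by
      intro k hk
      rw [← hg] at hk
      obtain ⟨s, hs, rfl⟩ := hk
      show (g * s * g⁻¹) (g 5) = g 5
      rw [Perm.mul_apply, Perm.mul_apply, show g⁻¹ (g 5) = 5 from g.symm_apply_apply 5]
      exact congrArg g hs
    have h1 := hfix _ (Subgroup.subset_closure (by simp) : sg ∈ P0)
    have h2 := hfix _ (Subgroup.subset_closure (by simp) : inv0 ∈ P0)
    revert h1 h2
    generalize g 5 = z
    revert z
    decide +kernel
  · intro H hH
    have hH' : H.index = Fintype.card (Fin 6) := by rw [hH, Fintype.card_fin]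
    rcases Cfsg.Agent.S5911.point_or_transitive H hH' with ⟨x, hx⟩ | ht
    · refine ⟨swap 5 x, Or.inl ?_⟩
      rw [hx]
      ext k
      rw [Subgroup.mem_map_equiv, mem_stabilizer_iff, mem_stabilizer_iff]
      show ((MulAut.conj (swap (5 : Fin 6) x)).symm k) 5 = 5 ↔ k x = x
      rw [MulAut.conj_symm_apply, swap_inv, Perm.mul_apply, Perm.mul_apply, swap_apply_left,
        ← (swap (5 : Fin 6) x).injective.eq_iff, swap_apply_self, swap_apply_left]
    · haveI := Fact.mk (by norm_num : Nat.Prime 5)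
      have hcard : Nat.card H = 120 := by
        have h := H.card_mul_index
        rw [hH, Nat.card_perm, Nat.card_fin, show Nat.factorial 6 = 720 from rfl] at h
        omega
      obtain ⟨g, hg⟩ := exists_prime_orderOf_dvd_card' (G := H) 5 (by rw [hcard]; norm_num)
      have hg' : orderOf (g : Perm (Fin 6)) = 5 := by rw [Subgroup.orderOf_coe, hg]
      obtain ⟨c, hc⟩ := conj_five (g : Perm (Fin 6)) (hg' ▸ pow_orderOf_eq_one _) (fun h => by
        rw [h, orderOf_one] at hg'; omega)
      let H' := H.map (MulAut.conj c).toMonoidHom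
      have hs : sg ∈ H' := ⟨g, g.2, hc⟩
      have hidx : H'.index = 6 := by
        exact (Subgroup.index_map_equiv H (MulAut.conj c)).trans hH
      haveI : IsPretransitive H' (Fin 6) := by
        haveI := ht
        refine ⟨fun x y => ?_⟩
        obtain ⟨k, hk⟩ := exists_smul_eq H (c⁻¹ x) (c⁻¹ y)
        refine ⟨⟨_, ⟨(k : Perm (Fin 6)), k.2, rfl⟩⟩, ?_⟩
        show (c * k * c⁻¹ : Perm (Fin 6)) x = y
        change (k : Perm (Fin 6)) (c⁻¹ x) = c⁻¹ y at hk
        rw [Perm.mul_apply, Perm.mul_apply, hk]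
        exact c.apply_symm_apply y
      refine ⟨c⁻¹, Or.inr ?_⟩
      rw [← eq_P0 H' hidx hs, Subgroup.map_map]
      convert Subgroup.map_id H
      ext k
      simp [mul_assoc]

/-- The symmetric group on a 6-element set Ω has exactly two conjugacy classes of subgroups of index 6: there are two non-conjugate subgroups of index 6 (a point stabilizer and a transitive subgroup isomorphic to S₅), and every subgroup of index 6 is conjugate to one of them. -/
theorem result {Ω : Type*} [Fintype Ω] [DecidableEq Ω] (h6 : Fintype.card Ω = 6) :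
    ∃ H₁ H₂ : Subgroup (Equiv.Perm Ω), H₁.index = 6 ∧ H₂.index = 6 ∧
      (¬ ∃ g : Equiv.Perm Ω, Subgroup.map (MulAut.conj g).toMonoidHom H₁ = H₂) ∧
      ∀ H : Subgroup (Equiv.Perm Ω), H.index = 6 →
        ∃ g : Equiv.Perm Ω, Subgroup.map (MulAut.conj g).toMonoidHom H₁ = H ∨ Subgroup.map (MulAut.conj g).toMonoidHom H₂ = H := by
  let e : Ω ≃ Fin 6 := Fintype.equivFinOfCardEq h6
  let ψ : Equiv.Perm (Fin 6) ≃* Equiv.Perm Ω := e.symm.permCongrHom
  obtain ⟨H₁, H₂, h1, h2, hne, hall⟩ := fin6
  have hconj : ∀ (K : Subgroup (Equiv.Perm (Fin 6))) (g : Equiv.Perm (Fin 6)),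
      (K.map (MulAut.conj g).toMonoidHom).map ψ.toMonoidHom = (K.map ψ.toMonoidHom).map (MulAut.conj (ψ g)).toMonoidHom := by
    intro K g
    rw [Subgroup.map_map, Subgroup.map_map]
    congr 1
    ext k
    simp
  refine ⟨H₁.map ψ.toMonoidHom, H₂.map ψ.toMonoidHom, ?_, ?_, ?_, ?_⟩
  · exact (Subgroup.index_map_equiv H₁ ψ).trans h1
  · exact (Subgroup.index_map_equiv H₂ ψ).trans h2
  · rintro ⟨g, hg⟩
    obtain ⟨g, rfl⟩ := ψ.surjective g
    rw [← hconj] at hg
    exact hne ⟨g, Subgroup.map_injective ψ.injective hg⟩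
  · intro H hH
    obtain ⟨g, hg⟩ := hall (H.comap ψ.toMonoidHom) (by
      rw [Subgroup.index_comap_of_surjective _ ψ.surjective, hH])
    refine ⟨ψ g, ?_⟩
    rcases hg with hg | hg
    · left; rw [← hconj, hg, Subgroup.map_comap_eq_self_of_surjective ψ.surjective]
    · right; rw [← hconj, hg, Subgroup.map_comap_eq_self_of_surjective ψ.surjective]

end Cfsg.Agent.S5912
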