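import Cfsg.Statements.S5913

set_option autoImplicit false
open Cfsg

namespace Cfsg.Agent.S5913

/-- Let S be a non-abelian simple group and n a natural number. Every normal subgroup N of the direct power S^n (functions Fin n → S) is a subproduct: there is a set T of coordinates such that N consists exactly of the elements whose coordinates outside T are trivial. In particular the minimal normal subgroups of S^n are its n factors. -/
theorem result {S : Type*} [Group S] [IsSimpleGroup S] (hS : ¬ IsMulCommutative S) (n : ℕ)
    (N : Subgroup (Fin n → S)) [N.Normal] :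
    ∃ T : Finset (Fin n), ∀ x : Fin n → S, x ∈ N ↔ ∀ i, i ∉ T → x i = 1 := by
  classical
  let T : Finset (Fin n) := Finset.univ.filter (fun i => ∃ x ∈ N, x i ≠ 1)
  refine ⟨T, fun x => ⟨fun hx i hi => ?_, fun hx => ?_⟩⟩
  · by_contra h
    exact hi (Finset.mem_filter.2 ⟨Finset.mem_univ _, x, hx, h⟩)
  have hcenter : ∀ s : S, (∀ t, s * t = t * s) → s = 1 := by
    intro s hs
    rcases IsSimpleGroup.eq_bot_or_eq_top_of_normal (Subgroup.center S) inferInstance with h | h
    · have hmem : s ∈ Subgroup.center S := Subgroup.mem_center_iff.2 (fun t => (hs t).symm)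
      rwa [h] at hmem
    · exfalso
      exact hS ⟨⟨fun a b => (Subgroup.mem_center_iff.1 (h ▸ Subgroup.mem_top b : b ∈ Subgroup.center S) a)⟩⟩
  have hsingle : ∀ i ∈ T, ∀ s : S, Pi.mulSingle i s ∈ N := by
    intro i hi
    obtain ⟨y, hy, hyi⟩ := (Finset.mem_filter.1 hi).2
    let f : S →* (Fin n → S) := MonoidHom.mulSingle (fun _ => S) i
    let K : Subgroup S := N.comap f
    have hK : K.Normal := inferInstanceAs (N.comap f).Normal
    rcases IsSimpleGroup.eq_bot_or_eq_top_of_normal K hK with h | h
    · exfalso
      refine hyi (hcenter _ fun t => ?_)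
      have hc : y * f t * y⁻¹ * (f t)⁻¹ ∈ N := by
        have h1 := Subgroup.Normal.conj_mem (inferInstance : N.Normal) _ (inv_mem hy) (f t)
        have := mul_mem hy h1
        simpa [mul_assoc] using this
      have he : y * f t * y⁻¹ * (f t)⁻¹ = f (y i * t * (y i)⁻¹ * t⁻¹) := by
        funext j
        by_cases hj : j = i
        · subst hj; simp [f]
        · simp [f, Pi.mulSingle_eq_of_ne hj]
      rw [he] at hc
      have : y i * t * (y i)⁻¹ * t⁻¹ ∈ K := hc
      rw [h, Subgroup.mem_bot, mul_inv_eq_one, mul_inv_eq_iff_eq_mul] at this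
      exact this
    · intro s
      exact (h ▸ Subgroup.mem_top s : s ∈ K)
  rw [← Finset.noncommProd_mulSingle x]
  refine Subgroup.noncommProd_mem _ _ fun i _ => ?_
  by_cases hi : i ∈ T
  · exact hsingle i hi _
  · rw [hx i hi]; simp [one_mem]

end Cfsg.Agent.S5913
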