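import Cfsg.Statements.S5914

set_option autoImplicit false
set_option linter.style.haveILetI false
open Cfsg

namespace Cfsg.Agent.S5914

open scoped Pointwise

/-- A power of a simple group is characteristically simple. -/
theorem pi_charSimple {S : Type*} [Group S] [IsSimpleGroup S] (n : ℕ) (H : Subgroup (Fin n → S))
    (hH : H.Characteristic) : H = ⊥ ∨ H = ⊤ := by
  classical
  refine or_iff_not_imp_left.2 fun hne => ?_
  obtain ⟨x, hx, hx1⟩ := (Subgroup.bot_or_exists_ne_one H).resolve_left hne
  haveI : H.Normal := inferInstance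
  have haut : ∀ α : (Fin n → S) ≃* (Fin n → S), ∀ y ∈ H, α y ∈ H := fun α y hy => by
    have := Subgroup.characteristic_iff_map_le.1 hH α
    exact this ⟨y, hy, rfl⟩
  let perm : Equiv.Perm (Fin n) → ((Fin n → S) ≃* (Fin n → S)) := fun σ =>
    { toFun := fun y => y ∘ σ
      invFun := fun y => y ∘ σ.symm
      left_inv := fun y => by funext i; simp
      right_inv := fun y => by funext i; simp
      map_mul' := fun y z => rfl }
  obtain ⟨i, hi⟩ : ∃ i, x i ≠ 1 := Function.ne_iff.1 hx1
  obtain ⟨k, s, hs1, hs⟩ : ∃ (k : Fin n) (s : S), s ≠ 1 ∧ Pi.mulSingle k s ∈ H := by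
    by_cases hc : ∀ a b : S, a * b = b * a
    · by_cases hn : ∃ j, j ≠ i
      · obtain ⟨j, hji⟩ := hn
        let α : (Fin n → S) ≃* (Fin n → S) :=
          { toFun := fun y => y * Pi.mulSingle j (y i)
            invFun := fun y => y * Pi.mulSingle j (y i)⁻¹
            left_inv := fun y => by
              funext l
              by_cases hl : l = j
              · subst hl; simp [Pi.mulSingle_eq_of_ne (Ne.symm hji)]
              · simp [Pi.mulSingle_eq_of_ne hl, Pi.mulSingle_eq_of_ne (Ne.symm hji)]
            right_inv := fun y => by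
              funext l
              by_cases hl : l = j
              · subst hl; simp [Pi.mulSingle_eq_of_ne (Ne.symm hji)]
              · simp [Pi.mulSingle_eq_of_ne hl, Pi.mulSingle_eq_of_ne (Ne.symm hji)]
            map_mul' := fun y z => by
              funext l
              by_cases hl : l = j
              · subst hl
                simp only [Pi.mul_apply, Pi.mulSingle_eq_same]
                rw [mul_assoc, mul_assoc, ← mul_assoc (z l) (y i), hc (z l) (y i), mul_assoc]
              · simp [Pi.mulSingle_eq_of_ne hl] }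
        refine ⟨j, x i, hi, ?_⟩
        have h := H.mul_mem (H.inv_mem hx) (haut α x hx)
        rwa [show α x = x * Pi.mulSingle j (x i) from rfl, inv_mul_cancel_left] at h
      · push Not at hn
        refine ⟨i, x i, hi, ?_⟩
        convert hx
        funext l
        rw [hn l]; simp
    · obtain ⟨t, ht⟩ : ∃ t, x i * t ≠ t * x i := by
        by_contra hcon
        push Not at hcon
        rcases IsSimpleGroup.eq_bot_or_eq_top_of_normal (Subgroup.center S) inferInstance with h | h
        · have hm : x i ∈ Subgroup.center S := Subgroup.mem_center_iff.2 fun t => (hcon t).symm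
          rw [h] at hm
          exact hi hm
        · exact hc fun a b => (Subgroup.mem_center_iff.1 (h ▸ Subgroup.mem_top b : b ∈ Subgroup.center S) a)
      refine ⟨i, x i * t * (x i)⁻¹ * t⁻¹, fun h => ht (by
        rwa [mul_inv_eq_one, mul_inv_eq_iff_eq_mul] at h), ?_⟩
      have h := H.mul_mem hx (Subgroup.Normal.conj_mem inferInstance _ (H.inv_mem hx) (Pi.mulSingle i t))
      convert h using 1
      funext l
      by_cases hl : l = i
      · subst hl; simp [mul_assoc]
      · simp [Pi.mulSingle_eq_of_ne hl]
  have hK : H.comap (MonoidHom.mulSingle (fun _ : Fin n => S) k) = ⊤ :=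
    (IsSimpleGroup.eq_bot_or_eq_top_of_normal _ inferInstance).resolve_left fun h => by
      have : s ∈ H.comap (MonoidHom.mulSingle (fun _ : Fin n => S) k) := hs
      rw [h] at this
      exact hs1 this
  rw [eq_top_iff]
  intro y _
  rw [← Finset.noncommProd_mulSingle y]
  refine Subgroup.noncommProd_mem _ _ fun l _ => ?_
  have hk : (Pi.mulSingle k (y l) : Fin n → S) ∈ H := (hK ▸ Subgroup.mem_top (y l) : y l ∈ H.comap (MonoidHom.mulSingle (fun _ : Fin n => S) k))
  convert haut (perm (Equiv.swap k l)) _ hk using 1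
  funext m
  show _ = (Pi.mulSingle k (y l) : Fin n → S) (Equiv.swap k l m)
  rcases eq_or_ne m l with rfl | h1
  · simp
  rcases eq_or_ne m k with rfl | h2
  · rw [Equiv.swap_apply_left, Pi.mulSingle_eq_of_ne h1, Pi.mulSingle_eq_of_ne (Ne.symm h1)]
  · rw [Equiv.swap_apply_of_ne_of_ne h2 h1, Pi.mulSingle_eq_of_ne h1, Pi.mulSingle_eq_of_ne h2]

/-- A finite characteristically simple group is a power of a simple subgroup. -/
theorem exists_power {G : Type*} [Group G] [Finite G] [Nontrivial G]
    (hG : ∀ H : Subgroup G, H.Characteristic → H = ⊥ ∨ H = ⊤) :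
    ∃ (N : Subgroup G) (n : ℕ), IsSimpleGroup N ∧ 1 ≤ n ∧ Nonempty (G ≃* (Fin n → N)) := by
  classical
  obtain ⟨N, ⟨hNn, hN0⟩, hmin⟩ := (Set.toFinite {K : Subgroup G | K.Normal ∧ K ≠ ⊥}).exists_minimal
    ⟨⊤, inferInstance, top_ne_bot⟩
  have hmin' : ∀ K : Subgroup G, K.Normal → K ≤ N → K = ⊥ ∨ K = N := fun K h1 h2 => by
    by_cases h : K = ⊥
    · exact Or.inl h
    · exact Or.inr (le_antisymm h2 (hmin ⟨h1, h⟩ h2))
  let img : MulAut G → Subgroup G := fun α => N.map α.toMonoidHom
  have himgn : ∀ α, (img α).Normal := fun α => hNn.map _ α.surjective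
  have himgmin : ∀ α (K : Subgroup G), K.Normal → K ≤ img α → K = ⊥ ∨ K = img α := by
    intro α K hK hle
    rcases hmin' (K.comap α.toMonoidHom) (hK.comap _)
      (fun x hx => by obtain ⟨y, hy, he⟩ := hle hx; rwa [← α.injective he]) with h | h
    · left
      rw [← Subgroup.map_comap_eq_self_of_surjective (f := α.toMonoidHom) α.surjective K, h, Subgroup.map_bot]
    · right
      rw [← Subgroup.map_comap_eq_self_of_surjective (f := α.toMonoidHom) α.surjective K, h]
  have hsup : (⨆ α, img α) = ⊤ := by
    refine (hG _ (Subgroup.characteristic_iff_map_le.2 fun β => ?_)).resolve_left fun h => hN0 ?_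
    · rw [Subgroup.map_iSup]
      refine iSup_le fun α => le_iSup_of_le (β * α) (le_of_eq ?_)
      show (N.map α.toMonoidHom).map β.toMonoidHom = N.map (β * α).toMonoidHom
      rw [Subgroup.map_map]; rfl
    · rw [eq_bot_iff, ← h]
      refine le_iSup_of_le 1 (fun x hx => ⟨x, hx, rfl⟩)
  -- `N` is simple
  have hsimple : IsSimpleGroup N := by
    haveI : Nontrivial N := (Subgroup.nontrivial_iff_ne_bot N).2 hN0
    refine ⟨fun M hM => ?_⟩
    let C := Subgroup.centralizer (N : Set G)
    have hNC : N ⊔ C = ⊤ := by
      rw [eq_top_iff, ← hsup]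
      refine iSup_le fun α => ?_
      rcases himgmin α (img α ⊓ N) (@Subgroup.normal_inf_normal _ _ _ _ (himgn α) hNn) inf_le_left with h | h
      · refine le_trans ?_ (le_sup_right : C ≤ N ⊔ C)
        intro x hx
        exact Subgroup.mem_centralizer_iff.2 fun y hy =>
          (Subgroup.commute_of_normal_of_disjoint _ _ (himgn α) hNn (disjoint_iff.2 h) x y hx hy).symm
      · exact le_trans ((inf_eq_left.1 h)) le_sup_left
    have hMn : (M.map N.subtype).Normal := by
      rw [← Subgroup.normalizer_eq_top_iff, eq_top_iff, ← hNC, sup_le_iff]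
      refine ⟨fun g hg => ?_, fun g hg => ?_⟩
      · rw [Subgroup.mem_normalizer_iff]
        intro h
        constructor
        · rintro ⟨m, hm, rfl⟩
          exact ⟨⟨g, hg⟩ * m * ⟨g, hg⟩⁻¹, hM.conj_mem m hm _, rfl⟩
        · rintro ⟨m, hm, he⟩
          exact ⟨⟨g, hg⟩⁻¹ * m * ⟨g, hg⟩, hM.conj_mem' m hm _, by
            show g⁻¹ * (m : G) * g = h
            rw [show (m : G) = g * h * g⁻¹ from he]; group⟩
      · rw [Subgroup.mem_normalizer_iff]
        intro h
        have hfix : ∀ y ∈ N, g * y * g⁻¹ = y := fun y hy => by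
          rw [← Subgroup.mem_centralizer_iff.1 hg y hy, mul_inv_cancel_right]
        constructor
        · rintro ⟨m, hm, rfl⟩
          exact ⟨m, hm, (hfix _ m.2).symm⟩
        · rintro ⟨m, hm, he⟩
          refine ⟨m, hm, ?_⟩
          have h1 := hfix _ m.2
          show (m : G) = h
          have h2 : g * (m : G) * g⁻¹ = g * h * g⁻¹ := h1.trans he
          simpa using h2
    rcases hmin' _ hMn (Subgroup.map_subtype_le M) with h | h
    · left; exact (Subgroup.map_eq_bot_iff_of_injective _ N.subtype_injective).1 h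
    · right
      apply Subgroup.map_injective N.subtype_injective
      rw [h, ← MonoidHom.range_eq_map, Subgroup.range_subtype]
  -- products of copies
  let P : Set (Subgroup G) := {K | K.Normal ∧ ∃ m : ℕ, Nonempty ((Fin m → N) ≃* K)}
  have hP0 : P.Nonempty := ⟨⊥, Subgroup.normal_bot, 0, ⟨MulEquiv.ofUnique⟩⟩
  obtain ⟨K, ⟨hKn, m, ⟨eK⟩⟩, hKmax⟩ := (Set.toFinite P).exists_maximal hP0
  have hKtop : K = ⊤ := by
    rw [eq_top_iff, ← hsup]
    refine iSup_le fun α => ?_
    by_contra hle
    have hd : Disjoint K (img α) := by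
      rw [disjoint_iff]
      rcases himgmin α (K ⊓ img α) (@Subgroup.normal_inf_normal _ _ _ _ hKn (himgn α)) inf_le_right with h | h
      · exact h
      · exact absurd (inf_eq_right.1 h) hle
    let eα : N ≃* img α := N.equivMapOfInjective _ α.injective
    let f : (Fin m → N) × N →* G := MonoidHom.noncommCoprod (K.subtype.comp eK.toMonoidHom)
      ((img α).subtype.comp eα.toMonoidHom)
      (fun a b => Subgroup.commute_of_normal_of_disjoint _ _ hKn (himgn α) hd _ _ (eK a).2 (eα b).2)
    have hrange : f.range = K ⊔ img α := by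
      simp only [f]
      rw [MonoidHom.noncommCoprod_range, MonoidHom.range_comp, MonoidHom.range_comp,
        MonoidHom.range_eq_top.2 eK.surjective, MonoidHom.range_eq_top.2 eα.surjective,
        ← MonoidHom.range_eq_map, ← MonoidHom.range_eq_map, Subgroup.range_subtype, Subgroup.range_subtype]
    have hinj : Function.Injective f := by
      rw [injective_iff_map_eq_one]
      rintro ⟨a, b⟩ hab
      change (eK a : G) * (eα b : G) = 1 at hab
      have h1 : (eK a : G) ∈ K ⊓ img α := ⟨(eK a).2, by
        show (eK a : G) ∈ img α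
        rw [eq_inv_of_mul_eq_one_left hab]; exact (img α).inv_mem (eα b).2⟩
      rw [hd.eq_bot, Subgroup.mem_bot] at h1
      rw [h1, one_mul] at hab
      have ha : eK a = 1 := Subtype.ext h1
      have hb : eα b = 1 := Subtype.ext hab
      exact Prod.ext (eK.injective (ha.trans (map_one eK).symm)) (eα.injective (hb.trans (map_one eα).symm))
    let e1 : (Fin (m + 1) → N) ≃* (Fin m → N) × N :=
      { toFun := fun y => (Fin.init y, y (Fin.last m))
        invFun := fun y => Fin.snoc y.1 y.2
        left_inv := fun y => Fin.snoc_init_self y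
        right_inv := fun y => Prod.ext (Fin.init_snoc (α := fun _ => N) _ _) (Fin.snoc_last (α := fun _ => N) _ _)
        map_mul' := fun y z => rfl }
    have hmem : K ⊔ img α ∈ P := ⟨@Subgroup.sup_normal _ _ _ _ hKn (himgn α), m + 1,
      ⟨(e1.trans (MonoidHom.ofInjective hinj)).trans (MulEquiv.subgroupCongr hrange)⟩⟩
    exact hle (le_sup_right.trans (hKmax hmem le_sup_left))
  refine ⟨N, m, hsimple, ?_, ⟨(Subgroup.topEquiv.symm.trans (MulEquiv.subgroupCongr hKtop.symm)).trans eK.symm⟩⟩
  by_contra hm
  obtain rfl : m = 0 := by omega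
  have : Subsingleton K := eK.symm.toEquiv.subsingleton
  rw [hKtop] at this
  exact not_subsingleton G (Subgroup.topEquiv.symm.toEquiv.subsingleton)

/-- A non-trivial finite group G is characteristically simple (its only characteristic subgroups are 1 and G) if and only if G is isomorphic to a direct power S^n (n ≥ 1) of some simple group S (possibly cyclic of prime order). -/
theorem result {G : Type*} [Group G] [Finite G] [Nontrivial G] :
    (∀ H : Subgroup G, H.Characteristic → H = ⊥ ∨ H = ⊤) ↔
    ∃ (S : Type) (_ : Group S) (_ : IsSimpleGroup S) (n : ℕ), 1 ≤ n ∧ Nonempty (G ≃* (Fin n → S)) := by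
  constructor
  · intro hG
    obtain ⟨N, n, hN, hn, ⟨e⟩⟩ := exists_power hG
    haveI := hN
    haveI : Small.{0} N := small_of_surjective (f := (Finite.equivFin N).symm) (Equiv.surjective _)
    let ec : Shrink.{0} N ≃* N := Shrink.mulEquiv
    haveI hne : Nontrivial (Shrink.{0} N) := ec.toEquiv.nontrivial
    haveI hs : IsSimpleGroup (Shrink.{0} N) :=
      IsSimpleGroup.isSimpleGroup_of_surjective ec.symm.toMonoidHom ec.symm.surjective
    exact ⟨Shrink.{0} N, inferInstance, hs, n, hn, ⟨e.trans (MulEquiv.piCongrRight fun _ => ec.symm)⟩⟩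
  · rintro ⟨S, _, _, n, hn, ⟨e⟩⟩ H hH
    have hchar : (H.map e.toMonoidHom).Characteristic := by
      rw [Subgroup.characteristic_iff_map_le]
      intro α
      have := Subgroup.characteristic_iff_map_le.1 hH ((e.trans α).trans e.symm)
      rintro _ ⟨_, ⟨x, hx, rfl⟩, rfl⟩
      refine ⟨_, this ⟨x, hx, rfl⟩, ?_⟩
      simp
    rcases pi_charSimple n _ hchar with h | h
    · left; exact (Subgroup.map_eq_bot_iff_of_injective _ e.injective).1 h
    · right
      exact Subgroup.map_injective e.injective (h.trans (Subgroup.map_top_of_surjective _ e.surjective).symm)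

end Cfsg.Agent.S5914
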