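import Cfsg.Statements.S5938
import Mathlib
import Cfsg.Agent.S0803
import Cfsg.Agent.Lib.DicksonExceptionalMax

set_option autoImplicit false
open Cfsg

namespace Cfsg.Agent.S5938

/-- Let p be a prime with p ≡ ±1 (mod 8) and F a field with p elements. Then PSL_2(F) has a maximal subgroup isomorphic to the symmetric group S_4. -/
theorem result {F : Type*} [Field F] [Fintype F] (p : ℕ) [Fact p.Prime] (hF : Fintype.card F = p) (hp : p % 8 = 1 ∨ p % 8 = 7) : ∃ H : Subgroup (Matrix.ProjectiveSpecialLinearGroup (Fin 2) F), IsCoatom H ∧ Nonempty (H ≃* Equiv.Perm (Fin 4)) := by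
  have hp' := (Fact.out : p.Prime).two_le
  have h7 : 7 ≤ p := by omega
  have hn : Nat.card F = p := Nat.card_eq_fintype_card.trans hF
  have : CharP F p := charP_of_card_eq_prime hF
  have hd : DicksonPSL.dd F = 2 := by
    rw [DicksonPSL.dd, hn]
    exact Nat.gcd_eq_left ⟨(p - 1) / 2, by omega⟩
  have hG := PSLCard.card_PSL2_mul (F := F)
  rw [show Nat.gcd 2 (Nat.card F - 1) = 2 from hd, hn] at hG
  have h16 : p ^ 2 % 16 = 1 := by
    rw [Nat.pow_mod]
    have : p % 16 = 1 ∨ p % 16 = 7 ∨ p % 16 = 9 ∨ p % 16 = 15 := by omega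
    rcases this with h | h | h | h <;> rw [h]
  obtain ⟨H, ⟨e⟩⟩ := (S0803.result hF).mpr h16
  have hH : Nat.card H = 24 := by rw [Nat.card_congr e.toEquiv, Nat.card_perm, Nat.card_fin]; rfl
  refine ⟨H, ⟨fun h => ?_, fun M hlt => ?_⟩, ⟨e⟩⟩
  · rw [h, Subgroup.card_top] at hH
    rw [hH] at hG
    have := Nat.mul_le_mul h7 (show 48 ≤ p ^ 2 - 1 by have := Nat.pow_le_pow_left h7 2; omega)
    omega
  by_contra hM
  obtain ⟨x, y, z, hx, hx1, hy, hy1, hxy, hz⟩ : ∃ x y z : Equiv.Perm (Fin 4),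
      x ^ 3 = 1 ∧ x ≠ 1 ∧ y ^ 3 = 1 ∧ y ≠ 1 ∧ x * y ≠ y * x ∧ z * x * z⁻¹ = x⁻¹ := by decide +kernel
  have hinj : Function.Injective (fun t => (Subtype.val (e.symm t))) :=
    Subtype.val_injective.comp e.symm.injective
  set φ := H.subtype.comp e.symm.toMonoidHom with hφ
  have hφi : Function.Injective φ := hinj
  have hord : ∀ t, orderOf (φ t) = orderOf t := fun t => orderOf_injective φ hφi t
  have hmem : ∀ t, φ t ∈ H := fun t => (e.symm t).2
  have hord' : ¬ orderOf (φ x) ∣ 2 * p := by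
    rw [hord, orderOf_eq_prime hx hx1]
    intro h
    have := (Nat.Prime.dvd_mul Nat.prime_three).mp h
    rcases this with h' | h'
    · norm_num at h'
    · have := (Nat.prime_dvd_prime_iff_eq Nat.prime_three (Fact.out : p.Prime)).mp h'
      omega
  rcases DicksonExceptionalMax.over_cases p hlt.le hM
      (Or.inl ⟨φ x, hmem x, φ z, hmem z, by rw [← map_mul, ← map_inv, ← map_mul, hz, map_inv], hord'⟩)
      ⟨φ x, hmem x, φ y, hmem y, fun h => hxy (hφi (by simpa only [← map_mul] using h)),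
        by rw [hord, orderOf_eq_prime hx hx1], by rw [hord, orderOf_eq_prime hy hy1]⟩ with
    ⟨⟨e'⟩⟩ | ⟨⟨e'⟩⟩ | ⟨⟨e'⟩⟩ | ⟨s, m, hs, hm, hsm, -⟩
  · have := Subgroup.card_dvd_of_le hlt.le
    rw [hH, Nat.card_congr e'.toEquiv, nat_card_alternatingGroup, Nat.card_fin] at this
    norm_num [Nat.factorial] at this
  · refine hlt.ne (Subgroup.eq_of_le_of_card_ge hlt.le ?_)
    rw [hH, Nat.card_congr e'.toEquiv, Nat.card_perm, Nat.card_fin]; rfl
  · have := Subgroup.card_dvd_of_le hlt.le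
    rw [hH, Nat.card_congr e'.toEquiv, nat_card_alternatingGroup, Nat.card_fin] at this
    norm_num [Nat.factorial] at this
  · exact DicksonExceptionalMax.no_root Fact.out hm (hn ▸ hsm)

end Cfsg.Agent.S5938
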