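import Cfsg.Statements.S5939
import Mathlib
import Cfsg.Agent.S0804
import Cfsg.Agent.Lib.DicksonExceptionalMax

set_option autoImplicit false
open Cfsg

namespace Cfsg.Agent.S5939

/-- Let p be a prime and F a finite field of characteristic p such that either F has p elements and p ≡ ±1 (mod 10), or F has p² elements and p ≡ ±3 (mod 10). Then PSL_2(F) has a maximal subgroup isomorphic to the alternating group A_5. -/
theorem result {F : Type*} [Field F] [Fintype F] (p : ℕ) [Fact p.Prime] [CharP F p] (h : (Fintype.card F = p ∧ (p % 10 = 1 ∨ p % 10 = 9)) ∨ (Fintype.card F = p ^ 2 ∧ (p % 10 = 3 ∨ p % 10 = 7))) : ∃ H : Subgroup (Matrix.ProjectiveSpecialLinearGroup (Fin 2) F), IsCoatom H ∧ Nonempty (H ≃* alternatingGroup (Fin 5)) := by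
  have hpp : p.Prime := Fact.out
  have hp5 : p ≠ 5 := by omega
  have hp2 : p ≠ 2 := by omega
  obtain ⟨q, hF⟩ : ∃ q, Fintype.card F = q := ⟨_, rfl⟩
  have hn : Nat.card F = q := Nat.card_eq_fintype_card.trans hF
  rw [hF] at h
  have h5q : 5 ∣ q ^ 2 - 1 := by
    have key : q % 5 = 1 ∨ q % 5 = 4 := by
      rcases h with ⟨rfl, h⟩ | ⟨rfl, h⟩
      · omega
      · rw [Nat.pow_mod]
        have : p % 5 = 2 ∨ p % 5 = 3 := by omega
        rcases this with e | e <;> rw [e] <;> simp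
    have : q ^ 2 % 5 = 1 := by rw [Nat.pow_mod]; rcases key with e | e <;> rw [e]
    omega
  obtain ⟨H, ⟨e⟩⟩ := (S0804.result hF).mpr (dvd_mul_of_dvd_right h5q q)
  have hH : Nat.card H = 60 := by
    rw [Nat.card_congr e.toEquiv, nat_card_alternatingGroup, Nat.card_fin]; rfl
  have hG := PSLCard.card_PSL2_mul (F := F)
  have hq9 : 9 ≤ q := by
    rcases h with ⟨rfl, h⟩ | ⟨rfl, h⟩
    · have := hpp.two_le; omega
    · exact (show 9 = 3 ^ 2 from rfl) ▸ Nat.pow_le_pow_left (by omega) 2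
  refine ⟨H, ⟨fun ht => ?_, fun M hlt => ?_⟩, ⟨e⟩⟩
  · rw [ht, Subgroup.card_top] at hH
    rw [hH, hn] at hG
    have := Nat.mul_le_mul hq9 (show 80 ≤ q ^ 2 - 1 by have := Nat.pow_le_pow_left hq9 2; omega)
    have := Nat.le_of_dvd two_pos (Nat.gcd_dvd_left 2 (q - 1))
    have := Nat.mul_le_mul_right 60 this
    omega
  by_contra hM
  obtain ⟨x, y, g, z, hx, hx1, hy, hy1, hxy, hg, hg1, hz⟩ : ∃ x y g z : alternatingGroup (Fin 5),
      x ^ 3 = 1 ∧ x ≠ 1 ∧ y ^ 3 = 1 ∧ y ≠ 1 ∧ x * y ≠ y * x ∧ g ^ 5 = 1 ∧ g ≠ 1 ∧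
        z * g * z⁻¹ = g⁻¹ := by
    obtain ⟨x, y, hx, hx1, hy, hy1, hxy⟩ : ∃ x y : alternatingGroup (Fin 5),
        x ^ 3 = 1 ∧ x ≠ 1 ∧ y ^ 3 = 1 ∧ y ≠ 1 ∧ x * y ≠ y * x := by decide +kernel
    obtain ⟨g, z, hg, hg1, hz⟩ : ∃ g z : alternatingGroup (Fin 5),
        g ^ 5 = 1 ∧ g ≠ 1 ∧ z * g * z⁻¹ = g⁻¹ := by decide +kernel
    exact ⟨x, y, g, z, hx, hx1, hy, hy1, hxy, hg, hg1, hz⟩
  have : Fact (Nat.Prime 5) := ⟨by norm_num⟩
  have hinj : Function.Injective (fun t => (Subtype.val (e.symm t))) :=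
    Subtype.val_injective.comp e.symm.injective
  set φ := H.subtype.comp e.symm.toMonoidHom with hφ
  have hφi : Function.Injective φ := hinj
  have hord : ∀ t, orderOf (φ t) = orderOf t := fun t => orderOf_injective φ hφi t
  have hmem : ∀ t, φ t ∈ H := fun t => (e.symm t).2
  have hle := Subgroup.card_dvd_of_le hlt.le
  have hord' : ¬ orderOf (φ g) ∣ 2 * p := by
    rw [hord, orderOf_eq_prime hg hg1]
    intro h
    rcases (Nat.Prime.dvd_mul (by norm_num)).mp h with h' | h'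
    · norm_num at h'
    · exact hp5 ((Nat.prime_dvd_prime_iff_eq (by norm_num) hpp).mp h').symm
  rcases DicksonExceptionalMax.over_cases p hlt.le hM
      (Or.inl ⟨φ g, hmem g, φ z, hmem z, by rw [← map_mul, ← map_inv, ← map_mul, hz, map_inv], hord'⟩)
      ⟨φ x, hmem x, φ y, hmem y, fun h => hxy (hφi (by simpa only [← map_mul] using h)),
        by rw [hord, orderOf_eq_prime hx hx1], by rw [hord, orderOf_eq_prime hy hy1]⟩ with
    ⟨⟨e'⟩⟩ | ⟨⟨e'⟩⟩ | ⟨⟨e'⟩⟩ | ⟨s, m, hs, hm, hsm, hc⟩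
  · rw [hH, Nat.card_congr e'.toEquiv, nat_card_alternatingGroup, Nat.card_fin] at hle
    norm_num [Nat.factorial] at hle
  · rw [hH, Nat.card_congr e'.toEquiv, Nat.card_perm, Nat.card_fin] at hle
    norm_num [Nat.factorial] at hle
  · refine hlt.ne (Subgroup.eq_of_le_of_card_ge hlt.le ?_)
    rw [hH, Nat.card_congr e'.toEquiv, nat_card_alternatingGroup, Nat.card_fin]; rfl
  · rw [hn] at hsm
    rcases h with ⟨rfl, -⟩ | ⟨rfl, hp10⟩
    · exact DicksonExceptionalMax.no_root hpp hm hsm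
    · obtain ⟨j, hj2, rfl⟩ := (Nat.dvd_prime_pow hpp).mp
        (show s ∣ p ^ 2 from hsm ▸ dvd_pow_self s (by omega))
      rw [← pow_mul] at hsm
      have hjm := Nat.pow_right_injective hpp.two_le hsm
      have hj : j = 1 := by
        rcases j with _ | _ | _ | j <;> simp at hs hjm hj2 ⊢ <;> omega
      subst hj
      rw [pow_one, hH] at *
      have h5 : 5 ∣ p * (p ^ 2 - 1) := by
        rcases hc with hc | hc
        · exact (by norm_num : 5 ∣ 60).trans (hc ▸ hle)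
        · exact (dvd_mul_of_dvd_right ((by norm_num : 5 ∣ 60).trans hle) 2).trans hc.dvd
      have h' := ((Nat.coprime_primes (by norm_num) hpp).mpr (Ne.symm hp5)).dvd_of_dvd_mul_left h5
      have h1 : p ^ 2 % 5 = 4 := by
        rw [Nat.pow_mod]
        have : p % 5 = 2 ∨ p % 5 = 3 := by omega
        rcases this with e | e <;> rw [e]
      omega

end Cfsg.Agent.S5939
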