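import Cfsg.Statements.S5940
import Mathlib
import Cfsg.Agent.S0802
import Cfsg.Agent.Lib.DicksonExceptionalMax

set_option autoImplicit false
open Cfsg

namespace Cfsg.Agent.S5940

/-- Let p ≥ 5 be a prime with p ≡ ±3 (mod 8) and p ≢ ±1 (mod 10), and F a field with p elements. Then PSL_2(F) has a maximal subgroup isomorphic to the alternating group A_4. -/
theorem result {F : Type*} [Field F] [Fintype F] (p : ℕ) [Fact p.Prime] (hF : Fintype.card F = p) (h5 : 5 ≤ p) (h8 : p % 8 = 3 ∨ p % 8 = 5) (h10 : p % 10 ≠ 1 ∧ p % 10 ≠ 9) : ∃ H : Subgroup (Matrix.ProjectiveSpecialLinearGroup (Fin 2) F), IsCoatom H ∧ Nonempty (H ≃* alternatingGroup (Fin 4)) := by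
  have hn : Nat.card F = p := Nat.card_eq_fintype_card.trans hF
  have : CharP F p := charP_of_card_eq_prime hF
  have hd : DicksonPSL.dd F = 2 := by
    rw [DicksonPSL.dd, hn]
    exact Nat.gcd_eq_left ⟨(p - 1) / 2, by omega⟩
  have hG := PSLCard.card_PSL2_mul (F := F)
  rw [show Nat.gcd 2 (Nat.card F - 1) = 2 from hd, hn] at hG
  obtain ⟨H, ⟨e⟩⟩ := (S0802.result (F := F) p 1 (by rw [hF, pow_one])).mpr
    (fun h => by omega)
  have hH : Nat.card H = 12 := by
    rw [Nat.card_congr e.toEquiv, nat_card_alternatingGroup, Nat.card_fin]; rfl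
  have hp24 : 5 * 24 ≤ p * (p ^ 2 - 1) :=
    Nat.mul_le_mul h5 (by have := Nat.pow_le_pow_left h5 2; omega)
  refine ⟨H, ⟨fun h => ?_, fun M hlt => ?_⟩, ⟨e⟩⟩
  · rw [h, Subgroup.card_top] at hH
    rw [hH] at hG
    omega
  by_contra hM
  obtain ⟨x, y, hx, hx1, hy, hy1, hxy⟩ : ∃ x y : alternatingGroup (Fin 4),
      x ^ 3 = 1 ∧ x ≠ 1 ∧ y ^ 3 = 1 ∧ y ≠ 1 ∧ x * y ≠ y * x := by decide +kernel
  have hinj : Function.Injective (fun t => (Subtype.val (e.symm t))) :=
    Subtype.val_injective.comp e.symm.injective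
  set φ := H.subtype.comp e.symm.toMonoidHom with hφ
  have hφi : Function.Injective φ := hinj
  have hord : ∀ t, orderOf (φ t) = orderOf t := fun t => orderOf_injective φ hφi t
  have hmem : ∀ t, φ t ∈ H := fun t => (e.symm t).2
  have hMG : 2 * Nat.card M ∣ p * (p ^ 2 - 1) := by
    rw [← hG]; exact Nat.mul_dvd_mul_left _ (Subgroup.card_subgroup_dvd_card M)
  have hcop : ∀ k, k.Prime → k < p → Nat.Coprime k p := fun k hk hlt =>
    (Nat.coprime_primes hk Fact.out).mpr (by omega)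
  have hnd : ¬ DicksonPSL.dd F * Nat.card H ∣ Nat.card F * (Nat.card F - 1) := by
    rw [hd, hH, hn]
    intro h
    have h8 : 2 ^ 3 ∣ p * (p - 1) := (by norm_num : 2 ^ 3 ∣ 2 * 12).trans h
    have := (Nat.Coprime.pow_left 3 (hcop 2 Nat.prime_two (by omega))).dvd_of_dvd_mul_left h8
    omega
  rcases DicksonExceptionalMax.over_cases p hlt.le hM
      (Or.inr hnd)
      ⟨φ x, hmem x, φ y, hmem y, fun h => hxy (hφi (by simpa only [← map_mul] using h)),
        by rw [hord, orderOf_eq_prime hx hx1], by rw [hord, orderOf_eq_prime hy hy1]⟩ with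
    ⟨⟨e'⟩⟩ | ⟨⟨e'⟩⟩ | ⟨⟨e'⟩⟩ | ⟨s, m, hs, hm, hsm, -⟩
  · refine hlt.ne (Subgroup.eq_of_le_of_card_ge hlt.le ?_)
    rw [hH, Nat.card_congr e'.toEquiv, nat_card_alternatingGroup, Nat.card_fin]; rfl
  · rw [Nat.card_congr e'.toEquiv, Nat.card_perm, Nat.card_fin] at hMG
    have h16 : 2 ^ 4 ∣ p * (p ^ 2 - 1) := (by norm_num [Nat.factorial] : 2 ^ 4 ∣ 2 * Nat.factorial 4).trans hMG
    have h := (Nat.Coprime.pow_left 4 (hcop 2 Nat.prime_two (by omega))).dvd_of_dvd_mul_left h16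
    have h1 : p ^ 2 % 16 = 9 := by
      rw [Nat.pow_mod]
      have : p % 16 = 3 ∨ p % 16 = 5 ∨ p % 16 = 11 ∨ p % 16 = 13 := by omega
      rcases this with h | h | h | h <;> rw [h]
    omega
  · rw [Nat.card_congr e'.toEquiv, nat_card_alternatingGroup, Nat.card_fin] at hMG
    rcases eq_or_ne p 5 with rfl | h55
    · refine hM (Subgroup.eq_top_of_card_eq M ?_)
      rw [Nat.card_congr e'.toEquiv, nat_card_alternatingGroup, Nat.card_fin]
      norm_num [Nat.factorial] at hG ⊢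
      omega
    · have h5d : 5 ∣ p * (p ^ 2 - 1) := (by norm_num [Nat.factorial] : 5 ∣ 2 * (Nat.factorial 5 / 2)).trans hMG
      have h := (hcop 5 (by norm_num) (by omega)).dvd_of_dvd_mul_left h5d
      have h1 : p ^ 2 % 5 = 4 := by
        rw [Nat.pow_mod]
        have hnd : ¬ 5 ∣ p := fun h => h55 ((Nat.prime_dvd_prime_iff_eq (by norm_num) Fact.out).mp h).symm
        have : p % 5 = 2 ∨ p % 5 = 3 := by omega
        rcases this with h | h <;> rw [h]
      omega
  · exact DicksonExceptionalMax.no_root Fact.out hm (hn ▸ hsm)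

end Cfsg.Agent.S5940
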