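import Cfsg.Statements.S5941
import Mathlib
import Cfsg.Agent.Lib.DicksonSubfieldMax

set_option autoImplicit false
open Cfsg

namespace Cfsg.Agent.S5941

/-- Let K and F be finite fields of odd characteristic with #F = (#K)². Then PSL_2(F) has a maximal subgroup isomorphic to PGL_2(K). -/
theorem result {F K : Type*} [Field F] [Fintype F] [Field K] [Fintype K] (q : ℕ) (hK : Fintype.card K = q) (hF : Fintype.card F = q ^ 2) (hq : Odd q) : ∃ H : Subgroup (Matrix.ProjectiveSpecialLinearGroup (Fin 2) F), IsCoatom H ∧ Nonempty (H ≃* Matrix.ProjGenLinGroup (Fin 2) K) := by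
  have hKn : Nat.card K = q := Nat.card_eq_fintype_card.trans hK
  have hFn : Nat.card F = q ^ 2 := Nat.card_eq_fintype_card.trans hF
  have h1 := PSLCard.one_lt_card K
  have h3 : 3 ≤ Nat.card K := by obtain ⟨j, hj⟩ := hq; omega
  exact (DicksonSubfieldMax.exists_coatom Nat.prime_two (by rw [hKn, hFn]) h3).1 (Or.inl rfl)

end Cfsg.Agent.S5941
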