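import Cfsg.Statements.S5944

set_option autoImplicit false
open Cfsg

namespace Cfsg.Agent.S5944

/-- For n ≠ 4, every proper subgroup of the symmetric group S_n other than the alternating group A_n has index at least n. -/
theorem result (n : ℕ) (hn : n ≠ 4) (H : Subgroup (Equiv.Perm (Fin n))) (hH : H ≠ ⊤) (hA : H ≠ alternatingGroup (Fin n)) : n ≤ H.index := by
  rcases Nat.lt_or_ge n 5 with h5 | h5
  · have h1 : H.index ≠ 1 := by simpa using hH
    have h0 : H.index ≠ 0 := Subgroup.index_ne_zero_of_finite
    have h2 : H.index ≠ 2 := fun h => hA (Equiv.Perm.eq_alternatingGroup_of_index_eq_two h)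
    omega
  · by_contra hlt
    rw [not_le] at hlt
    have hn5 : 5 ≤ Nat.card (Fin n) := by simpa using h5
    have : Nontrivial (Fin n) := Fin.nontrivial_iff_two_le.mpr (by omega)
    have hle : alternatingGroup (Fin n) ≤ H := by
      refine le_trans ?_ H.normalCore_le
      apply Equiv.Perm.alternatingGroup_le_of_normal hn5
      rw [Subgroup.nontrivial_iff_ne_bot]
      intro hbot
      have hker : (MulAction.toPermHom (Equiv.Perm (Fin n)) (Equiv.Perm (Fin n) ⧸ H)).ker = ⊥ := by
        rw [← Subgroup.normalCore_eq_ker]; exact hbot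
      have hinj := (MonoidHom.ker_eq_bot_iff _).mp hker
      have := Nat.card_le_card_of_injective _ hinj
      rw [Nat.card_perm, Nat.card_perm, Nat.card_fin] at this
      exact absurd this (not_le.mpr (by
        apply Nat.factorial_lt (Nat.pos_of_ne_zero Subgroup.index_ne_zero_of_finite) |>.mpr hlt))
    have hdvd := Subgroup.index_dvd_of_le hle
    rw [alternatingGroup.index_eq_two] at hdvd
    rcases (Nat.dvd_prime Nat.prime_two).mp hdvd with h | h
    · exact hH (Subgroup.index_eq_one.mp h)
    · exact hA (Equiv.Perm.eq_alternatingGroup_of_index_eq_two h)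

end Cfsg.Agent.S5944
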