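import Cfsg.Statements.S5945

set_option autoImplicit false
open Cfsg

namespace Cfsg.Agent.S5945

open Equiv MulAction

theorem perm5_card : Nat.card (Equiv.Perm (Fin 5)) = 120 := by
  rw [Nat.card_perm, Nat.card_fin]; rfl

theorem perm6_card : Nat.card (Equiv.Perm (Fin 6)) = 720 := by
  rw [Nat.card_perm, Nat.card_fin]; rfl

theorem card_of_index {H : Subgroup (Equiv.Perm (Fin 6))} (h : H.index = 6) : Nat.card H = 120 := by
  have := H.card_mul_index
  rw [h, perm6_card] at this; omega

theorem index_of_card {H : Subgroup (Equiv.Perm (Fin 6))} (h : Nat.card H = 120) : H.index = 6 := by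
  have := H.card_mul_index
  rw [h, perm6_card] at this; omega

theorem stab_index (a : Fin 6) : (stabilizer (Equiv.Perm (Fin 6)) a).index = 6 := by
  rw [MulAction.index_stabilizer_of_transitive, Nat.card_fin]

theorem index_six_aut {H : Subgroup (Equiv.Perm (Fin 6))} (h : H.index = 6) :
    ∃ (α : Equiv.Perm (Fin 6) ≃* Equiv.Perm (Fin 6)) (a : Fin 6),
      H.map α.toMonoidHom = stabilizer (Equiv.Perm (Fin 6)) a := by
  have hc : Nat.card (Equiv.Perm (Fin 6) ⧸ H) = 6 := h
  obtain ⟨e⟩ : Nonempty (Equiv.Perm (Fin 6) ⧸ H ≃ Fin 6) := Finite.card_eq.mp (by rw [hc, Nat.card_fin])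
  let φ : Equiv.Perm (Fin 6) →* Equiv.Perm (Fin 6) :=
    e.permCongrHom.toMonoidHom.comp (MulAction.toPermHom _ _)
  have hker : φ.ker = ⊥ := by
    by_contra hne
    have hle : alternatingGroup (Fin 6) ≤ φ.ker :=
      Equiv.Perm.alternatingGroup_le_of_normal (by simp) (Subgroup.nontrivial_iff_ne_bot _ |>.mpr hne)
    have hle' : φ.ker ≤ H := by
      intro x hx
      rw [MonoidHom.mem_ker] at hx
      have h1 := Equiv.Perm.ext_iff.mp hx (e (QuotientGroup.mk 1))
      simp [φ, Equiv.permCongrHom] at h1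
      have h2 := QuotientGroup.eq.mp h1
      simpa using h2
    have := Subgroup.index_dvd_of_le (hle.trans hle')
    rw [alternatingGroup.index_eq_two, h] at this
    omega
  have hinj := (MonoidHom.ker_eq_bot_iff φ).mp hker
  refine ⟨MulEquiv.ofBijective φ ((Finite.injective_iff_bijective).mp hinj), e (QuotientGroup.mk 1), ?_⟩
  apply Subgroup.eq_of_le_of_card_ge
  · rintro _ ⟨x, hx, rfl⟩
    rw [MulAction.mem_stabilizer_iff]
    show φ x • e (QuotientGroup.mk 1) = e (QuotientGroup.mk 1)
    simp [φ, Equiv.permCongrHom]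
    exact QuotientGroup.eq.mpr (by simpa using hx)
  · rw [Subgroup.card_map_of_injective (MulEquiv.injective _), card_of_index h,
      card_of_index (stab_index _)]

theorem no_swap_of_fixedPointFree {t : Equiv.Perm (Fin 6)} (ht : t.support = Finset.univ)
    (a : Fin 6) : t ∉ stabilizer (Equiv.Perm (Fin 6)) a := by
  intro h
  rw [MulAction.mem_stabilizer_iff, Equiv.Perm.smul_def] at h
  exact absurd h (Equiv.Perm.mem_support.mp (by rw [ht]; exact Finset.mem_univ a))

theorem odd_involution {t : Equiv.Perm (Fin 6)} (h2 : t ^ 2 = 1) (hs : Equiv.Perm.sign t = -1) :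
    t.IsSwap ∨ t.support = Finset.univ := by
  have h1 : t ≠ 1 := fun h => by rw [h, map_one] at hs; exact absurd hs (by decide)
  obtain ⟨n, hn⟩ := Equiv.Perm.cycleType_prime_order (σ := t)
    (by rw [orderOf_eq_prime (p := 2) h2 h1]; exact Nat.prime_two)
  rw [orderOf_eq_prime (p := 2) h2 h1] at hn
  have hle : (n + 1) * 2 ≤ 6 := by
    have := t.sum_cycleType
    rw [hn, Multiset.sum_replicate, smul_eq_mul] at this
    have h6 := Finset.card_le_univ t.support
    rw [← this, Fintype.card_fin] at h6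
    exact h6
  rw [Equiv.Perm.sign_of_cycleType, hn, Multiset.sum_replicate, Multiset.card_replicate] at hs
  rcases show n = 0 ∨ n = 1 ∨ n = 2 by omega with rfl | rfl | rfl
  · left
    rw [← Equiv.Perm.card_support_eq_two, ← Equiv.Perm.sum_cycleType, hn]; rfl
  · exact absurd hs (by decide)
  · right
    apply Finset.eq_univ_of_card
    rw [← Equiv.Perm.sum_cycleType, hn]; rfl

theorem triple_conj {t t' : Equiv.Perm (Fin 6)} (h2 : t ^ 2 = 1) (h2' : t' ^ 2 = 1)
    (ht : t.support = Finset.univ) (ht' : t'.support = Finset.univ) : IsConj t t' := by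
  rw [Equiv.Perm.isConj_iff_cycleType_eq]
  have key : ∀ s : Equiv.Perm (Fin 6), s ^ 2 = 1 → s.support = Finset.univ →
      s.cycleType = Multiset.replicate 3 2 := by
    intro s hs hu
    have h1 : s ≠ 1 := fun h => by rw [h, Equiv.Perm.support_one] at hu; exact Finset.univ_nonempty.ne_empty hu.symm
    obtain ⟨n, hn⟩ := Equiv.Perm.cycleType_prime_order (σ := s)
      (by rw [orderOf_eq_prime (p := 2) hs h1]; exact Nat.prime_two)
    rw [orderOf_eq_prime (p := 2) hs h1] at hn
    have h := s.sum_cycleType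
    rw [hu, hn, Multiset.sum_replicate, smul_eq_mul, Finset.card_univ, Fintype.card_fin] at h
    rw [hn, show n + 1 = 3 by omega]
  rw [key t h2 ht, key t' h2' ht']

theorem iso_five {H : Subgroup (Equiv.Perm (Fin 6))} (h : H.index = 6) :
    Nonempty (H ≃* Equiv.Perm (Fin 5)) := by
  obtain ⟨α, a, hα⟩ := index_six_aut h
  refine ⟨((α.subgroupMap H).trans (MulEquiv.subgroupCongr hα)).trans ?_⟩
  let f : stabilizer (Equiv.Perm (Fin 6)) a →* Equiv.Perm {x : Fin 6 // x ≠ a} :=
    { toFun := fun g => (g : Equiv.Perm (Fin 6)).subtypePerm fun x => by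
        have hg : (g : Equiv.Perm (Fin 6)) a = a := g.2
        simp only [ne_eq]
        constructor <;> intro hx heq
        · exact hx (by rw [heq, hg])
        · exact hx ((g : Equiv.Perm (Fin 6)).injective (heq.trans hg.symm))
      map_one' := by ext x; simp
      map_mul' := fun g g' => by ext x; rfl }
  have hf : Function.Injective f := by
    intro g g' hgg
    ext x : 2
    by_cases hx : x = a
    · subst hx
      have h1 : (g : Equiv.Perm (Fin 6)) x = x := g.2
      have h2 : (g' : Equiv.Perm (Fin 6)) x = x := g'.2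
      rw [h1, h2]
    · exact congrArg Subtype.val (Equiv.Perm.ext_iff.mp hgg ⟨x, hx⟩)
  have hb : Function.Bijective f := (Nat.bijective_iff_injective_and_card f).mpr ⟨hf, by
    rw [card_of_index (stab_index a), Nat.card_perm, Nat.card_eq_fintype_card]
    simp [Fintype.card_subtype_compl]; rfl⟩
  exact (MulEquiv.ofBijective f hb).trans
    (Fintype.equivFinOfCardEq (show Fintype.card {x : Fin 6 // x ≠ a} = 5 by
      simp [Fintype.card_subtype_compl])).permCongrHom

theorem exists_odd_involution {H : Subgroup (Equiv.Perm (Fin 6))} (h : H.index = 6) :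
    ∃ t ∈ H, t ^ 2 = 1 ∧ Equiv.Perm.sign t = -1 := by
  obtain ⟨e⟩ := iso_five h
  by_contra! hall
  let χ : Equiv.Perm (Fin 5) →* ℤˣ := Equiv.Perm.sign.comp (H.subtype.comp e.symm.toMonoidHom)
  have hχ : ∀ g, χ g = 1 := by
    intro g
    induction g using Equiv.Perm.swap_induction_on with
    | one => exact map_one χ
    | swap_mul f x y hxy ih =>
      rw [map_mul, ih, mul_one]
      refine (Int.units_eq_one_or _).resolve_right (hall _ (e.symm (swap x y)).2 ?_)
      show ((e.symm (swap x y) : H) : Equiv.Perm (Fin 6)) ^ 2 = 1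
      rw [← Subgroup.coe_pow, ← map_pow, pow_two, Equiv.swap_mul_self, map_one, Subgroup.coe_one]
  have hle : H ≤ alternatingGroup (Fin 6) := by
    intro g hg
    rw [Equiv.Perm.mem_alternatingGroup]
    simpa [χ] using hχ (e ⟨g, hg⟩)
  have hm := Subgroup.relIndex_mul_index hle
  rw [alternatingGroup.index_eq_two, h] at hm
  have h3 : (H.subgroupOf (alternatingGroup (Fin 6))).index = 3 := by
    show H.relIndex _ = 3
    omega
  set H' := H.subgroupOf (alternatingGroup (Fin 6)) with hH'
  have hcore : H'.normalCore = ⊥ := by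
    rcases alternatingGroup.normal_subgroup_eq_bot_or_eq_top (α := Fin 6) (by simp)
      (N := H'.normalCore) with hb | ht
    · exact hb
    · have : H' = ⊤ := top_unique (ht.ge.trans H'.normalCore_le)
      rw [this, Subgroup.index_top] at h3; omega
  rw [Subgroup.normalCore_eq_ker, MonoidHom.ker_eq_bot_iff] at hcore
  have := Nat.card_le_card_of_injective _ hcore
  rw [nat_card_alternatingGroup, Nat.card_perm, show Nat.card (↥(alternatingGroup (Fin 6)) ⧸ H') = 3 from h3,
    Nat.card_fin] at this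
  exact absurd this (by decide)

theorem exists_exotic : ∃ H : Subgroup (Equiv.Perm (Fin 6)), H.index = 6 ∧
    ∀ a : Fin 6, ∃ g ∈ H, g a ≠ a := by
  have : Fact (Nat.Prime 5) := ⟨by norm_num⟩
  let P : Sylow 5 (Equiv.Perm (Fin 5)) := default
  have hP5 : Nat.card P = 5 := by
    rw [P.card_eq_multiplicity, perm5_card, show (120 : ℕ) = 5 ^ 1 * 24 by norm_num,
      Nat.factorization_mul (by norm_num) (by norm_num), Finsupp.add_apply,
      Nat.Prime.factorization_pow (by norm_num), Nat.factorization_eq_zero_of_not_dvd (by norm_num)]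
    simp
  have hn6 : Nat.card (Sylow 5 (Equiv.Perm (Fin 5))) = 6 := by
    have h1 := card_sylow_modEq_one 5 (Equiv.Perm (Fin 5))
    have h2 := P.card_dvd_index
    have h3 : (P : Subgroup (Equiv.Perm (Fin 5))).index = 24 := by
      have h4 := (P : Subgroup (Equiv.Perm (Fin 5))).card_mul_index
      rw [hP5, perm5_card] at h4; omega
    rw [h3] at h2
    have hd := Nat.le_of_dvd (by norm_num) h2
    have h7 : Nat.card (Sylow 5 (Equiv.Perm (Fin 5))) = 1 ∨ Nat.card (Sylow 5 (Equiv.Perm (Fin 5))) = 6 := by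
      unfold Nat.ModEq at h1
      generalize Nat.card (Sylow 5 (Equiv.Perm (Fin 5))) = n at *
      interval_cases n <;> simp_all
    refine h7.resolve_left fun h1' => ?_
    have : Subsingleton (Sylow 5 (Equiv.Perm (Fin 5))) := (Nat.card_eq_one_iff_unique.mp h1').1
    have hnorm : (P : Subgroup (Equiv.Perm (Fin 5))).Normal := P.normal_of_subsingleton
    have hle : alternatingGroup (Fin 5) ≤ (P : Subgroup (Equiv.Perm (Fin 5))) := by
      apply Equiv.Perm.alternatingGroup_le_of_normal (by simp)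
      rw [Subgroup.nontrivial_iff_ne_bot]
      intro hb
      have h9 : Nat.card (P : Subgroup (Equiv.Perm (Fin 5))) = 5 := hP5
      rw [hb, Subgroup.card_bot] at h9; omega
    have h10 := Subgroup.card_le_of_le hle
    rw [nat_card_alternatingGroup, Nat.card_fin] at h10
    have h11 : Nat.card (P : Subgroup (Equiv.Perm (Fin 5))) = 5 := hP5
    rw [h11] at h10
    exact absurd h10 (by decide)
  obtain ⟨e⟩ : Nonempty (Sylow 5 (Equiv.Perm (Fin 5)) ≃ Fin 6) :=
    Finite.card_eq.mp (by rw [hn6, Nat.card_fin])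
  let φ : Equiv.Perm (Fin 5) →* Equiv.Perm (Fin 6) :=
    e.permCongrHom.toMonoidHom.comp (MulAction.toPermHom _ _)
  have hφ : ∀ g Q, φ g (e Q) = e (g • Q) := by intro g Q; simp [φ, Equiv.permCongrHom]
  have htrans : ∀ a b, ∃ g, φ g a = b := by
    intro a b
    obtain ⟨g, hg⟩ := MulAction.exists_smul_eq (Equiv.Perm (Fin 5)) (e.symm a) (e.symm b)
    refine ⟨g, ?_⟩
    rw [← e.apply_symm_apply a, hφ, hg, e.apply_symm_apply]
  have hinj : Function.Injective φ := by
    rw [← MonoidHom.ker_eq_bot_iff]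
    by_contra hne
    have hle : alternatingGroup (Fin 5) ≤ φ.ker :=
      Equiv.Perm.alternatingGroup_le_of_normal (by simp) (Subgroup.nontrivial_iff_ne_bot _ |>.mpr hne)
    have h2 : Nat.card φ.range ≤ 2 := by
      rw [← Subgroup.index_ker]
      exact Nat.le_of_dvd (by norm_num) (alternatingGroup.index_eq_two (α := Fin 5) ▸ Subgroup.index_dvd_of_le hle)
    have h6 : Nat.card (Fin 6) ≤ Nat.card φ.range :=
      Nat.card_le_card_of_surjective (fun g : φ.range => (g : Equiv.Perm (Fin 6)) 0) fun b => by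
        obtain ⟨g, hg⟩ := htrans 0 b; exact ⟨⟨φ g, g, rfl⟩, hg⟩
    rw [Nat.card_fin] at h6; omega
  refine ⟨φ.range, index_of_card ?_, fun a => ?_⟩
  · rw [Nat.card_congr (φ.ofInjective hinj).toEquiv.symm, perm5_card]
  · obtain ⟨b, hb⟩ := exists_ne a
    obtain ⟨g, hg⟩ := htrans a b
    exact ⟨φ g, ⟨g, rfl⟩, by rw [hg]; exact hb⟩

theorem stab_or_triple {H : Subgroup (Equiv.Perm (Fin 6))} (h : H.index = 6) :
    (∃ a : Fin 6, H = stabilizer (Equiv.Perm (Fin 6)) a) ∨
      ((∃ t ∈ H, t ^ 2 = 1 ∧ t.support = Finset.univ) ∧ ∀ t ∈ H, ¬ t.IsSwap) := by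
  by_cases hfix : ∃ a, ∀ g ∈ H, g a = a
  · obtain ⟨a, ha⟩ := hfix
    left
    refine ⟨a, Subgroup.eq_of_le_of_card_ge (fun g hg => ha g hg) ?_⟩
    rw [card_of_index h, card_of_index (stab_index a)]
  right
  push Not at hfix
  -- an element of order 5
  have hcard := card_of_index h
  have : Fact (Nat.Prime 5) := ⟨by norm_num⟩
  obtain ⟨c, hc⟩ := exists_prime_orderOf_dvd_card' (G := H) 5 (by rw [hcard]; norm_num)
  have hc5 : orderOf (c : Equiv.Perm (Fin 6)) = 5 := by rw [Subgroup.orderOf_coe, hc]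
  obtain ⟨m, hm⟩ := Equiv.Perm.cycleType_prime_order (σ := (c : Equiv.Perm (Fin 6))) (by rw [hc5]; norm_num)
  rw [hc5] at hm
  have hs := (c : Equiv.Perm (Fin 6)).sum_cycleType
  rw [hm, Multiset.sum_replicate, smul_eq_mul] at hs
  have hle := Finset.card_le_univ (c : Equiv.Perm (Fin 6)).support
  rw [Fintype.card_fin] at hle
  have hsupp : (c : Equiv.Perm (Fin 6)).support.card = 5 := by omega
  have hcyc : (c : Equiv.Perm (Fin 6)).IsCycle := by
    rw [← Equiv.Perm.card_cycleType_eq_one, hm, Multiset.card_replicate]; omega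
  obtain ⟨a0, ha0⟩ : ∃ a0, a0 ∉ (c : Equiv.Perm (Fin 6)).support := by
    by_contra! hall
    rw [Finset.eq_univ_of_forall hall, Finset.card_univ, Fintype.card_fin] at hsupp; omega
  have huniv : ∀ x, x ≠ a0 → x ∈ (c : Equiv.Perm (Fin 6)).support := by
    intro x hx
    by_contra hxs
    have hsub : (c : Equiv.Perm (Fin 6)).support ⊆ Finset.univ \ {a0, x} := fun y hy => by
      simp only [Finset.mem_sdiff, Finset.mem_univ, Finset.mem_insert, Finset.mem_singleton, true_and]
      rintro (rfl | rfl) <;> contradiction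
    have h1 := Finset.card_le_card hsub
    rw [Finset.card_sdiff_of_subset (Finset.subset_univ _), Finset.card_pair hx.symm,
      Finset.card_univ, Fintype.card_fin, hsupp] at h1
    omega
  have horb : ∀ x y, x ≠ a0 → y ≠ a0 → ∃ g ∈ H, g a0 = a0 ∧ g x = y := by
    intro x y hx hy
    obtain ⟨i, hi⟩ := hcyc.exists_pow_eq (Equiv.Perm.mem_support.mp (huniv x hx))
      (Equiv.Perm.mem_support.mp (huniv y hy))
    exact ⟨(c : Equiv.Perm (Fin 6)) ^ i, H.pow_mem c.2 i,
      Equiv.Perm.pow_apply_eq_self_of_apply_eq_self (Equiv.Perm.notMem_support.mp ha0) i, hi⟩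
  have hto : ∀ x, ∃ g ∈ H, g x = a0 := by
    intro x
    by_cases hx : x = a0
    · exact ⟨1, H.one_mem, hx⟩
    obtain ⟨g, hg, hga⟩ := hfix a0
    obtain ⟨g', hg', -, hgx⟩ := horb x (g a0) hx hga
    exact ⟨g⁻¹ * g', H.mul_mem (H.inv_mem hg) hg', by simp [hgx]⟩
  have : IsMultiplyPretransitive H (Fin 6) 2 := by
    rw [MulAction.is_two_pretransitive_iff (G := H) (α := Fin 6)]
    intro a b c' d hab hcd
    obtain ⟨g, hg, hga⟩ := hto a
    obtain ⟨g', hg', hgc⟩ := hto c'
    obtain ⟨k, hk, hk0, hkb⟩ := horb (g b) (g' d) (hga ▸ fun e => hab (g.injective e).symm)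
      (hgc ▸ fun e => hcd (g'.injective e).symm)
    refine ⟨⟨g'⁻¹ * k * g, H.mul_mem (H.mul_mem (H.inv_mem hg') hk) hg⟩, ?_, ?_⟩ <;>
      show (g'⁻¹ * k * g : Equiv.Perm (Fin 6)) _ = _ <;>
      simp only [Equiv.Perm.mul_apply, hga, hk0, hkb, Equiv.Perm.inv_eq_iff_eq]
    exact hgc.symm
  have hnoswap : ∀ t ∈ H, ¬ t.IsSwap := by
    intro t ht hsw
    have : IsPreprimitive H (Fin 6) := isPreprimitive_of_is_two_pretransitive this
    rw [Equiv.Perm.subgroup_eq_top_of_isPreprimitive_of_isSwap_mem this t hsw ht,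
      Subgroup.index_top] at h
    omega
  refine ⟨?_, hnoswap⟩
  obtain ⟨t, ht, ht2, hts⟩ := exists_odd_involution h
  exact ⟨t, ht, ht2, (odd_involution ht2 hts).resolve_left (hnoswap t ht)⟩

theorem exists_outer : ∃ α : Equiv.Perm (Fin 6) ≃* Equiv.Perm (Fin 6),
    ∀ t, t ^ 2 = 1 → t.support = Finset.univ → (α t).IsSwap := by
  obtain ⟨H0, h0, hmove⟩ := exists_exotic
  obtain ⟨α, a, hα⟩ := index_six_aut h0
  refine ⟨α, ?_⟩
  rcases stab_or_triple h0 with ⟨b, rfl⟩ | ⟨⟨t, ht, ht2, htu⟩, -⟩
  · obtain ⟨g, hg, hgb⟩ := hmove b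
    exact absurd hg hgb
  have hsign : Equiv.Perm.sign (α t) = Equiv.Perm.sign t := by
    have hmap : (alternatingGroup (Fin 6)).map α.toMonoidHom = alternatingGroup (Fin 6) := by
      apply Equiv.Perm.eq_alternatingGroup_of_index_eq_two
      exact (Subgroup.index_map_of_bijective α.bijective _).trans alternatingGroup.index_eq_two
    have key : Equiv.Perm.sign (α t) = 1 ↔ Equiv.Perm.sign t = 1 := by
      rw [← Equiv.Perm.mem_alternatingGroup, ← Equiv.Perm.mem_alternatingGroup]
      conv_lhs => rw [← hmap]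
      constructor
      · rintro ⟨y, hy, hyt⟩; rwa [← α.injective hyt]
      · exact fun hy => ⟨t, hy, rfl⟩
    rcases Int.units_eq_one_or (Equiv.Perm.sign t) with h1 | h1 <;>
      rcases Int.units_eq_one_or (Equiv.Perm.sign (α t)) with h2 | h2 <;> simp_all
  have hts : Equiv.Perm.sign t = -1 := by
    have h1 : t ≠ 1 := fun h => by rw [h, Equiv.Perm.support_one] at htu; exact Finset.univ_nonempty.ne_empty htu.symm
    obtain ⟨n, hn⟩ := Equiv.Perm.cycleType_prime_order (σ := t)
      (by rw [orderOf_eq_prime (p := 2) ht2 h1]; exact Nat.prime_two)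
    rw [orderOf_eq_prime (p := 2) ht2 h1] at hn
    have hsum := t.sum_cycleType
    rw [htu, hn, Multiset.sum_replicate, smul_eq_mul, Finset.card_univ, Fintype.card_fin] at hsum
    rw [Equiv.Perm.sign_of_cycleType, hn, show n + 1 = 3 by omega]
    decide
  have hαt2 : (α t) ^ 2 = 1 := by rw [← map_pow, ht2, map_one]
  have hsw : (α t).IsSwap := by
    refine (odd_involution hαt2 (hsign.trans hts)).resolve_right fun hu => ?_
    exact no_swap_of_fixedPointFree hu a (hα.le ⟨t, ht, rfl⟩)
  intro t' h2' hu'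
  obtain ⟨g, hg⟩ := isConj_iff.mp (triple_conj ht2 h2' htu hu')
  rw [← hg, map_mul, map_mul, map_inv, ← Equiv.Perm.card_support_eq_two, Equiv.Perm.card_support_conj]
  exact Equiv.Perm.card_support_eq_two.mpr hsw


/-- The symmetric group S_6 has exactly 12 subgroups of index 6; each of them is isomorphic to S_5, and at least one of them is not the stabilizer of any point. -/
theorem result : Nat.card {H : Subgroup (Equiv.Perm (Fin 6)) // H.index = 6} = 12 ∧ (∀ H : Subgroup (Equiv.Perm (Fin 6)), H.index = 6 → Nonempty (H ≃* Equiv.Perm (Fin 5))) ∧ ∃ H : Subgroup (Equiv.Perm (Fin 6)), H.index = 6 ∧ ∀ a : Fin 6, H ≠ MulAction.stabilizer (Equiv.Perm (Fin 6)) a := by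
  classical
  obtain ⟨α, hα⟩ := exists_outer
  let St : Fin 6 → Subgroup (Equiv.Perm (Fin 6)) := fun a => stabilizer (Equiv.Perm (Fin 6)) a
  let Ex : Fin 6 → Subgroup (Equiv.Perm (Fin 6)) := fun a => (St a).comap α.toMonoidHom
  have hEx : ∀ a, (Ex a).index = 6 := fun a => by
    rw [Subgroup.index_comap_of_surjective _ α.surjective, stab_index]
  have hswapFix : ∀ a : Fin 6, ∃ s ∈ St a, s.IsSwap := by
    intro a
    obtain ⟨x, hx⟩ := exists_ne a
    obtain ⟨y, hya, hyx⟩ : ∃ y, y ≠ a ∧ y ≠ x := by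
      have : ({a, x} : Finset (Fin 6)) ≠ Finset.univ := fun h => by
        have := congrArg Finset.card h
        rw [Finset.card_univ, Fintype.card_fin] at this
        have := Finset.card_le_two (a := a) (b := x)
        omega
      obtain ⟨y, hy⟩ := not_forall.mp fun h => this (Finset.eq_univ_of_forall h)
      exact ⟨y, by simp_all, by simp_all⟩
    exact ⟨swap x y, Equiv.swap_apply_of_ne_of_ne hx.symm hya.symm, x, y, hyx.symm, rfl⟩
  have hStinj : Function.Injective St := by
    intro a b hab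
    by_contra hne
    obtain ⟨y, hya, hyb⟩ : ∃ y, y ≠ a ∧ y ≠ b := by
      have : ({a, b} : Finset (Fin 6)) ≠ Finset.univ := fun h => by
        have := congrArg Finset.card h
        rw [Finset.card_univ, Fintype.card_fin] at this
        have := Finset.card_le_two (a := a) (b := b)
        omega
      obtain ⟨y, hy⟩ := not_forall.mp fun h => this (Finset.eq_univ_of_forall h)
      exact ⟨y, by simp_all, by simp_all⟩
    have h1 : swap b y ∈ St b := hab ▸ (Equiv.swap_apply_of_ne_of_ne hne hya.symm : swap b y • a = a)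
    have h2 : swap b y • b = b := h1
    rw [Equiv.Perm.smul_def, Equiv.swap_apply_left] at h2
    exact hyb h2
  have hExinj : Function.Injective Ex := fun a b hab =>
    hStinj (Subgroup.comap_injective α.surjective hab)
  have hclass : ∀ H : Subgroup (Equiv.Perm (Fin 6)), H.index = 6 → (∃ a, St a = H) ∨ ∃ a, Ex a = H := by
    intro H hH
    rcases stab_or_triple hH with ⟨a, rfl⟩ | ⟨⟨t, ht, ht2, htu⟩, -⟩
    · exact .inl ⟨a, rfl⟩
    right
    have hM : (H.map α.toMonoidHom).index = 6 := (Subgroup.index_map_of_bijective α.bijective _).trans hH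
    rcases stab_or_triple hM with ⟨a, ha⟩ | ⟨-, hno⟩
    · exact ⟨a, by
        show (St a).comap _ = H
        rw [show St a = H.map α.toMonoidHom from ha.symm, Subgroup.comap_map_eq_self_of_injective α.injective]⟩
    · exact absurd (hα t ht2 htu) (hno _ ⟨t, ht, rfl⟩)
  have hdisj : ∀ a b, St a ≠ Ex b := by
    intro a b hab
    obtain ⟨H0, h0, hmove⟩ := exists_exotic
    obtain ⟨s, hs, hsw⟩ := hswapFix b
    -- the preimage of a swap under the outer automorphism has full support
    have hmem : α.symm s ∈ Ex b := by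
      show α (α.symm s) ∈ St b
      rw [α.apply_symm_apply]; exact hs
    rw [← hab] at hmem
    have h2 : (α.symm s) ^ 2 = 1 := by
      rw [← map_pow]
      obtain ⟨x, y, hxy, rfl⟩ := hsw
      rw [pow_two, Equiv.swap_mul_self, map_one]
    obtain ⟨t0, ht0, ht02, ht0u⟩ : ∃ t ∈ H0, t ^ 2 = 1 ∧ t.support = Finset.univ := by
      rcases stab_or_triple h0 with ⟨c, rfl⟩ | ⟨h, -⟩
      · obtain ⟨g, hg, hgc⟩ := hmove c; exact absurd hg hgc
      · exact h
    obtain ⟨g, hg⟩ := isConj_iff.mp (show IsConj (α t0) s from by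
      rw [Equiv.Perm.isConj_iff_cycleType_eq, (hα t0 ht02 ht0u).isCycle.cycleType,
        hsw.isCycle.cycleType, Equiv.Perm.card_support_eq_two.mpr (hα t0 ht02 ht0u),
        Equiv.Perm.card_support_eq_two.mpr hsw])
    have hu : (α.symm s).support = Finset.univ := by
      rw [← hg, map_mul, map_mul, α.symm_apply_apply, map_inv]
      apply Finset.eq_univ_of_card
      rw [Equiv.Perm.card_support_conj, ht0u, Finset.card_univ]
    exact no_swap_of_fixedPointFree hu a hmem
  refine ⟨?_, fun H hH => iso_five hH, Ex 0, hEx 0, fun a h => hdisj a 0 h.symm⟩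
  let F : Fin 6 ⊕ Fin 6 → {H : Subgroup (Equiv.Perm (Fin 6)) // H.index = 6} :=
    Sum.elim (fun a => ⟨St a, stab_index a⟩) (fun a => ⟨Ex a, hEx a⟩)
  have hF : Function.Bijective F := by
    constructor
    · rintro (a | a) (b | b) h <;> have h' := congrArg Subtype.val h <;>
        simp only [F, Sum.elim_inl, Sum.elim_inr] at h'
      · rw [hStinj h']
      · exact absurd h' (hdisj a b)
      · exact absurd h'.symm (hdisj b a)
      · rw [hExinj h']
    · rintro ⟨H, hH⟩
      rcases hclass H hH with ⟨a, rfl⟩ | ⟨a, rfl⟩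
      · exact ⟨.inl a, rfl⟩
      · exact ⟨.inr a, rfl⟩
  rw [← Nat.card_eq_of_bijective F hF, Nat.card_sum, Nat.card_fin]

end Cfsg.Agent.S5945
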