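import Cfsg.Statements.S5947

set_option autoImplicit false
open Cfsg

namespace Cfsg.Agent.S5947

/-- Let F ⊆ K be finite fields with |F| = q and [K : F] = n ≥ 2, regard K as an n-dimensional F-vector space, and let M ≤ GL_F(K) be the Singer group of multiplications by non-zero elements of K (cyclic of order q^n − 1). Assume (n, q) ≠ (6, 2), and that it is not the case that n = 2 with q a prime such that q + 1 is a power of 2. Then every abelian subgroup of GL_F(K) of order q^n − 1 is conjugate to M. -/
theorem result {F K : Type*} [Field F] [Fintype F] [Field K] [Fintype K] [Algebra F K] (n : ℕ) (hn : 2 ≤ n) (hdim : Module.finrank F K = n)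
    (hex1 : ¬ (n = 6 ∧ Fintype.card F = 2))
    (hex2 : ¬ (n = 2 ∧ (Fintype.card F).Prime ∧ ∃ a : ℕ, Fintype.card F + 1 = 2 ^ a))
    (U : Subgroup (Module.End F K)ˣ) (hU : IsMulCommutative U) (hcard : Nat.card U = Fintype.card K - 1) :
    ∃ g : (Module.End F K)ˣ, U.map (MulAut.conj g).toMonoidHom = (Units.map ((Algebra.lmul F K : K →ₐ[F] Module.End F K) : K →* Module.End F K)).range := by
  classical
  obtain ⟨p, hp⟩ := CharP.exists F
  obtain ⟨m, hpp, hFp⟩ := FiniteField.card F p
  have : Fact p.Prime := ⟨hpp⟩
  have hinjE : Function.Injective (algebraMap F (Module.End F K)) := (algebraMap F (Module.End F K)).injective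
  have : CharP (Module.End F K) p := charP_of_injective_algebraMap hinjE p
  set Q := Fintype.card K with hQdef
  have hQ : Q = Fintype.card F ^ n := by rw [hQdef, Module.card_eq_pow_finrank (K := F), hdim]
  have hQp : Q = p ^ ((m : ℕ) * n) := by rw [hQ, hFp, ← pow_mul]
  have hQ1 : 1 < Q := Fintype.one_lt_card
  have hfinE : Finite (Module.End F K) := Finite.of_injective (fun f : Module.End F K => (f : K → K)) DFunLike.coe_injective
  set S : Set (Module.End F K) := (fun u : (Module.End F K)ˣ => (u : Module.End F K)) '' (U : Set _) with hS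
  set A : Subalgebra F (Module.End F K) := Algebra.adjoin F S with hA
  have hUc : ∀ u ∈ U, ∀ v ∈ U, u * v = v * u := fun u hu v hv => by
    have := hU.is_comm.comm ⟨u, hu⟩ ⟨v, hv⟩
    exact congrArg Subtype.val this
  have hSc : ∀ x ∈ S, ∀ y ∈ S, Commute x y := by
    rintro _ ⟨u, hu, rfl⟩ _ ⟨v, hv, rfl⟩
    show (u : Module.End F K) * v = v * u
    rw [← Units.val_mul, hUc u hu v hv, Units.val_mul]
  have hcomm : ∀ x ∈ A, ∀ y ∈ A, Commute x y := by
    intro x hx y hy
    induction hy using Algebra.adjoin_induction with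
    | mem y hy =>
      induction hx using Algebra.adjoin_induction with
      | mem x hx => exact hSc x hx y hy
      | algebraMap r => exact Algebra.commute_algebraMap_left r y
      | add a b _ _ ha hb => exact ha.add_left hb
      | mul a b _ _ ha hb => exact ha.mul_left hb
    | algebraMap r => exact Algebra.commute_algebraMap_right r x
    | add a b _ _ ha hb => exact ha.add_right hb
    | mul a b _ _ ha hb => exact ha.mul_right hb
  have hUpow : ∀ u ∈ U, u ^ (Q - 1) = 1 := fun u hu => by
    have h := pow_card_eq_one' (x := (⟨u, hu⟩ : U))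
    rw [hcard, Subtype.ext_iff] at h
    simpa using h
  have hQid : ∀ x ∈ A, x ^ Q = x := by
    intro x hx
    induction hx using Algebra.adjoin_induction with
    | mem x hx =>
      obtain ⟨u, hu, rfl⟩ := hx
      show (u : Module.End F K) ^ Q = u
      rw [← Nat.sub_add_cancel hQ1.le, pow_succ, ← Units.val_pow_eq_pow_val, hUpow u hu,
        Units.val_one, one_mul]
    | algebraMap r => rw [← map_pow, hQ, FiniteField.pow_card_pow]
    | add a b ha hb iha ihb =>
      rw [hQp, add_pow_char_pow_of_commute (p := p) (h := hcomm a ha b hb), ← hQp, iha, ihb]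
    | mul a b ha hb iha ihb => rw [(hcomm a ha b hb).mul_pow, iha, ihb]
  -- a vector with trivial annihilator
  obtain ⟨v, hv⟩ : ∃ v : K, ∀ a ∈ A, a v = 0 → a = 0 := by
    obtain ⟨v, -, hmin⟩ := Set.exists_min_image (Set.univ : Set K)
      (fun v => Nat.card {a : A // (a : Module.End F K) v = 0}) Set.finite_univ ⟨0, trivial⟩
    refine ⟨v, fun a ha hav => ?_⟩
    by_contra ha0
    obtain ⟨e, he_def⟩ : ∃ e, e = a ^ (Q - 1) := ⟨_, rfl⟩
    have he : e ∈ A := he_def ▸ A.pow_mem ha _
    have hae : e * a = a := by
      rw [he_def, ← pow_succ, Nat.sub_add_cancel hQ1.le, hQid a ha]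
    have hee : e * e = e := by
      rw [he_def, ← pow_add, show Q - 1 + (Q - 1) = Q + (Q - 2) by omega, pow_add, hQid a ha,
        ← pow_succ']
      congr 1; omega
    have hev : e v = 0 := by
      rw [he_def, show Q - 1 = Q - 2 + 1 by omega, pow_succ, Module.End.mul_apply, hav, map_zero]
    obtain ⟨w, hw⟩ : ∃ w, e w ≠ 0 := by
      by_contra! hall
      apply ha0
      rw [← hae, show e = 0 from LinearMap.ext hall, zero_mul]
    have h := hmin (v + e w) trivial
    refine absurd h (not_le.mpr ?_)
    have hsub : ∀ b : A, (b : Module.End F K) (v + e w) = 0 → (b : Module.End F K) v = 0 := by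
      intro b hb
      have hbe : ∀ y, e ((b : Module.End F K) y) = (b : Module.End F K) (e y) := fun y =>
        LinearMap.congr_fun (hcomm e he b b.2) y
      have h1 := congrArg e hb
      rw [map_add, map_add, map_zero, hbe v, hev, map_zero, zero_add, hbe (e w),
        show e (e w) = (e * e) w from rfl, hee] at h1
      rwa [map_add, h1, add_zero] at hb
    refine lt_of_le_of_ne (Nat.card_le_card_of_injective
      (fun b => ⟨b.1, hsub b.1 b.2⟩) fun b c hbc => Subtype.ext (congrArg (fun z => z.1) hbc)) ?_
    intro heq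
    have hb := (Nat.bijective_iff_injective_and_card
      (fun b : {b : A // (b : Module.End F K) (v + e w) = 0} =>
        (⟨b.1, hsub b.1 b.2⟩ : {b : A // (b : Module.End F K) v = 0}))).mpr
      ⟨fun b c hbc => Subtype.ext (congrArg (fun z => z.1) hbc), heq⟩
    obtain ⟨⟨b, hb'⟩, hbe⟩ := hb.2 ⟨⟨e, he⟩, hev⟩
    have hbe' : b = ⟨e, he⟩ := congrArg (fun z => z.1) hbe
    subst hbe'
    apply hw
    simp only [map_add, hev, zero_add, show e (e w) = (e * e) w from rfl, hee] at hb'
    exact hb'
  let ev : A → K := fun a => (a : Module.End F K) v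
  have hev : Function.Injective ev := fun a b hab => by
    apply Subtype.ext
    rw [← sub_eq_zero]
    refine hv _ (A.sub_mem a.2 b.2) ?_
    rw [LinearMap.sub_apply, sub_eq_zero]
    exact hab
  have hUA : ∀ u ∈ U, (u : Module.End F K) ∈ A := fun u hu =>
    Algebra.subset_adjoin ⟨u, hu, rfl⟩
  let ι : Option U → A := fun o => o.elim 0 fun u => ⟨(u : (Module.End F K)ˣ), hUA _ u.2⟩
  have hι : Function.Injective ι := by
    intro a b hab
    have hval := congrArg Subtype.val hab
    rcases a with _ | a <;> rcases b with _ | b <;> simp [ι] at hval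
    · rfl
    · exact absurd hval.symm (Units.ne_zero _)
    · exact congrArg some (Subtype.ext (Units.ext hval))
  have hfinA : Finite A := Finite.of_injective ev hev
  have hcardA : Nat.card A = Nat.card K := by
    refine le_antisymm (Nat.card_le_card_of_injective ev hev) ?_
    refine le_trans ?_ (Nat.card_le_card_of_injective ι hι)
    rw [Finite.card_option, hcard, Nat.card_eq_fintype_card]
    omega
  have hevb : Function.Bijective ev :=
    (Nat.bijective_iff_injective_and_card ev).mpr ⟨hev, hcardA⟩
  have hιb : Function.Bijective ι := (Nat.bijective_iff_injective_and_card ι).mpr ⟨hι, by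
    rw [hcardA, Finite.card_option, hcard, Nat.card_eq_fintype_card]; omega⟩
  let _ : CommRing A :=
    { A.toRing with mul_comm := fun a b => Subtype.ext (hcomm a a.2 b b.2) }
  have hfield : IsField A :=
    { exists_pair_ne := ⟨0, 1, fun h => by
        have := congrArg Subtype.val h
        simp at this⟩
      mul_comm := mul_comm
      mul_inv_cancel := by
        intro a ha
        obtain ⟨o, rfl⟩ := hιb.2 a
        rcases o with _ | u
        · exact absurd rfl ha
        · exact ⟨ι (some u⁻¹), Subtype.ext (by simp [ι])⟩ }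
  let _ : Field A := hfield.toField
  have hrank : Module.finrank F A = Module.finrank F K := by
    let l : A →ₗ[F] K := ((LinearMap.applyₗ v).comp A.val.toLinearMap)
    exact (LinearEquiv.ofBijective l hevb).finrank_eq
  obtain ⟨φ⟩ := FiniteField.nonempty_algHom_of_finrank_dvd (F := F) (K := A) (L := K) (hrank ▸ dvd_rfl)
  let l : A ≃ₗ[F] K := LinearEquiv.ofBijective ((LinearMap.applyₗ v).comp A.val.toLinearMap) hevb
  have hφb : Function.Bijective φ :=
    (Nat.bijective_iff_injective_and_card φ).mpr ⟨φ.injective, hcardA⟩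
  let ψ : A ≃ₗ[F] K := LinearEquiv.ofBijective φ.toLinearMap hφb
  have hψ : ∀ a, ψ a = φ a := fun a => rfl
  let T : K ≃ₗ[F] K := l.symm.trans ψ
  refine ⟨⟨T.toLinearMap, T.symm.toLinearMap, by ext; simp, by ext; simp⟩, ?_⟩
  set g : (Module.End F K)ˣ := ⟨T.toLinearMap, T.symm.toLinearMap, by ext; simp, by ext; simp⟩ with hg
  apply Subgroup.eq_of_le_of_card_ge
  · rintro _ ⟨u, hu, rfl⟩
    have hu0 : φ ⟨(u : Module.End F K), hUA u hu⟩ ≠ 0 := by
      rw [ne_eq, map_eq_zero_iff φ φ.injective, Subtype.ext_iff]
      exact Units.ne_zero u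
    refine ⟨Units.mk0 _ hu0, Units.ext (LinearMap.ext fun x => ?_)⟩
    obtain ⟨b, rfl⟩ := ψ.surjective x
    have h1 : (g⁻¹ : (Module.End F K)ˣ).val (ψ b) = l b := by
      show l (ψ.symm (ψ b)) = l b
      rw [LinearEquiv.symm_apply_apply]
    have h2 : (u : Module.End F K) (l b) = l (⟨(u : Module.End F K), hUA u hu⟩ * b) := rfl
    show φ ⟨(u : Module.End F K), hUA u hu⟩ * ψ b =
      T ((u : Module.End F K) ((g⁻¹ : (Module.End F K)ˣ).val (ψ b)))
    rw [h1, h2]
    show _ = ψ (l.symm (l _))
    rw [LinearEquiv.symm_apply_apply, hψ, hψ, map_mul]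
  · rw [Subgroup.card_map_of_injective (MulAut.conj g).injective, hcard]
    refine le_trans (Nat.card_le_card_of_surjective _ (MonoidHom.rangeRestrict_surjective _)) ?_
    rw [Nat.card_units, Nat.card_eq_fintype_card]

end Cfsg.Agent.S5947
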