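import Cfsg.Statements.S5949
import Cfsg.Agent.Lib.PrimeOrderLinear84
-- import your own Cfsg.Agent.* helpers here

set_option autoImplicit false
open scoped MatrixGroups
open Cfsg

namespace Cfsg.Agent.S5949

open Cfsg.Agent.PrimeOrderModule84 Cfsg.Agent.PrimeOrderLinear84 Module

/-- Elements of prime order of PSL_n(q) with no fixed `m`-space. Here `T = PSL_n(F)` for a field `F` with `q = p^f` elements (`n ≥ 2`, `(n, q) ≠ (2, 2), (2, 3)`); an element of `T` of prime order `r` is represented by a matrix `x` of determinant 1 with `x^r` scalar and `x` not scalar; `i` denotes the multiplicative order of `q` modulo `r` (when `r ≠ p`), and `(a)_r` the `r`-part of `a`. Let `1 ≤ m ≤ n/2` and let `r` be a prime dividing the number of `m`-dimensional subspaces of `F^n`. Then every element of `T` of order `r` fixes some `m`-dimensional subspace (the action on `m`-spaces is `r`-elusive) if and only if `r ≠ p` and either (i) `i = 1` and (`r ∣ m`, or `(q−1)_r ≥ (n)_r` where in addition `q ≡ 1 (mod 4)`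 is required when `r = 2` and `n` is even), or (ii) `2 ≤ i ≤ m` and `n mod i ≥ m mod i`. -/
theorem result {F : Type*} [Field F] [Fintype F] {p : ℕ} [Fact p.Prime] [CharP F p] {q : ℕ} (hq : Fintype.card F = q)
    (n m : ℕ) (hn : 2 ≤ n) (hT : (n, q) ≠ (2, 2) ∧ (n, q) ≠ (2, 3)) (hm : 1 ≤ m) (hmn : 2 * m ≤ n)
    (r : ℕ) [Fact r.Prime] (hrΩ : r ∣ Nat.card {W : Submodule F (Fin n → F) // Module.finrank F ↥W = m}) :
    (∀ x : Matrix.SpecialLinearGroup (Fin n) F,
      (∃ c : F, ((x ^ r : Matrix.SpecialLinearGroup (Fin n) F) : Matrix (Fin n) (Fin n) F) = c • (1 : Matrix (Fin n) (Fin n) F)) →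
      (∀ c : F, (x : Matrix (Fin n) (Fin n) F) ≠ c • (1 : Matrix (Fin n) (Fin n) F)) →
      ∃ W : Submodule F (Fin n → F), Module.finrank F ↥W = m ∧ W.map (Matrix.toLin' (x : Matrix (Fin n) (Fin n) F)) ≤ W) ↔
    (r ≠ p ∧
      ((orderOf (q : ZMod r) = 1 ∧ (r ∣ m ∨ (padicValNat r n ≤ padicValNat r (q - 1) ∧ (r = 2 → Even n → q % 4 = 1)))) ∨
       (2 ≤ orderOf (q : ZMod r) ∧ orderOf (q : ZMod r) ≤ m ∧ m % orderOf (q : ZMod r) ≤ n % orderOf (q : ZMod r)))) := by
  classical
  subst hq
  have hnV : finrank F (Fin n → F) = n := Module.finrank_fin_fun F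
  have hrp : r ≠ p := by
    rintro rfl
    exact not_char_dvd_card_subspaces (V := Fin n → F) (by omega) hrΩ
  have hr : (r : F) ≠ 0 := by
    rw [Ne, CharP.cast_eq_zero_iff F p, Nat.prime_dvd_prime_iff_eq Fact.out Fact.out]
    exact fun e => hrp e.symm
  let Q : Module.End F (Fin n → F) → Prop := fun g =>
    ∃ W : Submodule F (Fin n → F), finrank F ↥W = m ∧ W.map g ≤ W
  have hQ : ∀ (w : F) (g : Module.End F (Fin n → F)), w ≠ 0 → (Q (w • g) ↔ Q g) := fun w g hw =>
    exists_congr fun W => and_congr_right fun _ => map_smul_le_iff hw W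
  refine (forall_SL_iff r Q).trans ?_
  set c := orderOf (Fintype.card F : ZMod r) with hc
  have hcpos : 0 < c := orderOf_card_pos hr
  rcases Nat.lt_or_ge c 2 with hc1 | hc2
  · replace hc1 : c = 1 := by omega
    refine (iff_of_order_one hn hr hc1 Q (r ∣ m) hQ ?_ ?_).trans ?_
    · intro y hy
      set k := finrank F ↥(LinearMap.ker (y - 1)) with hk
      have hkn : k ≤ n := hnV ▸ Submodule.finrank_le _
      obtain ⟨W, hW, hWi⟩ := exists_one hr hy (a := min m k) (b := m - min m k) (min_le_right _ _)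
        (by rw [← hc, hc1, hnV]; omega)
      exact ⟨W, by rw [hW, ← hc, hc1]; omega, hWi⟩
    · intro g z hz hg hnp hrn
      refine ⟨fun ⟨W, hW, hWi⟩ => hW ▸ dvd_finrank_of_pow_smul Fact.out hz hg hnp hWi, fun hrm => ?_⟩
      obtain ⟨b, hb⟩ := hrm
      obtain ⟨U, -, -, hU, -, hUi, -⟩ := exists_pair_smul Fact.out hz hg hnp (le_refl b)
        (by rw [hnV, mul_comm, ← hb]; omega)
      exact ⟨U, by rw [hU, mul_comm, ← hb], hUi⟩
    · constructor
      · exact fun h => ⟨hrp, Or.inl ⟨hc1, h⟩⟩
      · rintro ⟨-, ⟨-, h⟩ | ⟨h, -⟩⟩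
        · exact h
        · omega
  · refine (iff_of_order_ge_two hn hr hc2 Q hQ).trans ?_
    have hex : ∃ i < m, c ∣ n - i := by
      by_contra hne
      push Not at hne
      exact not_dvd_card_subspaces hr (V := Fin n → F) (by omega) (by rw [hnV]; exact hne) hrΩ
    constructor
    · intro h
      obtain ⟨g, hg, hdet, hk⟩ := exists_fpf (V := Fin n → F) hr hc2
      rw [hnV] at hk
      obtain ⟨i, hi, hci⟩ := hex
      have hcn : c ≤ n - i := Nat.le_of_dvd (by omega) hci
      have hlt : n % c < c := Nat.mod_lt n hcpos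
      have hg1 : g ≠ 1 := fun e => by
        rw [e, sub_self, LinearMap.ker_zero, finrank_top, hnV, ← hc] at hk
        omega
      obtain ⟨W, hW, hWi⟩ := h g hg hdet hg1
      have h1 := finrank_modEq hr hg hWi
      rw [hW, ← hc] at h1
      set a := finrank F ↥(W ⊓ LinearMap.ker (g - 1) : Submodule F (Fin n → F)) with ha
      have ha' : a ≤ n % c := hk ▸ Submodule.finrank_mono inf_le_right
      rw [Nat.ModEq, Nat.mod_eq_of_lt (show a < c by omega)] at h1
      refine ⟨hrp, Or.inr ⟨hc2, ?_, by omega⟩⟩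
      by_contra hcm
      rw [Nat.mod_eq_of_lt (show m < c by omega)] at h1
      obtain ⟨j, hj⟩ := hci
      have h2 : n % c = i := by
        rw [show n = i + c * j by omega, Nat.add_mul_mod_self_left, Nat.mod_eq_of_lt (by omega)]
      omega
    · rintro ⟨-, ⟨h, -⟩ | ⟨-, hcm, hmod⟩⟩ y hy - -
      · omega
      set k := finrank F ↥(LinearMap.ker (y - 1)) with hk
      have hkn : k ≤ n := hnV ▸ Submodule.finrank_le _
      have h1 := finrank_modEq hr hy (W := ⊤) le_top
      rw [top_inf_eq, finrank_top, hnV, ← hc, ← hk] at h1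
      obtain ⟨K, hK⟩ := (Nat.modEq_iff_dvd' hkn).1 h1.symm
      have hknc : n % c ≤ k := h1.symm ▸ Nat.mod_le k c
      have hKc : K * c + k = n := by rw [mul_comm]; omega
      have hm1 := Nat.mod_add_div' m c
      set b := min K (m / c) with hb
      have hb1 : b * c ≤ m / c * c := Nat.mul_le_mul_right c (min_le_right _ _)
      have hb2 : b * c ≤ K * c := Nat.mul_le_mul_right c (min_le_left _ _)
      have ha : m - b * c ≤ k := by
        rcases le_total K (m / c) with h | h
        · rw [hb, min_eq_left h]; omega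
        · rw [hb, min_eq_right h]; omega
      obtain ⟨W, hW, hWi⟩ := exists_one hr hy (a := m - b * c) (b := b) ha
        (by rw [hnV, ← hc, ← hk]; omega)
      exact ⟨W, by rw [hW, ← hc]; omega, hWi⟩
end Cfsg.Agent.S5949
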