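import Cfsg.Statements.S5950
import Cfsg.Agent.Lib.PrimeOrderLinear84
import Cfsg.Agent.Lib.JordanSplit84
import Cfsg.Agent.Lib.NilpotentPartition
-- import your own Cfsg.Agent.* helpers here

set_option autoImplicit false
open scoped MatrixGroups
open Cfsg

namespace Cfsg.Agent.S5950

open Cfsg.Agent.PrimeOrderModule84 Cfsg.Agent.PrimeOrderLinear84 Module

theorem map_nil_le {F V : Type*} [Field F] [AddCommGroup V] [Module F V] {N : Module.End F V}
    {U : Submodule F V} (h : U.map (1 + N) ≤ U) : U.map N ≤ U := by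
  rw [map_le_iff'] at h ⊢
  intro v hv
  have := U.sub_mem (h v hv) hv
  simpa using this

theorem map_add_le {F V : Type*} [Field F] [AddCommGroup V] [Module F V] {y : Module.End F V}
    {U : Submodule F V} (h : U.map (y - 1) ≤ U) : U.map y ≤ U := by
  rw [map_le_iff'] at h ⊢
  intro v hv
  have := U.add_mem (h v hv) hv
  simpa using this

/-- The unipotent criterion. -/
theorem unipotent_iff {F : Type*} [Field F] {r : ℕ} (n m : ℕ) (hmn : m ≤ n) :
    (∀ N : Module.End F (Fin n → F), N ^ r = 0 → N ≠ 0 → ∃ U W : Submodule F (Fin n → F),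
      IsCompl U W ∧ finrank F ↥U = m ∧ U.map N ≤ U ∧ W.map N ≤ W) ↔
    (∀ μ : Multiset ℕ, (∀ a ∈ μ, 0 < a ∧ a ≤ r) → μ.sum = n → ∃ ν : Multiset ℕ, ν ≤ μ ∧ ν.sum = m) := by
  classical
  constructor
  · intro h μ hμ hsum
    obtain ⟨N, hN⟩ := NilpotentPartition.exists_nilpotent_with_partition (F := F) (V := Fin n → F) μ
      (by rw [hsum, Module.finrank_fin_fun])
    have hNr : N ^ r = 0 := by
      rw [← LinearMap.range_eq_bot, ← Submodule.finrank_eq_zero, hN r, Multiset.sum_eq_zero_iff]
      intro y hy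
      obtain ⟨b, hb, rfl⟩ := Multiset.mem_map.mp hy
      have := hμ b hb; omega
    by_cases hN0 : N = 0
    · have h1 := hN 1
      rw [pow_one, hN0, LinearMap.range_zero, finrank_bot, eq_comm, Multiset.sum_eq_zero_iff] at h1
      have hrep : μ = Multiset.replicate μ.card 1 := Multiset.eq_replicate_card.mpr fun b hb => by
        have h2 := h1 _ (Multiset.mem_map.mpr ⟨b, hb, rfl⟩)
        have := hμ b hb; omega
      refine ⟨Multiset.replicate m 1, ?_, by simp⟩
      rw [hrep] at hsum ⊢
      simp only [Multiset.sum_replicate, smul_eq_mul, mul_one] at hsum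
      rw [Multiset.replicate_le_replicate, hsum]
      exact hmn
    obtain ⟨U, W, hUW, hU, hUi, hWi⟩ := h N hNr hN0
    obtain ⟨ν, hν, hνs⟩ := NilpotentPartition.exists_sub_partition N μ r hNr hN hUi hWi hUW
    exact ⟨ν, hν, hνs.trans hU⟩
  · intro h N hN _
    obtain ⟨μ, hμ, hμs, hμν⟩ := JordanSplit84.exists_partition r n N (Module.finrank_fin_fun F) hN
    obtain ⟨ν, hν, hνs⟩ := h μ hμ hμs
    obtain ⟨U, W, hUW, hUi, hWi, hU⟩ := hμν ν hν
    exact ⟨U, W, hUW, hU.trans hνs, hUi, hWi⟩

/-- Sub-multisets of partitions into parts of size at most two. -/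
theorem two_iff (n m : ℕ) (hmn : 2 * m ≤ n) :
    (∀ μ : Multiset ℕ, (∀ a ∈ μ, 0 < a ∧ a ≤ 2) → μ.sum = n → ∃ ν : Multiset ℕ, ν ≤ μ ∧ ν.sum = m) ↔
      (Odd n ∨ Even m) := by
  constructor
  · intro h
    by_contra hcon
    rw [not_or, Nat.not_odd_iff_even, Nat.not_even_iff_odd] at hcon
    obtain ⟨⟨a, ha⟩, hm⟩ := hcon
    obtain ⟨ν, hν, hνs⟩ := h (Multiset.replicate a 2)
      (fun x hx => by rw [Multiset.eq_of_mem_replicate hx]; omega) (by simp; omega)
    obtain ⟨j, hj, rfl⟩ := Multiset.le_replicate_iff.1 hν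
    simp at hνs
    exact absurd hm (Nat.not_odd_iff_even.2 ⟨j, by omega⟩)
  · intro hc μ hμ hsum
    have hμe : μ = Multiset.replicate (μ.count 2) 2 + Multiset.replicate (μ.count 1) 1 := by
      refine Multiset.ext.2 fun x => ?_
      rw [Multiset.count_add, Multiset.count_replicate, Multiset.count_replicate]
      by_cases hx : x ∈ μ
      · have := hμ x hx
        rcases (show x = 1 ∨ x = 2 by omega) with rfl | rfl <;> simp
      · have h0 := Multiset.count_eq_zero.2 hx
        split_ifs with h1 h2 h2 <;> simp_all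
    rw [hμe] at hsum ⊢
    simp only [Multiset.sum_add, Multiset.sum_replicate, smul_eq_mul, mul_one] at hsum
    set a := μ.count 2
    set b := μ.count 1
    refine ⟨Multiset.replicate (min a (m / 2)) 2 + Multiset.replicate (m - 2 * min a (m / 2)) 1,
      add_le_add ((Multiset.replicate_le_replicate 2).2 (min_le_left _ _))
        ((Multiset.replicate_le_replicate 1).2 ?_), ?_⟩
    · rcases le_total a (m / 2) with h | h
      · rw [min_eq_left h]; omega
      · rw [min_eq_right h]
        rcases hc with ⟨j, hj⟩ | ⟨j, hj⟩ <;> omega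
    · simp only [Multiset.sum_add, Multiset.sum_replicate, smul_eq_mul, mul_one]
      omega

/-- The semisimple criterion. -/
theorem semisimple_iff {F : Type*} [Field F] [Fintype F] {p : ℕ} [CharP F p] (n m : ℕ) (hn : 3 ≤ n)
    (hm : 1 ≤ m) (hmn : 2 * m < n) (r : ℕ) [Fact r.Prime] (hr : (r : F) ≠ 0)
    (hrΩ : r ∣ Nat.card {P : Submodule F (Fin n → F) × Submodule F (Fin n → F) //
      IsCompl P.1 P.2 ∧ finrank F ↥P.1 = m}) :
    (∀ g : Module.End F (Fin n → F), LinearMap.det g = 1 → ∀ z : F, g ^ r = z • 1 →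
      (∀ c : F, g ≠ c • 1) → ∃ U W : Submodule F (Fin n → F), IsCompl U W ∧ finrank F ↥U = m ∧
        U.map g ≤ U ∧ W.map g ≤ W) ↔
    ((orderOf (Fintype.card F : ZMod r) = 1 ∧ (r ∣ m ∨ (padicValNat r n ≤ padicValNat r (Fintype.card F - 1) ∧ (r = 2 → Even n → Fintype.card F % 4 = 1)))) ∨
       (2 ≤ orderOf (Fintype.card F : ZMod r) ∧ orderOf (Fintype.card F : ZMod r) ≤ m ∧
         m % orderOf (Fintype.card F : ZMod r) ≤ n % orderOf (Fintype.card F : ZMod r))) := by
  classical
  have hnV : finrank F (Fin n → F) = n := Module.finrank_fin_fun F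
  let Q : Module.End F (Fin n → F) → Prop := fun g =>
    ∃ U W : Submodule F (Fin n → F), IsCompl U W ∧ finrank F ↥U = m ∧ U.map g ≤ U ∧ W.map g ≤ W
  have hQ : ∀ (w : F) (g : Module.End F (Fin n → F)), w ≠ 0 → (Q (w • g) ↔ Q g) := fun w g hw => by
    refine exists_congr fun U => exists_congr fun W => ?_
    rw [map_smul_le_iff hw, map_smul_le_iff hw]
  have hcompl : ∀ (g : Module.End F (Fin n → F)) (z : F), z ≠ 0 → g ^ r = z • 1 →
      ∀ U : Submodule F (Fin n → F), U.map g ≤ U →
        ∃ W : Submodule F (Fin n → F), IsCompl U W ∧ W.map g ≤ W := by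
    intro g z hz hg U hU
    have hss : g.IsSemisimple := Module.End.isSemisimple_of_squarefree_aeval_eq_zero
      (p := Polynomial.X ^ r - Polynomial.C z)
      (Polynomial.separable_X_pow_sub_C z hr hz).squarefree
      (by rw [map_sub, map_pow, Polynomial.aeval_X, Polynomial.aeval_C, hg,
        Algebra.algebraMap_eq_smul_one, sub_self])
    obtain ⟨W, hW, hUW⟩ := Module.End.isSemisimple_iff.1 hss U
      ((Module.End.mem_invtSubmodule _).2 (Submodule.map_le_iff_le_comap.1 hU))
    exact ⟨W, hUW, Submodule.map_le_iff_le_comap.2 ((Module.End.mem_invtSubmodule _).1 hW)⟩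
  set c := orderOf (Fintype.card F : ZMod r) with hc
  have hcpos : 0 < c := orderOf_card_pos hr
  rcases Nat.lt_or_ge c 2 with hc1 | hc2
  · replace hc1 : c = 1 := by omega
    refine (iff_of_order_one (by omega) hr hc1 Q (r ∣ m) hQ ?_ ?_).trans ?_
    · intro y hy
      set k := finrank F ↥(LinearMap.ker (y - 1)) with hk
      have hkn : k ≤ n := hnV ▸ Submodule.finrank_le _
      obtain ⟨W, hW, hWi⟩ := exists_one hr hy (a := min m k) (b := m - min m k) (min_le_right _ _)
        (by rw [← hc, hc1, hnV]; omega)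
      obtain ⟨W', h1, h2⟩ := hcompl y 1 one_ne_zero (by rw [hy, one_smul]) W hWi
      exact ⟨W, W', h1, by rw [hW, ← hc, hc1]; omega, hWi, h2⟩
    · intro g z hz hg hnp hrn
      refine ⟨fun ⟨W, _, _, hW, hWi, _⟩ => hW ▸ dvd_finrank_of_pow_smul Fact.out hz hg hnp hWi, fun hrm => ?_⟩
      obtain ⟨b, hb⟩ := hrm
      obtain ⟨U, -, -, hU, -, hUi, -⟩ := exists_pair_smul Fact.out hz hg hnp (le_refl b)
        (by rw [hnV, mul_comm, ← hb]; omega)
      obtain ⟨W', h1, h2⟩ := hcompl g z hz hg U hUi
      exact ⟨U, W', h1, by rw [hU, mul_comm, ← hb], hUi, h2⟩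
    · constructor
      · exact fun h => Or.inl ⟨hc1, h⟩
      · rintro (⟨-, h⟩ | ⟨h, -⟩)
        · exact h
        · omega
  · refine (iff_of_order_ge_two (by omega) hr hc2 Q hQ).trans ?_
    have hex : ∃ i < m, c ∣ n - i := by
      by_contra hne
      push Not at hne
      apply not_dvd_card_subspaces hr (V := Fin n → F) (m := m) (by omega) (by rw [hnV]; exact hne)
      have e : {P : Submodule F (Fin n → F) × Submodule F (Fin n → F) //
          IsCompl P.1 P.2 ∧ finrank F ↥P.1 = m} ≃
          Σ U : {U : Submodule F (Fin n → F) // finrank F ↥U = m}, {W : Submodule F (Fin n → F) // IsCompl U.1 W} :=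
        { toFun := fun P => ⟨⟨P.1.1, P.2.2⟩, P.1.2, P.2.1⟩
          invFun := fun x => ⟨(x.1.1, x.2.1), x.2.2, x.1.2⟩
          left_inv := fun _ => rfl
          right_inv := fun _ => rfl }
      have : Fintype {U : Submodule F (Fin n → F) // finrank F ↥U = m} := Fintype.ofFinite _
      rw [Nat.card_congr e, Nat.card_sigma,
        Finset.sum_congr rfl (fun U _ => card_complements U.2), Finset.sum_const, Finset.card_univ,
        smul_eq_mul, ← Nat.card_eq_fintype_card, (Fact.out : r.Prime).dvd_mul] at hrΩ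
      refine hrΩ.resolve_right fun hd => ?_
      exact natCast_card_ne_zero hr
        ((ZMod.natCast_eq_zero_iff _ _).2 ((Fact.out : r.Prime).dvd_of_dvd_pow hd))
    constructor
    · intro h
      obtain ⟨g, hg, hdet, hk⟩ := exists_fpf (V := Fin n → F) hr hc2
      rw [hnV] at hk
      obtain ⟨i, hi, hci⟩ := hex
      have hcn : c ≤ n - i := Nat.le_of_dvd (by omega) hci
      have hlt : n % c < c := Nat.mod_lt n hcpos
      have hg1 : g ≠ 1 := fun e => by
        rw [e, sub_self, LinearMap.ker_zero, finrank_top, hnV, ← hc] at hk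
        omega
      obtain ⟨W, -, -, hW, hWi, -⟩ := h g hg hdet hg1
      have h1 := finrank_modEq hr hg hWi
      rw [hW, ← hc] at h1
      set a := finrank F ↥(W ⊓ LinearMap.ker (g - 1) : Submodule F (Fin n → F)) with ha
      have ha' : a ≤ n % c := hk ▸ Submodule.finrank_mono inf_le_right
      rw [Nat.ModEq, Nat.mod_eq_of_lt (show a < c by omega)] at h1
      refine Or.inr ⟨hc2, ?_, by omega⟩
      by_contra hcm
      rw [Nat.mod_eq_of_lt (show m < c by omega)] at h1
      obtain ⟨j, hj⟩ := hci
      have h2 : n % c = i := by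
        rw [show n = i + c * j by omega, Nat.add_mul_mod_self_left, Nat.mod_eq_of_lt (by omega)]
      omega
    · rintro (⟨h, -⟩ | ⟨-, hcm, hmod⟩) y hy - -
      · omega
      set k := finrank F ↥(LinearMap.ker (y - 1)) with hk
      have hkn : k ≤ n := hnV ▸ Submodule.finrank_le _
      have h1 := finrank_modEq hr hy (W := ⊤) le_top
      rw [top_inf_eq, finrank_top, hnV, ← hc, ← hk] at h1
      obtain ⟨K, hK⟩ := (Nat.modEq_iff_dvd' hkn).1 h1.symm
      have hknc : n % c ≤ k := h1.symm ▸ Nat.mod_le k c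
      have hKc : K * c + k = n := by rw [mul_comm]; omega
      have hm1 := Nat.mod_add_div' m c
      set b := min K (m / c) with hb
      have hb1 : b * c ≤ m / c * c := Nat.mul_le_mul_right c (min_le_right _ _)
      have hb2 : b * c ≤ K * c := Nat.mul_le_mul_right c (min_le_left _ _)
      have ha : m - b * c ≤ k := by
        rcases le_total K (m / c) with h | h
        · rw [hb, min_eq_left h]; omega
        · rw [hb, min_eq_right h]; omega
      obtain ⟨W, hW, hWi⟩ := exists_one hr hy (a := m - b * c) (b := b) ha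
        (by rw [hnV, ← hc, ← hk]; omega)
      obtain ⟨W', h2, h3⟩ := hcompl y 1 one_ne_zero (by rw [hy, one_smul]) W hWi
      exact ⟨W, W', h2, by rw [hW, ← hc]; omega, hWi, h3⟩

/-- Elements of prime order of PSL_n(q) fixing no decomposition `F^n = U ⊕ W` with `dim U = m`. Here `T = PSL_n(F)` for a field `F` with `q = p^f` elements (`n ≥ 2`, `(n, q) ≠ (2, 2), (2, 3)`); an element of `T` of prime order `r` is represented by a matrix `x` of determinant 1 with `x^r` scalar and `x` not scalar; `i` denotes the multiplicative order of `q` modulo `r` (when `r ≠ p`), and `(a)_r` the `r`-part of `a`. Let `n ≥ 3`, `1 ≤ m < n/2`, and let `r` be a prime dividing the number of such decompositions (unordered pairs `{U, W}` of complementary subspaces with `dim U = m`; since `m ≠ n − m` these are the ordered pairs with `dim U = m`). Then every element of `T` of order `r` fixes such a pair (fixes both `U` and `W` for some complementary `U, W` with `dim U = m`) if and only if one of: (i) `r = p > 2` and every partition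 of `n` into parts of size at most `p` contains, as a sub-multiset, a partition of `m`; (ii) `r = p = 2` and `n` is odd or `m` is even; (iii) `r ≠ p`, `i = 1`, and `r ∣ m` or `(q−1)_r ≥ (n)_r` (with `q ≡ 1 (mod 4)` required when `r = 2` and `n` is even); (iv) `r ≠ p`, `2 ≤ i ≤ m` and `n mod i ≥ m mod i`. -/
theorem result {F : Type*} [Field F] [Fintype F] {p : ℕ} [Fact p.Prime] [CharP F p] {q : ℕ} (hq : Fintype.card F = q)
    (n m : ℕ) (hn : 3 ≤ n) (hm : 1 ≤ m) (hmn : 2 * m < n)
    (r : ℕ) [Fact r.Prime]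
    (hrΩ : r ∣ Nat.card {P : Submodule F (Fin n → F) × Submodule F (Fin n → F) // IsCompl P.1 P.2 ∧ Module.finrank F ↥P.1 = m}) :
    (∀ x : Matrix.SpecialLinearGroup (Fin n) F,
      (∃ c : F, ((x ^ r : Matrix.SpecialLinearGroup (Fin n) F) : Matrix (Fin n) (Fin n) F) = c • (1 : Matrix (Fin n) (Fin n) F)) →
      (∀ c : F, (x : Matrix (Fin n) (Fin n) F) ≠ c • (1 : Matrix (Fin n) (Fin n) F)) →
      ∃ U W : Submodule F (Fin n → F), IsCompl U W ∧ Module.finrank F ↥U = m ∧
        U.map (Matrix.toLin' (x : Matrix (Fin n) (Fin n) F)) ≤ U ∧ W.map (Matrix.toLin' (x : Matrix (Fin n) (Fin n) F)) ≤ W) ↔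
    ((r = p ∧ 2 < p ∧ (∀ μ : Multiset ℕ, (∀ a ∈ μ, 0 < a ∧ a ≤ p) → μ.sum = n → ∃ ν : Multiset ℕ, ν ≤ μ ∧ ν.sum = m)) ∨
     (r = p ∧ p = 2 ∧ (Odd n ∨ Even m)) ∨
     (r ≠ p ∧
      ((orderOf (q : ZMod r) = 1 ∧ (r ∣ m ∨ (padicValNat r n ≤ padicValNat r (q - 1) ∧ (r = 2 → Even n → q % 4 = 1)))) ∨
       (2 ≤ orderOf (q : ZMod r) ∧ orderOf (q : ZMod r) ≤ m ∧ m % orderOf (q : ZMod r) ≤ n % orderOf (q : ZMod r))))) := by
  classical
  subst hq
  have hnV : finrank F (Fin n → F) = n := Module.finrank_fin_fun F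
  let Q : Module.End F (Fin n → F) → Prop := fun g =>
    ∃ U W : Submodule F (Fin n → F), IsCompl U W ∧ finrank F ↥U = m ∧ U.map g ≤ U ∧ W.map g ≤ W
  have hQ : ∀ (w : F) (g : Module.End F (Fin n → F)), w ≠ 0 → (Q (w • g) ↔ Q g) := fun w g hw => by
    refine exists_congr fun U => exists_congr fun W => ?_
    rw [map_smul_le_iff hw, map_smul_le_iff hw]
  refine (forall_SL_iff r Q).trans ?_
  by_cases hrp : r = p
  · subst hrp
    have : Nonempty (Fin n) := ⟨⟨0, by omega⟩⟩
    have : CharP (Module.End F (Fin n → F)) r :=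
      charP_of_injective_algebraMap (algebraMap F _).injective r
    have key := unipotent_iff (F := F) (r := r) n m (by omega)
    refine Iff.trans ?_ (key.trans ?_)
    · constructor
      · intro h N hN hN0
        have hg : (1 + N) ^ r = 1 := by
          rw [add_pow_char_of_commute r (Commute.one_left N), one_pow, hN, add_zero]
        have hdet : LinearMap.det (1 + N) = 1 := by
          apply frobenius_inj F r
          rw [frobenius_def, frobenius_def, ← map_pow, hg, map_one, one_pow]
        have hns : ∀ c : F, 1 + N ≠ c • 1 := by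
          intro c hc
          have hN' : N = (c - 1) • 1 := by
            rw [show (c - 1) • (1 : Module.End F (Fin n → F)) = c • 1 - 1 from LinearMap.ext fun x => by simp [sub_smul], ← hc]
            abel
          rw [hN', smul_pow, one_pow, smul_eq_zero] at hN
          have : Nonempty (Fin n) := ⟨⟨0, by omega⟩⟩
          rcases hN with h0 | h0
          · rw [pow_eq_zero_iff (Fact.out : r.Prime).ne_zero] at h0
            exact hN0 (by rw [hN', h0, zero_smul])
          · exact one_ne_zero h0
        obtain ⟨U, W, hUW, hU, hUi, hWi⟩ := h (1 + N) hdet 1 (by rw [hg, one_smul]) hns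
        refine ⟨U, W, hUW, hU, ?_, ?_⟩
        · exact map_nil_le hUi
        · exact map_nil_le hWi
      · intro h g hdet z hz hns
        have hz0 := ne_zero_of_pow (by omega) hdet hz
        obtain ⟨w, hw⟩ := (PerfectRing.bijective_frobenius (R := F) (p := r)).2 z
        change w ^ r = z at hw
        have hw0 : w ≠ 0 := fun e => hz0 (by rw [← hw, e, zero_pow (Fact.out : r.Prime).ne_zero])
        have hy := pow_normalize hw hw0 hz
        have hN : (w⁻¹ • g - 1) ^ r = 0 := by
          rw [sub_pow_char_of_commute r (Commute.one_right _), one_pow, hy, sub_self]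
        have hN0 : w⁻¹ • g - 1 ≠ 0 := by
          intro e
          rw [sub_eq_zero] at e
          apply hns w
          rw [← e, smul_smul, mul_inv_cancel₀ hw0, one_smul]
        obtain ⟨U, W, hUW, hU, hUi, hWi⟩ := h _ hN hN0
        refine (hQ w⁻¹ g (inv_ne_zero hw0)).1 ⟨U, W, hUW, hU, ?_, ?_⟩
        · exact map_add_le hUi
        · exact map_add_le hWi
    · constructor
      · intro h
        rcases (Fact.out : r.Prime).eq_two_or_odd' with h2 | h2
        · subst h2
          exact Or.inr (Or.inl ⟨rfl, rfl, (two_iff n m (by omega)).1 h⟩)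
        · refine Or.inl ⟨rfl, ?_, h⟩
          have := (Fact.out : r.Prime).two_le
          obtain ⟨j, hj⟩ := h2
          omega
      · rintro (⟨-, -, h⟩ | ⟨-, h2, h⟩ | ⟨hne, -⟩)
        · exact h
        · subst h2; exact (two_iff n m (by omega)).2 h
        · exact absurd rfl hne
  · have hr : (r : F) ≠ 0 := by
      rw [Ne, CharP.cast_eq_zero_iff F p, Nat.prime_dvd_prime_iff_eq Fact.out Fact.out]
      exact fun e => hrp e.symm
    refine Iff.trans ?_ (semisimple_iff (p := p) n m hn hm hmn r hr hrΩ)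
      |>.trans ⟨fun h => Or.inr (Or.inr ⟨hrp, h⟩), ?_⟩
    · exact Iff.rfl
    · rintro (⟨h, -⟩ | ⟨h, -⟩ | ⟨-, h⟩)
      · exact absurd h hrp
      · exact absurd h hrp
      · exact h
end Cfsg.Agent.S5950
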