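import Cfsg.Statements.S5951
import Cfsg.Agent.Lib.PrimeOrderLinear84
-- import your own Cfsg.Agent.* helpers here

set_option autoImplicit false
open scoped MatrixGroups
open Cfsg

namespace Cfsg.Agent.S5951

open Cfsg.Agent.PrimeOrderModule84 Cfsg.Agent.PrimeOrderLinear84 Module

/-- The number of flags is prime to `r` if both Gaussian coefficients are. -/
theorem not_dvd_card_flags {F : Type*} [Field F] [Fintype F] {r : ℕ} [Fact r.Prime] (n m : ℕ)
    (hmn : 2 * m < n)
    (h1 : ¬ r ∣ Nat.card {W : Submodule F (Fin n → F) // finrank F ↥W = m})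
    (h2 : ∀ W : Submodule F (Fin n → F), finrank F ↥W = n - m →
      ¬ r ∣ Nat.card {U : Submodule F ↥W // finrank F ↥U = m}) :
    ¬ r ∣ Nat.card {P : Submodule F (Fin n → F) × Submodule F (Fin n → F) //
        P.1 ≤ P.2 ∧ finrank F ↥P.1 = m ∧ finrank F ↥P.2 = n - m} := by
  classical
  let e : {P : Submodule F (Fin n → F) × Submodule F (Fin n → F) //
        P.1 ≤ P.2 ∧ finrank F ↥P.1 = m ∧ finrank F ↥P.2 = n - m} ≃
      Σ W : {W : Submodule F (Fin n → F) // finrank F ↥W = n - m},
        {U : Submodule F ↥W.1 // finrank F ↥U = m} :=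
    { toFun := fun P => ⟨⟨P.1.2, P.2.2.2⟩, P.1.1.comap P.1.2.subtype,
        (Submodule.comapSubtypeEquivOfLe P.2.1).finrank_eq.trans P.2.2.1⟩
      invFun := fun x => ⟨(x.2.1.map x.1.1.subtype, x.1.1), Submodule.map_subtype_le _ _,
        (Submodule.finrank_map_subtype_eq _ _).trans x.2.2, x.1.2⟩
      left_inv := fun P => Subtype.ext (Prod.ext (by
        simp only [Submodule.map_comap_subtype, inf_eq_right]; exact P.2.1) rfl)
      right_inv := fun x => by
        obtain ⟨⟨W, hW⟩, ⟨U, hU⟩⟩ := x
        simp [Submodule.comap_map_eq_of_injective W.injective_subtype] }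
  rw [Nat.card_congr e]
  have : Fintype {W : Submodule F (Fin n → F) // finrank F ↥W = n - m} := Fintype.ofFinite _
  rw [Nat.card_sigma]
  have hnV : finrank F (Fin n → F) = n := Module.finrank_fin_fun F
  obtain ⟨W₀, -, -, hW₀⟩ := exists_between (bot_le : (⊥ : Submodule F (Fin n → F)) ≤ ⊤) (k := n - m)
    (by simp) (by rw [finrank_top, hnV]; omega)
  have hconst : ∀ W : {W : Submodule F (Fin n → F) // finrank F ↥W = n - m},
      Nat.card {U : Submodule F ↥W.1 // finrank F ↥U = m} =
        Nat.card {U : Submodule F ↥W₀ // finrank F ↥U = n - m - m} := fun W =>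
    card_subspaces_symm (hW₀.trans W.2.symm) (by rw [W.2]; omega)
  rw [Finset.sum_congr rfl (fun W _ => hconst W), Finset.sum_const, Finset.card_univ,
    smul_eq_mul, ← Nat.card_eq_fintype_card,
    card_subspaces_symm (V' := Fin n → F) (b := m) rfl (by rw [hnV]; omega),
    ← card_subspaces_symm (V := ↥W₀) (V' := ↥W₀) (a := m) rfl (by rw [hW₀]; omega),
    (Fact.out : r.Prime).dvd_mul]
  exact fun h => h.elim h1 (h2 W₀ hW₀)

/-- Elements of prime order of PSL_n(q) fixing no pair of subspaces `U < W` with `dim U = m`, `dim W = n − m`. Here `T = PSL_n(F)` for a field `F` with `q = p^f` elements (`n ≥ 2`, `(n, q) ≠ (2, 2), (2, 3)`); an element of `T` of prime order `r` is represented by a matrix `x` of determinant 1 with `x^r` scalar and `x` not scalar; `i` denotes the multiplicative order of `q` modulo `r` (when `r ≠ p`), and `(a)_r` the `r`-part of `a`. Let `1 ≤ m < n/2` and let `r` be a prime dividing the number of such pairs. Then every element of `T` of order `r` fixes such a pair (both `U` and `W`)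 if and only if `r ≠ p` and either (i) `i = 1` and (`r ∣ m`, or `(q−1)_r ≥ (n)_r` with `q ≡ 1 (mod 4)` required when `r = 2` and `n` is even), or (ii) `2 ≤ i ≤ m` and `n mod i ≥ 2 (m mod i)`. -/
theorem result {F : Type*} [Field F] [Fintype F] {p : ℕ} [Fact p.Prime] [CharP F p] {q : ℕ} (hq : Fintype.card F = q)
    (n m : ℕ) (hn : 2 ≤ n) (hT : (n, q) ≠ (2, 2) ∧ (n, q) ≠ (2, 3)) (hm : 1 ≤ m) (hmn : 2 * m < n)
    (r : ℕ) [Fact r.Prime]
    (hrΩ : r ∣ Nat.card {P : Submodule F (Fin n → F) × Submodule F (Fin n → F) //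
        P.1 ≤ P.2 ∧ Module.finrank F ↥P.1 = m ∧ Module.finrank F ↥P.2 = n - m}) :
    (∀ x : Matrix.SpecialLinearGroup (Fin n) F,
      (∃ c : F, ((x ^ r : Matrix.SpecialLinearGroup (Fin n) F) : Matrix (Fin n) (Fin n) F) = c • (1 : Matrix (Fin n) (Fin n) F)) →
      (∀ c : F, (x : Matrix (Fin n) (Fin n) F) ≠ c • (1 : Matrix (Fin n) (Fin n) F)) →
      ∃ U W : Submodule F (Fin n → F), U ≤ W ∧ Module.finrank F ↥U = m ∧ Module.finrank F ↥W = n - m ∧
        U.map (Matrix.toLin' (x : Matrix (Fin n) (Fin n) F)) ≤ U ∧ W.map (Matrix.toLin' (x : Matrix (Fin n) (Fin n) F)) ≤ W) ↔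
    (r ≠ p ∧
      ((orderOf (q : ZMod r) = 1 ∧ (r ∣ m ∨ (padicValNat r n ≤ padicValNat r (q - 1) ∧ (r = 2 → Even n → q % 4 = 1)))) ∨
       (2 ≤ orderOf (q : ZMod r) ∧ orderOf (q : ZMod r) ≤ m ∧ 2 * (m % orderOf (q : ZMod r)) ≤ n % orderOf (q : ZMod r)))) := by
  classical
  subst hq
  have hnV : finrank F (Fin n → F) = n := Module.finrank_fin_fun F
  have hcase := not_dvd_card_flags (F := F) (r := r) n m hmn
  have hrp : r ≠ p := by
    rintro rfl
    refine not_dvd_card_flags (F := F) (r := r) n m hmn ?_ ?_ hrΩ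
    · exact not_char_dvd_card_subspaces (by rw [hnV]; omega)
    · intro W hW
      exact not_char_dvd_card_subspaces (by omega)
  have hr : (r : F) ≠ 0 := by
    rw [Ne, CharP.cast_eq_zero_iff F p, Nat.prime_dvd_prime_iff_eq Fact.out Fact.out]
    exact fun e => hrp e.symm
  let Q : Module.End F (Fin n → F) → Prop := fun g =>
    ∃ U W : Submodule F (Fin n → F), U ≤ W ∧ finrank F ↥U = m ∧ finrank F ↥W = n - m ∧
        U.map g ≤ U ∧ W.map g ≤ W
  have hQ : ∀ (w : F) (g : Module.End F (Fin n → F)), w ≠ 0 → (Q (w • g) ↔ Q g) := fun w g hw => by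
    refine exists_congr fun U => exists_congr fun W => ?_
    rw [map_smul_le_iff hw, map_smul_le_iff hw]
  refine (forall_SL_iff r Q).trans ?_
  set c := orderOf (Fintype.card F : ZMod r) with hc
  have hcpos : 0 < c := orderOf_card_pos hr
  rcases Nat.lt_or_ge c 2 with hc1 | hc2
  · replace hc1 : c = 1 := by omega
    refine (iff_of_order_one hn hr hc1 Q (r ∣ m) hQ ?_ ?_).trans ?_
    · intro y hy
      set k := finrank F ↥(LinearMap.ker (y - 1)) with hk
      have hkn : k ≤ n := hnV ▸ Submodule.finrank_le _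
      obtain ⟨U, W, hUW, hU, hW, hUi, hWi⟩ := exists_pair hr hy (a₁ := min m k) (a₂ := min (n - m) k)
        (b₁ := m - min m k) (b₂ := n - m - min (n - m) k) (by omega) (min_le_right _ _) (by omega)
        (by rw [← hc, hc1, hnV]; omega)
      exact ⟨U, W, hUW, by rw [hU, ← hc, hc1]; omega, by rw [hW, ← hc, hc1]; omega, hUi, hWi⟩
    · intro g z hz hg hnp hrn
      refine ⟨fun ⟨U, W, _, hU, _, hUi, _⟩ => hU ▸ dvd_finrank_of_pow_smul Fact.out hz hg hnp hUi,
        fun hrm => ?_⟩
      obtain ⟨b, hb⟩ := hrm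
      obtain ⟨b', hb'⟩ := Nat.dvd_sub hrn (Dvd.intro b hb.symm)
      obtain ⟨U, W, hUW, hU, hW, hUi, hWi⟩ := exists_pair_smul Fact.out hz hg hnp (b₁ := b) (b₂ := b')
        (Nat.le_of_mul_le_mul_left (show r * b ≤ r * b' by omega) (Fact.out : r.Prime).pos)
        (by rw [hnV, mul_comm, ← hb']; omega)
      exact ⟨U, W, hUW, by rw [hU, mul_comm, ← hb], by rw [hW, mul_comm, ← hb'], hUi, hWi⟩
    · constructor
      · exact fun h => ⟨hrp, Or.inl ⟨hc1, h⟩⟩
      · rintro ⟨-, ⟨-, h⟩ | ⟨h, -⟩⟩
        · exact h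
        · omega
  · refine (iff_of_order_ge_two hn hr hc2 Q hQ).trans ?_
    have hex : ∃ i < m, c ∣ n - i ∨ c ∣ n - m - i := by
      by_contra hne
      push Not at hne
      refine hcase ?_ ?_ hrΩ
      · exact not_dvd_card_subspaces hr (by rw [hnV]; omega) (fun i hi => by rw [hnV]; exact (hne i hi).1)
      · intro W hW
        exact not_dvd_card_subspaces hr (by omega) (fun i hi => by rw [hW]; exact (hne i hi).2)
    constructor
    · intro h
      obtain ⟨g, hg, hdet, hk⟩ := exists_fpf (V := Fin n → F) hr hc2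
      rw [hnV] at hk
      obtain ⟨i, hi, hci⟩ := hex
      have hcn : c ≤ n := by
        rcases hci with h1 | h1
        · exact (Nat.le_of_dvd (by omega) h1).trans (Nat.sub_le _ _)
        · exact (Nat.le_of_dvd (by omega) h1).trans (by omega)
      have hlt : n % c < c := Nat.mod_lt n hcpos
      have hg1 : g ≠ 1 := fun e => by
        rw [e, sub_self, LinearMap.ker_zero, finrank_top, hnV, ← hc] at hk
        omega
      obtain ⟨U, W, hUW, hU, hW, hUi, hWi⟩ := h g hg hdet hg1
      have h1 := finrank_modEq hr hg hUi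
      have h2 := finrank_modEq hr hg hWi
      rw [hU, ← hc] at h1
      rw [hW, ← hc] at h2
      set a := finrank F ↥(U ⊓ LinearMap.ker (g - 1) : Submodule F (Fin n → F)) with ha
      set a' := finrank F ↥(W ⊓ LinearMap.ker (g - 1) : Submodule F (Fin n → F)) with ha'
      have hk1 : a ≤ n % c := hk ▸ Submodule.finrank_mono inf_le_right
      have hk2 : a' ≤ n % c := hk ▸ Submodule.finrank_mono inf_le_right
      have haa : a ≤ a' := Submodule.finrank_mono (inf_le_inf_right _ hUW)
      rw [Nat.ModEq, Nat.mod_eq_of_lt (show a < c by omega)] at h1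
      have h3 : n % c ≡ a + a' [MOD c] := by
        have e : (n - m) + m ≡ a' + a [MOD c] := h2.add (h1 ▸ (Nat.mod_modEq m c).symm)
        rw [Nat.sub_add_cancel (by omega), add_comm a'] at e
        exact (Nat.mod_modEq n c).trans e
      have h4 : a + a' = n % c ∨ a + a' = n % c + c := by
        rw [Nat.ModEq, Nat.mod_mod] at h3
        rcases Nat.lt_or_ge (a + a') c with h | h
        · exact Or.inl ((Nat.mod_eq_of_lt h).symm.trans h3.symm)
        · rw [Nat.mod_eq_sub_mod h, Nat.mod_eq_of_lt (show a + a' - c < c by omega)] at h3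
          omega
      refine ⟨hrp, Or.inr ⟨hc2, ?_, by omega⟩⟩
      by_contra hcm
      rw [Nat.mod_eq_of_lt (show m < c by omega)] at h1
      rcases hci with ⟨j, hj⟩ | ⟨j, hj⟩
      · have h5 : n % c = i := by
          rw [show n = i + c * j by omega, Nat.add_mul_mod_self_left, Nat.mod_eq_of_lt (by omega)]
        omega
      · have h5 : n % c = (m + i) % c := by
          rw [show n = (m + i) + c * j by omega, Nat.add_mul_mod_self_left]
        rcases Nat.lt_or_ge (m + i) c with h | h
        · rw [Nat.mod_eq_of_lt h] at h5; omega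
        · rw [Nat.mod_eq_sub_mod h, Nat.mod_eq_of_lt (show m + i - c < c by omega)] at h5; omega
    · rintro ⟨-, ⟨h, -⟩ | ⟨-, hcm, hmod⟩⟩ y hy - -
      · omega
      set k := finrank F ↥(LinearMap.ker (y - 1)) with hk
      have hkn : k ≤ n := hnV ▸ Submodule.finrank_le _
      have h1 := finrank_modEq hr hy (W := ⊤) le_top
      rw [top_inf_eq, finrank_top, hnV, ← hc, ← hk] at h1
      obtain ⟨K, hK⟩ := (Nat.modEq_iff_dvd' hkn).1 h1.symm
      have hknc : n % c ≤ k := h1.symm ▸ Nat.mod_le k c
      have hKc : K * c + k = n := by rw [mul_comm]; omega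
      have hm1 := Nat.mod_add_div' m c
      set μ := m % c with hμ
      have hn1 := Nat.mod_add_div' (n - m - μ) c
      set b₁ := min K (m / c) with hb1
      set b₂ := min K ((n - m - μ) / c) with hb2
      have hbb : b₁ ≤ b₂ := by
        have h5 : (m - μ) / c ≤ (n - m - μ) / c := Nat.div_le_div_right (by omega)
        rw [show m - μ = m / c * c by omega, Nat.mul_div_cancel _ hcpos] at h5
        exact min_le_min_left K h5
      have hb1K : b₁ * c ≤ K * c := Nat.mul_le_mul_right c (min_le_left _ _)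
      have hb2K : b₂ * c ≤ K * c := Nat.mul_le_mul_right c (min_le_left _ _)
      have hb1m : b₁ * c ≤ m / c * c := Nat.mul_le_mul_right c (min_le_right _ _)
      have hb2n : b₂ * c ≤ (n - m - μ) / c * c := Nat.mul_le_mul_right c (min_le_right _ _)
      have hb12 : b₁ * c ≤ b₂ * c := Nat.mul_le_mul_right c hbb
      have ha : m - b₁ * c ≤ n - m - b₂ * c ∧ n - m - b₂ * c ≤ k := by
        rcases le_total K ((n - m - μ) / c) with h | h
        · rw [hb2, min_eq_left h]
          rcases le_total K (m / c) with h' | h'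
          · rw [hb1, min_eq_left h']; omega
          · rw [hb1, min_eq_right h']
            have : m / c * c ≤ K * c := Nat.mul_le_mul_right c h'
            have : K * c ≤ (n - m - μ) / c * c := Nat.mul_le_mul_right c h
            omega
        · have hsmall : (n - m - μ) % c ≤ n % c - 2 * μ := by
            have e : (n - m - μ) % c = (n % c - 2 * μ) % c := by
              conv_lhs => rw [show n - m - μ = (n % c - 2 * μ) + c * (n / c) - c * (m / c) by
                have := Nat.div_add_mod n c
                rw [mul_comm c (m / c)]; omega]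
              rw [show (n % c - 2 * μ) + c * (n / c) - c * (m / c) = (n % c - 2 * μ) + c * (n / c - m / c) by
                rw [Nat.mul_sub]
                have : c * (m / c) ≤ c * (n / c) := Nat.mul_le_mul_left c (Nat.div_le_div_right (by omega))
                omega, Nat.add_mul_mod_self_left]
            rw [e]; exact Nat.mod_le _ _
          rw [hb2, min_eq_right h]
          rcases le_total K (m / c) with h' | h'
          · have : K * c ≤ m / c * c := Nat.mul_le_mul_right c h'
            have : (n - m - μ) / c * c ≤ K * c := Nat.mul_le_mul_right c h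
            rw [hb1, min_eq_left h']; omega
          · rw [hb1, min_eq_right h']; omega
      obtain ⟨U, W, hUW, hU, hW, hUi, hWi⟩ := exists_pair hr hy (a₁ := m - b₁ * c)
        (a₂ := n - m - b₂ * c) (b₁ := b₁) (b₂ := b₂) ha.1 ha.2 hbb
        (by rw [hnV, ← hc, ← hk]; omega)
      exact ⟨U, W, hUW, by rw [hU, ← hc]; omega, by rw [hW, ← hc]; omega, hUi, hWi⟩
end Cfsg.Agent.S5951
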