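import Cfsg.Statements.S5952

set_option autoImplicit false
open Cfsg

namespace Cfsg.Agent.S5952

variable {F V : Type*} [Field F] [AddCommGroup V] [Module F V] [FiniteDimensional F V]
variable {f : V →ₗ[F] V}

theorem map_sup_le' {A B : Submodule F V} (hA : A.map f ≤ A) (hB : B.map f ≤ B) :
    (A ⊔ B).map f ≤ A ⊔ B := by
  rw [Submodule.map_sup]; exact sup_le_sup hA hB

theorem map_inf_le' {A B : Submodule F V} (hA : A.map f ≤ A) (hB : B.map f ≤ B) :
    (A ⊓ B).map f ≤ A ⊓ B :=
  le_inf ((Submodule.map_mono inf_le_left).trans hA) ((Submodule.map_mono inf_le_right).trans hB)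

theorem dvd_finrank_of_le_sup {ι : Type*} {a : ℕ} {U : ι → Submodule F V}
    (hUinv : ∀ j, (U j).map f ≤ U j) (hUdim : ∀ j, Module.finrank F ↥(U j) = a)
    (hUirr : ∀ j, ∀ W : Submodule F V, W ≤ U j → W.map f ≤ W → W = ⊥ ∨ W = U j)
    (T : Finset ι) : (T.sup U).map f ≤ T.sup U ∧
      ∀ X : Submodule F V, X ≤ T.sup U → X.map f ≤ X → a ∣ Module.finrank F ↥X := by
  classical
  induction T using Finset.induction_on with
  | empty =>
    refine ⟨by simp, fun X hX _ => ?_⟩
    rw [Finset.sup_empty, le_bot_iff] at hX
    subst hX; rw [finrank_bot]; exact dvd_zero a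
  | insert j T hj ih =>
    obtain ⟨hS, ih⟩ := ih
    rw [Finset.sup_insert]
    refine ⟨map_sup_le' (hUinv j) hS, fun X hX hXinv => ?_⟩
    set S := T.sup U with hSdef
    rcases hUirr j (U j ⊓ (X ⊔ S)) inf_le_left
        (map_inf_le' (hUinv j) (map_sup_le' hXinv hS)) with h | h
    · apply ih X _ hXinv
      have h1 : X ⊔ S = (S ⊔ U j) ⊓ (X ⊔ S) := by
        rw [eq_comm, inf_eq_right, sup_comm S]; exact sup_le hX le_sup_right
      rw [sup_inf_assoc_of_le (U j) (le_sup_right : S ≤ X ⊔ S), h, sup_bot_eq] at h1
      exact le_sup_left.trans h1.le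
    · rcases hUirr j (U j ⊓ S) inf_le_left (map_inf_le' (hUinv j) hS) with h' | h'
      · have h1 : X ⊔ S = U j ⊔ S :=
          le_antisymm (sup_le hX le_sup_right) (sup_le (h.ge.trans inf_le_right) le_sup_right)
        have e1 := Submodule.finrank_sup_add_finrank_inf_eq X S
        have e2 := Submodule.finrank_sup_add_finrank_inf_eq (U j) S
        rw [h1] at e1
        rw [h', finrank_bot, hUdim] at e2
        have h2 := ih (X ⊓ S) inf_le_right (map_inf_le' hXinv hS)
        have : Module.finrank F ↥X = a + Module.finrank F ↥(X ⊓ S) := by omega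
        rw [this]; exact dvd_add dvd_rfl h2
      · exact ih X (hX.trans (sup_le (h'.ge.trans inf_le_right) le_rfl)) hXinv


/-- Which dimensions of invariant subspaces a semisimple linear map has. Let `V` be a finite-dimensional vector space over a field `F` and `f` an invertible semisimple linear map of `V`. Suppose `V` is the internal direct sum of the fixed space `C_V(f)` (the eigenspace for 1) and subspaces `U_1, …, U_s`, each `f`-invariant of dimension `a ≥ 1` on which `f` acts irreducibly (no `f`-invariant subspaces other than 0 and `U_j`). Let `0 < m < dim V` and `ℓ = m mod a`. Then `f` leaves some `m`-dimensional subspace invariant if and only if `dim C_V(f) ≥ m`, or `a ≤ m` and `dim C_V(f) ≥ ℓ`. -/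
theorem result {F V : Type*} [Field F] [AddCommGroup V] [Module F V]
    [FiniteDimensional F V] (f : V →ₗ[F] V) (hf : Function.Bijective f) (hss : Module.End.IsSemisimple f)
    {s a : ℕ} (ha : 1 ≤ a) (U : Fin s → Submodule F V)
    (hUinv : ∀ j, (U j).map f ≤ U j) (hUdim : ∀ j, Module.finrank F ↥(U j) = a)
    (hUirr : ∀ j, ∀ W : Submodule F V, W ≤ U j → W.map f ≤ W → W = ⊥ ∨ W = U j)
    (hdec : DirectSum.IsInternal (fun o : Option (Fin s) => o.elim (Module.End.eigenspace f 1) U))
    (m : ℕ) (hm : 0 < m) (hmV : m < Module.finrank F V) :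
    (∃ W : Submodule F V, Module.finrank F ↥W = m ∧ W.map f ≤ W) ↔
    (m ≤ Module.finrank F ↥(Module.End.eigenspace f 1) ∨
      (a ≤ m ∧ m % a ≤ Module.finrank F ↥(Module.End.eigenspace f 1))) := by
  classical
  set C := Module.End.eigenspace f 1 with hC
  have hind := hdec.submodule_iSupIndep
  have htop := hdec.submodule_iSup_eq_top
  rw [iSup_option] at htop
  simp only [Option.elim_none, Option.elim_some] at htop
  constructor
  · rintro ⟨W, hW, hWinv⟩
    set g : V →ₗ[F] V := f - LinearMap.id with hg
    have hrange : LinearMap.range g ≤ Finset.univ.sup U := by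
      rw [LinearMap.range_eq_map, ← htop, Submodule.map_sup, Submodule.map_iSup]
      refine sup_le ?_ (iSup_le fun j => ?_)
      · rintro _ ⟨v, hv, rfl⟩
        rw [SetLike.mem_coe, Module.End.mem_eigenspace_iff, one_smul] at hv
        simp [hg, hv]
      · refine le_trans ?_ (Finset.le_sup (Finset.mem_univ j))
        rintro _ ⟨v, hv, rfl⟩
        exact Submodule.sub_mem _ (hUinv j ⟨v, hv, rfl⟩) hv
    have hinv : (W.map g).map f ≤ W.map g := by
      rintro _ ⟨_, ⟨v, hv, rfl⟩, rfl⟩
      exact ⟨f v, hWinv ⟨v, hv, rfl⟩, by simp [hg]⟩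
    obtain ⟨y, hy⟩ := (dvd_finrank_of_le_sup hUinv hUdim hUirr Finset.univ).2 (W.map g)
      ((LinearMap.map_le_range).trans hrange) hinv
    have h1 := LinearMap.finrank_range_add_finrank_ker (g.domRestrict W)
    rw [LinearMap.range_domRestrict] at h1
    have h2 : Module.finrank F ↥(LinearMap.ker (g.domRestrict W)) ≤ Module.finrank F ↥C := by
      rw [← Submodule.finrank_map_subtype_eq W]
      apply Submodule.finrank_mono
      rintro _ ⟨v, hv, rfl⟩
      simp only [SetLike.mem_coe, LinearMap.mem_ker, LinearMap.domRestrict_apply, hg,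
        LinearMap.sub_apply, LinearMap.id_apply, sub_eq_zero] at hv
      rw [Module.End.mem_eigenspace_iff, one_smul]
      exact hv
    rw [hy, hW] at h1
    rcases Nat.eq_zero_or_pos y with rfl | hy0
    · left; omega
    · right
      refine ⟨le_trans (Nat.le_mul_of_pos_right a hy0) (by omega), ?_⟩
      rw [← h1, Nat.mul_add_mod]
      exact le_trans (Nat.mod_le _ _) h2
  · intro h
    have hsub : ∀ k ≤ Module.finrank F ↥C, ∃ D ≤ C, Module.finrank F ↥D = k := by
      intro k hk
      obtain ⟨v, hv⟩ := exists_linearIndependent_of_le_finrank hk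
      refine ⟨Submodule.span F (Set.range fun i => (v i : V)), Submodule.span_le.mpr ?_, ?_⟩
      · rintro _ ⟨i, rfl⟩; exact (v i).2
      · rw [finrank_span_eq_card]
        · simp
        · exact hv.map' C.subtype (Submodule.ker_subtype C)
    have hCinv : ∀ D ≤ C, D.map f ≤ D := by
      rintro D hD _ ⟨v, hv, rfl⟩
      have := hD hv
      rw [Module.End.mem_eigenspace_iff, one_smul] at this
      rwa [this]
    have hfin : ∀ T : Finset (Fin s), Module.finrank F ↥(T.sup U) = T.card * a ∧
        (∀ D ≤ C, D ⊓ T.sup U = ⊥) := by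
      intro T
      have hdisj : ∀ T : Finset (Fin s), ∀ o : Option (Fin s), (∀ j ∈ T, o ≠ some j) →
          Disjoint (o.elim C U) (T.sup U) := by
        intro T o ho
        refine (hind o).mono_right (Finset.sup_le fun j hj => ?_)
        exact le_iSup₂_of_le (some j) (ho j hj).symm le_rfl
      refine ⟨?_, fun D hD => ?_⟩
      · induction T using Finset.induction_on with
        | empty => simp
        | insert j T hj ih =>
          have hd := hdisj T (some j) (fun i hi hji => hj (Option.some_injective _ hji ▸ hi))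
          have := Submodule.finrank_sup_add_finrank_inf_eq (U j) (T.sup U)
          rw [Option.elim_some] at hd
          rw [hd.eq_bot, finrank_bot, hUdim, ih] at this
          rw [Finset.sup_insert, Finset.card_insert_of_notMem hj, add_mul, one_mul]
          omega
      · exact ((hdisj T none (fun j _ => by simp)).mono_left hD).eq_bot
    have hsum : Module.finrank F V = Module.finrank F ↥C + s * a := by
      have := Submodule.finrank_sup_add_finrank_inf_eq C (Finset.univ.sup U)
      rw [(hfin Finset.univ).2 C le_rfl, finrank_bot, (hfin Finset.univ).1, Finset.card_fin,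
        Finset.sup_univ_eq_iSup, htop, finrank_top] at this
      omega
    obtain ⟨k, hks, hk1, hk2⟩ : ∃ k, k ≤ s ∧ k * a ≤ m ∧ m - k * a ≤ Module.finrank F ↥C := by
      rcases h with h | ⟨h1, h2⟩
      · exact ⟨0, by omega, by omega, by omega⟩
      · rcases le_or_gt (m / a) s with h3 | h3
        · refine ⟨m / a, h3, Nat.div_mul_le_self m a, ?_⟩
          have := Nat.mod_add_div m a
          rw [Nat.mul_comm a] at this
          omega
        · have h4 : s * a ≤ m := (Nat.le_div_iff_mul_le (by omega)).mp h3.le
          exact ⟨s, le_rfl, h4, by omega⟩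
    obtain ⟨T, -, hT⟩ := Finset.exists_subset_card_eq (s := (Finset.univ : Finset (Fin s)))
      (n := k) (by simpa using hks)
    obtain ⟨D, hD, hDdim⟩ := hsub _ hk2
    refine ⟨D ⊔ T.sup U, ?_, map_sup_le' (hCinv D hD)
      (dvd_finrank_of_le_sup hUinv hUdim hUirr T).1⟩
    have := Submodule.finrank_sup_add_finrank_inf_eq D (T.sup U)
    rw [(hfin T).2 D hD, finrank_bot, (hfin T).1, hT, hDdim] at this
    omega

end Cfsg.Agent.S5952
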