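import Cfsg.Statements.S5979
import Cfsg.Agent.Lib.TensorDerange84
-- import your own Cfsg.Agent.* helpers here

set_option autoImplicit false
set_option maxHeartbeats 1000000
open scoped MatrixGroups
open Cfsg

namespace Cfsg.Agent.S5979

open Cfsg.Agent.PrimeOrderModule84 Cfsg.Agent.TensorDerange84 Module
open scoped Kronecker Matrix

theorem ten_of_mem {F : Type*} [Field F] {n a b : ℕ} (e : Fin n ≃ Fin a × Fin b) (P x g' : GL (Fin n) F)
    (h : g'⁻¹ * x * g' ∈ Cfsg.Geo.tensorProductSubgroup a b e P) :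
    Ten (Matrix.toLin' (x : Matrix (Fin n) (Fin n) F)) a b := by
  classical
  obtain ⟨_, ⟨K, ⟨A, B, hK⟩, rfl⟩, hy⟩ := h
  set R := Cfsg.Geo.glReindex e.symm K with hR
  change P * R * P⁻¹ = g'⁻¹ * x * g' at hy
  have hxS : x * (g' * P) = g' * P * R := by
    calc x * (g' * P) = g' * (g'⁻¹ * x * g') * P := by group
      _ = g' * P * R := by rw [← hy]; group
  let φ : (Fin a × Fin b → F) ≃ₗ[F] (Fin n → F) :=
    (LinearEquiv.funCongrLeft F F e).trans
      ((LinearMap.GeneralLinearGroup.generalLinearEquiv F (Fin n → F))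
        (Matrix.GeneralLinearGroup.toLin (g' * P)))
  refine ⟨A, B, φ, fun v => ?_⟩
  show (x : Matrix (Fin n) (Fin n) F) *ᵥ (((g' * P : GL (Fin n) F) : Matrix (Fin n) (Fin n) F) *ᵥ (v ∘ e)) =
    ((g' * P : GL (Fin n) F) : Matrix (Fin n) (Fin n) F) *ᵥ
      ((((A : Matrix (Fin a) (Fin a) F) ⊗ₖ (B : Matrix (Fin b) (Fin b) F)) *ᵥ v) ∘ e)
  rw [Matrix.mulVec_mulVec, ← Units.val_mul, hxS, Units.val_mul, ← Matrix.mulVec_mulVec]
  congr 1
  rw [← hK]
  show ((K : Matrix _ _ F).submatrix e e) *ᵥ (v ∘ e) = _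
  rw [Matrix.submatrix_mulVec_equiv]
  simp [Function.comp_assoc]

theorem mem_of_ten {F : Type*} [Field F] [Finite F] {n a b : ℕ} (e : Fin n ≃ Fin a × Fin b)
    (P x : GL (Fin n) F)
    (hss : Module.End.IsSemisimple (Matrix.toLin' (x : Matrix (Fin n) (Fin n) F))) (hn : 0 < n)
    (h : Ten (Matrix.toLin' (x : Matrix (Fin n) (Fin n) F)) a b) :
    ∃ g ∈ Cfsg.Geo.specialLinear (Fin n) F, g⁻¹ * x * g ∈ Cfsg.Geo.tensorProductSubgroup a b e P := by
  classical
  obtain ⟨A, B, φ, hφ⟩ := h
  let ψ : (Fin n → F) ≃ₗ[F] (Fin n → F) := (LinearEquiv.funCongrLeft F F e.symm).trans φ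
  obtain ⟨S, hS⟩ : ∃ S : GL (Fin n) F, ∀ v, (S : Matrix (Fin n) (Fin n) F) *ᵥ v = ψ v := by
    refine ⟨⟨LinearMap.toMatrix' ψ.toLinearMap, LinearMap.toMatrix' ψ.symm.toLinearMap, ?_, ?_⟩,
      fun v => ?_⟩
    · rw [← LinearMap.toMatrix'_comp]; simp
    · rw [← LinearMap.toMatrix'_comp]; simp
    · exact LinearMap.toMatrix'_mulVec ψ.toLinearMap v
  obtain ⟨K, hK⟩ : ∃ K : GL (Fin a × Fin b) F,
      (K : Matrix _ _ F) = (A : Matrix (Fin a) (Fin a) F) ⊗ₖ (B : Matrix (Fin b) (Fin b) F) :=
    ⟨⟨(A : Matrix (Fin a) (Fin a) F) ⊗ₖ (B : Matrix (Fin b) (Fin b) F), ((A⁻¹ : GL (Fin a) F) : Matrix (Fin a) (Fin a) F) ⊗ₖ ((B⁻¹ : GL (Fin b) F) : Matrix (Fin b) (Fin b) F),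
      by rw [← Matrix.mul_kronecker_mul]; simp, by rw [← Matrix.mul_kronecker_mul]; simp⟩, rfl⟩
  set R := Cfsg.Geo.glReindex e.symm K with hR
  have hxS : x * S = S * R := by
    apply Units.ext
    apply Matrix.toLin'.injective
    refine LinearMap.ext fun v => ?_
    rw [Units.val_mul, Units.val_mul, Matrix.toLin'_apply, Matrix.toLin'_apply, ← Matrix.mulVec_mulVec,
      ← Matrix.mulVec_mulVec, hS, hS]
    show Matrix.toLin' (x : Matrix (Fin n) (Fin n) F) (φ (v ∘ e.symm)) =
      φ ((((K : Matrix _ _ F).submatrix e e) *ᵥ v) ∘ e.symm)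
    rw [hφ, Matrix.submatrix_mulVec_equiv, hK]
    simp [Function.comp_assoc]
  have : Nonempty (Fin n) := ⟨⟨0, hn⟩⟩
  have hd0 : ((S * P⁻¹ : GL (Fin n) F) : Matrix (Fin n) (Fin n) F).det ≠ 0 :=
    ((Matrix.isUnit_iff_isUnit_det _).1 (S * P⁻¹).isUnit).ne_zero
  obtain ⟨T, hT, hTd⟩ := SemisimpleConjGL.exists_gl_commute_det hss (r := ((S * P⁻¹ : GL (Fin n) F) :
    Matrix (Fin n) (Fin n) F).det⁻¹) (inv_ne_zero hd0)
  have hTx : T * x = x * T := Units.ext hT
  refine ⟨T * (S * P⁻¹), Units.ext ?_, R, ⟨K, ⟨A, B, hK⟩, rfl⟩, ?_⟩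
  · rw [Matrix.GeneralLinearGroup.val_det_apply, Units.val_mul, Matrix.det_mul, hTd,
      inv_mul_cancel₀ hd0]
    rfl
  · show P * R * P⁻¹ = (T * (S * P⁻¹))⁻¹ * x * (T * (S * P⁻¹))
    have h1 : T⁻¹ * x * T = x := by rw [mul_assoc, ← hTx, ← mul_assoc, inv_mul_cancel, one_mul]
    calc P * R * P⁻¹ = P * (S⁻¹ * (S * R)) * P⁻¹ := by group
      _ = P * (S⁻¹ * (x * S)) * P⁻¹ := by rw [hxS]
      _ = P * (S⁻¹ * ((T⁻¹ * x * T) * S)) * P⁻¹ := by rw [h1]
      _ = _ := by group

theorem exists_transvection {F : Type*} [Field F] {r : ℕ} [Fact r.Prime] [CharP F r] (n : ℕ) (hn : 2 ≤ n) :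
    ∃ g : Module.End F (Fin n → F), LinearMap.det g = 1 ∧ g ^ r = 1 ∧ (∀ c : F, g ≠ c • 1) ∧
      finrank F ↥(LinearMap.ker (g - 1)) + 1 = n := by
  classical
  let i : Fin n := ⟨0, by omega⟩
  let j : Fin n := ⟨1, by omega⟩
  have hij : i ≠ j := fun e => absurd (congrArg Fin.val e) (by simp [i, j])
  set N := Matrix.toLin' (Matrix.single i j (1 : F)) with hN
  have hg : Matrix.toLin' (Matrix.transvection i j (1 : F)) = 1 + N := by
    rw [Matrix.transvection, map_add, Matrix.toLin'_one]; rfl
  have hN2 : N ^ 2 = 0 := by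
    rw [hN, ← Matrix.toLin'_pow, sq, Matrix.single_mul_single_of_ne (h := hij.symm), map_zero]
  refine ⟨1 + N, ?_, ?_, ?_, ?_⟩
  · rw [← hg, LinearMap.det_toLin', Matrix.det_transvection_of_ne _ _ hij]
  · have : Nonempty (Fin n) := ⟨i⟩
    have : CharP (Module.End F (Fin n → F)) r :=
      charP_of_injective_algebraMap (algebraMap F _).injective r
    rw [add_pow_char_of_commute r (Commute.one_left N), one_pow,
      pow_eq_zero_of_le (Fact.out : r.Prime).two_le hN2, add_zero]
  · intro c hc
    have h1 := congrFun (LinearMap.congr_fun hc (Pi.single j 1)) i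
    simp [hN, Matrix.single, hij, hij.symm] at h1
  · rw [add_sub_cancel_left]
    have h1 := LinearMap.finrank_range_add_finrank_ker N
    have h2 : LinearMap.range N = Submodule.span F {Pi.single i (1 : F)} := by
      refine le_antisymm ?_ (Submodule.span_le.2 (Set.singleton_subset_iff.2 ⟨Pi.single j 1, ?_⟩))
      · rintro _ ⟨v, rfl⟩
        refine Submodule.mem_span_singleton.2 ⟨v j, ?_⟩
        funext k
        by_cases hk : k = i
        · subst hk; simp [hN, Matrix.single_mulVec, Function.update]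
        · simp [hN, Matrix.single_mulVec, Function.update, hk]
      · funext k
        by_cases hk : k = i
        · subst hk; simp [hN]
        · simp [hN, hk, Matrix.single, Ne.symm hk]
    rw [h2, finrank_span_singleton (by simp), Module.finrank_fin_fun] at h1
    omega

theorem le_of_dvd_relIndex {F : Type*} [Field F] [Fintype F] {n r : ℕ} [Fact r.Prime] (hr : (r : F) ≠ 0)
    (H K : Subgroup (GL (Fin n) F)) (h : r ∣ H.relIndex K) :
    orderOf (Fintype.card F : ZMod r) ≤ n := by
  have h4 : r ∣ Nat.card (GL (Fin n) F) :=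
    dvd_trans h ((Subgroup.index_dvd_card _).trans (Subgroup.card_subgroup_dvd_card K))
  rw [Matrix.card_GL_field, (Fact.out : r.Prime).prime.dvd_finsetProd_iff] at h4
  obtain ⟨i, -, hi⟩ := h4
  rw [sub_eq_mul i.2.le] at hi
  rcases (Fact.out : r.Prime).dvd_mul.1 hi with h5 | h5
  · exact absurd ((ZMod.natCast_eq_zero_iff _ _).2 ((Fact.out : r.Prime).dvd_of_dvd_pow h5))
      (natCast_card_ne_zero hr)
  · rw [← card_pow_eq_one_iff, ← orderOf_dvd_iff_pow_eq_one] at h5
    exact (Nat.le_of_dvd (by have := i.2; omega) h5).trans (Nat.sub_le _ _)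

theorem exists_root {F : Type*} [Field F] [Fintype F] {r : ℕ} [Fact r.Prime]
    (hrq : r ∣ Fintype.card F - 1) : ∃ ζ : F, ζ ^ r = 1 ∧ ζ ≠ 1 := by
  classical
  obtain ⟨u, hu⟩ := exists_prime_orderOf_dvd_card' (G := Fˣ) r (by
    rw [Nat.card_units, Nat.card_eq_fintype_card]; exact hrq)
  refine ⟨u, by rw [← Units.val_pow_eq_pow_val, ← hu, pow_orderOf_eq_one, Units.val_one], fun e => ?_⟩
  rw [Units.val_eq_one] at e
  rw [e, orderOf_one] at hu
  exact (Fact.out : r.Prime).ne_one hu.symm

theorem exists_pow_eq_neg_one {F : Type*} [Field F] [Fintype F] (h2 : (2 : F) ≠ 0) {n : ℕ} (hn : n ≠ 0)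
    (hv : padicValNat 2 n < padicValNat 2 (Fintype.card F - 1)) : ∃ w : F, w ^ n = -1 := by
  classical
  haveI : Fact (Nat.Prime 2) := ⟨Nat.prime_two⟩
  set e := padicValNat 2 (Fintype.card F - 1) with he
  have hq1 : Fintype.card F - 1 ≠ 0 := by have := Fintype.one_lt_card (α := F); omega
  obtain ⟨s, hs⟩ : 2 ^ e ∣ Fintype.card F - 1 := pow_padicValNat_dvd
  obtain ⟨m, hm⟩ : 2 ^ padicValNat 2 n ∣ n := pow_padicValNat_dvd
  have hodd : Odd m := by
    rw [← Nat.not_even_iff_odd, even_iff_two_dvd]
    intro hd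
    refine pow_succ_padicValNat_not_dvd (p := 2) hn ?_
    conv_rhs => rw [hm]
    rw [pow_succ]
    exact mul_dvd_mul_left _ hd
  obtain ⟨A, -, hord⟩ := exists_generator (F := F)
  set u : F := ((A ^ (2 ^ (e - 1) * s) : Fˣ) : F) with hu
  have hu2 : u ^ 2 = 1 := by
    rw [hu, ← Units.val_pow_eq_pow_val, ← pow_mul,
      show 2 ^ (e - 1) * s * 2 = Fintype.card F - 1 by
        rw [mul_right_comm, ← pow_succ, Nat.sub_add_cancel (by omega), ← hs],
      ← hord, pow_orderOf_eq_one, Units.val_one]
  have hu1 : u ≠ 1 := by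
    intro e1
    rw [hu, Units.val_eq_one, ← orderOf_dvd_iff_pow_eq_one, hord] at e1
    have hs0 : 0 < s := Nat.pos_of_ne_zero fun e0 => hq1 (by rw [hs, e0, mul_zero])
    have hle := Nat.le_of_dvd (Nat.mul_pos (Nat.pow_pos two_pos) hs0) e1
    rw [hs] at hle
    have : 2 ^ e = 2 * 2 ^ (e - 1) := by rw [← pow_succ', Nat.sub_add_cancel (by omega)]
    rw [this, mul_assoc] at hle
    have : 0 < 2 ^ (e - 1) * s := Nat.mul_pos (Nat.pow_pos two_pos) hs0
    omega
  have hum : u = -1 := (sq_eq_one_iff.1 hu2).resolve_left hu1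
  refine ⟨((A ^ (2 ^ (e - 1 - padicValNat 2 n) * s) : Fˣ) : F), ?_⟩
  rw [← Units.val_pow_eq_pow_val, ← pow_mul,
    show 2 ^ (e - 1 - padicValNat 2 n) * s * n = (2 ^ (e - 1) * s) * m by
      conv_lhs => arg 2; rw [hm]
      have h3 : 2 ^ (e - 1) = 2 ^ (e - 1 - padicValNat 2 n) * 2 ^ padicValNat 2 n := by
        rw [← pow_add, Nat.sub_add_cancel (by omega)]
      rw [h3]; ring,
    pow_mul, Units.val_pow_eq_pow_val, ← hu, hum, hodd.neg_one_pow]

theorem ten_of_conditions {F : Type*} [Field F] [Fintype F] {b : ℕ}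
    {g : Module.End F (Fin (2 * b) → F)} (h2 : (2 : F) ≠ 0)
    (hv : padicValNat 2 (Fintype.card F - 1) ≤ padicValNat 2 (2 * b)) (hdet : LinearMap.det g = 1)
    {z : F} (hz : z ≠ 0) (hg : g ^ 2 = z • 1) (hnV : finrank F (Fin (2 * b) → F) = 2 * b) :
    Ten g 2 b := by
  classical
  haveI : Fact (Nat.Prime 2) := ⟨Nat.prime_two⟩
  by_cases hsq : ∃ c : F, c ^ 2 = z
  · obtain ⟨w, hw⟩ := hsq
    have hw0 : w ≠ 0 := fun e => hz (by rw [← hw, e, zero_pow two_ne_zero])
    set y := w⁻¹ • g with hy'
    have hy : y ^ 2 = 1 := by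
      rw [hy', smul_pow, hg, smul_smul, ← hw, inv_pow, inv_mul_cancel₀ (pow_ne_zero _ hw0), one_smul]
    have hgy : g = w • y := by rw [hy', smul_smul, mul_inv_cancel₀ hw0, one_smul]
    have hc : IsCompl (LinearMap.ker (y - 1)) (LinearMap.range (y - 1)) :=
      isCompl_ker_range (r := 2) (by exact_mod_cast h2) hy
    set K := LinearMap.ker (y - 1)
    set T := LinearMap.range (y - 1)
    have hdety : LinearMap.det y = (-1) ^ finrank F ↥T := by
      let E := Submodule.prodEquivOfIsCompl K T hc
      have hconj : y = E.toLinearMap ∘ₗ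
          ((LinearMap.id : ↥K →ₗ[F] ↥K).prodMap ((-1 : F) • (LinearMap.id : ↥T →ₗ[F] ↥T))) ∘ₗ
            E.symm.toLinearMap := by
        refine LinearMap.ext fun v => ?_
        obtain ⟨⟨k, t⟩, rfl⟩ := E.surjective v
        have hk := LinearMap.mem_ker.1 k.2
        rw [LinearMap.sub_apply, Module.End.one_apply, sub_eq_zero] at hk
        have ht : y (t : Fin (2 * b) → F) = -(t : Fin (2 * b) → F) := by
          obtain ⟨u, hu⟩ := t.2
          rw [← hu]
          have h3 : y (y u) = u := by rw [← Module.End.mul_apply, ← sq, hy, Module.End.one_apply]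
          simp [h3]
        simp [E, Submodule.coe_prodEquivOfIsCompl', hk, ht]
      conv_lhs => rw [hconj]
      rw [LinearMap.det_conj, LinearMap.det_prodMap, LinearMap.det_id, one_mul, LinearMap.det_smul,
        LinearMap.det_id, mul_one]
    have heven : Even (finrank F ↥T) := by
      rcases Nat.even_or_odd (finrank F ↥T) with h | h
      · exact h
      exfalso
      rw [hgy, LinearMap.det_smul, hnV, hdety, h.neg_one_pow, mul_neg, mul_one] at hdet
      obtain ⟨M, hM⟩ : 2 ^ padicValNat 2 (Fintype.card F - 1) ∣ 2 * b :=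
        dvd_trans (pow_dvd_pow 2 hv) pow_padicValNat_dvd
      obtain ⟨s, hs⟩ : 2 ^ padicValNat 2 (Fintype.card F - 1) ∣ Fintype.card F - 1 :=
        pow_padicValNat_dvd
      have hq1 : Fintype.card F - 1 ≠ 0 := by have := Fintype.one_lt_card (α := F); omega
      have hodd : Odd s := by
        rw [← Nat.not_even_iff_odd, even_iff_two_dvd]
        intro hd
        refine pow_succ_padicValNat_not_dvd (p := 2) hq1 ?_
        conv_rhs => rw [hs]
        rw [pow_succ]
        exact mul_dvd_mul_left _ hd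
      have h1 : (w ^ (2 * b)) ^ s = 1 := by
        rw [← pow_mul, hM, mul_right_comm, ← hs, pow_mul,
          FiniteField.pow_card_sub_one_eq_one w hw0, one_pow]
      rw [show w ^ (2 * b) = -1 by linear_combination -hdet, hodd.neg_one_pow] at h1
      exact h2 (by linear_combination -h1)
    obtain ⟨j, hj⟩ := heven
    have hd := Submodule.finrank_add_eq_of_isCompl hc
    rw [hnV] at hd
    exact ten_of_even hw0 (i := b - j) (j := j) (by omega) h2 hy hgy (show finrank F ↥K = _ by omega)
      (show finrank F ↥T = _ by omega)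
  · push Not at hsq
    exact ten_of_not_square hz hg hsq hnV

/-- Elements of prime order of PSL_n(q) and the stabilizers of tensor decompositions with factors of different dimensions. Here `T = PSL_n(F)` for a field `F` with `q` elements and `n = a·b` with `2 ≤ a < b`; a tensor decomposition `F^n ≅ F^a ⊗ F^b` is given by a bijection `e` of index sets and a change of basis `P`, and `H` is the subgroup of matrices of determinant 1 in its stabilizer (the conjugate by `P` of the group of Kronecker products `g₁ ⊗ g₂`) — a subgroup of type GL_a(q) ⊗ GL_b(q) (maximality is not assumed); Ω is the set of cosets of `H` in `T`, so an element of `T` of prime order `r` (a matrix `x` of determinant 1 with `x^r` scalar, `x` not scalar) fixes a point of Ω exactly when some conjugate of `x` by a matrix of determinant 1 lies in `H`. Let `r` be a prime dividing the index of `H`. Then every element of `T` of order `r` fixes a point of Ω if and only if `r = 2`, `a = 2`, `q` is odd and `(q − 1)_2 ≤ (n)_2` (2-parts).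 -/
theorem result {F : Type*} [Field F] [Fintype F] {p : ℕ} [Fact p.Prime] [CharP F p] {q : ℕ} (hq : Fintype.card F = q)
    (n a b : ℕ) (hab : n = a * b) (ha : 2 ≤ a) (hlt : a < b) (e : Fin n ≃ Fin a × Fin b) (P : GL (Fin n) F)
    (r : ℕ) [Fact r.Prime]
    (hΩ : r ∣ (Cfsg.Geo.tensorProductSubgroup a b e P).relIndex (Cfsg.Geo.specialLinear (Fin n) F)) :
    (∀ x ∈ Cfsg.Geo.specialLinear (Fin n) F, (∃ z : F, ((x ^ r : GL (Fin n) F) : Matrix (Fin n) (Fin n) F) = z • (1 : Matrix (Fin n) (Fin n) F)) →
      (∀ z : F, (x : Matrix (Fin n) (Fin n) F) ≠ z • (1 : Matrix (Fin n) (Fin n) F)) →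
      ∃ g ∈ Cfsg.Geo.specialLinear (Fin n) F, g⁻¹ * x * g ∈ Cfsg.Geo.tensorProductSubgroup a b e P) ↔
    (r = 2 ∧ a = 2 ∧ Odd q ∧ padicValNat 2 (q - 1) ≤ padicValNat 2 n) := by
  classical
  subst hq
  subst hab
  have hnV : finrank F (Fin (a * b) → F) = a * b := Module.finrank_fin_fun F
  have h2b : 2 * b ≤ a * b := Nat.mul_le_mul_right b ha
  have h2a : a * 2 ≤ a * b := Nat.mul_le_mul_left a (by omega)
  constructor
  · intro h
    have key : ∀ g : Module.End F (Fin (a * b) → F), LinearMap.det g = 1 → ∀ z : F, g ^ r = z • 1 →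
        (∀ c : F, g ≠ c • 1) → Ten g a b := by
      intro g hdet z hz hns
      have hd : (LinearMap.toMatrix' g).det = 1 := by rw [LinearMap.det_toMatrix', hdet]
      obtain ⟨x, hx⟩ : ∃ x : GL (Fin (a * b)) F, (x : Matrix _ _ F) = LinearMap.toMatrix' g :=
        (Matrix.isUnit_iff_isUnit_det _).2 (hd ▸ isUnit_one)
      have hxg : g = Matrix.toLin' (x : Matrix _ _ F) := by rw [hx, Matrix.toLin'_toMatrix']
      have hxz : ((x ^ r : GL (Fin (a * b)) F) : Matrix (Fin (a * b)) (Fin (a * b)) F) = z • 1 := by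
        apply Matrix.toLin'.injective
        rw [Units.val_pow_eq_pow_val, Matrix.toLin'_pow, ← hxg, hz, map_smul, Matrix.toLin'_one]
        rfl
      have hxns : ∀ c : F, (x : Matrix (Fin (a * b)) (Fin (a * b)) F) ≠ c • 1 := by
        intro c hc
        apply hns c
        rw [hxg, hc, map_smul, Matrix.toLin'_one]
        rfl
      obtain ⟨g', -, hmem⟩ := h x
        (Units.ext (by rw [Matrix.GeneralLinearGroup.val_det_apply, hx, hd]; rfl)) ⟨z, hxz⟩ hxns
      rw [hxg]
      exact ten_of_mem e P x g' hmem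
    have fin2 : ∀ d : Fin (a * b) → F, (∏ i, d i) = 1 → ∀ z : F, (∀ i, d i ^ r = z) →
        (∀ c : F, ∃ i, d i ≠ c) → ∀ lam μ : F, lam ≠ 0 → μ ≠ 0 →
        a * b < Nat.card {i // d i = lam} + b →
        ¬ a ∣ Nat.card {i // d i = μ} → ¬ b ∣ Nat.card {i // d i = μ} → False := by
      intro d hd z hz hns lam μ hl hμ h1 h2 h3
      have hT := key (Matrix.toLin' (Matrix.diagonal d))
        (by rw [LinearMap.det_toLin', Matrix.det_diagonal, hd]) z
        (by
          rw [← Matrix.toLin'_pow, Matrix.diagonal_pow, show d ^ r = fun _ => z from funext hz,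
            ← Matrix.smul_one_eq_diagonal, map_smul, Matrix.toLin'_one]
          rfl)
        (fun c hc => by
          obtain ⟨i, hi⟩ := hns c
          apply hi
          have := congrFun (LinearMap.congr_fun hc (Pi.single i 1)) i
          simpa [Matrix.mulVec_diagonal] using this)
      rcases hT.eigen (by omega) hl hμ with ⟨-, h4⟩ | ⟨-, h4⟩ | ⟨h4, -⟩
      · rw [finrank_ker_diag] at h4; exact h2 h4
      · rw [finrank_ker_diag] at h4; exact h3 h4
      · rw [finrank_ker_diag] at h4; omega
    have hrp : r ≠ p := by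
      rintro rfl
      obtain ⟨g, hdet, hg, hns, hk⟩ := exists_transvection (F := F) (r := r) (a * b) (by omega)
      rcases (key g hdet 1 (by rw [hg, one_smul]) hns).eigen (by omega) (one_ne_zero (α := F))
        (one_ne_zero (α := F)) with ⟨h4, -⟩ | ⟨h4, -⟩ | ⟨h4, -⟩
      · rw [one_smul] at h4
        have h5 := Nat.dvd_sub (dvd_mul_right a b) h4
        rw [show a * b - finrank F ↥(LinearMap.ker (g - 1)) = 1 by omega, Nat.dvd_one] at h5
        omega
      · rw [one_smul] at h4
        have h5 := Nat.dvd_sub (dvd_mul_left b a) h4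
        rw [show a * b - finrank F ↥(LinearMap.ker (g - 1)) = 1 by omega, Nat.dvd_one] at h5
        omega
      · rw [one_smul] at h4; omega
    have hr : (r : F) ≠ 0 := by
      rw [Ne, CharP.cast_eq_zero_iff F p, Nat.prime_dvd_prime_iff_eq Fact.out Fact.out]
      exact fun e => hrp e.symm
    set c := orderOf (Fintype.card F : ZMod r) with hc
    have hcpos : 0 < c := orderOf_card_pos hr
    rcases Nat.lt_or_ge c 2 with hc1 | hc2
    · replace hc1 : c = 1 := by omega
      have hrq : r ∣ Fintype.card F - 1 := by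
        have := (card_pow_eq_one_iff (F := F) (r := r) 1).1 (by rw [← hc1]; exact pow_orderOf_eq_one _)
        rwa [pow_one] at this
      let i₀ : Fin (a * b) := ⟨0, by omega⟩
      let i₁ : Fin (a * b) := ⟨1, by omega⟩
      have hne : i₀ ≠ i₁ := fun e => absurd (congrArg Fin.val e) (by simp [i₀, i₁])
      let i₂ : Fin (a * b) := ⟨2, by omega⟩
      have h20 : i₂ ≠ i₀ := fun e => absurd (congrArg Fin.val e) (by simp [i₀, i₂])
      have h21 : i₂ ≠ i₁ := fun e => absurd (congrArg Fin.val e) (by simp [i₁, i₂])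
      by_cases hr2 : r = 2
      · subst hr2
        have h2F : (2 : F) ≠ 0 := by exact_mod_cast hr
        have hodd : Odd (Fintype.card F) := by
          have : 1 ≤ Fintype.card F := Fintype.card_pos
          rw [Nat.odd_iff]; omega
        have hm1 : (-1 : F) ≠ 1 := fun e => h2F (by linear_combination -e)
        refine ⟨rfl, ?_, hodd, ?_⟩
        · by_contra ha2
          let d : Fin (a * b) → F := fun i => if i = i₀ ∨ i = i₁ then -1 else 1
          have hS : ({i | i = i₀ ∨ i = i₁} : Finset (Fin (a * b))) = {i₀, i₁} := by ext; simp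
          have hcard : Nat.card {i // d i = -1} = 2 := by
            rw [Nat.card_eq_fintype_card, Fintype.card_subtype,
              show ({i | d i = -1} : Finset (Fin (a * b))) = {i₀, i₁} by
                ext i; by_cases h1 : i = i₀ ∨ i = i₁ <;> simp [d, h1, hm1.symm] <;> tauto,
              Finset.card_pair hne]
          have hcard1 : Nat.card {i // d i = 1} = a * b - 2 := by
            rw [Nat.card_eq_fintype_card, Fintype.card_subtype,
              show ({i | d i = 1} : Finset (Fin (a * b))) = {i₀, i₁}ᶜ by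
                ext i; by_cases h1 : i = i₀ ∨ i = i₁ <;> simp [d, h1, hm1] <;> tauto,
              Finset.card_compl, Finset.card_pair hne, Fintype.card_fin]
          refine fin2 d ?_ 1 (fun i => ?_) (fun c => ?_) 1 (-1) one_ne_zero (neg_ne_zero.2 one_ne_zero)
            (by rw [hcard1]; omega) (by rw [hcard]; intro hd; have := Nat.le_of_dvd (by omega) hd; omega)
            (by rw [hcard]; intro hd; have := Nat.le_of_dvd (by omega) hd; omega)
          · rw [Finset.prod_ite, Finset.prod_const_one, mul_one, Finset.prod_const, hS,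
              Finset.card_pair hne]
            norm_num
          · simp only [d]; split_ifs <;> simp
          · by_cases h1 : c = 1
            · exact ⟨i₀, by simp [d, h1, hm1]⟩
            · exact ⟨i₂, by simp [d, h20, h21, Ne.symm h1]⟩
        · by_contra hv
          obtain ⟨w, hw⟩ := exists_pow_eq_neg_one (F := F) h2F (show a * b ≠ 0 by omega) (by omega)
          have hw0 : w ≠ 0 := fun e => by
            rw [e, zero_pow (show a * b ≠ 0 by omega)] at hw
            exact one_ne_zero (neg_eq_zero.1 hw.symm)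
          have hwne : -w ≠ w := fun e => hm1 (mul_right_cancel₀ hw0 (by rw [neg_one_mul, one_mul, e]))
          let d : Fin (a * b) → F := fun i => if i = i₀ then -w else w
          have hcard : Nat.card {i // d i = w} = a * b - 1 := by
            rw [Nat.card_eq_fintype_card, Fintype.card_subtype,
              show ({i | d i = w} : Finset (Fin (a * b))) = {i₀}ᶜ by
                ext i; by_cases h1 : i = i₀ <;> simp [d, h1, hwne],
              Finset.card_compl, Finset.card_singleton, Fintype.card_fin]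
          have hnd : ∀ t, 2 ≤ t → t ∣ a * b → ¬ t ∣ a * b - 1 := fun t ht h1 h2 => by
            have h3 := Nat.dvd_sub h1 h2
            rw [show a * b - (a * b - 1) = 1 by omega, Nat.dvd_one] at h3
            omega
          refine fin2 d ?_ (w ^ 2) (fun i => ?_) (fun c => ?_) w w hw0 hw0
            (by rw [hcard]; omega) (by rw [hcard]; exact hnd a ha (dvd_mul_right a b))
            (by rw [hcard]; exact hnd b (by omega) (dvd_mul_left b a))
          · have : ∀ i, d i = w * (if i = i₀ then -1 else 1) := fun i => by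
              simp only [d]; split_ifs <;> ring
            simp_rw [this, Finset.prod_mul_distrib, Finset.prod_const, Finset.card_univ, Fintype.card_fin,
              hw, Finset.prod_ite_eq' Finset.univ i₀ (fun _ => (-1 : F)), if_pos (Finset.mem_univ _)]
            norm_num
          · simp only [d]; split_ifs <;> ring
          · by_cases h1 : c = w
            · exact ⟨i₀, by simp [d, h1, hwne]⟩
            · exact ⟨i₁, by simp [d, Ne.symm hne, Ne.symm h1]⟩
      · exfalso
        obtain ⟨ζ, hζ, hζ1⟩ := exists_root (F := F) (r := r) hrq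
        have hζ0 : ζ ≠ 0 := fun e => by
          rw [e, zero_pow (Fact.out : r.Prime).ne_zero] at hζ; exact zero_ne_one hζ
        have hζi : ζ⁻¹ ≠ 1 := fun e => hζ1 (by rw [← inv_inv ζ, e, inv_one])
        have hζζ : ζ⁻¹ ≠ ζ := fun e => by
          have h2 : ζ ^ 2 = 1 := by
            rw [sq]; conv_lhs => arg 1; rw [← e]
            exact inv_mul_cancel₀ hζ0
          have := pow_gcd_eq_one.2 ⟨h2, hζ⟩
          rw [(Nat.coprime_primes Nat.prime_two Fact.out).2 (Ne.symm hr2), pow_one] at this
          exact hζ1 this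
        let d : Fin (a * b) → F := fun i => if i = i₀ then ζ else if i = i₁ then ζ⁻¹ else 1
        have hcard : Nat.card {i // d i = ζ} = 1 := by
          rw [Nat.card_eq_fintype_card, Fintype.card_subtype,
            show ({i | d i = ζ} : Finset (Fin (a * b))) = {i₀} by
              ext i; by_cases h1 : i = i₀ <;> by_cases h2 : i = i₁ <;> simp [d, h1, h2, hne, Ne.symm hne, hζ1, Ne.symm hζ1, hζζ],
            Finset.card_singleton]
        have hcard1 : Nat.card {i // d i = 1} = a * b - 2 := by
          rw [Nat.card_eq_fintype_card, Fintype.card_subtype,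
            show ({i | d i = 1} : Finset (Fin (a * b))) = {i₀, i₁}ᶜ by
              ext i; by_cases h1 : i = i₀ <;> by_cases h2 : i = i₁ <;> simp [d, h1, h2, hne, Ne.symm hne, hζ1, hζi],
            Finset.card_compl, Finset.card_pair hne, Fintype.card_fin]
        refine fin2 d ?_ 1 (fun i => ?_) (fun c => ?_) 1 ζ one_ne_zero hζ0 (by rw [hcard1]; omega)
          (by rw [hcard, Nat.dvd_one]; omega) (by rw [hcard, Nat.dvd_one]; omega)
        · have : ∀ i, d i = (if i = i₀ then ζ else 1) * (if i = i₁ then ζ⁻¹ else 1) := fun i => by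
            simp only [d]; split_ifs with h1 h2 <;> simp_all
          simp_rw [this, Finset.prod_mul_distrib, Finset.prod_ite_eq' Finset.univ i₀ (fun _ => ζ),
            Finset.prod_ite_eq' Finset.univ i₁ (fun _ => ζ⁻¹), if_pos (Finset.mem_univ _)]
          exact mul_inv_cancel₀ hζ0
        · simp only [d]; split_ifs <;> simp [hζ, inv_pow]
        · by_cases h1 : c = 1
          · exact ⟨i₀, by simp [d, h1, hζ1]⟩
          · exact ⟨i₂, by simp [d, h20, h21, Ne.symm h1]⟩
    · exfalso
      have hcn : c ≤ a * b := le_of_dvd_relIndex hr _ _ hΩ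
      obtain ⟨g, hg, hdet, hg1, hk, -⟩ := DecompPerm84.exists_blocks (V := Fin (a * b) → F) hr hc2
        (b := 1) one_pos (by rw [one_mul, hnV]; exact hcn)
      rw [one_mul] at hk
      refine not_ten_block hr hc2 ha hlt hnV hg hk (key g hdet 1 (by rw [hg, one_smul]) ?_)
      intro w hw
      apply hg1
      rw [hw, smul_pow, one_pow] at hg
      have : Nonempty (Fin (a * b)) := ⟨⟨0, by omega⟩⟩
      have hwr : w ^ r = 1 :=
        smul_left_injective F (one_ne_zero (α := Module.End F (Fin (a * b) → F))) (hg.trans (one_smul F _).symm)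
      have hw0 : w ≠ 0 := fun e => by
        rw [e, zero_pow (Fact.out : r.Prime).ne_zero] at hwr; exact zero_ne_one hwr
      have hrq : ¬ r ∣ Fintype.card F - 1 := fun hd => by
        have h1 := (card_pow_eq_one_iff (F := F) (r := r) 1).2 (by rwa [pow_one])
        rw [pow_one] at h1
        rw [hc, h1, orderOf_one] at hc2
        omega
      have := pow_gcd_eq_one.2 ⟨hwr, FiniteField.pow_card_sub_one_eq_one w hw0⟩
      rw [(Fact.out : r.Prime).coprime_iff_not_dvd.2 hrq, pow_one] at this
      rw [hw, this, one_smul]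
  · rintro ⟨rfl, rfl, hodd, hv⟩ x hx ⟨z, hz⟩ hns
    have h2F : (2 : F) ≠ 0 := by
      intro h0
      have : ringChar F = 2 := by
        have h1 := CharP.cast_eq_zero_iff F p 2
        rw [Nat.cast_ofNat, Nat.prime_dvd_prime_iff_eq Fact.out Nat.prime_two] at h1
        rw [ringChar.eq F p]
        exact h1.1 h0
      have := FiniteField.even_card_of_char_two this
      rw [Nat.odd_iff] at hodd
      omega
    set g := Matrix.toLin' (x : Matrix (Fin (2 * b)) (Fin (2 * b)) F) with hgdef
    have hg2 : g ^ 2 = z • 1 := by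
      rw [hgdef, ← Matrix.toLin'_pow, ← Units.val_pow_eq_pow_val, hz, map_smul, Matrix.toLin'_one]
      rfl
    have hdet : LinearMap.det g = 1 := by
      rw [hgdef, LinearMap.det_toLin']
      exact congrArg Units.val (show Matrix.GeneralLinearGroup.det x = 1 from hx)
    have hz0 : z ≠ 0 := by
      intro e0
      have := congrArg LinearMap.det hg2
      rw [map_pow, hdet, one_pow, e0, LinearMap.det_smul, zero_pow (by rw [hnV]; omega), zero_mul] at this
      exact one_ne_zero this
    have hT : Ten g 2 b := ten_of_conditions h2F hv hdet hz0 hg2 hnV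
    refine mem_of_ten e P x ?_ ?_ hT
    · exact Module.End.isSemisimple_of_squarefree_aeval_eq_zero
        (p := Polynomial.X ^ 2 - Polynomial.C z)
        (Polynomial.separable_X_pow_sub_C z (by exact_mod_cast h2F) hz0).squarefree
        (by rw [map_sub, map_pow, Polynomial.aeval_X, Polynomial.aeval_C, hg2,
          Algebra.algebraMap_eq_smul_one, sub_self])
    · omega
end Cfsg.Agent.S5979
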