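import Cfsg.Statements.S5953
import Cfsg.Agent.Lib.UnitaryIsoInvariant84
import Cfsg.Agent.Lib.UnitaryBlocks84
import Cfsg.Agent.Lib.OrthUnitaryIsotropic
import Cfsg.Agent.Lib.UnitaryDerange84
import Cfsg.Agent.S5979

set_option autoImplicit false
set_option maxHeartbeats 1000000
open scoped MatrixGroups
open Cfsg

namespace Cfsg.Agent.S5953

open Module Polynomial Cfsg.Agent.PrimeOrderModule84 Cfsg.Agent.OrthUnitaryHerm
open UnitaryIsoInvariant84 UnitaryBlocks84
open scoped Matrix

section Helpers

variable {F : Type*} [Field F] [Fintype F] {n q : ℕ}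

/-- The conclusion for one element. -/
abbrev HasTI (q m : ℕ) (T : Module.End F (Fin n → F)) : Prop :=
  ∃ W : Submodule F (Fin n → F), Module.finrank F ↥W = m ∧
    (∀ u ∈ W, ∀ v ∈ W, Cfsg.hermForm n F q u v = 0) ∧ W.map T ≤ W

omit [Fintype F] in
theorem prod_sub_eq (Q : ℕ) : ∀ k : ℕ, ∏ i ∈ Finset.range k, (Q ^ k - Q ^ i) =
    Q ^ (k * (k - 1) / 2) * ∏ i ∈ Finset.range k, (Q ^ (i + 1) - 1)
  | 0 => by simp
  | k + 1 => by
    rw [Finset.prod_range_succ', Finset.prod_range_succ (fun i => Q ^ (i + 1) - 1), pow_zero,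
      Nat.triangle_succ]
    have : ∀ i, Q ^ (k + 1) - Q ^ (i + 1) = Q * (Q ^ k - Q ^ i) := fun i => by
      rw [Nat.mul_sub, pow_succ', pow_succ']
    have ih := prod_sub_eq Q k
    rw [Finset.prod_congr rfl (fun i _ => this i), Finset.prod_mul_distrib, Finset.prod_const, Finset.card_range, ih]
    ring

/-- The number of totally isotropic subspaces. -/
theorem card_ti (hF : Fintype.card F = q ^ 2) {m : ℕ} (hmn : 2 * m ≤ n) :
    Nat.card {W : Submodule F (Fin n → F) // Module.finrank F ↥W = m ∧
      (∀ u ∈ W, ∀ v ∈ W, Cfsg.hermForm n F q u v = 0)} * ∏ i ∈ Finset.range m, ((q ^ 2) ^ (i + 1) - 1) =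
    ∏ x ∈ Finset.range (2 * m),
      (if Even (n - 2 * m + x) then q ^ (n - 2 * m + x + 1) + 1 else q ^ (n - 2 * m + x + 1) - 1) := by
  obtain ⟨d, rfl⟩ : ∃ d, n = d + 2 * m := ⟨n - 2 * m, by omega⟩
  rw [Nat.add_sub_cancel]
  have h := OrthUnitaryIsotropic.card_GU_eq_mul_stab (n := d + 2 * m) (k := m) (m := d) hF (by omega)
  rw [card_GU hF, card_GU hF, Finset.prod_range_add,
    Fin.prod_univ_eq_prod_range (fun i => (q ^ 2) ^ m - (q ^ 2) ^ i), prod_sub_eq] at h
  set f : ℕ → ℕ := fun i => if Even i then q ^ (i + 1) + 1 else q ^ (i + 1) - 1 with hf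
  have hq := two_le_q hF
  have hexp : (d + 2 * m) * (d + 2 * m - 1) / 2 =
      m * m + 2 * m * d + 2 * (m * (m - 1) / 2) + d * (d - 1) / 2 := by
    rw [← Nat.choose_two_right, ← Nat.choose_two_right, ← Nat.choose_two_right]
    have hdm : ∀ a b : ℕ, (a + b).choose 2 = a.choose 2 + a * b + b.choose 2 := by
      intro a b
      induction b with
      | zero => simp
      | succ b ih =>
        rw [← Nat.add_assoc, Nat.choose_succ_succ', Nat.choose_succ_succ' b, Nat.choose_one_right,
          Nat.choose_one_right, ih]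
        ring
    rw [hdm, two_mul m, hdm]
    ring
  have hpos : 0 < q ^ ((d + 2 * m) * (d + 2 * m - 1) / 2) * ∏ i ∈ Finset.range d, f i := by
    refine Nat.mul_pos (Nat.pow_pos (by omega)) (Finset.prod_pos fun i _ => ?_)
    simp only [hf]
    split_ifs
    · omega
    · have : 1 < q ^ (i + 1) := Nat.one_lt_pow (by omega) hq
      omega
  refine Nat.eq_of_mul_eq_mul_left hpos ?_
  show _ = q ^ ((d + 2 * m) * (d + 2 * m - 1) / 2) * (∏ i ∈ Finset.range d, f i) *
    ∏ x ∈ Finset.range (2 * m), f (d + x)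
  rw [mul_assoc _ (∏ i ∈ Finset.range d, f i) (∏ x ∈ Finset.range (2 * m), f (d + x)), h, hexp,
    pow_add, pow_add, pow_mul q 2 (m * (m - 1) / 2)]
  ring

/-- In characteristic `p` the number is prime to `p`. -/
theorem not_char_dvd (hF : Fintype.card F = q ^ 2) {p : ℕ} [Fact p.Prime] [CharP F p] {m : ℕ}
    (hmn : 2 * m ≤ n) : ¬ p ∣ Nat.card {W : Submodule F (Fin n → F) // Module.finrank F ↥W = m ∧
      (∀ u ∈ W, ∀ v ∈ W, Cfsg.hermForm n F q u v = 0)} := by
  intro hd
  have hpp : p.Prime := Fact.out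
  have hq := two_le_q hF
  obtain ⟨k, -, hk⟩ := FiniteField.card F p
  have hpq : p ∣ q := hpp.dvd_of_dvd_pow (show p ∣ q ^ 2 by rw [← hF, hk]; exact dvd_pow_self _ k.ne_zero)
  have h2 : p ∣ ∏ x ∈ Finset.range (2 * m),
      (if Even (n - 2 * m + x) then q ^ (n - 2 * m + x + 1) + 1 else q ^ (n - 2 * m + x + 1) - 1) :=
    card_ti hF hmn ▸ dvd_mul_of_dvd_left hd _
  rw [hpp.prime.dvd_finsetProd_iff] at h2
  obtain ⟨x, -, hx⟩ := h2
  have hqp : p ∣ q ^ (n - 2 * m + x + 1) := dvd_pow hpq (by omega)
  refine hpp.not_dvd_one ?_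
  split_ifs at hx
  · exact (Nat.dvd_add_right hqp).1 hx
  · have := Nat.dvd_sub hqp hx
    rwa [Nat.sub_sub_self (Nat.one_le_pow _ _ (by omega))] at this

theorem exists_order_dvd (hF : Fintype.card F = q ^ 2) {r : ℕ} [Fact r.Prime] {m : ℕ} (hmn : 2 * m ≤ n)
    (hd : r ∣ Nat.card {W : Submodule F (Fin n → F) // Module.finrank F ↥W = m ∧
      (∀ u ∈ W, ∀ v ∈ W, Cfsg.hermForm n F q u v = 0)}) :
    ∃ j, n - 2 * m < j ∧ j ≤ n ∧ (-(q : ZMod r)) ^ j = 1 := by
  have hrp : r.Prime := Fact.out
  have hq := two_le_q hF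
  have h2 : r ∣ ∏ x ∈ Finset.range (2 * m),
      (if Even (n - 2 * m + x) then q ^ (n - 2 * m + x + 1) + 1 else q ^ (n - 2 * m + x + 1) - 1) :=
    card_ti hF hmn ▸ dvd_mul_of_dvd_left hd _
  rw [hrp.prime.dvd_finsetProd_iff] at h2
  obtain ⟨x, hx, hdx⟩ := h2
  rw [Finset.mem_range] at hx
  refine ⟨n - 2 * m + x + 1, by omega, by omega, ?_⟩
  rw [← ZMod.natCast_eq_zero_iff] at hdx
  split_ifs at hdx with he
  · rw [Nat.cast_add, Nat.cast_pow, Nat.cast_one, add_eq_zero_iff_eq_neg] at hdx
    rw [neg_pow, hdx, (Even.add_one he).neg_one_pow, neg_one_mul, neg_neg]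
  · rw [Nat.cast_sub (Nat.one_le_pow _ _ (by omega)), Nat.cast_pow, Nat.cast_one, sub_eq_zero] at hdx
    rw [neg_pow, hdx, ((Nat.not_even_iff_odd.1 he).add_one).neg_one_pow, one_mul]

omit [Fintype F] in
theorem eval_geom_one (r : ℕ) : (∑ i ∈ Finset.range r, (X : F[X]) ^ i).eval 1 = (r : F) := by
  simp [eval_finsetSum]

/-- The two components of an element of order `r`. -/
theorem components (hF : Fintype.card F = q ^ 2) {y : Module.End F (Fin n → F)} {r : ℕ} [Fact r.Prime]
    (hy : ∀ u v, Cfsg.hermForm n F q (y u) (y v) = Cfsg.hermForm n F q u v) (hr : (r : F) ≠ 0)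
    (hyr : y ^ r = 1) :
    ND (Cfsg.hermForm n F q) (LinearMap.ker (y - 1)) ∧ ND (Cfsg.hermForm n F q) (LinearMap.range (y - 1)) ∧
      ∀ u ∈ LinearMap.ker (y - 1), ∀ v ∈ LinearMap.range (y - 1), Cfsg.hermForm n F q v u = 0 := by
  have horth : ∀ u ∈ LinearMap.ker (y - 1), ∀ v ∈ LinearMap.range (y - 1), Cfsg.hermForm n F q v u = 0 := by
    rintro u hu _ ⟨w, rfl⟩
    rw [LinearMap.mem_ker, LinearMap.sub_apply, Module.End.one_apply, sub_eq_zero] at hu
    rw [LinearMap.sub_apply, Module.End.one_apply, herm_sub_left]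
    nth_rw 1 [← hu]
    rw [hy, sub_self]
  have hc := isCompl_ker_range hr hyr
  have hmem : ∀ x : Fin n → F, x ∈ LinearMap.ker (y - 1) ⊔ LinearMap.range (y - 1) := fun x => by
    rw [hc.sup_eq_top]; exact Submodule.mem_top
  refine ⟨fun u hu h0 => eq_zero_of_herm_eq_zero hF fun x => ?_,
    fun u hu h0 => eq_zero_of_herm_eq_zero hF fun x => ?_, horth⟩
  · obtain ⟨a, ha, b, hb, rfl⟩ := Submodule.mem_sup.1 (hmem x)
    rw [herm_add_right hF, h0 a ha, (herm_hermForm hF).zero_comm hF (horth u hu b hb), add_zero]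
  · obtain ⟨a, ha, b, hb, rfl⟩ := Submodule.mem_sup.1 (hmem x)
    rw [herm_add_right hF, horth a ha u hu, h0 b hb, add_zero]

omit [Fintype F] in
theorem pow_mem_of (y : Module.End F (Fin n → F)) {W : Submodule F (Fin n → F)} (w : F)
    (hW : W.map y ≤ W) : W.map (w • y) ≤ W := by
  rintro _ ⟨v, hv, rfl⟩
  rw [LinearMap.smul_apply]
  exact W.smul_mem _ (hW ⟨v, hv, rfl⟩)

/-- Gluing the fixed and the moved part. -/
theorem glue (hF : Fintype.card F = q ^ 2) {y : Module.End F (Fin n → F)} {r : ℕ} [Fact r.Prime]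
    (hy : ∀ u v, Cfsg.hermForm n F q (y u) (y v) = Cfsg.hermForm n F q u v) (hr : (r : F) ≠ 0)
    (hyr : y ^ r = 1) {W : Submodule F (Fin n → F)} (hW : W ≤ LinearMap.range (y - 1)) (hWi : W.map y ≤ W)
    (hWT : TI (Cfsg.hermForm n F q) W) {j : ℕ} (hj : 2 * j ≤ finrank F ↥(LinearMap.ker (y - 1))) :
    HasTI q (finrank F ↥W + j) y := by
  obtain ⟨hK, -, horth⟩ := components hF hy hr hyr
  have hyinj : Function.Injective y := fun u v huv => by
    have h1 := congrArg (fun w => (y ^ (r - 1)) w) huv
    simpa only [← Module.End.mul_apply, ← pow_succ,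
      show r - 1 + 1 = r by have := (Fact.out : r.Prime).two_le; omega, hyr, Module.End.one_apply] using h1
  obtain ⟨U, hU, hUi, hUT, hUd⟩ := exists_iter (herm_hermForm hF) hF hy (r := r) (z := 1) hr one_ne_zero
    (by rw [hyr, one_smul]) hyinj (T := LinearMap.ker (y - 1)) (i := 1) (N := 2)
    (fun R hR _ _ hd => step_scalar (herm_hermForm hF) hF (a := 1) (fun v hv => by
      have := hR hv
      rw [LinearMap.mem_ker, LinearMap.sub_apply, Module.End.one_apply, sub_eq_zero] at this
      rw [this, one_smul]) hd)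
    j (LinearMap.ker (y - 1)) le_rfl (map_le_of_le_ker le_rfl) hK (by omega)
  refine ⟨W ⊔ U, ?_, ?_, by rw [Submodule.map_sup]; exact sup_le_sup hWi hUi⟩
  · have h := Submodule.finrank_sup_add_finrank_inf_eq W U
    rw [show W ⊓ U = ⊥ from ((disjoint_ker_range hr hyr).symm.mono hW hU).eq_bot, finrank_bot, hUd,
      mul_one] at h
    omega
  · intro u hu v hv
    obtain ⟨a, ha, c, hc, rfl⟩ := Submodule.mem_sup.1 hu
    obtain ⟨a', ha', c', hc', rfl⟩ := Submodule.mem_sup.1 hv
    rw [herm_add_left, herm_add_right hF, herm_add_right hF, hWT a ha a' ha', hUT c hc c' hc',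
      horth c' (hU hc') a (hW ha), (herm_hermForm hF).zero_comm hF (horth c (hU hc) a' (hW ha')), add_zero,
      add_zero]

/-- Positive direction for elements of order `r`. -/
theorem pos_power (hF : Fintype.card F = q ^ 2) {y : Module.End F (Fin n → F)} {r : ℕ} [Fact r.Prime]
    (hy : ∀ u v, Cfsg.hermForm n F q (y u) (y v) = Cfsg.hermForm n F q u v) (hr : (r : F) ≠ 0)
    (hr2 : r ≠ 2) (hyr : y ^ r = 1) {m b c s : ℕ} (hm : 2 * m ≤ n)
    (hb : b = orderOf (Fintype.card F : ZMod r)) (hc : c = orderOf (-(q : ZMod r)))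
    (hs : s * b = r - 1) (hk : 2 * (m % b) ≤ n % c)
    (hcase : c = 2 * b ∨ (c = b ∧ s + 2 * (m / b) ≤ n / b)) :
    HasTI q m y := by
  have hrp : r.Prime := Fact.out
  have hbpos : 0 < b := hb ▸ orderOf_card_pos hr
  obtain ⟨-, hV1, -⟩ := components hF hy hr hyr
  have hyinj : Function.Injective y := fun u v huv => by
    have h1 := congrArg (fun w => (y ^ (r - 1)) w) huv
    simpa only [← Module.End.mul_apply, ← pow_succ,
      show r - 1 + 1 = r by have := hrp.two_le; omega, hyr, Module.End.one_apply] using h1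
  set V1 := LinearMap.range (y - 1) with hV1def
  obtain ⟨A, hA⟩ : b ∣ finrank F ↥V1 := hb ▸ dvd_finrank_of_le_range hr hyr (range_inv y) le_rfl
  have hdim := LinearMap.finrank_range_add_finrank_ker (y - 1)
  rw [← hV1def, hA, Module.finrank_fin_fun] at hdim
  set e := finrank F ↥(LinearMap.ker (y - 1)) with he
  set m' := m / b with hm'
  set l := m % b with hl
  have hml : b * m' + l = m := Nat.div_add_mod m b
  have hmul : ∀ {x y : ℕ}, x ≤ y → b * x ≤ b * y := fun h => Nat.mul_le_mul_left b h
  obtain ⟨B, hBm, hB, W, hW, hWi, hWT, hWd⟩ : ∃ B, B ≤ m' ∧ (B = m' ∧ 2 * l ≤ e ∨ 2 * m ≤ e + 2 * (b * B)) ∧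
      ∃ W, W ≤ V1 ∧ W.map y ≤ W ∧ TI (Cfsg.hermForm n F q) W ∧ finrank F ↥W = B * b := by
    rcases hcase with hcb | ⟨hcb, hsm⟩
    · have hbc : b < c := by omega
      have hit := exists_iter (herm_hermForm hF) hF hy (r := r) (z := 1) hr one_ne_zero
        (by rw [hyr, one_smul]) hyinj (T := V1) (i := b) (N := b)
        (fun R hR hRi _ hd => by
          rw [hb]
          exact step_paired (herm_hermForm hF) hF hy hr hyr hyinj (by rw [← hb, ← hc]; exact hbc) hR hRi
            (fun e0 => by rw [e0, finrank_bot] at hd; omega))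
      have hcond : ∀ B, 2 * B ≤ A + 1 → B = 0 ∨ 2 * b * (B - 1) + b ≤ finrank F ↥V1 := by
        intro B hB
        rcases Nat.eq_zero_or_pos B with h0 | h0
        · exact Or.inl h0
        · right
          have := hmul (show 2 * (B - 1) + 1 ≤ A by omega)
          rw [Nat.mul_add, Nat.mul_one, ← mul_assoc, mul_comm b 2] at this
          rw [hA]; exact this
      obtain ⟨W₀, hW₀, -, hW₀T, hW₀d⟩ := hit ((A + 1) / 2) V1 le_rfl (range_inv y) hV1 (hcond _ (by omega))
      have h2 := two_mul_le (herm_hermForm hF) hF hV1 hW₀ hW₀T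
      rw [hW₀d, hA, ← mul_assoc, mul_comm b A] at h2
      have hAev : 2 * ((A + 1) / 2) ≤ A := Nat.le_of_mul_le_mul_right h2 hbpos
      have hA2 : A = 2 * (A / 2) := by omega
      have hkk : n % c ≤ e := by
        have e1 : n = e + c * (A / 2) := by
          rw [hcb, ← hdim, hA2]
          rw [Nat.mul_div_cancel_left _ two_pos]
          ring
        rw [e1, Nat.add_mul_mod_self_left]
        exact Nat.mod_le _ _
      refine ⟨min m' ((A + 1) / 2), min_le_left _ _, ?_,
        hit _ V1 le_rfl (range_inv y) hV1 (hcond _ (by omega))⟩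
      rcases le_total m' ((A + 1) / 2) with h | h
      · exact Or.inl ⟨min_eq_left h, hk.trans hkk⟩
      · right
        have e3 : b * A ≤ 2 * (b * ((A + 1) / 2)) := by
          rw [← mul_assoc, mul_comm 2 b, mul_assoc]; exact hmul (by omega)
        rw [min_eq_right h]
        omega
    · have hit := exists_iter (herm_hermForm hF) hF hy (r := r) (z := 1) hr one_ne_zero
        (by rw [hyr, one_smul]) hyinj (T := V1) (i := b) (N := r)
        (fun R hR hRi _ hd => by
          rw [hb]
          exact step_many (herm_hermForm hF) hF hy hr hr2 hyr hR hRi hd)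
      have hcond : ∀ B, 2 * B ≤ A + 1 - s → B = 0 ∨ 2 * b * (B - 1) + r ≤ finrank F ↥V1 := by
        intro B hB
        rcases Nat.eq_zero_or_pos B with h0 | h0
        · exact Or.inl h0
        · right
          have := hmul (show 2 * (B - 1) + s + 1 ≤ A by omega)
          rw [Nat.mul_add, Nat.mul_add, Nat.mul_one, ← mul_assoc, mul_comm b 2, mul_comm b s, hs] at this
          rw [hA]
          have := hrp.two_le
          omega
      have hkk : n % c ≤ e := by
        rw [hcb, show n = e + b * A by omega, Nat.add_mul_mod_self_left]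
        exact Nat.mod_le _ _
      refine ⟨min m' ((A + 1 - s) / 2), min_le_left _ _, ?_,
        hit _ V1 le_rfl (range_inv y) hV1 (hcond _ (by omega))⟩
      rcases le_total m' ((A + 1 - s) / 2) with h | h
      · exact Or.inl ⟨min_eq_left h, hk.trans hkk⟩
      · right
        rw [min_eq_right h]
        have hn := Nat.div_add_mod n b
        have h1 : b * A ≤ b * s + b * (2 * ((A + 1 - s) / 2)) := by
          rw [← Nat.mul_add]; exact hmul (by omega)
        have h2 := hmul hsm
        rw [Nat.mul_add, ← mul_assoc b 2, mul_comm b 2, mul_assoc] at h2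
        rw [← mul_assoc b 2, mul_comm b 2, mul_assoc] at h1
        rw [hcb] at hk
        omega
  have hle : b * B ≤ b * m' := hmul hBm
  rw [mul_comm] at hWd
  have hj : 2 * (m - finrank F ↥W) ≤ e := by
    rw [hWd]
    rcases hB with ⟨rfl, h⟩ | h <;> omega
  have := glue hF hy hr hyr hW hWi hWT hj
  rwa [show finrank F ↥W + (m - finrank F ↥W) = m by omega] at this

/-- Positive direction when `z` is not an `r`-th power. -/
theorem pos_nonpower (hF : Fintype.card F = q ^ 2) {T : Module.End F (Fin n → F)} {r : ℕ} [Fact r.Prime]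
    (hT : ∀ u v, Cfsg.hermForm n F q (T u) (T v) = Cfsg.hermForm n F q u v) (hr : (r : F) ≠ 0)
    (hr2 : r ≠ 2) {z : F} (hz : z ≠ 0) (hTr : T ^ r = z • 1) (hnp : ∀ b : F, b ^ r ≠ z) {j : ℕ}
    (hj : 2 * (r * j) ≤ n) : HasTI q (r * j) T := by
  have hrp : r.Prime := Fact.out
  have hTi : Function.Injective T := fun u v huv => by
    have h1 := congrArg (fun w => (T ^ (r - 1)) w) huv
    simp only [← Module.End.mul_apply, ← pow_succ,
      show r - 1 + 1 = r by have := hrp.two_le; omega, hTr, LinearMap.smul_apply, Module.End.one_apply] at h1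
    exact smul_right_injective _ hz h1
  obtain ⟨W, -, hWi, hWT, hWd⟩ := exists_iter (herm_hermForm hF) hF hT hr hz hTr hTi (T := ⊤) (i := r)
    (N := r + 1) (fun R _ hRi _ hd => step_nonpower (herm_hermForm hF) hF hT hr2 hz hTr hnp hRi hd)
    j ⊤ le_rfl le_top (nd_top hF) (by
      rcases Nat.eq_zero_or_pos j with h | h
      · exact Or.inl h
      · right
        rw [finrank_top, Module.finrank_fin_fun]
        obtain ⟨j', rfl⟩ : ∃ j', j = j' + 1 := ⟨j - 1, by omega⟩
        rw [Nat.mul_add, Nat.mul_one, Nat.mul_add, ← mul_assoc] at hj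
        rw [Nat.add_sub_cancel]
        have := hrp.two_le
        omega)
  exact ⟨W, by rw [hWd, mul_comm], hWT, hWi⟩

/-- The diagonal refutation. -/
theorem not_diag (hF : Fintype.card F = q ^ 2) {d : Fin n → F} {a : F} {m : ℕ} {S : Finset (Fin n)}
    (hS : ∀ i, i ∉ S → ∀ j, d j = d i → j = i) (hcard : S.card < 2 * m) (hdS : ∀ i ∈ S, d i = a) :
    ¬ HasTI q m (Matrix.toLin' (Matrix.diagonal d)) := by
  classical
  rintro ⟨W, hWd, hWT, hWi⟩
  have hkey : ∀ (P : F[X]), ∀ v ∈ W, (fun i => P.eval (d i) * v i) ∈ W := by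
    intro P v hv
    have h := aeval_mem hWi P hv
    have hev : ∀ (P : F[X]) (v : Fin n → F), Polynomial.aeval (Matrix.toLin' (Matrix.diagonal d)) P v =
        fun i => P.eval (d i) * v i := by
      intro P
      induction P using Polynomial.induction_on with
      | C a => intro v; funext i; simp [Module.algebraMap_end_apply]
      | add p p' hp hp' => intro v; funext i; simp [hp, hp', add_mul]
      | monomial k a ih =>
        intro v
        rw [pow_succ, ← mul_assoc, map_mul, aeval_X, Module.End.mul_apply, ih, Matrix.toLin'_apply]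
        funext i
        simp [Matrix.mulVec_diagonal, eval_mul]
        ring
    rwa [hev] at h
  have hzero : ∀ v ∈ W, ∀ i, i ∉ S → v i = 0 := by
    intro v hv i hi
    let P : F[X] := ∏ x ∈ (Finset.univ.image d).erase (d i), (X - Polynomial.C x)
    have hP0 : P.eval (d i) ≠ 0 := by
      rw [eval_prod, Finset.prod_ne_zero_iff]
      intro x hx
      rw [eval_sub, eval_X, eval_C, sub_ne_zero]
      exact (Finset.mem_erase.1 hx).1.symm
    have hPj : ∀ j, j ≠ i → P.eval (d j) = 0 := by
      intro j hj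
      rw [eval_prod, Finset.prod_eq_zero_iff]
      exact ⟨d j, Finset.mem_erase.2 ⟨fun e => hj (hS i hi j e), Finset.mem_image_of_mem d (Finset.mem_univ _)⟩,
        by rw [eval_sub, eval_X, eval_C, sub_self]⟩
    have h1 := coord_eq_zero hF (hWT _ (hkey P v hv) _ (hkey P v hv)) (i := i)
      (fun j hj => by simp only [hPj j hj, zero_mul])
    exact (mul_eq_zero.1 h1).resolve_left hP0
  have := two_mul_card_le hF hWT hzero
  omega

/-- Coordinates outside the fixed ones and the first blocks. -/
theorem not_blocks (hF : Fintype.card F = q ^ 2) {r : ℕ} [Fact r.Prime] (hr : (r : F) ≠ 0) {A c k : ℕ}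
    (e : (Fin c × Fin A) ⊕ Fin k ≃ Fin n) {T : Module.End F (Fin n → F)}
    {g : Fin A → Module.End F (Fin c → F)} (hT : IsBlocks e T g)
    (hTr : T ^ r = 1) (hfix : ∀ a v, g a v = v → v = 0)
    {b : ℕ} (hb : b = orderOf (Fintype.card F : ZMod r)) {W : Submodule F (Fin n → F)}
    (hWT : TI (Cfsg.hermForm n F q) W) (hWi : W.map T ≤ W)
    (S : Finset (Fin A)) (hS : ∀ v ∈ W, ∀ a, a ∉ S → blockVec e v a = 0) :
    ∃ d₀ j, finrank F ↥W = d₀ + j * b ∧ 2 * d₀ ≤ k ∧ 2 * (j * b) ≤ c * S.card := by
  classical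
  have hrp : r.Prime := Fact.out
  set G : F[X] := X - 1
  set H : F[X] := ∑ i ∈ Finset.range r, X ^ i
  have hGH : G * H = X ^ r - 1 := mul_geom_sum X r
  have hco : IsCoprime G H := Polynomial.Separable.isCoprime (by
    rw [hGH, ← C_1]
    exact separable_X_pow_sub_C 1 hr one_ne_zero)
  have h0 : ∀ v ∈ W, Polynomial.aeval T (G * H) v = 0 := fun v _ => by simp [hGH, hTr]
  have hsplit := SympIsoInvariant84.finrank_split hco hWi h0
  set W₀ := W ⊓ LinearMap.ker (Polynomial.aeval T G) with hW₀
  set W₁ := W ⊓ LinearMap.ker (Polynomial.aeval T H) with hW₁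
  have hGT : Polynomial.aeval T G = T - 1 := by simp [G]
  have hS0 : ∀ v ∈ W₀, ∀ i, i ∉ Finset.univ.image (fun j => e (Sum.inr j)) → v i = 0 := by
    intro v hv i hi
    obtain ⟨x, rfl⟩ := e.surjective i
    rcases x with ⟨j, a⟩ | j
    · have hv' : T v = v := by
        have := hv.2
        rw [SetLike.mem_coe, hGT, LinearMap.mem_ker, LinearMap.sub_apply, Module.End.one_apply, sub_eq_zero] at this
        exact this
      have h1 := hT.block v a
      rw [hv'] at h1
      exact congrFun (hfix a _ h1.symm) j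
    · exact absurd (Finset.mem_image_of_mem _ (Finset.mem_univ j)) hi
  have hW1i : W₁.map T ≤ W₁ := by
    refine le_inf ((Submodule.map_mono inf_le_left).trans hWi) ?_
    rintro _ ⟨v, hv, rfl⟩
    have hv2 := hv.2
    rw [SetLike.mem_coe, LinearMap.mem_ker] at hv2
    rw [LinearMap.mem_ker]
    have hcomm : Polynomial.aeval T H * Polynomial.aeval T (X : F[X]) =
        Polynomial.aeval T (X : F[X]) * Polynomial.aeval T H := by rw [← map_mul, ← map_mul, mul_comm]
    have h2 := LinearMap.congr_fun hcomm v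
    rw [aeval_X, Module.End.mul_apply, Module.End.mul_apply, hv2, map_zero] at h2
    exact h2
  have hS1 : ∀ v ∈ W₁, ∀ i, i ∉ (Finset.univ ×ˢ S).image (fun p => e (Sum.inl p)) → v i = 0 := by
    intro v hv i hi
    obtain ⟨x, rfl⟩ := e.surjective i
    rcases x with ⟨j, a⟩ | j
    · have ha : a ∉ S := fun h => hi (Finset.mem_image_of_mem _ (Finset.mem_product.2 ⟨Finset.mem_univ _, h⟩))
      exact congrFun (hS v hv.1 a ha) j
    · have h1 := (hT.aeval H v).2 j
      rw [LinearMap.mem_ker.1 hv.2, eval_geom_one, Pi.zero_apply, eq_comm, mul_eq_zero] at h1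
      exact h1.resolve_left hr
  have hrange : W₁ ≤ LinearMap.range (T - 1) := by
    intro v hv
    obtain ⟨x, hx, t, ht, rfl⟩ := Submodule.mem_sup.1
      (show v ∈ LinearMap.ker (T - 1) ⊔ LinearMap.range (T - 1) by
        rw [(isCompl_ker_range hr hTr).sup_eq_top]; exact Submodule.mem_top)
    have ht0 : Polynomial.aeval T H t = 0 := by
      obtain ⟨u, rfl⟩ := ht
      rw [← hGT, ← Module.End.mul_apply, ← map_mul, mul_comm, hGH]
      simp [hTr]
    have hx0 : Polynomial.aeval T H x = 0 := by
      have := hv.2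
      rw [SetLike.mem_coe, LinearMap.mem_ker, map_add, ht0, add_zero] at this
      exact this
    have hxr : (r : F) • x = 0 := by
      rw [← hx0]
      rw [LinearMap.mem_ker, LinearMap.sub_apply, Module.End.one_apply, sub_eq_zero] at hx
      have hp : ∀ i : ℕ, (T ^ i) x = x := fun i => by
        induction i with
        | zero => rfl
        | succ i ih => rw [pow_succ, Module.End.mul_apply, hx, ih]
      simp [H, hp, Finset.sum_const, ← Nat.cast_smul_eq_nsmul F]
    rw [(smul_eq_zero.1 hxr).resolve_left hr, zero_add]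
    exact ht
  obtain ⟨j, hj⟩ : b ∣ finrank F ↥W₁ := hb ▸ dvd_finrank_of_le_range hr hTr hW1i hrange
  have hd0 := (two_mul_card_le hF (W := W₀) (fun u hu v hv => hWT u hu.1 v hv.1) hS0).trans
    (Finset.card_image_le.trans (by rw [Finset.card_univ, Fintype.card_fin]))
  have hd1 := (two_mul_card_le hF (W := W₁) (fun u hu v hv => hWT u hu.1 v hv.1) hS1).trans
    (Finset.card_image_le.trans (by rw [Finset.card_product, Finset.card_univ, Fintype.card_fin]))
  rw [hj, mul_comm b j] at hd1 hsplit
  exact ⟨finrank F ↥W₀, j, hsplit, hd0, hd1⟩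

end Helpers

section Elements

variable {F : Type*} [Field F] [Fintype F] {n q : ℕ}

omit [Fintype F] in
theorem det_invol (h2 : (2 : F) ≠ 0) {y : Module.End F (Fin n → F)} (hy : y ^ 2 = 1) :
    LinearMap.det y = (-1) ^ finrank F ↥(LinearMap.range (y - 1)) := by
  classical
  have hc := isCompl_ker_range (r := 2) (by exact_mod_cast h2) hy
  set K := LinearMap.ker (y - 1)
  set R := LinearMap.range (y - 1)
  let e := Submodule.prodEquivOfIsCompl K R hc
  have hR : ∀ v ∈ R, y v = -v := by
    rintro _ ⟨u, rfl⟩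
    have h := LinearMap.congr_fun hy u
    rw [pow_two, Module.End.mul_apply, Module.End.one_apply] at h
    simp only [LinearMap.sub_apply, Module.End.one_apply, map_sub, h]
    abel
  have hconj : e.conj ((LinearMap.id : ↥K →ₗ[F] ↥K).prodMap ((-1 : F) • (LinearMap.id : ↥R →ₗ[F] ↥R))) = y := by
    refine LinearMap.ext fun v => ?_
    obtain ⟨⟨a, b⟩, rfl⟩ := e.surjective v
    rw [LinearEquiv.conj_apply_apply, LinearEquiv.symm_apply_apply]
    have ha : y (a : Fin n → F) = a := by
      have h := a.2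
      rwa [LinearMap.mem_ker, LinearMap.sub_apply, Module.End.one_apply, sub_eq_zero] at h
    simp [e, Submodule.coe_prodEquivOfIsCompl', ha, hR _ b.2]
  conv_lhs => rw [← hconj]
  rw [LinearEquiv.conj_apply, LinearMap.comp_assoc, LinearMap.det_conj, LinearMap.det_prodMap,
    LinearMap.det_id, LinearMap.det_smul, LinearMap.det_id, one_mul, mul_one]

/-- An element of `SU` with a given scalar power and no small invariant subspaces. -/
theorem exists_monomial (hF : Fintype.card F = q ^ 2) {r : ℕ} [Fact r.Prime] (hr2 : r ≠ 2) {t : ℕ}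
    (hn : n = t * r) (ht : 0 < t) {z : F} (hz : z ^ (q + 1) = 1) (hzt : z ^ t = 1) :
    ∃ x : Matrix.SpecialLinearGroup (Fin n) F, x ∈ Cfsg.SU n F q ∧
      (x : Matrix (Fin n) (Fin n) F) ^ r = z • 1 ∧ ∀ s : F, (x : Matrix (Fin n) (Fin n) F) ≠ s • 1 := by
  classical
  have hrp : r.Prime := Fact.out
  haveI : NeZero r := ⟨hrp.ne_zero⟩
  haveI : Fact (1 < r) := ⟨hrp.one_lt⟩
  let e : Fin t × ZMod r ≃ Fin n := Fintype.equivFinOfCardEq
    (by rw [Fintype.card_prod, Fintype.card_fin, ZMod.card, hn])
  let π : Equiv.Perm (Fin n) := e.symm.trans (((Equiv.refl (Fin t)).prodCongr (Equiv.addRight (1 : ZMod r))).trans e)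
  have hπ : ∀ a x, π (e (a, x)) = e (a, x + 1) := fun a x => by simp [π]
  let δ : ZMod r → F := fun x => if x = 0 then z else 1
  let d : Fin n → F := fun i => δ (e.symm i).2
  have hd : ∀ a x, d (e (a, x)) = δ x := fun a x => by simp [d]
  have hdn : ∀ i, d i ^ (q + 1) = 1 := fun i => by
    simp only [d, δ]
    split_ifs
    exacts [hz, one_pow _]
  have hpow : ∀ (k : ℕ) (v : Fin n → F) (a : Fin t) (x : ZMod r),
      ((monMat π d) ^ k *ᵥ v) (e (a, x)) = (∏ l ∈ Finset.range k, δ (x + 1 + l)) * v (e (a, x + k)) := by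
    intro k
    induction k with
    | zero => intro v a x; simp
    | succ k ih =>
      intro v a x
      rw [pow_succ', ← Matrix.mulVec_mulVec, monMat_mulVec, hπ, hd, ih, Finset.prod_range_succ']
      simp only [Nat.cast_zero, add_zero, Nat.cast_add, Nat.cast_one]
      rw [show x + 1 + (k : ZMod r) = x + ((k : ZMod r) + 1) by ring]
      have : ∀ l : ℕ, x + 1 + ((l : ZMod r) + 1) = x + 1 + 1 + l := fun l => by ring
      simp only [this]
      ring
  have hr1 : ∀ v, (monMat π d) ^ r *ᵥ v = z • v := fun v => funext fun i => by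
    obtain ⟨⟨a, x⟩, rfl⟩ := e.surjective i
    rw [hpow, ZMod.natCast_self, add_zero, Pi.smul_apply, smul_eq_mul]
    congr 1
    rw [Finset.prod_eq_single (-(x + 1)).val]
    · rw [ZMod.natCast_zmod_val, add_neg_cancel]
      exact if_pos rfl
    · intro l hl hne
      refine if_neg fun h0 => hne ?_
      rw [← eq_neg_of_add_eq_zero_right h0, ZMod.val_natCast, Nat.mod_eq_of_lt (Finset.mem_range.1 hl)]
    · intro h; exact absurd (Finset.mem_range.2 (ZMod.val_lt _)) h
  have hMr : (monMat π d) ^ r = z • 1 := by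
    apply Matrix.toLin'.injective
    refine LinearMap.ext fun v => ?_
    rw [Matrix.toLin'_apply, Matrix.toLin'_apply, hr1, Matrix.smul_mulVec, Matrix.one_mulVec]
  have hsign : (Equiv.Perm.sign π : F) = 1 := by
    have hpr : π ^ r = 1 := by
      have hk : ∀ (k : ℕ) a x, (π ^ k) (e (a, x)) = e (a, x + k) := by
        intro k
        induction k with
        | zero => intro a x; simp
        | succ k ih =>
          intro a x
          rw [pow_succ', Equiv.Perm.mul_apply, ih, hπ, Nat.cast_succ, add_assoc]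
      refine Equiv.ext fun i => ?_
      obtain ⟨⟨a, x⟩, rfl⟩ := e.surjective i
      rw [hk, ZMod.natCast_self, add_zero]; rfl
    have h1 := congrArg Equiv.Perm.sign hpr
    rw [map_pow, map_one] at h1
    obtain ⟨h, hh⟩ := hrp.odd_of_ne_two hr2
    rw [hh, pow_succ, pow_mul, Int.units_sq, one_pow, one_mul] at h1
    rw [h1]; simp
  have hprod : ∏ i, d i = z ^ t := by
    rw [← e.prod_comp, Fintype.prod_prod_type]
    simp [hd, δ, Finset.prod_ite_eq']
  refine ⟨⟨monMat π d, by rw [det_monMat, hsign, hprod, hzt, one_mul]⟩, fun u v => isU_monMat π hdn u v,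
    hMr, fun s hs => ?_⟩
  have h1 := congrArg (fun M : Matrix (Fin n) (Fin n) F => (M *ᵥ Pi.single (e (⟨0, ht⟩, 1)) 1) (e (⟨0, ht⟩, 0))) hs
  simp [monMat_mulVec, hπ, hd, δ, Matrix.smul_mulVec] at h1

omit [Fintype F] in
/-- Representatives for the classes of exponents. -/
theorem exists_reps {r : ℕ} [Fact r.Prime] {Q : ℕ} (hQ : (Q : ZMod r) ≠ 0) {b s : ℕ}
    (hb : b = orderOf (Q : ZMod r)) (hs : s * b = r - 1) :
    ∃ J : Fin s → ℕ, (∀ l, ¬ r ∣ J l) ∧ ∀ l l' : Fin s, l ≠ l' → ∀ u : ℕ,
      (J l' : ZMod r) ≠ (J l : ZMod r) * (Q : ZMod r) ^ u := by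
  classical
  haveI : NeZero r := ⟨(Fact.out : r.Prime).ne_zero⟩
  set uQ : (ZMod r)ˣ := Units.mk0 _ hQ with huQ
  set H := Subgroup.zpowers uQ
  have hH : Nat.card H = b := by
    rw [Nat.card_zpowers, ← orderOf_units, huQ, Units.val_mk0, hb]
  have hindex : H.index = s := by
    have h1 := H.card_mul_index
    rw [hH, Nat.card_units, Nat.card_zmod, ← hs, mul_comm s b] at h1
    exact Nat.eq_of_mul_eq_mul_left (hH ▸ Nat.card_pos) h1
  let E : Fin s ≃ (ZMod r)ˣ ⧸ H := (Finite.equivFinOfCardEq (show Nat.card ((ZMod r)ˣ ⧸ H) = s from hindex)).symm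
  refine ⟨fun l => (((E l).out : (ZMod r)ˣ) : ZMod r).val, fun l hd => ?_, fun l l' hne u h => hne ?_⟩
  · rw [← ZMod.natCast_eq_zero_iff, ZMod.natCast_zmod_val] at hd
    exact (E l).out.ne_zero hd
  · simp only [ZMod.natCast_zmod_val] at h
    have h' : (E l').out = (E l).out * uQ ^ u :=
      Units.ext (by rw [Units.val_mul, Units.val_pow_eq_pow_val, huQ, Units.val_mk0]; exact h)
    apply E.injective
    rw [← QuotientGroup.out_eq' (E l), ← QuotientGroup.out_eq' (E l'), QuotientGroup.eq, h',
      inv_mul_cancel_left]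
    exact Subgroup.pow_mem _ (Subgroup.mem_zpowers _) u

theorem isU_pow {c : ℕ} {g : Matrix (Fin c) (Fin c) F} (hg : IsU q g) : ∀ j : ℕ, IsU q (g ^ j)
  | 0 => fun u v => by simp
  | j + 1 => by rw [pow_succ]; exact (isU_pow hg j).mul hg

end Elements

/-- Elements of prime order of PSU_n(q) with no fixed totally isotropic `m`-space. Here `T = PSU_n(q)` (`n ≥ 3`, `(n, q) ≠ (3, 2)`), realised through the matrices of determinant 1 over the field `F` with `q²` elements preserving the Hermitian form `h(u, v) = Σ u_i v_i^q`; an element of `T` of prime order `r` is such a matrix `x` with `x^r` scalar and `x` not scalar. For `r ≠ p` let `i` be the multiplicative order of `q` modulo `r`, `b = i/2` for `i` even and `b = i` for `i` odd, `c = i, i/2, 2i` according as `i ≡ 0, 2 (mod 4)` or `i` odd, and write `k = n mod c`, `ℓ = m mod b`, `ℓ' = m mod c`, `n' = ⌊n/b⌋`, `m' = ⌊m/b⌋`, `s = (r−1)/b`; `(a)_r` is the `r`-part of `a`. Let `1 ≤ m ≤ n/2` and let `r` be a prime dividing the number of totally isotropic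 `m`-spaces. Then every element of `T` of order `r` fixes a totally isotropic `m`-space if and only if either (i) `r = 2`, `p ≠ 2`, and (`m < n/2` or `(q+1)_2 ≤ (n)_2`); or (ii) `r ≠ p`, `r > 2`, `b ≤ m`, `k ≥ 2ℓ`, and either `i ≢ 2 (mod 4)`, or `i ≡ 2 (mod 4)`, `n' − 2m' ≥ s` and (`i > 2`, or `i = 2` and (`r ∣ m` or `(q+1)_r ≥ (n)_r`)). -/
theorem result {F : Type*} [Field F] [Fintype F] {p : ℕ} [Fact p.Prime] [CharP F p] {q : ℕ} (hq : Fintype.card F = q ^ 2)
    (n m : ℕ) (hn : 3 ≤ n) (hT : (n, q) ≠ (3, 2)) (hm : 1 ≤ m) (hmn : 2 * m ≤ n)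
    (r : ℕ) [Fact r.Prime]
    (hrΩ : r ∣ Nat.card {W : Submodule F (Fin n → F) // Module.finrank F ↥W = m ∧ (∀ u ∈ W, ∀ v ∈ W, Cfsg.hermForm n F q u v = 0)})
    (i b c : ℕ) (hi : i = orderOf (q : ZMod r)) (hb : b = if Even i then i / 2 else i)
    (hc : c = if i % 4 = 0 then i else if i % 4 = 2 then i / 2 else 2 * i) :
    (∀ x : Matrix.SpecialLinearGroup (Fin n) F, x ∈ Cfsg.SU n F q →
      (∃ z : F, ((x ^ r : Matrix.SpecialLinearGroup (Fin n) F) : Matrix (Fin n) (Fin n) F) = z • (1 : Matrix (Fin n) (Fin n) F)) →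
      (∀ z : F, (x : Matrix (Fin n) (Fin n) F) ≠ z • (1 : Matrix (Fin n) (Fin n) F)) →
      ∃ W : Submodule F (Fin n → F), Module.finrank F ↥W = m ∧ (∀ u ∈ W, ∀ v ∈ W, Cfsg.hermForm n F q u v = 0) ∧
        W.map (Matrix.toLin' (x : Matrix (Fin n) (Fin n) F)) ≤ W) ↔
    ((r = 2 ∧ p ≠ 2 ∧ (2 * m < n ∨ padicValNat 2 (q + 1) ≤ padicValNat 2 n)) ∨
     (r ≠ p ∧ 2 < r ∧ b ≤ m ∧ 2 * (m % b) ≤ n % c ∧
       (i % 4 ≠ 2 ∨ (i % 4 = 2 ∧ (r - 1) / b + 2 * (m / b) ≤ n / b ∧
         (2 < i ∨ (i = 2 ∧ (r ∣ m ∨ padicValNat r n ≤ padicValNat r (q + 1)))))))) := by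
  classical
  have hrp : r.Prime := Fact.out
  have hpp : p.Prime := Fact.out
  have hq2 := two_le_q hq
  haveI : Nonempty (Fin n) := ⟨⟨0, by omega⟩⟩
  rcases eq_or_ne r p with hrp' | hrp'
  · exact absurd hrΩ (hrp' ▸ not_char_dvd hq hmn)
  have hr : (r : F) ≠ 0 := fun e => hrp'
    ((Nat.prime_dvd_prime_iff_eq hpp hrp).1 ((CharP.cast_eq_zero_iff F p r).1 e)).symm
  have hH := herm_hermForm (F := F) (n := n) hq
  -- facts about a given element
  have hfacts : ∀ x : Matrix.SpecialLinearGroup (Fin n) F, x ∈ Cfsg.SU n F q → ∀ z : F,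
      ((x ^ r : Matrix.SpecialLinearGroup (Fin n) F) : Matrix (Fin n) (Fin n) F) = z • 1 →
      let T := Matrix.toLin' (x : Matrix (Fin n) (Fin n) F)
      z ≠ 0 ∧ z ^ (q + 1) = 1 ∧ T ^ r = z • 1 ∧ LinearMap.det T = 1 ∧
        ∀ u v, Cfsg.hermForm n F q (T u) (T v) = Cfsg.hermForm n F q u v := by
    intro x hx z hz
    have hT : ∀ u v, Cfsg.hermForm n F q (Matrix.toLin' (x : Matrix (Fin n) (Fin n) F) u)
        (Matrix.toLin' (x : Matrix (Fin n) (Fin n) F) v) = Cfsg.hermForm n F q u v := fun u v => by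
      rw [Matrix.toLin'_apply, Matrix.toLin'_apply]; exact hx u v
    rw [Matrix.SpecialLinearGroup.coe_pow] at hz
    have hTr : (Matrix.toLin' (x : Matrix (Fin n) (Fin n) F)) ^ r = z • 1 := by
      rw [← Matrix.toLin'_pow, hz, map_smul, Matrix.toLin'_one]; rfl
    have hd : LinearMap.det (Matrix.toLin' (x : Matrix (Fin n) (Fin n) F)) = 1 := by
      rw [LinearMap.det_toLin']; exact x.2
    obtain ⟨v, hv⟩ := UnitaryDerange84.exists_aniso (F := F) (n := n) hq (by omega)
    have hz1 : z ^ (q + 1) = 1 := by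
      have h1 := UnitaryDerange84.pow_apply_of_sim (b := Cfsg.hermForm n F q) (l := 1)
        (fun u v => by rw [one_mul, hT]) r v v
      rw [hTr, LinearMap.smul_apply, Module.End.one_apply, herm_smul_left, herm_smul_right, hv, one_pow,
        one_mul, mul_one] at h1
      rwa [pow_succ']
    exact ⟨fun e => by simp [e] at hz1, hz1, hTr, hd, hT⟩
  rcases eq_or_ne r 2 with hr2 | hr2
  · subst hr2
    have h2 : (2 : F) ≠ 0 := by exact_mod_cast hr
    have hp2 : p ≠ 2 := hrp'.symm
    obtain ⟨k, -, hk⟩ := FiniteField.card F p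
    have hqo : Odd q := by
      have h1 : Odd (q ^ 2) := by rw [← hq, hk]; exact ((hpp.odd_of_ne_two hp2)).pow
      exact (Nat.odd_pow_iff two_ne_zero).1 h1
    obtain ⟨q₁, hq₁⟩ := hqo
    have hq1 : q + 1 ≠ 0 := by omega
    haveI : Fact (Nat.Prime 2) := ⟨Nat.prime_two⟩
    by_cases hcond : 2 * m < n ∨ padicValNat 2 (q + 1) ≤ padicValNat 2 n
    · refine iff_of_true ?_ (Or.inl ⟨rfl, hp2, hcond⟩)
      intro x hx ⟨z, hz⟩ _
      obtain ⟨hz0, hz1, hTr, hdT, hT⟩ := hfacts x hx z hz
      set T := Matrix.toLin' (x : Matrix (Fin n) (Fin n) F)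
      obtain ⟨w, hw⟩ : ∃ w : F, w ^ 2 = z := by
        have hring : ringChar F ≠ 2 := fun e => h2 (by
          have := ringChar.Nat.cast_ringChar (R := F)
          rw [e] at this
          exact_mod_cast this)
        have hhalf : Fintype.card F / 2 = (q + 1) * q₁ := by
          rw [hq, hq₁, show (2 * q₁ + 1) ^ 2 = 2 * ((2 * q₁ + 1 + 1) * q₁) + 1 by ring]
          omega
        obtain ⟨b, hb⟩ := (FiniteField.isSquare_iff hring hz0).2 (by rw [hhalf, pow_mul, hz1, one_pow])
        exact ⟨b, by rw [hb, _root_.sq]⟩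
      have hw0 : w ≠ 0 := fun e => hz0 (by rw [← hw, e, zero_pow two_ne_zero])
      set y := w⁻¹ • T with hy
      have hy2 : y ^ 2 = 1 := by
        rw [hy, _root_.smul_pow, hTr, smul_smul, inv_pow, ← hw, inv_mul_cancel₀ (pow_ne_zero _ hw0), one_smul]
      have hTy : T = w • y := by rw [hy, smul_smul, mul_inv_cancel₀ hw0, one_smul]
      have hyy : ∀ u v, Cfsg.hermForm n F q (y u) (y v) = (w⁻¹) ^ (q + 1) * Cfsg.hermForm n F q u v := by
        intro u v
        rw [hy, LinearMap.smul_apply, LinearMap.smul_apply, herm_smul_left, herm_smul_right, hT, pow_succ']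
        ring
      suffices HasTI q m y by
        obtain ⟨W, h1, h2, h3⟩ := this
        exact ⟨W, h1, h2, by rw [hTy]; exact pow_mem_of y w h3⟩
      have hη2 : ((w⁻¹) ^ (q + 1)) ^ 2 = 1 := by
        rw [← pow_mul, mul_comm, pow_mul, inv_pow, hw, inv_pow, hz1, inv_one]
      have hc := isCompl_ker_range (r := 2) h2 hy2
      have hdim := LinearMap.finrank_range_add_finrank_ker (y - 1)
      rw [Module.finrank_fin_fun] at hdim
      have hR : ∀ v ∈ LinearMap.range (y - 1), y v = (-1 : F) • v := by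
        rintro _ ⟨u, rfl⟩
        have h := LinearMap.congr_fun hy2 u
        rw [pow_two, Module.End.mul_apply, Module.End.one_apply] at h
        simp only [LinearMap.sub_apply, Module.End.one_apply, map_sub, h, neg_smul, one_smul]
        abel
      have hK : ∀ v ∈ LinearMap.ker (y - 1), y v = (1 : F) • v := fun v hv => by
        rw [LinearMap.mem_ker, LinearMap.sub_apply, Module.End.one_apply, sub_eq_zero] at hv
        rw [hv, one_smul]
      rcases sq_eq_one_iff.1 hη2 with hη | hη
      · -- an isometry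
        have hiso : ∀ u v, Cfsg.hermForm n F q (y u) (y v) = Cfsg.hermForm n F q u v := fun u v => by
          rw [hyy, hη, one_mul]
        have hyinj : Function.Injective y := fun u v huv => by
          have h1 := congrArg y huv
          rwa [← Module.End.mul_apply, ← Module.End.mul_apply, ← pow_two, hy2, Module.End.one_apply,
            Module.End.one_apply] at h1
        obtain ⟨-, hV1, -⟩ := components (r := 2) hq hiso h2 hy2
        set V1 := LinearMap.range (y - 1) with hV1d
        obtain ⟨W, hW, hWi, hWT, hWd⟩ := exists_iter hH hq hiso (r := 2) (z := 1) h2 one_ne_zero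
          (by rw [hy2, one_smul]) hyinj (T := V1) (i := 1) (N := 2)
          (fun R hR' _ _ hd => step_scalar hH hq (fun v hv => hR v (hR' hv)) hd)
          (min m (finrank F ↥V1 / 2)) V1 le_rfl (range_inv y) hV1 (by omega)
        rw [mul_one] at hWd
        have hrem : 2 * (m - finrank F ↥W) ≤ finrank F ↥(LinearMap.ker (y - 1)) := by
          rw [hWd]
          by_contra hbad
          have hne : finrank F ↥V1 % 2 = 1 ∧ 2 * m = n := by omega
          have hd1 : LinearMap.det y = (-1) ^ finrank F ↥V1 := det_invol (by exact_mod_cast h2) hy2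
          rw [(Nat.odd_iff.2 hne.1).neg_one_pow] at hd1
          have hwn : w ^ n = -1 := by
            rw [hTy, LinearMap.det_smul, Module.finrank_fin_fun, hd1] at hdT
            linear_combination -hdT
          have hle : padicValNat 2 (q + 1) ≤ padicValNat 2 n := hcond.resolve_left (by omega)
          obtain ⟨s, hs⟩ : 2 ^ padicValNat 2 (q + 1) ∣ n :=
            dvd_trans (pow_dvd_pow 2 hle) pow_padicValNat_dvd
          obtain ⟨o, ho⟩ : 2 ^ padicValNat 2 (q + 1) ∣ q + 1 := pow_padicValNat_dvd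
          have hodd : Odd o := Nat.not_even_iff_odd.1 fun he => by
            obtain ⟨o', rfl⟩ := even_iff_two_dvd.1 he
            exact pow_succ_padicValNat_not_dvd (p := 2) hq1
              ⟨o', by rw [pow_succ]; linear_combination ho⟩
          have hw1 : w ^ (q + 1) = 1 := by
            rw [inv_pow, inv_eq_one] at hη; exact hη
          have h3 : (w ^ n) ^ o = 1 := by
            rw [← pow_mul, show n * o = (q + 1) * s by linear_combination o * hs - s * ho, pow_mul, hw1,
              one_pow]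
          rw [hwn, hodd.neg_one_pow] at h3
          exact h2 (by linear_combination -h3)
        have := glue (r := 2) hq hiso h2 hy2 hW hWi hWT hrem
        rwa [show finrank F ↥W + (m - finrank F ↥W) = m by omega] at this
      · -- the eigenspaces are totally isotropic
        have hTI : ∀ (a : F) (U : Submodule F (Fin n → F)), a * a ^ q = 1 → (∀ v ∈ U, y v = a • v) →
            TI (Cfsg.hermForm n F q) U := by
          intro a U ha hU u hu v hv
          have h1 := hyy u v
          rw [hU u hu, hU v hv, herm_smul_left, herm_smul_right, hη] at h1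
          rw [← mul_assoc, ha, one_mul, neg_one_mul, eq_neg_iff_add_eq_zero, ← two_mul] at h1
          exact (mul_eq_zero.1 h1).resolve_left (by exact_mod_cast h2)
        have hK' := hTI 1 (LinearMap.ker (y - 1)) (by rw [one_pow, one_mul]) hK
        have hR' := hTI (-1) (LinearMap.range (y - 1)) (by
          rw [hq₁, Odd.neg_one_pow ⟨q₁, rfl⟩, neg_one_mul, neg_neg]) hR
        have hd1 := two_mul_le hH hq (nd_top hq) le_top hK'
        have hd2 := two_mul_le hH hq (nd_top hq) le_top hR'
        rw [finrank_top, Module.finrank_fin_fun] at hd1 hd2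
        obtain ⟨W, -, hW, hWd⟩ := exists_between (bot_le : (⊥ : Submodule F (Fin n → F)) ≤ LinearMap.ker (y - 1))
          (k := m) (by simp) (by omega)
        refine ⟨W, hWd, fun u hu v hv => hK' u (hW hu) v (hW hv), ?_⟩
        rintro _ ⟨v, hv, rfl⟩
        rw [hK v (hW hv), one_smul]
        exact hv
    · refine iff_of_false ?_ (by
        rintro (⟨-, -, h⟩ | ⟨-, h, -⟩)
        · exact hcond h
        · omega)
      rw [not_or] at hcond
      have hn2 : n = 2 * m := by omega
      have hlt : padicValNat 2 n + 1 ≤ padicValNat 2 (q + 1) := by omega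
      set v₂ := padicValNat 2 n
      obtain ⟨s, hs⟩ : 2 ^ (v₂ + 1) ∣ q + 1 := dvd_trans (pow_dvd_pow 2 hlt) pow_padicValNat_dvd
      obtain ⟨o, ho⟩ : 2 ^ v₂ ∣ n := pow_padicValNat_dvd
      have hodd : Odd o := Nat.not_even_iff_odd.1 fun he => by
        obtain ⟨o', rfl⟩ := even_iff_two_dvd.1 he
        exact pow_succ_padicValNat_not_dvd (p := 2) (show n ≠ 0 by omega)
          ⟨o', by rw [pow_succ]; linear_combination ho⟩
      obtain ⟨a, -, hao⟩ := exists_generator (F := F)
      have hcard : Fintype.card F - 1 = (q + 1) * (q - 1) := by rw [hq]; simpa using Nat.sq_sub_sq q 1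
      set w : F := ((a ^ ((q - 1) * s) : Fˣ) : F) with hwd
      have hwpow : ∀ j, w ^ j = 1 ↔ 2 ^ (v₂ + 1) ∣ j := by
        intro j
        rw [hwd, ← Units.val_pow_eq_pow_val, Units.val_eq_one, ← pow_mul, ← orderOf_dvd_iff_pow_eq_one, hao,
          hcard, hs, show 2 ^ (v₂ + 1) * s * (q - 1) = (q - 1) * s * 2 ^ (v₂ + 1) by ring]
        refine Nat.mul_dvd_mul_iff_left (Nat.mul_pos (by omega) (Nat.pos_of_ne_zero fun e => ?_))
        rw [e, mul_zero] at hs; omega
      have hw1 : w ^ (q + 1) = 1 := (hwpow _).2 ⟨s, hs⟩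
      have hwn : w ^ n = -1 := by
        have hhalf : w ^ (2 ^ v₂) = -1 := by
          refine (mul_self_eq_one_iff.1 ?_).resolve_left fun h => ?_
          · rw [← pow_add, hwpow, pow_succ]
            exact ⟨1, by ring⟩
          · exact absurd (Nat.le_of_dvd (Nat.two_pow_pos _) ((hwpow _).1 h))
              (not_le.2 (Nat.pow_lt_pow_right one_lt_two (Nat.lt_succ_self _)))
        rw [ho, pow_mul, hhalf, hodd.neg_one_pow]
      set i₀ : Fin n := ⟨0, by omega⟩
      have hw0 : w ≠ 0 := (a ^ ((q - 1) * s)).ne_zero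
      set d : Fin n → F := Function.update (fun _ => w) i₀ (-w) with hd
      have hdet : ∏ i, d i = 1 := by
        rw [hd, Finset.prod_update_of_mem (Finset.mem_univ _), Finset.prod_const, ← Finset.erase_eq,
          Finset.card_erase_of_mem (Finset.mem_univ _), Finset.card_univ, Fintype.card_fin, neg_mul,
          ← pow_succ', Nat.sub_add_cancel (by omega), hwn, neg_neg]
      have hdi : ∀ i, i ≠ i₀ → d i = w := fun i hi => Function.update_of_ne hi _ _
      have hd0 : d i₀ = -w := Function.update_self _ _ _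
      have hne : -w ≠ w := fun e => by
        rw [neg_eq_iff_add_eq_zero, ← two_mul, mul_eq_zero] at e
        exact e.elim h2 hw0
      obtain ⟨x, hxS, hxd⟩ := exists_diag hq d (fun i => by
        by_cases hi : i = i₀
        · rw [hi, hd0, neg_pow, hw1, mul_one]
          exact Even.neg_one_pow ⟨q₁ + 1, by omega⟩
        · rw [hdi i hi, hw1]) hdet
      intro hall
      refine not_diag hq (d := d) (a := w) (m := m) (S := Finset.univ.erase i₀) ?_ ?_
        (fun i hi => hdi i (Finset.mem_erase.1 hi).1) ?_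
      · intro i hi j hj
        rw [Finset.mem_erase, not_and_or] at hi
        have hi' : i = i₀ := by simpa using hi
        rw [hi', hd0] at hj
        rw [hi']
        by_contra hne'
        rw [hdi j hne'] at hj
        exact hne hj.symm
      · rw [Finset.card_erase_of_mem (Finset.mem_univ _), Finset.card_univ, Fintype.card_fin]; omega
      · rw [← hxd]
        refine hall x hxS ⟨w ^ 2, ?_⟩ (fun s hs' => ?_)
        · rw [Matrix.SpecialLinearGroup.coe_pow, hxd, Matrix.diagonal_pow]
          ext i j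
          rcases eq_or_ne i j with rfl | hij
          · rcases eq_or_ne i i₀ with rfl | hi
            · simp [hd0]
            · simp [hdi i hi]
          · simp [Matrix.diagonal_apply_ne _ hij, Matrix.one_apply_ne hij]
        · rw [hxd, Matrix.smul_one_eq_diagonal, Matrix.diagonal_eq_diagonal_iff] at hs'
          exact hne (by rw [← hd0, hs' i₀, ← hs' ⟨1, by omega⟩, hdi _ (by simp [i₀, Fin.ext_iff])])
  -- odd `r`
  have hr3 : 2 < r := by have := hrp.two_le; omega
  haveI : Fact (2 < r) := ⟨hr3⟩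
  set Q := (q : ZMod r) with hQdef
  have hQ0 : Q ≠ 0 := fun e => natCast_card_ne_zero (r := r) hr (by rw [hq, Nat.cast_pow, ← hQdef, e, zero_pow two_ne_zero])
  have hcardQ : (Fintype.card F : ZMod r) = Q ^ 2 := by rw [hq, Nat.cast_pow]
  have hipos : 0 < i := by
    rw [hi, show Q = ((Units.mk0 _ hQ0 : (ZMod r)ˣ) : ZMod r) from rfl, orderOf_units]
    exact orderOf_pos _
  have hQi : ∀ j, Q ^ j = 1 ↔ i ∣ j := fun j => by rw [hi, orderOf_dvd_iff_pow_eq_one]
  have hb' : b = orderOf (Fintype.card F : ZMod r) := by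
    rw [hcardQ, orderOf_pow' _ two_ne_zero, ← hi, hb]
    rcases Nat.even_or_odd i with h | h
    · rw [if_pos h, Nat.gcd_eq_right (even_iff_two_dvd.1 h)]
    · rw [if_neg (Nat.not_even_iff_odd.2 h), Nat.Coprime.gcd_eq_one (Nat.coprime_two_right.2 h), Nat.div_one]
  have hbpos : 0 < b := hb' ▸ orderOf_card_pos hr
  have hhalf : ∀ t, i = 2 * t → Q ^ t = -1 := by
    intro t ht
    refine (sq_eq_one_iff.1 (by rw [← pow_mul, hQi, ht, mul_comm])).resolve_left fun h => ?_
    rw [hQi, ht] at h
    have := Nat.le_of_dvd (by omega) h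
    omega
  have hc' : c = orderOf (-Q) := by
    have hsq : ∀ j, (-Q) ^ j = 1 → Q ^ (2 * j) = 1 := fun j hj => by
      rw [pow_mul']
      rw [neg_pow] at hj
      have h1 : ((-1 : ZMod r) ^ j) ^ 2 = 1 := by rw [← pow_mul, mul_comm, pow_mul, neg_one_sq, one_pow]
      have h2 := congrArg (· ^ 2) hj
      simp only [mul_pow, h1, one_mul, one_pow] at h2
      exact h2
    refine dvd_antisymm ?_ ?_
    · set j := orderOf (-Q)
      have hj : (-Q) ^ j = 1 := pow_orderOf_eq_one _
      have hj2 := (hQi _).1 (hsq j hj)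
      rw [hc]
      rcases Nat.even_or_odd i with ⟨t, ht⟩ | hio
      · rcases Nat.even_or_odd t with hte | hto
        · rw [if_pos (by obtain ⟨u, hu⟩ := hte; omega)]
          have hje : Even j := by
            have : t ∣ j := Nat.dvd_of_mul_dvd_mul_left two_pos (by rwa [show 2 * t = i by omega])
            exact even_iff_two_dvd.2 (dvd_trans (even_iff_two_dvd.1 hte) this)
          rw [hje.neg_pow] at hj
          exact (hQi _).1 hj
        · rw [if_neg (by obtain ⟨u, hu⟩ := hto; omega), if_pos (by obtain ⟨u, hu⟩ := hto; omega),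
            show i / 2 = t by omega]
          exact Nat.dvd_of_mul_dvd_mul_left two_pos (by rwa [show 2 * t = i by omega])
      · rw [if_neg (by obtain ⟨u, hu⟩ := hio; omega), if_neg (by obtain ⟨u, hu⟩ := hio; omega)]
        have hij : i ∣ j := (Nat.Coprime.dvd_mul_left (Nat.coprime_two_right.2 hio)).1 hj2
        have hje : Even j := by
          rw [← Nat.not_odd_iff_even]
          intro hjo
          rw [hjo.neg_pow, (hQi _).2 hij] at hj
          exact ZMod.neg_one_ne_one hj
        exact Nat.Coprime.mul_dvd_of_dvd_of_dvd (Nat.coprime_two_left.2 hio) (even_iff_two_dvd.1 hje) hij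
    · refine orderOf_dvd_of_pow_eq_one ?_
      rw [hc]
      split_ifs with h4 h24
      · rw [(Even.neg_pow ⟨i / 2, by omega⟩), hQi]
      · rw [(show Odd (i / 2) from ⟨i / 4, by omega⟩).neg_pow, hhalf (i / 2) (by omega), neg_neg]
      · rw [(Even.neg_pow ⟨i, by omega⟩), hQi]
        exact dvd_mul_left i 2
  have hc2 : i % 4 ≠ 2 → c = 2 * b := by
    intro h
    rw [hc, hb]
    rcases Nat.even_or_odd i with ⟨t, ht⟩ | ⟨t, ht⟩
    · rw [if_pos (show Even i from ⟨t, ht⟩), if_pos (show i % 4 = 0 by omega)]; omega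
    · rw [if_neg (show ¬ Even i by rw [Nat.even_iff]; omega), if_neg (show i % 4 ≠ 0 by omega), if_neg h]
  have hc1 : i % 4 = 2 → c = b := by
    intro h
    rw [hc, hb, if_neg (show i % 4 ≠ 0 by omega), if_pos h, if_pos (show Even i by rw [Nat.even_iff]; omega)]
  set s := (r - 1) / b with hsdef
  have hsb : s * b = r - 1 := by
    rw [hsdef, Nat.div_mul_cancel]
    rw [hb', hcardQ]
    exact ZMod.orderOf_dvd_card_sub_one (pow_ne_zero _ hQ0)
  have hi2 : r ∣ q + 1 ↔ i = 2 := by
    rw [← ZMod.natCast_eq_zero_iff, Nat.cast_add, Nat.cast_one, ← hQdef, add_eq_zero_iff_eq_neg]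
    constructor
    · intro h
      rw [hi, h, orderOf_neg_one, ringChar.eq (ZMod r) r, if_neg hr2]
    · intro h
      have := hhalf 1 (by omega)
      rwa [pow_one] at this
  obtain ⟨j₀, hj₀, hj₀n, hj₀1⟩ := exists_order_dvd hq hmn hrΩ
  have hcj : c ∣ j₀ := hc' ▸ orderOf_dvd_of_pow_eq_one hj₀1
  have hcn : c ≤ n := (Nat.le_of_dvd (by omega) hcj).trans hj₀n
  by_cases hgoal : b ≤ m ∧ 2 * (m % b) ≤ n % c ∧
      (i % 4 ≠ 2 ∨ (i % 4 = 2 ∧ s + 2 * (m / b) ≤ n / b ∧
        (2 < i ∨ (i = 2 ∧ (r ∣ m ∨ padicValNat r n ≤ padicValNat r (q + 1))))))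
  · refine iff_of_true ?_ (Or.inr ⟨hrp', hr3, hgoal⟩)
    obtain ⟨hbm, hk, hsp⟩ := hgoal
    intro x hx ⟨z, hz⟩ _
    obtain ⟨hz0, hz1, hTr, hdT, hT⟩ := hfacts x hx z hz
    set T := Matrix.toLin' (x : Matrix (Fin n) (Fin n) F)
    by_cases hpw : ∃ w : F, w ^ r = z
    · obtain ⟨w, hw⟩ := hpw
      obtain ⟨h, hh⟩ := hrp.odd_of_ne_two hr2
      set η := w ^ (q + 1) with hη
      have hηr : η ^ r = 1 := by rw [hη, ← pow_mul, mul_comm, pow_mul, hw, hz1]
      have hηq : η ^ q = η := by
        rw [hη, ← pow_mul, add_one_mul, ← _root_.sq, pow_add, ← hq, FiniteField.pow_card, pow_succ']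
      set w' := w * η ^ h with hw'
      have hw'1 : w' ^ (q + 1) = 1 := by
        rw [hw', mul_pow, ← hη, ← pow_mul, mul_comm h, pow_mul, pow_succ' η q, hηq, ← pow_two, ← pow_mul,
          ← pow_succ', ← hh, hηr]
      have hw'r : w' ^ r = z := by rw [hw', mul_pow, hw, ← pow_mul, mul_comm h, pow_mul, hηr, one_pow, mul_one]
      have hw'0 : w' ≠ 0 := fun e => hz0 (by rw [← hw'r, e, zero_pow hrp.ne_zero])
      set y := w'⁻¹ • T with hy
      have hyr : y ^ r = 1 := by
        rw [hy, _root_.smul_pow, hTr, smul_smul, inv_pow, hw'r, inv_mul_cancel₀ hz0, one_smul]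
      have hyy : ∀ u v, Cfsg.hermForm n F q (y u) (y v) = Cfsg.hermForm n F q u v := by
        intro u v
        rw [hy, LinearMap.smul_apply, LinearMap.smul_apply, herm_smul_left, herm_smul_right, hT, ← mul_assoc,
          ← pow_succ', inv_pow, hw'1, inv_one, one_mul]
      obtain ⟨W, h1, h2, h3⟩ := pos_power hq hyy hr hr2 hyr hmn hb' hc' hsb hk (by
        rcases hsp with h | ⟨h, h', -⟩
        · exact Or.inl (hc2 h)
        · exact Or.inr ⟨hc1 h, h'⟩)
      refine ⟨W, h1, h2, ?_⟩
      rw [show T = w' • y by rw [hy, smul_smul, mul_inv_cancel₀ hw'0, one_smul]]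
      exact pow_mem_of y w' h3
    · push Not at hpw
      have hrq1 : r ∣ q + 1 := by
        by_contra hnd
        obtain ⟨w, hw⟩ := exists_pow_of_pow_eq hrp hz0 (d := 1) hnd (by rw [hz1, one_pow])
        exact hpw w hw
      have hi2' := hi2.1 hrq1
      obtain ⟨t, ht, hdet⟩ := det_eq_of_pow_smul hrp hz0 hTr hpw
      rw [Module.finrank_fin_fun] at ht
      rcases hsp with h | ⟨-, -, h | ⟨-, h | h⟩⟩
      · omega
      · omega
      · obtain ⟨j, hj⟩ := h
        have := pos_nonpower (j := j) hq hT hr hr2 hz0 hTr hpw (by rw [← hj]; exact hmn)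
        rwa [← hj] at this
      · exfalso
        rw [hdT, Even.neg_one_pow (hrp.odd_of_ne_two hr2).add_one, one_mul] at hdet
        set g := Nat.gcd t (q + 1)
        have hzg : z ^ g = 1 := pow_gcd_eq_one.2 ⟨hdet.symm, hz1⟩
        obtain ⟨u, hu⟩ : g ∣ q + 1 := Nat.gcd_dvd_right _ _
        have ht0 : t ≠ 0 := fun e => by rw [e, mul_zero] at ht; omega
        have hru : r ∣ u := by
          by_contra hnd
          have hu0 : u ≠ 0 := fun e => by rw [e, mul_zero] at hu; omega
          have hg0 : g ≠ 0 := fun e => by rw [e, zero_mul] at hu; omega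
          have hv : padicValNat r (q + 1) = padicValNat r g := by
            rw [hu, padicValNat.mul hg0 hu0, padicValNat.eq_zero_of_not_dvd hnd, add_zero]
          have hle : padicValNat r g ≤ padicValNat r t := by
            rw [← padicValNat_dvd_iff_le ht0]
            exact dvd_trans pow_padicValNat_dvd (Nat.gcd_dvd_left _ _)
          rw [ht, padicValNat.mul hrp.ne_zero ht0, padicValNat.self hrp.one_lt, hv] at h
          omega
        obtain ⟨a, ha, hao⟩ := exists_generator (F := F)
        obtain ⟨k, hk'⟩ := ha (Units.mk0 z hz0)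
        have h1 : a ^ (k * g) = 1 := by
          rw [pow_mul, hk']; ext; simpa using hzg
        rw [← orderOf_dvd_iff_pow_eq_one, hao, hq, show q ^ 2 - 1 = (q + 1) * (q - 1) by simpa using Nat.sq_sub_sq q 1,
          hu, mul_assoc, mul_comm k g] at h1
        obtain ⟨l, hl⟩ := dvd_trans (dvd_mul_of_dvd_left hru _)
          (Nat.dvd_of_mul_dvd_mul_left (Nat.pos_of_ne_zero fun e => by rw [e, zero_mul] at hu; omega) h1)
        refine hpw ((a ^ l : Fˣ) : F) ?_
        rw [← Units.val_pow_eq_pow_val, ← pow_mul, mul_comm, ← hl, hk', Units.val_mk0]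
  refine iff_of_false ?_ (by
    rintro (⟨h, -⟩ | ⟨-, -, h⟩)
    · exact hr2 h
    · exact hgoal h)
  intro hall
  have hsl : ∀ x : Matrix.SpecialLinearGroup (Fin n) F, x ∈ Cfsg.SU n F q → ∀ z : F,
      (x : Matrix (Fin n) (Fin n) F) ^ r = z • 1 → (∀ s : F, (x : Matrix (Fin n) (Fin n) F) ≠ s • 1) →
      HasTI q m (Matrix.toLin' (x : Matrix (Fin n) (Fin n) F)) := fun x hx z hz hns =>
    hall x hx ⟨z, by rw [Matrix.SpecialLinearGroup.coe_pow, hz]⟩ hns
  have hnb := Nat.div_add_mod n b
  have hmb := Nat.div_add_mod m b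
  have hlb : m % b < b := Nat.mod_lt _ hbpos
  by_cases hblocks : ¬ (b ≤ m ∧ 2 * (m % b) ≤ n % c) ∨ (i % 4 = 2 ∧ 1 < b)
  · -- block elements
    have hrq1 : ¬ r ∣ q + 1 := by
      rw [hi2]
      intro e
      have hb1 : b = 1 := by rw [hb, e]; decide
      rcases hblocks with h | ⟨-, h⟩
      · apply h
        rw [hb1, Nat.mod_one]
        omega
      · omega
    obtain ⟨g, hgU, hgr, hg1, hgfix⟩ := exists_fpf (F := F) (r := r) hq hr hc'
    have hgdet : g.det = 1 := by
      have h1 : g.det ^ r = 1 := by rw [← Matrix.det_pow, hgr, Matrix.det_one]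
      have h2 := hgU.det_pow hq
      have := pow_gcd_eq_one.2 ⟨h1, h2⟩
      rwa [hrp.coprime_iff_not_dvd.2 hrq1, pow_one] at this
    have hcpos : 0 < c := Nat.pos_of_ne_zero fun e => by rw [e] at hcj; have := Nat.eq_zero_of_zero_dvd hcj; omega
    -- the general shape
    have mk : ∀ (A k : ℕ), 0 < A → c * A + k = n → ∀ E : Fin A → ℕ, (∀ a, ¬ r ∣ E a) →
        ∃ (e : (Fin c × Fin A) ⊕ Fin k ≃ Fin n) (T : Module.End F (Fin n → F)),
          IsBlocks e T (fun a => Matrix.toLin' (g ^ E a)) ∧ T ^ r = 1 ∧ HasTI q m T ∧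
          ∀ a v, Matrix.toLin' (g ^ E a) v = v → v = 0 := by
      intro A k hA hn' E hE
      let e : (Fin c × Fin A) ⊕ Fin k ≃ Fin n := Fintype.equivFinOfCardEq (by simp [hn'])
      obtain ⟨x, hxS, hxB⟩ := exists_blocks (q := q) e (fun a => g ^ E a) (fun a => isU_pow hgU _)
        (fun a => by rw [Matrix.det_pow, hgdet, one_pow])
      set T := Matrix.toLin' (x : Matrix (Fin n) (Fin n) F) with hT
      have hfix : ∀ a v, Matrix.toLin' (g ^ E a) v = v → v = 0 := fun a v hv =>
        hgfix _ (hE a) v (by rwa [Matrix.toLin'_apply] at hv)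
      have hTr : T ^ r = 1 := by
        refine LinearMap.ext fun v => ext_blocks e (fun a => ?_) (fun j => ?_)
        · have h1 := (hxB.aeval (X ^ r) v).1 a
          rw [map_pow, aeval_X] at h1
          rw [h1, map_pow, aeval_X, ← Matrix.toLin'_pow, ← pow_mul, mul_comm, pow_mul, hgr, one_pow,
            Matrix.toLin'_one]
          rfl
        · have h1 := (hxB.aeval (X ^ r) v).2 j
          rw [map_pow, aeval_X] at h1
          rw [h1]
          simp
      refine ⟨e, T, hxB, hTr, hsl x hxS 1 ?_ ?_, hfix⟩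
      · rw [one_smul]
        apply Matrix.toLin'.injective
        rw [Matrix.toLin'_pow, ← hT, hTr, Matrix.toLin'_one]; rfl
      · intro s hs
        set v : Fin n → F := Pi.single (e (Sum.inl (⟨0, hcpos⟩, ⟨0, hA⟩))) 1
        have h1 := hxB.block v ⟨0, hA⟩
        rw [hT, hs, map_smul, Matrix.toLin'_one, LinearMap.smul_apply, LinearMap.id_apply] at h1
        have hs1 : s ≠ 1 := fun e1 => by
          have h2 := hfix ⟨0, hA⟩ (blockVec e v ⟨0, hA⟩) (by rw [← h1, e1, one_smul])
          have h3 := congrFun h2 ⟨0, hcpos⟩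
          simp [blockVec, v] at h3
        have hsr : s ^ r = 1 := by
          have h2 : (x : Matrix (Fin n) (Fin n) F) ^ r = 1 := by
            apply Matrix.toLin'.injective
            rw [Matrix.toLin'_pow, ← hT, hTr, Matrix.toLin'_one]; rfl
          rw [hs, _root_.smul_pow, one_pow] at h2
          have := congrFun (congrFun h2 ⟨0, by omega⟩) ⟨0, by omega⟩
          simpa using this
        have hsn : s ^ n = 1 := by
          have := x.2
          rw [hs, Matrix.det_smul, Matrix.det_one, mul_one, Fintype.card_fin] at this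
          exact this
        have hnorm : s ^ (q + 1) = 1 := by
          obtain ⟨u, hu⟩ := UnitaryDerange84.exists_aniso (F := F) (n := n) hq (by omega)
          have h2 := hxS u u
          change Cfsg.hermForm n F q ((x : Matrix (Fin n) (Fin n) F) *ᵥ u) ((x : Matrix (Fin n) (Fin n) F) *ᵥ u) = _ at h2
          rw [hs, Matrix.smul_mulVec, Matrix.one_mulVec, herm_smul_left, herm_smul_right, hu, mul_one,
            ← pow_succ'] at h2
          exact h2
        have := pow_gcd_eq_one.2 ⟨hsr, hnorm⟩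
        rw [hrp.coprime_iff_not_dvd.2 hrq1, pow_one] at this
        exact hs1 this
    by_cases ha : b ≤ m ∧ 2 * (m % b) ≤ n % c
    · -- many classes
      obtain ⟨hbm, hk⟩ := ha
      obtain ⟨hi4, hb1⟩ := hblocks.resolve_left (not_not.2 ⟨hbm, hk⟩)
      have hcb := hc1 hi4
      have hlt : n / b < s + 2 * (m / b) := by
        by_contra hge
        refine hgoal ⟨hbm, hk, Or.inr ⟨hi4, by omega, Or.inl ?_⟩⟩
        rw [hb, if_pos (show Even i by rw [Nat.even_iff]; omega)] at hb1
        omega
      have hm1 : 1 ≤ m / b := Nat.div_pos hbm hbpos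
      have hmn' : 2 * (m / b) ≤ n / b := by
        rw [Nat.le_div_iff_mul_le hbpos, Nat.mul_comm 2, Nat.mul_assoc, Nat.mul_comm 2 b, ← Nat.mul_assoc,
          Nat.mul_comm (m / b) b]
        omega
      obtain ⟨J, hJ, hJne⟩ := exists_reps (Q := Fintype.card F) (natCast_card_ne_zero hr) hb' hsb
      have hspos : 0 < s := Nat.pos_of_ne_zero fun e => by rw [e, zero_mul] at hsb; omega
      set A := n / b - 1 with hA
      set B := m / b - 1 with hB
      let cls : Fin A → Fin s := fun a => if (a : ℕ) < 2 * B + 1 then ⟨0, hspos⟩ else ⟨(a : ℕ) - 2 * B, by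
        have := a.2; omega⟩
      obtain ⟨e, T, hT, hTr, ⟨W, hWd, hWT, hWi⟩, hfix⟩ := mk A (n % b + b) (by omega) (by
          rw [hcb, hA, Nat.mul_sub, Nat.mul_one]
          have := Nat.mul_le_mul_left b (show 1 ≤ n / b by omega)
          omega) (fun a => J (cls a)) (fun a => hJ _)
      set S : Finset (Fin A) := Finset.univ.filter fun a => (a : ℕ) < 2 * B + 1
      have hcls : ∀ a ∉ S, ∀ a', a' ≠ a → cls a' ≠ cls a := by
        intro a ha a' hne h
        simp only [S, Finset.mem_filter, Finset.mem_univ, true_and, not_lt] at ha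
        apply hne
        simp only [cls, if_neg (show ¬ (a : ℕ) < 2 * B + 1 by omega)] at h
        split_ifs at h with h1 <;> rw [Fin.mk.injEq] at h
        · omega
        · exact Fin.ext (by omega)
      have hzero : ∀ v ∈ W, ∀ a, a ∉ S → blockVec e v a = 0 := by
        intro v hv a ha
        set G : Module.End F (Fin c → F) := Matrix.toLin' g
        have hGr : G ^ r = 1 := by rw [← Matrix.toLin'_pow, hgr, Matrix.toLin'_one]; rfl
        have hGfix : ∀ v, G v = v → v = 0 := fun v hv => hgfix 1 (by simpa using hrp.ne_one) v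
          (by rw [pow_one]; rwa [Matrix.toLin'_apply] at hv)
        have hsep : ∀ a', ∃ P : F[X], a' ≠ a → Polynomial.aeval (G ^ J (cls a')) P = 0 ∧
            ∀ v, Polynomial.aeval (G ^ J (cls a)) P v = 0 → v = 0 := by
          intro a'
          by_cases h : a' = a
          · exact ⟨0, fun h' => absurd h h'⟩
          · obtain ⟨P, hP⟩ := exists_separating (c := c) rfl hr (by rw [hcb]; exact hb') hGr hGfix
              (J (cls a')) (J (cls a)) (hJne _ _ (hcls a ha a' h))
            exact ⟨P, fun _ => hP⟩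
        choose P hP using hsep
        set K : F[X] := (X - 1) * ∏ a' ∈ Finset.univ.erase a, P a'
        set w := Polynomial.aeval T K v with hw
        have hwW : w ∈ W := aeval_mem hWi K hv
        have hpowG : ∀ a', Matrix.toLin' (g ^ J (cls a')) = G ^ J (cls a') := fun a' => Matrix.toLin'_pow _ _
        have hother : ∀ a', a' ≠ a → blockVec e w a' = 0 := by
          intro a' ha'
          rw [hw, (hT.aeval K v).1 a', hpowG]
          simp only [K, map_mul, ← Finset.prod_erase_mul _ _ (Finset.mem_erase.2 ⟨ha', Finset.mem_univ a'⟩)]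
          simp [(hP a' ha').1]
        have hfixed : ∀ j, w (e (Sum.inr j)) = 0 := fun j => by
          rw [hw, (hT.aeval K v).2 j]
          simp [K]
        -- the vectors of `W` supported on the block `a`
        set S₁ : Finset (Fin n) := Finset.univ.image fun l => e (Sum.inl (l, a))
        set U := W ⊓ supp F (S₁ : Set (Fin n))
        have hUcoord : ∀ u ∈ U, (∀ a', a' ≠ a → blockVec e u a' = 0) ∧ ∀ j, u (e (Sum.inr j)) = 0 := by
          intro u hu
          refine ⟨fun a' ha' => funext fun l => hu.2 _ ?_, fun j => hu.2 _ ?_⟩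
          · simp [S₁, Ne.symm ha']
          · simp [S₁]
        have hUi : U.map T ≤ U := by
          rintro _ ⟨u, hu, rfl⟩
          refine ⟨hWi ⟨u, hu.1, rfl⟩, fun i hi => ?_⟩
          obtain ⟨x, rfl⟩ := e.surjective i
          rcases x with ⟨l, a'⟩ | j
          · by_cases h : a' = a
            · subst h
              exact absurd (by simp [S₁]) hi
            · have h1 := congrFun (hT.block u a') l
              rw [(hUcoord u hu).1 a' h, map_zero] at h1
              exact h1
          · rw [hT.fixed, (hUcoord u hu).2 j]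
        have hdisj : U ⊓ LinearMap.ker (T - 1) = ⊥ := by
          rw [eq_bot_iff]
          rintro u ⟨hu, hu'⟩
          rw [SetLike.mem_coe, LinearMap.mem_ker, LinearMap.sub_apply, Module.End.one_apply, sub_eq_zero] at hu'
          rw [Submodule.mem_bot]
          refine ext_blocks e (fun a' => ?_) (fun j => ?_)
          · by_cases h : a' = a
            · subst h
              have h1 := hT.block u a'
              rw [hu'] at h1
              rw [hfix _ _ h1.symm]
              rfl
            · rw [(hUcoord u hu).1 a' h]; rfl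
          · rw [(hUcoord u hu).2 j]; rfl
        have hU0 : U = ⊥ := by
          have h1 := finrank_modEq hr hTr hUi
          rw [hdisj, finrank_bot, ← hb'] at h1
          have h2 := two_mul_card_le hq (W := U) (S := S₁) (fun x hx y hy => hWT x hx.1 y hy.1)
            (fun u hu i hi => hu.2 i (by simpa using hi))
          have h3 : S₁.card ≤ b := Finset.card_image_le.trans (by rw [Finset.card_univ, Fintype.card_fin, hcb])
          rcases Nat.eq_zero_or_pos (finrank F ↥U) with h4 | h4
          · exact Submodule.finrank_eq_zero.1 h4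
          · have := Nat.le_of_dvd h4 (Nat.modEq_zero_iff_dvd.1 h1)
            omega
        have hwa : blockVec e w a = 0 := by
          have hmem : w ∈ U := ⟨hwW, fun i hi => by
            obtain ⟨x, rfl⟩ := e.surjective i
            rcases x with ⟨l, a'⟩ | j
            · exact congrFun (hother a' fun h => hi (by simp [S₁, h])) l
            · exact hfixed j⟩
          rw [hU0, Submodule.mem_bot] at hmem
          rw [hmem]; rfl
        rw [hw, (hT.aeval K v).1 a, hpowG, map_mul, Module.End.mul_apply] at hwa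
        have hprod : ∀ (s' : Finset (Fin A)), a ∉ s' → ∀ u,
            Polynomial.aeval (G ^ J (cls a)) (∏ a' ∈ s', P a') u = 0 → u = 0 := by
          intro s'
          induction s' using Finset.induction_on with
          | empty => intro _ u hu; simpa using hu
          | insert a' s' ha' ih =>
            intro has u hu
            rw [Finset.prod_insert ha', map_mul, Module.End.mul_apply] at hu
            exact ih (fun h => has (Finset.mem_insert_of_mem h)) u
              ((hP a' fun h => has (h ▸ Finset.mem_insert_self _ _)).2 _ hu)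
        refine hprod (Finset.univ.erase a) (Finset.notMem_erase a Finset.univ) _ ?_
        rw [map_sub, aeval_X, map_one, LinearMap.sub_apply, Module.End.one_apply, sub_eq_zero] at hwa
        exact hfix a _ (by rw [hpowG]; exact hwa)
      obtain ⟨d₀, j, hd, h0, h1⟩ := not_blocks hq hr e hT hTr hfix hb' hWT hWi S hzero
      have hScard : S.card ≤ 2 * B + 1 := by
        have : S.card ≤ (Finset.range (2 * B + 1)).card :=
          Finset.card_le_card_of_injOn (fun a => (a : ℕ)) (fun a ha => by simpa [S] using ha)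
            (fun a _ b _ h => Fin.ext h)
        simpa using this
      have h2 : b * (2 * j) ≤ b * (2 * B + 1) := by
        refine le_trans ?_ (Nat.mul_le_mul_left b hScard)
        rw [hcb] at h1
        linarith
      have hjB : j ≤ B := by have := Nat.le_of_mul_le_mul_left h2 hbpos; omega
      have h3 : b * j + b ≤ b * (m / b) := by
        rw [← Nat.mul_succ]; exact Nat.mul_le_mul_left b (by omega)
      have h4 : n % b < b := Nat.mod_lt _ hbpos
      rw [hWd, mul_comm j b] at hd
      omega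
    · -- few fixed points
      have hA : 0 < n / c := Nat.div_pos hcn hcpos
      have hk : n % c < 2 * (m % b) := by
        rcases not_and_or.1 ha with h | h
        · rw [Nat.mod_eq_of_lt (not_le.1 h)]
          obtain ⟨u, hu⟩ := hcj
          rw [show n = n - j₀ + c * u by omega, Nat.add_mul_mod_self_left]
          exact lt_of_le_of_lt (Nat.mod_le _ _) (by omega)
        · omega
      obtain ⟨e, T, hT, hTr, ⟨W, hWd, hWT, hWi⟩, hfix⟩ := mk (n / c) (n % c) hA (Nat.div_add_mod n c)
        (fun _ => 1) (fun _ => by simpa using hrp.ne_one)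
      obtain ⟨d₀, j, hd, h0, -⟩ := not_blocks hq hr e hT hTr hfix hb' hWT hWi Finset.univ
        (fun v _ a ha => absurd (Finset.mem_univ a) ha)
      rw [hWd] at hd
      have : m % b = d₀ % b := by rw [hd, Nat.add_mul_mod_self_right]
      rw [Nat.mod_eq_of_lt (show d₀ < b by omega)] at this
      omega
  -- `i = 2`
  rw [not_or, not_not] at hblocks
  obtain ⟨⟨hbm, hk⟩, hbig⟩ := hblocks
  have hi4 : i % 4 = 2 := by
    by_contra h
    exact hgoal ⟨hbm, hk, Or.inl h⟩
  have hb1 : b = 1 := by
    have : ¬ 1 < b := fun h => hbig ⟨hi4, h⟩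
    omega
  have hieq : i = 2 := by
    rw [hb, if_pos (show Even i by rw [Nat.even_iff]; omega)] at hb1
    omega
  obtain ⟨s₁, hs₁⟩ := hi2.2 hieq
  have hcard : Fintype.card F - 1 = (q + 1) * (q - 1) := by rw [hq]; simpa using Nat.sq_sub_sq q 1
  rw [hb1, Nat.div_one, Nat.div_one] at hgoal
  by_cases hcount : s + 2 * m ≤ n
  · -- a scalar power which is not an `r`-th power
    have hbad : ¬ r ∣ m ∧ padicValNat r (q + 1) < padicValNat r n := by
      refine ⟨fun h => hgoal ⟨by omega, by rw [hb1] at hk; exact hk, Or.inr ⟨hi4, hcount, Or.inr ⟨hieq, Or.inl h⟩⟩⟩, ?_⟩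
      by_contra h
      exact hgoal ⟨by omega, by rw [hb1] at hk; exact hk, Or.inr ⟨hi4, hcount, Or.inr ⟨hieq, Or.inr (by omega)⟩⟩⟩
    have hrn : r ∣ n := dvd_of_one_le_padicValNat (by omega)
    obtain ⟨t, ht⟩ := hrn
    have ht0 : t ≠ 0 := fun e => by rw [e, mul_zero] at ht; omega
    set f := padicValNat r (q + 1)
    obtain ⟨u, hu⟩ : r ^ f ∣ q + 1 := pow_padicValNat_dvd
    have hft : r ^ f ∣ t := by
      rw [padicValNat_dvd_iff_le ht0]
      have h := hbad.2
      rw [ht, padicValNat.mul hrp.ne_zero ht0, padicValNat.self hrp.one_lt] at h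
      omega
    have hru : ¬ r ∣ u := fun hd => by
      refine pow_succ_padicValNat_not_dvd (p := r) (show q + 1 ≠ 0 by omega) ?_
      show r ^ (f + 1) ∣ q + 1
      rw [pow_succ, hu]; exact mul_dvd_mul_left _ hd
    have hrq' : ¬ r ∣ q - 1 := fun hd => by
      have := Nat.dvd_sub (hi2.2 hieq) hd
      rw [show q + 1 - (q - 1) = 2 by omega] at this
      have := Nat.le_of_dvd two_pos this
      omega
    obtain ⟨a, ha, hao⟩ := exists_generator (F := F)
    set z : F := ((a ^ ((q - 1) * u) : Fˣ) : F)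
    have hzp : ∀ j, r ^ f ∣ j → z ^ j = 1 := by
      rintro j ⟨l, rfl⟩
      rw [← Units.val_pow_eq_pow_val, ← pow_mul, show (q - 1) * u * (r ^ f * l) = (q + 1) * (q - 1) * l by
        rw [hu]; ring, ← hcard, ← hao, pow_mul, pow_orderOf_eq_one, one_pow, Units.val_one]
    have hnp : ∀ w : F, w ^ r ≠ z := by
      intro w hw
      have hw0 : w ≠ 0 := fun e => by
        rw [e, zero_pow hrp.ne_zero] at hw; exact (a ^ ((q - 1) * u)).ne_zero hw.symm
      obtain ⟨l, hl⟩ := ha (Units.mk0 w hw0)
      have h1 : a ^ (l * r) = a ^ ((q - 1) * u) := by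
        rw [pow_mul, hl]; ext; simpa [z] using hw
      rw [pow_eq_pow_iff_modEq, hao, hcard] at h1
      have h2 : (q - 1) * u ≡ 0 [MOD r] :=
        ((h1.of_dvd (dvd_mul_of_dvd_left (hi2.2 hieq) _)).symm).trans (Nat.modEq_zero_iff_dvd.2 (dvd_mul_left r l))
      exact (hrp.dvd_mul.1 (Nat.modEq_zero_iff_dvd.1 h2)).elim hrq' hru
    obtain ⟨x, hxS, hxr, hns⟩ := exists_monomial hq hr2 (t := t) (ht.trans (mul_comm r t)) (Nat.pos_of_ne_zero ht0)
      (z := z) (hzp _ ⟨u, hu⟩) (hzp _ hft)
    obtain ⟨W, hWd, -, hWi⟩ := hsl x hxS z hxr hns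
    have := dvd_finrank_of_pow_smul hrp (a ^ ((q - 1) * u)).ne_zero
      (g := Matrix.toLin' (x : Matrix (Fin n) (Fin n) F))
      (by rw [← Matrix.toLin'_pow, hxr, map_smul, Matrix.toLin'_one]; rfl) hnp hWi
    rw [hWd] at this
    exact hbad.1 this
  -- too many eigenvalues
  have hs : s = r - 1 := by rw [← hsb, hb1, mul_one]
  set O := n - 2 * m + 2 with hO
  have hOr : O ≤ r := by omega
  obtain ⟨ζ, hζ, hζ1⟩ := S5979.exists_root (F := F) (r := r) (by
    rw [hcard]; exact dvd_mul_of_dvd_left ⟨s₁, hs₁⟩ _)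
  have hord : orderOf ζ = r := orderOf_eq_prime hζ hζ1
  have hζn : ζ ^ (q + 1) = 1 := by rw [hs₁, pow_mul, hζ, one_pow]
  obtain ⟨τ, hτ⟩ : ∃ τ, r ∣ ∑ l ∈ Finset.range O, (τ + l) := by
    rcases eq_or_lt_of_le hOr with h | h
    · refine ⟨0, ?_⟩
      obtain ⟨h', hh⟩ := hrp.odd_of_ne_two hr2
      simp only [zero_add]
      rw [h, Finset.sum_range_id, show r - 1 = 2 * h' by omega, ← mul_assoc, mul_comm r 2, mul_assoc,
        Nat.mul_div_cancel_left _ two_pos]
      exact dvd_mul_right r h'
    · refine ⟨(-((∑ l ∈ Finset.range O, (l : ZMod r))) * (O : ZMod r)⁻¹).val, ?_⟩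
      rw [← ZMod.natCast_eq_zero_iff, Nat.cast_sum]
      simp only [Nat.cast_add, ZMod.natCast_zmod_val, Finset.sum_add_distrib, Finset.sum_const,
        Finset.card_range, nsmul_eq_mul]
      have hO0 : (O : ZMod r) ≠ 0 := fun e => by
        have := Nat.le_of_dvd (by omega) ((ZMod.natCast_eq_zero_iff _ _).1 e)
        omega
      field_simp
      ring
  let d : Fin n → F := fun i => if (i : ℕ) < O then ζ ^ (τ + (i : ℕ)) else 1
  have hdet : ∏ i, d i = 1 := by
    show ∏ i : Fin n, (fun l : ℕ => if l < O then ζ ^ (τ + l) else 1) (i : ℕ) = 1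
    rw [Fin.prod_univ_eq_prod_range (fun l : ℕ => if l < O then ζ ^ (τ + l) else 1),
      ← Finset.prod_filter, show (Finset.range n).filter (fun l => l < O) = Finset.range O by
        ext l; simp only [Finset.mem_filter, Finset.mem_range]; omega,
      Finset.prod_pow_eq_pow_sum, ← orderOf_dvd_iff_pow_eq_one, hord]
    exact hτ
  have hdn : ∀ i, d i ^ (q + 1) = 1 := fun i => by
    simp only [d]
    split_ifs
    · rw [← pow_mul, mul_comm, pow_mul, hζn, one_pow]
    · exact one_pow _
  have hinj : ∀ i j : Fin n, (i : ℕ) < O → (j : ℕ) < O → d i = d j → i = j := by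
    intro i j hi hj h
    simp only [d, if_pos hi, if_pos hj] at h
    rw [IsOfFinOrder.pow_eq_pow_iff_modEq (orderOf_pos_iff.1 (hord ▸ hrp.pos)), hord] at h
    have h' := Nat.ModEq.add_left_cancel' τ h
    exact Fin.ext (Nat.ModEq.eq_of_lt_of_lt h' (by omega) (by omega))
  obtain ⟨x, hxS, hxd⟩ := exists_diag hq d hdn hdet
  have hns : ∀ s' : F, (x : Matrix (Fin n) (Fin n) F) ≠ s' • 1 := fun s' hs' => by
    rw [hxd, Matrix.smul_one_eq_diagonal, Matrix.diagonal_eq_diagonal_iff] at hs'
    have := hinj ⟨0, by omega⟩ ⟨1, by omega⟩ (by simp [O]) (by simp [O]) (by rw [hs', hs'])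
    simp at this
  have hxr : (x : Matrix (Fin n) (Fin n) F) ^ r = (1 : F) • 1 := by
    rw [hxd, Matrix.diagonal_pow, one_smul, ← Matrix.diagonal_one]
    congr 1
    funext i
    simp only [Pi.pow_apply, d]
    split_ifs
    · rw [← pow_mul, mul_comm, pow_mul, hζ, one_pow]
    · exact one_pow _
  have h := hsl x hxS 1 hxr hns
  rw [hxd] at h
  refine not_diag hq (d := d) (a := 1) (S := Finset.univ.filter fun i => d i = 1) ?_ ?_
    (fun i hi => (Finset.mem_filter.1 hi).2) h
  · intro i hi j hj
    simp only [Finset.mem_filter, Finset.mem_univ, true_and] at hi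
    have hiO : (i : ℕ) < O := by
      by_contra hlt
      exact hi (if_neg hlt)
    have hjO : (j : ℕ) < O := by
      by_contra hlt
      exact hi (hj.symm.trans (if_neg hlt))
    exact hinj j i hjO hiO hj
  · have h1 : (Finset.univ.filter fun i : Fin n => d i = 1).card ≤
        ((Finset.univ.filter fun i : Fin n => d i = 1).filter fun i : Fin n => (i : ℕ) < O).card + (n - O) := by
      rw [← Finset.card_filter_add_card_filter_not (s := Finset.univ.filter fun i : Fin n => d i = 1)
        (p := fun i => (i : ℕ) < O)]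
      refine Nat.add_le_add_left ?_ _
      refine le_trans (Finset.card_le_card_of_injOn (fun i : Fin n => (i : ℕ) - O) (t := Finset.range (n - O))
        ?_ ?_) (by rw [Finset.card_range])
      · intro i hi
        simp only [Finset.coe_filter, Set.mem_setOf_eq] at hi
        have := i.2
        simp only [Finset.coe_range, Set.mem_Iio]
        omega
      · intro i hi j hj hij
        simp only [Finset.coe_filter, Set.mem_setOf_eq] at hi hj
        exact Fin.ext (by simp only at hij; omega)
    have h2 : ((Finset.univ.filter fun i : Fin n => d i = 1).filter fun i : Fin n => (i : ℕ) < O).card ≤ 1 := by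
      rw [Finset.card_le_one]
      intro i hi j hj
      simp only [Finset.mem_filter, Finset.mem_univ, true_and] at hi hj
      exact hinj i j hi.2 hj.2 (hi.1.trans hj.1.symm)
    omega

end Cfsg.Agent.S5953
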