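import Cfsg.Statements.S5965
import Cfsg.Agent.Lib.SubfieldDerange84
import Cfsg.Agent.Lib.DecompPerm84
import Cfsg.Agent.Lib.TensorDerange84
-- import your own Cfsg.Agent.* helpers here

set_option autoImplicit false
set_option maxHeartbeats 1000000
open scoped MatrixGroups
open Cfsg

namespace Cfsg.Agent.S5965

open Cfsg.Agent.PrimeOrderModule84 Cfsg.Agent.SubfieldDerange84 Module Polynomial

section Helpers

variable {F : Type*} [Field F] [Fintype F] {n : ℕ} {F₀ : Subfield F} {r : ℕ} [Fact r.Prime]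

omit [Fintype F] in
theorem sub_smul {A : Matrix (Fin n) (Fin n) F} {w : F} (hw : w ≠ 0) (h : Sub F₀ A) :
    Sub F₀ (w • A) := by
  obtain ⟨s, B, P, hs, hP⟩ := h
  exact ⟨w * s, B, P, mul_ne_zero hw hs, by rw [Matrix.mul_smul, hP, ← Matrix.smul_mul, smul_smul]⟩

omit [Fintype F] in
theorem sub_smul_iff {A : Matrix (Fin n) (Fin n) F} {w : F} (hw : w ≠ 0) :
    Sub F₀ (w • A) ↔ Sub F₀ A := by
  refine ⟨fun h => ?_, sub_smul hw⟩
  have := sub_smul (inv_ne_zero hw) h
  rwa [smul_smul, inv_mul_cancel₀ hw, one_smul] at this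

omit [Fintype F] in
theorem sub_conj {A M : Matrix (Fin n) (Fin n) F} (P : GL (Fin n) F)
    (h : (P : Matrix (Fin n) (Fin n) F) * A = M * (P : Matrix (Fin n) (Fin n) F)) (hM : Sub F₀ M) :
    Sub F₀ A := by
  obtain ⟨s, B, Q, hs, hQ⟩ := hM
  refine ⟨s, B, Q * P, hs, ?_⟩
  rw [Units.val_mul, mul_assoc, h, ← mul_assoc, hQ, mul_assoc]

omit [Fact r.Prime] in
theorem isSemisimple_of_pow {A : Matrix (Fin n) (Fin n) F} (hr : (r : F) ≠ 0) {z : F} (hz : z ≠ 0)
    (h : A ^ r = z • 1) : Module.End.IsSemisimple (Matrix.toLin' A) :=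
  Module.End.isSemisimple_of_squarefree_aeval_eq_zero (p := X ^ r - C z)
    (separable_X_pow_sub_C z hr hz).squarefree
    (by
      rw [map_sub, map_pow, aeval_X, aeval_C, ← Matrix.toLin'_pow, h, map_smul, Matrix.toLin'_one,
        Algebra.algebraMap_eq_smul_one]
      exact sub_self _)

theorem exists_root (hrq : r ∣ Fintype.card F - 1) : ∃ ζ : F, ζ ^ r = 1 ∧ ζ ≠ 1 := by
  classical
  obtain ⟨u, hu⟩ := exists_prime_orderOf_dvd_card' (G := Fˣ) r (by
    rw [Nat.card_units, Nat.card_eq_fintype_card]; exact hrq)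
  refine ⟨u, by rw [← Units.val_pow_eq_pow_val, ← hu, pow_orderOf_eq_one, Units.val_one], fun e => ?_⟩
  rw [Units.val_eq_one] at e
  rw [e, orderOf_one] at hu
  exact (Fact.out : r.Prime).ne_one hu.symm

theorem card_interval (lo hi : ℕ) (h : hi ≤ n) :
    Nat.card {i : Fin n // lo ≤ (i : ℕ) ∧ (i : ℕ) < hi} = hi - lo := by
  rw [← Nat.card_fin (hi - lo)]
  refine Nat.card_congr
    { toFun := fun i => ⟨(i.1 : ℕ) - lo, by have := i.2; omega⟩
      invFun := fun j => ⟨⟨lo + j, by have := j.2; omega⟩,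
        ⟨Nat.le_add_right _ _, by have := j.2; show lo + (j : ℕ) < hi; omega⟩⟩
      left_inv := fun i => by
        have := i.2
        refine Subtype.ext (Fin.ext ?_)
        show lo + ((i.1 : ℕ) - lo) = i.1
        omega
      right_inv := fun j => Fin.ext (by show lo + (j : ℕ) - lo = j; omega) }

/-- Three-valued vectors. -/
def vec (n : ℕ) (ζ μ : F) (b b' : ℕ) : Fin n → F := fun i =>
  if (i : ℕ) < b then ζ else if (i : ℕ) < b' then μ else 1

omit [Fintype F] in
open Classical in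
theorem mult_vec {ζ μ : F} (h1 : ζ ≠ 1) (h2 : μ ≠ 1) (h3 : μ ≠ ζ) {b b' : ℕ} (hb : b ≤ b')
    (hb' : b' ≤ n) (lam : F) :
    Nat.card {i : Fin n // vec n ζ μ b b' i = lam} =
      if lam = ζ then b else if lam = μ then b' - b else if lam = 1 then n - b' else 0 := by
  have key : ∀ i : Fin n, vec n ζ μ b b' i = lam ↔
      (lam = ζ ∧ 0 ≤ (i : ℕ) ∧ (i : ℕ) < b) ∨ (lam = μ ∧ b ≤ (i : ℕ) ∧ (i : ℕ) < b') ∨
        (lam = 1 ∧ b' ≤ (i : ℕ) ∧ (i : ℕ) < n) := by
    intro i
    have := i.2
    unfold vec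
    split_ifs with e1 e2
    · constructor
      · exact fun e => Or.inl ⟨e.symm, Nat.zero_le _, e1⟩
      · rintro (⟨e, -⟩ | ⟨-, h, -⟩ | ⟨-, h, -⟩)
        · exact e.symm
        all_goals omega
    · constructor
      · exact fun e => Or.inr (Or.inl ⟨e.symm, by omega, e2⟩)
      · rintro (⟨-, -, h⟩ | ⟨e, -⟩ | ⟨-, h, -⟩)
        · omega
        · exact e.symm
        · omega
    · constructor
      · exact fun e => Or.inr (Or.inr ⟨e.symm, by omega, this⟩)
      · rintro (⟨-, -, h⟩ | ⟨-, -, h⟩ | ⟨e, -⟩)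
        · omega
        · omega
        · exact e.symm
  rw [Nat.card_congr (Equiv.subtypeEquivRight key)]
  split_ifs with e1 e2 e3
  · subst e1
    refine (Nat.card_congr (Equiv.subtypeEquivRight fun i => ?_)).trans
      ((card_interval (n := n) 0 b (by omega)).trans (Nat.sub_zero b))
    simp [h1, Ne.symm h3]
  · subst e2
    rw [← card_interval b b' hb']
    exact Nat.card_congr (Equiv.subtypeEquivRight fun i => by simp [h2, h3])
  · subst e3
    rw [← card_interval b' n le_rfl]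
    exact Nat.card_congr (Equiv.subtypeEquivRight fun i => by simp [Ne.symm h1, Ne.symm h2])
  · simp [e1, e2, e3]

omit [Fintype F] in
theorem prod_vec (ζ μ : F) {b b' : ℕ} (hb : b ≤ b') (hb' : b' ≤ n) :
    ∏ i, vec n ζ μ b b' i = ζ ^ b * μ ^ (b' - b) := by
  rw [show (∏ i, vec n ζ μ b b' i) =
      ∏ i ∈ Finset.range n, (if i < b then ζ else if i < b' then μ else 1) from
    Fin.prod_univ_eq_prod_range (fun i => if i < b then ζ else if i < b' then μ else 1) n]
  conv_lhs => rw [show n = b + (b' - b) + (n - b') by omega]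
  rw [Finset.prod_range_add, Finset.prod_range_add,
    Finset.prod_congr rfl (fun i hi => if_pos (Finset.mem_range.1 hi)),
    Finset.prod_congr rfl (fun (i : ℕ) (hi : i ∈ Finset.range (b' - b)) => show
      (if b + i < b then ζ else if b + i < b' then μ else 1) = μ by
        rw [if_neg (by omega), if_pos (by rw [Finset.mem_range] at hi; omega)]),
    Finset.prod_eq_one (fun (i : ℕ) (_ : i ∈ Finset.range (n - b')) => show
      (if b + (b' - b) + i < b then ζ else if b + (b' - b) + i < b' then μ else 1) = 1 by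
        rw [if_neg (by omega), if_neg (by omega)]),
    Finset.prod_const, Finset.prod_const, Finset.card_range, Finset.card_range, mul_one]

omit [Fintype F] in
theorem vec_pow {ζ μ : F} (hζ : ζ ^ r = 1) (hμ : μ ^ r = 1) (b b' : ℕ) :
    (Matrix.diagonal (vec n ζ μ b b')) ^ r = 1 := by
  rw [Matrix.diagonal_pow, ← Matrix.diagonal_one]
  congr 1
  funext i
  simp only [Pi.pow_apply, vec]
  split_ifs <;> simp [hζ, hμ]

theorem card_le_of_dvd (hr : (r : F) ≠ 0) (H : Subgroup (Matrix.SpecialLinearGroup (Fin n) F))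
    (h : r ∣ H.index) (hn : 0 < n) : orderOf (Fintype.card F : ZMod r) ≤ n := by
  have : Nonempty (Fin n) := ⟨⟨0, hn⟩⟩
  have h4 : r ∣ Nat.card (GL (Fin n) F) := by
    rw [← PSLCard.card_SL_mul_card_units]
    exact dvd_mul_of_dvd_left (dvd_trans h H.index_dvd_card) _
  rw [Matrix.card_GL_field, (Fact.out : r.Prime).prime.dvd_finsetProd_iff] at h4
  obtain ⟨i, -, hi⟩ := h4
  rw [sub_eq_mul i.2.le] at hi
  rcases (Fact.out : r.Prime).dvd_mul.1 hi with h5 | h5
  · exact absurd ((ZMod.natCast_eq_zero_iff _ _).2 ((Fact.out : r.Prime).dvd_of_dvd_pow h5))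
      (natCast_card_ne_zero hr)
  · rw [← card_pow_eq_one_iff, ← orderOf_dvd_iff_pow_eq_one] at h5
    exact (Nat.le_of_dvd (by have := i.2; omega) h5).trans (Nat.sub_le _ _)

omit [Fact r.Prime] in
theorem mem_of_pow_eq {q₀ : ℕ} (hF₀ : Nat.card ↥F₀ = q₀) {a : F} (ha : a ^ q₀ = a) :
    ∃ a₀ : F₀, (a₀ : F) = a := by
  classical
  haveI : Fintype F₀ := Fintype.ofFinite _
  rw [Nat.card_eq_fintype_card] at hF₀
  by_contra hne
  push Not at hne
  have h1 : (1 : ℕ) < Fintype.card F₀ := Fintype.one_lt_card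
  let P₀ : F[X] := X ^ Fintype.card F₀ - X
  have hroots : insert a (Finset.univ.image fun b : F₀ => (b : F)) ⊆ P₀.roots.toFinset := by
    intro b hb
    rw [Multiset.mem_toFinset, mem_roots (FiniteField.X_pow_card_sub_X_ne_zero F h1), IsRoot.def,
      eval_sub, eval_pow, eval_X, sub_eq_zero]
    rcases Finset.mem_insert.1 hb with rfl | hb
    · rw [hF₀, ha]
    · obtain ⟨c, -, rfl⟩ := Finset.mem_image.1 hb
      exact_mod_cast congrArg Subtype.val (FiniteField.pow_card c)
  have h2 := ((Finset.card_le_card hroots).trans (Multiset.toFinset_card_le _)).trans (card_roots' P₀)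
  rw [Finset.card_insert_of_notMem, Finset.card_image_of_injective _ Subtype.val_injective,
    Finset.card_univ, FiniteField.X_pow_card_sub_X_natDegree_eq F h1] at h2
  · omega
  · simp only [Finset.mem_image, Finset.mem_univ, true_and, not_exists]
    exact hne

/-- A Frobenius stable diagonal gives membership. -/
theorem sub_diag (hr : (r : F) ≠ 0) {q₀ : ℕ} (hF₀ : Nat.card ↥F₀ = q₀) {p e : ℕ} [Fact p.Prime]
    [CharP F p] (hq₀ : q₀ = p ^ e) (v : Fin n → F) (hv : ∀ i, v i ^ r = 1)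
    (hsym : Finset.univ.val.map (fun i => v i ^ q₀) = Finset.univ.val.map v) :
    Sub F₀ (Matrix.diagonal v) := by
  classical
  have hA : (Matrix.diagonal v) ^ r = 1 := by
    rw [Matrix.diagonal_pow, ← Matrix.diagonal_one]
    congr 1
    funext i
    exact hv i
  have hτ : ∀ a : F, iterateFrobenius F p e a = a ^ q₀ := fun a => by
    rw [iterateFrobenius_def, hq₀]
  have hfix : (Matrix.diagonal v).charpoly.map (iterateFrobenius F p e) =
      (Matrix.diagonal v).charpoly := by
    rw [Matrix.charpoly_diagonal, Polynomial.map_prod]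
    simp only [Polynomial.map_sub, map_X, map_C, hτ]
    have h1 := congrArg (fun m : Multiset F => (m.map fun a => X - C a).prod) hsym
    simp only [Multiset.map_map, Function.comp_def] at h1
    simpa only [map_pow, Finset.prod_eq_multiset_prod] using h1
  obtain ⟨P, hP⟩ : ∃ P : F₀[X], P.map (F₀.subtype : F₀ →+* F) = (Matrix.diagonal v).charpoly := by
    refine (mem_lifts _).1 ((lifts_iff_coeff_lifts _).2 fun i => ?_)
    refine mem_of_pow_eq hF₀ ?_
    rw [← hτ, ← coeff_map, hfix]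
  exact sub_of_charpoly hr hA P hP (charpoly_dvd hA)

theorem splits_aux (hr : (r : F) ≠ 0) (hc : orderOf (Fintype.card F : ZMod r) = 1)
    {A : Matrix (Fin n) (Fin n) F} (hA : A ^ r = 1) :
    ∀ d, ∀ D : F[X], D.natDegree = d → D.Monic → D ∣ A.charpoly →
      ∃ v : Fin d → F, (∀ i, v i ^ r = 1) ∧ D = ∏ i, (X - C (v i)) := by
  intro d
  induction d with
  | zero =>
    intro D hD hDm _
    exact ⟨Fin.elim0, fun i => i.elim0, by rw [eq_one_of_monic_natDegree_zero hDm hD]; simp⟩
  | succ d ih =>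
    intro D hD hDm hDd
    have hu : ¬ IsUnit D := fun hu => by rw [natDegree_eq_zero_of_isUnit hu] at hD; omega
    obtain ⟨e, hem, hei, D', rfl⟩ := exists_monic_irreducible_factor D hu
    have hD'm : D'.Monic := hem.of_mul_monic_left hDm
    have hed := charpoly_factor hA hei (dvd_trans (dvd_mul_right e D') hDd)
    have he1 : e.natDegree = 1 := by
      have h1 := natDegree_le_order hr hei hed
      have := hei.natDegree_pos
      omega
    rw [hem.natDegree_mul hD'm] at hD
    obtain ⟨v, hv, hvD⟩ := ih D' (by omega) hD'm (dvd_trans (dvd_mul_left D' e) hDd)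
    have heq : e = X - C (-e.coeff 0) := by
      rw [map_neg, sub_neg_eq_add]
      exact hem.eq_X_add_C he1
    refine ⟨Fin.cons (-e.coeff 0) v, ?_, ?_⟩
    · intro i
      refine Fin.cases ?_ (fun j => ?_) i
      · obtain ⟨u, hu⟩ := hed
        have := congrArg (Polynomial.eval (-e.coeff 0)) hu
        rw [eval_mul, heq] at this
        simpa [sub_eq_zero] using this
      · simpa using hv j
    · rw [Fin.prod_univ_succ]
      simp only [Fin.cons_zero, Fin.cons_succ]
      rw [← hvD, ← heq]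

theorem exists_conj_diagonal (hr : (r : F) ≠ 0) (hc : orderOf (Fintype.card F : ZMod r) = 1)
    {A : Matrix (Fin n) (Fin n) F} (hA : A ^ r = 1) :
    ∃ (v : Fin n → F) (P : GL (Fin n) F), (∀ i, v i ^ r = 1) ∧
      (P : Matrix (Fin n) (Fin n) F) * A = Matrix.diagonal v * (P : Matrix (Fin n) (Fin n) F) := by
  obtain ⟨v, hv, hv'⟩ := splits_aux hr hc hA n A.charpoly
    (by rw [Matrix.charpoly_natDegree_eq_dim, Fintype.card_fin]) A.charpoly_monic dvd_rfl
  have hd : (Matrix.diagonal v) ^ r = 1 := by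
    rw [Matrix.diagonal_pow, ← Matrix.diagonal_one]
    congr 1
    funext i
    exact hv i
  obtain ⟨P, hP⟩ := SemisimpleConjGL.exists_gl_conj (SemisimpleConjGL.isSemisimple_of_pow_eq_one hr hA)
    (SemisimpleConjGL.isSemisimple_of_pow_eq_one hr hd) (by rw [hv', Matrix.charpoly_diagonal])
  exact ⟨v, P, hv, hP⟩

theorem shift_three (a b c : ℕ) (h : a + b + c = 3) (hw : (b + 2 * c) % 3 = 0) :
    b = c ∨ a = c ∨ a = b := by omega

theorem shift_five_bound : ∀ a b c d : Fin 6, (a:ℕ) + b + c + d ≤ 5 →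
    ((b:ℕ) + 2 * c + 3 * d + 4 * (5 - ((a:ℕ) + b + c + d))) % 5 = 0 →
    ((b:ℕ) = 5 - ((a:ℕ) + b + c + d) ∧ (c:ℕ) = d) ∨ ((a:ℕ) = c ∧ (d:ℕ) = 5 - ((a:ℕ) + b + c + d)) ∨
      ((a:ℕ) = 5 - ((a:ℕ) + b + c + d) ∧ (b:ℕ) = d) ∨
      ((a:ℕ) = b ∧ (c:ℕ) = 5 - ((a:ℕ) + b + c + d)) ∨ ((a:ℕ) = d ∧ (b:ℕ) = c) := by
  decide +kernel

theorem exists_center {r : ℕ} [Fact r.Prime] (hr : r = 3 ∨ r = 5) (m : ZMod r → ℕ)
    (hs : ∑ x, m x = r) (hw : ∑ x, (m x : ZMod r) * x = 0) : ∃ l, ∀ x, m (l + l - x) = m x := by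
  rcases hr with rfl | rfl
  · have hs' : m 0 + m 1 + m 2 = 3 := (Fin.sum_univ_three m).symm.trans hs
    have hw' : ((m 1 + 2 * m 2 : ℕ) : ZMod 3) = 0 := by
      rw [← hw]
      push_cast
      refine Eq.trans ?_ (Fin.sum_univ_three (fun x : ZMod 3 => (m x : ZMod 3) * x)).symm
      show _ = (m 0 : ZMod 3) * 0 + (m 1 : ZMod 3) * 1 + (m 2 : ZMod 3) * 2
      ring
    rw [ZMod.natCast_eq_zero_iff] at hw'
    rcases shift_three _ _ _ hs' (Nat.mod_eq_zero_of_dvd hw') with h | h | h
    · refine ⟨0, fun x => ?_⟩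
      fin_cases x
      · rfl
      · exact h.symm
      · exact h
    · refine ⟨1, fun x => ?_⟩
      fin_cases x
      · exact h.symm
      · rfl
      · exact h
    · refine ⟨2, fun x => ?_⟩
      fin_cases x
      · exact h.symm
      · exact h
      · rfl
  · have hs' : m 0 + m 1 + m 2 + m 3 + m 4 = 5 := (Fin.sum_univ_five m).symm.trans hs
    have hw' : ((m 1 + 2 * m 2 + 3 * m 3 + 4 * m 4 : ℕ) : ZMod 5) = 0 := by
      rw [← hw]
      push_cast
      refine Eq.trans ?_ (Fin.sum_univ_five (fun x : ZMod 5 => (m x : ZMod 5) * x)).symm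
      show _ = (m 0 : ZMod 5) * 0 + (m 1 : ZMod 5) * 1 + (m 2 : ZMod 5) * 2 + (m 3 : ZMod 5) * 3 +
        (m 4 : ZMod 5) * 4
      ring
    rw [ZMod.natCast_eq_zero_iff] at hw'
    have hk := shift_five_bound ⟨m 0, by omega⟩ ⟨m 1, by omega⟩ ⟨m 2, by omega⟩ ⟨m 3, by omega⟩
      (show m 0 + m 1 + m 2 + m 3 ≤ 5 by omega)
      (show (m 1 + 2 * m 2 + 3 * m 3 + 4 * (5 - (m 0 + m 1 + m 2 + m 3))) % 5 = 0 by
        rw [show 5 - (m 0 + m 1 + m 2 + m 3) = m 4 by omega]; exact Nat.mod_eq_zero_of_dvd hw')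
    simp only [show 5 - (m 0 + m 1 + m 2 + m 3) = m 4 by omega] at hk
    rcases hk with ⟨h, h'⟩ | ⟨h, h'⟩ | ⟨h, h'⟩ | ⟨h, h'⟩ | ⟨h, h'⟩
    · refine ⟨0, fun x => ?_⟩
      fin_cases x
      · rfl
      · exact h.symm
      · exact h'.symm
      · exact h'
      · exact h
    · refine ⟨1, fun x => ?_⟩
      fin_cases x
      · exact h.symm
      · rfl
      · exact h
      · exact h'.symm
      · exact h'
    · refine ⟨2, fun x => ?_⟩
      fin_cases x
      · exact h.symm
      · exact h'.symm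
      · rfl
      · exact h'
      · exact h
    · refine ⟨3, fun x => ?_⟩
      fin_cases x
      · exact h.symm
      · exact h
      · exact h'.symm
      · rfl
      · exact h'
    · refine ⟨4, fun x => ?_⟩
      fin_cases x
      · exact h.symm
      · exact h'.symm
      · exact h'
      · exact h
      · rfl

/-- The exceptional positive case. -/
theorem sub_exceptional (hr : (r : F) ≠ 0) {q₀ : ℕ} (hF₀ : Nat.card ↥F₀ = q₀) {p e : ℕ} [Fact p.Prime]
    [CharP F p] (hq₀ : q₀ = p ^ e) (hc : orderOf (Fintype.card F : ZMod r) = 1)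
    (hr35 : r = 3 ∨ r = 5) (hn : n = r) (hq : (q₀ : ZMod r) = -1)
    {A : Matrix (Fin n) (Fin n) F} (hA : A ^ r = 1) (hdet : A.det = 1) : Sub F₀ A := by
  classical
  obtain ⟨v, P, hv, hP⟩ := exists_conj_diagonal hr hc hA
  refine sub_conj P hP ?_
  have hdetv : ∏ i, v i = 1 := by
    have h1 := congrArg Matrix.det hP
    rw [Matrix.det_mul, Matrix.det_mul, hdet, mul_one, Matrix.det_diagonal, eq_comm,
      mul_eq_right₀ ((Matrix.isUnit_iff_isUnit_det _).1 P.isUnit).ne_zero] at h1
    exact h1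
  have hrq : r ∣ Fintype.card F - 1 := by
    have := (card_pow_eq_one_iff (F := F) (r := r) 1).1 (by rw [← hc]; exact pow_orderOf_eq_one _)
    rwa [pow_one] at this
  obtain ⟨ζ, hζ, hζ1⟩ := exists_root hrq
  have hord : orderOf ζ = r := orderOf_eq_prime hζ hζ1
  have hpr : IsPrimitiveRoot ζ r := hord ▸ IsPrimitiveRoot.orderOf ζ
  haveI : NeZero r := ⟨(Fact.out : r.Prime).ne_zero⟩
  let pw : ZMod r → F := fun x => ζ ^ x.val
  have hpwn : ∀ m : ℕ, pw (m : ZMod r) = ζ ^ m := fun m => by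
    show ζ ^ (m : ZMod r).val = ζ ^ m
    rw [ZMod.val_natCast, ← hord, pow_mod_orderOf]
  have hpwa : ∀ x y, pw (x + y) = pw x * pw y := fun x y => by
    rw [← ZMod.natCast_zmod_val x, ← ZMod.natCast_zmod_val y, ← Nat.cast_add, hpwn, hpwn, hpwn, pow_add]
  have hpwm : ∀ x (m : ℕ), pw x ^ m = pw ((m : ZMod r) * x) := fun x m => by
    rw [← ZMod.natCast_zmod_val x, ← Nat.cast_mul, hpwn, hpwn, ← pow_mul, mul_comm]
  have hex : ∀ i, ∃ x : ZMod r, pw x = v i := fun i => by
    obtain ⟨j, -, hj⟩ := hpr.eq_pow_of_pow_eq_one (hv i)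
    exact ⟨j, by rw [hpwn, hj]⟩
  choose f hf using hex
  have hsum : ∑ i, f i = 0 := by
    have h1 : ∀ s : Finset (Fin n), pw (∑ i ∈ s, f i) = ∏ i ∈ s, v i := by
      intro s
      induction s using Finset.induction_on with
      | empty => rw [Finset.sum_empty, Finset.prod_empty, ← Nat.cast_zero, hpwn, pow_zero]
      | insert a s ha ih => rw [Finset.sum_insert ha, Finset.prod_insert ha, hpwa, ih, hf]
    have h2 := h1 Finset.univ
    rw [hdetv] at h2
    have h3 : r ∣ (∑ i, f i).val := (hpr.pow_eq_one_iff_dvd _).1 h2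
    rw [← ZMod.natCast_eq_zero_iff, ZMod.natCast_zmod_val] at h3
    exact h3
  let m : ZMod r → ℕ := fun x => (Finset.univ.val.map f).count x
  have hm : ∀ x, m x = (Finset.univ.filter fun i => f i = x).card := fun x => by
    show (Finset.univ.val.map f).count x = _
    rw [Multiset.count_map]
    exact congrArg Multiset.card (Multiset.filter_congr fun i _ => eq_comm)
  obtain ⟨l, hl⟩ := exists_center hr35 m (by
      simp only [hm]
      rw [← Finset.card_eq_sum_card_fiberwise (fun i _ => Finset.mem_univ (f i))]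
      simp [hn])
    (by
      rw [← hsum, ← Finset.sum_fiberwise Finset.univ f f]
      refine Finset.sum_congr rfl fun x _ => ?_
      rw [Finset.sum_congr rfl (fun i hi => (Finset.mem_filter.1 hi).2), Finset.sum_const, hm,
        nsmul_eq_mul])
  have hms : (Finset.univ.val.map fun i => l + l - f i) = Finset.univ.val.map f := by
    refine Multiset.ext.2 fun x => ?_
    show _ = m x
    rw [← hl x]
    show _ = Multiset.count (l + l - x) (Finset.univ.val.map f)
    rw [← Multiset.count_map_eq_count' (fun y => l + l - y) _ sub_right_injective (l + l - x),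
      Multiset.map_map, sub_sub_cancel]
    rfl
  have hns : pw (-l) ≠ 0 := pow_ne_zero _ (hpr.ne_zero (Fact.out : r.Prime).ne_zero)
  refine (sub_smul_iff hns).1 ?_
  rw [← Matrix.diagonal_smul]
  refine sub_diag hr hF₀ hq₀ _ (fun i => ?_) ?_
  · show (pw (-l) * v i) ^ r = 1
    rw [mul_pow, hv, mul_one, hpwm, ZMod.natCast_self, zero_mul, ← Nat.cast_zero, hpwn, pow_zero]
  · have h := congrArg (Multiset.map fun y => pw (-l + y)) hms
    rw [Multiset.map_map, Multiset.map_map] at h
    refine Eq.trans (Multiset.map_congr rfl fun i _ => ?_) (h.trans (Multiset.map_congr rfl fun i _ => ?_))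
    · show (pw (-l) * v i) ^ q₀ = pw (-l + (l + l - f i))
      rw [← hf, ← hpwa, hpwm, hq]
      congr 1
      ring
    · show pw (-l + f i) = pw (-l) * v i
      rw [← hf, hpwa]

end Helpers

/-- Elements of odd prime order r ≠ p of PSL_n(q) and subfield subgroups. Here `T = PSL_n(F)` for a field `F` with `q = p^f` elements (`n ≥ 2`, `(n, q) ≠ (2, 2), (2, 3)`), `F₀` is the subfield with `q₀` elements where `q = q₀^k` for a prime `k`, and `H` is the subgroup of matrices of determinant 1 lying in the subfield group of `F₀` (invertible matrices over `F₀` times scalars) — a maximal subgroup of type GL_n(q₀) (the case `n = 2`, `q₀ = 2` is excluded); Ω is the set of `T`-conjugates of `H` (cosets of `H`), so an element of `T` of prime order `r` (a matrix `x` of determinant 1 with `x^r` scalar, `x` not scalar) fixes a point of Ω when some conjugate of `x` by a matrix of determinant 1 lies in `H`. Let `r ≠ p` be an odd prime dividing the index of `H`, with `(n, r) ≠ (6,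 3)` and, when `r = k` divides `q₀ − 1`, with `(n)_r ≤ (q − 1)_r`. Then every element of `T` of order `r` is conjugate in `T` into `H` if and only if `r = k`, or `k = 2`, `r = n ∈ {3, 5}` and `(q₀ + 1)_r = r`. The two excluded cases, `(n, r) = (6, 3)` and `r = k ∣ q₀ − 1` with `(n)_r > (q − 1)_r`, are ones where this criterion can fail, so they are left out. -/
theorem result {F : Type*} [Field F] [Fintype F] {p : ℕ} [Fact p.Prime] [CharP F p] {q : ℕ} (hq : Fintype.card F = q)
    (n : ℕ) (hn : 2 ≤ n) (hT : (n, q) ≠ (2, 2) ∧ (n, q) ≠ (2, 3))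
    (F₀ : Subfield F) (k q₀ : ℕ) (hk : k.Prime) (hF₀ : Nat.card ↥F₀ = q₀) (hqk : q = q₀ ^ k) (hC5 : ¬ (n = 2 ∧ q₀ = 2)) (r : ℕ) [Fact r.Prime] (hr2 : r ≠ 2) (hrp : r ≠ p) (hgap : ¬ (n = 6 ∧ r = 3)) (hgapk : r = k → r ∣ q₀ - 1 → padicValNat r n ≤ padicValNat r (q - 1)) (hΩ : r ∣ ((Cfsg.Geo.subfieldSubgroup F₀ 1).comap (Matrix.SpecialLinearGroup.toGL : Matrix.SpecialLinearGroup (Fin n) F →* GL (Fin n) F)).index) :
    (∀ x : Matrix.SpecialLinearGroup (Fin n) F,
      (∃ z : F, ((x ^ r : Matrix.SpecialLinearGroup (Fin n) F) : Matrix (Fin n) (Fin n) F) = z • (1 : Matrix (Fin n) (Fin n) F)) →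
      (∀ z : F, (x : Matrix (Fin n) (Fin n) F) ≠ z • (1 : Matrix (Fin n) (Fin n) F)) →
      ∃ P : Matrix.SpecialLinearGroup (Fin n) F, P⁻¹ * x * P ∈ ((Cfsg.Geo.subfieldSubgroup F₀ 1).comap (Matrix.SpecialLinearGroup.toGL : Matrix.SpecialLinearGroup (Fin n) F →* GL (Fin n) F))) ↔
    (r = k ∨ (k = 2 ∧ r = n ∧ (n = 3 ∨ n = 5) ∧ padicValNat r (q₀ + 1) = 1)) := by
  classical
  subst hq
  set q := Fintype.card F with hqdef
  have hrpr : r.Prime := Fact.out
  have hpp : p.Prime := Fact.out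
  have hr : (r : F) ≠ 0 := fun e => hrp
    ((Nat.prime_dvd_prime_iff_eq hpp hrpr).1 ((CharP.cast_eq_zero_iff F p r).1 e)).symm
  haveI : NeZero n := ⟨by omega⟩
  haveI : Nonempty (Fin n) := ⟨⟨0, by omega⟩⟩
  obtain ⟨e, he⟩ : ∃ e, q₀ = p ^ e := by
    obtain ⟨f, -, hf⟩ := FiniteField.card F p
    obtain ⟨e, -, he⟩ := (Nat.dvd_prime_pow hpp).1
      (show q₀ ∣ p ^ (f : ℕ) by rw [← hf, ← hqdef, hqk]; exact dvd_pow_self _ hk.ne_zero)
    exact ⟨e, he⟩
  have hiff : ∀ x : Matrix.SpecialLinearGroup (Fin n) F,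
      (∃ z : F, ((x ^ r : Matrix.SpecialLinearGroup (Fin n) F) : Matrix (Fin n) (Fin n) F) = z • (1 : Matrix (Fin n) (Fin n) F)) →
      ((∃ P : Matrix.SpecialLinearGroup (Fin n) F, P⁻¹ * x * P ∈ ((Cfsg.Geo.subfieldSubgroup F₀ 1).comap (Matrix.SpecialLinearGroup.toGL : Matrix.SpecialLinearGroup (Fin n) F →* GL (Fin n) F))) ↔
        Sub F₀ (x : Matrix (Fin n) (Fin n) F)) := by
    rintro x ⟨z, hz⟩
    refine ⟨fun ⟨P, hP⟩ => sub_of_mem x P hP, mem_of_sub x ?_⟩
    rw [Matrix.SpecialLinearGroup.coe_pow] at hz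
    refine isSemisimple_of_pow hr ?_ hz
    intro hz0
    have := congrArg Matrix.det hz
    rw [Matrix.det_pow, x.2, one_pow, hz0, zero_smul, Matrix.det_zero] at this
    exact one_ne_zero this
  -- A non-rational element refutes the property.
  have hbad : ∀ (A : Matrix (Fin n) (Fin n) F) (w : F), A ^ r = 1 → (∀ s : F, A ≠ s • 1) →
      w ^ n * A.det = 1 → ¬ Sub F₀ A →
      ¬ (∀ x : Matrix.SpecialLinearGroup (Fin n) F,
      (∃ z : F, ((x ^ r : Matrix.SpecialLinearGroup (Fin n) F) : Matrix (Fin n) (Fin n) F) = z • (1 : Matrix (Fin n) (Fin n) F)) →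
      (∀ z : F, (x : Matrix (Fin n) (Fin n) F) ≠ z • (1 : Matrix (Fin n) (Fin n) F)) →
      ∃ P : Matrix.SpecialLinearGroup (Fin n) F, P⁻¹ * x * P ∈ ((Cfsg.Geo.subfieldSubgroup F₀ 1).comap (Matrix.SpecialLinearGroup.toGL : Matrix.SpecialLinearGroup (Fin n) F →* GL (Fin n) F))) := by
    intro A w hA hns hd hsub hall
    have hw : w ≠ 0 := fun e0 => by
      rw [e0, zero_pow (by omega), zero_mul] at hd; exact zero_ne_one hd
    let x : Matrix.SpecialLinearGroup (Fin n) F :=
      ⟨w • A, by rw [Matrix.det_smul, Fintype.card_fin, hd]⟩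
    have hxz : ∃ z : F, ((x ^ r : Matrix.SpecialLinearGroup (Fin n) F) : Matrix (Fin n) (Fin n) F) = z • (1 : Matrix (Fin n) (Fin n) F) :=
      ⟨w ^ r, by rw [Matrix.SpecialLinearGroup.coe_pow]; show (w • A) ^ r = _; rw [_root_.smul_pow, hA]⟩
    refine hsub ((sub_smul_iff hw).1 ((hiff x hxz).1 (hall x hxz fun z hz => hns (w⁻¹ * z) ?_)))
    rw [← smul_smul, ← hz]
    show A = w⁻¹ • (w • A)
    rw [smul_smul, inv_mul_cancel₀ hw, one_smul]
  -- Reduction to elements with `A ^ r = 1`.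
  have hgood : (∀ x : Matrix.SpecialLinearGroup (Fin n) F, ∀ z : F, (x : Matrix (Fin n) (Fin n) F) ^ r = z • 1 →
      z ≠ 0 → ∃ w : F, w ^ r = z) →
      (∀ (A : Matrix (Fin n) (Fin n) F) (w : F), A ^ r = 1 → w ^ n * A.det = 1 → Sub F₀ A) →
      ∀ x : Matrix.SpecialLinearGroup (Fin n) F,
      (∃ z : F, ((x ^ r : Matrix.SpecialLinearGroup (Fin n) F) : Matrix (Fin n) (Fin n) F) = z • (1 : Matrix (Fin n) (Fin n) F)) →
      (∀ z : F, (x : Matrix (Fin n) (Fin n) F) ≠ z • (1 : Matrix (Fin n) (Fin n) F)) →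
      ∃ P : Matrix.SpecialLinearGroup (Fin n) F, P⁻¹ * x * P ∈ ((Cfsg.Geo.subfieldSubgroup F₀ 1).comap (Matrix.SpecialLinearGroup.toGL : Matrix.SpecialLinearGroup (Fin n) F →* GL (Fin n) F)) := by
    intro hroot hsub x hx _
    refine (hiff x hx).2 ?_
    obtain ⟨z, hz⟩ := hx
    rw [Matrix.SpecialLinearGroup.coe_pow] at hz
    have hz0 : z ≠ 0 := fun e0 => by
      have := congrArg Matrix.det hz
      rw [Matrix.det_pow, x.2, one_pow, e0, zero_smul, Matrix.det_zero] at this
      exact one_ne_zero this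
    obtain ⟨w, hw⟩ := hroot x z hz hz0
    have hw0 : w ≠ 0 := fun e0 => hz0 (by rw [← hw, e0, zero_pow hrpr.ne_zero])
    refine (sub_smul_iff (inv_ne_zero hw0)).1 (hsub _ w ?_ ?_)
    · rw [_root_.smul_pow, hz, smul_smul, ← hw, inv_pow, inv_mul_cancel₀ (pow_ne_zero _ hw0), one_smul]
    · rw [Matrix.det_smul, Fintype.card_fin, x.2, mul_one, ← mul_pow, mul_inv_cancel₀ hw0, one_pow]
  set c := orderOf (q : ZMod r) with hcdef
  set c0 := orderOf (q₀ : ZMod r) with hc0def
  have hcpos : 0 < c := orderOf_card_pos hr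
  have hq00 : (q₀ : ZMod r) ≠ 0 := fun e0 => natCast_card_ne_zero (r := r) hr
    (by rw [← hqdef, hqk, Nat.cast_pow, e0, zero_pow hk.ne_zero])
  have hc0dvd : c0 ∣ r - 1 := orderOf_dvd_of_pow_eq_one (ZMod.pow_card_sub_one_eq_one hq00)
  have hc0pos : 0 < c0 := Nat.pos_of_dvd_of_pos hc0dvd (by have := hrpr.two_le; omega)
  have hc0le : c0 ≤ r - 1 := Nat.le_of_dvd (by have := hrpr.two_le; omega) hc0dvd
  have hcc : c0 = c ∨ c0 = k * c := by
    have h1 : c = c0 / Nat.gcd c0 k := by
      rw [hcdef, hqk, Nat.cast_pow, orderOf_pow' _ hk.ne_zero]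
    rcases (Nat.dvd_prime hk).1 (Nat.gcd_dvd_right c0 k) with h | h
    · left; rw [h1, h, Nat.div_one]
    · right
      rw [h1, h, Nat.mul_div_cancel' (h ▸ Nat.gcd_dvd_left c0 k)]
  -- The roots of unity when `c = 1`.
  have hrq_of : c = 1 → r ∣ q - 1 := fun h1 => by
    have := (card_pow_eq_one_iff (F := F) (r := r) 1).1 (by rw [← hqdef, ← h1]; exact pow_orderOf_eq_one _)
    rwa [pow_one] at this
  have hroot_ge : 2 ≤ c → ∀ z : F, z ≠ 0 → ∃ w : F, w ^ r = z := by
    intro h2 z hz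
    refine exists_pow_of_pow_eq hrpr hz (k := q - 1) (fun hd => ?_)
      ((FiniteField.pow_card_sub_one_eq_one z hz).trans (one_pow r).symm)
    have h1 : (q : ZMod r) ^ 1 = 1 := by rw [hqdef, card_pow_eq_one_iff, pow_one]; exact hd
    rw [pow_one] at h1
    rw [hcdef, h1, orderOf_one] at h2
    omega
  have hroot_one : c = 1 → padicValNat r n ≤ padicValNat r (q - 1) →
      ∀ x : Matrix.SpecialLinearGroup (Fin n) F, ∀ z : F, (x : Matrix (Fin n) (Fin n) F) ^ r = z • 1 →
        z ≠ 0 → ∃ w : F, w ^ r = z := by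
    intro h1 hv x z hz hz0
    by_contra hb
    push Not at hb
    have hg : (Matrix.toLin' (x : Matrix (Fin n) (Fin n) F)) ^ r = z • 1 := by
      rw [← Matrix.toLin'_pow, hz, map_smul, Matrix.toLin'_one]; rfl
    obtain ⟨t, ht, hdet⟩ := det_eq_of_pow_smul hrpr hz0 hg hb
    rw [Module.finrank_fin_fun] at ht
    rw [LinearMap.det_toLin', x.2] at hdet
    have ht0 : t ≠ 0 := fun e0 => by rw [e0, mul_zero] at ht; omega
    exact (exists_bad_iff (hrq_of h1) ht ht0).1 ⟨z, hz0, hb, hdet.symm⟩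
      ⟨hv, fun e2 => absurd e2 hr2⟩
  by_cases hRHS : r = k ∨ (k = 2 ∧ r = n ∧ (n = 3 ∨ n = 5) ∧ padicValNat r (q₀ + 1) = 1)
  · refine iff_of_true ?_ hRHS
    rcases hRHS with hrk | ⟨hk2, hrn, hn35, hv1⟩
    · have hceq : c0 = c := hcc.resolve_right fun h => by
        have : k ≤ c0 := by rw [h]; exact Nat.le_mul_of_pos_right k hcpos
        omega
      refine hgood ?_ fun A w hA _ => sub_of_order_eq hF₀ hr hceq hA
      rcases Nat.lt_or_ge 1 c with h2 | h1
      · exact fun x z _ hz0 => hroot_ge h2 z hz0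
      · have h1' : c = 1 := by omega
        refine hroot_one h1' (hgapk hrk ?_)
        rw [← ZMod.natCast_eq_zero_iff, Nat.cast_sub (by rw [← hF₀]; exact Nat.card_pos), Nat.cast_one,
          sub_eq_zero, ← orderOf_eq_one_iff]
        exact hceq.trans h1'
    · subst hk2
      have hd : r ∣ q₀ + 1 := dvd_of_one_le_padicValNat hv1.ge
      have hq1 : (q₀ : ZMod r) = -1 := by
        rw [eq_neg_iff_add_eq_zero]
        exact_mod_cast (ZMod.natCast_eq_zero_iff _ _).2 hd
      have hc1 : c = 1 := by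
        rw [hcdef, hqk, Nat.cast_pow, hq1, neg_one_sq, orderOf_one]
      have hv : padicValNat r (q - 1) = 1 := by
        have h0 : ¬ r ∣ q₀ - 1 := fun hd1 => by
          have h2 : r ∣ 2 := by
            have := Nat.dvd_sub hd hd1
            rwa [show q₀ + 1 - (q₀ - 1) = 2 by
              have : 0 < q₀ := by rw [← hF₀]; exact Nat.card_pos
              omega] at this
          exact hr2 ((Nat.prime_dvd_prime_iff_eq hrpr Nat.prime_two).1 h2)
        have : 1 < q₀ := by rw [← hF₀]; exact Finite.one_lt_card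
        rw [show q - 1 = (q₀ + 1) * (q₀ - 1) by rw [hqk, ← Nat.sq_sub_sq, one_pow],
          padicValNat.mul (by omega) (by omega), padicValNat.eq_zero_of_not_dvd h0, hv1]
      refine hgood (hroot_one hc1 (le_of_eq ?_)) fun A w hA hd1 => ?_
      · rw [hv, ← hrn, padicValNat.self hrpr.one_lt]
      · refine sub_exceptional hr hF₀ he hc1 (hrn ▸ hn35) hrn.symm hq1 hA ?_
        have hdr : A.det ^ r = 1 := by rw [← Matrix.det_pow, hA, Matrix.det_one]
        replace hd1 : w ^ r * A.det = 1 := hrn.symm ▸ hd1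
        have hw0 : w ≠ 0 := fun e0 => by
          rw [e0, zero_pow hrpr.ne_zero, zero_mul] at hd1; exact zero_ne_one hd1
        have hw2 : w ^ (r * r) = 1 := by
          have := congrArg (· ^ r) hd1
          simpa [mul_pow, hdr, ← pow_mul] using this
        have hg := pow_gcd_eq_one.2 ⟨hw2, FiniteField.pow_card_sub_one_eq_one w hw0⟩
        have hgd : Nat.gcd (r * r) (q - 1) ∣ r := by
          obtain ⟨i, hi, hie⟩ := (Nat.dvd_prime_pow hrpr).1
            (show Nat.gcd (r * r) (q - 1) ∣ r ^ 2 by rw [sq]; exact Nat.gcd_dvd_left _ _)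
          rcases Nat.lt_or_ge i 2 with h | h
          · rw [hie]; exact dvd_trans (pow_dvd_pow r (show i ≤ 1 by omega)) (by rw [pow_one])
          · exfalso
            have hdq : r ^ 2 ∣ q - 1 := dvd_trans (by rw [hie]; exact pow_dvd_pow r h) (Nat.gcd_dvd_right _ _)
            have hq10 : q - 1 ≠ 0 := by
              have : 1 < q := Fintype.one_lt_card
              omega
            rw [padicValNat_dvd_iff_le hq10] at hdq
            omega
        obtain ⟨s, hs⟩ := hgd
        have hwr : w ^ r = 1 := by rw [hs, pow_mul, hg, one_pow]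
        rwa [hwr, one_mul] at hd1
  · refine iff_of_false ?_ hRHS
    push Not at hRHS
    obtain ⟨hrk, hexc⟩ := hRHS
    rcases hcc with hceq | hck
    · exact absurd hΩ (not_dvd_index hF₀ hqk hr hk.pos
        (fun hd => hrk ((Nat.prime_dvd_prime_iff_eq hrpr hk).1 hd)) hceq)
    rcases Nat.lt_or_ge 1 c with hc2 | hc1'
    · -- one block
      have hcn : c ≤ n := card_le_of_dvd hr _ hΩ (by omega)
      obtain ⟨g, hg, hdet, hg1, hker, -⟩ := DecompPerm84.exists_blocks (F := F) (V := Fin n → F) (r := r)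
        hr hc2 (b := 1) one_pos (by rw [one_mul, Module.finrank_fin_fun]; exact hcn)
      rw [one_mul, Module.finrank_fin_fun] at hker
      have hA : (LinearMap.toMatrix' g) ^ r = 1 := by
        apply Matrix.toLin'.injective
        rw [Matrix.toLin'_pow, Matrix.toLin'_toMatrix', hg, Matrix.toLin'_one]; rfl
      refine hbad (LinearMap.toMatrix' g) 1 hA ?_ (by rw [one_pow, one_mul, LinearMap.det_toMatrix', hdet]) ?_
      · intro s hs
        apply hg1
        have hgs : g = s • 1 := by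
          have := congrArg Matrix.toLin' hs
          rw [Matrix.toLin'_toMatrix', map_smul, Matrix.toLin'_one] at this
          exact this
        have hsr : s ^ r = 1 := by
          have := congrFun (congrFun (show (s • (1 : Matrix (Fin n) (Fin n) F)) ^ r = 1 by rw [← hs]; exact hA) 0) 0
          simpa [_root_.smul_pow] using this
        have hs0 : s ≠ 0 := fun e0 => by
          rw [e0, zero_pow hrpr.ne_zero] at hsr; exact zero_ne_one hsr
        have hnd : ¬ r ∣ q - 1 := fun hd => by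
          have h1 : (q : ZMod r) ^ 1 = 1 := by rw [hqdef, card_pow_eq_one_iff, pow_one]; exact hd
          rw [pow_one] at h1
          rw [hcdef, h1, orderOf_one] at hc2
          omega
        have := pow_gcd_eq_one.2 ⟨hsr, FiniteField.pow_card_sub_one_eq_one s hs0⟩
        rw [hrpr.coprime_iff_not_dvd.2 hnd, pow_one] at this
        rw [hgs, this, one_smul]
      · refine not_sub_block hF₀ hr hc2 ?_ hA (by omega) ?_
        · show c < c0
          rw [hck]
          exact (Nat.lt_mul_iff_one_lt_left hcpos).2 hk.one_lt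
        · rw [Matrix.toLin'_toMatrix']
          exact hker
    have hc1 : c = 1 := by omega
    have hc0k : c0 = k := by rw [hck, hc1, mul_one]
    obtain ⟨ζ, hζ, hζ1⟩ := exists_root (F := F) (r := r) (hrq_of hc1)
    have hord : orderOf ζ = r := orderOf_eq_prime hζ hζ1
    have hζ0 : ζ ≠ 0 := fun e0 => by rw [e0, zero_pow hrpr.ne_zero] at hζ; exact zero_ne_one hζ
    have hq01 : ¬ r ∣ q₀ - 1 := fun hd => by
      have h1 : (q₀ : ZMod r) = 1 := by
        rw [← sub_eq_zero, ← Nat.cast_one, ← Nat.cast_sub (by rw [← hF₀]; exact Nat.card_pos),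
          ZMod.natCast_eq_zero_iff]
        exact hd
      rw [hc0def, h1, orderOf_one] at hc0k
      exact hk.ne_one hc0k.symm
    have hζq : ζ ^ q₀ ≠ ζ := fun h => hq01 (by
      have h2 : ζ ^ (q₀ - 1) = 1 := by
        apply mul_right_cancel₀ hζ0
        rw [← pow_succ, Nat.sub_add_cancel (by rw [← hF₀]; exact Nat.card_pos), one_mul, h]
      rw [← hord]; exact orderOf_dvd_of_pow_eq_one h2)
    have hζq1 : ζ ^ q₀ ≠ 1 := fun h => hq00 (by
      rw [ZMod.natCast_eq_zero_iff, ← hord]; exact orderOf_dvd_of_pow_eq_one h)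
    -- diagonal derangements
    have hdiag : ∀ (μ : F) (b b' : ℕ) (w : F), μ ^ r = 1 → μ ≠ 1 → μ ≠ ζ → b ≤ b' → b' < n → 0 < b →
        w ^ n * (ζ ^ b * μ ^ (b' - b)) = 1 → ¬ Sub F₀ (Matrix.diagonal (vec n ζ μ b b')) →
        ¬ (∀ x : Matrix.SpecialLinearGroup (Fin n) F,
      (∃ z : F, ((x ^ r : Matrix.SpecialLinearGroup (Fin n) F) : Matrix (Fin n) (Fin n) F) = z • (1 : Matrix (Fin n) (Fin n) F)) →
      (∀ z : F, (x : Matrix (Fin n) (Fin n) F) ≠ z • (1 : Matrix (Fin n) (Fin n) F)) →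
      ∃ P : Matrix.SpecialLinearGroup (Fin n) F, P⁻¹ * x * P ∈ ((Cfsg.Geo.subfieldSubgroup F₀ 1).comap (Matrix.SpecialLinearGroup.toGL : Matrix.SpecialLinearGroup (Fin n) F →* GL (Fin n) F))) := by
      intro μ b b' w hμ hμ1 hμζ hb hb' hb0 hw hns
      refine hbad _ w (vec_pow hζ hμ b b') ?_ ?_ hns
      · intro s hs
        have h1 := congrFun (congrFun hs ⟨0, by omega⟩) ⟨0, by omega⟩
        have h2 := congrFun (congrFun hs ⟨b', hb'⟩) ⟨b', hb'⟩
        simp [vec, hb0, show ¬ b' < b by omega] at h1 h2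
        exact hζ1 (h1.trans h2.symm)
      · rw [Matrix.det_diagonal, prod_vec ζ μ hb hb'.le, hw]
    -- unique multiplicities
    have huniq : ∀ (μ : F) (b b' : ℕ), μ ≠ 1 → μ ≠ ζ → b ≤ b' → b' < n → 0 < b → n - b' ≠ b →
        n - b' ≠ b' - b → b' - b ≠ b → ¬ Sub F₀ (Matrix.diagonal (vec n ζ μ b b')) := by
      intro μ b b' hμ1 hμζ hb hb' hb0 h1 h2 h3 hS
      obtain ⟨t, ht, hsym⟩ := Sub.symm_eigen hF₀ he hS
      simp only [TensorDerange84.finrank_ker_diag, mult_vec hζ1 hμ1 hμζ hb hb'.le] at hsym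
      have ht1 : t = 1 := by
        have := hsym 1
        rw [one_pow, mul_one, if_neg hζ1.symm, if_neg hμ1.symm, if_pos rfl] at this
        split_ifs at this with e1 e2 e3
        · omega
        · omega
        · exact e3
        · omega
      have := hsym ζ
      rw [ht1, one_mul, if_pos rfl, if_neg hζq] at this
      split_ifs at this with e2 e3 <;> omega
    have hμ : ζ ^ 2 ≠ 1 ∧ ζ ^ 2 ≠ ζ := by
      refine ⟨fun h => hr2 ?_, fun h => hζ1 ?_⟩
      · exact (Nat.prime_dvd_prime_iff_eq hrpr Nat.prime_two).1 (hord ▸ orderOf_dvd_of_pow_eq_one h)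
      · apply mul_right_cancel₀ hζ0
        rw [← sq, h, one_mul]
    have hμr : (ζ ^ 2) ^ r = 1 := by rw [← pow_mul, mul_comm, pow_mul, hζ, one_pow]
    have htwo : ∀ (b : ℕ) (w : F), 0 < b → b < n → n - b ≠ b → w ^ n * ζ ^ b = 1 →
        ¬ (∀ x : Matrix.SpecialLinearGroup (Fin n) F,
      (∃ z : F, ((x ^ r : Matrix.SpecialLinearGroup (Fin n) F) : Matrix (Fin n) (Fin n) F) = z • (1 : Matrix (Fin n) (Fin n) F)) →
      (∀ z : F, (x : Matrix (Fin n) (Fin n) F) ≠ z • (1 : Matrix (Fin n) (Fin n) F)) →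
      ∃ P : Matrix.SpecialLinearGroup (Fin n) F, P⁻¹ * x * P ∈ ((Cfsg.Geo.subfieldSubgroup F₀ 1).comap (Matrix.SpecialLinearGroup.toGL : Matrix.SpecialLinearGroup (Fin n) F →* GL (Fin n) F))) :=
      fun b w hb hbn hne hw => hdiag (ζ ^ 2) b b w hμr hμ.1 hμ.2 le_rfl hbn hb
        (by rw [Nat.sub_self, pow_zero, mul_one, hw])
        (huniq _ b b hμ.1 hμ.2 le_rfl hbn hb hne (by omega) (by omega))
    have hthree : 3 < r → 6 ≤ n →
        ¬ (∀ x : Matrix.SpecialLinearGroup (Fin n) F,
      (∃ z : F, ((x ^ r : Matrix.SpecialLinearGroup (Fin n) F) : Matrix (Fin n) (Fin n) F) = z • (1 : Matrix (Fin n) (Fin n) F)) →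
      (∀ z : F, (x : Matrix (Fin n) (Fin n) F) ≠ z • (1 : Matrix (Fin n) (Fin n) F)) →
      ∃ P : Matrix.SpecialLinearGroup (Fin n) F, P⁻¹ * x * P ∈ ((Cfsg.Geo.subfieldSubgroup F₀ 1).comap (Matrix.SpecialLinearGroup.toGL : Matrix.SpecialLinearGroup (Fin n) F →* GL (Fin n) F))) := by
      intro h3 h6
      have hm1 : (ζ⁻¹) ^ 2 ≠ 1 := by rw [inv_pow, ne_eq, inv_eq_one]; exact hμ.1
      have hmz : (ζ⁻¹) ^ 2 ≠ ζ := fun h => by
        have h2 : ζ ^ 3 = 1 := by
          rw [pow_succ]
          nth_rw 2 [← h]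
          rw [← mul_pow, mul_inv_cancel₀ hζ0, one_pow]
        have := Nat.le_of_dvd (by omega) (hord ▸ orderOf_dvd_of_pow_eq_one h2)
        omega
      refine hdiag ((ζ⁻¹) ^ 2) 2 3 1 ?_ hm1 hmz (by omega) (by omega) (by omega) ?_
        (huniq _ 2 3 hm1 hmz (by omega) (by omega) (by omega) (by omega) (by omega) (by omega))
      · rw [← pow_mul, mul_comm, pow_mul, inv_pow, hζ, inv_one, one_pow]
      · rw [one_pow, one_mul, show (3 - 2 : ℕ) = 1 by rfl, pow_one, ← mul_pow, mul_inv_cancel₀ hζ0,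
          one_pow]
    have hwe : ¬ r ∣ n → ∃ w : F, w ^ n * ζ = 1 := by
      intro hrn
      obtain ⟨j, hj⟩ : ∃ j : ℕ, r ∣ n * j + 1 := by
        refine ⟨(-(n : ZMod r)⁻¹).val, (ZMod.natCast_eq_zero_iff _ _).1 ?_⟩
        have hn0 : (n : ZMod r) ≠ 0 := by rwa [Ne, ZMod.natCast_eq_zero_iff]
        push_cast
        rw [ZMod.natCast_zmod_val, mul_neg, mul_inv_cancel₀ hn0, neg_add_cancel]
      refine ⟨ζ ^ j, ?_⟩
      rw [← pow_mul, mul_comm j n, ← pow_succ, ← orderOf_dvd_iff_pow_eq_one, hord]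
      exact hj
    by_cases hrn : r ∣ n
    · obtain ⟨t, ht⟩ := hrn
      have ht0 : 0 < t := Nat.pos_of_ne_zero fun e0 => by rw [e0, mul_zero] at ht; omega
      rcases Nat.lt_or_ge 2 t with h | h
      · have : r * 3 ≤ n := by rw [ht]; exact Nat.mul_le_mul_left r h
        exact htwo r 1 hrpr.pos (by omega) (by omega) (by rw [one_pow, one_mul, hζ])
      have hr3 : 3 ≤ r := by have := hrpr.two_le; omega
      rcases Nat.lt_or_ge 1 t with h1 | h1
      · have ht2 : t = 2 := by omega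
        subst ht2
        have : r ≠ 3 := fun e3 => hgap ⟨by omega, e3⟩
        exact hthree (by omega) (by omega)
      have ht1 : t = 1 := by omega
      subst ht1
      rw [mul_one] at ht
      subst ht
      rcases Nat.lt_or_ge 5 n with h7 | h5
      · exact hthree (by omega) (by omega)
      by_cases hv : 2 ≤ padicValNat n (q - 1)
      · obtain ⟨w, hw⟩ : ∃ w : F, w ^ n * ζ = 1 := by
          have hd2 : n ^ 2 ∣ q - 1 := (pow_dvd_pow n hv).trans pow_padicValNat_dvd
          obtain ⟨a, ha, hao⟩ := exists_generator (F := F)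
          obtain ⟨s, hs⟩ := hd2
          obtain ⟨j, hj⟩ := ha (Units.mk0 ζ⁻¹ (inv_ne_zero hζ0))
          have h1 : a ^ (j * n) = 1 := by
            rw [pow_mul, hj]
            ext
            simp [hζ]
          rw [← orderOf_dvd_iff_pow_eq_one, hao, ← hqdef, hs] at h1
          have hdj : n * s ∣ j := by
            apply Nat.dvd_of_mul_dvd_mul_right hrpr.pos
            rwa [show n * s * n = n ^ 2 * s by ring]
          obtain ⟨u, hu⟩ := hdj
          refine ⟨((a ^ (s * u) : Fˣ) : F), ?_⟩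
          rw [← Units.val_pow_eq_pow_val, ← pow_mul, show s * u * n = j by rw [hu]; ring, hj,
            Units.val_mk0, inv_mul_cancel₀ hζ0]
        exact htwo 1 w one_pos (by omega) (by omega) (by rw [pow_one, hw])
      · exfalso
        have hn35 : n = 3 ∨ n = 5 := by
          rcases Nat.lt_or_ge n 4 with h | h
          · omega
          · right
            rcases Nat.lt_or_ge n 5 with h' | h'
            · exact absurd (show n = 4 by omega) (fun e4 => by rw [e4] at hrpr; exact absurd hrpr (by norm_num))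
            · omega
        have hk2 : k = 2 := by
          have hkd : k ∣ n - 1 := hc0k ▸ hc0dvd
          rcases hn35 with e3 | e5
          · rw [e3] at hkd; exact (Nat.prime_dvd_prime_iff_eq hk Nat.prime_two).1 hkd
          · rw [e5] at hkd
            exact (Nat.prime_dvd_prime_iff_eq hk Nat.prime_two).1 (hk.dvd_of_dvd_pow (n := 2) (show k ∣ 2 ^ 2 from hkd))
        subst hk2
        have hq01' : 1 < q₀ := by rw [← hF₀]; exact Finite.one_lt_card
        have hvq : padicValNat n (q - 1) = padicValNat n (q₀ + 1) := by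
          rw [show q - 1 = (q₀ + 1) * (q₀ - 1) by rw [hqk, ← Nat.sq_sub_sq, one_pow],
            padicValNat.mul (by omega) (by omega), padicValNat.eq_zero_of_not_dvd hq01, add_zero]
        have hpos : 1 ≤ padicValNat n (q - 1) :=
          one_le_padicValNat_of_dvd (by have : 1 < q := Fintype.one_lt_card; omega) (hrq_of hc1)
        exact hexc rfl rfl hn35 (by omega)
    · obtain ⟨w, hw⟩ := hwe hrn
      rcases Nat.lt_or_ge 2 n with h3 | h2
      · exact htwo 1 w one_pos (by omega) (by omega) (by rw [pow_one, hw])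
      have hn2 : n = 2 := by omega
      subst hn2
      rcases eq_or_ne k 2 with hk2 | hk2
      · -- the index is prime to `r`
        exfalso
        subst hk2
        have hq1 : r ∣ q₀ + 1 := by
          have h1 : (q₀ : ZMod r) ^ 2 = 1 := by rw [← hc0k]; exact pow_orderOf_eq_one _
          rcases sq_eq_one_iff.1 h1 with h2 | h2
          · rw [hc0def, h2, orderOf_one] at hc0k; omega
          · rw [← ZMod.natCast_eq_zero_iff, Nat.cast_add, h2, Nat.cast_one, neg_add_cancel]
        haveI : Fintype F₀ := Fintype.ofFinite _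
        obtain ⟨s, hs⟩ := card_SL_dvd (F₀ := F₀) (n := 2)
        have hcard := ((Cfsg.Geo.subfieldSubgroup F₀ 1).comap (Matrix.SpecialLinearGroup.toGL : Matrix.SpecialLinearGroup (Fin 2) F →* GL (Fin 2) F)).card_mul_index
        rw [hs, PSLCard.card_SL2, PSLCard.card_SL2, hF₀, Nat.card_eq_fintype_card (α := F), ← hqdef, hqk] at hcard
        set I := ((Cfsg.Geo.subfieldSubgroup F₀ 1).comap (Matrix.SpecialLinearGroup.toGL : Matrix.SpecialLinearGroup (Fin 2) F →* GL (Fin 2) F)).index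
        have hq01' : 1 < q₀ := by rw [← hF₀]; exact Finite.one_lt_card
        have hfac : (q₀ ^ 2) ^ 2 - 1 = (q₀ ^ 2 + 1) * (q₀ ^ 2 - 1) := by
          rw [← Nat.sq_sub_sq, one_pow]
        rw [hfac] at hcard
        have hpos : 0 < q₀ * (q₀ ^ 2 - 1) := by
          have : 1 < q₀ ^ 2 := by nlinarith
          exact Nat.mul_pos (by omega) (by omega)
        have h4 : s * I = q₀ * (q₀ ^ 2 + 1) :=
          Nat.eq_of_mul_eq_mul_left hpos (by linear_combination hcard)
        have h5 : r ∣ q₀ * (q₀ ^ 2 + 1) := h4 ▸ dvd_mul_of_dvd_right hΩ s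
        rcases hrpr.dvd_mul.1 h5 with h6 | h6
        · exact hq00 ((ZMod.natCast_eq_zero_iff _ _).2 h6)
        · have e1 : (q₀ : ZMod r) = -1 := by
            rw [eq_neg_iff_add_eq_zero]; exact_mod_cast (ZMod.natCast_eq_zero_iff _ _).2 hq1
          have e2 : ((q₀ : ZMod r)) ^ 2 + 1 = 0 := by exact_mod_cast (ZMod.natCast_eq_zero_iff _ _).2 h6
          have e3 : ((2 : ℕ) : ZMod r) = 0 := by rw [e1] at e2; rw [← e2]; push_cast; ring
          exact hr2 ((Nat.prime_dvd_prime_iff_eq hrpr Nat.prime_two).1 ((ZMod.natCast_eq_zero_iff _ _).1 e3))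
      refine hdiag (ζ ^ 2) 1 1 w hμr hμ.1 hμ.2 le_rfl (by omega) one_pos
        (by rw [Nat.sub_self, pow_zero, mul_one, pow_one, hw]) ?_
      intro hS
      obtain ⟨u, hu, hsym⟩ := Sub.symm_eigen hF₀ he hS
      simp only [TensorDerange84.finrank_ker_diag,
        mult_vec hζ1 hμ.1 hμ.2 (le_refl 1) (show 1 ≤ 2 by omega)] at hsym
      have hmem : ∀ lam : F, lam = ζ ∨ lam = 1 → u * lam ^ q₀ = ζ ∨ u * lam ^ q₀ = 1 := by
        intro lam hlam
        have := hsym lam
        rcases hlam with rfl | rfl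
        · rw [if_pos rfl] at this
          split_ifs at this with e1 e2 e3
          · exact Or.inl e1
          · exact Or.inr e3
        · rw [if_neg hζ1.symm, if_neg hμ.1.symm, if_pos rfl] at this
          split_ifs at this with e1 e2 e3
          · exact Or.inl e1
          · exact Or.inr e3
      have hu1 := hmem 1 (Or.inr rfl)
      rw [one_pow, mul_one] at hu1
      rcases hu1 with hu1 | hu1
      · rcases hmem ζ (Or.inl rfl) with h | h <;> rw [hu1] at h
        · exact hζq1 (mul_left_cancel₀ hζ0 (h.trans (mul_one _).symm))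
        · have h2 : r ∣ q₀ + 1 := hord ▸ orderOf_dvd_of_pow_eq_one (by rw [pow_succ', h])
          have e1 : (q₀ : ZMod r) = -1 := by
            rw [eq_neg_iff_add_eq_zero]; exact_mod_cast (ZMod.natCast_eq_zero_iff _ _).2 h2
          have : c0 ∣ 2 := orderOf_dvd_of_pow_eq_one (by rw [e1, neg_one_sq])
          rw [hc0k] at this
          exact hk2 ((Nat.prime_dvd_prime_iff_eq hk Nat.prime_two).1 this)
      · rcases hmem ζ (Or.inl rfl) with h | h <;> rw [hu1, one_mul] at h
        · exact hζq h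
        · exact hζq1 h

end Cfsg.Agent.S5965
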