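import Cfsg.Statements.S5968
import Cfsg.Agent.Lib.SymplecticAlt
import Cfsg.Agent.Lib.SymplecticOrder

set_option autoImplicit false
open scoped MatrixGroups
open Cfsg

namespace Cfsg.Agent.S5968

open Matrix Finset

/-- The product defining the order of the general linear group, modulo a power of `q`. -/
theorem prod_split (q : ℕ) : ∀ N : ℕ, ∃ C, ∏ i ∈ range N, (q ^ N - q ^ i) =
    q ^ C * ∏ i ∈ range N, (q ^ (i + 1) - 1)
  | 0 => ⟨0, by simp⟩
  | N + 1 => by
    obtain ⟨C, hC⟩ := prod_split q N
    refine ⟨N + C, ?_⟩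
    rw [Finset.prod_range_succ', Finset.prod_range_succ _ N, pow_zero]
    have : ∀ i, q ^ (N + 1) - q ^ (i + 1) = q * (q ^ N - q ^ i) := fun i => by
      rw [Nat.mul_sub, pow_succ', pow_succ']
    simp only [this, prod_mul_distrib, prod_const, card_range, hC]
    ring

theorem prod_pair (g : ℕ → ℕ) : ∀ m : ℕ,
    ∏ i ∈ range (2 * m), g i = (∏ j ∈ range m, g (2 * j + 1)) * ∏ j ∈ range m, g (2 * j)
  | 0 => by simp
  | m + 1 => by
    rw [show 2 * (m + 1) = 2 * m + 1 + 1 by ring, prod_range_succ, prod_range_succ, prod_pair g m,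
      prod_range_succ, prod_range_succ]
    ring

variable {F : Type*} [Field F] [Fintype F]

theorem prime_dvd_GL {q k r : ℕ} (hq : Fintype.card F = q) (hr : r.Prime) (hrq : ¬ r ∣ q)
    (h : r ∣ Nat.card (GL (Fin k) F)) : ∃ i, 1 ≤ i ∧ i ≤ k ∧ r ∣ q ^ i - 1 := by
  obtain ⟨C, hC⟩ := prod_split q k
  rw [Matrix.card_GL_field, hq, Fin.prod_univ_eq_prod_range (fun i => q ^ k - q ^ i), hC] at h
  rcases hr.dvd_mul.mp h with h | h
  · exact absurd (hr.dvd_of_dvd_pow h) hrq
  · obtain ⟨i, hi, hi'⟩ := (Nat.Prime.prime hr).exists_mem_finset_dvd h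
    exact ⟨i + 1, by omega, by simpa [Nat.succ_le_iff] using mem_range.mp hi, hi'⟩

theorem card_SL_mul {q k : ℕ} (hq : Fintype.card F = q) (hk : 1 ≤ k) :
    Nat.card (SpecialLinearGroup (Fin k) F) * (q - 1) = ∏ i ∈ range k, (q ^ k - q ^ i) := by
  let e : SpecialLinearGroup (Fin k) F ≃ (GeneralLinearGroup.det : GL (Fin k) F →* Fˣ).ker :=
    { toFun := fun A => ⟨SpecialLinearGroup.toGL A, Units.ext (by simp)⟩
      invFun := fun g => ⟨(g.1 : Matrix (Fin k) (Fin k) F), by
        have := congrArg Units.val g.2; simpa using this⟩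
      left_inv := fun A => rfl
      right_inv := fun g => Subtype.ext (Units.ext rfl) }
  have hs : Function.Surjective (GeneralLinearGroup.det : GL (Fin k) F →* Fˣ) := by
    intro u
    refine ⟨⟨diagonal fun i : Fin k => if i.1 = 0 then (u : F) else 1,
      diagonal fun i : Fin k => if i.1 = 0 then ((u⁻¹ : Fˣ) : F) else 1, ?_, ?_⟩, Units.ext ?_⟩
    · rw [diagonal_mul_diagonal, ← diagonal_one]; congr 1; funext i; split_ifs <;> simp
    · rw [diagonal_mul_diagonal, ← diagonal_one]; congr 1; funext i; split_ifs <;> simp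
    · rw [GeneralLinearGroup.val_det_apply]
      simp only [det_diagonal]
      rw [prod_eq_single (⟨0, hk⟩ : Fin k) (fun b _ hb => if_neg fun e => hb (Fin.ext e))
        (fun h => absurd (mem_univ _) h), if_pos rfl]
  have h := Subgroup.card_mul_index (GeneralLinearGroup.det : GL (Fin k) F →* Fˣ).ker
  rw [Subgroup.index_ker, MonoidHom.range_eq_top.mpr hs, Subgroup.card_top, Nat.card_units,
    Nat.card_eq_fintype_card (α := F), hq, ← Nat.card_congr e, Matrix.card_GL_field, hq,
    Fin.prod_univ_eq_prod_range (fun i => q ^ k - q ^ i)] at h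
  exact h

variable {n : ℕ}

/-- The bilinear map of a form. -/
def bil {f : (Fin n → F) → (Fin n → F) → F} (hf : Cfsg.Geo.IsBilinearForm f) :
    (Fin n → F) →ₗ[F] (Fin n → F) →ₗ[F] F :=
  LinearMap.mk₂ F f hf.add_left hf.smul_left hf.add_right hf.smul_right

/-- The symplectic group of dimension `2 m` embeds in the stabiliser. -/
theorem card_sp_dvd {m : ℕ} (hm : n = 2 * m) {f : (Fin n → F) → (Fin n → F) → F}
    (hf : Cfsg.Geo.IsSymplecticForm f) :
    Nat.card (symplecticGroup (Fin m) F) ∣ Nat.card ((Cfsg.Geo.similarityGroup f).comap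
      (SpecialLinearGroup.toGL : SpecialLinearGroup (Fin n) F →* GL (Fin n) F)) := by
  classical
  have hB : ∀ v, bil hf.bilinear v v = 0 := hf.alternating
  obtain ⟨k, hk, e, -, he⟩ := SymplecticAlt.exists_symp_basis (bil hf.bilinear) hB n ⊤
    (by rw [finrank_top, Module.finrank_fin_fun])
    (fun u _ hu => by_contra fun h0 => by
      obtain ⟨x, hx⟩ := (hf.nondegenerate u h0).2
      exact hx (hu x trivial))
  obtain rfl : k = m := by omega
  have ei : Fin k ⊕ Fin k ≃ Fin n := finSumFinEquiv.trans (finCongr (by omega))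
  let M : Matrix (Fin n) (Fin k ⊕ Fin k) F := Matrix.of fun i s => e s i
  have hf' : ∀ u v, f (M *ᵥ u) (M *ᵥ v) = sympForm k F u v := by
    intro u v
    have e1 : ∀ u, M *ᵥ u = ∑ s, u s • e s := fun u => by
      ext i; simp [M, mulVec, dotProduct, mul_comm, Finset.sum_apply]
    show bil hf.bilinear (M *ᵥ u) (M *ᵥ v) = _
    rw [e1, e1]
    simp only [map_sum, map_smul, LinearMap.sum_apply, LinearMap.smul_apply, he, smul_eq_mul]
    conv_rhs => rw [pi_eq_sum_univ' u, pi_eq_sum_univ' v]
    simp only [Cfsg.sympForm, mulVec_sum, mulVec_smul, dotProduct_sum, sum_dotProduct, smul_dotProduct,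
      dotProduct_smul, smul_eq_mul, mul_sum]
  let M' : Matrix (Fin k ⊕ Fin k) (Fin k ⊕ Fin k) F := M.submatrix ei id
  have hinj : Function.Injective (fun u => M' *ᵥ u) := by
    intro u v huv
    have h' : M *ᵥ u = M *ᵥ v := funext fun i => by
      have := congrFun huv (ei.symm i)
      simpa [M', mulVec, dotProduct] using this
    exact sub_eq_zero.mp (SymplecticBasic.form_nondeg fun w => by
      rw [← hf', Matrix.mulVec_sub, h', sub_self]
      show bil hf.bilinear 0 _ = 0
      simp)
  have hM' : IsUnit M' := mulVec_injective_iff_isUnit.mp hinj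
  let U := hM'.unit
  have hU : (U : Matrix (Fin k ⊕ Fin k) (Fin k ⊕ Fin k) F) = M' := hM'.unit_spec
  let φ : symplecticGroup (Fin k) F →* SpecialLinearGroup (Fin n) F :=
    { toFun := fun A => ⟨Matrix.reindex ei ei (M' * (A : Matrix _ _ F) *
          ((U⁻¹ : (Matrix (Fin k ⊕ Fin k) (Fin k ⊕ Fin k) F)ˣ) : Matrix _ _ F)), by
        rw [det_reindex_self, det_mul, det_mul, SymplecticGroup.det_eq_one A.2, mul_one, ← hU,
          ← det_mul, Units.mul_inv, det_one]⟩
      map_one' := Subtype.ext (by
        show Matrix.reindex ei ei (M' * 1 * _) = 1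
        rw [mul_one, ← hU, Units.mul_inv]; simp)
      map_mul' := fun A A' => Subtype.ext (by
        show Matrix.reindex ei ei (M' * ((A : Matrix _ _ F) * (A' : Matrix _ _ F)) * _) =
          Matrix.reindex ei ei _ * Matrix.reindex ei ei _
        rw [reindex_apply, reindex_apply, reindex_apply, submatrix_mul_equiv, ← hU]
        congr 1
        simp only [mul_assoc]
        rw [Units.inv_mul_cancel_left]) }
  have hφinj : Function.Injective φ := fun A A' h => by
    have h' := (Matrix.reindex ei ei).injective (congrArg Subtype.val h)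
    rw [← hU, U⁻¹.isUnit.mul_left_inj, U.isUnit.mul_right_inj] at h'
    exact Subtype.ext h'
  have hrange : φ.range ≤ (Cfsg.Geo.similarityGroup f).comap
      (SpecialLinearGroup.toGL : SpecialLinearGroup (Fin n) F →* GL (Fin n) F) := by
    rintro _ ⟨A, rfl⟩
    refine ⟨1, fun u v => ?_⟩
    rw [Units.val_one, one_mul]
    have hsur : ∀ u, ∃ u', M *ᵥ u' = u := fun u => by
      obtain ⟨u', hu'⟩ := (mulVec_surjective_iff_isUnit.mpr hM') (u ∘ ei)
      refine ⟨u', funext fun i => ?_⟩
      have := congrFun hu' (ei.symm i)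
      simpa [M', mulVec, dotProduct] using this
    obtain ⟨u', rfl⟩ := hsur u
    obtain ⟨v', rfl⟩ := hsur v
    have hact : ∀ w, (φ A : Matrix (Fin n) (Fin n) F) *ᵥ (M *ᵥ w) = M *ᵥ ((A : Matrix _ _ F) *ᵥ w) := by
      intro w
      show Matrix.reindex ei ei _ *ᵥ _ = _
      rw [reindex_apply, submatrix_mulVec_equiv, Equiv.symm_symm,
        show (M *ᵥ w) ∘ ei = M' *ᵥ w from rfl, mulVec_mulVec, ← hU, Units.inv_mul_cancel_right,
        ← mulVec_mulVec, hU]
      funext i
      simp only [Function.comp_apply, ← mulVec_mulVec]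
      simp [M', mulVec, dotProduct]
    show f ((φ A : Matrix (Fin n) (Fin n) F) *ᵥ _) ((φ A : Matrix (Fin n) (Fin n) F) *ᵥ _) = _
    rw [hact, hact, hf', hf']
    exact SymplecticBasic.form_map A u' v'
  rw [Nat.card_congr (MonoidHom.ofInjective hφinj).toEquiv]
  exact Subgroup.card_dvd_of_le hrange

variable (B : (Fin n → F) →ₗ[F] (Fin n → F) →ₗ[F] F)

/-- An isometry of prime order different from the characteristic moves a space of even dimension. -/
theorem even_range (hB : ∀ v, B v v = 0) (hnd : ∀ u, (∀ v, B u v = 0) → u = 0)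
    {X : Matrix (Fin n) (Fin n) F} {r : ℕ} (hr : (r : F) ≠ 0) (hX : X ^ r = 1)
    (hiso : ∀ u v, B (X *ᵥ u) (X *ᵥ v) = B u v) :
    Even (Module.finrank F (LinearMap.range (toLin' (X - 1)))) := by
  set N := toLin' (X - 1)
  have hN : ∀ v, N v = X *ᵥ v - v := fun v => by simp [N, sub_mulVec]
  have hss : ∀ v, N (N v) = 0 → N v = 0 := by
    intro v hv
    have hfix : X *ᵥ (N v) = N v := sub_eq_zero.mp (by rw [← hN]; exact hv)
    have hpow : ∀ i : ℕ, (X ^ i) *ᵥ v = v + (i : F) • N v := by
      intro i
      induction i with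
      | zero => simp
      | succ i ih =>
        rw [pow_succ', ← mulVec_mulVec, ih, mulVec_add, mulVec_smul, hfix, hN, Nat.cast_succ, add_smul,
          one_smul]
        abel
    have := hpow r
    rw [hX, one_mulVec, left_eq_add] at this
    exact (smul_eq_zero.mp this).resolve_left hr
  have hdis : Disjoint (LinearMap.range N) (LinearMap.ker N) := by
    rw [Submodule.disjoint_def]
    rintro _ ⟨w, rfl⟩ hw
    exact hss w (LinearMap.mem_ker.mp hw)
  have htop : LinearMap.range N ⊔ LinearMap.ker N = ⊤ := by
    apply Submodule.eq_top_of_finrank_eq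
    have := Submodule.finrank_sup_add_finrank_inf_eq (LinearMap.range N) (LinearMap.ker N)
    rw [hdis.eq_bot, finrank_bot, LinearMap.finrank_range_add_finrank_ker] at this
    omega
  refine SymplecticAlt.even_finrank B hB _ fun u hu h => hnd u fun v => ?_
  obtain ⟨a, ha, b, hb, rfl⟩ := Submodule.mem_sup.mp (htop.ge (Submodule.mem_top (x := v)))
  obtain ⟨w, rfl⟩ := hu
  have hb' : X *ᵥ b = b := sub_eq_zero.mp (by rw [← hN]; exact LinearMap.mem_ker.mp hb)
  rw [map_add, h a ha, zero_add, hN, map_sub, LinearMap.sub_apply]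
  nth_rewrite 1 [← hb']
  rw [hiso, sub_self]

/-- The rank of a unipotent isometry with cube of nilpotent part zero is not one after squaring. -/
theorem no_triple_block (hB : ∀ v, B v v = 0) (hnd : ∀ u, (∀ v, B u v = 0) → u = 0)
    {N : Matrix (Fin n) (Fin n) F} (h3 : N * N * N = 0)
    (hiso : ∀ u v, B (u + N *ᵥ u) (v + N *ᵥ v) = B u v) {w : Fin n → F} (hw : w ≠ 0)
    {φ : (Fin n → F) →ₗ[F] F} (hN2 : ∀ u, N *ᵥ (N *ᵥ u) = φ u • w) {u₀ : Fin n → F} (hu₀ : φ u₀ = 1) :
    False := by
  have star : ∀ u v, B (N *ᵥ u) v + B u (N *ᵥ v) + B (N *ᵥ u) (N *ᵥ v) = 0 := fun u v => by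
    have := hiso u v
    simp only [map_add, LinearMap.add_apply] at this
    linear_combination this
  have h30 : ∀ u, N *ᵥ (N *ᵥ (N *ᵥ u)) = 0 := fun u => by
    rw [mulVec_mulVec, mulVec_mulVec, h3, zero_mulVec]
  have key : ∀ u, B (N *ᵥ (N *ᵥ u)) u = 0 := fun u => by
    have e1 := star (N *ᵥ (N *ᵥ u)) u
    simp only [h30, map_zero, LinearMap.zero_apply, zero_add, add_zero] at e1
    have e2 := star (N *ᵥ u) u
    rw [e1, hB] at e2
    simpa using e2
  apply hw
  refine hnd w fun v => by_contra fun hv => ?_
  have k : ∀ u, φ u * B w u = 0 := fun u => by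
    have := key u
    rwa [hN2, map_smul, LinearMap.smul_apply, smul_eq_mul] at this
  have k0 : B w u₀ = 0 := by simpa [hu₀] using k u₀
  have k1 : φ v = 0 := (mul_eq_zero.mp (k v)).resolve_right hv
  have := k (u₀ + v)
  rw [map_add, map_add, hu₀, k1, k0, add_zero, one_mul, zero_add] at this
  exact hv this

/-- Derangements of odd prime order of PSL_n(q) on the cosets of a symplectic-type subgroup. Here `T = PSL_n(F)` for a field `F` with `q` elements, `n ≥ 4` even, `f` is a nondegenerate alternating form on `F^n`, and `H` is the subgroup of matrices of determinant 1 preserving `f` up to a scalar — a maximal subgroup of type Sp_n(q); Ω is the set of `T`-conjugates of `H` (cosets of `H`), so an element of `T` of prime order `r` (a matrix `x` of determinant 1 with `x^r` scalar, `x` not scalar) fixes a point of Ω when some conjugate of `x` by a matrix of determinant 1 preserves `f` up to a scalar. For every odd prime `r` dividing the index of `H`, with `(n, r) ≠ (6, 3)`, there is an element of `T` of order `r` with no conjugate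 in `H`. (For `n = 6`, `r = 3` this can fail: when `(q − 1)_3 = 3` every element of order 3 is conjugate into `H`.) -/
theorem result {F : Type*} [Field F] [Fintype F] {p : ℕ} [Fact p.Prime] [CharP F p] {q : ℕ} (hq : Fintype.card F = q)
    (n : ℕ) (hn : 4 ≤ n) (he : Even n) (f : (Fin n → F) → (Fin n → F) → F) (hf : Cfsg.Geo.IsSymplecticForm f)
    (r : ℕ) [Fact r.Prime] (hr2 : r ≠ 2) (hgap : ¬ (n = 6 ∧ r = 3)) (hΩ : r ∣ ((Cfsg.Geo.similarityGroup f).comap (Matrix.SpecialLinearGroup.toGL : Matrix.SpecialLinearGroup (Fin n) F →* GL (Fin n) F)).index) :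
    ∃ x : Matrix.SpecialLinearGroup (Fin n) F,
      (∃ z : F, ((x ^ r : Matrix.SpecialLinearGroup (Fin n) F) : Matrix (Fin n) (Fin n) F) = z • (1 : Matrix (Fin n) (Fin n) F)) ∧
      (∀ z : F, (x : Matrix (Fin n) (Fin n) F) ≠ z • (1 : Matrix (Fin n) (Fin n) F)) ∧
      ∀ P : Matrix.SpecialLinearGroup (Fin n) F, P⁻¹ * x * P ∉ ((Cfsg.Geo.similarityGroup f).comap (Matrix.SpecialLinearGroup.toGL : Matrix.SpecialLinearGroup (Fin n) F →* GL (Fin n) F)) := by
  classical
  have hpr := Fact.out (p := p.Prime)
  have hrp := Fact.out (p := r.Prime)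
  obtain ⟨m, hm⟩ : ∃ m, n = 2 * m := ⟨n / 2, by obtain ⟨c, hc⟩ := he; omega⟩
  have hqp : ∃ a, 0 < a ∧ q = p ^ a := by
    obtain ⟨a, h1, h2⟩ := FiniteField.card F p
    exact ⟨(a : ℕ), a.2, by rw [← hq, h2]⟩
  have hq1 : 2 ≤ q := hq ▸ Fintype.one_lt_card
  -- the primes of the index
  have harith : r = p ∨ ∃ i, Odd i ∧ i ≤ n ∧ r ∣ q ^ i - 1 := by
    have hmul := Subgroup.card_mul_index ((Cfsg.Geo.similarityGroup f).comap
      (Matrix.SpecialLinearGroup.toGL : Matrix.SpecialLinearGroup (Fin n) F →* GL (Fin n) F))
    obtain ⟨a, ha⟩ := card_sp_dvd hm hf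
    obtain ⟨b, hb⟩ := hΩ
    rw [ha, hb, SymplecticOrder.card_symplectic hq] at hmul
    have hSL := card_SL_mul (F := F) (k := n) hq (by omega)
    rw [← hmul] at hSL
    obtain ⟨C, hC⟩ := prod_split q n
    rw [hC, hm, prod_pair (fun i => q ^ (i + 1) - 1) m] at hSL
    have heven : ∏ j ∈ Finset.range m, (q ^ (2 * j + 1 + 1) - 1) =
        ∏ j ∈ Finset.range m, (q ^ (2 * (j + 1)) - 1) :=
      Finset.prod_congr rfl fun j _ => by rw [show 2 * j + 1 + 1 = 2 * (j + 1) by ring]
    rw [heven] at hSL
    have hpos : 0 < ∏ j ∈ Finset.range m, (q ^ (2 * (j + 1)) - 1) := Finset.prod_pos fun j _ => by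
      have : 1 < q ^ (2 * (j + 1)) := Nat.one_lt_pow (by omega) hq1
      omega
    have hd : r * (q ^ m ^ 2 * a * b * (q - 1)) = q ^ C * ∏ j ∈ Finset.range m, (q ^ (2 * j + 1) - 1) := by
      apply Nat.eq_of_mul_eq_mul_left hpos
      calc _ = q ^ m ^ 2 * (∏ j ∈ Finset.range m, (q ^ (2 * (j + 1)) - 1)) * a * (r * b) * (q - 1) := by ring
        _ = _ := by rw [hSL]; ring
    rcases hrp.dvd_mul.mp (Dvd.intro _ hd) with h | h
    · left
      obtain ⟨c, -, hc⟩ := hqp
      rw [hc, ← pow_mul] at h
      exact (Nat.prime_dvd_prime_iff_eq hrp hpr).mp (hrp.dvd_of_dvd_pow h)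
    · obtain ⟨j, hj, hj'⟩ := hrp.prime.exists_mem_finset_dvd h
      exact Or.inr ⟨2 * j + 1, ⟨j, rfl⟩, by have := Finset.mem_range.mp hj; omega, hj'⟩
  -- it suffices to find `x` which is a similarity of no symplectic form
  suffices h : ∃ x : Matrix.SpecialLinearGroup (Fin n) F, x ^ r = 1 ∧
      (∀ z : F, (x : Matrix (Fin n) (Fin n) F) ≠ z • (1 : Matrix (Fin n) (Fin n) F)) ∧
      ∀ B : (Fin n → F) →ₗ[F] (Fin n → F) →ₗ[F] F, (∀ v, B v v = 0) →
        (∀ u, (∀ v, B u v = 0) → u = 0) → ∀ μ : F, μ ^ r = 1 →
        ¬ ∀ u v, B ((x : Matrix (Fin n) (Fin n) F) *ᵥ u) ((x : Matrix (Fin n) (Fin n) F) *ᵥ v) = μ * B u v by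
    obtain ⟨x, hx, hns, hno⟩ := h
    refine ⟨x, ⟨1, by rw [hx, Matrix.SpecialLinearGroup.coe_one, one_smul]⟩, hns, fun P hP => ?_⟩
    obtain ⟨c, hc⟩ := hP
    let g : (Fin n → F) →ₗ[F] (Fin n → F) :=
      Matrix.toLin' ((P⁻¹ : Matrix.SpecialLinearGroup (Fin n) F) : Matrix (Fin n) (Fin n) F)
    let B := (bil hf.bilinear).compl₁₂ g g
    have hgP : ∀ u, g ((P : Matrix (Fin n) (Fin n) F) *ᵥ u) = u := fun u => by
      show Matrix.toLin' _ _ = _
      rw [Matrix.toLin'_apply, Matrix.mulVec_mulVec, ← Matrix.SpecialLinearGroup.coe_mul, inv_mul_cancel,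
        Matrix.SpecialLinearGroup.coe_one, Matrix.one_mulVec]
    have hgx : ∀ u, g ((x : Matrix (Fin n) (Fin n) F) *ᵥ u) =
        ((P⁻¹ * x * P : Matrix.SpecialLinearGroup (Fin n) F) : Matrix (Fin n) (Fin n) F) *ᵥ g u := fun u => by
      show Matrix.toLin' _ _ = _ *ᵥ Matrix.toLin' _ _
      rw [Matrix.toLin'_apply, Matrix.toLin'_apply, Matrix.mulVec_mulVec, Matrix.mulVec_mulVec,
        ← Matrix.SpecialLinearGroup.coe_mul, ← Matrix.SpecialLinearGroup.coe_mul, mul_inv_cancel_right]
    have hBnd : ∀ u, (∀ v, B u v = 0) → u = 0 := by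
      intro u hu
      by_contra h0
      have hgu : g u ≠ 0 := fun e => h0 (by
        have := congrArg (fun w => (P : Matrix (Fin n) (Fin n) F) *ᵥ w) e
        simp only [g, Matrix.toLin'_apply, Matrix.mulVec_mulVec, ← Matrix.SpecialLinearGroup.coe_mul,
          mul_inv_cancel, Matrix.SpecialLinearGroup.coe_one, Matrix.one_mulVec, Matrix.mulVec_zero] at this
        exact this)
      obtain ⟨w, hw⟩ := (hf.nondegenerate _ hgu).2
      refine hw ?_
      have := hu ((P : Matrix (Fin n) (Fin n) F) *ᵥ w)
      simp only [B, LinearMap.compl₁₂_apply, hgP] at this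
      exact this
    have hsim : ∀ u v, B ((x : Matrix (Fin n) (Fin n) F) *ᵥ u) ((x : Matrix (Fin n) (Fin n) F) *ᵥ v) =
        (c : F) * B u v := fun u v => by
      simp only [B, LinearMap.compl₁₂_apply, hgx]
      exact hc (g u) (g v)
    refine hno B (fun v => hf.alternating _) hBnd c ?_ hsim
    have hpow : ∀ (i : ℕ) u v, B (((x : Matrix (Fin n) (Fin n) F) ^ i) *ᵥ u)
        (((x : Matrix (Fin n) (Fin n) F) ^ i) *ᵥ v) = (c : F) ^ i * B u v := by
      intro i
      induction i with
      | zero => simp
      | succ i ih =>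
        intro u v
        rw [pow_succ' (x : Matrix (Fin n) (Fin n) F), ← Matrix.mulVec_mulVec, ← Matrix.mulVec_mulVec, hsim,
          ih, pow_succ]
        ring
    have he0 : (Pi.single (⟨0, by omega⟩ : Fin n) (1 : F) : Fin n → F) ≠ 0 := by simp
    obtain ⟨v, hv⟩ : ∃ v, B (Pi.single (⟨0, by omega⟩ : Fin n) (1 : F)) v ≠ 0 := by
      by_contra hno'
      push Not at hno'
      exact he0 (hBnd _ hno')
    have := hpow r (Pi.single (⟨0, by omega⟩ : Fin n) (1 : F)) v
    rw [← Matrix.SpecialLinearGroup.coe_pow, hx, Matrix.SpecialLinearGroup.coe_one, Matrix.one_mulVec,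
      Matrix.one_mulVec] at this
    exact (mul_eq_right₀ hv).mp this.symm
  have h3n : 3 + (n - 3) = n := by omega
  rcases harith with rfl | ⟨i₀, hi₀, hi₀n, hi₀d⟩
  · -- one unipotent block of size three
    let N : Matrix (Fin n) (Fin n) F := Matrix.of fun i j =>
      if (i.1 = 0 ∧ j.1 = 1) ∨ (i.1 = 1 ∧ j.1 = 2) then 1 else 0
    let i0 : Fin n := ⟨0, by omega⟩
    let i1 : Fin n := ⟨1, by omega⟩
    let i2 : Fin n := ⟨2, by omega⟩
    have hNv : ∀ v, N *ᵥ v = fun i : Fin n => if i.1 = 0 then v i1 else if i.1 = 1 then v i2 else 0 := by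
      intro v; funext i
      simp only [N, Matrix.mulVec, dotProduct, Matrix.of_apply]
      by_cases a : i.1 = 0
      · rw [if_pos a, Finset.sum_eq_single i1 (fun j _ hj => by
          rw [if_neg, zero_mul]; rintro (h | h)
          · exact hj (Fin.ext h.2)
          · omega) (fun h => absurd (Finset.mem_univ _) h), if_pos (Or.inl ⟨a, rfl⟩), one_mul]
      · by_cases b : i.1 = 1
        · rw [if_neg a, if_pos b, Finset.sum_eq_single i2 (fun j _ hj => by
            rw [if_neg, zero_mul]; rintro (h | h)
            · omega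
            · exact hj (Fin.ext h.2)) (fun h => absurd (Finset.mem_univ _) h),
            if_pos (Or.inr ⟨b, rfl⟩), one_mul]
        · rw [if_neg a, if_neg b]
          exact Finset.sum_eq_zero fun j _ => by
            rw [if_neg, zero_mul]; rintro (h | h) <;> omega
    have hN3 : N * N * N = 0 := by
      refine Matrix.ext_of_mulVec_single fun j => ?_
      rw [← Matrix.mulVec_mulVec, ← Matrix.mulVec_mulVec, Matrix.zero_mulVec]
      funext i
      simp [hNv, i1, i2]
    have hdet : (1 + N).det = 1 := by
      rw [Matrix.det_of_upperTriangular]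
      · exact Finset.prod_eq_one fun i _ => by
          simp [N]; omega
      · intro i j hij
        have hji : j.1 < i.1 := hij
        rw [Matrix.add_apply, Matrix.one_apply_ne (Fin.ne_of_val_ne (by omega))]
        simp [N]; omega
    refine ⟨⟨1 + N, hdet⟩, Subtype.ext ?_, fun z hz => ?_, fun B hB hnd μ hμ hsim => ?_⟩
    · refine (Matrix.SpecialLinearGroup.coe_pow _ _).trans ?_
      show (1 + N) ^ r = 1
      haveI : CharP (Matrix (Fin n) (Fin n) F) r :=
        haveI : Nonempty (Fin n) := ⟨i0⟩
        Matrix.charP r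
      rw [add_pow_char_of_commute r (Commute.one_left N), one_pow, add_eq_left,
        show r = 3 + (r - 3) by have := hrp.two_le; omega, pow_add, pow_succ, pow_two, hN3, zero_mul]
    · have := congrFun (congrFun hz i0) i1
      simp [N, i0, i1, Fin.ext_iff] at this
    · have hμ1 : μ = 1 := by
        have h1 : (μ - 1) ^ r = 0 := by rw [sub_pow_char, hμ, one_pow, sub_self]
        exact sub_eq_zero.mp (eq_zero_of_pow_eq_zero h1)
      subst hμ1
      refine no_triple_block B hB hnd hN3 (fun u v => ?_) (w := Pi.single i0 1) (by simp)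
        (φ := LinearMap.proj i2) (fun u => ?_) (u₀ := Pi.single i2 1) (by simp)
      · have := hsim u v
        rw [one_mul] at this
        simpa [Matrix.add_mulVec] using this
      · funext i
        by_cases a : i.1 = 0
        · simp [hNv, a, i1, i0, show i = i0 from Fin.ext a]
        · simp [hNv, a, i1, i0, i2, show i ≠ i0 from fun e => a (congrArg Fin.val e)]
  · -- semisimple
    haveI : Fact r.Prime := ⟨hrp⟩
    have hrq : ¬ r ∣ q := fun h => by
      obtain ⟨k, hk⟩ := hi₀
      have h1 : r ∣ q ^ i₀ := dvd_pow h (by omega)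
      have h2 : 1 ≤ q ^ i₀ := Nat.one_le_pow _ _ (by omega)
      have h3 : q ^ i₀ = (q ^ i₀ - 1) + 1 := by omega
      rw [h3] at h1
      exact hrp.one_lt.ne' (Nat.dvd_one.mp ((Nat.dvd_add_right hi₀d).mp h1))
    have hrF : (r : F) ≠ 0 := fun h => by
      obtain ⟨c, hc0, hc⟩ := hqp
      exact hrq (hc ▸ dvd_pow ((Nat.prime_dvd_prime_iff_eq hpr hrp).mp
        ((CharP.cast_eq_zero_iff F p r).mp h) ▸ dvd_rfl) (by omega))
    set e := orderOf (q : ZMod r) with he_def
    have hiff : ∀ i, r ∣ q ^ i - 1 ↔ e ∣ i := fun i => by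
      rw [orderOf_dvd_iff_pow_eq_one, ← ZMod.natCast_eq_zero_iff,
        Nat.cast_sub (Nat.one_le_pow _ _ (by omega)), Nat.cast_pow, Nat.cast_one, sub_eq_zero]
    obtain ⟨k₀, hk₀⟩ := (hiff i₀).mp hi₀d
    have heodd : Odd e := (Nat.odd_mul.mp (hk₀ ▸ hi₀)).1
    have hen : e < n := by
      have h1 : e ≤ i₀ := Nat.le_of_dvd hi₀.pos ⟨k₀, hk₀⟩
      rcases Nat.lt_or_ge e n with h | h
      · exact h
      · obtain ⟨c, hc⟩ := heodd; omega
    by_cases he1 : e = 1
    · -- three eigenvalues
      have hrq1 : r ∣ q - 1 := by simpa using (hiff 1).mpr (by rw [he1])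
      obtain ⟨a, ha⟩ := exists_prime_orderOf_dvd_card' (G := Fˣ) r (by
        rw [Nat.card_units, Nat.card_eq_fintype_card, hq]; exact hrq1)
      have har : (a : F) ^ r = 1 := by rw [← Units.val_pow_eq_pow_val, ← ha, pow_orderOf_eq_one, Units.val_one]
      have ha1 : (a : F) ≠ 1 := fun e => by
        rw [Units.val_eq_one] at e
        rw [e, orderOf_one] at ha; exact hrp.one_lt.ne ha
      have ha2 : (a : F) ^ 2 ≠ 1 := fun e => by
        have h' : orderOf a ∣ 2 := orderOf_dvd_of_pow_eq_one (Units.ext (by simpa using e))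
        rw [ha, Nat.prime_dvd_prime_iff_eq hrp Nat.prime_two] at h'
        exact hr2 h'
      let d : Fin n → F := fun i => if i.1 = 0 ∨ i.1 = 1 then (a : F) else
        if i.1 = 2 then ((a : F) ^ 2)⁻¹ else 1
      have hd1 : ∀ i : Fin n, i.1 < 3 → d i ≠ 1 := by
        intro i hi
        simp only [d]
        split_ifs with h1 h2
        · exact ha1
        · exact fun e => ha2 (inv_eq_one.mp e)
        · omega
      have hdr : ∀ i, d i ^ r = 1 := fun i => by
        simp only [d]; split_ifs
        · exact har
        · rw [inv_pow, ← pow_mul, mul_comm, pow_mul, har, one_pow, inv_one]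
        · exact one_pow r
      have hdet : (Matrix.diagonal d).det = 1 := by
        rw [Matrix.det_diagonal, ← Finset.prod_subset (Finset.subset_univ
          ({⟨0, by omega⟩, ⟨1, by omega⟩, ⟨2, by omega⟩} : Finset (Fin n))) (fun i _ hi => by
            simp [Fin.ext_iff] at hi
            simp [d, hi])]
        rw [Finset.prod_insert (by simp), Finset.prod_pair (by simp)]
        simp [d]
        field_simp
      refine ⟨⟨Matrix.diagonal d, hdet⟩, Subtype.ext ?_, fun z hz => ?_, fun B hB hnd μ hμ hsim => ?_⟩
      · refine (Matrix.SpecialLinearGroup.coe_pow _ _).trans ?_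
        show Matrix.diagonal d ^ r = 1
        rw [Matrix.diagonal_pow, ← Matrix.diagonal_one]
        exact congrArg Matrix.diagonal (funext fun i => by simp [hdr i])
      · have h0 := congrFun (congrFun hz ⟨0, by omega⟩) ⟨0, by omega⟩
        have h3 := congrFun (congrFun hz ⟨3, by omega⟩) ⟨3, by omega⟩
        simp [d] at h0 h3
        exact ha1 (h0.trans h3.symm)
      let G : Matrix (Fin n) (Fin n) F := Matrix.of fun i j => B (Pi.single i 1) (Pi.single j 1)
      have hG : ∀ i j, d i * d j * G i j = μ * G i j := fun i j => by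
        have := hsim (Pi.single i 1) (Pi.single j 1)
        simp only [Matrix.mulVec_single, Matrix.col_apply, MulOpposite.op_one, one_smul] at this
        have hcol : ∀ i, (Matrix.diagonal d).col i = d i • Pi.single i (1 : F) := fun i => by
          ext k; by_cases hk : k = i <;> simp [Matrix.col, Matrix.diagonal, hk]
        rw [hcol, hcol, map_smul, map_smul, LinearMap.smul_apply, smul_eq_mul, smul_eq_mul] at this
        simp only [G, Matrix.of_apply]
        linear_combination this
      have hrow : ∀ c : Fin n → F, Matrix.vecMul c G = 0 → c = 0 := fun c hc => hnd c fun v => by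
        conv_lhs => rw [pi_eq_sum_univ' c, pi_eq_sum_univ' v]
        simp only [map_sum, map_smul, LinearMap.sum_apply, LinearMap.smul_apply, smul_eq_mul]
        refine Finset.sum_eq_zero fun j _ => ?_
        have hj := congrFun hc j
        simp only [Matrix.vecMul, dotProduct, G, Matrix.of_apply, Pi.zero_apply] at hj
        calc _ = v j * ∑ i, c i * B (Pi.single i 1) (Pi.single j 1) := by
              rw [Finset.mul_sum]
          _ = 0 := by rw [hj, mul_zero]
      have hGdet : G.det ≠ 0 := fun h => by
        obtain ⟨c, hc0, hc⟩ := Matrix.exists_vecMul_eq_zero_iff.mpr h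
        exact hc0 (hrow c hc)
      have hμn : μ ^ n = 1 := by
        have e1 : Matrix.diagonal d * G * Matrix.diagonal d = μ • G := by
          ext i j; rw [Matrix.mul_diagonal, Matrix.diagonal_mul, Matrix.smul_apply, smul_eq_mul, ← hG]; ring
        have e2 := congrArg Matrix.det e1
        rw [Matrix.det_mul, Matrix.det_mul, hdet, one_mul, mul_one, Matrix.det_smul, Fintype.card_fin] at e2
        exact (mul_eq_right₀ hGdet).mp e2.symm
      have hμ1 : μ = 1 := by
        by_cases hrn : r ∣ n
        · by_contra hμ1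
          have h8 : 8 ≤ n := by
            by_contra h
            rcases (show n = 4 ∨ n = 6 by omega) with rfl | rfl
            · exact hr2 ((Nat.prime_dvd_prime_iff_eq hrp Nat.prime_two).mp
                (hrp.dvd_of_dvd_pow (show r ∣ 2 ^ 2 by simpa using hrn)))
            · rcases hrp.dvd_mul.mp (show r ∣ 2 * 3 by simpa using hrn) with h' | h'
              · exact hr2 ((Nat.prime_dvd_prime_iff_eq hrp Nat.prime_two).mp h')
              · exact hgap ⟨rfl, (Nat.prime_dvd_prime_iff_eq hrp Nat.prime_three).mp h'⟩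
          have hz : ∀ i j : Fin n, 3 ≤ i.1 → 3 ≤ j.1 → G i j = 0 := fun i j hi hj => by
            have := hG i j
            simp only [d, show ¬ (i.1 = 0 ∨ i.1 = 1) by omega, show ¬ (j.1 = 0 ∨ j.1 = 1) by omega,
              show i.1 ≠ 2 by omega, show j.1 ≠ 2 by omega, if_false, one_mul] at this
            exact (mul_eq_zero.mp (show (μ - 1) * G i j = 0 by linear_combination -this)).resolve_left
              (sub_ne_zero.mpr hμ1)
          let Φ : ({i : Fin n // 3 ≤ i.1} → F) →ₗ[F] ({i : Fin n // i.1 < 3} → F) :=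
            Matrix.vecMulLinear (Matrix.of fun (i : {i : Fin n // 3 ≤ i.1}) (j : {i : Fin n // i.1 < 3}) =>
              G i.1 j.1)
          have hΦ : Function.Injective Φ := by
            refine (injective_iff_map_eq_zero Φ).mpr fun c hc => ?_
            let c' : Fin n → F := fun i => if h : 3 ≤ i.1 then c ⟨i, h⟩ else 0
            have hc' : c' = 0 := hrow c' (funext fun j => by
              simp only [Matrix.vecMul, dotProduct, Pi.zero_apply]
              by_cases hj : j.1 < 3
              · have := congrFun hc ⟨j, hj⟩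
                simp only [Φ, Matrix.vecMulLinear_apply, Matrix.vecMul, dotProduct, Matrix.of_apply,
                  Pi.zero_apply] at this
                rw [← this, ← Fintype.sum_subtype_add_sum_subtype (fun i : Fin n => 3 ≤ i.1) (fun i => c' i * G i j)]
                rw [add_eq_left.mpr (Finset.sum_eq_zero fun i _ => by simp [c', i.2])]
                exact Finset.sum_congr rfl fun i _ => by simp [c', i.2]
              · exact Finset.sum_eq_zero fun i _ => by
                  by_cases hi : 3 ≤ i.1
                  · rw [hz i j hi (by omega), mul_zero]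
                  · simp [c', hi])
            funext i
            have := congrFun hc' i.1
            simpa [c', i.2] using this
          have hfr := LinearMap.finrank_le_finrank_of_injective hΦ
          rw [Module.finrank_fintype_fun_eq_card, Module.finrank_fintype_fun_eq_card] at hfr
          have hb : Fintype.card {i : Fin n // i.1 < 3} = 3 := by
            rw [Fintype.card_congr (Fin.castLEquiv (show 3 ≤ n by omega)).symm, Fintype.card_fin]
          have ha' : Fintype.card {i : Fin n // 3 ≤ i.1} = n - 3 := by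
            have := Fintype.card_subtype_compl (fun i : Fin n => i.1 < 3)
            rw [hb, Fintype.card_fin] at this
            rw [← this]
            exact Fintype.card_congr (Equiv.subtypeEquivRight fun i => by omega)
          omega
        · have h1 : orderOf μ ∣ r := orderOf_dvd_of_pow_eq_one hμ
          rcases (Nat.dvd_prime hrp).mp h1 with h | h
          · exact orderOf_eq_one_iff.mp h
          · exact absurd (h ▸ orderOf_dvd_of_pow_eq_one hμn) hrn
      subst hμ1
      have hev := even_range B hB hnd hrF (X := Matrix.diagonal d) (by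
          rw [Matrix.diagonal_pow, ← Matrix.diagonal_one]
          exact congrArg Matrix.diagonal (funext fun i => by simp [hdr i]))
        (fun u v => (hsim u v).trans (one_mul _))
      rw [show Matrix.diagonal d - 1 = Matrix.diagonal (fun i => d i - 1) by
        rw [← Matrix.diagonal_one, Matrix.diagonal_sub]] at hev
      change Even (Matrix.rank (Matrix.diagonal fun i => d i - 1)) at hev
      rw [Matrix.rank_diagonal] at hev
      have : Fintype.card {i : Fin n // d i - 1 ≠ 0} = 3 := by
        rw [← Fintype.card_fin 3]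
        refine Fintype.card_congr ((Equiv.subtypeEquivRight fun i => ?_).trans
          (Fin.castLEquiv (show 3 ≤ n by omega)).symm)
        rw [sub_ne_zero]
        refine ⟨fun h => ?_, hd1 i⟩
        by_contra h3
        exact h (by simp only [d]; rw [if_neg (by omega), if_neg (by omega)])
      rw [this] at hev
      exact absurd hev (by decide)
    · -- one irreducible block
      have he3 : 3 ≤ e := by obtain ⟨c, hc⟩ := heodd; omega
      have hrq1 : ¬ r ∣ q - 1 := fun h => he1 (Nat.dvd_one.mp ((hiff 1).mp (by simpa using h)))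
      have hdvd : r ∣ Nat.card (Matrix.SpecialLinearGroup (Fin e) F) := by
        have h1 := card_SL_mul (F := F) (k := e) hq (by omega)
        obtain ⟨C, hC⟩ := prod_split q e
        rw [hC] at h1
        have h2 : r ∣ Nat.card (Matrix.SpecialLinearGroup (Fin e) F) * (q - 1) := by
          rw [h1]
          refine Dvd.dvd.mul_left ((dvd_trans ((hiff e).mpr dvd_rfl) ?_)) _
          have := Finset.dvd_prod_of_mem (fun i => q ^ (i + 1) - 1) (Finset.mem_range.mpr (show e - 1 < e by omega))
          rwa [Nat.sub_add_cancel (show 1 ≤ e by omega)] at this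
        exact (hrp.dvd_mul.mp h2).resolve_right hrq1
      obtain ⟨A, hA⟩ := exists_prime_orderOf_dvd_card' r hdvd
      let ε : Fin e ⊕ Fin (n - e) ≃ Fin n := finSumFinEquiv.trans (finCongr (by omega))
      let X : Matrix (Fin n) (Fin n) F :=
        Matrix.reindex ε ε (Matrix.fromBlocks (A : Matrix (Fin e) (Fin e) F) 0 0 1)
      have hdet : X.det = 1 := by
        rw [Matrix.det_reindex_self, Matrix.det_fromBlocks_zero₂₁, A.2, Matrix.det_one, mul_one]
      have hpowX : ∀ i : ℕ, X ^ i =
          Matrix.reindex ε ε (Matrix.fromBlocks ((A : Matrix (Fin e) (Fin e) F) ^ i) 0 0 1) := by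
        intro i
        induction i with
        | zero => simp [Matrix.fromBlocks_one]
        | succ i ih =>
          rw [pow_succ, ih]
          simp only [X, Matrix.reindex_apply, Matrix.submatrix_mul_equiv, Matrix.fromBlocks_multiply]
          simp [pow_succ]
      have hXr : X ^ r = 1 := by
        rw [hpowX, ← Matrix.SpecialLinearGroup.coe_pow, ← hA, pow_orderOf_eq_one,
          Matrix.SpecialLinearGroup.coe_one, Matrix.fromBlocks_one]
        simp
      have hA1 : (A : Matrix (Fin e) (Fin e) F) ≠ 1 := fun h => by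
        have hA' : A = 1 := Subtype.ext h
        rw [hA', orderOf_one] at hA
        exact hrp.one_lt.ne hA
      refine ⟨⟨X, hdet⟩, Subtype.ext ((Matrix.SpecialLinearGroup.coe_pow _ _).trans hXr),
        fun z hz => ?_, fun B hB hnd μ hμ hsim => ?_⟩
      · have hz' : X = z • 1 := hz
        have h1 := congrFun (congrFun hz' (ε (Sum.inr ⟨0, by omega⟩))) (ε (Sum.inr ⟨0, by omega⟩))
        simp [X] at h1
        apply hA1
        ext i j
        have h2 := congrFun (congrFun hz' (ε (Sum.inl i))) (ε (Sum.inl j))
        simpa [X, ← h1, Matrix.one_apply] using h2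
      have hμ1 : μ = 1 := by
        by_contra hμ1
        have hμ0 : μ ≠ 0 := fun h => by simp [h, hrp.ne_zero] at hμ
        have h1 := orderOf_eq_prime (x := Units.mk0 μ hμ0) (Units.ext (by simpa using hμ))
          (fun h => hμ1 (congrArg Units.val h))
        apply hrq1
        rw [← h1, ← hq, ← Fintype.card_units]
        exact orderOf_dvd_card
      subst hμ1
      have hev := even_range B hB hnd hrF hXr (fun u v => (hsim u v).trans (one_mul _))
      suffices hdim : Module.finrank F (LinearMap.range (Matrix.toLin' (X - 1))) = e by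
        rw [hdim] at hev
        exact (Nat.not_even_iff_odd.mpr heodd) hev
      set N := Matrix.toLin' (X - 1) with hNdef
      have hNw : ∀ v, N v = X *ᵥ v - v := fun v => by simp [N, Matrix.sub_mulVec]
      apply le_antisymm
      · let E : (Fin n → F) →ₗ[F] (Fin (n - e) → F) :=
          LinearMap.funLeft F F (fun j => ε (Sum.inr j))
        have hle : LinearMap.range N ≤ LinearMap.ker E := by
          rintro _ ⟨v, rfl⟩
          rw [LinearMap.mem_ker]
          funext j
          simp [E, hNw, X, Matrix.submatrix_mulVec_equiv, Matrix.fromBlocks_mulVec]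
        have hsurj : Function.Surjective E :=
          LinearMap.funLeft_surjective_of_injective F F _ (ε.injective.comp Sum.inr_injective)
        have h1 := E.finrank_range_add_finrank_ker
        rw [LinearMap.range_eq_top.mpr hsurj, finrank_top, Module.finrank_fin_fun, Module.finrank_fin_fun] at h1
        have h2 := Submodule.finrank_mono hle
        omega
      · -- the image carries an action of order r
        have hinv : ∀ v ∈ LinearMap.range N, Matrix.toLin' X v ∈ LinearMap.range N := by
          rintro _ ⟨v, rfl⟩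
          exact ⟨X *ᵥ v, by simp [hNw, Matrix.mulVec_sub]⟩
        let R := (Matrix.toLin' X).restrict hinv
        have hR : ∀ (i : ℕ) (w : LinearMap.range N), ((R ^ i) w : Fin n → F) = (X ^ i) *ᵥ (w : Fin n → F) := by
          intro i
          induction i with
          | zero => simp
          | succ i ih =>
            intro w
            rw [pow_succ', Module.End.mul_apply, pow_succ', ← Matrix.mulVec_mulVec, ← ih w]
            rfl
        have hRr : R ^ r = 1 := LinearMap.ext fun w => Subtype.ext (by
          rw [hR, hXr, Matrix.one_mulVec]; rfl)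
        let u : (Module.End F (LinearMap.range N))ˣ := Units.ofPowEqOne R r hRr hrp.ne_zero
        have hu1 : u ≠ 1 := fun h => by
          apply hA1
          have hR1 : R = 1 := congrArg Units.val h
          have hN2 : ∀ v, N (N v) = 0 := fun v => by
            have := congrArg Subtype.val (LinearMap.congr_fun hR1 ⟨N v, v, rfl⟩)
            rw [hNw (N v), sub_eq_zero]
            exact this
          have hfix : ∀ v, X *ᵥ v = v := fun v => by
            have hpow : ∀ i : ℕ, (X ^ i) *ᵥ v = v + (i : F) • N v := by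
              intro i
              induction i with
              | zero => simp
              | succ i ih =>
                have hf2 : X *ᵥ (N v) = N v := sub_eq_zero.mp (by rw [← hNw]; exact hN2 v)
                rw [pow_succ', ← Matrix.mulVec_mulVec, ih, Matrix.mulVec_add, Matrix.mulVec_smul, hf2,
                  Nat.cast_succ, add_smul, one_smul, hNw]
                abel
            have := hpow r
            rw [hXr, Matrix.one_mulVec, left_eq_add] at this
            have h0 := (smul_eq_zero.mp this).resolve_left hrF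
            rwa [hNw, sub_eq_zero] at h0
          have hX1 : X = 1 := Matrix.ext_of_mulVec_single fun j => by rw [hfix, Matrix.one_mulVec]
          ext i j
          have := congrFun (congrFun hX1 (ε (Sum.inl i))) (ε (Sum.inl j))
          simpa [X, Matrix.one_apply] using this
        have huo : orderOf u = r := orderOf_eq_prime (Units.ext (by simpa [u] using hRr)) hu1
        let bas := Module.finBasis F (LinearMap.range N)
        have hcard : Nat.card (Module.End F (LinearMap.range N))ˣ =
            Nat.card (GL (Fin (Module.finrank F (LinearMap.range N))) F) :=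
          Nat.card_congr (Units.mapEquiv (LinearMap.toMatrixAlgEquiv bas).toMulEquiv).toEquiv
        have hd : r ∣ Nat.card (GL (Fin (Module.finrank F (LinearMap.range N))) F) := by
          rw [← hcard, ← huo]; exact orderOf_dvd_natCard u
        obtain ⟨i, hi1, hik, hid⟩ := prime_dvd_GL hq hrp hrq hd
        exact le_trans (Nat.le_of_dvd hi1 ((hiff i).mp hid)) hik

end Cfsg.Agent.S5968
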