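import Cfsg.Statements.S5982
import Cfsg.Agent.Lib.UnitaryDerange84
import Cfsg.Agent.Lib.DecompPerm84
import Cfsg.Agent.S5965
import Cfsg.Agent.S5979
import Cfsg.Agent.S5968

set_option autoImplicit false
set_option maxHeartbeats 1000000
open scoped MatrixGroups
open Cfsg

namespace Cfsg.Agent.S5982

open Module Polynomial Cfsg.Agent.PrimeOrderModule84 Cfsg.Agent.UnitaryDerange84 Cfsg.Agent.OrthUnitaryHerm

section Helpers

variable {F : Type*} [Field F] [Fintype F] {n q₀ : ℕ}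

omit [Fintype F] in
theorem exists_gl_of_equiv (S : (Fin n → F) ≃ₗ[F] (Fin n → F)) :
    ∃ G : GL (Fin n) F, ∀ v, (G : Matrix (Fin n) (Fin n) F).mulVec v = S v := by
  refine ⟨⟨LinearMap.toMatrix' S.toLinearMap, LinearMap.toMatrix' S.symm.toLinearMap, ?_, ?_⟩,
    fun v => ?_⟩
  · rw [← LinearMap.toMatrix'_comp]; simp
  · rw [← LinearMap.toMatrix'_comp]; simp
  · exact LinearMap.toMatrix'_mulVec S.toLinearMap v

/-- All non-degenerate hermitian forms are equivalent. -/
theorem exists_iso (hF : Fintype.card F = q₀ ^ 2) (b : (Fin n → F) → (Fin n → F) → F)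
    (hadd : ∀ x y v, b (x + y) v = b x v + b y v) (hsmul : ∀ (a : F) x v, b (a • x) v = a * b x v)
    (hconj : ∀ u v, b v u = b u v ^ q₀) (hnd : ∀ u, (∀ v, b u v = 0) → u = 0) :
    ∃ T : (Fin n → F) ≃ₗ[F] (Fin n → F), ∀ u v, b u v = Cfsg.hermForm n F q₀ (T u) (T v) := by
  classical
  obtain ⟨e, -, he⟩ := AutPSU52Lang.exists_orthonormal hF b hadd hsmul hconj n ⊤
    (by rw [finrank_top, Module.finrank_fin_fun]) (fun u _ h => hnd u fun v => h v trivial)
  let J : (Fin n → F) →ₗ[F] (Fin n → F) := ∑ i, (LinearMap.proj i).smulRight (e i)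
  have hJ : ∀ x, J x = ∑ i, x i • e i := fun x => by simp [J, LinearMap.sum_apply]
  have hb0 : ∀ v, b 0 v = 0 := fun v => by rw [← zero_smul F (0 : Fin n → F), hsmul, zero_mul]
  have hbsum : ∀ (s : Finset (Fin n)) (x : Fin n → F) (v : Fin n → F),
      b (∑ i ∈ s, x i • e i) v = ∑ i ∈ s, x i * b (e i) v := by
    intro s x v
    induction s using Finset.induction_on with
    | empty => simp only [Finset.sum_empty, hb0]
    | insert a s ha ih => rw [Finset.sum_insert ha, Finset.sum_insert ha, hadd, hsmul, ih]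
  have hJe : ∀ x i, b (J x) (e i) = x i := fun x i => by
    rw [hJ, hbsum, Finset.sum_eq_single i (fun j _ hj => by rw [he, if_neg hj, mul_zero]) (by simp), he,
      if_pos rfl, mul_one]
  have hJb : ∀ x y, b (J x) (J y) = Cfsg.hermForm n F q₀ x y := by
    intro x y
    rw [hJ, hbsum]
    refine Finset.sum_congr rfl fun i _ => congrArg (x i * ·) ?_
    rw [hconj (J y), hJe]
  have hJinj : Function.Injective J := by
    rw [← LinearMap.ker_eq_bot, Submodule.eq_bot_iff]
    intro x hx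
    funext i
    rw [← hJe x i, LinearMap.mem_ker.1 hx, hb0]
    rfl
  refine ⟨(LinearEquiv.ofBijective J ⟨hJinj, LinearMap.injective_iff_surjective.1 hJinj⟩).symm, fun u v => ?_⟩
  set E := LinearEquiv.ofBijective J ⟨hJinj, LinearMap.injective_iff_surjective.1 hJinj⟩
  rw [← hJb]
  show b u v = b (E (E.symm u)) (E (E.symm v))
  rw [E.apply_symm_apply, E.apply_symm_apply]

omit [Fintype F] in
theorem pres_of_conj {f : (Fin n → F) → (Fin n → F) → F} (T : (Fin n → F) ≃ₗ[F] (Fin n → F))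
    (hT : ∀ u v, f u v = Cfsg.hermForm n F q₀ (T u) (T v)) (g x : GL (Fin n) F)
    (h : g⁻¹ * x * g ∈ Cfsg.Geo.similarityGroup f) :
    Pres q₀ (Matrix.toLin' (x : Matrix (Fin n) (Fin n) F)) := by
  obtain ⟨c, hc⟩ := h
  let G := (LinearMap.GeneralLinearGroup.generalLinearEquiv F (Fin n → F))
    (Matrix.GeneralLinearGroup.toLin g⁻¹)
  refine ⟨G.trans T, c, c.ne_zero, fun u v => ?_⟩
  show Cfsg.hermForm n F q₀ (T (((g⁻¹ : GL (Fin n) F) : Matrix (Fin n) (Fin n) F).mulVec
      ((x : Matrix (Fin n) (Fin n) F).mulVec u))) (T (((g⁻¹ : GL (Fin n) F) : Matrix (Fin n) (Fin n) F).mulVec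
      ((x : Matrix (Fin n) (Fin n) F).mulVec v))) =
    (c : F) * Cfsg.hermForm n F q₀ (T (((g⁻¹ : GL (Fin n) F) : Matrix (Fin n) (Fin n) F).mulVec u))
      (T (((g⁻¹ : GL (Fin n) F) : Matrix (Fin n) (Fin n) F).mulVec v))
  have h1 := hc (((g⁻¹ : GL (Fin n) F) : Matrix (Fin n) (Fin n) F).mulVec u)
    (((g⁻¹ : GL (Fin n) F) : Matrix (Fin n) (Fin n) F).mulVec v)
  rw [Matrix.mulVec_mulVec, Matrix.mulVec_mulVec, ← Units.val_mul, mul_inv_cancel_right, Units.val_mul,
    ← Matrix.mulVec_mulVec, ← Matrix.mulVec_mulVec, hT, hT] at h1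
  exact h1

theorem conj_of_pres {f : (Fin n → F) → (Fin n → F) → F} (T : (Fin n → F) ≃ₗ[F] (Fin n → F))
    (hT : ∀ u v, f u v = Cfsg.hermForm n F q₀ (T u) (T v)) (x : GL (Fin n) F)
    (hcomm : ∀ d : F, d ≠ 0 → ∃ D : GL (Fin n) F, (D : Matrix (Fin n) (Fin n) F) * x = x * D ∧
      (D : Matrix (Fin n) (Fin n) F).det = d)
    (h : Pres q₀ (Matrix.toLin' (x : Matrix (Fin n) (Fin n) F))) :
    ∃ g ∈ Cfsg.Geo.specialLinear (Fin n) F, g⁻¹ * x * g ∈ Cfsg.Geo.similarityGroup f := by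
  classical
  obtain ⟨S, l, hl, h⟩ := h
  obtain ⟨G, hG⟩ := exists_gl_of_equiv (S.trans T.symm)
  have hGT : ∀ w, T ((G : Matrix (Fin n) (Fin n) F).mulVec w) = S w := fun w => by
    rw [hG, LinearEquiv.trans_apply, LinearEquiv.apply_symm_apply]
  set d : F := ((G⁻¹ : GL (Fin n) F) : Matrix (Fin n) (Fin n) F).det with hd
  have hd0 : d ≠ 0 := ((Matrix.isUnit_iff_isUnit_det _).1 (G⁻¹).isUnit).ne_zero
  obtain ⟨D, hD, hDd⟩ := hcomm d⁻¹ (inv_ne_zero hd0)
  have hDx : D * x = x * D := Units.ext hD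
  refine ⟨D * G⁻¹, Units.ext ?_, Units.mk0 l hl, fun u v => ?_⟩
  · rw [Matrix.GeneralLinearGroup.val_det_apply, Units.val_mul, Matrix.det_mul, hDd, ← hd,
      inv_mul_cancel₀ hd0]
    rfl
  · have e : (D * G⁻¹)⁻¹ * x * (D * G⁻¹) = G * x * G⁻¹ := by
      rw [mul_inv_rev, inv_inv, mul_assoc, mul_assoc, ← mul_assoc x D, ← hDx]
      group
    have key : ∀ w, T (((G * x * G⁻¹ : GL (Fin n) F) : Matrix (Fin n) (Fin n) F).mulVec w) =
        S ((x : Matrix (Fin n) (Fin n) F).mulVec (((G⁻¹ : GL (Fin n) F) : Matrix (Fin n) (Fin n) F).mulVec w)) :=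
      fun w => by
        rw [Units.val_mul, Units.val_mul, ← Matrix.mulVec_mulVec, ← Matrix.mulVec_mulVec, hGT]
    have key' : ∀ w, T w = S (((G⁻¹ : GL (Fin n) F) : Matrix (Fin n) (Fin n) F).mulVec w) := fun w => by
      rw [← hGT, Matrix.mulVec_mulVec, ← Units.val_mul, mul_inv_cancel, Units.val_one, Matrix.one_mulVec]
    rw [e, hT, hT, key, key, key' u, key' v]
    exact h _ _

omit [Fintype F] in
/-- A diagonalisable element with norms equal to a constant. -/
theorem pres_diag {A : Matrix (Fin n) (Fin n) F} (v : Fin n → F) (P : GL (Fin n) F)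
    (hP : (P : Matrix (Fin n) (Fin n) F) * A = Matrix.diagonal v * (P : Matrix (Fin n) (Fin n) F))
    {l : F} (hl : l ≠ 0) (hv : ∀ i, v i * v i ^ q₀ = l) : Pres q₀ (Matrix.toLin' A) := by
  refine pres_of_model (J := Matrix.toLin' (Matrix.diagonal v))
    ((LinearMap.GeneralLinearGroup.generalLinearEquiv F (Fin n → F)) (Matrix.GeneralLinearGroup.toLin P))
    (fun u => ?_) hl (fun u w => ?_)
  · show (P : Matrix (Fin n) (Fin n) F).mulVec (A.mulVec u) =
      (Matrix.diagonal v).mulVec ((P : Matrix (Fin n) (Fin n) F).mulVec u)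
    rw [Matrix.mulVec_mulVec, hP, ← Matrix.mulVec_mulVec]
  · simp only [Cfsg.hermForm, Matrix.toLin'_apply, Matrix.mulVec_diagonal, mul_pow, Finset.mul_sum]
    exact Finset.sum_congr rfl fun i _ => by linear_combination (u i * w i ^ q₀) * hv i

/-- A non-square scalar square forbids similitudes. -/
theorem not_pres_nonsquare (hF : Fintype.card F = q₀ ^ 2) (h2 : (2 : F) ≠ 0) (hn : 0 < n)
    {g : Module.End F (Fin n → F)} {z : F} (hz0 : z ≠ 0) (hz : ∀ c : F, c ^ 2 ≠ z) (hg : g ^ 2 = z • 1) :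
    ¬ Pres q₀ g := by
  intro hP
  obtain ⟨S, l, hl, hlz, hlq, -⟩ := hP.multiplier hF hn hg
  have hq : Odd q₀ := by
    rw [← Nat.not_even_iff_odd]
    intro he
    obtain ⟨p, k, hp, hc, -, hq⟩ := exists_prime_pow hF
    have : p = 2 := ((Nat.prime_dvd_prime_iff_eq Nat.prime_two hp).1
      (Nat.prime_two.dvd_of_dvd_pow (by rw [← hq]; exact even_iff_two_dvd.1 he))).symm
    subst this
    exact h2 (by exact_mod_cast CharP.cast_eq_zero F 2)
  have hring : ringChar F ≠ 2 := fun e => h2 (by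
    have := ringChar.Nat.cast_ringChar (R := F)
    rw [e] at this
    exact_mod_cast this)
  obtain ⟨k, hk⟩ := hq
  have hhalf : Fintype.card F / 2 = (q₀ + 1) * k := by
    rw [hF, hk, show (2 * k + 1) ^ 2 = 2 * ((2 * k + 1 + 1) * k) + 1 by ring]
    omega
  have hlk : (l ^ k) ^ 2 = 1 := by
    rw [← pow_mul]
    apply mul_right_cancel₀ hl
    rw [← pow_succ, show k * 2 + 1 = q₀ by omega, hlq, one_mul]
  have hzk : z ^ (Fintype.card F / 2) = 1 := by
    rw [hhalf, pow_mul, ← hlz, ← pow_mul, mul_comm, pow_mul, hlk]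
  obtain ⟨b, hb⟩ := (FiniteField.isSquare_iff hring hz0).2 hzk
  exact hz b (by rw [hb, _root_.sq])

/-- Involutions in characteristic two are permutation matrices. -/
theorem exists_perm_model (h2 : (2 : F) = 0) {y : Module.End F (Fin n → F)} (hy : ∀ v, y (y v) = v) :
    ∃ (π : Equiv.Perm (Fin n)) (φ : (Fin n → F) ≃ₗ[F] (Fin n → F)), (∀ i, π (π i) = i) ∧
      ∀ v i, φ (y v) i = φ v (π i) := by
  classical
  obtain ⟨k, m, b, hb⟩ := SquareScalarBasis.hasMonomialBasis y 1 one_ne_zero (fun v => by rw [hy, one_smul])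
  choose c hc using hb
  have hinv : ∀ i, c i * c (InvolBlocks.swapPairs i) = 1 := fun i => by
    have h1 := hy (b i)
    rw [hc, map_smul, hc, InvolBlocks.swapPairs_involutive, smul_smul] at h1
    have h2 := congrArg (fun v => b.repr v i) h1
    simpa using h2
  have hc0 : ∀ i, c i ≠ 0 := fun i => left_ne_zero_of_mul_eq_one (hinv i)
  have hfix : ∀ j, c (Sum.inr j) = 1 := fun j => by
    have h1 := hinv (Sum.inr j)
    simp only [InvolBlocks.swapPairs, Sum.map_inr, id] at h1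
    rcases mul_self_eq_one_iff.1 h1 with h | h
    · exact h
    · rw [h, neg_eq_iff_add_eq_zero, one_add_one_eq_two, h2]
  let w : (Fin k × Fin 2) ⊕ Fin m → Fˣ :=
    Sum.elim (fun p => if p.2 = 0 then 1 else Units.mk0 (c (Sum.inl (p.1, 0))) (hc0 _)) (fun _ => 1)
  let b' := b.unitsSMul w
  have hb' : ∀ i, y (b' i) = b' (InvolBlocks.swapPairs i) := by
    intro i
    simp only [b', Module.Basis.unitsSMul_apply, Units.smul_def, map_smul, hc, smul_smul]
    congr 1
    rcases i with ⟨a, e⟩ | j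
    · fin_cases e
      · simp [w, InvolBlocks.swapPairs]
      · have h := hinv (Sum.inl (a, (0 : Fin 2)))
        simp [InvolBlocks.swapPairs] at h
        simp [w, InvolBlocks.swapPairs, h]
    · simp [w, InvolBlocks.swapPairs, hfix]
  have hcard : Fintype.card ((Fin k × Fin 2) ⊕ Fin m) = n := by
    rw [← Module.finrank_eq_card_basis b, Module.finrank_fin_fun]
  let e : (Fin k × Fin 2) ⊕ Fin m ≃ Fin n := (Fintype.equivFin _).trans (finCongr hcard)
  let B := b'.reindex e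
  let π : Equiv.Perm (Fin n) :=
    e.symm.trans ((InvolBlocks.swapPairs_involutive.toPerm _).trans e)
  have hπ : ∀ i, π (π i) = i := fun i => by
    simp [π, InvolBlocks.swapPairs_involutive (e.symm i)]
  have hB : ∀ i, y (B i) = B (π i) := fun i => by
    simp [B, π, Module.Basis.reindex_apply, hb']
  refine ⟨π, B.equivFun, hπ, fun v i => ?_⟩
  have key : (B.equivFun : (Fin n → F) →ₗ[F] Fin n → F) ∘ₗ y =
      (LinearMap.funLeft F F π) ∘ₗ (B.equivFun : (Fin n → F) →ₗ[F] Fin n → F) := by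
    refine B.ext fun j => funext fun i => ?_
    simp only [LinearMap.comp_apply, LinearEquiv.coe_coe, hB, LinearMap.funLeft_apply,
      Module.Basis.equivFun_self]
    by_cases h : π j = i
    · rw [if_pos h, if_pos (by rw [← h, hπ])]
    · rw [if_neg h, if_neg (fun e => h (by rw [e, hπ]))]
  exact congrFun (LinearMap.congr_fun key v) i

/-- Characteristic two: involutions fix a point. -/
theorem conj_char_two (hF : Fintype.card F = q₀ ^ 2) [CharP F 2] (hn : 0 < n)
    {f : (Fin n → F) → (Fin n → F) → F} (T : (Fin n → F) ≃ₗ[F] (Fin n → F))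
    (hT : ∀ u v, f u v = Cfsg.hermForm n F q₀ (T u) (T v)) (x : GL (Fin n) F) {z : F} (hz : z ≠ 0)
    (hx : (x : Matrix (Fin n) (Fin n) F) ^ 2 = z • 1) :
    ∃ g ∈ Cfsg.Geo.specialLinear (Fin n) F, g⁻¹ * x * g ∈ Cfsg.Geo.similarityGroup f := by
  classical
  obtain ⟨w, hw⟩ := FiniteField.isSquare_of_char_two (ringChar.eq_iff.2 ‹CharP F 2›) z
  have hw0 : w ≠ 0 := fun e => hz (by rw [hw, e, mul_zero])
  have h2 : (2 : F) = 0 := by exact_mod_cast CharP.cast_eq_zero F 2
  set X : Matrix (Fin n) (Fin n) F := (x : Matrix (Fin n) (Fin n) F) with hX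
  set y : Module.End F (Fin n → F) := Matrix.toLin' (w⁻¹ • X)
  have hyy : ∀ v, y (y v) = v := fun v => by
    show Matrix.toLin' (w⁻¹ • X) (Matrix.toLin' (w⁻¹ • X) v) = v
    rw [Matrix.toLin'_apply, Matrix.toLin'_apply, Matrix.mulVec_mulVec, ← _root_.sq, _root_.smul_pow, hx,
      smul_smul, inv_pow, hw, ← _root_.sq, inv_mul_cancel₀ (pow_ne_zero _ hw0), one_smul, Matrix.one_mulVec]
  obtain ⟨π, φ, hπ, hφ⟩ := exists_perm_model h2 hyy
  have hxy : Matrix.toLin' X = w • y := by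
    rw [show y = Matrix.toLin' (w⁻¹ • X) from rfl, map_smul, smul_smul, mul_inv_cancel₀ hw0, one_smul]
  refine conj_of_pres T hT x (fun d hd => ?_) ?_
  · obtain ⟨v, hv, hv0, hvd⟩ : ∃ v : Fin n → F, (∀ i, v (π i) = v i) ∧ (∀ i, v i ≠ 0) ∧ ∏ i, v i = d := by
      by_cases hex : ∃ i, π i = i
      · obtain ⟨i₀, hi₀⟩ := hex
        refine ⟨fun i => if i = i₀ then d else 1, fun i => ?_, fun i => ?_, by simp⟩
        · have : π i = i₀ ↔ i = i₀ := ⟨fun h => π.injective (h.trans hi₀.symm), fun h => by rw [h, hi₀]⟩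
          simp only [this]
        · dsimp only
          split_ifs
          exacts [hd, one_ne_zero]
      · push Not at hex
        obtain ⟨t, ht⟩ := FiniteField.isSquare_of_char_two (ringChar.eq_iff.2 ‹CharP F 2›) d
        have ht0 : t ≠ 0 := fun e => hd (by rw [ht, e, mul_zero])
        let i₀ : Fin n := ⟨0, hn⟩
        refine ⟨fun i => if i ∈ ({i₀, π i₀} : Finset (Fin n)) then t else 1, fun i => ?_, fun i => ?_, ?_⟩
        · have : π i ∈ ({i₀, π i₀} : Finset (Fin n)) ↔ i ∈ ({i₀, π i₀} : Finset (Fin n)) := by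
            simp only [Finset.mem_insert, Finset.mem_singleton]
            constructor
            · rintro (h | h)
              · right; rw [← h, hπ]
              · exact Or.inl (π.injective h)
            · rintro (h | h)
              · right; rw [h]
              · left; rw [h, hπ]
          simp only [this]
        · dsimp only
          split_ifs
          exacts [ht0, one_ne_zero]
        · rw [Finset.prod_ite_mem, Finset.univ_inter, Finset.prod_pair (hex i₀).symm, ← ht]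
    obtain ⟨P, hP⟩ := exists_gl_of_equiv φ
    let E : GL (Fin n) F := Matrix.GeneralLinearGroup.mkOfDetNeZero (Matrix.diagonal v)
      (by rw [Matrix.det_diagonal, hvd]; exact hd)
    have hEv : (E : Matrix (Fin n) (Fin n) F) = Matrix.diagonal v := rfl
    refine ⟨P⁻¹ * E * P, ?_, ?_⟩
    · apply Matrix.toLin'.injective
      have hDapp : ∀ u i, φ (((P⁻¹ * E * P : GL (Fin n) F) : Matrix (Fin n) (Fin n) F).mulVec u) i =
          v i * φ u i := fun u i => by
        rw [← hP, Matrix.mulVec_mulVec, ← Units.val_mul, ← mul_assoc, ← mul_assoc, mul_inv_cancel, one_mul,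
          Units.val_mul, ← Matrix.mulVec_mulVec, hP, hEv, Matrix.mulVec_diagonal]
      refine LinearMap.ext fun u => φ.injective (funext fun i => ?_)
      have hXu : ∀ u i, φ ((x : Matrix (Fin n) (Fin n) F).mulVec u) i = w * φ u (π i) := fun u i => by
        rw [← hX, ← Matrix.toLin'_apply X, hxy, LinearMap.smul_apply, map_smul, Pi.smul_apply, hφ, smul_eq_mul]
      simp only [Matrix.toLin'_mul, LinearMap.comp_apply, Matrix.toLin'_apply, hDapp, hXu, hv]
      ring
    · rw [Units.val_mul, Units.val_mul, Matrix.det_units_conj', hEv, Matrix.det_diagonal, hvd]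
  · rw [hxy]
    refine Pres.smul hw0 (pres_of_model φ (J := LinearMap.funLeft F F π) (l := 1)
      (fun u => funext fun i => by rw [hφ, LinearMap.funLeft_apply]) one_ne_zero fun u v => ?_)
    rw [one_mul]
    simp only [Cfsg.hermForm, LinearMap.funLeft_apply]
    exact Equiv.sum_comp π (fun i => u i * v i ^ q₀)

/-- When `r` divides `q₀^c - (-1)^c` the index is prime to `r`. -/
theorem not_dvd_index (hF : Fintype.card F = q₀ ^ 2) (hn : 1 ≤ n) {r : ℕ} [Fact r.Prime] (hr : (r : F) ≠ 0)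
    (hr2 : r ≠ 2) (hc : (-(q₀ : ZMod r)) ^ orderOf (Fintype.card F : ZMod r) = 1)
    {f : (Fin n → F) → (Fin n → F) → F} (T : (Fin n → F) ≃ₗ[F] (Fin n → F))
    (hT : ∀ u v, f u v = Cfsg.hermForm n F q₀ (T u) (T v)) :
    ¬ r ∣ (Cfsg.Geo.similarityGroup f).relIndex (Cfsg.Geo.specialLinear (Fin n) F) := by
  classical
  have hrp := (Fact.out : r.Prime)
  have hq2 := two_le_q hF
  set c := orderOf (Fintype.card F : ZMod r) with hcdef
  have hcpos : 0 < c := orderOf_card_pos hr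
  have hQ : (Fintype.card F : ZMod r) = (-(q₀ : ZMod r)) ^ 2 := by rw [neg_sq, hF, Nat.cast_pow]
  have hcodd : Odd c := by
    rw [← Nat.not_even_iff_odd]
    rintro ⟨m, hm⟩
    have h1 : (Fintype.card F : ZMod r) ^ m = 1 := by
      rw [hQ, ← pow_mul, show 2 * m = c by omega, hc]
    rw [← orderOf_dvd_iff_pow_eq_one, ← hcdef] at h1
    have := Nat.le_of_dvd (by omega) h1
    omega
  haveI : Fact (2 < r) := ⟨by have := hrp.two_le; omega⟩
  have hne : ∀ j : ℕ, (-(q₀ : ZMod r)) ^ j ≠ -1 := fun j hj => by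
    have h1 := congrArg (· ^ c) hj
    rw [← pow_mul, mul_comm, pow_mul, hc, one_pow, hcodd.neg_one_pow] at h1
    exact ZMod.neg_one_ne_one h1.symm
  have hrq : ¬ r ∣ q₀ := fun h => natCast_card_ne_zero (r := r) hr ((ZMod.natCast_eq_zero_iff _ _).2
    (by rw [hF]; exact dvd_trans h (dvd_pow_self _ two_ne_zero)))
  have hU : ∀ i, ¬ r ∣ (if Even i then q₀ ^ (i + 1) - 1 else q₀ ^ (i + 1) + 1) := by
    intro i hd
    apply hne (i + 1)
    rw [← ZMod.natCast_eq_zero_iff] at hd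
    split_ifs at hd with he
    · rw [Nat.cast_sub (Nat.one_le_pow _ _ (by omega)), Nat.cast_pow, Nat.cast_one, sub_eq_zero] at hd
      rw [neg_pow, hd, mul_one, (Even.add_one he).neg_one_pow]
    · rw [Nat.cast_add, Nat.cast_pow, Nat.cast_one, add_eq_zero_iff_eq_neg] at hd
      rw [neg_pow, hd, ((Nat.not_even_iff_odd.1 he).add_one).neg_one_pow, one_mul]
  obtain ⟨A, hA⟩ := S5968.prod_split (Fintype.card F) n
  have hGL : Nat.card (GL (Fin n) F) =
      Fintype.card F ^ A * ∏ i ∈ Finset.range n, (Fintype.card F ^ (i + 1) - 1) := by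
    rw [Matrix.card_GL_field, Fin.prod_univ_eq_prod_range (fun i => Fintype.card F ^ n - Fintype.card F ^ i), hA]
  set C := Fintype.card F ^ A * ∏ i ∈ Finset.range n, (if Even i then q₀ ^ (i + 1) - 1 else q₀ ^ (i + 1) + 1)
    with hCdef
  have hC : ¬ r ∣ C := fun h => by
    rcases hrp.dvd_mul.1 h with h | h
    · exact hrq (hrp.dvd_of_dvd_pow (show r ∣ q₀ ^ 2 by rw [← hF]; exact hrp.dvd_of_dvd_pow h))
    · rw [hrp.prime.dvd_finsetProd_iff] at h
      obtain ⟨i, -, hi⟩ := h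
      exact hU i hi
  have hdvd : Nat.card (GL (Fin n) F) ∣ Nat.card (GU n F q₀) * C := by
    refine ⟨q₀ ^ (n * (n - 1) / 2), ?_⟩
    have hprod : (∏ i ∈ Finset.range n, (if Even i then q₀ ^ (i + 1) + 1 else q₀ ^ (i + 1) - 1)) *
        (∏ i ∈ Finset.range n, (if Even i then q₀ ^ (i + 1) - 1 else q₀ ^ (i + 1) + 1)) =
        ∏ i ∈ Finset.range n, (Fintype.card F ^ (i + 1) - 1) := by
      rw [← Finset.prod_mul_distrib]
      refine Finset.prod_congr rfl fun i _ => ?_
      have h := Nat.sq_sub_sq (q₀ ^ (i + 1)) 1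
      rw [one_pow] at h
      rw [hF, ← pow_mul, mul_comm 2, pow_mul, h]
      split_ifs
      · rfl
      · rw [mul_comm]
    rw [card_GU hF, hGL, hCdef, ← hprod]
    ring
  intro hd
  set H := Cfsg.Geo.similarityGroup f
  set S := Cfsg.Geo.specialLinear (Fin n) F
  obtain ⟨G, hG⟩ := exists_gl_of_equiv T
  let φ : SU n F q₀ →* GL (Fin n) F :=
    (MulAut.conj G⁻¹).toMonoidHom.comp (Matrix.SpecialLinearGroup.toGL.comp (SU n F q₀).subtype)
  have hφ : Function.Injective φ := fun a b h =>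
    Subtype.ext (Matrix.SpecialLinearGroup.toGL_injective ((MulAut.conj G⁻¹).injective h))
  have hle : φ.range ≤ H ⊓ S := by
    rintro _ ⟨a, rfl⟩
    have ha : φ a = G⁻¹ * Matrix.SpecialLinearGroup.toGL a.1 * G := by
      show G⁻¹ * _ * (G⁻¹)⁻¹ = _
      rw [inv_inv]
      rfl
    refine ⟨⟨1, fun u v => ?_⟩, ?_⟩
    · rw [Units.val_one, one_mul, ha, Units.val_mul, Units.val_mul, ← Matrix.mulVec_mulVec,
        ← Matrix.mulVec_mulVec, ← Matrix.mulVec_mulVec, ← Matrix.mulVec_mulVec, hT, hT, ← hG, ← hG,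
        Matrix.mulVec_mulVec, Matrix.mulVec_mulVec _ (G : Matrix (Fin n) (Fin n) F), ← Units.val_mul,
        mul_inv_cancel, Units.val_one, Matrix.one_mulVec, Matrix.one_mulVec, hG, hG]
      exact a.2 _ _
    · show Matrix.GeneralLinearGroup.det (φ a) = 1
      rw [ha, map_mul, map_mul, map_inv, mul_comm _ (Matrix.GeneralLinearGroup.det
        (Matrix.SpecialLinearGroup.toGL a.1)), mul_assoc, inv_mul_cancel, mul_one]
      exact Units.ext a.1.2
  have h1 : Nat.card (SU n F q₀) ∣ Nat.card (H ⊓ S : Subgroup (GL (Fin n) F)) := by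
    rw [Nat.card_congr (MonoidHom.ofInjective hφ).toEquiv]
    exact Subgroup.card_dvd_of_le hle
  have hrel : H.relIndex S * Nat.card (H ⊓ S : Subgroup (GL (Fin n) F)) = Nat.card S := by
    have h := Subgroup.relIndex_mul_relIndex (⊥ : Subgroup (GL (Fin n) F)) (H ⊓ S) S bot_le inf_le_right
    rw [Subgroup.relIndex_bot_left, Subgroup.relIndex_bot_left, Subgroup.inf_relIndex_right] at h
    rw [mul_comm, h]
  have hS : Nat.card S * (Fintype.card F - 1) = Nat.card (GL (Fin n) F) := by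
    haveI : Nonempty (Fin n) := ⟨⟨0, hn⟩⟩
    rw [← S.card_mul_index]
    congr 1
    rw [show S = (Matrix.GeneralLinearGroup.det : GL (Fin n) F →* Fˣ).ker from rfl, Subgroup.index_ker,
      MonoidHom.range_eq_top.2 Matrix.GeneralLinearGroup.det_surjective, Subgroup.card_top, Nat.card_units,
      Nat.card_eq_fintype_card]
  have hq1 : Fintype.card F - 1 = (q₀ + 1) * (q₀ - 1) := by rw [hF]; simpa using Nat.sq_sub_sq q₀ 1
  obtain ⟨t, ht⟩ := h1
  have h2 : H.relIndex S * (q₀ - 1) * (Nat.card (SU n F q₀) * t * (q₀ + 1)) ∣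
      C * (Nat.card (SU n F q₀) * (q₀ + 1)) := by
    have h3 := hdvd
    rw [← hS, ← hrel, ht, hq1, ← card_GU_eq_mul_card_SU hF hn] at h3
    convert h3 using 1 <;> ring
  have h3 : H.relIndex S * (q₀ - 1) * (Nat.card (SU n F q₀) * (q₀ + 1)) ∣
      C * (Nat.card (SU n F q₀) * (q₀ + 1)) :=
    dvd_trans (mul_dvd_mul_left _ ⟨t, by ring⟩) h2
  exact hC (dvd_trans (dvd_mul_of_dvd_left hd _)
    (Nat.dvd_of_mul_dvd_mul_right (Nat.mul_pos Nat.card_pos (Nat.succ_pos _)) h3))

variable {r : ℕ} [Fact r.Prime]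

/-- The exceptional positive case. -/
theorem pres_exceptional (hF : Fintype.card F = q₀ ^ 2) (hr : (r : F) ≠ 0)
    (hrq0 : r ∣ q₀ - 1) (hr35 : r = 3 ∨ r = 5) (hn : n = r)
    {A : Matrix (Fin n) (Fin n) F} (hA : A ^ r = 1) (hdet : A.det = 1) : Pres q₀ (Matrix.toLin' A) := by
  classical
  have hrq : r ∣ Fintype.card F - 1 := by
    rw [hF]
    exact hrq0.trans (by simpa using Nat.sub_dvd_pow_sub_pow q₀ 1 2)
  have hc : orderOf (Fintype.card F : ZMod r) = 1 := by
    rw [orderOf_eq_one_iff]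
    have h1 := (card_pow_eq_one_iff (F := F) (r := r) 1).2 (by rwa [pow_one])
    rwa [pow_one] at h1
  obtain ⟨v, P, hv, hP⟩ := S5965.exists_conj_diagonal hr hc hA
  have hdetv : ∏ i, v i = 1 := by
    have h1 := congrArg Matrix.det hP
    rw [Matrix.det_mul, Matrix.det_mul, hdet, mul_one, Matrix.det_diagonal, eq_comm,
      mul_eq_right₀ ((Matrix.isUnit_iff_isUnit_det _).1 P.isUnit).ne_zero] at h1
    exact h1
  obtain ⟨ζ, hζ, hζ1⟩ := S5965.exists_root (F := F) (r := r) hrq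
  have hord : orderOf ζ = r := orderOf_eq_prime hζ hζ1
  have hpr : IsPrimitiveRoot ζ r := hord ▸ IsPrimitiveRoot.orderOf ζ
  haveI : NeZero r := ⟨(Fact.out : r.Prime).ne_zero⟩
  have hvq : ∀ i, v i ^ q₀ = v i := fun i => by
    obtain ⟨s, hs⟩ := hrq0
    rw [show q₀ = r * s + 1 by have := two_le_q hF; omega, pow_succ, pow_mul, hv, one_pow, one_mul]
  let pw : ZMod r → F := fun x => ζ ^ x.val
  have hpwn : ∀ m : ℕ, pw (m : ZMod r) = ζ ^ m := fun m => by
    show ζ ^ (m : ZMod r).val = ζ ^ m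
    rw [ZMod.val_natCast, ← hord, pow_mod_orderOf]
  have hpwa : ∀ x y, pw (x + y) = pw x * pw y := fun x y => by
    rw [← ZMod.natCast_zmod_val x, ← ZMod.natCast_zmod_val y, ← Nat.cast_add, hpwn, hpwn, hpwn, pow_add]
  have hex : ∀ i, ∃ x : ZMod r, pw x = v i := fun i => by
    obtain ⟨j, -, hj⟩ := hpr.eq_pow_of_pow_eq_one (hv i)
    exact ⟨j, by rw [hpwn, hj]⟩
  choose e he using hex
  have hsum : ∑ i, e i = 0 := by
    have h1 : ∀ s : Finset (Fin n), pw (∑ i ∈ s, e i) = ∏ i ∈ s, v i := by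
      intro s
      induction s using Finset.induction_on with
      | empty => rw [Finset.sum_empty, Finset.prod_empty, ← Nat.cast_zero, hpwn, pow_zero]
      | insert a s ha ih => rw [Finset.sum_insert ha, Finset.prod_insert ha, hpwa, ih, he]
    have h2 := h1 Finset.univ
    rw [hdetv] at h2
    have h3 : r ∣ (∑ i, e i).val := (hpr.pow_eq_one_iff_dvd _).1 h2
    rw [← ZMod.natCast_eq_zero_iff, ZMod.natCast_zmod_val] at h3
    exact h3
  obtain ⟨l, hl⟩ := S5965.exists_center hr35 (fun x => Fintype.card {i // e i = x}) (by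
      rw [← Fintype.card_sigma, Fintype.card_congr (Equiv.sigmaFiberEquiv e), Fintype.card_fin, hn])
    (by
      rw [← hsum, ← Finset.sum_fiberwise Finset.univ e e]
      refine Finset.sum_congr rfl fun x _ => ?_
      rw [Finset.sum_congr rfl (fun i hi => (Finset.mem_filter.1 hi).2), Finset.sum_const,
        Fintype.card_subtype, nsmul_eq_mul])
  -- an involution reversing the exponents about `l`
  let E : Fin n ≃ Σ x : ZMod r, Fin (Fintype.card {i // e i = x}) :=
    (Equiv.sigmaFiberEquiv e).symm.trans (Equiv.sigmaCongrRight fun x => Fintype.equivFin _)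
  have hE : ∀ i, (E i).1 = e i := fun i => rfl
  let τ : (Σ x : ZMod r, Fin (Fintype.card {i // e i = x})) → Σ x : ZMod r, Fin (Fintype.card {i // e i = x}) :=
    fun p => ⟨l + l - p.1, Fin.cast (hl p.1).symm p.2⟩
  have hττ : ∀ p, τ (τ p) = p := by
    rintro ⟨x, k⟩
    refine Sigma.ext (sub_sub_cancel _ _) ?_
    refine (Fin.heq_ext_iff ?_).2 rfl
    simp [τ]
  let π : Fin n → Fin n := fun i => E.symm (τ (E i))
  have hππ : ∀ i, π (π i) = i := fun i => by simp [π, hττ]
  have hfπ : ∀ i, e (π i) = l + l - e i := fun i => by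
    rw [← hE, ← hE]
    simp [π, τ]
  let b : (Fin n → F) → (Fin n → F) → F := fun u w => ∑ i, u i * w (π i) ^ q₀
  obtain ⟨T, hT⟩ := exists_iso hF b (fun x y w => by simp [b, add_mul, Finset.sum_add_distrib])
    (fun a x w => by simp [b, Finset.mul_sum, mul_assoc])
    (fun u w => by
      simp only [b, sum_pow_q hF, mul_pow, pow_q_q hF]
      refine Fintype.sum_equiv (Function.Involutive.toPerm π hππ) _ _ fun i => ?_
      show _ = u (π i) ^ q₀ * w (π (π i))
      rw [hππ]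
      ring)
    (fun u hu => funext fun i => by
      have := hu (Pi.single (π i) 1)
      simp only [b] at this
      rw [Finset.sum_eq_single i] at this
      · simpa using this
      · intro j _ hj
        rw [Pi.single_eq_of_ne (fun e => hj (by rw [← hππ j, e, hππ])), zero_pow_q hF, mul_zero]
      · simp)
  let Pl := (LinearMap.GeneralLinearGroup.generalLinearEquiv F (Fin n → F))
    (Matrix.GeneralLinearGroup.toLin P)
  refine ⟨Pl.trans T, pw (l + l), pow_ne_zero _ (hpr.ne_zero (Fact.out : r.Prime).ne_zero), fun u w => ?_⟩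
  have hPu : ∀ u, Pl (Matrix.toLin' A u) = (Matrix.diagonal v).mulVec (Pl u) := fun u => by
    show (P : Matrix (Fin n) (Fin n) F).mulVec (A.mulVec u) =
      (Matrix.diagonal v).mulVec ((P : Matrix (Fin n) (Fin n) F).mulVec u)
    rw [Matrix.mulVec_mulVec, hP, ← Matrix.mulVec_mulVec]
  simp only [LinearEquiv.trans_apply, ← hT, hPu, b, Finset.mul_sum, Matrix.mulVec_diagonal, mul_pow, hvq]
  refine Finset.sum_congr rfl fun i _ => ?_
  rw [← he, ← he, hfπ]
  have : pw (e i) * pw (l + l - e i) = pw (l + l) := by rw [← hpwa, add_sub_cancel]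
  linear_combination (Pl u i * Pl w (π i) ^ q₀) * this

omit [Fact r.Prime] in
theorem pres_eigen (hF : Fintype.card F = q₀ ^ 2) (hn : 0 < n) {d : Fin n → F} (hd : ∀ i, d i ^ r = 1)
    (h : Pres q₀ (Matrix.toLin' (Matrix.diagonal d))) :
    ∃ l : F, l ≠ 0 ∧ ∀ a : F, a ≠ 0 →
      Nat.card {i // d i = a} = Nat.card {i // d i = l * (a ^ q₀)⁻¹} := by
  classical
  obtain ⟨S, l, hl, h⟩ := h
  obtain ⟨G, hG⟩ := exists_gl_of_equiv S
  set M := (G : Matrix (Fin n) (Fin n) F) * Matrix.diagonal d * ((G⁻¹ : GL (Fin n) F) : Matrix (Fin n) (Fin n) F)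
    with hM
  have hGM : (G : Matrix (Fin n) (Fin n) F) * Matrix.diagonal d = M * (G : Matrix (Fin n) (Fin n) F) := by
    rw [hM, mul_assoc _ _ (G : Matrix (Fin n) (Fin n) F), ← Units.val_mul, inv_mul_cancel, Units.val_one, mul_one]
  refine ⟨l, hl, fun a ha => ?_⟩
  rw [← TensorDerange84.finrank_ker_diag, ← TensorDerange84.finrank_ker_diag,
    SubfieldDerange84.finrank_ker_conj G hGM, SubfieldDerange84.finrank_ker_conj G hGM]
  refine finrank_eigen hF hl (fun u w => ?_) ha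
  have key : ∀ x, M.mulVec x =
      S ((Matrix.diagonal d).mulVec (((G⁻¹ : GL (Fin n) F) : Matrix (Fin n) (Fin n) F).mulVec x)) := fun x => by
    rw [← hG, Matrix.mulVec_mulVec, Matrix.mulVec_mulVec]
  have key' : ∀ x, x = S (((G⁻¹ : GL (Fin n) F) : Matrix (Fin n) (Fin n) F).mulVec x) := fun x => by
    rw [← hG, Matrix.mulVec_mulVec, ← Units.val_mul, mul_inv_cancel, Units.val_one, Matrix.one_mulVec]
  rw [key u, key w]
  nth_rw 2 [key' u, key' w]
  have h1 := h (((G⁻¹ : GL (Fin n) F) : Matrix (Fin n) (Fin n) F).mulVec u)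
    (((G⁻¹ : GL (Fin n) F) : Matrix (Fin n) (Fin n) F).mulVec w)
  rw [Matrix.toLin'_apply, Matrix.toLin'_apply] at h1
  exact h1

end Helpers

/-- Elements of prime order of PSL_n(q), q = q₀², and the subgroups of unitary type. Here `T = PSL_n(F)` for a field `F` with `q = q₀²` elements (`n ≥ 3`), `f` is a non-degenerate unitary form on `F^n` for the involutory automorphism `x ↦ x^{q₀}`, and `H` is the subgroup of matrices of determinant 1 that preserve `f` up to a scalar — a subgroup of type GU_n(q₀) (maximality is not assumed); Ω is the set of cosets of `H` in `T`, so an element of `T` of prime order `r` (a matrix `x` of determinant 1 with `x^r` scalar, `x` not scalar) fixes a point of Ω exactly when some conjugate of `x` by a matrix of determinant 1 preserves `f` up to a scalar. Let `r` be a prime dividing the index of `H`, with `r = 2` or `r` different from the characteristic `p`, and with `(n, r) ≠ (6, 3)`. Then every element of `T` of order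 `r` fixes a point of Ω if and only if either `r = 2` and (`p = 2` or `(n)_2 ≤ (q − 1)_2`), or `r ∈ {3, 5}`, `n = r` and `(q₀ − 1)_r = r`. (Odd `r = p` and the case `(n, r) = (6, 3)` are not covered by this statement.) -/
theorem result {F : Type*} [Field F] [Fintype F] {p : ℕ} [Fact p.Prime] [CharP F p] {q : ℕ} (hq : Fintype.card F = q)
    (q₀ : ℕ) (hq₀ : q = q₀ ^ 2) (n : ℕ) (hn : 3 ≤ n) (f : (Fin n → F) → (Fin n → F) → F) (hf : Cfsg.Geo.IsUnitaryFormPow q₀ f)
    (r : ℕ) [Fact r.Prime] (hr : r = 2 ∨ r ≠ p) (hgap : ¬ (n = 6 ∧ r = 3))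
    (hΩ : r ∣ (Cfsg.Geo.similarityGroup f).relIndex (Cfsg.Geo.specialLinear (Fin n) F)) :
    (∀ x ∈ Cfsg.Geo.specialLinear (Fin n) F, (∃ z : F, ((x ^ r : GL (Fin n) F) : Matrix (Fin n) (Fin n) F) = z • (1 : Matrix (Fin n) (Fin n) F)) →
      (∀ z : F, (x : Matrix (Fin n) (Fin n) F) ≠ z • (1 : Matrix (Fin n) (Fin n) F)) →
      ∃ g ∈ Cfsg.Geo.specialLinear (Fin n) F, g⁻¹ * x * g ∈ Cfsg.Geo.similarityGroup f) ↔
    ((r = 2 ∧ (p = 2 ∨ padicValNat 2 n ≤ padicValNat 2 (q - 1))) ∨ ((r = 3 ∨ r = 5) ∧ n = r ∧ padicValNat r (q₀ - 1) = 1)) := by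
  classical
  subst hq
  set q := Fintype.card F with hqdef
  have hrpr : r.Prime := Fact.out
  have hpp : p.Prime := Fact.out
  haveI : Nonempty (Fin n) := ⟨⟨0, by omega⟩⟩
  have hn0 : 0 < n := by omega
  have hq2 := two_le_q hq₀
  have hq1 : q - 1 ≠ 0 := by have : 1 < q := Fintype.one_lt_card; omega
  have hnV : finrank F (Fin n → F) = n := Module.finrank_fin_fun F
  obtain ⟨T, hT⟩ := exists_iso hq₀ f hf.add_left hf.smul_left (fun u v => hf.herm v u) (fun u hu => by
    by_contra h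
    obtain ⟨y, hy⟩ := (hf.nondegenerate u h).2
    exact hy (hu y))
  have hzof : ∀ (x : GL (Fin n) F), x ∈ Cfsg.Geo.specialLinear (Fin n) F → ∀ z : F,
      ((x ^ r : GL (Fin n) F) : Matrix (Fin n) (Fin n) F) = z • 1 →
      z ≠ 0 ∧ (x : Matrix (Fin n) (Fin n) F).det = 1 := by
    intro x hx z hz
    have hd : (x : Matrix (Fin n) (Fin n) F).det = 1 :=
      congrArg Units.val (show Matrix.GeneralLinearGroup.det x = 1 from hx)
    refine ⟨fun e0 => ?_, hd⟩
    have := congrArg Matrix.det hz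
    rw [Units.val_pow_eq_pow_val, Matrix.det_pow, hd, one_pow, e0, zero_smul, Matrix.det_zero] at this
    exact one_ne_zero this
  have hbad : ∀ (A : Matrix (Fin n) (Fin n) F) (z w : F), A ^ r = z • 1 → (∀ s : F, A ≠ s • 1) →
      w ^ n * A.det = 1 → ¬ Pres q₀ (Matrix.toLin' A) →
      ¬ (∀ x ∈ Cfsg.Geo.specialLinear (Fin n) F, (∃ z : F, ((x ^ r : GL (Fin n) F) : Matrix (Fin n) (Fin n) F) = z • (1 : Matrix (Fin n) (Fin n) F)) →
      (∀ z : F, (x : Matrix (Fin n) (Fin n) F) ≠ z • (1 : Matrix (Fin n) (Fin n) F)) →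
      ∃ g ∈ Cfsg.Geo.specialLinear (Fin n) F, g⁻¹ * x * g ∈ Cfsg.Geo.similarityGroup f) := by
    intro A z w hA hns hd hP hall
    have hw : w ≠ 0 := fun e0 => by
      rw [e0, zero_pow (by omega), zero_mul] at hd; exact zero_ne_one hd
    have hdet : (w • A).det = 1 := by rw [Matrix.det_smul, Fintype.card_fin, hd]
    let x : GL (Fin n) F := Matrix.GeneralLinearGroup.mkOfDetNeZero (w • A) (by rw [hdet]; exact one_ne_zero)
    obtain ⟨g, -, hg⟩ := hall x (Units.ext hdet)
      ⟨w ^ r * z, by rw [Units.val_pow_eq_pow_val]; show (w • A) ^ r = _; rw [_root_.smul_pow, hA, smul_smul]⟩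
      (fun s hs => hns (w⁻¹ * s) (by
        rw [← smul_smul, ← hs]
        show A = w⁻¹ • (w • A)
        rw [smul_smul, inv_mul_cancel₀ hw, one_smul]))
    apply hP
    have := pres_of_conj T hT g x hg
    rw [show Matrix.toLin' (x : Matrix (Fin n) (Fin n) F) = w • Matrix.toLin' A from map_smul _ w A,
      pres_smul_iff hw] at this
    exact this
  have hiff : ∀ (x : GL (Fin n) F) (z : F), (r : F) ≠ 0 → z ≠ 0 →
      (x : Matrix (Fin n) (Fin n) F) ^ r = z • 1 → Pres q₀ (Matrix.toLin' (x : Matrix (Fin n) (Fin n) F)) →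
      ∃ g ∈ Cfsg.Geo.specialLinear (Fin n) F, g⁻¹ * x * g ∈ Cfsg.Geo.similarityGroup f :=
    fun x z hr hz h => conj_of_pres T hT x fun d hd =>
      SemisimpleConjGL.exists_gl_commute_det (S5965.isSemisimple_of_pow hr hz h) hd
  rcases eq_or_ne r 2 with hr2 | hr2
  · subst hr2
    rcases eq_or_ne p 2 with hp2 | hp2
    · subst hp2
      refine iff_of_true ?_ (Or.inl ⟨rfl, Or.inl rfl⟩)
      intro x hx ⟨z, hz⟩ _
      obtain ⟨hz0, -⟩ := hzof x hx z hz
      rw [Units.val_pow_eq_pow_val] at hz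
      exact conj_char_two hq₀ hn0 T hT x hz0 hz
    have h2F : (2 : F) ≠ 0 := fun e => hp2 ((Nat.prime_dvd_prime_iff_eq hpp Nat.prime_two).1
      ((CharP.cast_eq_zero_iff F p 2).1 (by exact_mod_cast e)))
    have h2F' : ((2 : ℕ) : F) ≠ 0 := by exact_mod_cast h2F
    have hqodd : Odd q₀ := by
      rw [← Nat.not_even_iff_odd]
      intro he
      obtain ⟨p', k, hp', hc, -, hq⟩ := exists_prime_pow hq₀
      have : p' = 2 := ((Nat.prime_dvd_prime_iff_eq Nat.prime_two hp').1
        (Nat.prime_two.dvd_of_dvd_pow (by rw [← hq]; exact even_iff_two_dvd.1 he))).symm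
      subst this
      exact h2F (by exact_mod_cast CharP.cast_eq_zero F 2)
    obtain ⟨k₀, hk₀⟩ := hqodd
    have hq4 : q % 4 = 1 := by
      rw [hq₀, hk₀, show (2 * k₀ + 1) ^ 2 = 4 * (k₀ * k₀ + k₀) + 1 by ring]
      omega
    have h2q : 2 ∣ q - 1 := by omega
    by_cases hv : padicValNat 2 n ≤ padicValNat 2 (q - 1)
    · refine iff_of_true ?_ (Or.inl ⟨rfl, Or.inr hv⟩)
      intro x hx ⟨z, hz⟩ _
      obtain ⟨hz0, hdet⟩ := hzof x hx z hz
      rw [Units.val_pow_eq_pow_val] at hz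
      refine hiff x z h2F' hz0 hz ?_
      obtain ⟨w, hw⟩ : ∃ w : F, w ^ 2 = z := by
        by_contra hb
        push Not at hb
        have hg : (Matrix.toLin' (x : Matrix (Fin n) (Fin n) F)) ^ 2 = z • 1 := by
          rw [← Matrix.toLin'_pow, hz, map_smul, Matrix.toLin'_one]; rfl
        obtain ⟨t, ht, hdet'⟩ := det_eq_of_pow_smul Nat.prime_two hz0 hg hb
        rw [hnV] at ht
        rw [LinearMap.det_toLin', hdet] at hdet'
        exact (exists_bad_iff h2q ht (by omega)).1 ⟨z, hz0, hb, hdet'.symm⟩ ⟨hv, fun _ _ => hq4⟩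
      have hw0 : w ≠ 0 := fun e0 => hz0 (by rw [← hw, e0, zero_pow two_ne_zero])
      set A := w⁻¹ • (x : Matrix (Fin n) (Fin n) F) with hA'
      have hA : A ^ 2 = 1 := by
        rw [hA', _root_.smul_pow, hz, smul_smul, ← hw, inv_pow, inv_mul_cancel₀ (pow_ne_zero _ hw0), one_smul]
      have hc : orderOf (q : ZMod 2) = 1 := by
        rw [orderOf_eq_one_iff]
        have h1 := (card_pow_eq_one_iff (F := F) (r := 2) 1).2 (by rwa [pow_one])
        rwa [pow_one] at h1
      obtain ⟨v, P, hvr, hP⟩ := S5965.exists_conj_diagonal h2F' hc hA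
      have hP' := pres_diag (q₀ := q₀) v P hP one_ne_zero fun i => by
        rw [← pow_succ', show q₀ + 1 = 2 * (k₀ + 1) by omega, pow_mul, hvr, one_pow]
      rw [hA', map_smul, pres_smul_iff (inv_ne_zero hw0)] at hP'
      exact hP'
    · refine iff_of_false ?_ (by rintro (⟨-, h | h⟩ | ⟨h | h, -⟩) <;> omega)
      have hev : 2 ∣ n := dvd_of_one_le_padicValNat (by omega)
      obtain ⟨t, ht⟩ := hev
      obtain ⟨z, hz0, hb, hzt⟩ := (exists_bad_iff (F := F) h2q ht (by omega)).2 fun h => hv h.1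
      obtain ⟨g, hg⟩ := exists_pow_smul (F := F) (V := Fin n → F) (r := 2) (z := z) (by rw [hnV]; exact ht)
      obtain ⟨t', ht', hdet⟩ := det_eq_of_pow_smul Nat.prime_two hz0 hg hb
      rw [hnV] at ht'
      rw [show t' = t by omega, hzt] at hdet
      refine hbad (LinearMap.toMatrix' g) z 1 ?_ (fun s hs => ?_)
        (by rw [one_pow, one_mul, LinearMap.det_toMatrix', hdet])
        (by rw [Matrix.toLin'_toMatrix']; exact not_pres_nonsquare hq₀ h2F hn0 hz0 hb hg)
      · apply Matrix.toLin'.injective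
        rw [Matrix.toLin'_pow, Matrix.toLin'_toMatrix', hg, map_smul, Matrix.toLin'_one]; rfl
      · have hgs := congrArg Matrix.toLin' hs
        rw [Matrix.toLin'_toMatrix', map_smul, Matrix.toLin'_one] at hgs
        rw [hgs, _root_.smul_pow, show (LinearMap.id : Module.End F (Fin n → F)) ^ 2 = 1 from one_pow 2] at hg
        exact hb s (smul_left_injective F (one_ne_zero (α := Module.End F (Fin n → F))) hg)
  have hrp : r ≠ p := hr.resolve_left hr2
  have hr : (r : F) ≠ 0 := fun e => hrp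
    ((Nat.prime_dvd_prime_iff_eq hpp hrpr).1 ((CharP.cast_eq_zero_iff F p r).1 e)).symm
  set c := orderOf (q : ZMod r) with hcdef
  have hcpos : 0 < c := orderOf_card_pos hr
  have hgood : (-(q₀ : ZMod r)) ^ c ≠ 1 := fun h => not_dvd_index hq₀ (by omega) hr hr2 h T hT hΩ
  have hQ : (q : ZMod r) = (q₀ : ZMod r) ^ 2 := by rw [hq₀, Nat.cast_pow]
  have hq0le : 1 ≤ q₀ := by omega
  have hcast : r ∣ q₀ - 1 ↔ (q₀ : ZMod r) = 1 := by
    rw [← ZMod.natCast_eq_zero_iff, Nat.cast_sub hq0le, Nat.cast_one, sub_eq_zero]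
  rcases Nat.lt_or_ge 1 c with hc2 | hc1'
  · -- `c ≥ 2`
    have hnd : ¬ r ∣ q - 1 := fun hd => by
      have h1 : (q : ZMod r) ^ 1 = 1 := by rw [hqdef, card_pow_eq_one_iff, pow_one]; exact hd
      rw [pow_one] at h1
      rw [hcdef, h1, orderOf_one] at hc2
      omega
    have hroot : ∀ l : F, l ^ r = 1 → l = 1 := by
      intro l hl
      have hl0 : l ≠ 0 := fun e0 => by rw [e0, zero_pow hrpr.ne_zero] at hl; exact zero_ne_one hl
      have := pow_gcd_eq_one.2 ⟨hl, FiniteField.pow_card_sub_one_eq_one l hl0⟩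
      rwa [hrpr.coprime_iff_not_dvd.2 hnd, pow_one] at this
    have hne1 : (q₀ : ZMod r) ≠ 1 := fun h => by
      rw [hcdef, hQ, h, one_pow, orderOf_one] at hc2
      omega
    refine iff_of_false ?_ (by
      rintro (⟨h, -⟩ | ⟨-, -, h⟩)
      · exact hr2 h
      · exact hne1 (hcast.1 (dvd_of_one_le_padicValNat (le_of_eq h.symm))))
    have hcn : c ≤ n := S5979.le_of_dvd_relIndex hr _ _ hΩ
    obtain ⟨g, hg, hdet, hg1, hker, -⟩ := DecompPerm84.exists_blocks (F := F) (V := Fin n → F) (r := r)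
      hr hc2 one_pos (by rw [hnV, one_mul]; exact hcn)
    rw [hnV, one_mul] at hker
    refine hbad (LinearMap.toMatrix' g) 1 1 ?_ (fun s hs => hg1 ?_)
      (by rw [one_pow, one_mul, LinearMap.det_toMatrix', hdet]) ?_
    · apply Matrix.toLin'.injective
      rw [Matrix.toLin'_pow, Matrix.toLin'_toMatrix', hg, map_smul, Matrix.toLin'_one, one_smul]; rfl
    · have hgs : g = s • 1 := by
        have := congrArg Matrix.toLin' hs
        rw [Matrix.toLin'_toMatrix', map_smul, Matrix.toLin'_one] at this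
        exact this
      rw [hgs, _root_.smul_pow, one_pow] at hg
      have hs1 : s ^ r = 1 :=
        smul_left_injective F (one_ne_zero (α := Module.End F (Fin n → F))) (hg.trans (one_smul F _).symm)
      rw [hgs, hroot s hs1, one_smul]
    · rw [Matrix.toLin'_toMatrix']
      intro hP
      obtain ⟨S, l, -, hlr, -, hgl⟩ := hP.multiplier (z := 1) hq₀ hn0 (by rw [hg, one_smul])
      have hl1 : l = 1 := hroot l (by rw [hlr, one_pow])
      have h2 := LinearMap.finrank_range_add_finrank_ker (g - 1)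
      rw [hnV] at h2
      have h0 := congr_of_isometry hq₀ hr hg S (fun u v => by rw [hgl, hl1, one_mul]) (c := c) (by rw [← hqdef, ← hcdef] at hker; omega)
      set X := (q₀ : ZMod r) ^ c with hX
      have hsq : ((-1 : ZMod r) ^ c) * (-1) ^ c = 1 := by rw [← mul_pow, neg_one_mul, neg_neg, one_pow]
      rcases mul_eq_zero.1 h0 with h | h
      · apply hgood
        rw [neg_pow, ← hX, sub_eq_zero.1 h, hsq]
      · have hXX : X * X = 1 := by
          rw [hX, ← _root_.sq, ← pow_mul, mul_comm, pow_mul, ← hQ, hcdef, pow_orderOf_eq_one]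
        have h1 : (q₀ : ZMod r) ^ 2 = 1 := by
          linear_combination hXX - (X - (-1) ^ c * (q₀ : ZMod r)) * h - (q₀ : ZMod r) ^ 2 * hsq
        rw [hcdef, hQ, h1, orderOf_one] at hc2
        omega
  have hc1 : c = 1 := by omega
  have hq01 : (q₀ : ZMod r) = 1 := by
    have h1 : (q₀ : ZMod r) ^ 2 = 1 := by rw [← hQ, ← orderOf_eq_one_iff, ← hcdef, hc1]
    rcases sq_eq_one_iff.1 h1 with h | h
    · exact h
    · exact absurd (by rw [h, neg_neg, one_pow]) hgood
  have hrq0 : r ∣ q₀ - 1 := hcast.2 hq01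
  have hqq : q - 1 = (q₀ + 1) * (q₀ - 1) := by rw [hq₀]; simpa using Nat.sq_sub_sq q₀ 1
  have hrq : r ∣ q - 1 := by rw [hqq]; exact dvd_mul_of_dvd_right hrq0 _
  have hrq1 : ¬ r ∣ q₀ + 1 := fun h => hr2 <| (Nat.prime_dvd_prime_iff_eq hrpr Nat.prime_two).1 <| by
    have := Nat.dvd_sub h hrq0
    rwa [show q₀ + 1 - (q₀ - 1) = 2 by omega] at this
  have hvq : padicValNat r (q - 1) = padicValNat r (q₀ - 1) := by
    rw [hqq, padicValNat.mul (by omega) (by omega), padicValNat.eq_zero_of_not_dvd hrq1, zero_add]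
  have hfix : ∀ a : F, a ^ r = 1 → a ^ q₀ = a := fun a ha => by
    obtain ⟨s, hs⟩ := hrq0
    rw [show q₀ = r * s + 1 by omega, pow_succ, pow_mul, ha, one_pow, one_mul]
  rw [← hvq]
  by_cases hex : (r = 3 ∨ r = 5) ∧ n = r ∧ padicValNat r (q - 1) = 1
  · refine iff_of_true ?_ (Or.inr hex)
    obtain ⟨hr35, hnr, hv1⟩ := hex
    intro x hx ⟨z, hz⟩ _
    obtain ⟨hz0, hdet⟩ := hzof x hx z hz
    rw [Units.val_pow_eq_pow_val] at hz
    refine hiff x z hr hz0 hz ?_
    obtain ⟨w, hw⟩ : ∃ w : F, w ^ r = z := by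
      by_contra hb
      push Not at hb
      have hg : (Matrix.toLin' (x : Matrix (Fin n) (Fin n) F)) ^ r = z • 1 := by
        rw [← Matrix.toLin'_pow, hz, map_smul, Matrix.toLin'_one]; rfl
      obtain ⟨t, ht, hdet'⟩ := det_eq_of_pow_smul hrpr hz0 hg hb
      rw [hnV] at ht
      rw [LinearMap.det_toLin', hdet] at hdet'
      have ht0 : t ≠ 0 := fun e0 => by rw [e0, mul_zero] at ht; omega
      exact (exists_bad_iff hrq ht ht0).1 ⟨z, hz0, hb, hdet'.symm⟩
        ⟨le_of_eq (by rw [hv1, hnr, padicValNat.self hrpr.one_lt]), fun e2 => absurd e2 hr2⟩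
    have hw0 : w ≠ 0 := fun e0 => hz0 (by rw [← hw, e0, zero_pow hrpr.ne_zero])
    set A := w⁻¹ • (x : Matrix (Fin n) (Fin n) F) with hA'
    have hA : A ^ r = 1 := by
      rw [hA', _root_.smul_pow, hz, smul_smul, ← hw, inv_pow, inv_mul_cancel₀ (pow_ne_zero _ hw0), one_smul]
    have hdA : A.det = 1 := by
      have hdr : A.det ^ r = 1 := by rw [← Matrix.det_pow, hA, Matrix.det_one]
      have hd1 : A.det = w⁻¹ ^ r := by rw [hA', Matrix.det_smul, Fintype.card_fin, hdet, mul_one, hnr]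
      have hw2 : w⁻¹ ^ (r * r) = 1 := by rw [pow_mul, ← hd1, hdr]
      have hg := pow_gcd_eq_one.2 ⟨hw2, FiniteField.pow_card_sub_one_eq_one w⁻¹ (inv_ne_zero hw0)⟩
      obtain ⟨i, -, hie⟩ := (Nat.dvd_prime_pow hrpr).1
        (show Nat.gcd (r * r) (q - 1) ∣ r ^ 2 by rw [_root_.sq]; exact Nat.gcd_dvd_left _ _)
      rw [← hqdef, hie] at hg
      rcases Nat.lt_or_ge i 2 with h | h
      · obtain ⟨s, hs⟩ : r ^ i ∣ r := dvd_trans (pow_dvd_pow r (show i ≤ 1 by omega)) (by rw [pow_one])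
        rw [hd1]
        nth_rw 1 [hs]
        rw [pow_mul, hg, one_pow]
      · exfalso
        have hdq : r ^ 2 ∣ q - 1 := dvd_trans (by rw [hie]; exact pow_dvd_pow r h) (Nat.gcd_dvd_right _ _)
        rw [padicValNat_dvd_iff_le hq1] at hdq
        omega
    have hP := pres_exceptional hq₀ hr hrq0 hr35 hnr hA hdA
    rw [hA', map_smul, pres_smul_iff (inv_ne_zero hw0)] at hP
    exact hP
  refine iff_of_false ?_ (by rintro (⟨h, -⟩ | h); exacts [hr2 h, hex h])
  obtain ⟨ζ, hζ, hζ1⟩ := S5965.exists_root (F := F) (r := r) hrq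
  have hord : orderOf ζ = r := orderOf_eq_prime hζ hζ1
  have hζ0 : ζ ≠ 0 := fun e0 => by rw [e0, zero_pow hrpr.ne_zero] at hζ; exact zero_ne_one hζ
  have hζi : ζ⁻¹ ≠ ζ := fun h => hr2 (by
    have h2 : ζ ^ 2 = 1 := by
      rw [_root_.sq]
      nth_rw 2 [← h]
      exact mul_inv_cancel₀ hζ0
    exact (Nat.prime_dvd_prime_iff_eq hrpr Nat.prime_two).1 (hord ▸ orderOf_dvd_of_pow_eq_one h2))
  have hdiag : ∀ (μ : F) (b b' : ℕ) (w : F), μ ^ r = 1 → μ ≠ 1 → μ ≠ ζ → b ≤ b' → b' < n → 0 < b →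
      n - b' ≠ b → n - b' ≠ b' - b → b' - b ≠ b → w ^ n * (ζ ^ b * μ ^ (b' - b)) = 1 →
      ¬ (∀ x ∈ Cfsg.Geo.specialLinear (Fin n) F, (∃ z : F, ((x ^ r : GL (Fin n) F) : Matrix (Fin n) (Fin n) F) = z • (1 : Matrix (Fin n) (Fin n) F)) →
      (∀ z : F, (x : Matrix (Fin n) (Fin n) F) ≠ z • (1 : Matrix (Fin n) (Fin n) F)) →
      ∃ g ∈ Cfsg.Geo.specialLinear (Fin n) F, g⁻¹ * x * g ∈ Cfsg.Geo.similarityGroup f) := by
    intro μ b b' w hμ hμ1 hμζ hb hb' hb0 h1 h2 h3 hw
    refine hbad _ 1 w (by rw [one_smul]; exact S5965.vec_pow hζ hμ b b') ?_ ?_ ?_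
    · intro s hs
      have e1 := congrFun (congrFun hs ⟨0, by omega⟩) ⟨0, by omega⟩
      have e2 := congrFun (congrFun hs ⟨b', hb'⟩) ⟨b', hb'⟩
      simp [S5965.vec, hb0, show ¬ b' < b by omega] at e1 e2
      exact hζ1 (e1.trans e2.symm)
    · rw [Matrix.det_diagonal, S5965.prod_vec ζ μ hb hb'.le, hw]
    · intro hP
      have hμ0 : μ ≠ 0 := fun e0 => by rw [e0, zero_pow hrpr.ne_zero] at hμ; exact zero_ne_one hμ
      obtain ⟨l, hl, hsym⟩ := pres_eigen (r := r) hq₀ hn0 (fun i => by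
        simp only [S5965.vec]; split_ifs <;> simp [hζ, hμ]) hP
      simp only [S5965.mult_vec hζ1 hμ1 hμζ hb hb'.le] at hsym
      have hl1 : l = 1 := by
        have := hsym 1 one_ne_zero
        rw [one_pow, inv_one, mul_one, if_neg hζ1.symm, if_neg hμ1.symm, if_pos rfl] at this
        split_ifs at this with e1 e2 e3
        · omega
        · omega
        · exact e3
        · omega
      have := hsym ζ hζ0
      rw [hl1, one_mul, hfix ζ hζ, if_pos rfl, if_neg hζi] at this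
      split_ifs at this with e2 e3 <;> omega
  have hμ : ζ ^ 2 ≠ 1 ∧ ζ ^ 2 ≠ ζ := by
    refine ⟨fun h => hr2 ?_, fun h => hζ1 ?_⟩
    · exact (Nat.prime_dvd_prime_iff_eq hrpr Nat.prime_two).1 (hord ▸ orderOf_dvd_of_pow_eq_one h)
    · apply mul_right_cancel₀ hζ0
      rw [← _root_.sq, h, one_mul]
  have hμr : (ζ ^ 2) ^ r = 1 := by rw [← pow_mul, mul_comm, pow_mul, hζ, one_pow]
  have htwo : ∀ (b : ℕ) (w : F), 0 < b → b < n → n - b ≠ b → w ^ n * ζ ^ b = 1 →
      ¬ (∀ x ∈ Cfsg.Geo.specialLinear (Fin n) F, (∃ z : F, ((x ^ r : GL (Fin n) F) : Matrix (Fin n) (Fin n) F) = z • (1 : Matrix (Fin n) (Fin n) F)) →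
      (∀ z : F, (x : Matrix (Fin n) (Fin n) F) ≠ z • (1 : Matrix (Fin n) (Fin n) F)) →
      ∃ g ∈ Cfsg.Geo.specialLinear (Fin n) F, g⁻¹ * x * g ∈ Cfsg.Geo.similarityGroup f) :=
    fun b w hb hbn hne hw => hdiag (ζ ^ 2) b b w hμr hμ.1 hμ.2 le_rfl hbn hb hne (by omega) (by omega)
      (by rw [Nat.sub_self, pow_zero, mul_one, hw])
  have hthree : 3 < r → 6 ≤ n →
      ¬ (∀ x ∈ Cfsg.Geo.specialLinear (Fin n) F, (∃ z : F, ((x ^ r : GL (Fin n) F) : Matrix (Fin n) (Fin n) F) = z • (1 : Matrix (Fin n) (Fin n) F)) →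
      (∀ z : F, (x : Matrix (Fin n) (Fin n) F) ≠ z • (1 : Matrix (Fin n) (Fin n) F)) →
      ∃ g ∈ Cfsg.Geo.specialLinear (Fin n) F, g⁻¹ * x * g ∈ Cfsg.Geo.similarityGroup f) := by
    intro h3 h6
    have hm1 : (ζ⁻¹) ^ 2 ≠ 1 := by rw [inv_pow, ne_eq, inv_eq_one]; exact hμ.1
    have hmz : (ζ⁻¹) ^ 2 ≠ ζ := fun h => by
      have h2 : ζ ^ 3 = 1 := by
        rw [pow_succ]
        nth_rw 2 [← h]
        rw [← mul_pow, mul_inv_cancel₀ hζ0, one_pow]
      have := Nat.le_of_dvd (by omega) (hord ▸ orderOf_dvd_of_pow_eq_one h2)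
      omega
    refine hdiag ((ζ⁻¹) ^ 2) 2 3 1 ?_ hm1 hmz (by omega) (by omega) (by omega) (by omega) (by omega) (by omega) ?_
    · rw [← pow_mul, mul_comm, pow_mul, inv_pow, hζ, inv_one, one_pow]
    · rw [one_pow, one_mul, show (3 - 2 : ℕ) = 1 by rfl, pow_one, ← mul_pow, mul_inv_cancel₀ hζ0,
        one_pow]
  by_cases hrn : r ∣ n
  · obtain ⟨t, ht⟩ := hrn
    have ht0 : 0 < t := Nat.pos_of_ne_zero fun e0 => by rw [e0, mul_zero] at ht; omega
    have hr3 : 3 ≤ r := by have := hrpr.two_le; omega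
    rcases Nat.lt_or_ge 2 t with h | h
    · have : r * 3 ≤ n := by rw [ht]; exact Nat.mul_le_mul_left r h
      exact htwo r 1 hrpr.pos (by omega) (by omega) (by rw [one_pow, one_mul, hζ])
    rcases Nat.lt_or_ge 1 t with h1 | h1
    · have ht2 : t = 2 := by omega
      subst ht2
      have : r ≠ 3 := fun e3 => hgap ⟨by omega, e3⟩
      exact hthree (by omega) (by omega)
    have ht1 : t = 1 := by omega
    subst ht1
    rw [mul_one] at ht
    rcases Nat.lt_or_ge 5 n with h7 | h5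
    · exact hthree (by omega) (by omega)
    have hv : 2 ≤ padicValNat r (q - 1) := by
      have hpos : 1 ≤ padicValNat r (q - 1) := one_le_padicValNat_of_dvd hq1 hrq
      by_contra hlt
      have h35 : r = 3 ∨ r = 5 := by
        have : r ≠ 4 := fun e4 => by rw [e4] at hrpr; exact absurd hrpr (by norm_num)
        omega
      exact hex ⟨h35, ht, by omega⟩
    obtain ⟨w, hw⟩ : ∃ w : F, w ^ n * ζ = 1 := by
      have hd2 : r ^ 2 ∣ q - 1 := (pow_dvd_pow r hv).trans pow_padicValNat_dvd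
      obtain ⟨a, ha, hao⟩ := exists_generator (F := F)
      obtain ⟨s, hs⟩ := hd2
      obtain ⟨j, hj⟩ := ha (Units.mk0 ζ⁻¹ (inv_ne_zero hζ0))
      have h1 : a ^ (j * r) = 1 := by
        rw [pow_mul, hj]
        ext
        simp [hζ]
      rw [← orderOf_dvd_iff_pow_eq_one, hao, ← hqdef, hs] at h1
      obtain ⟨u, hu⟩ : r * s ∣ j := by
        apply Nat.dvd_of_mul_dvd_mul_right hrpr.pos
        rwa [show r * s * r = r ^ 2 * s by ring]
      refine ⟨((a ^ (s * u) : Fˣ) : F), ?_⟩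
      rw [← Units.val_pow_eq_pow_val, ← pow_mul, show s * u * n = j by rw [ht, hu]; ring, hj,
        Units.val_mk0, inv_mul_cancel₀ hζ0]
    exact htwo 1 w one_pos (by omega) (by omega) (by rw [pow_one, hw])
  · obtain ⟨j, hj⟩ : ∃ j : ℕ, r ∣ n * j + 1 := by
      refine ⟨(-(n : ZMod r)⁻¹).val, (ZMod.natCast_eq_zero_iff _ _).1 ?_⟩
      have hn0 : (n : ZMod r) ≠ 0 := by rwa [Ne, ZMod.natCast_eq_zero_iff]
      push_cast
      rw [ZMod.natCast_zmod_val, mul_neg, mul_inv_cancel₀ hn0, neg_add_cancel]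
    refine htwo 1 (ζ ^ j) one_pos (by omega) (by omega) ?_
    rw [← pow_mul, pow_one, mul_comm j n, ← pow_succ, ← orderOf_dvd_iff_pow_eq_one, hord]
    exact hj

end Cfsg.Agent.S5982
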