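import Cfsg.Statements.S5954
import Cfsg.Agent.Lib.UnitaryNDInvariant84
import Cfsg.Agent.Lib.UnitaryBlocks84
import Cfsg.Agent.Lib.OrthUnitaryIsotropic
import Cfsg.Agent.Lib.UnitaryDerange84
import Cfsg.Agent.S5953
import Cfsg.Agent.S5982

set_option autoImplicit false
set_option maxHeartbeats 1000000
open scoped MatrixGroups
open Cfsg

namespace Cfsg.Agent.S5954

open Module Polynomial Cfsg.Agent.PrimeOrderModule84 Cfsg.Agent.OrthUnitaryHerm
open UnitaryIsoInvariant84 UnitaryBlocks84 UnitaryNDInvariant84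
open scoped Matrix

section Count

variable {F : Type*} [Field F] [Fintype F] {q : ℕ}

/-- The orbit of a coordinate subspace. -/
theorem card_nd_dvd (hF : Fintype.card F = q ^ 2) {n m d : ℕ} (hn : n = m + d) :
    Nat.card {W : Submodule F (Fin n → F) // finrank F ↥W = m ∧
      (∀ u ∈ W, u ≠ 0 → ∃ v ∈ W, Cfsg.hermForm n F q u v ≠ 0)} * Nat.card (GU d F q) ∣
    Nat.card (GU n F q) := by
  classical
  subst hn
  have hH := herm_hermForm (F := F) (n := m + d) hF
  set W₀ : Submodule F (Fin (m + d) → F) := supp F (Set.range (Fin.castAdd (n := m) d)) with hW₀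
  have hnd0 : ND (Cfsg.hermForm (m + d) F q) W₀ := nd_supp hF _
  have hmem0 : ∀ v, v ∈ W₀ ↔ ∀ j : Fin d, v (Fin.natAdd m j) = 0 := by
    intro v
    refine ⟨fun h j => h _ ?_, fun h i hi => ?_⟩
    · rintro ⟨l, hl⟩
      have := congrArg Fin.val hl
      simp at this
      omega
    · induction i using Fin.addCases with
      | left l => exact absurd ⟨l, rfl⟩ hi
      | right j => exact h j
  have hd0 : finrank F ↥W₀ = m := by
    let ψ : ↥W₀ →ₗ[F] (Fin m → F) := (LinearMap.funLeft F F (Fin.castAdd d)).comp W₀.subtype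
    refine (LinearEquiv.ofBijective ψ ⟨fun x y h => ?_, fun g => ?_⟩).finrank_eq.trans (Module.finrank_fin_fun F)
    · refine Subtype.ext (funext fun i => ?_)
      induction i using Fin.addCases with
      | left l => exact congrFun h l
      | right j => rw [(hmem0 _).1 x.2, (hmem0 _).1 y.2]
    · exact ⟨⟨Fin.append g 0, (hmem0 _).2 fun j => by simp⟩, funext fun l => by simp [ψ, LinearMap.funLeft]⟩
  set Ω := {W : Submodule F (Fin (m + d) → F) // finrank F ↥W = m ∧
      (∀ u ∈ W, u ≠ 0 → ∃ v ∈ W, Cfsg.hermForm (m + d) F q u v ≠ 0)} with hΩ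
  have hinj : ∀ g : GU (m + d) F q, Function.Injective (Matrix.mulVecLin g.1.1) := fun g =>
    Matrix.mulVec_injective_iff_isUnit.2 ((isU_of_mem g).isUnit hF)
  let act : GU (m + d) F q → Ω := fun g =>
    ⟨W₀.map (Matrix.mulVecLin g.1.1),
      ((Submodule.equivMapOfInjective _ (hinj g) W₀).finrank_eq.symm.trans hd0), by
        rintro _ ⟨u, hu, rfl⟩ hu0
        by_contra hcon
        push Not at hcon
        refine hu0 ?_
        rw [hnd0 u hu fun v hv => ?_, map_zero]
        have h1 := hcon _ ⟨v, hv, rfl⟩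
        rwa [Matrix.mulVecLin_apply, Matrix.mulVecLin_apply, isU_of_mem g] at h1⟩
  let t₀ : Ω := ⟨W₀, hd0, fun u hu hu0 => by
    by_contra hcon
    push Not at hcon
    exact hu0 (hnd0 u hu hcon)⟩
  have hText : ∀ a b : Ω, a = b ↔ a.1 = b.1 := fun a b => Subtype.ext_iff
  have hcard := card_eq_card_mul_card_fibre act t₀ (by
    rintro ⟨W, hWk, hW⟩
    have hWn : ND (Cfsg.hermForm (m + d) F q) W := fun u hu h0 => by
      by_contra hne
      obtain ⟨v, hv, hv'⟩ := hW u hu hne
      exact hv' (h0 v hv)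
    obtain ⟨hP, hsup, hbot⟩ := split hH hF (nd_top hF) le_top hWn
    rw [top_inf_eq] at hP hsup hbot
    have hPd : finrank F ↥(orth hH W) = d := by
      have := Submodule.finrank_sup_add_finrank_inf_eq W (orth hH W)
      rw [hsup, hbot, finrank_bot, finrank_top, Module.finrank_fin_fun, hWk] at this
      omega
    obtain ⟨e, heW, he⟩ := AutPSU52Lang.exists_orthonormal hF _ hH.add hH.smul hH.conj m W hWk hWn
    obtain ⟨e', heP, he'⟩ := AutPSU52Lang.exists_orthonormal hF _ hH.add hH.smul hH.conj d _ hPd hP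
    set E : Fin (m + d) → Fin (m + d) → F := Fin.append e e' with hE
    have hEE : ∀ i j, Cfsg.hermForm (m + d) F q (E i) (E j) = if i = j then 1 else 0 := by
      intro i j
      induction i using Fin.addCases with
      | left i =>
        induction j using Fin.addCases with
        | left j => simp [hE, he]
        | right j =>
          have hne : Fin.castAdd d i ≠ Fin.natAdd m j := fun h => by
            have := congrArg Fin.val h
            simp at this
            omega
          rw [if_neg hne, hE, Fin.append_left, Fin.append_right]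
          exact hH.zero_comm hF (heP j _ (heW i))
      | right i =>
        induction j using Fin.addCases with
        | left j =>
          have hne : Fin.natAdd m i ≠ Fin.castAdd d j := fun h => by
            have := congrArg Fin.val h
            simp at this
            omega
          rw [if_neg hne, hE, Fin.append_left, Fin.append_right]
          exact heP i _ (heW j)
        | right j => simp [hE, he']
    set J : Module.End F (Fin (m + d) → F) := ∑ i, (LinearMap.proj i).smulRight (E i) with hJ'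
    have hJ : ∀ x, J x = ∑ i, x i • E i := fun x => by simp [hJ', LinearMap.sum_apply]
    have hJb : ∀ x y, Cfsg.hermForm (m + d) F q (J x) (J y) = Cfsg.hermForm (m + d) F q x y := by
      intro x y
      have h1 : ∀ i, Cfsg.hermForm (m + d) F q (E i) (J y) = y i ^ q := fun i => by
        rw [hJ, hH.sum_right hF, Finset.sum_eq_single i
          (fun j _ hj => by rw [hH.smul_right, hEE, if_neg (Ne.symm hj), mul_zero]) (by simp), hH.smul_right,
          hEE, if_pos rfl, mul_one]
      have key : ∀ s : Finset (Fin (m + d)), Cfsg.hermForm (m + d) F q (∑ i ∈ s, x i • E i) (J y) =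
          ∑ i ∈ s, x i * y i ^ q := by
        intro s
        induction s using Finset.induction_on with
        | empty => simp [hH.zero_left]
        | insert a s ha ih => rw [Finset.sum_insert ha, Finset.sum_insert ha, hH.add, hH.smul, h1, ih]
      rw [hJ x, key]
      rfl
    have hM : IsU q (LinearMap.toMatrix' J) := fun u v => by
      rw [LinearMap.toMatrix'_mulVec, LinearMap.toMatrix'_mulVec, hJb]
    have hMW : W₀.map (Matrix.mulVecLin (LinearMap.toMatrix' J)) = W := by
      refine Submodule.eq_of_le_of_finrank_eq ?_ ?_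
      · rintro _ ⟨x, hx, rfl⟩
        rw [Matrix.mulVecLin_apply, LinearMap.toMatrix'_mulVec, hJ]
        refine W.sum_mem fun i _ => ?_
        induction i using Fin.addCases with
        | left i => rw [hE, Fin.append_left]; exact W.smul_mem _ (heW i)
        | right j => rw [(hmem0 x).1 hx j, zero_smul]; exact W.zero_mem
      · rw [← (Submodule.equivMapOfInjective _ (Matrix.mulVec_injective_iff_isUnit.2 (hM.isUnit hF)) W₀).finrank_eq,
          hd0, hWk]
    refine ⟨mkGU hF _ hM, fun g => ?_⟩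
    rw [hText, hText]
    show W₀.map (Matrix.mulVecLin (mkGU hF _ hM * g).1.1) = W ↔
      W₀.map (Matrix.mulVecLin g.1.1) = W₀
    rw [Subgroup.coe_mul, Units.val_mul, mkGU_coe, Matrix.mulVecLin_mul, Submodule.map_comp]
    conv_lhs => rw [← hMW]
    exact (Submodule.map_injective_of_injective
      (f := Matrix.mulVecLin (LinearMap.toMatrix' J))
      (Matrix.mulVec_injective_iff_isUnit.2 (hM.isUnit hF))).eq_iff)
  let S : Subgroup (GU (m + d) F q) :=
    { carrier := {g | W₀.map (Matrix.mulVecLin g.1.1) = W₀}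
      one_mem' := by simp
      mul_mem' := fun {g g'} hg hg' => by
        simp only [Set.mem_setOf_eq] at hg hg' ⊢
        rw [Subgroup.coe_mul, Units.val_mul, Matrix.mulVecLin_mul, Submodule.map_comp, hg', hg]
      inv_mem' := fun {g} hg => by
        simp only [Set.mem_setOf_eq] at hg ⊢
        conv_lhs => rw [← hg]
        rw [← Submodule.map_comp, ← Matrix.mulVecLin_mul, ← Units.val_mul, ← Subgroup.coe_mul, inv_mul_cancel,
          OneMemClass.coe_one, Units.val_one, Matrix.mulVecLin_one, Submodule.map_id] }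
  have hfib : Nat.card {g // act g = t₀} = Nat.card S :=
    Nat.card_congr (Equiv.subtypeEquivRight fun g => by rw [hText]; rfl)
  let ext : Matrix (Fin d) (Fin d) F → Matrix (Fin (m + d)) (Fin (m + d)) F := fun B =>
    Matrix.reindex finSumFinEquiv finSumFinEquiv (Matrix.fromBlocks 1 0 0 B)
  have hext : ∀ B v, ext B *ᵥ v =
      Fin.append (fun i => v (Fin.castAdd d i)) (B *ᵥ fun j => v (Fin.natAdd m j)) := by
    intro B v
    funext i
    simp only [ext, Matrix.reindex_apply, Matrix.submatrix_mulVec_equiv, Equiv.symm_symm]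
    induction i using Fin.addCases with
    | left i =>
      simp [Matrix.fromBlocks_mulVec, Function.comp_def]
    | right j =>
      simp [Matrix.fromBlocks_mulVec, Function.comp_def]
  have hextU : ∀ B, IsU q B → IsU q (ext B) := by
    intro B hB u v
    have h1 := hB (fun j => u (Fin.natAdd m j)) (fun j => v (Fin.natAdd m j))
    simp only [Cfsg.hermForm] at h1 ⊢
    rw [Fin.sum_univ_add, Fin.sum_univ_add, hext, hext]
    simp [h1]
  let φ : GU d F q →* GU (m + d) F q :=
    { toFun := fun B => mkGU hF (ext B.1.1) (hextU _ (isU_of_mem B))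
      map_one' := by
        refine Subtype.ext (Units.ext ?_)
        simp [mkGU_coe, ext]
      map_mul' := fun B B' => by
        refine Subtype.ext (Units.ext ?_)
        simp only [Subgroup.coe_mul, Units.val_mul, mkGU_coe, ext, Matrix.reindex_apply]
        rw [Matrix.submatrix_mul_equiv, Matrix.fromBlocks_multiply]
        simp }
  have hφ : Function.Injective φ := fun B B' h => by
    have h1 := congrArg (fun g : GU (m + d) F q => g.1.1) h
    simp only [φ, MonoidHom.coe_mk, OneHom.coe_mk, mkGU_coe, ext] at h1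
    exact Subtype.ext (Units.ext (Matrix.fromBlocks_inj.1 ((Matrix.reindex _ _).injective h1)).2.2.2)
  have hle : φ.range ≤ S := by
    rintro _ ⟨B, rfl⟩
    show W₀.map (Matrix.mulVecLin (φ B).1.1) = W₀
    refine Submodule.eq_of_le_of_finrank_eq ?_
      (Submodule.equivMapOfInjective _ (hinj (φ B)) W₀).finrank_eq.symm
    rintro _ ⟨v, hv, rfl⟩
    rw [SetLike.mem_coe, hmem0] at hv
    rw [hmem0]
    intro j
    simp only [φ, MonoidHom.coe_mk, OneHom.coe_mk, mkGU_coe, Matrix.mulVecLin_apply, hext, Fin.append_right]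
    rw [show (fun j => v (Fin.natAdd m j)) = 0 from funext hv, Matrix.mulVec_zero]
    rfl
  rw [hcard, hfib]
  refine mul_dvd_mul_left _ ?_
  rw [Nat.card_congr (MonoidHom.ofInjective hφ).toEquiv]
  exact Subgroup.card_dvd_of_le hle

/-- The count forces a multiple of `c` just below `n`. -/
theorem exists_order_dvd (hF : Fintype.card F = q ^ 2) {r : ℕ} [Fact r.Prime] (hrq : ¬ r ∣ q) {n m : ℕ}
    (hmn : m ≤ n)
    (hd : r ∣ Nat.card {W : Submodule F (Fin n → F) // finrank F ↥W = m ∧
      (∀ u ∈ W, u ≠ 0 → ∃ v ∈ W, Cfsg.hermForm n F q u v ≠ 0)}) :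
    ∃ j, n - m < j ∧ j ≤ n ∧ (-(q : ZMod r)) ^ j = 1 := by
  have hrp : r.Prime := Fact.out
  have hq := two_le_q hF
  obtain ⟨d, rfl⟩ : ∃ d, n = m + d := ⟨n - m, by omega⟩
  have h1 : r * Nat.card (GU d F q) ∣ Nat.card (GU (m + d) F q) :=
    (mul_dvd_mul_right hd _).trans (card_nd_dvd hF rfl)
  rw [card_GU hF, card_GU hF, add_comm m d, Finset.prod_range_add] at h1
  set f : ℕ → ℕ := fun i => if Even i then q ^ (i + 1) + 1 else q ^ (i + 1) - 1 with hf
  have hpos : 0 < ∏ i ∈ Finset.range d, f i := Finset.prod_pos fun i _ => by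
    simp only [hf]
    split_ifs
    · omega
    · have : 1 < q ^ (i + 1) := Nat.one_lt_pow (by omega) hq
      omega
  have h2 : r * q ^ (d * (d - 1) / 2) ∣ q ^ ((d + m) * (d + m - 1) / 2) * ∏ x ∈ Finset.range m, f (d + x) := by
    refine Nat.dvd_of_mul_dvd_mul_left hpos ?_
    convert h1 using 1 <;> ring
  rcases hrp.dvd_mul.1 ((dvd_mul_right r _).trans h2) with h3 | h3
  · exact absurd (hrp.dvd_of_dvd_pow h3) hrq
  rw [hrp.prime.dvd_finsetProd_iff] at h3
  obtain ⟨x, hx, hdx⟩ := h3
  rw [Finset.mem_range] at hx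
  refine ⟨d + x + 1, by omega, by omega, ?_⟩
  rw [← ZMod.natCast_eq_zero_iff] at hdx
  simp only [hf] at hdx
  split_ifs at hdx with he
  · rw [Nat.cast_add, Nat.cast_pow, Nat.cast_one, add_eq_zero_iff_eq_neg] at hdx
    rw [neg_pow, hdx, (Even.add_one he).neg_one_pow, neg_one_mul, neg_neg]
  · rw [Nat.cast_sub (Nat.one_le_pow _ _ (by omega)), Nat.cast_pow, Nat.cast_one, sub_eq_zero] at hdx
    rw [neg_pow, hdx, ((Nat.not_even_iff_odd.1 he).add_one).neg_one_pow, one_mul]

end Count

section Helpers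

variable {F : Type*} [Field F] [Fintype F] {n q : ℕ}

/-- The conclusion for one element. -/
abbrev HasND (q m : ℕ) (T : Module.End F (Fin n → F)) : Prop :=
  ∃ W : Submodule F (Fin n → F), Module.finrank F ↥W = m ∧
    (∀ u ∈ W, u ≠ 0 → ∃ v ∈ W, Cfsg.hermForm n F q u v ≠ 0) ∧ W.map T ≤ W

omit [Fintype F] in
theorem hasND_of {m : ℕ} {T : Module.End F (Fin n → F)} {W : Submodule F (Fin n → F)}
    (hd : finrank F ↥W = m) (hn : ND (Cfsg.hermForm n F q) W) (hi : W.map T ≤ W) : HasND q m T := by
  refine ⟨W, hd, fun u hu hu0 => ?_, hi⟩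
  by_contra hcon
  push Not at hcon
  exact hu0 (hn u hu hcon)

omit [Fintype F] in
theorem nd_of_hasND {W : Submodule F (Fin n → F)}
    (h : ∀ u ∈ W, u ≠ 0 → ∃ v ∈ W, Cfsg.hermForm n F q u v ≠ 0) : ND (Cfsg.hermForm n F q) W := by
  intro u hu h0
  by_contra hne
  obtain ⟨v, hv, hv'⟩ := h u hu hne
  exact hv' (h0 v hv)

omit [Fintype F] in
theorem hasND_smul {m : ℕ} {y : Module.End F (Fin n → F)} (w : F) (h : HasND q m y) : HasND q m (w • y) := by
  obtain ⟨W, h1, h2, h3⟩ := h
  exact ⟨W, h1, h2, S5953.pow_mem_of y w h3⟩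

omit [Fintype F] in
theorem inj_of_pow {y : Module.End F (Fin n → F)} {r : ℕ} (hr : 0 < r) {z : F} (hz : z ≠ 0)
    (hy : y ^ r = z • 1) : Function.Injective y := fun u v huv => by
  have h1 := congrArg (fun w => (y ^ (r - 1)) w) huv
  simp only [← Module.End.mul_apply, ← pow_succ, show r - 1 + 1 = r by omega, hy, LinearMap.smul_apply,
    Module.End.one_apply] at h1
  exact smul_right_injective _ hz h1

/-- Non-degenerate subspaces of every dimension inside an eigenspace. -/
theorem scalar_nd (hF : Fintype.card F = q ^ 2) {y : Module.End F (Fin n → F)}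
    (hy : ∀ u v, Cfsg.hermForm n F q (y u) (y v) = Cfsg.hermForm n F q u v) (hyi : Function.Injective y)
    {R : Submodule F (Fin n → F)} {a : F} (hRa : ∀ v ∈ R, y v = a • v) (hR : ND (Cfsg.hermForm n F q) R)
    {d : ℕ} (hd : d ≤ finrank F ↥R) :
    ∃ W, W ≤ R ∧ W.map y ≤ W ∧ ND (Cfsg.hermForm n F q) W ∧ finrank F ↥W = d := by
  have hH := herm_hermForm (F := F) (n := n) hF
  obtain ⟨N, hN, hW⟩ := exists_nd_iter hH hF hy hyi (T := R) one_pos
    (fun R' hR' _ hn hne => step_scalar hH hF (fun v hv => hRa v (hR' hv)) hn hne) R le_rfl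
    (by rintro _ ⟨v, hv, rfl⟩; rw [hRa v hv]; exact R.smul_mem _ hv) hR
  rw [one_mul] at hN
  obtain ⟨W, h1, h2, h3, h4⟩ := hW d (hN ▸ hd)
  exact ⟨W, h1, h2, h3, by rw [h4, one_mul]⟩

/-- Gluing the fixed and the moved part. -/
theorem glue_nd (hF : Fintype.card F = q ^ 2) {y : Module.End F (Fin n → F)} {r : ℕ} [Fact r.Prime]
    (hy : ∀ u v, Cfsg.hermForm n F q (y u) (y v) = Cfsg.hermForm n F q u v) (hr : (r : F) ≠ 0)
    (hyr : y ^ r = 1) {W : Submodule F (Fin n → F)} (hW : W ≤ LinearMap.range (y - 1)) (hWi : W.map y ≤ W)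
    (hWn : ND (Cfsg.hermForm n F q) W) {d : ℕ} (hd : d ≤ finrank F ↥(LinearMap.ker (y - 1))) :
    HasND q (finrank F ↥W + d) y := by
  obtain ⟨hK, -, horth⟩ := S5953.components hF hy hr hyr
  have hH := herm_hermForm (F := F) (n := n) hF
  have hyi := inj_of_pow (Fact.out : r.Prime).pos one_ne_zero (by rw [hyr, one_smul] : y ^ r = (1 : F) • 1)
  obtain ⟨U, hU, hUi, hUn, hUd⟩ := scalar_nd hF hy hyi (a := 1) (fun v hv => by
    rw [LinearMap.mem_ker, LinearMap.sub_apply, Module.End.one_apply, sub_eq_zero] at hv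
    rw [hv, one_smul]) hK hd
  obtain ⟨h1, h2⟩ := nd_sup hH hF hWn hUn fun a ha b hb => horth b (hU hb) a (hW ha)
  exact hasND_of (by rw [h2, hUd]) h1 (by rw [Submodule.map_sup]; exact sup_le_sup hWi hUi)

/-- Positive direction for elements of order `r`. -/
theorem pos_power (hF : Fintype.card F = q ^ 2) {y : Module.End F (Fin n → F)} {r : ℕ} [Fact r.Prime]
    (hy : ∀ u v, Cfsg.hermForm n F q (y u) (y v) = Cfsg.hermForm n F q u v) (hr : (r : F) ≠ 0)
    (hyr : y ^ r = 1) {m b c : ℕ} (hm : m ≤ n) (hb : b = orderOf (Fintype.card F : ZMod r))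
    (hc : c = orderOf (-(q : ZMod r))) (hcase : c = 2 * b ∨ (c = b ∧ Odd b ∧ r ∣ q ^ b + 1)) (hcpos : 0 < c)
    (hk : m % c ≤ n % c) : HasND q m y := by
  have hH := herm_hermForm (F := F) (n := n) hF
  have hyi := inj_of_pow (Fact.out : r.Prime).pos one_ne_zero (by rw [hyr, one_smul] : y ^ r = (1 : F) • 1)
  obtain ⟨-, hR, -⟩ := S5953.components hF hy hr hyr
  obtain ⟨A, hA, hW⟩ := exists_nd_iter hH hF hy hyi (T := LinearMap.range (y - 1)) hcpos
    (fun R hRT hRi hRn hne => step_nd hH hF hy hr hyr hyi hb hc hcase hRT hRi hRn hne) _ le_rfl (range_inv y) hR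
  have hdim := LinearMap.finrank_range_add_finrank_ker (y - 1)
  rw [Module.finrank_fin_fun, hA] at hdim
  have he : n % c ≤ finrank F ↥(LinearMap.ker (y - 1)) := by
    calc n % c = (c * A + finrank F ↥(LinearMap.ker (y - 1))) % c := congrArg (· % c) hdim.symm
      _ ≤ _ := by rw [Nat.mul_add_mod]; exact Nat.mod_le _ _
  obtain ⟨W, hW1, hW2, hW3, hW4⟩ := hW (min (m / c) A) (min_le_right _ _)
  have hj : m - finrank F ↥W ≤ finrank F ↥(LinearMap.ker (y - 1)) := by
    rw [hW4]
    have := Nat.div_add_mod m c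
    rcases le_total (m / c) A with h | h
    · rw [min_eq_left h]; omega
    · rw [min_eq_right h]; omega
  have hle : finrank F ↥W ≤ m := by
    rw [hW4]
    exact (Nat.mul_le_mul_left c (min_le_left _ _)).trans (Nat.mul_div_le m c)
  have := glue_nd hF hy hr hyr hW1 hW2 hW3 hj
  rwa [show finrank F ↥W + (m - finrank F ↥W) = m by omega] at this

/-- Eigenvalues `±1` for an anti-isometry. -/
theorem anti_parts (hF : Fintype.card F = q ^ 2) {y : Module.End F (Fin n → F)} (h2 : (2 : F) ≠ 0)
    (hy2 : y ^ 2 = 1) (hy : ∀ u v, Cfsg.hermForm n F q (y u) (y v) = - Cfsg.hermForm n F q u v)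
    (hq : Odd q) {W : Submodule F (Fin n → F)} (hWi : W.map y ≤ W) :
    TI (Cfsg.hermForm n F q) (W ⊓ LinearMap.ker (y - 1)) ∧ TI (Cfsg.hermForm n F q) (W ⊓ LinearMap.range (y - 1)) ∧
      W ⊓ LinearMap.ker (y - 1) ⊔ W ⊓ LinearMap.range (y - 1) = W ∧
      (W ⊓ LinearMap.ker (y - 1)) ⊓ (W ⊓ LinearMap.range (y - 1)) = ⊥ := by
  have hK : ∀ v ∈ LinearMap.ker (y - 1), y v = (1 : F) • v := fun v hv => by
    rw [LinearMap.mem_ker, LinearMap.sub_apply, Module.End.one_apply, sub_eq_zero] at hv
    rw [hv, one_smul]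
  have hR : ∀ v ∈ LinearMap.range (y - 1), y v = (-1 : F) • v := by
    rintro _ ⟨u, rfl⟩
    have h := LinearMap.congr_fun hy2 u
    rw [pow_two, Module.End.mul_apply, Module.End.one_apply] at h
    simp only [LinearMap.sub_apply, Module.End.one_apply, map_sub, h, neg_smul, one_smul]
    abel
  have hTI : ∀ (a : F) (U : Submodule F (Fin n → F)), a * a ^ q = 1 → (∀ v ∈ U, y v = a • v) →
      TI (Cfsg.hermForm n F q) U := by
    intro a U ha hU u hu v hv
    have h1 := hy u v
    rw [hU u hu, hU v hv, herm_smul_left, herm_smul_right] at h1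
    rw [← mul_assoc, ha, one_mul, eq_neg_iff_add_eq_zero, ← two_mul] at h1
    exact (mul_eq_zero.1 h1).resolve_left h2
  refine ⟨hTI 1 _ (by simp) fun v hv => hK v hv.2, hTI (-1) _ ?_ fun v hv => hR v hv.2, ?_, ?_⟩
  · rw [hq.neg_one_pow, neg_one_mul, neg_neg]
  · refine le_antisymm (sup_le inf_le_left inf_le_left) fun v hv => ?_
    have hyv : y v ∈ W := map_le_iff'.1 hWi v hv
    have hyy : y (y v) = v := by
      rw [← Module.End.mul_apply, ← pow_two, hy2]; rfl
    have e : v = (2 : F)⁻¹ • (v + y v) + (2 : F)⁻¹ • (v - y v) := by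
      rw [← smul_add, add_add_sub_cancel, ← two_smul F v, smul_smul, inv_mul_cancel₀ h2, one_smul]
    rw [e]
    refine Submodule.add_mem_sup ⟨W.smul_mem _ (W.add_mem hv hyv), Submodule.smul_mem _ _ ?_⟩
      ⟨W.smul_mem _ (W.sub_mem hv hyv), Submodule.smul_mem _ _ ⟨-v, ?_⟩⟩
    · rw [LinearMap.mem_ker, LinearMap.sub_apply, Module.End.one_apply, map_add, hyy]; abel
    · rw [LinearMap.sub_apply, Module.End.one_apply, map_neg]; abel
  · exact eq_bot_iff.2 ((inf_le_inf inf_le_right inf_le_right).trans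
      (disjoint_ker_range (r := 2) (by exact_mod_cast h2) hy2).le_bot)

end Helpers

section Unipotent

variable {F : Type*} [Field F] [Fintype F] {q p : ℕ}

/-- A unipotent isometry with given Jordan block sizes. -/
def Model (F : Type*) [Field F] (q p n : ℕ) (μ : Multiset ℕ) : Prop :=
  ∃ u : Module.End F (Fin n → F), (∀ x y, Cfsg.hermForm n F q (u x) (u y) = Cfsg.hermForm n F q x y) ∧
    (u - 1) ^ p = 0 ∧ ∀ k, finrank F ↥(LinearMap.range ((u - 1) ^ k)) = prof μ k

omit [Fintype F] in
theorem inj_of_unipotent {n : ℕ} {u : Module.End F (Fin n → F)} (hu : (u - 1) ^ p = 0) :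
    Function.Injective u := by
  intro x y hxy
  have hz : ∀ k, ((u - 1) ^ k) (x - y) = (-1 : F) ^ k • (x - y) := by
    intro k
    induction k with
    | zero => simp
    | succ k ih =>
      rw [pow_succ' (u - 1), Module.End.mul_apply, ih, map_smul, LinearMap.sub_apply, Module.End.one_apply,
        map_sub, hxy, sub_self, zero_sub, pow_succ, mul_smul, neg_one_smul]
  have h1 := hz p
  rw [hu, LinearMap.zero_apply, eq_comm, smul_eq_zero] at h1
  exact sub_eq_zero.1 (h1.resolve_left (pow_ne_zero _ (neg_ne_zero.2 one_ne_zero)))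

theorem model_single_of (hF : Fintype.card F = q ^ 2) {a : ℕ} (ha : 0 < a) {u : Module.End F (Fin a → F)}
    (hu : ∀ x y, Cfsg.hermForm a F q (u x) (u y) = Cfsg.hermForm a F q x y) (hp : (u - 1) ^ p = 0)
    (ha1 : (u - 1) ^ (a - 1) ≠ 0) : Model F q p a {a} := by
  obtain ⟨μ, hμ, hk, -⟩ := exists_jordan (herm_hermForm hF) hF hu (inj_of_unipotent hp) hp ⊤ le_top (nd_top hF)
  have hμe : μ = {a} := by
    have hsum : μ.sum = a := by
      have := hk 0
      rw [prof_zero, pow_zero, Module.End.one_eq_id, Submodule.map_id, finrank_top, Module.finrank_fin_fun] at this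
      exact this.symm
    obtain ⟨x, hx, hxa⟩ : ∃ x ∈ μ, a - 1 < x := by
      by_contra hcon
      push Not at hcon
      refine ha1 (LinearMap.range_eq_bot.1 (Submodule.finrank_eq_zero.1 ?_))
      rw [LinearMap.range_eq_map, hk, prof]
      exact Multiset.sum_eq_zero fun y hy => by
        obtain ⟨z, hz, rfl⟩ := Multiset.mem_map.1 hy
        have := hcon z hz
        omega
    obtain ⟨μ', rfl⟩ := Multiset.exists_cons_of_mem hx
    rw [Multiset.sum_cons] at hsum
    have h0 : μ' = 0 := Multiset.eq_zero_of_forall_notMem fun y hy => by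
      have h1 := Multiset.le_sum_of_mem hy
      have h2 := (hμ y (Multiset.mem_cons_of_mem hy)).1
      omega
    subst h0
    simp only [Multiset.sum_zero, add_zero] at hsum
    rw [hsum]; rfl
  exact ⟨u, hu, hp, fun k => by rw [LinearMap.range_eq_map, hk, hμe]⟩

theorem model_single (hF : Fintype.card F = q ^ 2) [Fact p.Prime] [CharP F p] {a : ℕ} (ha : 0 < a)
    (hap : a ≤ p) : Model F q p a {a} := by
  classical
  have hpp : p.Prime := Fact.out
  rcases eq_or_ne a 1 with rfl | ha1
  · refine model_single_of hF ha (u := 1) (fun x y => rfl) (by rw [sub_self, zero_pow hpp.ne_zero]) ?_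
    simp
  rcases hpp.eq_two_or_odd' with hp2 | hpo
  · subst hp2
    obtain rfl : a = 2 := by omega
    refine model_single_of hF ha (u := LinearMap.funLeft F F (Equiv.swap (0 : Fin 2) 1)) ?_ ?_ ?_
    · intro x y
      simp only [Cfsg.hermForm, LinearMap.funLeft_apply]
      exact Equiv.sum_comp (Equiv.swap (0 : Fin 2) 1) fun i => x i * y i ^ q
    · refine LinearMap.ext fun v => funext fun i => ?_
      rw [pow_two, Module.End.mul_apply]
      simp only [LinearMap.sub_apply, Module.End.one_apply, LinearMap.funLeft_apply, Pi.sub_apply,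
        Equiv.swap_apply_self, LinearMap.zero_apply, Pi.zero_apply]
      have h2 : (2 : F) = 0 := by exact_mod_cast CharP.cast_eq_zero F 2
      linear_combination (v i - v (Equiv.swap 0 1 i)) * h2
    · intro e
      have h1 := congrFun (LinearMap.congr_fun e (Pi.single 0 1)) 0
      simp [LinearMap.funLeft_apply] at h1
  have h2 : (2 : F) ≠ 0 := fun e => by
    have h1 : ((2 : ℕ) : F) = 0 := by exact_mod_cast e
    rw [CharP.cast_eq_zero_iff F p] at h1
    have := Nat.le_of_dvd two_pos h1
    obtain ⟨t, ht⟩ := hpo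
    omega
  -- a twisted form with a skew shift
  obtain ⟨s₀, hs₀, hs₀q⟩ := exists_skew hF
  set c : F := if Even a then s₀ else 1 with hcdef
  have hc0 : c ≠ 0 := by
    rw [hcdef]; split_ifs
    exacts [hs₀, one_ne_zero]
  have hcq : c ^ q = c * (-1) ^ (a - 1) := by
    rw [hcdef]; split_ifs with he
    · have ho : Odd (a - 1) := by
        obtain ⟨t, ht⟩ := he
        exact ⟨t - 1, by omega⟩
      rw [ho.neg_one_pow]
      linear_combination hs₀q
    · obtain ⟨t, ht⟩ := Nat.not_even_iff_odd.1 he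
      rw [one_pow, one_mul, Even.neg_one_pow ⟨t, by omega⟩]
  let β : (Fin a → F) → (Fin a → F) → F := fun x y => ∑ i : Fin a, c * (-1) ^ (i : ℕ) * x i * y i.rev ^ q
  have hβadd : ∀ x x' y, β (x + x') y = β x y + β x' y := fun x x' y => by
    simp only [β, Pi.add_apply, ← Finset.sum_add_distrib]
    exact Finset.sum_congr rfl fun i _ => by ring
  have hβsmul : ∀ (t : F) x y, β (t • x) y = t * β x y := fun t x y => by
    simp only [β, Pi.smul_apply, smul_eq_mul, Finset.mul_sum]
    exact Finset.sum_congr rfl fun i _ => by ring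
  have hβconj : ∀ x y, β y x = β x y ^ q := fun x y => by
    simp only [β]
    rw [sum_pow_q hF, ← Equiv.sum_comp Fin.revPerm fun i : Fin a => c * (-1) ^ (i : ℕ) * y i * x i.rev ^ q]
    refine Finset.sum_congr rfl fun i _ => ?_
    simp only [Fin.revPerm_apply, Fin.rev_rev, mul_pow, pow_q_q hF]
    rw [hcq]
    have hneg : ((-1 : F) ^ (i : ℕ)) ^ q = (-1) ^ (i : ℕ) := by
      rw [← pow_mul, mul_comm, pow_mul]
      congr 1
      rw [neg_pow_q hF, one_pow]
    have hsq : ((-1 : F) ^ (i : ℕ)) * (-1) ^ (i : ℕ) = 1 := by rw [← mul_pow, neg_one_mul, neg_neg, one_pow]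
    have hadd : (-1 : F) ^ (a - 1) = (-1) ^ (i.rev : ℕ) * (-1) ^ (i : ℕ) := by
      rw [← pow_add, Fin.val_rev]
      congr 1
      omega
    rw [hneg, hadd]
    linear_combination -(c * (-1) ^ (i.rev : ℕ) * x i ^ q * y i.rev) * hsq
  have hβnd : ∀ x, (∀ y, β x y = 0) → x = 0 := by
    intro x hx
    funext i
    have h1 := hx (Pi.single i.rev 1)
    simp only [β] at h1
    rw [Finset.sum_eq_single i (fun j _ hj => by
      rw [Pi.single_eq_of_ne (fun e => hj (Fin.rev_injective e)), zero_pow_q hF, mul_zero]) (by simp),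
      Pi.single_eq_same, one_pow, mul_one, mul_eq_zero] at h1
    exact h1.resolve_left (mul_ne_zero hc0 (pow_ne_zero _ (neg_ne_zero.2 one_ne_zero)))
  obtain ⟨T, hT⟩ := S5982.exists_iso hF β hβadd hβsmul hβconj hβnd
  let K₀ : Module.End F (Fin a → F) :=
    { toFun := fun x i => if h : 0 < (i : ℕ) then x ⟨i - 1, by omega⟩ else 0
      map_add' := fun x x' => funext fun i => by
        simp only [Pi.add_apply]
        split_ifs <;> simp
      map_smul' := fun t x => funext fun i => by
        simp only [Pi.smul_apply, RingHom.id_apply]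
        split_ifs <;> simp }
  have hK₀ : ∀ x i, K₀ x i = if h : 0 < (i : ℕ) then x ⟨i - 1, by omega⟩ else 0 := fun x i => rfl
  obtain ⟨a', rfl⟩ : ∃ a', a = a' + 1 := ⟨a - 1, by omega⟩
  have hskew : ∀ x y, β (K₀ x) y + β x (K₀ y) = 0 := by
    intro x y
    simp only [β]
    rw [Fin.sum_univ_succ, Fin.sum_univ_castSucc (f := fun i : Fin (a' + 1) => c * (-1) ^ (i : ℕ) * x i * K₀ y i.rev ^ q)]
    have e0 : K₀ x 0 = 0 := by rw [hK₀]; exact dif_neg (by simp)
    have e1 : K₀ y (Fin.last a').rev = 0 := by rw [hK₀]; exact dif_neg (by simp)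
    simp only [e0, e1, zero_pow_q hF, mul_zero, zero_mul, add_zero, zero_add]
    rw [← Finset.sum_add_distrib]
    refine Finset.sum_eq_zero fun i _ => ?_
    rw [hK₀ x i.succ, dif_pos (by simp), hK₀ y i.castSucc.rev, dif_pos (by simp [Fin.val_rev])]
    have e2 : (⟨(i.succ : ℕ) - 1, by omega⟩ : Fin (a' + 1)) = i.castSucc := Fin.ext (by simp)
    have e3 : (⟨(i.castSucc.rev : ℕ) - 1, by omega⟩ : Fin (a' + 1)) = i.succ.rev :=
      Fin.ext (by simp [Fin.val_rev]; omega)
    rw [e2, e3, Fin.val_succ, Fin.val_castSucc, pow_succ]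
    ring
  have hK₀pow : ∀ (k : ℕ) x (i : Fin (a' + 1)),
      (K₀ ^ k) x i = if h : k ≤ (i : ℕ) then x ⟨i - k, by omega⟩ else 0 := by
    intro k
    induction k with
    | zero => intro x i; simp
    | succ k ih =>
      intro x i
      rw [pow_succ, Module.End.mul_apply, ih]
      by_cases h : k + 1 ≤ (i : ℕ)
      · rw [dif_pos (by omega), dif_pos h, hK₀, dif_pos (show 0 < (i : ℕ) - k by omega)]
        exact congrArg x (Fin.ext (show (i : ℕ) - k - 1 = (i : ℕ) - (k + 1) by omega))
      · rw [dif_neg h]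
        split_ifs with h'
        · rw [hK₀]; exact dif_neg (show ¬ 0 < (i : ℕ) - k by omega)
        · rfl
  have hK₀a : K₀ ^ (a' + 1) = 0 := LinearMap.ext fun x => funext fun i => by
    rw [hK₀pow, dif_neg (by omega)]; rfl
  set K : Module.End F (Fin (a' + 1) → F) := T.conj K₀ with hK
  have hKpow : ∀ k, K ^ k = T.conj (K₀ ^ k) := fun k => by
    induction k with
    | zero => simp [Module.End.one_eq_id]
    | succ k ih => rw [pow_succ, ih, hK, pow_succ]; exact (T.conj_comp _ _).symm
  have hKnil : K ^ (a' + 1) = 0 := by rw [hKpow, hK₀a, map_zero]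
  have hKskew : ∀ x y, Cfsg.hermForm (a' + 1) F q (K x) y + Cfsg.hermForm (a' + 1) F q x (K y) = 0 := by
    intro x y
    have h1 := hskew (T.symm x) (T.symm y)
    rw [hT, hT, T.apply_symm_apply, T.apply_symm_apply] at h1
    rw [hK, LinearEquiv.conj_apply_apply, LinearEquiv.conj_apply_apply]
    exact h1
  obtain ⟨v, hv⟩ := IsUnit.exists_right_inv (IsNilpotent.isUnit_one_sub (r := K) ⟨a' + 1, hKnil⟩)
  set u : Module.End F (Fin (a' + 1) → F) := (1 + K) * v with hu
  have huiso : ∀ x y, Cfsg.hermForm (a' + 1) F q (u x) (u y) = Cfsg.hermForm (a' + 1) F q x y := by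
    intro x y
    conv_rhs => rw [← Module.End.one_apply (R := F) x, ← Module.End.one_apply (R := F) y, ← hv]
    simp only [hu, Module.End.mul_apply, LinearMap.add_apply, LinearMap.sub_apply, Module.End.one_apply,
      herm_add_left, herm_add_right hF, herm_sub_left, herm_sub_right hF]
    linear_combination 2 * hKskew (v x) (v y)
  have hu1 : u - 1 = (2 : F) • (K * v) := by
    rw [hu, two_smul]
    nth_rw 2 [← hv]
    rw [add_mul, sub_mul, one_mul]
    abel
  have hcomm : Commute K v := by
    have hv' : v * (1 - K) = 1 := mul_eq_one_comm.1 hv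
    have h1 : (1 - K) * K = K * (1 - K) := by rw [sub_mul, mul_sub, one_mul, mul_one]
    calc K * v = v * (1 - K) * (K * v) := by rw [hv', one_mul]
      _ = v * ((1 - K) * K) * v := by noncomm_ring
      _ = v * (K * (1 - K)) * v := by rw [h1]
      _ = v * K * ((1 - K) * v) := by noncomm_ring
      _ = v * K := by rw [hv, mul_one]
  refine model_single_of hF ha huiso ?_ ?_
  · obtain ⟨d, hd⟩ : ∃ d, p = a' + 1 + d := ⟨p - (a' + 1), by omega⟩
    rw [hu1, _root_.smul_pow, hcomm.mul_pow, hd, pow_add K, hKnil, zero_mul, zero_mul, smul_zero]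
  · rw [Nat.add_sub_cancel, hu1, _root_.smul_pow, hcomm.mul_pow]
    intro e
    rw [smul_eq_zero] at e
    have e' := e.resolve_left (pow_ne_zero _ h2)
    have hvu : IsUnit (v ^ a') :=
      (IsUnit.of_mul_eq_one_right (1 - K) hv).pow a'
    rw [hvu.mul_left_eq_zero, hKpow, LinearEquiv.map_eq_zero_iff] at e'
    have h1 := congrFun (LinearMap.congr_fun e' (Pi.single 0 1)) (Fin.last a')
    rw [hK₀pow, dif_pos (by simp)] at h1
    simp [Pi.single_apply, Fin.ext_iff] at h1

omit [Fintype F] in
theorem finrank_prod_sub {V W : Type*} [AddCommGroup V] [Module F V] [AddCommGroup W] [Module F W]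
    [FiniteDimensional F V] [FiniteDimensional F W] (P : Submodule F V) (Q : Submodule F W) :
    finrank F ↥(P.prod Q) = finrank F ↥P + finrank F ↥Q := by
  have h : LinearMap.range (P.subtype.prodMap Q.subtype) = P.prod Q := by
    rw [LinearMap.range_prodMap, Submodule.range_subtype, Submodule.range_subtype]
  rw [← h, LinearMap.finrank_range_of_inj, Module.finrank_prod]
  exact P.injective_subtype.prodMap Q.injective_subtype

omit [Fintype F] in
theorem Model.append {a b : ℕ} {μ ν : Multiset ℕ} (ha : Model F q p a μ) (hb : Model F q p b ν) :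
    Model F q p (a + b) (μ + ν) := by
  obtain ⟨u, hu, hup, huk⟩ := ha
  obtain ⟨w, hw, hwp, hwk⟩ := hb
  let e : (Fin (a + b) → F) ≃ₗ[F] (Fin a → F) × (Fin b → F) :=
    { toFun := fun x => (fun i => x (Fin.castAdd b i), fun j => x (Fin.natAdd a j))
      map_add' := fun x y => rfl
      map_smul' := fun t x => rfl
      invFun := fun x => Fin.append x.1 x.2
      left_inv := fun x => funext fun i => by
        induction i using Fin.addCases with
        | left l => simp
        | right j => simp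
      right_inv := fun x => by simp }
  set Z : Module.End F (Fin (a + b) → F) := e.symm.conj (u.prodMap w) with hZ
  have hsum : ∀ x y, Cfsg.hermForm (a + b) F q x y =
      Cfsg.hermForm a F q (e x).1 (e y).1 + Cfsg.hermForm b F q (e x).2 (e y).2 := fun x y =>
    Fin.sum_univ_add _
  have hZe : ∀ x, e (Z x) = (u (e x).1, w (e x).2) := fun x => by
    rw [hZ, LinearEquiv.conj_apply_apply, LinearEquiv.symm_symm, LinearEquiv.apply_symm_apply]
    rfl
  have hpow : ∀ (k : ℕ) (x : Fin (a + b) → F), e (((Z - 1) ^ k) x) = (((u - 1) ^ k) (e x).1, ((w - 1) ^ k) (e x).2) := by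
    intro k
    induction k with
    | zero => intro x; rfl
    | succ k ih =>
      intro x
      rw [pow_succ, pow_succ, pow_succ, Module.End.mul_apply, ih, LinearMap.sub_apply, Module.End.one_apply,
        map_sub, hZe]
      rfl
  refine ⟨Z, fun x y => ?_, ?_, fun k => ?_⟩
  · rw [hsum, hsum x y, hZe, hZe, hu, hw]
  · refine LinearMap.ext fun x => e.injective ?_
    rw [hpow, hup, hwp, LinearMap.zero_apply, LinearMap.zero_apply, LinearMap.zero_apply, map_zero]
    rfl
  · have h1 : (LinearMap.range ((Z - 1) ^ k)).map (e : (Fin (a + b) → F) →ₗ[F] _) =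
        (LinearMap.range ((u - 1) ^ k)).prod (LinearMap.range ((w - 1) ^ k)) := by
      ext y
      constructor
      · rintro ⟨_, ⟨x, rfl⟩, rfl⟩
        rw [LinearEquiv.coe_coe, hpow]
        exact ⟨⟨_, rfl⟩, ⟨_, rfl⟩⟩
      · rintro ⟨⟨x₁, h1⟩, ⟨x₂, h2⟩⟩
        refine ⟨_, ⟨e.symm (x₁, x₂), rfl⟩, ?_⟩
        rw [LinearEquiv.coe_coe, hpow, LinearEquiv.apply_symm_apply, h1, h2]
    rw [← LinearEquiv.finrank_map_eq e, h1, finrank_prod_sub, huk, hwk]
    simp [prof]

theorem exists_model (hF : Fintype.card F = q ^ 2) [Fact p.Prime] [CharP F p] {μ : Multiset ℕ}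
    (hμ : ∀ a ∈ μ, 0 < a ∧ a ≤ p) : Model F q p μ.sum μ := by
  induction μ using Multiset.induction_on with
  | empty =>
    refine ⟨1, fun x y => rfl, by rw [sub_self, zero_pow (Fact.out : p.Prime).ne_zero], fun k => ?_⟩
    have := Submodule.finrank_le (LinearMap.range ((1 - 1 : Module.End F (Fin (Multiset.sum 0) → F)) ^ k))
    rw [Module.finrank_fin_fun] at this
    simp only [Multiset.sum_zero] at this
    simp [prof]
    omega
  | cons a μ ih =>
    rw [Multiset.sum_cons, ← Multiset.singleton_add]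
    exact (model_single hF (hμ a (Multiset.mem_cons_self a μ)).1 (hμ a (Multiset.mem_cons_self a μ)).2).append
      (ih fun x hx => hμ x (Multiset.mem_cons_of_mem hx))

end Unipotent

section Char

variable {F : Type*} [Field F] [Fintype F] {p : ℕ} [Fact p.Prime] [CharP F p] {q n : ℕ}

omit [Fintype F] in
theorem sub_one_pow_char {V : Type*} [AddCommGroup V] [Module F V] (y : Module.End F V) :
    (y - 1) ^ p = y ^ p - 1 := by
  have h := congrArg (Polynomial.aeval y) (sub_pow_char (p := p) (X : F[X]) 1)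
  simpa using h

/-- Elements of order `p`: existence. -/
theorem char_pos (hF : Fintype.card F = q ^ 2) {m : ℕ} {T : Module.End F (Fin n → F)} {z : F}
    (hz : z ≠ 0) (hzq : z ^ (q + 1) = 1)
    (hT : ∀ u v, Cfsg.hermForm n F q (T u) (T v) = Cfsg.hermForm n F q u v) (hTp : T ^ p = z • 1)
    (hμ : ∀ μ : Multiset ℕ, (∀ a ∈ μ, 0 < a ∧ a ≤ p) → μ.sum = n → ∃ ν ≤ μ, ν.sum = m) :
    HasND q m T := by
  have hpp : p.Prime := Fact.out
  obtain ⟨w, hw⟩ : ∃ w : F, w ^ p = z :=
    (Finite.injective_iff_surjective.1 (frobenius_inj F p)) z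
  have hw0 : w ≠ 0 := fun e => hz (by rw [← hw, e, zero_pow hpp.ne_zero])
  have hw1 : w ^ (q + 1) = 1 := frobenius_inj F p (by
    rw [frobenius_def, frobenius_def, one_pow, ← pow_mul, mul_comm, pow_mul, hw, hzq])
  set y := w⁻¹ • T with hy
  have hyp : y ^ p = 1 := by
    rw [hy, _root_.smul_pow, hTp, smul_smul, inv_pow, hw, inv_mul_cancel₀ hz, one_smul]
  have hyy : ∀ u v, Cfsg.hermForm n F q (y u) (y v) = Cfsg.hermForm n F q u v := fun u v => by
    rw [hy, LinearMap.smul_apply, LinearMap.smul_apply, herm_smul_left, herm_smul_right, hT, ← mul_assoc,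
      ← pow_succ', inv_pow, hw1, inv_one, one_mul]
  have hN : (y - 1) ^ p = 0 := by rw [sub_one_pow_char, hyp, sub_self]
  obtain ⟨μ, hμp, hk, hW⟩ := exists_jordan (herm_hermForm hF) hF hyy (inj_of_unipotent hN) hN ⊤ le_top (nd_top hF)
  have hsum : μ.sum = n := by
    have := hk 0
    rw [prof_zero, pow_zero, Module.End.one_eq_id, Submodule.map_id, finrank_top, Module.finrank_fin_fun] at this
    exact this.symm
  obtain ⟨ν, hν, hνm⟩ := hμ μ hμp hsum
  obtain ⟨W, -, hWi, hWn, hWd⟩ := hW ν hν
  have := hasND_smul (q := q) w (hasND_of (hWd.trans hνm) hWn hWi)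
  rwa [hy, smul_smul, mul_inv_cancel₀ hw0, one_smul] at this

/-- Elements of order `p`: counterexamples. -/
theorem char_neg (hF : Fintype.card F = q ^ 2) {m : ℕ} (hn : 0 < n) (hmn : m ≤ n) {μ : Multiset ℕ}
    (hμ : ∀ a ∈ μ, 0 < a ∧ a ≤ p) (hsum : μ.sum = n) (hno : ∀ ν ≤ μ, ν.sum ≠ m) :
    ∃ x : Matrix.SpecialLinearGroup (Fin n) F, x ∈ Cfsg.SU n F q ∧
      (x : Matrix (Fin n) (Fin n) F) ^ p = (1 : F) • 1 ∧ (∀ s : F, (x : Matrix (Fin n) (Fin n) F) ≠ s • 1) ∧
      ¬ HasND q m (Matrix.toLin' (x : Matrix (Fin n) (Fin n) F)) := by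
  classical
  obtain ⟨u, hu, hN, hprof⟩ : Model F q p n μ := hsum ▸ exists_model hF hμ
  have hup : u ^ p = 1 := by
    rw [← sub_eq_zero, ← sub_one_pow_char]; exact hN
  have hdet : LinearMap.det u = 1 := frobenius_inj F p (by
    rw [frobenius_def, frobenius_def, ← map_pow, hup, map_one, one_pow])
  refine ⟨⟨LinearMap.toMatrix' u, by rw [LinearMap.det_toMatrix', hdet]⟩, fun a b => ?_, ?_, fun s hs => ?_, ?_⟩
  · show Cfsg.hermForm n F q (LinearMap.toMatrix' u *ᵥ a) (LinearMap.toMatrix' u *ᵥ b) = _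
    rw [LinearMap.toMatrix'_mulVec, LinearMap.toMatrix'_mulVec, hu]
  · apply Matrix.toLin'.injective
    rw [Matrix.toLin'_pow, Matrix.toLin'_toMatrix', hup, one_smul, Matrix.toLin'_one]; rfl
  · have hu1 : u = s • 1 := by
      have := congrArg Matrix.toLin' hs
      rw [Matrix.toLin'_toMatrix', map_smul, Matrix.toLin'_one] at this
      exact this
    have hs1 : s = 1 := by
      have h1 := hup
      rw [hu1, _root_.smul_pow, one_pow] at h1
      refine frobenius_inj F p ?_
      rw [frobenius_def, frobenius_def, one_pow]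
      have h2 := congrFun (LinearMap.congr_fun h1 (Pi.single ⟨0, hn⟩ 1)) ⟨0, hn⟩
      simpa using h2
    have h0 := hprof 1
    rw [hu1, hs1, one_smul, sub_self, pow_one, LinearMap.range_zero, finrank_bot, prof, eq_comm,
      Multiset.sum_eq_zero_iff] at h0
    have hall : μ = Multiset.replicate n 1 := by
      have hall1 : ∀ a ∈ μ, a = 1 := fun a ha => by
        have := h0 _ (Multiset.mem_map_of_mem _ ha)
        have := (hμ a ha).1
        omega
      have hc := Multiset.eq_replicate_card.2 hall1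
      rw [hc, Multiset.sum_replicate, smul_eq_mul, mul_one] at hsum
      rw [hc, hsum]
    exact hno (Multiset.replicate m 1) (hall ▸ (Multiset.replicate_le_replicate 1).2 hmn) (by simp)
  rintro ⟨W, hWd, hW, hWi⟩
  rw [Matrix.toLin'_toMatrix'] at hWi
  have hH := herm_hermForm (F := F) (n := n) hF
  have hWn := nd_of_hasND hW
  have hui := inj_of_unipotent hN
  obtain ⟨hP, hsup, hbot⟩ := split hH hF (nd_top hF) le_top hWn
  rw [top_inf_eq] at hP hsup hbot
  have hPi := orth_invariant hH hu hui hWi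
  obtain ⟨μ₁, hμ₁, hk₁, -⟩ := exists_jordan hH hF hu hui hN W hWi hWn
  obtain ⟨μ₂, hμ₂, hk₂, -⟩ := exists_jordan hH hF hu hui hN _ hPi hP
  have heq : μ = μ₁ + μ₂ := by
    refine eq_of_prof (fun a ha => (hμ a ha).1) (fun a ha => ?_) fun k => ?_
    · rcases Multiset.mem_add.1 ha with h | h
      exacts [(hμ₁ a h).1, (hμ₂ a h).1]
    · have h1 := finrank_map_sup (N := (u - 1) ^ k) (map_pow_le (map_sub_one_le hWi) k)
        (map_pow_le (map_sub_one_le hPi) k) hbot
      rw [hsup, ← LinearMap.range_eq_map, hprof, hk₁, hk₂] at h1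
      rw [h1]
      simp [prof]
  refine hno μ₁ (heq ▸ Multiset.le_add_right μ₁ μ₂) ?_
  have := hk₁ 0
  rw [prof_zero, pow_zero, Module.End.one_eq_id, Submodule.map_id, hWd] at this
  exact this.symm

omit [Fintype F] in
theorem partition_two {n m : ℕ} (hmn : 2 * m < n) :
    (∀ μ : Multiset ℕ, (∀ a ∈ μ, 0 < a ∧ a ≤ 2) → μ.sum = n → ∃ ν ≤ μ, ν.sum = m) ↔ (Odd n ∨ Even m) := by
  constructor
  · intro h
    by_contra hcon
    rw [not_or, Nat.not_odd_iff_even, Nat.not_even_iff_odd] at hcon
    obtain ⟨⟨t, ht⟩, ⟨s, hs⟩⟩ := hcon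
    obtain ⟨ν, hν, hνs⟩ := h (Multiset.replicate t 2) (fun a ha => by rw [Multiset.eq_of_mem_replicate ha]; omega)
      (by simp; omega)
    obtain ⟨l, -, rfl⟩ := Multiset.le_replicate_iff.1 hν
    rw [Multiset.sum_replicate, smul_eq_mul] at hνs
    omega
  · intro h μ hμ hsum
    have hsplit : μ = Multiset.replicate (μ.count 1) 1 + Multiset.replicate (μ.count 2) 2 := by
      refine Multiset.ext.2 fun a => ?_
      rw [Multiset.count_add, Multiset.count_replicate, Multiset.count_replicate]
      by_cases ha : a ∈ μ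
      · rcases (show a = 1 ∨ a = 2 by have := hμ a ha; omega) with rfl | rfl <;> simp
      · rw [Multiset.count_eq_zero.2 ha]
        split_ifs with h1 h2 h2 <;> subst_vars <;> simp_all [Multiset.count_eq_zero.2]
    set s := μ.count 1
    set t := μ.count 2
    have hn : s + 2 * t = n := by
      rw [hsplit, Multiset.sum_add, Multiset.sum_replicate, Multiset.sum_replicate, smul_eq_mul, smul_eq_mul] at hsum
      omega
    obtain ⟨i, j, hi, hj, hij⟩ : ∃ i j, i ≤ s ∧ j ≤ t ∧ i + 2 * j = m := by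
      refine ⟨m - 2 * min t (m / 2), min t (m / 2), ?_, min_le_left _ _, by omega⟩
      rcases h with ⟨u, hu⟩ | ⟨u, hu⟩ <;> omega
    refine ⟨Multiset.replicate i 1 + Multiset.replicate j 2, hsplit ▸ add_le_add
      ((Multiset.replicate_le_replicate 1).2 hi) ((Multiset.replicate_le_replicate 2).2 hj), ?_⟩
    simp only [Multiset.sum_add, Multiset.sum_replicate, smul_eq_mul]
    omega

end Char

/-- Elements of prime order of PSU_n(q) with no fixed nondegenerate `m`-space. Here `T = PSU_n(q)` (`n ≥ 3`, `(n, q) ≠ (3, 2)`), realised through the matrices of determinant 1 over the field `F` with `q²` elements preserving the Hermitian form `h(u, v) = Σ u_i v_i^q`; an element of `T` of prime order `r` is such a matrix `x` with `x^r` scalar and `x` not scalar. For `r ≠ p` let `i` be the multiplicative order of `q` modulo `r`, `b = i/2` for `i` even and `b = i` for `i` odd, `c = i, i/2, 2i` according as `i ≡ 0, 2 (mod 4)` or `i` odd, and write `k = n mod c`, `ℓ = m mod b`, `ℓ' = m mod c`, `n'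 = ⌊n/b⌋`, `m' = ⌊m/b⌋`, `s = (r−1)/b`; `(a)_r` is the `r`-part of `a`. Let `1 ≤ m < n/2` and let `r` be a prime dividing the number of nondegenerate `m`-spaces. Then every element of `T` of order `r` fixes a nondegenerate `m`-space if and only if one of: (i) `r = p > 2` and every partition of `n` into parts of size at most `p` contains (as a sub-multiset) a partition of `m`; (ii) `r = p = 2` and (`n` is odd or `m` is even); (iii) `r = 2 ≠ p` and (`n` is odd, or `m` is even, or `(q+1)_2 ≥ (n)_2` and `q ≡ 3 (mod 4)`); (iv) `r ≠ p`, `r > 2`, and either `i ≠ 2`, `c ≤ m` and `k ≥ ℓ'`, or `i = 2` and (`r ∣ m` or `(q+1)_r ≥ (n)_r`). -/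
theorem result {F : Type*} [Field F] [Fintype F] {p : ℕ} [Fact p.Prime] [CharP F p] {q : ℕ} (hq : Fintype.card F = q ^ 2)
    (n m : ℕ) (hn : 3 ≤ n) (hT : (n, q) ≠ (3, 2)) (hm : 1 ≤ m) (hmn : 2 * m < n)
    (r : ℕ) [Fact r.Prime]
    (hrΩ : r ∣ Nat.card {W : Submodule F (Fin n → F) // Module.finrank F ↥W = m ∧ (∀ u ∈ W, u ≠ 0 → ∃ v ∈ W, Cfsg.hermForm n F q u v ≠ 0)})
    (i b c : ℕ) (hi : i = orderOf (q : ZMod r)) (hb : b = if Even i then i / 2 else i)
    (hc : c = if i % 4 = 0 then i else if i % 4 = 2 then i / 2 else 2 * i) :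
    (∀ x : Matrix.SpecialLinearGroup (Fin n) F, x ∈ Cfsg.SU n F q →
      (∃ z : F, ((x ^ r : Matrix.SpecialLinearGroup (Fin n) F) : Matrix (Fin n) (Fin n) F) = z • (1 : Matrix (Fin n) (Fin n) F)) →
      (∀ z : F, (x : Matrix (Fin n) (Fin n) F) ≠ z • (1 : Matrix (Fin n) (Fin n) F)) →
      ∃ W : Submodule F (Fin n → F), Module.finrank F ↥W = m ∧ (∀ u ∈ W, u ≠ 0 → ∃ v ∈ W, Cfsg.hermForm n F q u v ≠ 0) ∧
        W.map (Matrix.toLin' (x : Matrix (Fin n) (Fin n) F)) ≤ W) ↔
    ((r = p ∧ 2 < p ∧ (∀ μ : Multiset ℕ, (∀ a ∈ μ, 0 < a ∧ a ≤ p) → μ.sum = n → ∃ ν : Multiset ℕ, ν ≤ μ ∧ ν.sum = m)) ∨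
     (r = p ∧ p = 2 ∧ (Odd n ∨ Even m)) ∨
     (r = 2 ∧ p ≠ 2 ∧ (Odd n ∨ Even m ∨ (padicValNat 2 n ≤ padicValNat 2 (q + 1) ∧ q % 4 = 3))) ∨
     (r ≠ p ∧ 2 < r ∧ ((i ≠ 2 ∧ c ≤ m ∧ m % c ≤ n % c) ∨ (i = 2 ∧ (r ∣ m ∨ padicValNat r n ≤ padicValNat r (q + 1)))))) := by
  classical
  have hrp : r.Prime := Fact.out
  have hpp : p.Prime := Fact.out
  have hq2 := two_le_q hq
  haveI : Nonempty (Fin n) := ⟨⟨0, by omega⟩⟩
  have hH := herm_hermForm (F := F) (n := n) hq
  -- facts about a given element
  have hfacts : ∀ x : Matrix.SpecialLinearGroup (Fin n) F, x ∈ Cfsg.SU n F q → ∀ z : F,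
      ((x ^ r : Matrix.SpecialLinearGroup (Fin n) F) : Matrix (Fin n) (Fin n) F) = z • 1 →
      let T := Matrix.toLin' (x : Matrix (Fin n) (Fin n) F)
      z ≠ 0 ∧ z ^ (q + 1) = 1 ∧ T ^ r = z • 1 ∧ LinearMap.det T = 1 ∧
        ∀ u v, Cfsg.hermForm n F q (T u) (T v) = Cfsg.hermForm n F q u v := by
    intro x hx z hz
    have hT : ∀ u v, Cfsg.hermForm n F q (Matrix.toLin' (x : Matrix (Fin n) (Fin n) F) u)
        (Matrix.toLin' (x : Matrix (Fin n) (Fin n) F) v) = Cfsg.hermForm n F q u v := fun u v => by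
      rw [Matrix.toLin'_apply, Matrix.toLin'_apply]; exact hx u v
    rw [Matrix.SpecialLinearGroup.coe_pow] at hz
    have hTr : (Matrix.toLin' (x : Matrix (Fin n) (Fin n) F)) ^ r = z • 1 := by
      rw [← Matrix.toLin'_pow, hz, map_smul, Matrix.toLin'_one]; rfl
    have hd : LinearMap.det (Matrix.toLin' (x : Matrix (Fin n) (Fin n) F)) = 1 := by
      rw [LinearMap.det_toLin']; exact x.2
    obtain ⟨v, hv⟩ := UnitaryDerange84.exists_aniso (F := F) (n := n) hq (by omega)
    have hz1 : z ^ (q + 1) = 1 := by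
      have h1 := UnitaryDerange84.pow_apply_of_sim (b := Cfsg.hermForm n F q) (l := 1)
        (fun u v => by rw [one_mul, hT]) r v v
      rw [hTr, LinearMap.smul_apply, Module.End.one_apply, herm_smul_left, herm_smul_right, hv, one_pow,
        one_mul, mul_one] at h1
      rwa [pow_succ']
    exact ⟨fun e => by simp [e] at hz1, hz1, hTr, hd, hT⟩
  rcases eq_or_ne r p with hrp' | hrp'
  · subst hrp'
    have key : (∀ x : Matrix.SpecialLinearGroup (Fin n) F, x ∈ Cfsg.SU n F q →
        (∃ z : F, ((x ^ r : Matrix.SpecialLinearGroup (Fin n) F) : Matrix (Fin n) (Fin n) F) = z • (1 : Matrix (Fin n) (Fin n) F)) →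
        (∀ z : F, (x : Matrix (Fin n) (Fin n) F) ≠ z • (1 : Matrix (Fin n) (Fin n) F)) →
        HasND q m (Matrix.toLin' (x : Matrix (Fin n) (Fin n) F))) ↔
        (∀ μ : Multiset ℕ, (∀ a ∈ μ, 0 < a ∧ a ≤ r) → μ.sum = n → ∃ ν : Multiset ℕ, ν ≤ μ ∧ ν.sum = m) := by
      constructor
      · intro hall μ hμ hsum
        by_contra hcon
        push Not at hcon
        obtain ⟨x, hxS, hxr, hns, hno⟩ := char_neg (p := r) hq (n := n) (m := m) (by omega) (by omega) hμ hsum hcon
        exact hno (hall x hxS ⟨1, by rw [Matrix.SpecialLinearGroup.coe_pow, hxr]⟩ hns)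
      · intro hμ x hx ⟨z, hz⟩ _
        obtain ⟨hz0, hz1, hTr, -, hT⟩ := hfacts x hx z hz
        exact char_pos hq hz0 hz1 hT hTr hμ
    refine key.trans ?_
    rcases hrp.eq_two_or_odd' with h2 | hodd
    · subst h2
      rw [partition_two hmn]
      simp
    · have h2 : 2 < r := by
        have := hrp.two_le
        obtain ⟨t, ht⟩ := hodd
        omega
      constructor
      · exact fun h => Or.inl ⟨rfl, h2, h⟩
      · rintro (⟨-, -, h⟩ | ⟨-, h, -⟩ | ⟨h', h, -⟩ | ⟨h, -⟩)
        · exact h
        · omega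
        · exact absurd h' h
        · exact absurd rfl h
  have hr : (r : F) ≠ 0 := fun e => hrp'
    ((Nat.prime_dvd_prime_iff_eq hpp hrp).1 ((CharP.cast_eq_zero_iff F p r).1 e)).symm
  have hsl : (∀ x : Matrix.SpecialLinearGroup (Fin n) F, x ∈ Cfsg.SU n F q →
      (∃ z : F, ((x ^ r : Matrix.SpecialLinearGroup (Fin n) F) : Matrix (Fin n) (Fin n) F) = z • (1 : Matrix (Fin n) (Fin n) F)) →
      (∀ z : F, (x : Matrix (Fin n) (Fin n) F) ≠ z • (1 : Matrix (Fin n) (Fin n) F)) →
      HasND q m (Matrix.toLin' (x : Matrix (Fin n) (Fin n) F))) →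
      ∀ x : Matrix.SpecialLinearGroup (Fin n) F, x ∈ Cfsg.SU n F q → ∀ z : F,
      (x : Matrix (Fin n) (Fin n) F) ^ r = z • 1 → (∀ s : F, (x : Matrix (Fin n) (Fin n) F) ≠ s • 1) →
      HasND q m (Matrix.toLin' (x : Matrix (Fin n) (Fin n) F)) := fun hall x hx z hz hns =>
    hall x hx ⟨z, by rw [Matrix.SpecialLinearGroup.coe_pow, hz]⟩ hns
  rcases eq_or_ne r 2 with hr2 | hr2
  · subst hr2
    have h2 : (2 : F) ≠ 0 := by exact_mod_cast hr
    have hp2 : p ≠ 2 := hrp'.symm
    obtain ⟨k, -, hk⟩ := FiniteField.card F p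
    have hqo : Odd q := by
      have h1 : Odd (q ^ 2) := by rw [← hq, hk]; exact ((hpp.odd_of_ne_two hp2)).pow
      exact (Nat.odd_pow_iff two_ne_zero).1 h1
    obtain ⟨q₁, hq₁⟩ := hqo
    have hq1 : q + 1 ≠ 0 := by omega
    haveI : Fact (Nat.Prime 2) := ⟨Nat.prime_two⟩
    set f := padicValNat 2 (q + 1)
    obtain ⟨o, ho⟩ : 2 ^ f ∣ q + 1 := pow_padicValNat_dvd
    have hodd : Odd o := Nat.not_even_iff_odd.1 fun he => by
      obtain ⟨o', rfl⟩ := even_iff_two_dvd.1 he
      exact pow_succ_padicValNat_not_dvd (p := 2) hq1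
        ⟨o', by show q + 1 = 2 ^ (f + 1) * o'; rw [pow_succ, ho]; ring⟩
    by_cases hcond : Odd n ∨ Even m ∨ (padicValNat 2 n ≤ f ∧ q % 4 = 3)
    · refine iff_of_true ?_ (Or.inr (Or.inr (Or.inl ⟨rfl, hp2, hcond⟩)))
      intro x hx ⟨z, hz⟩ _
      obtain ⟨hz0, hz1, hTr, hdT, hT⟩ := hfacts x hx z hz
      set T := Matrix.toLin' (x : Matrix (Fin n) (Fin n) F)
      obtain ⟨w, hw⟩ : ∃ w : F, w ^ 2 = z := by
        have hring : ringChar F ≠ 2 := fun e => h2 (by
          have := ringChar.Nat.cast_ringChar (R := F)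
          rw [e] at this
          exact_mod_cast this)
        have hhalf : Fintype.card F / 2 = (q + 1) * q₁ := by
          rw [hq, hq₁, show (2 * q₁ + 1) ^ 2 = 2 * ((2 * q₁ + 1 + 1) * q₁) + 1 by ring]
          omega
        obtain ⟨b, hb⟩ := (FiniteField.isSquare_iff hring hz0).2 (by rw [hhalf, pow_mul, hz1, one_pow])
        exact ⟨b, by rw [hb, _root_.sq]⟩
      have hw0 : w ≠ 0 := fun e => hz0 (by rw [← hw, e, zero_pow two_ne_zero])
      set y := w⁻¹ • T with hy
      have hy2 : y ^ 2 = 1 := by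
        rw [hy, _root_.smul_pow, hTr, smul_smul, inv_pow, ← hw, inv_mul_cancel₀ (pow_ne_zero _ hw0), one_smul]
      have hTy : T = w • y := by rw [hy, smul_smul, mul_inv_cancel₀ hw0, one_smul]
      have hyy : ∀ u v, Cfsg.hermForm n F q (y u) (y v) = (w⁻¹) ^ (q + 1) * Cfsg.hermForm n F q u v := by
        intro u v
        rw [hy, LinearMap.smul_apply, LinearMap.smul_apply, herm_smul_left, herm_smul_right, hT, pow_succ']
        ring
      suffices HasND q m y by
        show HasND q m T
        rw [hTy]; exact hasND_smul w this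
      have hη2 : ((w⁻¹) ^ (q + 1)) ^ 2 = 1 := by
        rw [← pow_mul, mul_comm, pow_mul, inv_pow, hw, inv_pow, hz1, inv_one]
      have hdim := LinearMap.finrank_range_add_finrank_ker (y - 1)
      rw [Module.finrank_fin_fun] at hdim
      rcases sq_eq_one_iff.1 hη2 with hη | hη
      · -- an isometry
        have hiso : ∀ u v, Cfsg.hermForm n F q (y u) (y v) = Cfsg.hermForm n F q u v := fun u v => by
          rw [hyy, hη, one_mul]
        obtain ⟨-, hV1, -⟩ := S5953.components (r := 2) hq hiso hr hy2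
        obtain ⟨W, hW, hWi, hWn, hWd⟩ := scalar_nd hq hiso
          (inj_of_pow two_pos one_ne_zero (by rw [hy2, one_smul] : y ^ 2 = (1 : F) • 1)) (a := -1)
          (R := LinearMap.range (y - 1)) (by
            rintro _ ⟨u, rfl⟩
            have h := LinearMap.congr_fun hy2 u
            rw [pow_two, Module.End.mul_apply, Module.End.one_apply] at h
            simp only [LinearMap.sub_apply, Module.End.one_apply, map_sub, h, neg_smul, one_smul]
            abel) hV1 (min_le_right m (finrank F ↥(LinearMap.range (y - 1))))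
        have := glue_nd (r := 2) hq hiso hr hy2 hW hWi hWn (d := m - finrank F ↥W) (by omega)
        rwa [show finrank F ↥W + (m - finrank F ↥W) = m by omega] at this
      · -- the eigenspaces are totally isotropic
        have hanti : ∀ u v, Cfsg.hermForm n F q (y u) (y v) = - Cfsg.hermForm n F q u v := fun u v => by
          rw [hyy, hη, neg_one_mul]
        obtain ⟨hK', hR', -, -⟩ := anti_parts hq h2 hy2 hanti ⟨q₁, hq₁⟩ (W := ⊤) le_top
        rw [top_inf_eq] at hK' hR'
        have hd1 := two_mul_le hH hq (nd_top hq) le_top hK'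
        have hd2 := two_mul_le hH hq (nd_top hq) le_top hR'
        rw [finrank_top, Module.finrank_fin_fun] at hd1 hd2
        obtain ⟨hh, hh2⟩ : ∃ hh, n = 2 * hh := ⟨finrank F ↥(LinearMap.ker (y - 1)), by omega⟩
        have hdK : finrank F ↥(LinearMap.ker (y - 1)) = hh := by omega
        have hdR : finrank F ↥(LinearMap.range (y - 1)) = hh := by omega
        rcases Nat.even_or_odd m with ⟨j, hj⟩ | hmo
        · obtain ⟨Wp, -, hWp, hWpd⟩ := exists_between (bot_le : (⊥ : Submodule F (Fin n → F)) ≤ LinearMap.ker (y - 1))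
            (k := j) (by simp) (by omega)
          set X := LinearMap.range (y - 1) ⊓ orth hH Wp
          obtain ⟨Z, hZ⟩ := X.exists_isCompl
          have hmod : X ⊔ (Z ⊓ LinearMap.range (y - 1)) = LinearMap.range (y - 1) := by
            rw [← sup_inf_assoc_of_le Z (inf_le_left : X ≤ LinearMap.range (y - 1)), hZ.sup_eq_top, top_inf_eq]
          have hKperp : LinearMap.ker (y - 1) ≤ orth hH Wp := fun v hv u hu => hK' v hv u (hWp hu)
          have hcompl := isCompl_ker_range (r := 2) hr hy2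
          have hsplit : ∀ v ∈ orth hH Wp, ∃ a ∈ LinearMap.ker (y - 1), ∃ c ∈ X, a + c = v := by
            intro v hv
            obtain ⟨a, ha, c, hc, rfl⟩ := Submodule.mem_sup.1
              (show v ∈ LinearMap.ker (y - 1) ⊔ LinearMap.range (y - 1) by rw [hcompl.sup_eq_top]; exact Submodule.mem_top)
            refine ⟨a, ha, c, ⟨hc, fun u hu => ?_⟩, rfl⟩
            have h1 := hv u hu
            rwa [herm_add_left, hKperp ha u hu, zero_add] at h1
          have hinf : (⊤ ⊓ orth hH Wp) ⊓ (Z ⊓ LinearMap.range (y - 1)) = ⊥ := by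
            rw [eq_bot_iff]
            rintro v ⟨⟨-, hv⟩, hvZ, hvR⟩
            exact hZ.disjoint.le_bot ⟨⟨hvR, hv⟩, hvZ⟩
          have hsup : (⊤ ⊓ orth hH Wp) ⊔ (Z ⊓ LinearMap.range (y - 1)) = ⊤ := by
            rw [top_inf_eq, eq_top_iff, ← hcompl.sup_eq_top]
            refine sup_le (hKperp.trans le_sup_left) ?_
            exact hmod.symm.le.trans (sup_le (inf_le_right.trans le_sup_left) le_sup_right)
          obtain ⟨hn', hd'⟩ := pair_nd hH hq (nd_top hq) le_top (fun u hu v hv => hK' u (hWp hu) v (hWp hv))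
            le_top hinf hsup
          refine hasND_of (by rw [hd', hWpd]; omega) hn' ?_
          rw [Submodule.map_sup]
          refine sup_le_sup (map_le_of_le_ker hWp) ?_
          rintro _ ⟨v, ⟨hvZ, hvR⟩, rfl⟩
          have hyv : y v = -v := by
            obtain ⟨u, rfl⟩ := hvR
            have h := LinearMap.congr_fun hy2 u
            rw [pow_two, Module.End.mul_apply, Module.End.one_apply] at h
            simp only [LinearMap.sub_apply, Module.End.one_apply, map_sub, h]
            abel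
          rw [hyv]
          exact Submodule.neg_mem _ ⟨hvZ, hvR⟩
        · exfalso
          obtain ⟨hle, hq4⟩ := (hcond.resolve_left (by rw [Nat.not_odd_iff_even]; exact ⟨hh, by omega⟩)).resolve_left
            (Nat.not_even_iff_odd.2 hmo)
          have hd : LinearMap.det y = (-1) ^ hh := hdR ▸ S5953.det_invol h2 hy2
          have hzh : (-z) ^ hh = 1 := by
            rw [neg_pow, ← hw, ← pow_mul, ← hh2]
            rw [hTy, LinearMap.det_smul, Module.finrank_fin_fun, hd] at hdT
            linear_combination hdT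
          obtain ⟨q₂, hq₂⟩ : ∃ q₂, q + 1 = 4 * q₂ := ⟨(q + 1) / 4, by omega⟩
          have hzq : (-z) ^ (2 * q₂) = -1 := by
            rw [neg_pow, (even_two_mul q₂).neg_one_pow, one_mul, ← hw, ← pow_mul,
              show 2 * (2 * q₂) = q + 1 by omega]
            rw [inv_pow, inv_eq_iff_eq_inv, inv_neg, inv_one] at hη
            exact hη
          obtain ⟨e, he⟩ : 2 ^ padicValNat 2 n ∣ n := pow_padicValNat_dvd
          have heo : Odd e := Nat.not_even_iff_odd.1 fun he' => by
            obtain ⟨e', rfl⟩ := even_iff_two_dvd.1 he'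
            exact pow_succ_padicValNat_not_dvd (p := 2) (show n ≠ 0 by omega)
              ⟨e', by rw [pow_succ]; linear_combination he⟩
          have hdv : hh ∣ 2 * q₂ * e := by
            have h1 : n ∣ (q + 1) * e :=
              dvd_trans (dvd_of_eq he) (mul_dvd_mul_right ((pow_dvd_pow 2 hle).trans ⟨o, ho⟩) e)
            rw [hh2, show (q + 1) * e = 2 * (2 * q₂ * e) by rw [hq₂]; ring] at h1
            exact Nat.dvd_of_mul_dvd_mul_left two_pos h1
          obtain ⟨l, hl⟩ := hdv
          have h1 : ((-z) ^ (2 * q₂)) ^ e = 1 := by rw [← pow_mul, hl, pow_mul, hzh, one_pow]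
          rw [hzq, heo.neg_one_pow] at h1
          exact h2 (by linear_combination -h1)
    · refine iff_of_false ?_ (by
        rintro (⟨h, -⟩ | ⟨h, -⟩ | ⟨-, -, h⟩ | ⟨-, h, -⟩)
        · exact hp2 h.symm
        · exact hp2 h.symm
        · exact hcond h
        · omega)
      rw [not_or, not_or, Nat.not_odd_iff_even, Nat.not_even_iff_odd] at hcond
      obtain ⟨⟨hh, hh2⟩, hmo, hbad⟩ := hcond
      intro hall
      obtain ⟨z, hz1, hzh, hzm⟩ : ∃ z : F, z ^ (q + 1) = 1 ∧ (-z) ^ hh = 1 ∧ z ^ (q₁ + 1) = -1 := by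
        by_cases hq4 : q % 4 = 3
        · have hlt : f < padicValNat 2 n := by
            by_contra hge
            exact hbad ⟨by omega, hq4⟩
          obtain ⟨a, -, hao⟩ := exists_generator (F := F)
          have hcard : Fintype.card F - 1 = (q + 1) * (q - 1) := by rw [hq]; simpa using Nat.sq_sub_sq q 1
          set z : F := ((a ^ ((q - 1) * o) : Fˣ) : F) with hzd
          have hzp : ∀ j, z ^ j = 1 ↔ 2 ^ f ∣ j := by
            intro j
            rw [hzd, ← Units.val_pow_eq_pow_val, Units.val_eq_one, ← pow_mul, ← orderOf_dvd_iff_pow_eq_one, hao,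
              hcard, ho, show 2 ^ f * o * (q - 1) = (q - 1) * o * 2 ^ f by ring]
            refine Nat.mul_dvd_mul_iff_left (Nat.mul_pos (by omega) ?_)
            obtain ⟨t, ht⟩ := hodd; omega
          have hzh : z ^ hh = 1 := by
            refine (hzp hh).2 ?_
            have h1 : 2 ^ (f + 1) ∣ n := (pow_dvd_pow 2 hlt).trans pow_padicValNat_dvd
            rw [hh2, ← two_mul, pow_succ'] at h1
            exact Nat.dvd_of_mul_dvd_mul_left two_pos h1
          refine ⟨z, (hzp _).2 ⟨o, ho⟩, ?_, ?_⟩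
          · rw [neg_pow, hzh, mul_one]
            refine Even.neg_one_pow ?_
            rw [even_iff_two_dvd]
            have hf1 : 1 ≤ f := one_le_padicValNat_of_dvd hq1 (by omega)
            have h1 : 2 ^ (1 + 1) ∣ n := (pow_dvd_pow 2 (show 1 + 1 ≤ padicValNat 2 n by omega)).trans pow_padicValNat_dvd
            omega
          · refine (mul_self_eq_one_iff.1 ?_).resolve_left fun h => ?_
            · rw [← pow_add, hzp]; exact ⟨o, by omega⟩
            · obtain ⟨t, ht⟩ := (hzp _).1 h
              obtain ⟨u, hu⟩ := hodd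
              have h2' : 2 ^ f * (2 * t) = 2 ^ f * o := by rw [← ho, mul_left_comm, ← ht]; omega
              have := Nat.eq_of_mul_eq_mul_left (Nat.two_pow_pos f) h2'
              omega
        · refine ⟨-1, Even.neg_one_pow ⟨q₁ + 1, by omega⟩, by rw [neg_neg, one_pow], Odd.neg_one_pow ?_⟩
          refine Nat.odd_iff.2 ?_
          omega
      let e : Fin hh ⊕ Fin hh ≃ Fin n := finSumFinEquiv.trans (finCongr (by omega))
      let π : Equiv.Perm (Fin n) := e.permCongr (Equiv.sumComm (Fin hh) (Fin hh))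
      have hπ : ∀ s, π (e s) = e s.swap := fun s => by simp [π, Equiv.permCongr_apply]
      let d : Fin n → F := fun i => Sum.elim (fun _ => z) (fun _ => (1 : F)) (e.symm i)
      have hdd : ∀ s, d (π (e s)) * d (π (π (e s))) = z := fun s => by
        rw [hπ, hπ]
        rcases s with s | s <;> simp [d]
      have hdn : ∀ i, d i ^ (q + 1) = 1 := fun i => by
        simp only [d]
        rcases e.symm i with s | s
        exacts [hz1, one_pow _]
      have hππ : ∀ i, π (π i) = i := fun i => by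
        obtain ⟨s, rfl⟩ := e.surjective i
        rw [hπ, hπ, Sum.swap_swap]
      have hM2 : monMat π d * monMat π d = z • 1 := by
        apply Matrix.toLin'.injective
        refine LinearMap.ext fun v => funext fun i => ?_
        rw [Matrix.toLin'_apply, Matrix.toLin'_apply, ← Matrix.mulVec_mulVec, monMat_mulVec, monMat_mulVec, hππ,
          Matrix.smul_mulVec, Matrix.one_mulVec, Pi.smul_apply, smul_eq_mul, ← mul_assoc]
        obtain ⟨s, rfl⟩ := e.surjective i
        have := hdd s
        rw [hππ] at this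
        rw [show d (π (e s)) * d (e s) = z from this]
      have hsign : (Equiv.Perm.sign π : F) = (-1) ^ hh := by
        have h1 : Equiv.Perm.sign π = Equiv.Perm.sign (Equiv.sumComm (Fin hh) (Fin hh)) :=
          Equiv.Perm.sign_permCongr _ _
        have h3 : π.cycleType = Multiset.replicate hh 2 := by
          have hp2' : π ^ 2 = 1 := Equiv.ext fun i => by rw [pow_two, Equiv.Perm.mul_apply, hππ]; rfl
          have hsupp : π.support = Finset.univ := Finset.eq_univ_of_forall fun i => by
            rw [Equiv.Perm.mem_support]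
            obtain ⟨s, rfl⟩ := e.surjective i
            rw [hπ]
            rcases s with s | s <;> simp
          have hall2 : ∀ a ∈ π.cycleType, a = 2 := fun a ha => by
            have h4 := Equiv.Perm.dvd_of_mem_cycleType ha
            have h5 := Equiv.Perm.two_le_of_mem_cycleType ha
            have h6 : a ≤ 2 := Nat.le_of_dvd two_pos (h4.trans (orderOf_dvd_of_pow_eq_one hp2'))
            omega
          have hc := Multiset.eq_replicate_card.2 hall2
          have hs := π.sum_cycleType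
          rw [hc, Multiset.sum_replicate, smul_eq_mul, hsupp, Finset.card_univ, Fintype.card_fin] at hs
          rw [hc, show Multiset.card π.cycleType = hh by omega]
        rw [Equiv.Perm.sign_of_cycleType, h3, Multiset.sum_replicate, Multiset.card_replicate, smul_eq_mul,
          show hh * 2 + hh = hh + (hh + hh) by ring, pow_add, (Even.add_self hh).neg_one_pow, mul_one]
        push_cast
        rfl
      have hprod : ∏ i, d i = z ^ hh := by
        rw [← e.prod_comp, Fintype.prod_sum_type]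
        simp [d]
      have hdet : (monMat π d).det = 1 := by
        rw [det_monMat, hsign, hprod, ← mul_pow, neg_one_mul, hzh]
      set x : Matrix.SpecialLinearGroup (Fin n) F := ⟨monMat π d, hdet⟩
      have hxS : x ∈ Cfsg.SU n F q := fun u v => isU_monMat π hdn u v
      have hns : ∀ s : F, (x : Matrix (Fin n) (Fin n) F) ≠ s • 1 := fun s hs => by
        have h1 := congrArg (fun M : Matrix (Fin n) (Fin n) F =>
          (M *ᵥ Pi.single (e (Sum.inr ⟨0, by omega⟩)) 1) (e (Sum.inl ⟨0, by omega⟩))) hs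
        simp [x, monMat_mulVec, hπ, d, Matrix.smul_mulVec] at h1
        rw [hπ] at h1
        simp at h1
      obtain ⟨W, hWd, hW, hWi⟩ := hsl hall x hxS z (by rw [pow_two]; exact hM2) hns
      obtain ⟨hz0, -, hTr, -, hT⟩ := hfacts x hxS z (by
        rw [Matrix.SpecialLinearGroup.coe_pow, pow_two]; exact hM2)
      obtain ⟨w, hw⟩ : ∃ w : F, w ^ 2 = z := by
        have hring : ringChar F ≠ 2 := fun e => h2 (by
          have := ringChar.Nat.cast_ringChar (R := F)
          rw [e] at this
          exact_mod_cast this)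
        have hhalf : Fintype.card F / 2 = (q + 1) * q₁ := by
          rw [hq, hq₁, show (2 * q₁ + 1) ^ 2 = 2 * ((2 * q₁ + 1 + 1) * q₁) + 1 by ring]
          omega
        obtain ⟨b, hb⟩ := (FiniteField.isSquare_iff hring hz0).2 (by rw [hhalf, pow_mul, hz1, one_pow])
        exact ⟨b, by rw [hb, _root_.sq]⟩
      set y := w⁻¹ • Matrix.toLin' (x : Matrix (Fin n) (Fin n) F) with hy
      have hy2 : y ^ 2 = 1 := by
        rw [hy, _root_.smul_pow, hTr, smul_smul, inv_pow, hw, inv_mul_cancel₀ hz0, one_smul]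
      have hwq : w ^ (q + 1) = -1 := by
        rw [show q + 1 = 2 * (q₁ + 1) by omega, pow_mul, hw, hzm]
      have hanti : ∀ u v, Cfsg.hermForm n F q (y u) (y v) = - Cfsg.hermForm n F q u v := fun u v => by
        rw [hy, LinearMap.smul_apply, LinearMap.smul_apply, herm_smul_left, herm_smul_right, hT, ← mul_assoc,
          ← pow_succ', inv_pow, hwq, inv_neg, inv_one, neg_one_mul]
      obtain ⟨ha, hb', hsup, hbot⟩ := anti_parts hq h2 hy2 hanti ⟨q₁, hq₁⟩ (W := W) (S5953.pow_mem_of _ _ hWi)
      have hWn := nd_of_hasND hW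
      have h3 := two_mul_le hH hq hWn inf_le_left ha
      have h4 := two_mul_le hH hq hWn inf_le_left hb'
      have h5 := Submodule.finrank_sup_add_finrank_inf_eq (W ⊓ LinearMap.ker (y - 1)) (W ⊓ LinearMap.range (y - 1))
      rw [hsup, hbot, finrank_bot] at h5
      obtain ⟨t, ht⟩ := hmo
      omega
  -- odd `r`
  have hr3 : 2 < r := by have := hrp.two_le; omega
  haveI : Fact (2 < r) := ⟨hr3⟩
  set Q := (q : ZMod r) with hQdef
  have hQ0 : Q ≠ 0 := fun e => natCast_card_ne_zero (r := r) hr (by rw [hq, Nat.cast_pow, ← hQdef, e, zero_pow two_ne_zero])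
  have hcardQ : (Fintype.card F : ZMod r) = Q ^ 2 := by rw [hq, Nat.cast_pow]
  have hipos : 0 < i := by
    rw [hi, show Q = ((Units.mk0 _ hQ0 : (ZMod r)ˣ) : ZMod r) from rfl, orderOf_units]
    exact orderOf_pos _
  have hQi : ∀ j, Q ^ j = 1 ↔ i ∣ j := fun j => by rw [hi, orderOf_dvd_iff_pow_eq_one]
  have hb' : b = orderOf (Fintype.card F : ZMod r) := by
    rw [hcardQ, orderOf_pow' _ two_ne_zero, ← hi, hb]
    rcases Nat.even_or_odd i with h | h
    · rw [if_pos h, Nat.gcd_eq_right (even_iff_two_dvd.1 h)]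
    · rw [if_neg (Nat.not_even_iff_odd.2 h), Nat.Coprime.gcd_eq_one (Nat.coprime_two_right.2 h), Nat.div_one]
  have hbpos : 0 < b := hb' ▸ orderOf_card_pos hr
  have hhalf : ∀ t, i = 2 * t → Q ^ t = -1 := by
    intro t ht
    refine (sq_eq_one_iff.1 (by rw [← pow_mul, hQi, ht, mul_comm])).resolve_left fun h => ?_
    rw [hQi, ht] at h
    have := Nat.le_of_dvd (by omega) h
    omega
  have hc' : c = orderOf (-Q) := by
    have hsq : ∀ j, (-Q) ^ j = 1 → Q ^ (2 * j) = 1 := fun j hj => by
      rw [pow_mul']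
      rw [neg_pow] at hj
      have h1 : ((-1 : ZMod r) ^ j) ^ 2 = 1 := by rw [← pow_mul, mul_comm, pow_mul, neg_one_sq, one_pow]
      have h2 := congrArg (· ^ 2) hj
      simp only [mul_pow, h1, one_mul, one_pow] at h2
      exact h2
    refine dvd_antisymm ?_ ?_
    · set j := orderOf (-Q)
      have hj : (-Q) ^ j = 1 := pow_orderOf_eq_one _
      have hj2 := (hQi _).1 (hsq j hj)
      rw [hc]
      rcases Nat.even_or_odd i with ⟨t, ht⟩ | hio
      · rcases Nat.even_or_odd t with hte | hto
        · rw [if_pos (by obtain ⟨u, hu⟩ := hte; omega)]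
          have hje : Even j := by
            have : t ∣ j := Nat.dvd_of_mul_dvd_mul_left two_pos (by rwa [show 2 * t = i by omega])
            exact even_iff_two_dvd.2 (dvd_trans (even_iff_two_dvd.1 hte) this)
          rw [hje.neg_pow] at hj
          exact (hQi _).1 hj
        · rw [if_neg (by obtain ⟨u, hu⟩ := hto; omega), if_pos (by obtain ⟨u, hu⟩ := hto; omega),
            show i / 2 = t by omega]
          exact Nat.dvd_of_mul_dvd_mul_left two_pos (by rwa [show 2 * t = i by omega])
      · rw [if_neg (by obtain ⟨u, hu⟩ := hio; omega), if_neg (by obtain ⟨u, hu⟩ := hio; omega)]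
        have hij : i ∣ j := (Nat.Coprime.dvd_mul_left (Nat.coprime_two_right.2 hio)).1 hj2
        have hje : Even j := by
          rw [← Nat.not_odd_iff_even]
          intro hjo
          rw [hjo.neg_pow, (hQi _).2 hij] at hj
          exact ZMod.neg_one_ne_one hj
        exact Nat.Coprime.mul_dvd_of_dvd_of_dvd (Nat.coprime_two_left.2 hio) (even_iff_two_dvd.1 hje) hij
    · refine orderOf_dvd_of_pow_eq_one ?_
      rw [hc]
      split_ifs with h4 h24
      · rw [(Even.neg_pow ⟨i / 2, by omega⟩), hQi]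
      · rw [(show Odd (i / 2) from ⟨i / 4, by omega⟩).neg_pow, hhalf (i / 2) (by omega), neg_neg]
      · rw [(Even.neg_pow ⟨i, by omega⟩), hQi]
        exact dvd_mul_left i 2
  have hc2 : i % 4 ≠ 2 → c = 2 * b := by
    intro h
    rw [hc, hb]
    rcases Nat.even_or_odd i with ⟨t, ht⟩ | ⟨t, ht⟩
    · rw [if_pos (show Even i from ⟨t, ht⟩), if_pos (show i % 4 = 0 by omega)]; omega
    · rw [if_neg (show ¬ Even i by rw [Nat.even_iff]; omega), if_neg (show i % 4 ≠ 0 by omega), if_neg h]
  have hc1 : i % 4 = 2 → c = b := by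
    intro h
    rw [hc, hb, if_neg (show i % 4 ≠ 0 by omega), if_pos h, if_pos (show Even i by rw [Nat.even_iff]; omega)]
  set s := (r - 1) / b with hsdef
  have hsb : s * b = r - 1 := by
    rw [hsdef, Nat.div_mul_cancel]
    rw [hb', hcardQ]
    exact ZMod.orderOf_dvd_card_sub_one (pow_ne_zero _ hQ0)
  have hi2 : r ∣ q + 1 ↔ i = 2 := by
    rw [← ZMod.natCast_eq_zero_iff, Nat.cast_add, Nat.cast_one, ← hQdef, add_eq_zero_iff_eq_neg]
    constructor
    · intro h
      rw [hi, h, orderOf_neg_one, ringChar.eq (ZMod r) r, if_neg hr2]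
    · intro h
      have := hhalf 1 (by omega)
      rwa [pow_one] at this
  have hrq : ¬ r ∣ q := fun h => hQ0 ((ZMod.natCast_eq_zero_iff _ _).2 h)
  obtain ⟨j₀, hj₀, hj₀n, hj₀1⟩ := exists_order_dvd hq hrq (show m ≤ n by omega) hrΩ
  have hcj : c ∣ j₀ := hc' ▸ orderOf_dvd_of_pow_eq_one hj₀1
  have hcn : c ≤ n := (Nat.le_of_dvd (by omega) hcj).trans hj₀n
  have hcpos : 0 < c := Nat.pos_of_ne_zero fun e => by rw [e] at hcj; have := Nat.eq_zero_of_zero_dvd hcj; omega
  have hsmall : m < c → n % c < m := by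
    intro hmc
    obtain ⟨l, hl⟩ := hcj
    have h1 := Nat.div_add_mod n c
    have h2 : c * l ≤ c * (n / c) := Nat.mul_le_mul_left c
      ((Nat.le_div_iff_mul_le hcpos).2 (by rw [mul_comm, ← hl]; exact hj₀n))
    omega
  have hcase : c = 2 * b ∨ (c = b ∧ Odd b ∧ r ∣ q ^ b + 1) := by
    rcases eq_or_ne (i % 4) 2 with h | h
    · right
      have hb2 : b = i / 2 := by rw [hb, if_pos (Nat.even_iff.2 (by omega))]
      refine ⟨hc1 h, Nat.odd_iff.2 (by omega), ?_⟩
      rw [← ZMod.natCast_eq_zero_iff, Nat.cast_add, Nat.cast_pow, Nat.cast_one, ← hQdef, hhalf b (by omega),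
        neg_add_cancel]
    · exact Or.inl (hc2 h)
  by_cases hgoal : (i ≠ 2 ∧ c ≤ m ∧ m % c ≤ n % c) ∨ (i = 2 ∧ (r ∣ m ∨ padicValNat r n ≤ padicValNat r (q + 1)))
  · refine iff_of_true ?_ (Or.inr (Or.inr (Or.inr ⟨hrp', hr3, hgoal⟩)))
    intro x hx ⟨z, hz⟩ _
    obtain ⟨hz0, hz1, hTr, hdT, hT⟩ := hfacts x hx z hz
    show HasND q m (Matrix.toLin' (x : Matrix (Fin n) (Fin n) F))
    set T := Matrix.toLin' (x : Matrix (Fin n) (Fin n) F)
    by_cases hpw : ∃ w : F, w ^ r = z
    · obtain ⟨w, hw⟩ := hpw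
      obtain ⟨h, hh⟩ := hrp.odd_of_ne_two hr2
      set η := w ^ (q + 1) with hη
      have hηr : η ^ r = 1 := by rw [hη, ← pow_mul, mul_comm, pow_mul, hw, hz1]
      have hηq : η ^ q = η := by
        rw [hη, ← pow_mul, add_one_mul, ← _root_.sq, pow_add, ← hq, FiniteField.pow_card, pow_succ']
      set w' := w * η ^ h with hw'
      have hw'1 : w' ^ (q + 1) = 1 := by
        rw [hw', mul_pow, ← hη, ← pow_mul, mul_comm h, pow_mul, pow_succ' η q, hηq, ← pow_two, ← pow_mul,
          ← pow_succ', ← hh, hηr]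
      have hw'r : w' ^ r = z := by rw [hw', mul_pow, hw, ← pow_mul, mul_comm h, pow_mul, hηr, one_pow, mul_one]
      have hw'0 : w' ≠ 0 := fun e => hz0 (by rw [← hw'r, e, zero_pow hrp.ne_zero])
      set y := w'⁻¹ • T with hy
      have hyr : y ^ r = 1 := by
        rw [hy, _root_.smul_pow, hTr, smul_smul, inv_pow, hw'r, inv_mul_cancel₀ hz0, one_smul]
      have hyy : ∀ u v, Cfsg.hermForm n F q (y u) (y v) = Cfsg.hermForm n F q u v := by
        intro u v
        rw [hy, LinearMap.smul_apply, LinearMap.smul_apply, herm_smul_left, herm_smul_right, hT, ← mul_assoc,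
          ← pow_succ', inv_pow, hw'1, inv_one, one_mul]
      rw [show T = w' • y by rw [hy, smul_smul, mul_inv_cancel₀ hw'0, one_smul]]
      refine hasND_smul w' (pos_power hq hyy hr hyr (show m ≤ n by omega) hb' hc' hcase hcpos ?_)
      rcases hgoal with ⟨-, -, h⟩ | ⟨h, -⟩
      · exact h
      · rw [hc1 (by omega), show b = 1 by rw [hb, h]; decide, Nat.mod_one]
        exact Nat.zero_le _
    · push Not at hpw
      have hrq1 : r ∣ q + 1 := by
        by_contra hnd
        obtain ⟨w, hw⟩ := exists_pow_of_pow_eq hrp hz0 (d := 1) hnd (by rw [hz1, one_pow])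
        exact hpw w hw
      have hi2' := hi2.1 hrq1
      obtain ⟨t, ht, hdet⟩ := det_eq_of_pow_smul hrp hz0 hTr hpw
      rw [Module.finrank_fin_fun] at ht
      rcases hgoal.resolve_left (fun h => h.1 hi2') with ⟨-, h | h⟩
      · obtain ⟨j, hj⟩ := h
        have hTi := inj_of_pow hrp.pos hz0 hTr
        obtain ⟨N, hN, hW⟩ := exists_nd_iter hH hq hT hTi (T := ⊤) hrp.pos
          (fun R _ hRi hRn hne => step_nd_nonpower hH hq hT hTi hz0 hTr hpw hRi hRn hne) ⊤ le_rfl le_top (nd_top hq)
        rw [finrank_top, Module.finrank_fin_fun] at hN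
        obtain ⟨W, -, hWi, hWn, hWd⟩ := hW j (Nat.le_of_mul_le_mul_left (show r * j ≤ r * N by omega) hrp.pos)
        exact hasND_of (hWd.trans hj.symm) hWn hWi
      · exfalso
        rw [hdT, Even.neg_one_pow (hrp.odd_of_ne_two hr2).add_one, one_mul] at hdet
        set g := Nat.gcd t (q + 1)
        have hzg : z ^ g = 1 := pow_gcd_eq_one.2 ⟨hdet.symm, hz1⟩
        obtain ⟨u, hu⟩ : g ∣ q + 1 := Nat.gcd_dvd_right _ _
        have ht0 : t ≠ 0 := fun e => by rw [e, mul_zero] at ht; omega
        have hru : r ∣ u := by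
          by_contra hnd
          have hu0 : u ≠ 0 := fun e => by rw [e, mul_zero] at hu; omega
          have hg0 : g ≠ 0 := fun e => by rw [e, zero_mul] at hu; omega
          have hv : padicValNat r (q + 1) = padicValNat r g := by
            rw [hu, padicValNat.mul hg0 hu0, padicValNat.eq_zero_of_not_dvd hnd, add_zero]
          have hle : padicValNat r g ≤ padicValNat r t := by
            rw [← padicValNat_dvd_iff_le ht0]
            exact dvd_trans pow_padicValNat_dvd (Nat.gcd_dvd_left _ _)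
          rw [ht, padicValNat.mul hrp.ne_zero ht0, padicValNat.self hrp.one_lt, hv] at h
          omega
        obtain ⟨a, ha, hao⟩ := exists_generator (F := F)
        obtain ⟨k, hk'⟩ := ha (Units.mk0 z hz0)
        have h1 : a ^ (k * g) = 1 := by
          rw [pow_mul, hk']; ext; simpa using hzg
        rw [← orderOf_dvd_iff_pow_eq_one, hao, hq, show q ^ 2 - 1 = (q + 1) * (q - 1) by simpa using Nat.sq_sub_sq q 1,
          hu, mul_assoc, mul_comm k g] at h1
        obtain ⟨l, hl⟩ := dvd_trans (dvd_mul_of_dvd_left hru _)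
          (Nat.dvd_of_mul_dvd_mul_left (Nat.pos_of_ne_zero fun e => by rw [e, zero_mul] at hu; omega) h1)
        refine hpw ((a ^ l : Fˣ) : F) ?_
        rw [← Units.val_pow_eq_pow_val, ← pow_mul, mul_comm, ← hl, hk', Units.val_mk0]
  refine iff_of_false ?_ (by
    rintro (⟨h, -⟩ | ⟨h, -⟩ | ⟨h, -⟩ | ⟨-, -, h⟩)
    · exact hrp' h
    · exact hrp' h
    · exact hr2 h
    · exact hgoal h)
  intro hall
  by_cases hieq : i = 2
  · have hbad : ¬ r ∣ m ∧ padicValNat r (q + 1) < padicValNat r n :=
      ⟨fun h => hgoal (Or.inr ⟨hieq, Or.inl h⟩), by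
        by_contra h
        exact hgoal (Or.inr ⟨hieq, Or.inr (by omega)⟩)⟩
    have hcard : Fintype.card F - 1 = (q + 1) * (q - 1) := by rw [hq]; simpa using Nat.sq_sub_sq q 1
    have hrn : r ∣ n := dvd_of_one_le_padicValNat (by omega)
    obtain ⟨t, ht⟩ := hrn
    have ht0 : t ≠ 0 := fun e => by rw [e, mul_zero] at ht; omega
    set f := padicValNat r (q + 1)
    obtain ⟨u, hu⟩ : r ^ f ∣ q + 1 := pow_padicValNat_dvd
    have hft : r ^ f ∣ t := by
      rw [padicValNat_dvd_iff_le ht0]
      have h := hbad.2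
      rw [ht, padicValNat.mul hrp.ne_zero ht0, padicValNat.self hrp.one_lt] at h
      omega
    have hru : ¬ r ∣ u := fun hd => by
      refine pow_succ_padicValNat_not_dvd (p := r) (show q + 1 ≠ 0 by omega) ?_
      show r ^ (f + 1) ∣ q + 1
      rw [pow_succ, hu]; exact mul_dvd_mul_left _ hd
    have hrq' : ¬ r ∣ q - 1 := fun hd => by
      have := Nat.dvd_sub (hi2.2 hieq) hd
      rw [show q + 1 - (q - 1) = 2 by omega] at this
      have := Nat.le_of_dvd two_pos this
      omega
    obtain ⟨a, ha, hao⟩ := exists_generator (F := F)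
    set z : F := ((a ^ ((q - 1) * u) : Fˣ) : F)
    have hzp : ∀ j, r ^ f ∣ j → z ^ j = 1 := by
      rintro j ⟨l, rfl⟩
      rw [← Units.val_pow_eq_pow_val, ← pow_mul, show (q - 1) * u * (r ^ f * l) = (q + 1) * (q - 1) * l by
        rw [hu]; ring, ← hcard, ← hao, pow_mul, pow_orderOf_eq_one, one_pow, Units.val_one]
    have hnp : ∀ w : F, w ^ r ≠ z := by
      intro w hw
      have hw0 : w ≠ 0 := fun e => by
        rw [e, zero_pow hrp.ne_zero] at hw; exact (a ^ ((q - 1) * u)).ne_zero hw.symm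
      obtain ⟨l, hl⟩ := ha (Units.mk0 w hw0)
      have h1 : a ^ (l * r) = a ^ ((q - 1) * u) := by
        rw [pow_mul, hl]; ext; simpa [z] using hw
      rw [pow_eq_pow_iff_modEq, hao, hcard] at h1
      have h2 : (q - 1) * u ≡ 0 [MOD r] :=
        ((h1.of_dvd (dvd_mul_of_dvd_left (hi2.2 hieq) _)).symm).trans (Nat.modEq_zero_iff_dvd.2 (dvd_mul_left r l))
      exact (hrp.dvd_mul.1 (Nat.modEq_zero_iff_dvd.1 h2)).elim hrq' hru
    obtain ⟨x, hxS, hxr, hns⟩ := S5953.exists_monomial hq hr2 (t := t) (ht.trans (mul_comm r t)) (Nat.pos_of_ne_zero ht0)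
      (z := z) (hzp _ ⟨u, hu⟩) (hzp _ hft)
    obtain ⟨W, hWd, -, hWi⟩ := hsl hall x hxS z hxr hns
    have := dvd_finrank_of_pow_smul hrp (a ^ ((q - 1) * u)).ne_zero
      (g := Matrix.toLin' (x : Matrix (Fin n) (Fin n) F))
      (by rw [← Matrix.toLin'_pow, hxr, map_smul, Matrix.toLin'_one]; rfl) hnp hWi
    rw [hWd] at this
    exact hbad.1 this
  -- blocks
  have hrq1 : ¬ r ∣ q + 1 := fun h => hieq (hi2.1 h)
  have hlt : n % c < m % c := by
    by_cases hcm : c ≤ m
    · by_contra h
      exact hgoal (Or.inl ⟨hieq, hcm, by omega⟩)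
    · rw [Nat.mod_eq_of_lt (by omega : m < c)]; exact hsmall (by omega)
  obtain ⟨g, hgU, hgr, hg1, hgfix⟩ := exists_fpf (F := F) (r := r) hq hr hc'
  have hgdet : g.det = 1 := by
    have h1 : g.det ^ r = 1 := by rw [← Matrix.det_pow, hgr, Matrix.det_one]
    have h2 := hgU.det_pow hq
    have := pow_gcd_eq_one.2 ⟨h1, h2⟩
    rwa [hrp.coprime_iff_not_dvd.2 hrq1, pow_one] at this
  set A := n / c with hAdef
  set k := n % c with hkdef
  have hA : 0 < A := Nat.div_pos hcn hcpos
  let e : (Fin c × Fin A) ⊕ Fin k ≃ Fin n := Fintype.equivFinOfCardEq (by simp [A, k, Nat.div_add_mod])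
  obtain ⟨x, hxS, hxB⟩ := exists_blocks (q := q) e (fun _ => g) (fun _ => hgU) (fun _ => hgdet)
  set T := Matrix.toLin' (x : Matrix (Fin n) (Fin n) F) with hT
  have hfix : ∀ (_ : Fin A) v, Matrix.toLin' g v = v → v = 0 := fun a v hv =>
    hgfix 1 hrp.not_dvd_one v (by rwa [pow_one, ← Matrix.toLin'_apply])
  have hTr : T ^ r = 1 := by
    refine LinearMap.ext fun v => ext_blocks e (fun a => ?_) (fun j => ?_)
    · have h1 := (hxB.aeval (X ^ r) v).1 a
      rw [map_pow, aeval_X] at h1
      rw [h1, map_pow, aeval_X, ← Matrix.toLin'_pow, hgr, Matrix.toLin'_one]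
      rfl
    · have h1 := (hxB.aeval (X ^ r) v).2 j
      rw [map_pow, aeval_X] at h1
      rw [h1]
      simp
  have hns : ∀ s : F, (x : Matrix (Fin n) (Fin n) F) ≠ s • 1 := by
        intro s hs
        set v : Fin n → F := Pi.single (e (Sum.inl (⟨0, hcpos⟩, ⟨0, hA⟩))) 1
        have h1 := hxB.block v ⟨0, hA⟩
        rw [hT, hs, map_smul, Matrix.toLin'_one, LinearMap.smul_apply, LinearMap.id_apply] at h1
        have hs1 : s ≠ 1 := fun e1 => by
          have h2 := hfix ⟨0, hA⟩ (blockVec e v ⟨0, hA⟩) (by rw [← h1, e1, one_smul])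
          have h3 := congrFun h2 ⟨0, hcpos⟩
          simp [blockVec, v] at h3
        have hsr : s ^ r = 1 := by
          have h2 : (x : Matrix (Fin n) (Fin n) F) ^ r = 1 := by
            apply Matrix.toLin'.injective
            rw [Matrix.toLin'_pow, ← hT, hTr, Matrix.toLin'_one]; rfl
          rw [hs, _root_.smul_pow, one_pow] at h2
          have := congrFun (congrFun h2 ⟨0, by omega⟩) ⟨0, by omega⟩
          simpa using this
        have hsn : s ^ n = 1 := by
          have := x.2
          rw [hs, Matrix.det_smul, Matrix.det_one, mul_one, Fintype.card_fin] at this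
          exact this
        have hnorm : s ^ (q + 1) = 1 := by
          obtain ⟨u, hu⟩ := UnitaryDerange84.exists_aniso (F := F) (n := n) hq (by omega)
          have h2 := hxS u u
          change Cfsg.hermForm n F q ((x : Matrix (Fin n) (Fin n) F) *ᵥ u) ((x : Matrix (Fin n) (Fin n) F) *ᵥ u) = _ at h2
          rw [hs, Matrix.smul_mulVec, Matrix.one_mulVec, herm_smul_left, herm_smul_right, hu, mul_one,
            ← pow_succ'] at h2
          exact h2
        have := pow_gcd_eq_one.2 ⟨hsr, hnorm⟩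
        rw [hrp.coprime_iff_not_dvd.2 hrq1, pow_one] at this
        exact hs1 this
  obtain ⟨W, hWd, hW, hWi⟩ := hsl hall x hxS 1 (by
    rw [one_smul]
    apply Matrix.toLin'.injective
    rw [Matrix.toLin'_pow, ← hT, hTr, Matrix.toLin'_one]; rfl) hns
  obtain ⟨-, -, -, -, hiso⟩ := hfacts x hxS 1 (by
    rw [Matrix.SpecialLinearGroup.coe_pow, one_smul]
    apply Matrix.toLin'.injective
    rw [Matrix.toLin'_pow, ← hT, hTr, Matrix.toLin'_one]; rfl)
  obtain ⟨hR, -, hdimW⟩ := nd_components hH hq hiso hr hTr hWi (nd_of_hasND hW)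
  rw [← hT] at hR hdimW
  have hTi := inj_of_pow hrp.pos one_ne_zero (by rw [hTr, one_smul] : T ^ r = (1 : F) • 1)
  obtain ⟨N, hN, -⟩ := exists_nd_iter hH hq hiso hTi (T := LinearMap.range (T - 1)) hcpos
    (fun R hRT hRi hRn hne => step_nd hH hq hiso hr hTr hTi hb' hc' hcase hRT hRi hRn hne)
    (W ⊓ LinearMap.range (T - 1)) inf_le_right
    (le_inf ((Submodule.map_mono inf_le_left).trans hWi) ((Submodule.map_mono inf_le_right).trans (range_inv T))) hR
  have hKle : finrank F ↥(W ⊓ LinearMap.ker (T - 1) : Submodule F (Fin n → F)) ≤ k := by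
    have hle : W ⊓ LinearMap.ker (T - 1) ≤
        supp F ((Finset.univ.image fun j => e (Sum.inr j) : Finset (Fin n)) : Set (Fin n)) := by
      intro v hv i hi
      obtain ⟨y, rfl⟩ := e.surjective i
      rcases y with ⟨j, a⟩ | j
      · have hv' : T v = v := by
          have := hv.2
          rw [SetLike.mem_coe, LinearMap.mem_ker, LinearMap.sub_apply, Module.End.one_apply, sub_eq_zero] at this
          exact this
        have h1 := hxB.block v a
        rw [hv'] at h1
        exact congrFun (hfix a _ h1.symm) j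
      · exact absurd (Finset.mem_coe.2 (Finset.mem_image_of_mem _ (Finset.mem_univ j))) hi
    refine (Submodule.finrank_mono hle).trans ((finrank_supp_le _).trans (Finset.card_image_le.trans ?_))
    rw [Finset.card_univ, Fintype.card_fin]
  rw [hWd, hN] at hdimW
  rw [hdimW, Nat.add_mul_mod_self_left] at hlt
  have := Nat.mod_le (finrank F ↥(W ⊓ LinearMap.ker (T - 1) : Submodule F (Fin n → F))) c
  omega

end Cfsg.Agent.S5954
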