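import Cfsg.Statements.S5961
import Cfsg.Agent.Lib.SympDecompPeel92
import Cfsg.Agent.Lib.SympPrimeElements
import Cfsg.Agent.Lib.DecompPerm84
import Cfsg.Agent.Lib.SymplecticOrder
import Cfsg.Agent.Lib.SymplecticAlt
-- import your own Cfsg.Agent.* helpers here

set_option autoImplicit false
open scoped MatrixGroups
open Cfsg

namespace Cfsg.Agent.S5961

open Module Polynomial Matrix Cfsg.Agent.SymplecticBasic Cfsg.Agent.SympDecompPeel92
  Cfsg.Agent.SelfReciprocalFactors Cfsg.Agent.PrimeOrderClassCount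

variable {F : Type*} [Field F] {d : ℕ}

/-- Orthogonal decompositions into `t` nondegenerate summands of dimension `a`. -/
abbrev Good (a : ℕ) {t : ℕ} (D : Fin t → Submodule F (Fin d ⊕ Fin d → F)) : Prop :=
  Cfsg.Geo.IsMDecomposition a D ∧ (∀ j, ∀ u ∈ D j, u ≠ 0 → ∃ v ∈ D j, Cfsg.sympForm d F u v ≠ 0) ∧
    (∀ j j', j ≠ j' → ∀ u ∈ D j, ∀ v ∈ D j', Cfsg.sympForm d F u v = 0)

theorem mul_self_of_scalar (hd : 0 < d) {z : F} {y : symplecticGroup (Fin d) F}
    (h : y.1 = z • (1 : Matrix (Fin d ⊕ Fin d) (Fin d ⊕ Fin d) F)) : z * z = 1 := by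
  have h1 := mem_sp_iff_form.1 y.2 (Pi.single (Sum.inr ⟨0, hd⟩) 1) (Pi.single (Sum.inl ⟨0, hd⟩) 1)
  rw [h, smul_mulVec, smul_mulVec, one_mulVec, one_mulVec, form_smul_left, form_smul_right,
    form_std_pair, mul_one] at h1
  exact h1

theorem iso_of_mem {r : ℕ} {A : Matrix (Fin d ⊕ Fin d) (Fin d ⊕ Fin d) F} (hA : A ∈ symplecticGroup (Fin d) F)
    (h : A ^ r = 1) (hr : (r : F) ≠ 0) : Iso r (Matrix.toLin' A : Module.End F (Fin d ⊕ Fin d → F)) :=
  ⟨fun u v => by rw [Matrix.toLin'_apply, Matrix.toLin'_apply]; exact mem_sp_iff_form.1 hA u v,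
    by rw [← Matrix.toLin'_pow, h, Matrix.toLin'_one]; rfl, hr⟩

theorem finrank_space : finrank F (Fin d ⊕ Fin d → F) = 2 * d := by
  rw [Module.finrank_pi, Fintype.card_sum, Fintype.card_fin]; omega

theorem exists_good {g : Module.End F (Fin d ⊕ Fin d → F)} {r c a t : ℕ} [Fintype F] [Fact r.Prime]
    (hi : Iso r g) (hc : 0 < c) (hce : Even c) (ht : 2 ≤ t) (ha : 0 < a) (hae : Even a)
    (hat : 2 * d = a * t)
    (hblock : ∀ W : Submodule F (Fin d ⊕ Fin d → F), NondegOn W → (∀ v ∈ W, g v ∈ W) → ¬ W ≤ fixedSp g →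
      ∃ P ≤ W, NondegOn P ∧ (∀ v ∈ P, g v ∈ P) ∧ finrank F P = c ∧ P ⊓ fixedSp g = ⊥)
    (hk : t * (a % c) ≤ finrank F ↥(fixedSp g)) :
    ∃ D : Fin t → Submodule F (Fin d ⊕ Fin d → F), Good a D ∧ ∀ j, (D j).map g = D j := by
  obtain ⟨D, hD, hsup, ho⟩ := hi.peel hc hce hblock hae t ⊤ nondegOn_top (fun v _ => Submodule.mem_top)
    (by rw [finrank_top, finrank_space, hat, mul_comm]) (by rwa [top_inf_eq])
  have hind : iSupIndep D := fun j => disjoint_iff.2 (le_bot_iff.1 (by
    refine le_trans (inf_le_inf_left _ (iSup_le fun k => iSup_le fun hk => ?_)) (inf_perp_eq_bot (hD j).2.1).le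
    exact ho k j hk))
  refine ⟨D, ⟨⟨ht, ha, fun j => (hD j).2.2.2, hind, hsup⟩, fun j => (hD j).2.1,
    fun j j' hne u hu v hv => ho j j' hne hu v hv⟩, fun j => le_antisymm ?_ fun v hv => ?_⟩
  · rintro _ ⟨v, hv, rfl⟩
    exact (hD j).2.2.1 v hv
  · obtain ⟨u, hu, e⟩ := hi.surj (Fact.out : r.Prime).pos (hD j).2.2.1 hv
    exact ⟨u, hu, e⟩

/-- A symplectic matrix between two orthogonal decompositions. -/
theorem exists_map_good {a t : ℕ} {D D' : Fin t → Submodule F (Fin d ⊕ Fin d → F)} (hat : 2 * d = a * t)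
    (hD : Good a D) (hD' : Good a D') : ∃ x : symplecticGroup (Fin d) F,
      ∀ j, (D j).map (Matrix.toLin' x.1) = D' j := by
  classical
  obtain ⟨k, hk⟩ : ∃ k, a = 2 * k := by
    obtain ⟨k, hk⟩ := SympDecompPeel92.even_finrank (W := D ⟨0, by have := hD.1.two_le; omega⟩) (hD.2.1 _)
    exact ⟨k, by rw [hD.1.finrank_eq] at hk; omega⟩
  have key : ∀ D : Fin t → Submodule F (Fin d ⊕ Fin d → F), Good a D →
      ∃ b : Basis (Fin t × (Fin k ⊕ Fin k)) F (Fin d ⊕ Fin d → F), (∀ p, b p ∈ D p.1) ∧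
        (∀ j, D j = Submodule.span F (Set.range fun s => b (j, s))) ∧ ∀ p p', sympForm d F (b p) (b p') =
          if p.1 = p'.1 then sympForm k F (Pi.single p.2 1) (Pi.single p'.2 1) else 0 := by
    intro D hD
    have hb : ∀ j, ∃ e : Fin k ⊕ Fin k → (Fin d ⊕ Fin d → F), (∀ s, e s ∈ D j) ∧
        ∀ s u, sympForm d F (e s) (e u) = sympForm k F (Pi.single s 1) (Pi.single u 1) := by
      intro j
      obtain ⟨k', hk', e, he, hee⟩ := SymplecticAlt.exists_symp_basis bil (fun v => form_self v) a (D j)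
        (hD.1.finrank_eq j) fun u hu h => by
          by_contra h0
          obtain ⟨z, hz, hne⟩ := hD.2.1 j u hu h0
          exact hne (h z hz)
      obtain rfl : k' = k := by omega
      exact ⟨e, he, hee⟩
    choose e he hee using hb
    have hform : ∀ p p' : Fin t × (Fin k ⊕ Fin k), sympForm d F (e p.1 p.2) (e p'.1 p'.2) =
        if p.1 = p'.1 then sympForm k F (Pi.single p.2 1) (Pi.single p'.2 1) else 0 := by
      rintro ⟨j, s⟩ ⟨j', u⟩
      by_cases h : j = j'
      · subst h; rw [if_pos rfl]; exact hee _ _ _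
      · rw [if_neg h]; exact hD.2.2 j j' h _ (he _ _) _ (he _ _)
    have hli : LinearIndependent F (fun p : Fin t × (Fin k ⊕ Fin k) => e p.1 p.2) := by
      rw [Fintype.linearIndependent_iff]
      rintro w hw ⟨j, s⟩
      have hz : ∀ u, sympForm k F (fun s => w (j, s)) (Pi.single u 1) = 0 := by
        intro u
        have h1 := congrArg (fun v => bil v (e j u)) hw
        simp only [map_sum, map_smul, LinearMap.sum_apply, LinearMap.smul_apply, smul_eq_mul, bil_apply,
          map_zero, LinearMap.zero_apply] at h1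
        rw [Fintype.sum_prod_type, Finset.sum_eq_single j] at h1
        · rw [← h1, show (fun s => w (j, s)) = ∑ s, w (j, s) • (Pi.single s 1 : Fin k ⊕ Fin k → F) from
            pi_eq_sum_univ' _]
          rw [← bil_apply, map_sum, LinearMap.sum_apply]
          refine Finset.sum_congr rfl fun s _ => ?_
          rw [map_smul, LinearMap.smul_apply, bil_apply, smul_eq_mul, hform (j, s) (j, u), if_pos rfl]
        · intro j' _ hne
          exact Finset.sum_eq_zero fun s _ => by rw [hform (j', s) (j, u), if_neg hne, mul_zero]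
        · exact fun h => absurd (Finset.mem_univ _) h
      have hw0 : (fun s => w (j, s)) = 0 := form_nondeg fun v => by
        rw [pi_eq_sum_univ' v, ← bil_apply, map_sum]
        exact Finset.sum_eq_zero fun u _ => by rw [map_smul, bil_apply, hz u, smul_zero]
      exact congrFun hw0 s
    have hcard : Fintype.card (Fin t × (Fin k ⊕ Fin k)) = finrank F (Fin d ⊕ Fin d → F) := by
      rw [Fintype.card_prod, Fintype.card_fin, Fintype.card_sum, Fintype.card_fin, finrank_space, hat, hk]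
      ring
    have hsub : ∀ j, D j = Submodule.span F (Set.range fun s => e j s) := by
      intro j
      refine (Submodule.eq_of_le_of_finrank_eq (Submodule.span_le.2 (by rintro _ ⟨s, rfl⟩; exact he j s)) ?_).symm
      refine (finrank_span_eq_card (hli.comp (fun s => (j, s)) fun s u h => congrArg Prod.snd h)).trans ?_
      rw [Fintype.card_sum, Fintype.card_fin, hD.1.finrank_eq, hk, two_mul]
    let b := Basis.mk hli (hli.span_eq_top_of_card_eq_finrank' hcard).ge
    have hbe : ∀ p, b p = e p.1 p.2 := fun p => Basis.mk_apply _ _ _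
    exact ⟨b, fun p => hbe p ▸ he _ _, fun j => by simp only [hbe]; exact hsub j,
      fun p p' => by rw [hbe, hbe]; exact hform p p'⟩
  obtain ⟨b, -, hbs, hbf⟩ := key D hD
  obtain ⟨b', -, hbs', hbf'⟩ := key D' hD'
  let L := (b.equiv b' (Equiv.refl _)).toLinearMap
  have hLb : ∀ p, L (b p) = b' p := fun p => by simp [L]
  have hL : ∀ u v, sympForm d F (L u) (L v) = sympForm d F u v := by
    have h : bil.compl₁₂ L L = (bil : _ →ₗ[F] _ →ₗ[F] F) := b.ext fun p => b.ext fun p' => by
      rw [LinearMap.compl₁₂_apply, hLb, hLb, bil_apply, bil_apply, hbf, hbf']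
    exact fun u v => LinearMap.congr_fun (LinearMap.congr_fun h u) v
  refine ⟨⟨LinearMap.toMatrix' L, mem_sp_iff_form.2 fun u v => by
    rw [← Matrix.toLin'_apply, ← Matrix.toLin'_apply, Matrix.toLin'_toMatrix']; exact hL u v⟩, fun j => ?_⟩
  rw [Matrix.toLin'_toMatrix', hbs, hbs', Submodule.map_span, ← Set.range_comp]
  congr 2
  funext s
  exact hLb _

/-- `r` divides some `q^{2j} - 1`, `j ≤ d`. -/
theorem exists_fit [Fintype F] {r a t : ℕ} [Fact r.Prime] (hr : (r : F) ≠ 0) (ha : 2 ≤ a) (hae : Even a)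
    (ht : 2 ≤ t) (hat : 2 * d = a * t)
    (hΩ : r ∣ Nat.card {D : Fin t → Submodule F (Fin d ⊕ Fin d → F) // Good a D} / Nat.factorial t) :
    ∃ j, 1 ≤ j ∧ j ≤ d ∧ (Fintype.card F : ZMod r) ^ (2 * j) = 1 := by
  classical
  let X := {D : Fin t → Submodule F (Fin d ⊕ Fin d → F) // Good a D}
  have hinjD : ∀ D : X, Function.Injective D.1 := fun D => D.2.1.indep.injective fun j e => by
    have := D.2.1.finrank_eq j
    rw [e, finrank_bot] at this
    omega
  have hperm : ∀ (D : X) (τ : Equiv.Perm (Fin t)), Good a (D.1 ∘ τ) :=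
    fun D τ => ⟨⟨D.2.1.two_le, D.2.1.pos, fun j => D.2.1.finrank_eq _, D.2.1.indep.comp τ.injective,
      (τ.iSup_comp (g := D.1)).trans D.2.1.iSup_eq_top⟩, fun j => D.2.2.1 _,
      fun j j' h => D.2.2.2 _ _ fun e => h (τ.injective e)⟩
  have h1 : r ∣ Nat.card X := by
    refine dvd_trans hΩ ?_
    have hfac : Nat.factorial t ∣ Nat.card X := by
      let Φ : X → {S : Set (Submodule F (Fin d ⊕ Fin d → F)) // ∃ D : X, Set.range D.1 = S} :=
        fun D => ⟨Set.range D.1, D, rfl⟩
      have : Fintype {S : Set (Submodule F (Fin d ⊕ Fin d → F)) // ∃ D : X, Set.range D.1 = S} := Fintype.ofFinite _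
      rw [← Nat.card_congr (Equiv.sigmaFiberEquiv Φ), Nat.card_sigma]
      refine Finset.dvd_sum fun S _ => ?_
      obtain ⟨S, D₀, rfl⟩ := S
      have e : Equiv.Perm (Fin t) ≃ {D // Φ D = ⟨Set.range D₀.1, D₀, rfl⟩} :=
        Equiv.ofBijective
          (fun τ => ⟨⟨D₀.1 ∘ τ, hperm D₀ τ⟩, Subtype.ext (τ.surjective.range_comp D₀.1)⟩)
          ⟨fun τ τ' h => Equiv.ext fun j => hinjD D₀ (congrFun (congrArg (fun D => D.1.1) h) j),
            fun ⟨D, hD⟩ => by
              have hD' : Set.range D.1 = Set.range D₀.1 := congrArg Subtype.val hD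
              have hex : ∀ j, ∃ i, D₀.1 i = D.1 j := fun j => hD'.le ⟨j, rfl⟩
              choose f hf using hex
              have hfi : Function.Injective f := fun i j h => hinjD D (by rw [← hf, h, hf])
              exact ⟨Equiv.ofBijective f (Finite.injective_iff_bijective.1 hfi),
                Subtype.ext (Subtype.ext (funext hf))⟩⟩
      rw [← Nat.card_congr e, Nat.card_perm, Nat.card_eq_fintype_card, Fintype.card_fin]
    obtain ⟨u, hu⟩ := hfac
    show Nat.card X / Nat.factorial t ∣ Nat.card X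
    rw [hu, Nat.mul_div_cancel_left _ (Nat.factorial_pos t)]
    exact dvd_mul_left u _
  obtain ⟨D₀, hD₀⟩ : ∃ D : Fin t → Submodule F (Fin d ⊕ Fin d → F), Good a D := by
    obtain ⟨D, hD, -⟩ := exists_good (g := (1 : Module.End F (Fin d ⊕ Fin d → F))) (r := r) (c := 2)
      ⟨fun u v => rfl, one_pow r, hr⟩ two_pos even_two ht (by omega) hae hat
      (fun W _ _ h => absurd (fun v _ => mem_fixedSp.2 rfl) h) (by rw [Nat.even_iff.1 hae, mul_zero]; exact Nat.zero_le _)
    exact ⟨D, hD⟩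
  have hmap : ∀ (x : symplecticGroup (Fin d) F) (D : X), Good a fun j => (D.1 j).map (Matrix.toLin' x.1) := by
    intro x D
    have hinj : Function.Injective (Matrix.toLin' x.1) := fun u v h => by
      have h' : x • u = x • v := h
      exact MulAction.injective x h'
    refine ⟨⟨D.2.1.two_le, D.2.1.pos, fun j => ?_, ?_, ?_⟩, ?_, ?_⟩
    · exact ((Submodule.equivMapOfInjective _ hinj (D.1 j)).finrank_eq).symm.trans (D.2.1.finrank_eq j)
    · exact (iSupIndep_map_orderIso_iff (Submodule.orderIsoMapComap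
        (LinearEquiv.ofInjectiveEndo _ hinj)) (a := D.1)).2 D.2.1.indep
    · rw [← Submodule.map_iSup, D.2.1.iSup_eq_top, Submodule.map_top,
        LinearMap.range_eq_top.2 (LinearMap.injective_iff_surjective.1 hinj)]
    · rintro j _ ⟨u, hu, rfl⟩ hne
      obtain ⟨v, hv, hv'⟩ := D.2.2.1 j u hu fun e => hne (by rw [e, map_zero])
      exact ⟨_, ⟨v, hv, rfl⟩, by rwa [show sympForm d F (Matrix.toLin' x.1 u) (Matrix.toLin' x.1 v) =
        sympForm d F u v from form_map x u v]⟩
    · rintro j j' h _ ⟨u, hu, rfl⟩ _ ⟨v, hv, rfl⟩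
      exact (form_map x u v).trans (D.2.2.2 j j' h u hu v hv)
  let : MulAction (symplecticGroup (Fin d) F) X :=
    { smul := fun x D => ⟨_, hmap x D⟩
      one_smul := fun D => Subtype.ext (funext fun j => by
        show (D.1 j).map (Matrix.toLin' (1 : symplecticGroup (Fin d) F).1) = D.1 j
        rw [OneMemClass.coe_one, Matrix.toLin'_one, Submodule.map_id])
      mul_smul := fun x y D => Subtype.ext (funext fun j => by
        show (D.1 j).map (Matrix.toLin' (x * y).1) = ((D.1 j).map (Matrix.toLin' y.1)).map (Matrix.toLin' x.1)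
        rw [Submonoid.coe_mul, Matrix.toLin'_mul, Submodule.map_comp]) }
  have : MulAction.IsPretransitive (symplecticGroup (Fin d) F) X := ⟨fun D D' => by
    obtain ⟨x, hx⟩ := exists_map_good hat D.2 D'.2
    exact ⟨x, Subtype.ext (funext hx)⟩⟩
  have h2 : Nat.card X ∣ Nat.card (symplecticGroup (Fin d) F) := by
    rw [← MulAction.index_stabilizer_of_transitive (symplecticGroup (Fin d) F) (⟨D₀, hD₀⟩ : X)]
    exact Subgroup.index_dvd_card _
  have h4 := dvd_trans h1 h2
  rw [SymplecticOrder.card_symplectic rfl] at h4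
  rcases (Fact.out : r.Prime).dvd_mul.1 h4 with h5 | h5
  · exact absurd ((ZMod.natCast_eq_zero_iff _ _).2 ((Fact.out : r.Prime).dvd_of_dvd_pow h5))
      (PrimeOrderModule84.natCast_card_ne_zero hr)
  · obtain ⟨j, hj, hdvd⟩ := (Fact.out : r.Prime).prime.dvd_finsetProd_iff _ |>.1 h5
    rw [Finset.mem_range] at hj
    refine ⟨j + 1, by omega, hj, ?_⟩
    have h6 := (ZMod.natCast_eq_zero_iff _ _).2 hdvd
    rw [Nat.cast_sub (Nat.one_le_pow _ _ Fintype.card_pos), Nat.cast_pow, Nat.cast_one, sub_eq_zero] at h6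
    exact h6

theorem mirror_pow_self {B : F[X]} (h : B.mirror = B) (e : ℕ) : (B ^ e).mirror = B ^ e := by
  induction e with
  | zero => rw [pow_zero, ← C_1, mirror_C]
  | succ e ih => rw [pow_succ, mirror_mul_of_domain, ih, h]

/-- An element with the smallest possible fixed space. -/
theorem exists_test [Fintype F] {p r i : ℕ} [Fact p.Prime] [CharP F p] [Fact r.Prime] (hr2 : r ≠ 2)
    (hrp : r ≠ p) (hi : i = orderOf (Fintype.card F : ZMod r)) :
    ∃ x : symplecticGroup (Fin d) F, x ^ r = 1 ∧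
      finrank F ↥(fixedSp (Matrix.toLin' x.1 : Module.End F (Fin d ⊕ Fin d → F))) ≤
        2 * d % (if Even i then i else 2 * i) := by
  classical
  have hr : r.Prime := Fact.out
  have hdvd : i ∣ r - 1 := hi ▸ ZMod.orderOf_dvd_card_sub_one fun h => by
    obtain ⟨f, hp, hf⟩ := FiniteField.card F p
    have h1 : r ∣ Fintype.card F := (ZMod.natCast_eq_zero_iff _ r).1 h
    rw [hf] at h1
    exact hrp ((Nat.prime_dvd_prime_iff_eq hr hp).1 (hr.dvd_of_dvd_pow h1))
  obtain ⟨u, hu⟩ := hdvd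
  obtain ⟨S, hScard, hi0, hSmem, hSdeg⟩ := exists_factors (p := p) (F := F) rfl hr hrp hi
    (t := u) (by rw [hu, mul_comm])
  obtain ⟨μ, hμS⟩ : S.Nonempty := by
    rw [← Finset.card_pos, hScard]
    rcases Nat.eq_zero_or_pos u with rfl | h
    · have := hr.two_le; omega
    · exact h
  have hμ : IsFactor r μ := by
    obtain ⟨a, b, c, e⟩ := (hSmem μ).1 hμS; exact ⟨a, b, c, e⟩
  have hdeg : μ.natDegree = i := hSdeg μ hμS
  set c := if Even i then i else 2 * i with hc
  have hce : Even c := by rw [hc]; split_ifs with h; exacts [h, even_two_mul i]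
  obtain ⟨B, hBm, hBd, hBmir, hB1, hBdvd⟩ : ∃ B : F[X], B.Monic ∧ B.natDegree = c ∧ B.mirror = B ∧
      B.eval 1 ≠ 0 ∧ B ∣ (X ^ r - 1) ^ 2 := by
    by_cases hev : Even i
    · refine ⟨μ, hμ.monic, by rw [hc, if_pos hev, hdeg], eq_mirror_of_associated ?_ hμ.eval_one,
        hμ.eval_one, hμ.dvd.trans (dvd_pow_self _ two_ne_zero)⟩
      have := assoc_st (μ := μ)
      rwa [st_of_even rfl hr hi hi0 hev hμ] at this
    · refine ⟨μ * st μ, hμ.monic.mul hμ.isFactor_st.monic, ?_, eq_mirror_of_associated ?_ ?_, ?_,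
        pow_two (X ^ r - 1 : F[X]) ▸ mul_dvd_mul hμ.dvd hμ.isFactor_st.dvd⟩
      · rw [hμ.monic.natDegree_mul hμ.isFactor_st.monic, natDegree_st, hdeg, hc, if_neg hev, two_mul]
      · rw [mirror_mul_of_domain, mul_comm μ]
        refine assoc_st.mul_mul ?_
        have := mirror_associated (assoc_st (μ := μ)).symm
        rwa [mirror_mirror] at this
      · rw [eval_mul]; exact mul_ne_zero hμ.eval_one hμ.isFactor_st.eval_one
      · rw [eval_mul]; exact mul_ne_zero hμ.eval_one hμ.isFactor_st.eval_one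
  obtain ⟨m, hm⟩ : Even (2 * d % c) := by
    rw [Nat.even_iff, Nat.mod_mod_of_dvd _ (even_iff_two_dvd.1 hce)]
    omega
  have hdm : c * (2 * d / c) + 2 * d % c = 2 * d := Nat.div_add_mod _ _
  have hPm : (B ^ (2 * d / c) * lin F ^ (2 * d % c)).Monic := (hBm.pow _).mul (lin_monic.pow _)
  have hPmir : (B ^ (2 * d / c) * lin F ^ (2 * d % c)).mirror = B ^ (2 * d / c) * lin F ^ (2 * d % c) := by
    rw [mirror_mul_of_domain, mirror_pow_self hBmir, hm, ← two_mul, pow_mul, mirror_pow_self lin_sq_mirror]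
  obtain ⟨x, hxr, hxP⟩ := SympPrimeElements.exists_of_charpoly (d := d) (p := p) hr.ne_zero
    (B ^ (2 * d / c) * lin F ^ (2 * d % c)) hPm hPmir
    (by rw [(hBm.pow _).natDegree_mul (lin_monic.pow _), natDegree_pow, natDegree_pow, lin_natDegree, hBd,
      mul_one, mul_comm]; exact hdm)
    (N := 2 * (2 * d / c) + 2 * d % c)
    (by rw [pow_add, pow_mul]
        exact mul_dvd_mul (pow_dvd_pow_of_dvd hBdvd _) (pow_dvd_pow_of_dvd (lin_dvd_X_pow_sub_one r) _))
  refine ⟨x, hxr, le_trans (le_of_eq ?_) ((LinearMap.finrank_eigenspace_le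
    (Matrix.toLin' x.1 : Module.End F (Fin d ⊕ Fin d → F)) 1).trans (le_of_eq ?_))⟩
  · rw [Module.End.eigenspace_def, one_smul]
  · rw [Matrix.charpoly_toLin', hxP, rootMultiplicity_mul hPm.ne_zero,
      rootMultiplicity_eq_zero (show ¬ IsRoot (B ^ (2 * d / c)) 1 by
        rw [IsRoot.def, eval_pow]; exact pow_ne_zero _ hB1), lin, rootMultiplicity_X_sub_C_pow, zero_add]

/-- Elements of odd prime order of PSp_n(q) and imprimitive subgroups. Here `T = PSp_n(q)`, `n = 2d ≥ 4`, `(n, q) ≠ (4, 2)`, realised through the symplectic matrices over the field `F` with `q` elements and the standard alternating form; `n = a·t` with `a` even and `t ≥ 2`, and Ω is the (nonempty) set of orthogonal decompositions of `F^n` into `t` nondegenerate subspaces of dimension `a` (unordered; counted as ordered ones divided by `t!`), whose stabilizers are the imprimitive subgroups of type Sp_a(q) ≀ S_t (maximality is not assumed); an element of `T` of prime order `r` (a symplectic matrix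 `x` with `x^r` scalar, `x` not scalar) fixes a point of Ω when it permutes the summands of some such decomposition. Let `r ≠ p` be an odd prime dividing the number of such decompositions, let `i` be the multiplicative order of `q` modulo `r`, `c = i` if `i` is even and `c = 2i` if `i` is odd, and write `k = n mod c`, `ℓ = a mod c`. Then every element of `T` of order `r` stabilizes such a decomposition if and only if `c ≤ a` and `k = t·ℓ`. -/
theorem result {F : Type*} [Field F] [Fintype F] {p : ℕ} [Fact p.Prime] [CharP F p] {q : ℕ} (hq : Fintype.card F = q)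
    (d : ℕ) (hd : 2 ≤ d) (hT : (d, q) ≠ (2, 2))
    (a t : ℕ) (hat : 2 * d = a * t) (ha : 2 ≤ a) (hae : Even a) (ht : 2 ≤ t)
    (r : ℕ) [Fact r.Prime] (hr2 : r ≠ 2) (hrp : r ≠ p) (hΩ : r ∣ Nat.card {D : Fin t → Submodule F (Fin d ⊕ Fin d → F) // (Cfsg.Geo.IsMDecomposition a D ∧ (∀ j, ∀ u ∈ D j, u ≠ 0 → ∃ v ∈ D j, Cfsg.sympForm d F u v ≠ 0) ∧
          (∀ j j', j ≠ j' → ∀ u ∈ D j, ∀ v ∈ D j', Cfsg.sympForm d F u v = 0))} / Nat.factorial t)
    (i c : ℕ) (hi : i = orderOf (q : ZMod r)) (hc : c = if Even i then i else 2 * i) :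
    (∀ x : ↥(Matrix.symplecticGroup (Fin d) F),
      (∃ z : F, ((x ^ r : ↥(Matrix.symplecticGroup (Fin d) F)) : Matrix (Fin d ⊕ Fin d) (Fin d ⊕ Fin d) F) = z • (1 : Matrix (Fin d ⊕ Fin d) (Fin d ⊕ Fin d) F)) →
      (∀ z : F, (x : Matrix (Fin d ⊕ Fin d) (Fin d ⊕ Fin d) F) ≠ z • (1 : Matrix (Fin d ⊕ Fin d) (Fin d ⊕ Fin d) F)) →
      ∃ D : Fin t → Submodule F (Fin d ⊕ Fin d → F), (Cfsg.Geo.IsMDecomposition a D ∧ (∀ j, ∀ u ∈ D j, u ≠ 0 → ∃ v ∈ D j, Cfsg.sympForm d F u v ≠ 0) ∧
          (∀ j j', j ≠ j' → ∀ u ∈ D j, ∀ v ∈ D j', Cfsg.sympForm d F u v = 0)) ∧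
        ∃ σ : Equiv.Perm (Fin t), ∀ j, (D j).map (Matrix.toLin' (x : Matrix (Fin d ⊕ Fin d) (Fin d ⊕ Fin d) F)) = D (σ j)) ↔
    (c ≤ a ∧ (2 * d) % c = t * (a % c)) := by
  classical
  subst hq
  have hrp' : r.Prime := Fact.out
  have hr : (r : F) ≠ 0 := by
    rw [Ne, CharP.cast_eq_zero_iff F p, Nat.prime_dvd_prime_iff_eq Fact.out Fact.out]
    exact fun e => hrp e.symm
  have hcF : blockDim F r = c := by rw [hc, hi, blockDim]
  have hc0 : 0 < c := hcF ▸ blockDim_pos hr
  have hce : Even c := by rw [hc]; split_ifs with h; exacts [h, even_two_mul i]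
  constructor
  · intro h
    obtain ⟨j, hj1, hjd, hj⟩ := exists_fit hr ha hae ht hat hΩ
    have hij : i ∣ 2 * j := hi ▸ orderOf_dvd_of_pow_eq_one hj
    have hir : i ∣ r - 1 := hi ▸ ZMod.orderOf_dvd_card_sub_one (PrimeOrderModule84.natCast_card_ne_zero hr)
    have hi0 : 0 < i := hi ▸ PrimeOrderModule84.orderOf_card_pos (F := F) hr
    have hr3 : 3 ≤ r := by have := hrp'.two_le; omega
    have hcn : c ≤ 2 * d ∧ c ≤ r - 1 := by
      rw [hc]
      split_ifs with hev
      · exact ⟨(Nat.le_of_dvd (by omega) hij).trans (by omega), Nat.le_of_dvd (by omega) hir⟩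
      · have hco : Nat.Coprime i 2 := Nat.coprime_two_right.2 (Nat.not_even_iff_odd.1 hev)
        refine ⟨?_, Nat.le_of_dvd (by omega) (Nat.Coprime.mul_dvd_of_dvd_of_dvd hco.symm ?_ hir)⟩
        · have := Nat.le_of_dvd (by omega) (hco.dvd_mul_left.1 hij); omega
        · obtain ⟨l, hl⟩ := hrp'.odd_of_ne_two hr2; exact ⟨l, by omega⟩
    have app : ∀ x : ↥(Matrix.symplecticGroup (Fin d) F), x ^ r = 1 → x.1 ≠ 1 →
        ∃ D : Fin t → Submodule F (Fin d ⊕ Fin d → F), Good a D ∧ ∃ σ : Equiv.Perm (Fin t),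
          ∀ j, (D j).map (Matrix.toLin' x.1) = D (σ j) := by
      intro x hx h1
      refine h x ⟨1, by rw [hx, one_smul]; rfl⟩ fun z hz => h1 ?_
      have hzz := mul_self_of_scalar (by omega) hz
      obtain ⟨l, hl⟩ := hrp'.odd_of_ne_two hr2
      have h2 : z ^ r • (1 : Matrix (Fin d ⊕ Fin d) (Fin d ⊕ Fin d) F) = 1 := by
        rw [← one_pow (M := Matrix (Fin d ⊕ Fin d) (Fin d ⊕ Fin d) F) r, ← _root_.smul_pow, ← hz,
          ← SubmonoidClass.coe_pow, hx, one_pow]
        rfl
      rw [hl, pow_add, pow_mul, pow_two, hzz, one_pow, one_mul, pow_one] at h2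
      rw [hz, h2]
    -- the structure of an element all of whose summands are invariant
    have main : ∀ x : ↥(Matrix.symplecticGroup (Fin d) F), x ^ r = 1 →
        ∀ D : Fin t → Submodule F (Fin d ⊕ Fin d → F), Good a D →
        (∀ j, (D j).map (Matrix.toLin' x.1) = D j) →
        (a < c → x.1 = 1) ∧
          t * (a % c) ≤ finrank F ↥(fixedSp (Matrix.toLin' x.1 : Module.End F (Fin d ⊕ Fin d → F))) := by
      intro x hx D hD hσ
      set g : Module.End F (Fin d ⊕ Fin d → F) := Matrix.toLin' x.1 with hg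
      have hiso : Iso r g := iso_of_mem x.2 (by rw [← SubmonoidClass.coe_pow, hx]; rfl) hr
      have hK : ∀ j, a % c = finrank F ↥(D j ⊓ fixedSp g) % c := fun j => by
        rw [← hcF]
        exact hiso.finrank_modEq hr2 a (D j) (hD.1.finrank_eq j) (hD.2.1 j)
          fun v hv => (hσ j).le ⟨v, hv, rfl⟩
      have hsum := DecompPerm84.sum_finrank_le hD.1.indep hD.1.iSup_eq_top (fun j => D j ⊓ fixedSp g)
        (fun j => inf_le_left) (fixedSp g) (fun j => inf_le_right)
      refine ⟨fun hac => ?_, ?_⟩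
      · have htop : fixedSp g = ⊤ := by
          rw [eq_top_iff, ← hD.1.iSup_eq_top]
          refine iSup_le fun j => ?_
          have h2 : finrank F ↥(D j ⊓ fixedSp g) ≤ a :=
            (Submodule.finrank_mono inf_le_left).trans (hD.1.finrank_eq j).le
          have h1 := hK j
          rw [Nat.mod_eq_of_lt hac, Nat.mod_eq_of_lt (by omega)] at h1
          exact (Submodule.eq_of_le_of_finrank_eq inf_le_left (h1.symm.trans (hD.1.finrank_eq j).symm)).ge.trans
            inf_le_right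
        have hg1 : g = 1 := LinearMap.ext fun v => mem_fixedSp.1 (htop.ge Submodule.mem_top)
        exact Matrix.toLin'.injective (hg.symm.trans (hg1.trans Matrix.toLin'_one.symm))
      · refine le_trans ?_ hsum
        calc t * (a % c) = ∑ _j : Fin t, a % c := by simp
          _ ≤ _ := Finset.sum_le_sum fun j _ => (hK j).le.trans (Nat.mod_le _ _)
    obtain ⟨x₁, M, hB⟩ := SympPrimeElements.exists_block (p := p) (F := F) rfl hd hrp' hr2 hrp hi ⟨j, hj1, hjd, hj⟩
    have h11 : x₁.1 ≠ 1 := fun e => hB.not_scalar 1 (by rw [e, one_smul])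
    obtain ⟨D, hD, σ, hσ⟩ := app x₁ hB.pow h11
    have hg1 : (Matrix.toLin' x₁.1 : Module.End F (Fin d ⊕ Fin d → F)) ^ r = 1 :=
      (iso_of_mem x₁.2 (by rw [← SubmonoidClass.coe_pow, hB.pow]; rfl) hr).pow
    have hfix1 : ∀ j, σ j = j := by
      intro j
      by_contra hj'
      have h1 := finrank_fixed_le_of_moved (r := r) hD.1.indep hD.1.iSup_eq_top hD.1.finrank_eq
        (by omega) hg1 hσ hj'
      have h2 : 2 * d ≤ finrank F ↥(fixedSp (Matrix.toLin' x₁.1 : Module.End F (Fin d ⊕ Fin d → F))) + c := by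
        rw [hc]; exact hB.fixed
      have h3 : (r - 1) * 2 ≤ (r - 1) * a := Nat.mul_le_mul_left _ ha
      rw [mul_comm t a, ← hat] at h1
      have := hcn.2
      omega
    have hca : c ≤ a := not_lt.1 fun hac => h11 ((main x₁ hB.pow D hD fun j => by rw [hσ, hfix1]).1 hac)
    refine ⟨hca, ?_⟩
    obtain ⟨x₂, hx₂, hk₂⟩ := exists_test (F := F) (d := d) (p := p) hr2 hrp hi
    rw [← hc] at hk₂
    have hnc : 2 * d % c < c := Nat.mod_lt _ hc0
    have h21 : x₂.1 ≠ 1 := fun e => by
      rw [e, Matrix.toLin'_one] at hk₂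
      have : fixedSp (LinearMap.id : Module.End F (Fin d ⊕ Fin d → F)) = ⊤ :=
        eq_top_iff.2 fun v _ => mem_fixedSp.2 rfl
      rw [this, finrank_top, finrank_space] at hk₂
      have := hcn.1
      omega
    obtain ⟨D', hD', σ', hσ'⟩ := app x₂ hx₂ h21
    have hfix2 : ∀ j, σ' j = j := by
      intro j
      by_contra hj'
      have h1 := DecompPerm84.le_finrank_ker (r := r) hD'.1.indep hD'.1.iSup_eq_top (fun j e => by
          have := hD'.1.finrank_eq j; rw [e, finrank_bot] at this; omega)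
        (iso_of_mem x₂.2 (by rw [← SubmonoidClass.coe_pow, hx₂]; rfl) hr).pow hσ' hj'
      rw [hD'.1.finrank_eq] at h1
      have : finrank F ↥(fixedSp (Matrix.toLin' x₂.1 : Module.End F (Fin d ⊕ Fin d → F))) < a := by omega
      exact absurd h1 (not_le.2 this)
    have h5 := ((main x₂ hx₂ D' hD' fun j => by rw [hσ', hfix2]).2).trans hk₂
    rw [hat, mul_comm a t, Nat.mul_mod t a c] at h5 ⊢
    have h6 : t * (a % c) < c := lt_of_le_of_lt h5 (Nat.mod_lt _ hc0)
    rw [Nat.mod_eq_of_lt (show t * (a % c) < c from h6) |>.symm, Nat.mul_mod t (a % c) c, Nat.mod_mod]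
  · rintro ⟨hca, hmod⟩ x ⟨z, hz⟩ -
    have hzz := mul_self_of_scalar (by omega) hz
    have hz0 : z ≠ 0 := fun e => by rw [e, mul_zero] at hzz; exact zero_ne_one hzz
    have hmem : z • x.1 ∈ symplecticGroup (Fin d) F := mem_sp_iff_form.2 fun u v => by
      rw [smul_mulVec, smul_mulVec, form_smul_left, form_smul_right, ← mul_assoc, hzz, one_mul]
      exact mem_sp_iff_form.1 x.2 u v
    have hpow : (z • x.1) ^ r = 1 := by
      obtain ⟨l, hl⟩ := hrp'.odd_of_ne_two hr2
      rw [_root_.smul_pow, ← SubmonoidClass.coe_pow, hz, smul_smul, ← pow_succ, hl,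
        show 2 * l + 1 + 1 = 2 * (l + 1) by omega, pow_mul, pow_two, hzz, one_pow, one_smul]
    have hiso := iso_of_mem hmem hpow hr
    have hk := hiso.finrank_modEq hr2 (2 * d) ⊤ (by rw [finrank_top, finrank_space]) nondegOn_top
      (fun v _ => Submodule.mem_top)
    rw [top_inf_eq, hcF, hmod] at hk
    obtain ⟨D, hD, hσ⟩ := exists_good hiso hc0 hce ht (by omega) hae hat
      (fun W hW hWg hf => by rw [← hcF]; exact hiso.exists_block hr2 hW hWg hf)
      (hk ▸ Nat.mod_le _ _)
    refine ⟨D, hD, 1, fun j => ?_⟩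
    rw [Equiv.Perm.one_apply]
    conv_rhs => rw [← hσ j]
    rw [map_smul, Submodule.map_smul _ _ z hz0]

end Cfsg.Agent.S5961
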