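import Cfsg.Statements.S5955
import Cfsg.Agent.Lib.SympTIPeel92
import Cfsg.Agent.Lib.SympPrimeElements
import Cfsg.Agent.Lib.SymplecticIsotropic
import Cfsg.Agent.S5961
-- import your own Cfsg.Agent.* helpers here

set_option autoImplicit false
open scoped MatrixGroups
open Cfsg

namespace Cfsg.Agent.S5955

open Module Polynomial Matrix Cfsg.Agent.SymplecticBasic Cfsg.Agent.SympDecompPeel92 Cfsg.Agent.SympTIPeel92
  Cfsg.Agent.SelfReciprocalFactors Cfsg.Agent.PrimeOrderClassCount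

variable {F : Type*} [Field F] {d : ℕ}

/-- Some invariant totally isotropic subspace of dimension `m` exists. -/
abbrev Has (g : Module.End F (Fin d ⊕ Fin d → F)) (m : ℕ) : Prop :=
  ∃ S, TIInv g S ∧ finrank F S = m

/-- `r` divides some `q^{2(d-j)} - 1`, `j < m`. -/
theorem exists_fit [Fintype F] {p r m : ℕ} [Fact p.Prime] [CharP F p] [Fact r.Prime] (hmd : m ≤ d)
    (hΩ : r ∣ Nat.card {W : Submodule F (Fin d ⊕ Fin d → F) //
      Module.finrank F ↥W = m ∧ (∀ u ∈ W, ∀ v ∈ W, Cfsg.sympForm d F u v = 0)}) :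
    r ≠ p ∧ ∃ j < m, (Fintype.card F : ZMod r) ^ (2 * (d - j)) = 1 := by
  classical
  have h := SymplecticIsotropic.card_subspaces_mul (F := F) d m
  rw [SymplecticIsotropic.card_frames, Nat.card_eq_fintype_card (α := F),
    Fin.prod_univ_eq_prod_range (fun i => Fintype.card F ^ m - Fintype.card F ^ i) m] at h
  set q := Fintype.card F with hq
  have h1 : ∏ i ∈ Finset.range m, (q ^ m - q ^ i) =
      (∏ i ∈ Finset.range m, q ^ i) * ∏ i ∈ Finset.range m, (q ^ (m - i) - 1) := by
    rw [← Finset.prod_mul_distrib]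
    refine Finset.prod_congr rfl fun i hi => ?_
    rw [Finset.mem_range] at hi
    rw [PrimeOrderModule84.sub_eq_mul hi.le]
  have h2 : ∏ i ∈ Finset.range m, (q ^ (2 * d - i) - q ^ i) =
      (∏ i ∈ Finset.range m, q ^ i) * ∏ i ∈ Finset.range m, (q ^ (2 * (d - i)) - 1) := by
    rw [← Finset.prod_mul_distrib]
    refine Finset.prod_congr rfl fun i hi => ?_
    rw [Finset.mem_range] at hi
    rw [PrimeOrderModule84.sub_eq_mul (show i ≤ 2 * d - i by omega), show 2 * d - i - i = 2 * (d - i) by omega]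
  rw [h1, h2, mul_left_comm] at h
  have h3 := Nat.eq_of_mul_eq_mul_left (Finset.prod_pos fun i _ => pow_pos Fintype.card_pos i) h
  have h4 : r ∣ ∏ i ∈ Finset.range m, (q ^ (2 * (d - i)) - 1) := h3 ▸ hΩ.mul_right _
  obtain ⟨j, hj, hdvd⟩ := (Fact.out : r.Prime).prime.dvd_finsetProd_iff _ |>.1 h4
  rw [Finset.mem_range] at hj
  refine ⟨fun e => ?_, j, hj, ?_⟩
  · obtain ⟨f, hp, hf⟩ := FiniteField.card F p
    subst e
    have h5 : r ∣ q ^ (2 * (d - j)) := by
      rw [hq, hf]; exact dvd_pow (dvd_pow_self r f.ne_zero) (by omega)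
    have h6 := Nat.dvd_sub h5 hdvd
    rw [Nat.sub_sub_self (Nat.one_le_pow _ _ Fintype.card_pos), Nat.dvd_one] at h6
    exact (Fact.out : r.Prime).ne_one h6
  · have h6 := (ZMod.natCast_eq_zero_iff _ _).2 hdvd
    rw [Nat.cast_sub (Nat.one_le_pow _ _ Fintype.card_pos), Nat.cast_pow, Nat.cast_one, sub_eq_zero] at h6
    exact h6

/-- Fixed part plus moved part. -/
theorem has_of_parts {g : Module.End F (Fin d ⊕ Fin d → F)} {r l : ℕ} (hi : Iso r g) (hr : 0 < r)
    (hl : 2 * l ≤ finrank F ↥(fixedSp g)) {S : Submodule F (Fin d ⊕ Fin d → F)} (hS : TIInv g S)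
    (hSle : S ≤ perp (fixedSp g)) : Has g (l + finrank F S) := by
  obtain ⟨hn, -, -, -, -⟩ := SympTIPeel92.fixed_split hi hr
  obtain ⟨S₀, hS₀, hS₀i, hS₀d⟩ := exists_TI_sub hn hl
  obtain ⟨h1, h2⟩ := tiInv_sup (g := g) ⟨hS₀i, fun v hv => by rw [mem_fixedSp.1 (hS₀ hv)]; exact hv⟩ hS hS₀ hn hSle
  exact ⟨_, h1, by rw [h2, hS₀d]⟩

/-- Involutions. -/
theorem has_of_involution {g : Module.End F (Fin d ⊕ Fin d → F)} (hi : Iso 2 g) {m : ℕ} (hmd : m ≤ d) :
    Has g m := by
  obtain ⟨hn, hn', hinv, hfix, hdim⟩ := SympTIPeel92.fixed_split hi two_pos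
  obtain ⟨a, ha⟩ := SympDecompPeel92.even_finrank hn
  obtain ⟨b, hb⟩ := SympDecompPeel92.even_finrank hn'
  obtain ⟨S, hS, hSi, hSd⟩ := exists_TI_sub hn' (l := m - min m a) (by omega)
  have hneg : ∀ v ∈ perp (fixedSp g), g v = -v := by
    intro v hv
    have h1 : g v + v ∈ perp (fixedSp g) ⊓ fixedSp g := by
      refine ⟨Submodule.add_mem _ (hinv v hv) hv, mem_fixedSp.2 ?_⟩
      rw [map_add, ← Module.End.mul_apply, ← pow_two, hi.pow, Module.End.one_apply, add_comm]
    rw [hfix, Submodule.mem_bot] at h1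
    exact eq_neg_of_add_eq_zero_left h1
  obtain ⟨W, hW, hWd⟩ := has_of_parts hi two_pos (l := min m a) (by omega)
    (S := S) ⟨hSi, fun v hv => by rw [hneg v (hS hv)]; exact S.neg_mem hv⟩ hS
  exact ⟨W, hW, by omega⟩

/-- Square roots of `-1` with eigenvalues in `F`. -/
theorem has_of_split {g : Module.End F (Fin d ⊕ Fin d → F)}
    (hform : ∀ u v, sympForm d F (g u) (g v) = sympForm d F u v) (hg : g * g = -1) {s : F} (hs : s * s = -1)
    (h2 : (2 : F) ≠ 0) {m : ℕ} (hmd : m ≤ d) : Has g m := by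
  have hti : ∀ e : F, e * e = -1 → ∀ u ∈ LinearMap.ker (g - e • 1), ∀ v ∈ LinearMap.ker (g - e • 1),
      sympForm d F u v = 0 := by
    intro e he u hu v hv
    rw [LinearMap.mem_ker, LinearMap.sub_apply, LinearMap.smul_apply, Module.End.one_apply, sub_eq_zero] at hu hv
    have h := hform u v
    rw [hu, hv, form_smul_left, form_smul_right, ← mul_assoc, he] at h
    have : (2 : F) * sympForm d F u v = 0 := by linear_combination -1 * h
    exact (mul_eq_zero.1 this).resolve_left h2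
  have hsne : s + s ≠ 0 := by
    rw [← two_mul]
    exact mul_ne_zero h2 fun e => by rw [e, mul_zero] at hs; exact neg_ne_zero.2 one_ne_zero hs.symm
  have hle : ∀ e : F, e * e = -1 → finrank F ↥(LinearMap.ker (g - e • 1)) ≤ d := fun e he => by
    have := two_mul_finrank_le nondegOn_top (S := LinearMap.ker (g - e • 1)) le_top (hti e he)
    rw [finrank_top, S5961.finrank_space] at this
    omega
  have hsup : (⊤ : Submodule F (Fin d ⊕ Fin d → F)) ≤
      LinearMap.ker (g - s • 1) ⊔ LinearMap.ker (g - (-s) • 1) := by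
    intro v _
    have hgg : g (g v) = -v := by rw [← Module.End.mul_apply, hg]; rfl
    have key : ∀ e : F, e * e = -1 → g v + e • v ∈ LinearMap.ker (g - e • 1) := fun e he => by
      rw [LinearMap.mem_ker, LinearMap.sub_apply, LinearMap.smul_apply, Module.End.one_apply, map_add,
        map_smul, hgg, smul_add, smul_smul, he]
      module
    have : v = (s + s)⁻¹ • (g v + s • v) + (-(s + s)⁻¹) • (g v + (-s) • v) := by
      rw [show (s + s)⁻¹ • (g v + s • v) + (-(s + s)⁻¹) • (g v + (-s) • v) = ((s + s)⁻¹ * (s + s)) • v by module,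
        inv_mul_cancel₀ hsne, one_smul]
    rw [this]
    exact Submodule.add_mem_sup (Submodule.smul_mem _ _ (key s hs))
      (Submodule.smul_mem _ _ (key (-s) (by rw [neg_mul_neg, hs])))
  have h3 := Submodule.finrank_mono hsup
  rw [finrank_top, S5961.finrank_space] at h3
  have h4 := Submodule.finrank_add_le_finrank_add_finrank (LinearMap.ker (g - s • 1)) (LinearMap.ker (g - (-s) • 1))
  have h5 := hle (-s) (by rw [neg_mul_neg, hs])
  obtain ⟨U, -, hU, hUd⟩ := PrimeOrderModule84.exists_between (bot_le : ⊥ ≤ LinearMap.ker (g - s • 1))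
    (k := m) (by rw [finrank_bot]; omega) (by omega)
  refine ⟨U, ⟨fun u hu v hv => hti s hs u (hU hu) v (hU hv), fun v hv => ?_⟩, hUd⟩
  have := LinearMap.mem_ker.1 (hU hv)
  rw [LinearMap.sub_apply, LinearMap.smul_apply, Module.End.one_apply, sub_eq_zero] at this
  rw [this]; exact U.smul_mem s hv

/-- Square roots of `-1` without eigenvalues. -/
theorem has_of_nonsplit [Fintype F] {g : Module.End F (Fin d ⊕ Fin d → F)}
    (hform : ∀ u v, sympForm d F (g u) (g v) = sympForm d F u v) (hg : g * g = -1)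
    (hq : Fintype.card F % 4 = 3) (hns : ∀ e : F, e * e ≠ -1) (h2 : (2 : F) ≠ 0) :
    ∀ (l : ℕ) (W : Submodule F (Fin d ⊕ Fin d → F)), NondegOn W → (∀ v ∈ W, g v ∈ W) →
      4 * l ≤ finrank F W → ∃ S ≤ W, TIInv g S ∧ finrank F S = 2 * l := by
  have hgg : ∀ v, g (g v) = -v := fun v => by rw [← Module.End.mul_apply, hg]; rfl
  have hinvp : ∀ (P : Submodule F (Fin d ⊕ Fin d → F)), (∀ v ∈ P, g v ∈ P) →
      ∀ v ∈ perp P, g v ∈ perp P := fun P hP v hv w hw => by
    rw [show w = g (-(g w)) by rw [map_neg, hgg, neg_neg], hform]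
    exact hv _ (P.neg_mem (hP w hw))
  -- an invariant nondegenerate plane
  have plane : ∀ W : Submodule F (Fin d ⊕ Fin d → F), NondegOn W → (∀ v ∈ W, g v ∈ W) → 0 < finrank F W →
      ∃ P ≤ W, NondegOn P ∧ (∀ v ∈ P, g v ∈ P) ∧ finrank F P = 2 := by
    intro W hW hWg hd
    obtain ⟨v, hv, hne⟩ : ∃ v ∈ W, sympForm d F v (g v) ≠ 0 := by
      by_contra hall
      push Not at hall
      obtain ⟨v, hv, hv0⟩ := Submodule.exists_mem_ne_zero_of_ne_bot (p := W) fun e => by
        rw [e, finrank_bot] at hd; omega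
      obtain ⟨z, hz, hne⟩ := hW v hv hv0
      apply hne
      have key : ∀ w ∈ W, sympForm d F v (g w) = 0 := fun w hw => by
        have h1 := hall (v + w) (W.add_mem hv hw)
        rw [map_add, form_add_left, form_add_right, form_add_right, hall v hv, hall w hw] at h1
        have h3 : sympForm d F w (g v) = sympForm d F v (g w) := by
          rw [← hform w (g v), hgg, ← neg_one_smul F v, form_smul_right, form_swap v (g w)]
          ring
        rw [h3] at h1
        have : (2 : F) * sympForm d F v (g w) = 0 := by linear_combination h1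
        exact (mul_eq_zero.1 this).resolve_left h2
      have h4 := key _ (W.neg_mem (hWg z hz))
      rwa [map_neg, hgg, neg_neg] at h4
    refine ⟨Submodule.span F {v, g v}, ?_, ?_, ?_, ?_⟩
    · rw [Submodule.span_le]
      rintro x (rfl | rfl)
      exacts [hv, hWg v hv]
    · intro x hx hx0
      obtain ⟨a, b, rfl⟩ := Submodule.mem_span_pair.1 hx
      by_cases ha : a = 0
      · refine ⟨v, Submodule.mem_span_pair.2 ⟨1, 0, by simp⟩, ?_⟩
        subst ha
        rw [form_add_left, form_smul_left, form_smul_left, form_swap v (g v), zero_mul, zero_add]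
        have hb : b ≠ 0 := fun hb => hx0 (by simp [hb])
        exact mul_ne_zero hb (neg_ne_zero.2 hne)
      · refine ⟨g v, Submodule.mem_span_pair.2 ⟨0, 1, by simp⟩, ?_⟩
        rw [form_add_left, form_smul_left, form_smul_left, form_self, mul_zero, add_zero]
        exact mul_ne_zero ha hne
    · intro x hx
      obtain ⟨a, b, rfl⟩ := Submodule.mem_span_pair.1 hx
      rw [map_add, map_smul, map_smul, hgg]
      exact Submodule.mem_span_pair.2 ⟨-b, a, by module⟩
    · have hli : LinearIndependent F ![v, g v] := by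
        rw [LinearIndependent.pair_iff]
        intro a b hab
        have h1 := congrArg (fun y => sympForm d F y (g v)) hab
        have h3 := congrArg (fun y => sympForm d F v y) hab
        have e1 : sympForm d F (0 : Fin d ⊕ Fin d → F) (g v) = 0 := by simp [sympForm]
        have e2 : sympForm d F v (0 : Fin d ⊕ Fin d → F) = 0 := by simp [sympForm]
        simp only [form_add_left, form_add_right, form_smul_left, form_smul_right, form_self, mul_zero,
          zero_add, add_zero] at h1 h3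
        rw [e1] at h1
        rw [e2] at h3
        exact ⟨(mul_eq_zero.1 h1).resolve_right hne, (mul_eq_zero.1 h3).resolve_right hne⟩
      have := finrank_span_eq_card hli
      rwa [Matrix.range_cons, Matrix.range_cons, Matrix.range_empty, Set.union_empty, Set.singleton_union,
        Fintype.card_fin] at this
  intro l
  induction l with
  | zero => exact fun W _ _ _ => ⟨⊥, bot_le, tiInv_bot g, by rw [finrank_bot]⟩
  | succ l ih =>
    intro W hW hWg hd
    obtain ⟨P₁, hP₁W, hP₁, hg₁, hd₁⟩ := plane W hW hWg (by omega)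
    obtain ⟨-, hn1, hdim1⟩ := split hP₁W hP₁ hW
    have hg1' : ∀ v ∈ W ⊓ perp P₁, g v ∈ W ⊓ perp P₁ := fun v hv => ⟨hWg v hv.1, hinvp P₁ hg₁ v hv.2⟩
    obtain ⟨P₂, hP₂W, hP₂, hg₂, hd₂⟩ := plane _ hn1 hg1' (by omega)
    have hperp : P₂ ≤ perp P₁ := hP₂W.trans inf_le_right
    have hk : ∀ v, aeval g (X ^ 2 + 1 : F[X]) v = 0 := fun v => by
      rw [map_add, map_pow, aeval_X, map_one, pow_two, hg, neg_add_cancel]; rfl
    have hμ : Irreducible (X ^ 2 + 1 : F[X]) := by
      have hdeg : (X ^ 2 + 1 : F[X]).natDegree = 2 := natDegree_X_pow_add_C (r := (1 : F))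
      refine (irreducible_iff_roots_eq_zero_of_degree_le_three (by omega) (by omega)).2 ?_
      refine Multiset.eq_zero_iff_forall_notMem.2 fun e he => hns e ?_
      have h := (mem_roots'.1 he).2
      simp [IsRoot] at h
      linear_combination h
    have hQ : g ^ (Fintype.card F ^ 1) * g = 1 := by
      obtain ⟨e, he⟩ : ∃ e, Fintype.card F ^ 1 + 1 = 2 * (2 * e) := ⟨(Fintype.card F + 1) / 4, by rw [pow_one]; omega⟩
      rw [← pow_succ, he, pow_mul, pow_two, hg]
      exact Even.neg_one_pow (α := Module.End F (Fin d ⊕ Fin d → F)) ⟨e, two_mul e⟩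
    obtain ⟨S₀, hS₀, hS₀ti, hS₀d⟩ := exists_TI_pair hform hμ (monic_X_pow_add_C (1 : F) two_ne_zero) (k := 1)
      (natDegree_X_pow_add_C (r := (1 : F))) one_pos hQ hP₁ hP₂ hg₁ hg₂ hd₁ hd₂ hperp (fun v _ => hk v) (fun v _ => hk v)
    have hTW : P₁ ⊔ P₂ ≤ W := sup_le hP₁W (hP₂W.trans inf_le_left)
    have hTn := nondegOn_sup hP₁ hP₂ hperp
    have hTd : finrank F ↥(P₁ ⊔ P₂) = 4 := by
      have h := Submodule.finrank_sup_add_finrank_inf_eq P₁ P₂
      rw [show P₁ ⊓ P₂ = ⊥ from le_bot_iff.1 ((inf_le_inf_left _ hperp).trans (inf_perp_eq_bot hP₁).le),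
        finrank_bot, add_zero] at h
      omega
    have hTg : ∀ v ∈ P₁ ⊔ P₂, g v ∈ P₁ ⊔ P₂ := fun v hv => by
      obtain ⟨x, hx, y, hy, rfl⟩ := Submodule.mem_sup.1 hv
      rw [map_add]
      exact Submodule.add_mem_sup (hg₁ x hx) (hg₂ y hy)
    obtain ⟨-, hn', hdim⟩ := split hTW hTn hW
    obtain ⟨S, hSW, hS, hSd⟩ := ih (W ⊓ perp (P₁ ⊔ P₂)) hn' (fun v hv => ⟨hWg v hv.1, hinvp _ hTg v hv.2⟩)
      (by omega)
    obtain ⟨h1, h3⟩ := tiInv_sup hS₀ti hS hS₀ hTn (hSW.trans inf_le_right)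
    exact ⟨S₀ ⊔ S, sup_le (hS₀.trans hTW) (hSW.trans inf_le_left), h1, by omega⟩

/-- The fixed space of a matrix with given characteristic polynomial. -/
theorem finrank_fixed_le {x : Matrix (Fin d ⊕ Fin d) (Fin d ⊕ Fin d) F} {R : F[X]} {K : ℕ}
    (hx : x.charpoly = R * lin F ^ K) (hR : R.eval 1 ≠ 0) :
    finrank F ↥(fixedSp (Matrix.toLin' x : Module.End F (Fin d ⊕ Fin d → F))) ≤ K := by
  classical
  have hR0 : R ≠ 0 := fun e => hR (by rw [e, eval_zero])
  refine le_trans (le_of_eq ?_) ((LinearMap.finrank_eigenspace_le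
    (Matrix.toLin' x : Module.End F (Fin d ⊕ Fin d → F)) 1).trans (le_of_eq ?_))
  · rw [Module.End.eigenspace_def, one_smul]
  · rw [Matrix.charpoly_toLin', hx, rootMultiplicity_mul (mul_ne_zero hR0 (lin_monic.pow K).ne_zero),
      rootMultiplicity_eq_zero (show ¬ IsRoot R 1 from hR), lin, rootMultiplicity_X_sub_C_pow, zero_add]

/-- An element of even type with few isotropic invariant subspaces. -/
theorem exists_elem [Fintype F] {p r i : ℕ} [Fact p.Prime] [CharP F p] [Fact r.Prime]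
    (hrp : r ≠ p) (hi : i = orderOf (Fintype.card F : ZMod r)) (hev : Even i)
    {u : ℕ} (hu : u * i = r - 1) {s e K : ℕ} (hs : s + 1 ≤ u) (hK : Even K) (hdim : (s + e) * i + K = 2 * d)
    (hpos : 0 < s + e) :
    ∃ x : symplecticGroup (Fin d) F, x ^ r = 1 ∧ x.1 ≠ 1 ∧ ∀ W : Submodule F (Fin d ⊕ Fin d → F),
      TIInv (Matrix.toLin' x.1 : Module.End F (Fin d ⊕ Fin d → F)) W →
      ∃ l, 2 * l ≤ K ∧ l ≤ finrank F W ∧ i ∣ finrank F W - l ∧ finrank F W ≤ l + e / 2 * i := by
  classical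
  have hr : r.Prime := Fact.out
  obtain ⟨S, hScard, hi0, hSmem, hSdeg⟩ := exists_factors (p := p) (F := F) rfl hr hrp hi (t := u) hu
  have hfac : ∀ μ ∈ S, IsFactor r μ := fun μ h => by
    obtain ⟨a, b, c, e⟩ := (hSmem μ).1 h; exact ⟨a, b, c, e⟩
  obtain ⟨T, hTS, hT⟩ := Finset.exists_subset_card_eq (show s + 1 ≤ S.card by omega)
  obtain ⟨μ₀, hμ₀⟩ : T.Nonempty := Finset.card_pos.1 (by omega)
  set T' := T.erase μ₀ with hT'
  have hT'c : T'.card = s := by rw [hT', Finset.card_erase_of_mem hμ₀, hT, Nat.add_sub_cancel]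
  have hT'S : ∀ μ ∈ T', μ ∈ S := fun μ h => hTS (Finset.mem_of_mem_erase h)
  have hmirror : ∀ μ ∈ S, μ.mirror = μ := fun μ h => by
    refine eq_mirror_of_associated ?_ (hfac μ h).eval_one
    have := assoc_st (μ := μ)
    rwa [st_of_even rfl hr hi hi0 hev (hfac μ h)] at this
  set R := μ₀ ^ e * ∏ μ ∈ T', μ with hR
  have hRm : R.Monic := ((hfac _ (hTS hμ₀)).monic.pow e).mul (monic_prod_of_monic _ _ fun μ h => (hfac μ (hT'S μ h)).monic)
  have hR1 : R.eval 1 ≠ 0 := by
    rw [hR, eval_mul, eval_pow, eval_prod]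
    exact mul_ne_zero (pow_ne_zero _ (hfac _ (hTS hμ₀)).eval_one)
      (Finset.prod_ne_zero_iff.2 fun μ h => (hfac μ (hT'S μ h)).eval_one)
  have hRd : R.natDegree = (s + e) * i := by
    rw [hR, ((hfac _ (hTS hμ₀)).monic.pow e).natDegree_mul
      (monic_prod_of_monic _ _ fun μ h => (hfac μ (hT'S μ h)).monic), natDegree_pow,
      natDegree_prod_of_monic _ _ (fun μ h => (hfac μ (hT'S μ h)).monic),
      Finset.sum_congr rfl (fun μ h => hSdeg μ (hT'S μ h)), Finset.sum_const, smul_eq_mul, hT'c,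
      hSdeg _ (hTS hμ₀)]
    ring
  have hRmir : R.mirror = R := by
    have key : ∀ U : Finset F[X], (∀ μ ∈ U, μ ∈ S) → (∏ μ ∈ U, μ).mirror = ∏ μ ∈ U, μ := by
      intro U
      induction U using Finset.induction with
      | empty => intro _; rw [Finset.prod_empty, ← C_1, mirror_C]
      | insert a U ha ih =>
        intro h
        rw [Finset.prod_insert ha, mirror_mul_of_domain, hmirror a (h a (Finset.mem_insert_self a U)),
          ih fun μ hμ => h μ (Finset.mem_insert_of_mem hμ)]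
    rw [hR, mirror_mul_of_domain, S5961.mirror_pow_self (hmirror _ (hTS hμ₀)), key T' hT'S]
  have hRdvd : R ∣ (X ^ r - 1) ^ (e + s) := by
    rw [hR, pow_add, ← hT'c, ← Finset.prod_const]
    exact mul_dvd_mul (pow_dvd_pow_of_dvd (hfac _ (hTS hμ₀)).dvd _)
      (Finset.prod_dvd_prod_of_dvd _ _ fun μ h => (hfac μ (hT'S μ h)).dvd)
  obtain ⟨K', hK'⟩ := hK
  obtain ⟨x, hxr, hxP⟩ := SympPrimeElements.exists_of_charpoly (d := d) (p := p) hr.ne_zero (R * lin F ^ K)
    (hRm.mul (lin_monic.pow K))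
    (by rw [mirror_mul_of_domain, hRmir, hK', ← two_mul, pow_mul, S5961.mirror_pow_self lin_sq_mirror])
    (by rw [hRm.natDegree_mul (lin_monic.pow K), natDegree_pow, lin_natDegree, hRd, mul_one]; exact hdim)
    (N := e + s + K) (by rw [pow_add]; exact mul_dvd_mul hRdvd (pow_dvd_pow_of_dvd (lin_dvd_X_pow_sub_one r) _))
  have hrF : (r : F) ≠ 0 := by
    rw [Ne, CharP.cast_eq_zero_iff F p, Nat.prime_dvd_prime_iff_eq Fact.out Fact.out]
    exact fun e => hrp e.symm
  set g : Module.End F (Fin d ⊕ Fin d → F) := Matrix.toLin' x.1 with hg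
  have hiso : Iso r g := S5961.iso_of_mem x.2 (by rw [← SubmonoidClass.coe_pow, hxr]; rfl) hrF
  have hKle := finrank_fixed_le hxP hR1
  rw [← hg] at hKle
  refine ⟨x, hxr, fun e1 => ?_, fun W hW => ?_⟩
  · have : fixedSp g = ⊤ := eq_top_iff.2 fun v _ => mem_fixedSp.2 (by rw [hg, e1, Matrix.toLin'_one]; rfl)
    rw [this, finrank_top, S5961.finrank_space] at hKle
    have := Nat.mul_pos hpos hi0
    omega
  obtain ⟨l, hlW, hl2, hle, hdvd⟩ := TIInv.modEq hiso hW
  rw [← hi] at hdvd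
  refine ⟨l, hl2.trans hKle, hlW, hdvd, ?_⟩
  have hs' : (X ^ r - 1 : F[X]).Separable := by simpa using separable_X_pow_sub_C (1 : F) hrF one_ne_zero
  have hann : aeval g (X ^ r - 1 : F[X]) = 0 := by simp [hiso.pow]
  have hss : g.IsSemisimple :=
    Module.End.isSemisimple_of_squarefree_aeval_eq_zero hs'.squarefree hann
  have hcp : g.charpoly = R * lin F ^ K := by rw [hg, Matrix.charpoly_toLin', hxP]
  have hprod : ((lin F ^ K) :: (μ₀ ^ e) :: T'.toList).prod = g.charpoly := by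
    rw [hcp, hR, List.prod_cons, List.prod_cons, Finset.prod_toList]
    ring
  have hsum := finrank_le_sum_ker g ((lin F ^ K) :: (μ₀ ^ e) :: T'.toList) W hW.inv fun v _ => by
    rw [hprod, LinearMap.aeval_self_charpoly]; rfl
  -- a piece
  have piece : ∀ μ ∈ S, ∀ n, ¬ μ ^ (n + 1) ∣ g.charpoly →
      finrank F ↥(W ⊓ LinearMap.ker (aeval g μ)) ≤ n / 2 * i := by
    intro μ hμ n hn
    have hd1 := finrank_ker_aeval_le (hfac μ hμ).irr (hfac μ hμ).monic n g hss hn
    rw [hSdeg μ hμ] at hd1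
    have hN : NondegOn (LinearMap.ker (aeval g μ)) := by
      refine nondeg_ker hiso (hfac μ hμ).dvd fun v hv => ?_
      obtain ⟨k, hk⟩ := hev
      obtain ⟨l', hl'⟩ := SympPrimeElements.pow_half_eq_neg_one (q := Fintype.card F) hi hk (by omega)
      have h1 : g ^ (r - 1) = g ^ Fintype.card F ^ k := by
        have h1 : g ^ (Fintype.card F ^ k + 1) = 1 := by rw [hl', pow_mul, hiso.pow, one_pow]
        have h2 : g ^ (r - 1) * g = 1 := by rw [← pow_succ, Nat.sub_add_cancel hr.pos, hiso.pow]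
        calc g ^ (r - 1) = g ^ (r - 1) * g ^ (Fintype.card F ^ k + 1) := by rw [h1, mul_one]
          _ = _ := by rw [pow_succ', ← mul_assoc, h2, one_mul]
      obtain ⟨n', hn'⟩ : ∃ n', Fintype.card F ^ k = n' + 1 :=
        ⟨Fintype.card F ^ k - 1, (Nat.succ_pred_eq_of_pos (pow_pos Fintype.card_pos k)).symm⟩
      rw [h1, SympPrimeElements.aeval_pow_card rfl, hn', pow_succ, Module.End.mul_apply, hv, map_zero]
    have h2 := two_mul_finrank_le hN (S := W ⊓ LinearMap.ker (aeval g μ)) inf_le_right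
      fun a ha b hb => hW.iso a ha.1 b hb.1
    have hbot : W ⊓ LinearMap.ker (aeval g μ) ⊓ fixedSp g = ⊥ := by
      refine (Submodule.eq_bot_iff _).2 fun v hv => ?_
      have h0 := LinearMap.mem_ker.1 hv.1.2
      rw [SemisimpleConjGL.aeval_apply_eigen g (lam := (1 : F)) (by rw [mem_fixedSp.1 hv.2, one_smul]) μ] at h0
      exact (smul_eq_zero.1 h0).resolve_left (hfac μ hμ).eval_one
    have hinv : ∀ v ∈ W ⊓ LinearMap.ker (aeval g μ), g v ∈ W ⊓ LinearMap.ker (aeval g μ) := by
      rintro v ⟨h1, h3⟩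
      refine ⟨hW.inv v h1, ?_⟩
      rw [SetLike.mem_coe, LinearMap.mem_ker] at h3 ⊢
      have : aeval g (μ * X) = aeval g (X * μ) := by rw [mul_comm]
      rw [map_mul, map_mul, aeval_X] at this
      have h4 := LinearMap.congr_fun this v
      rw [Module.End.mul_apply, Module.End.mul_apply, h3, map_zero] at h4
      exact h4
    have h4 := PrimeOrderModule84.finrank_modEq hrF hiso.pow (PrimeOrderModule84.map_le_iff'.2 hinv)
    rw [hbot, finrank_bot, ← hi] at h4
    obtain ⟨c, hc⟩ := Nat.modEq_zero_iff_dvd.1 h4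
    rw [hc] at h2 ⊢
    have h5 : i * (2 * c) ≤ i * n := by
      calc i * (2 * c) = 2 * (i * c) := by ring
        _ ≤ _ := h2.trans (hd1.trans (le_of_eq (mul_comm n i)))
    rw [mul_comm (n / 2)]
    exact Nat.mul_le_mul_left i ((Nat.le_div_iff_mul_le two_pos).2 (by
      rw [mul_comm]; exact Nat.le_of_mul_le_mul_left h5 hi0))
  have hne : ∀ μ ∈ S, ∀ ν ∈ S, μ ∣ ν → μ = ν := fun μ hμ ν hν h =>
    eq_of_monic_of_associated (hfac μ hμ).monic (hfac ν hν).monic
      ((hfac μ hμ).irr.associated_of_dvd (hfac ν hν).irr h)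
  have hlin : ∀ μ ∈ S, ¬ μ ∣ lin F ^ K := fun μ hμ h => (hfac μ hμ).ne (eq_of_monic_of_associated
    (hfac μ hμ).monic lin_monic ((hfac μ hμ).irr.associated_of_dvd lin_irreducible
      ((hfac μ hμ).irr.prime.dvd_of_dvd_pow h)))
  simp only [List.map_cons, List.sum_cons, Finset.sum_map_toList] at hsum
  have b1 : finrank F ↥(W ⊓ LinearMap.ker (aeval g (lin F ^ K))) ≤ l := by
    rw [hle]
    refine Submodule.finrank_mono (inf_le_inf_left _ ((ker_aeval_pow g hann hs' (lin_dvd_X_pow_sub_one r) K).trans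
      (le_of_eq ?_)))
    rw [lin, map_sub, aeval_X, aeval_C, map_one]
  have b2 : finrank F ↥(W ⊓ LinearMap.ker (aeval g (μ₀ ^ e))) ≤ e / 2 * i := by
    refine (Submodule.finrank_mono (inf_le_inf_left _ (ker_aeval_pow g hann hs' (hfac _ (hTS hμ₀)).dvd e))).trans
      (piece μ₀ (hTS hμ₀) e fun h => ?_)
    rw [hcp, hR, pow_succ, mul_assoc,
      mul_dvd_mul_iff_left (pow_ne_zero _ (hfac _ (hTS hμ₀)).irr.ne_zero)] at h
    rcases (hfac _ (hTS hμ₀)).irr.prime.dvd_or_dvd h with h | h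
    · obtain ⟨ν, hν, hd'⟩ := (hfac _ (hTS hμ₀)).irr.prime.exists_mem_finset_dvd h
      exact Finset.ne_of_mem_erase hν (hne _ (hTS hμ₀) _ (hT'S ν hν) hd').symm
    · exact hlin _ (hTS hμ₀) h
  have b3 : ∑ μ ∈ T', finrank F ↥(W ⊓ LinearMap.ker (aeval g μ)) = 0 := by
    refine Finset.sum_eq_zero fun μ hμ => Nat.le_zero.1 ((piece μ (hT'S μ hμ) 1 fun h => ?_).trans (by simp))
    rw [hcp, hR, ← Finset.mul_prod_erase T' _ hμ, pow_two, mul_left_comm, mul_assoc μ,
      mul_dvd_mul_iff_left (hfac μ (hT'S μ hμ)).irr.ne_zero] at h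
    rcases (hfac μ (hT'S μ hμ)).irr.prime.dvd_or_dvd h with h | h
    · rcases (hfac μ (hT'S μ hμ)).irr.prime.dvd_or_dvd h with h | h
      · exact Finset.ne_of_mem_erase hμ (hne μ (hT'S μ hμ) _ (hTS hμ₀)
          ((hfac μ (hT'S μ hμ)).irr.prime.dvd_of_dvd_pow h))
      · obtain ⟨ν, hν, hd'⟩ := (hfac μ (hT'S μ hμ)).irr.prime.exists_mem_finset_dvd h
        exact Finset.ne_of_mem_erase hν (hne μ (hT'S μ hμ) _ (hT'S ν (Finset.mem_of_mem_erase hν)) hd').symm
    · exact hlin μ (hT'S μ hμ) h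
  omega

/-- Elements of odd order. -/
theorem has_of_odd [Fintype F] {p r i c : ℕ} [Fact p.Prime] [CharP F p] [Fact r.Prime] (hr2 : r ≠ 2)
    (hrp : r ≠ p) (hi : i = orderOf (Fintype.card F : ZMod r)) (hc : c = if Even i then i else 2 * i)
    {g : Module.End F (Fin d ⊕ Fin d → F)} (hg : Iso r g) {m : ℕ} (hmd : m ≤ d)
    (hk : 2 * (m % i) ≤ (2 * d) % c) (hcond : Odd i ∨ (r - 1) / i + 2 * (m / i) ≤ (2 * d) / i) : Has g m := by
  classical
  have hr : r.Prime := Fact.out
  have hi0 : 0 < i := hi ▸ PrimeOrderModule84.orderOf_card_pos (F := F) hg.hr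
  have hcF : blockDim F r = c := by rw [hc, hi, blockDim]
  have hc0 : 0 < c := hcF ▸ blockDim_pos hg.hr
  obtain ⟨hn, hn', hinv, hfix, hdim⟩ := SympTIPeel92.fixed_split hg hr.pos
  have hmod := hg.finrank_modEq hr2 (2 * d) ⊤ (by rw [finrank_top, S5961.finrank_space]) nondegOn_top
    (fun v _ => Submodule.mem_top)
  rw [top_inf_eq, hcF] at hmod
  set K := finrank F ↥(fixedSp g) with hK
  set k := 2 * d % c with hkdef
  have hK1 := Nat.mod_add_div K c
  have hn1 := Nat.mod_add_div (2 * d) c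
  rw [← hmod] at hK1
  obtain ⟨a, ha⟩ : ∃ a, a = K / c := ⟨_, rfl⟩
  rw [← ha] at hK1
  obtain ⟨N, hN⟩ : ∃ N, N = 2 * d / c := ⟨_, rfl⟩
  rw [← hN] at hn1
  have haN : a ≤ N := by
    refine Nat.le_of_mul_le_mul_left ?_ hc0
    omega
  have hd' : finrank F ↥(perp (fixedSp g)) = (N - a) * c := by
    have := Nat.mul_sub c N a
    rw [mul_comm (N - a) c]
    omega
  obtain ⟨m', hm'⟩ : ∃ m', m' = m / i := ⟨_, rfl⟩
  have hm1 := Nat.mod_add_div m i
  rw [← hm'] at hm1
  have finish : ∀ j, j ≤ m' → 2 * (m % i + (m' - j) * i) ≤ K →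
      (∃ S ≤ perp (fixedSp g), TIInv g S ∧ finrank F S = j * i) → Has g m := by
    rintro j hj hcap ⟨S, hS, hSti, hSd⟩
    obtain ⟨W, hW, hWd⟩ := has_of_parts hg hr.pos hcap hSti hS
    refine ⟨W, hW, ?_⟩
    rw [hWd, hSd, add_assoc, ← add_mul, Nat.sub_add_cancel hj, mul_comm]
    omega
  rcases Nat.even_or_odd i with hev | hodd
  · have hci : c = i := by rw [hc, if_pos hev]
    subst hci
    replace hcond := hcond.resolve_left (Nat.not_odd_iff_even.2 hev)
    rw [← hm', ← hN] at hcond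
    have hdvd : c ∣ r - 1 := hi ▸ ZMod.orderOf_dvd_card_sub_one (PrimeOrderModule84.natCast_card_ne_zero hg.hr)
    obtain ⟨u, hu⟩ : ∃ u, u = (r - 1) / c := ⟨_, rfl⟩
    rw [← hu] at hcond
    have huc : u * c = r - 1 := hu ▸ Nat.div_mul_cancel hdvd
    obtain ⟨S, hScard, -, hSmem, hSdeg⟩ := exists_factors (p := p) (F := F) rfl hr hrp hi (t := u) huc
    set j := min m' ((N - a + 1 - u) / 2) with hj
    refine finish j (min_le_left _ _) ?_ ?_
    · have h1 : 2 * (m' - j) ≤ a := by omega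
      have h2 := Nat.mul_le_mul_right c h1
      calc 2 * (m % c + (m' - j) * c) = 2 * (m % c) + 2 * (m' - j) * c := by ring
        _ ≤ k + a * c := by omega
        _ = K := by rw [mul_comm a c]; exact hK1
    · rcases Nat.eq_zero_or_pos j with h0 | h0
      · exact ⟨⊥, bot_le, tiInv_bot g, by rw [finrank_bot, h0, zero_mul]⟩
      have h := exists_TI_even hg hr2 (hi ▸ hev) S (fun μ hμ => ?_) (fun μ h1 h2 h3 h4 => ?_) j (N - a) _ hn' hinv
        hfix (by rw [hd', ← hi]) (by omega)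
      · rwa [← hi] at h
      · obtain ⟨h1, h2, -, -⟩ := (hSmem μ).1 hμ
        exact ⟨h1, h2, by rw [← hi]; exact hSdeg μ hμ⟩
      · exact (hSmem μ).2 ⟨h1, h2, h3, fun e => h4 (by simp [e, lin])⟩
  · have hne : ¬ Even i := Nat.not_even_iff_odd.2 hodd
    have hci : c = 2 * i := by rw [hc, if_neg hne]
    set j := min m' (N - a) with hj
    refine finish j (min_le_left _ _) ?_ ?_
    · rcases le_total m' (N - a) with h | h
      · rw [hj, min_eq_left h, Nat.sub_self, zero_mul]
        omega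
      · rw [hj, min_eq_right h]
        have h1 : (m' - (N - a)) * i + (N - a) * i = m' * i := by rw [← add_mul, Nat.sub_add_cancel h]
        have h2 : (N - a) * c = 2 * ((N - a) * i) := by rw [hci]; ring
        rw [mul_comm i m'] at hm1
        omega
    · have h := exists_TI_odd hg hr2 (hi ▸ hne) j (N - a) _ hn' hinv hfix (by rw [hd', ← hi, hci]) (min_le_right _ _)
      rwa [← hi] at h

/-- Elements of prime order of PSp_n(q) with no fixed totally isotropic `m`-space. Here `T = PSp_n(q)` with `n = 2d ≥ 4`, `(n, q) ≠ (4, 2)`, realised through the symplectic matrices over the field `F` with `q` elements (preserving the standard alternating form); an element of `T` of prime order `r` is such a matrix `x` with `x^r` scalar and `x` not scalar. For `r ≠ p` let `i` be the multiplicative order of `q` modulo `r`, `c = i` for `i` even and `c = 2i` for `i` odd, and write `k = n mod c`, `ℓ = m mod i`, `ℓ' = m mod c`, `n' = ⌊n/i⌋`, `m' = ⌊m/i⌋`, `t = (r−1)/i`. Let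 `1 ≤ m ≤ n/2` and let `r` be a prime dividing the number of totally isotropic `m`-spaces. Then every element of `T` of order `r` fixes a totally isotropic `m`-space if and only if either (i) `r = 2 ≠ p` and (`m` is even or `q ≡ 1 (mod 4)`); or (ii) `r ≠ p`, `r > 2`, `i ≤ m`, `k ≥ 2ℓ`, and (`i` is odd or `n' − 2m' ≥ t`). -/
theorem result {F : Type*} [Field F] [Fintype F] {p : ℕ} [Fact p.Prime] [CharP F p] {q : ℕ} (hq : Fintype.card F = q)
    (d m : ℕ) (hd : 2 ≤ d) (hT : (d, q) ≠ (2, 2)) (hm : 1 ≤ m) (hmd : m ≤ d)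
    (r : ℕ) [Fact r.Prime]
    (hrΩ : r ∣ Nat.card {W : Submodule F (Fin d ⊕ Fin d → F) // Module.finrank F ↥W = m ∧ (∀ u ∈ W, ∀ v ∈ W, Cfsg.sympForm d F u v = 0)})
    (i c : ℕ) (hi : i = orderOf (q : ZMod r)) (hc : c = if Even i then i else 2 * i) :
    (∀ x : ↥(Matrix.symplecticGroup (Fin d) F),
      (∃ z : F, ((x ^ r : ↥(Matrix.symplecticGroup (Fin d) F)) : Matrix (Fin d ⊕ Fin d) (Fin d ⊕ Fin d) F) = z • (1 : Matrix (Fin d ⊕ Fin d) (Fin d ⊕ Fin d) F)) →
      (∀ z : F, (x : Matrix (Fin d ⊕ Fin d) (Fin d ⊕ Fin d) F) ≠ z • (1 : Matrix (Fin d ⊕ Fin d) (Fin d ⊕ Fin d) F)) →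
      ∃ W : Submodule F (Fin d ⊕ Fin d → F), Module.finrank F ↥W = m ∧ (∀ u ∈ W, ∀ v ∈ W, Cfsg.sympForm d F u v = 0) ∧
        W.map (Matrix.toLin' (x : Matrix (Fin d ⊕ Fin d) (Fin d ⊕ Fin d) F)) ≤ W) ↔
    ((r = 2 ∧ p ≠ 2 ∧ (Even m ∨ q % 4 = 1)) ∨
     (r ≠ p ∧ 2 < r ∧ i ≤ m ∧ 2 * (m % i) ≤ (2 * d) % c ∧ (Odd i ∨ (r - 1) / i + 2 * (m / i) ≤ (2 * d) / i))) := by
  classical
  subst hq
  have hrp' : r.Prime := Fact.out
  obtain ⟨hrp, j₀, hj₀, hj⟩ := exists_fit (p := p) hmd hrΩ
  have hr : (r : F) ≠ 0 := by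
    rw [Ne, CharP.cast_eq_zero_iff F p, Nat.prime_dvd_prime_iff_eq Fact.out Fact.out]
    exact fun e => hrp e.symm
  -- translation
  have toW : ∀ (x : ↥(Matrix.symplecticGroup (Fin d) F)) (z : F), z ≠ 0 →
      Has (Matrix.toLin' (z • x.1) : Module.End F (Fin d ⊕ Fin d → F)) m →
      ∃ W : Submodule F (Fin d ⊕ Fin d → F), Module.finrank F ↥W = m ∧
        (∀ u ∈ W, ∀ v ∈ W, Cfsg.sympForm d F u v = 0) ∧ W.map (Matrix.toLin' x.1) ≤ W := by
    rintro x z hz ⟨S, hS, hSd⟩
    refine ⟨S, hSd, hS.iso, ?_⟩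
    rintro _ ⟨v, hv, rfl⟩
    have h := hS.inv v hv
    rw [map_smul, LinearMap.smul_apply] at h
    exact (S.smul_mem_iff hz).1 h
  have ofW : ∀ (x : ↥(Matrix.symplecticGroup (Fin d) F)) (W : Submodule F (Fin d ⊕ Fin d → F)),
      (∀ u ∈ W, ∀ v ∈ W, Cfsg.sympForm d F u v = 0) → W.map (Matrix.toLin' x.1) ≤ W →
      TIInv (Matrix.toLin' x.1 : Module.End F (Fin d ⊕ Fin d → F)) W :=
    fun x W h1 h2 => ⟨h1, fun v hv => h2 ⟨v, hv, rfl⟩⟩
  rcases eq_or_ne r 2 with hr2 | hr2
  · subst hr2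
    have h2F : (2 : F) ≠ 0 := by exact_mod_cast hr
    have hodd : Fintype.card F % 2 = 1 := by
      refine FiniteField.odd_card_of_char_ne_two fun h => hrp ?_
      exact ((ringChar.eq F p).symm.trans h).symm
    refine ⟨fun h => Or.inl ⟨rfl, Ne.symm hrp, ?_⟩, ?_⟩
    · by_contra hcon
      push Not at hcon
      obtain ⟨hm2, hq4⟩ := hcon
      let xJ : ↥(Matrix.symplecticGroup (Fin d) F) := ⟨Matrix.J (Fin d) F, SymplecticGroup.J_mem _ _⟩
      have hJ2 : (Matrix.J (Fin d) F) ^ 2 = (-1 : F) • (1 : Matrix (Fin d ⊕ Fin d) (Fin d ⊕ Fin d) F) := by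
        rw [pow_two, Matrix.J_squared, neg_one_smul]
      have hns : ¬ IsSquare (-1 : F) := fun h => by
        have := FiniteField.isSquare_neg_one_iff.1 h
        omega
      obtain ⟨W, hWd, hWi, hWm⟩ := h xJ ⟨-1, by rw [SubmonoidClass.coe_pow]; exact hJ2⟩ fun z hz => by
        have h1 : (Matrix.J (Fin d) F) = z • 1 := hz
        rw [h1, pow_two, smul_mul_smul_comm, one_mul] at hJ2
        have := congrFun (congrFun hJ2 (Sum.inl ⟨0, by omega⟩)) (Sum.inl ⟨0, by omega⟩)
        simp at this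
        exact hns ⟨z, this.symm⟩
      have hTI := ofW xJ W hWi hWm
      let g : Module.End F (Fin d ⊕ Fin d → F) := Matrix.toLin' (Matrix.J (Fin d) F)
      have hsq : (g.restrict hTI.inv) * (g.restrict hTI.inv) = (-1 : F) • (1 : Module.End F W) := by
        refine LinearMap.ext fun v => Subtype.ext ?_
        show g (g v.1) = (-1 : F) • v.1
        simp only [g, Matrix.toLin'_apply, Matrix.mulVec_mulVec]
        rw [← pow_two, hJ2, Matrix.smul_mulVec, Matrix.one_mulVec]
      have hdet := congrArg LinearMap.det hsq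
      rw [map_mul, LinearMap.det_smul, map_one, mul_one, hWd, (Nat.not_even_iff_odd.1 hm2).neg_one_pow] at hdet
      exact hns ⟨_, hdet.symm⟩
    · rintro (⟨-, -, hcond⟩ | ⟨-, h, -⟩)
      swap
      · omega
      intro x hx _
      obtain ⟨z, hz⟩ := hx
      have hzz : z * z = 1 := S5961.mul_self_of_scalar (by omega) hz
      have hxx : (Matrix.toLin' x.1 : Module.End F (Fin d ⊕ Fin d → F)) ^ 2 = z • 1 := by
        rw [← Matrix.toLin'_pow, ← SubmonoidClass.coe_pow, hz, map_smul, Matrix.toLin'_one]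
        rfl
      have hform : ∀ u v, sympForm d F (Matrix.toLin' x.1 u) (Matrix.toLin' x.1 v) = sympForm d F u v :=
        fun u v => by rw [Matrix.toLin'_apply, Matrix.toLin'_apply]; exact mem_sp_iff_form.1 x.2 u v
      refine toW x 1 one_ne_zero ?_
      rw [one_smul]
      rcases mul_self_eq_one_iff.1 hzz with rfl | rfl
      · rw [one_smul] at hxx
        exact has_of_involution ⟨hform, hxx, hr⟩ hmd
      · have hgg : (Matrix.toLin' x.1 : Module.End F (Fin d ⊕ Fin d → F)) * Matrix.toLin' x.1 = -1 := by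
          rw [← pow_two, hxx]; exact neg_one_smul F (1 : Module.End F (Fin d ⊕ Fin d → F))
        by_cases hq4 : Fintype.card F % 4 = 1
        · obtain ⟨s, hs⟩ := (FiniteField.isSquare_neg_one_iff (F := F)).2 (by omega)
          exact has_of_split hform hgg hs.symm h2F hmd
        · have hns : ∀ e : F, e * e ≠ -1 := fun e he => by
            have := FiniteField.isSquare_neg_one_iff.1 ⟨e, he.symm⟩
            omega
          obtain ⟨l, hl⟩ := hcond.resolve_right hq4
          obtain ⟨S, -, hS, hSd⟩ := has_of_nonsplit hform hgg (by omega) hns h2F l ⊤ nondegOn_top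
            (fun v _ => Submodule.mem_top) (by rw [finrank_top, S5961.finrank_space]; omega)
          exact ⟨S, hS, by omega⟩
  have hr3 : 3 ≤ r := by have := hrp'.two_le; omega
  have hi0 : 0 < i := hi ▸ PrimeOrderModule84.orderOf_card_pos (F := F) hr
  constructor
  · intro h
    refine Or.inr ⟨hrp, by omega, ?_⟩
    have hij : i ∣ 2 * (d - j₀) := hi ▸ orderOf_dvd_of_pow_eq_one hj
    have hcn : c ≤ 2 * d ∧ (Odd i → i ∣ d - j₀) := by
      rw [hc]
      split_ifs with hev
      · exact ⟨(Nat.le_of_dvd (by omega) hij).trans (by omega), fun h => absurd hev (Nat.not_even_iff_odd.2 h)⟩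
      · have h1 := (Nat.coprime_two_right.2 (Nat.not_even_iff_odd.1 hev)).dvd_mul_left.1 hij
        have := Nat.le_of_dvd (by omega) h1
        exact ⟨by omega, fun _ => h1⟩
    have hc0 : 0 < c := by rw [hc]; split_ifs <;> omega
    have app : ∀ x : ↥(Matrix.symplecticGroup (Fin d) F), x ^ r = 1 → x.1 ≠ 1 →
        ∃ W, TIInv (Matrix.toLin' x.1 : Module.End F (Fin d ⊕ Fin d → F)) W ∧ finrank F W = m := by
      intro x hx h1
      obtain ⟨W, hWd, hWi, hWm⟩ := h x ⟨1, by rw [hx, one_smul]; rfl⟩ fun z hz => h1 (by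
        have hzz := S5961.mul_self_of_scalar (by omega) hz
        obtain ⟨l, hl⟩ := hrp'.odd_of_ne_two hr2
        have h2 : z ^ r • (1 : Matrix (Fin d ⊕ Fin d) (Fin d ⊕ Fin d) F) = 1 := by
          rw [← one_pow (M := Matrix (Fin d ⊕ Fin d) (Fin d ⊕ Fin d) F) r, ← _root_.smul_pow, ← hz,
            ← SubmonoidClass.coe_pow, hx, one_pow]
          rfl
        rw [hl, pow_add, pow_mul, pow_two, hzz, one_pow, one_mul, pow_one] at h2
        rw [hz, h2])
      exact ⟨W, ofW x W hWi hWm, hWd⟩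
    obtain ⟨x₁, hx₁, hk₁⟩ := S5961.exists_test (F := F) (d := d) (p := p) hr2 hrp hi
    rw [← hc] at hk₁
    have hnc : 2 * d % c < c := Nat.mod_lt _ hc0
    have h11 : x₁.1 ≠ 1 := fun e => by
      rw [e, Matrix.toLin'_one] at hk₁
      have : fixedSp (LinearMap.id : Module.End F (Fin d ⊕ Fin d → F)) = ⊤ :=
        eq_top_iff.2 fun v _ => mem_fixedSp.2 rfl
      rw [this, finrank_top, S5961.finrank_space] at hk₁
      omega
    obtain ⟨W, hW, hWd⟩ := app x₁ hx₁ h11
    have hiso := S5961.iso_of_mem x₁.2 (r := r) (by rw [← SubmonoidClass.coe_pow, hx₁]; rfl) hr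
    obtain ⟨l, hlW, hl2, -, hdvd⟩ := TIInv.modEq hiso hW
    rw [← hi, hWd] at hdvd
    rw [hWd] at hlW
    have hlk : 2 * l ≤ 2 * d % c := hl2.trans hk₁
    have hli : l < i := by
      have : c ≤ 2 * i := by rw [hc]; split_ifs <;> omega
      omega
    have hml : m % i = l := by
      have := (Nat.modEq_iff_dvd' hlW).2 hdvd
      rw [Nat.ModEq, Nat.mod_eq_of_lt hli] at this
      exact this.symm
    have him : i ≤ m := by
      by_contra hlt
      push Not at hlt
      rw [Nat.mod_eq_of_lt hlt] at hml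
      have hn1 := Nat.mod_add_div (2 * d) c
      rcases Nat.even_or_odd i with hev | hodd
      · have hci : c = i := by rw [hc, if_pos hev]
        rw [hci] at hn1 hlk hnc
        have h1 : i ∣ 2 * d % i - 2 * j₀ := by
          have h2 : 2 * (d - j₀) = (2 * d % i - 2 * j₀) + i * (2 * d / i) := by omega
          rw [h2] at hij
          exact (Nat.dvd_add_left (dvd_mul_right _ _)).1 hij
        have := Nat.le_of_dvd (by omega) h1
        omega
      · have hci : c = 2 * i := by rw [hc, if_neg (Nat.not_even_iff_odd.2 hodd)]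
        rw [hci, mul_assoc] at hn1
        rw [hci] at hlk hnc
        set w := i * (2 * d / (2 * i)) with hw
        have h1 : i ∣ 2 * d % (2 * i) / 2 - j₀ := by
          have h2 : d - j₀ = (2 * d % (2 * i) / 2 - j₀) + w := by omega
          have h3 := hcn.2 hodd
          rw [h2] at h3
          exact (Nat.dvd_add_left (dvd_mul_right _ _)).1 h3
        have := Nat.le_of_dvd (by omega) h1
        omega
    refine ⟨him, by omega, ?_⟩
    by_contra hcon
    push Not at hcon
    obtain ⟨hev, hlt⟩ := hcon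
    rw [Nat.not_odd_iff_even] at hev
    have hci : c = i := by rw [hc, if_pos hev]
    subst hci
    have hdvd1 : c ∣ r - 1 := hi ▸ ZMod.orderOf_dvd_card_sub_one (PrimeOrderModule84.natCast_card_ne_zero hr)
    set u := (r - 1) / c with hu
    set N := 2 * d / c with hN
    set m' := m / c with hm'
    have hu0 : 0 < u := Nat.div_pos (Nat.le_of_dvd (by omega) hdvd1) hi0
    have hm'0 : 0 < m' := Nat.div_pos him hi0
    have hN0 : 0 < N := Nat.div_pos hcn.1 hi0
    obtain ⟨a, s, e, ha, hse, hse', hsu, he⟩ : ∃ a s e : ℕ, a ≤ 1 ∧ a + (s + e) = N ∧ 0 < s + e ∧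
        s + 1 ≤ u ∧ e / 2 < m' := by
      rcases Nat.lt_or_ge N u with h1 | h1
      · exact ⟨0, N, 0, by omega, by omega, by omega, by omega, by omega⟩
      rcases Nat.lt_or_ge (N + 1) (u + 2 * m') with h2 | h2
      · exact ⟨0, u - 1, N - (u - 1), by omega, by omega, by omega, by omega, by omega⟩
      · exact ⟨1, u - 1, 2 * m' - 1, le_refl 1, by omega, by omega, by omega, by omega⟩
    have hn1 := Nat.mod_add_div (2 * d) c
    have hke : Even (2 * d % c) := by
      rw [Nat.even_iff, Nat.mod_mod_of_dvd _ (even_iff_two_dvd.1 hev)]; omega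
    obtain ⟨x₂, hx₂, h21, hbound⟩ := exists_elem (F := F) (d := d) (p := p) hrp hi hev
      (Nat.div_mul_cancel hdvd1) (s := s) (e := e) (K := 2 * d % c + a * c) hsu (hke.add (hev.mul_left a))
      (by rw [← hN, ← hse, mul_add] at hn1; rw [mul_comm (s + e) c, mul_comm a c]; omega) hse'
    obtain ⟨W, hW, hWd⟩ := app x₂ hx₂ h21
    obtain ⟨l', hl'2, hl'W, hl'dvd, hl'⟩ := hbound W hW
    rw [hWd] at hl'W hl'dvd hl'
    have hac : a * c ≤ 1 * c := Nat.mul_le_mul_right c ha
    have hl'i : l' < c := by omega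
    have hml' : m % c = l' := by
      have := (Nat.modEq_iff_dvd' hl'W).2 hl'dvd
      rw [Nat.ModEq, Nat.mod_eq_of_lt hl'i] at this
      exact this.symm
    have hm1 := Nat.mod_add_div m c
    have h9 : (e / 2 + 1) * c ≤ m' * c := Nat.mul_le_mul_right c he
    rw [add_mul, one_mul, mul_comm m' c] at h9
    rw [← hm'] at hm1
    omega
  · rintro (⟨h, -⟩ | ⟨-, -, him, hk, hcond⟩)
    · exact absurd h hr2
    rintro x ⟨z, hz⟩ -
    have hzz := S5961.mul_self_of_scalar (by omega) hz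
    have hz0 : z ≠ 0 := fun e => by rw [e, mul_zero] at hzz; exact zero_ne_one hzz
    have hmem : z • x.1 ∈ symplecticGroup (Fin d) F := mem_sp_iff_form.2 fun u v => by
      rw [smul_mulVec, smul_mulVec, form_smul_left, form_smul_right, ← mul_assoc, hzz, one_mul]
      exact mem_sp_iff_form.1 x.2 u v
    have hpow : (z • x.1) ^ r = 1 := by
      obtain ⟨l, hl⟩ := hrp'.odd_of_ne_two hr2
      rw [_root_.smul_pow, ← SubmonoidClass.coe_pow, hz, smul_smul, ← pow_succ, hl,
        show 2 * l + 1 + 1 = 2 * (l + 1) by omega, pow_mul, pow_two, hzz, one_pow, one_smul]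
    exact toW x z hz0 (has_of_odd (p := p) hr2 hrp hi hc (S5961.iso_of_mem hmem hpow hr) hmd hk hcond)

end Cfsg.Agent.S5955
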