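import Cfsg.Statements.S5956
import Cfsg.Agent.S5961
import Cfsg.Agent.Lib.SympInvolutionSteps
import Cfsg.Agent.Lib.SympUnipotentPieces61
import Cfsg.Agent.Lib.SymplecticDecomp
-- import your own Cfsg.Agent.* helpers here

set_option autoImplicit false
open scoped MatrixGroups
open Cfsg

namespace Cfsg.Agent.S5956

open Module Polynomial Matrix Cfsg.Agent.SymplecticBasic Cfsg.Agent.SympDecompPeel92
  Cfsg.Agent.SympUnipotentPieces61

variable {F : Type*} [Field F] {d : ℕ}

local notation "sV" => (Fin d ⊕ Fin d → F)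

theorem nd_iff {W : Submodule F (Fin d ⊕ Fin d → F)} :
    Nd bil W ↔ ∀ u ∈ W, u ≠ 0 → ∃ v ∈ W, sympForm d F u v ≠ 0 := by
  constructor
  · intro h u hu hu0
    by_contra hc
    push Not at hc
    exact hu0 (h u hu hc)
  · intro h u hu hc
    by_contra hu0
    obtain ⟨v, hv, hne⟩ := h u hu hu0
    exact hne (hc v hv)

theorem nd_top : Nd bil (⊤ : Submodule F (Fin d ⊕ Fin d → F)) :=
  fun u _ h => form_nondeg fun v => h v trivial

theorem bil_self (v : Fin d ⊕ Fin d → F) : bil v v = 0 := form_self v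

theorem toLin_iso {A : Matrix (Fin d ⊕ Fin d) (Fin d ⊕ Fin d) F} (hA : A ∈ symplecticGroup (Fin d) F)
    (u v : Fin d ⊕ Fin d → F) : bil (Matrix.toLin' A u) (Matrix.toLin' A v) = bil u v := by
  rw [bil_apply, bil_apply, Matrix.toLin'_apply, Matrix.toLin'_apply]
  exact mem_sp_iff_form.1 hA u v

theorem inj_of_form {g : Module.End F (Fin d ⊕ Fin d → F)} (h : ∀ u v, bil (g u) (g v) = bil u v) :
    Function.Injective g := by
  rw [injective_iff_map_eq_zero]
  exact fun u hu => form_nondeg fun v => by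
    rw [← bil_apply, ← h, hu, map_zero, LinearMap.zero_apply]

/-- A matrix with the given action. -/
theorem exists_matrix {g : Module.End F (Fin d ⊕ Fin d → F)} (h : ∀ u v, bil (g u) (g v) = bil u v) :
    ∃ x : symplecticGroup (Fin d) F, (Matrix.toLin' x.1 : Module.End F (Fin d ⊕ Fin d → F)) = g :=
  ⟨⟨LinearMap.toMatrix' g, mem_sp_iff_form.2 fun u v => by
    rw [← Matrix.toLin'_apply, ← Matrix.toLin'_apply, Matrix.toLin'_toMatrix']; exact h u v⟩,
    Matrix.toLin'_toMatrix' g⟩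

theorem scalar_pow_toLin {x : symplecticGroup (Fin d) F} {r : ℕ} {z : F}
    (h : (Matrix.toLin' x.1 : Module.End F (Fin d ⊕ Fin d → F)) ^ r = z • 1) :
    (x ^ r).1 = z • (1 : Matrix (Fin d ⊕ Fin d) (Fin d ⊕ Fin d) F) := by
  refine Matrix.toLin'.injective ?_
  rw [SubmonoidClass.coe_pow, Matrix.toLin'_pow, h, map_smul, Matrix.toLin'_one]
  rfl

theorem map_le_of_inv {R : Submodule F (Fin d ⊕ Fin d → F)} {g : Module.End F (Fin d ⊕ Fin d → F)}
    (h : ∀ v ∈ R, g v ∈ R) : R.map g ≤ R := by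
  rintro _ ⟨v, hv, rfl⟩
  exact h v hv

theorem inv_of_map_le {R : Submodule F (Fin d ⊕ Fin d → F)} {g : Module.End F (Fin d ⊕ Fin d → F)}
    (h : R.map g ≤ R) : ∀ v ∈ R, g v ∈ R := fun v hv => h ⟨v, hv, rfl⟩

/-! ### Unipotent elements, odd characteristic -/

theorem sub_one_pow {V : Type*} [AddCommGroup V] [Module F V] (p : ℕ) [Fact p.Prime] [CharP F p]
    (g : Module.End F V) : (g - 1) ^ p = g ^ p - 1 := by
  have h := congrArg (aeval g) (sub_pow_char (p := p) (x := (X : F[X])) (y := 1))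
  simpa using h

/-- A unipotent isometry from a skew nilpotent map. -/
theorem exists_cayley {V : Type*} [AddCommGroup V] [Module F V] (B : V →ₗ[F] V →ₗ[F] F)
    (h2 : (2 : F) ≠ 0) {N : Module.End F V} {p : ℕ} (hN : N ^ p = 0)
    (hskew : ∀ x y, B (N x) y = - B x (N y)) :
    ∃ g : Module.End F V, (∀ x y, B (g x) (g y) = B x y) ∧
      ∀ j, LinearMap.range ((g - 1) ^ j) = LinearMap.range (N ^ j) := by
  set S := ∑ i ∈ Finset.range p, N ^ i with hS
  have h1 : (1 - N) * S = 1 := by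
    rw [hS, mul_neg_geom_sum, hN, sub_zero]
  have h1' : S * (1 - N) = 1 := by
    rw [hS, geom_sum_mul_neg, hN, sub_zero]
  refine ⟨(1 + N) * S, fun x y => ?_, fun j => ?_⟩
  · conv_rhs => rw [show x = ((1 - N) * S) x by rw [h1]; rfl, show y = ((1 - N) * S) y by rw [h1]; rfl]
    simp only [Module.End.mul_apply, LinearMap.add_apply, LinearMap.sub_apply, Module.End.one_apply,
      map_add, map_sub, LinearMap.add_apply, LinearMap.sub_apply, hskew]
    ring
  · have hcomm : Commute N S := Commute.sum_right _ _ _ fun i _ => (Commute.refl N).pow_right i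
    have e : (1 + N) * S - 1 = (2 : F) • (N * S) := by
      conv_lhs => arg 2; rw [← h1]
      rw [two_smul]
      noncomm_ring
    have hinv : (S ^ j) * ((1 - N) ^ j) = 1 := by
      rw [← ((show Commute S (1 - N) from (h1'.trans h1.symm)).mul_pow j), h1', one_pow]
    rw [e, _root_.smul_pow, hcomm.mul_pow, LinearMap.range_smul _ _ (pow_ne_zero j h2)]
    refine le_antisymm (LinearMap.range_comp_le_range _ _) ?_
    rintro _ ⟨v, rfl⟩
    refine ⟨((1 - N) ^ j) v, ?_⟩
    rw [← Module.End.mul_apply, mul_assoc, hinv, mul_one]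

/-- A symplectic element with a prescribed partition. -/
theorem exists_elt {p : ℕ} (h2 : (2 : F) ≠ 0) (μ : Multiset ℕ) (hμ : SympPart μ)
    (hμp : ∀ a ∈ μ, a ≤ p) (hsum : μ.sum = 2 * d) :
    ∃ g : Module.End F (Fin d ⊕ Fin d → F), (∀ u v, bil (g u) (g v) = bil u v) ∧ (g - 1) ^ p = 0 ∧
      ∀ j, finrank F ↥(LinearMap.range ((g - 1) ^ j)) = (μ.map (· - j)).sum := by
  obtain ⟨T, iT, iD, C, N, hcard, hC, hnd, hskew, hrank⟩ := exists_model (F := F) μ hμ
  obtain ⟨k, hk, e, -, hee⟩ := SymplecticAlt.exists_symp_basis C hC (2 * d) ⊤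
    (by rw [finrank_top, Module.finrank_fintype_fun_eq_card, hcard, hsum]) fun u hu h => hnd u hu h
  obtain rfl : k = d := by omega
  let φ : (Fin k ⊕ Fin k → F) →ₗ[F] (T → F) := Fintype.linearCombination F e
  have hφ : ∀ u v, C (φ u) (φ v) = bil u v := by
    have h : C.compl₁₂ φ φ = bil := by
      refine (Pi.basisFun F _).ext fun s => (Pi.basisFun F _).ext fun t => ?_
      rw [LinearMap.compl₁₂_apply, Pi.basisFun_apply, Pi.basisFun_apply, bil_apply, ← hee]
      simp [φ, Fintype.linearCombination_apply_single]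
    exact fun u v => LinearMap.congr_fun (LinearMap.congr_fun h u) v
  have hinj : Function.Injective φ := by
    rw [injective_iff_map_eq_zero]
    exact fun u hu => form_nondeg fun v => by
      rw [← bil_apply, ← hφ, hu, map_zero, LinearMap.zero_apply]
  have hsurj : Function.Surjective φ := (LinearMap.injective_iff_surjective_of_finrank_eq_finrank
    (by rw [S5961.finrank_space, Module.finrank_fintype_fun_eq_card, hcard, hsum])).1 hinj
  let L := LinearEquiv.ofBijective φ ⟨hinj, hsurj⟩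
  have hLφ : ∀ x, φ (L.symm x) = x := fun x => L.apply_symm_apply x
  let N' : Module.End F (Fin k ⊕ Fin k → F) := L.symm.toLinearMap ∘ₗ N ∘ₗ L.toLinearMap
  have hN'a : ∀ u, φ (N' u) = N (φ u) := fun u => hLφ _
  have hpowa : ∀ (j : ℕ) u, φ ((N' ^ j) u) = (N ^ j) (φ u) := by
    intro j
    induction j with
    | zero => intro u; rfl
    | succ j ih =>
      intro u
      rw [pow_succ', Module.End.mul_apply, hN'a, ih, pow_succ', Module.End.mul_apply]
  have hskew' : ∀ u v, bil (N' u) v = - bil u (N' v) := fun u v => by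
    rw [← hφ, ← hφ, hN'a, hN'a, hskew]
  have hNp : N' ^ p = 0 := by
    have h0 : LinearMap.range (N ^ p) = ⊥ := by
      rw [← Submodule.finrank_eq_zero, hrank]
      exact Multiset.sum_eq_zero fun a ha => by
        obtain ⟨b, hb, rfl⟩ := Multiset.mem_map.1 ha
        exact Nat.sub_eq_zero_of_le (hμp b hb)
    refine LinearMap.ext fun u => hinj ?_
    rw [hpowa, LinearMap.range_eq_bot.1 h0, LinearMap.zero_apply, LinearMap.zero_apply, map_zero]
  obtain ⟨g, hg, hgr⟩ := exists_cayley bil h2 hNp hskew'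
  refine ⟨g, hg, ?_, fun j => ?_⟩
  · rw [← LinearMap.range_eq_bot, hgr, LinearMap.range_eq_bot, hNp]
  · rw [hgr, ← hrank j, ← LinearEquiv.finrank_map_eq L (LinearMap.range (N' ^ j))]
    congr 2 <;>
    · ext x
      simp only [Submodule.mem_map, LinearMap.mem_range]
      constructor
      · rintro ⟨_, ⟨u, rfl⟩, rfl⟩
        exact ⟨φ u, (hpowa j u).symm⟩
      · rintro ⟨y, rfl⟩
        refine ⟨_, ⟨L.symm y, rfl⟩, ?_⟩
        show φ _ = _
        rw [hpowa, hLφ]

theorem unip_all {p m : ℕ} [Fact p.Prime] [CharP F p] (hp : 2 < p) (hd : 0 < d)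
    (h : ∀ μ : Multiset ℕ, (∀ a ∈ μ, 0 < a ∧ a ≤ p) → (∀ a : ℕ, Odd a → Even (μ.count a)) →
      μ.sum = 2 * d → ∃ ν : Multiset ℕ, ν ≤ μ ∧ ν.sum = m ∧ ∀ a : ℕ, Odd a → Even (ν.count a))
    (x : symplecticGroup (Fin d) F) {z : F}
    (hz : (x ^ p).1 = z • (1 : Matrix (Fin d ⊕ Fin d) (Fin d ⊕ Fin d) F)) :
    ∃ W : Submodule F (Fin d ⊕ Fin d → F), finrank F W = m ∧ Nd bil W ∧
      W.map (Matrix.toLin' x.1) ≤ W := by
  have h2 : (2 : F) ≠ 0 := Ring.two_ne_zero (by rw [ringChar.eq F p]; omega)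
  have hzz := S5961.mul_self_of_scalar hd hz
  have hz0 : z ≠ 0 := fun e => by rw [e, mul_zero] at hzz; exact zero_ne_one hzz
  set g : Module.End F (Fin d ⊕ Fin d → F) := z • Matrix.toLin' x.1
  have hg : ∀ u v, bil (g u) (g v) = bil u v := fun u v => by
    simp only [g, LinearMap.smul_apply, map_smul, smul_eq_mul]
    rw [← mul_assoc, hzz, one_mul]
    exact toLin_iso x.2 u v
  have hgp : (g - 1) ^ p = 0 := by
    obtain ⟨l, hl⟩ := (Fact.out : p.Prime).odd_of_ne_two (by omega)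
    rw [sub_one_pow p, sub_eq_zero]
    simp only [g]
    rw [_root_.smul_pow, ← Matrix.toLin'_pow, ← SubmonoidClass.coe_pow, hz, map_smul, Matrix.toLin'_one,
      smul_smul, ← pow_succ, hl, show 2 * l + 1 + 1 = 2 * (l + 1) by omega, pow_mul, pow_two, hzz,
      one_pow, one_smul]
    rfl
  obtain ⟨μ, hμ, hμp, hμs, -, hμν⟩ := exists_pieces bil_self hg h2 hgp _ ⊤ rfl (fun _ _ => trivial) nd_top
  obtain ⟨ν, hν, hνs, hνp⟩ := h μ hμ hμp (by rw [hμs, finrank_top, S5961.finrank_space])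
  obtain ⟨R, -, hR, hRg, hRd⟩ := hμν ν hν hνp
  refine ⟨R, hRd.trans hνs, hR, map_le_of_inv fun v hv => ?_⟩
  have h' := R.smul_mem z⁻¹ (hRg v hv)
  simpa [g, smul_smul, inv_mul_cancel₀ hz0] using h'

theorem unip_only {p m : ℕ} [Fact p.Prime] [CharP F p] (hp : 2 < p) (hme : Even m) (hmd : m ≤ 2 * d)
    (h : ∀ x : symplecticGroup (Fin d) F,
      (∃ z : F, (x ^ p).1 = z • (1 : Matrix (Fin d ⊕ Fin d) (Fin d ⊕ Fin d) F)) →
      (∀ z : F, x.1 ≠ z • (1 : Matrix (Fin d ⊕ Fin d) (Fin d ⊕ Fin d) F)) →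
      ∃ W : Submodule F (Fin d ⊕ Fin d → F), finrank F W = m ∧ Nd bil W ∧
        W.map (Matrix.toLin' x.1) ≤ W)
    (μ : Multiset ℕ) (hμ : ∀ a ∈ μ, 0 < a ∧ a ≤ p) (hμs : SympPart μ) (hsum : μ.sum = 2 * d) :
    ∃ ν : Multiset ℕ, ν ≤ μ ∧ ν.sum = m ∧ ∀ a : ℕ, Odd a → Even (ν.count a) := by
  have h2 : (2 : F) ≠ 0 := Ring.two_ne_zero (by rw [ringChar.eq F p]; omega)
  by_cases hall : ∀ a ∈ μ, a = 1
  · obtain hμ1 : μ = Multiset.replicate μ.card 1 := Multiset.eq_replicate_card.2 hall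
    rw [hμ1, Multiset.sum_replicate, smul_eq_mul, mul_one] at hsum
    refine ⟨Multiset.replicate m 1, ?_, by simp, fun a _ => ?_⟩
    · rw [hμ1, hsum, Multiset.replicate_le_replicate]; exact hmd
    · rw [Multiset.count_replicate]; split_ifs <;> simp [hme]
  obtain ⟨g, hg, hgp, hgr⟩ := exists_elt h2 μ hμs (fun a ha => (hμ a ha).2) hsum
  obtain ⟨x, hx⟩ := exists_matrix hg
  obtain ⟨W, hWd, hW, hWg⟩ := h x ⟨1, scalar_pow_toLin (by
    rw [hx, one_smul, ← sub_eq_zero, ← sub_one_pow p, hgp])⟩ fun z hz => hall fun a ha => by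
    rw [hz, map_smul, Matrix.toLin'_one] at hx
    have hg1 : g - 1 = (z - 1) • (1 : Module.End F (Fin d ⊕ Fin d → F)) := by
      rw [← hx]; exact LinearMap.ext fun v => (by simp [sub_smul])
    have h0 := hgr 1
    rw [pow_one, hg1] at h0
    by_cases hz1 : z - 1 = 0
    · rw [hz1, zero_smul, LinearMap.range_zero, finrank_bot, eq_comm, Multiset.sum_eq_zero_iff] at h0
      have := h0 (a - 1) (Multiset.mem_map.2 ⟨a, ha, rfl⟩)
      have := (hμ a ha).1
      omega
    · rw [hg1, _root_.smul_pow, one_pow, smul_eq_zero] at hgp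
      rcases hgp with h | h
      · exact absurd (pow_eq_zero_iff (NeZero.ne p) |>.1 h) hz1
      · have hsp := S5961.finrank_space (F := F) (d := d)
        have h1 : LinearMap.range (1 : Module.End F (Fin d ⊕ Fin d → F)) = ⊥ := by rw [h, LinearMap.range_zero]
        have : 2 * d = 0 := by
          rw [← hsp, ← finrank_top, ← LinearMap.range_id (R := F)]
          exact (congrArg (fun S : Submodule F _ => finrank F S) h1).trans (finrank_bot F _)
        rw [this] at hsum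
        have := Multiset.le_sum_of_mem ha
        have := (hμ a ha).1
        omega
  obtain ⟨ν, hν, hνp, hνs⟩ := exists_part_of_sub bil_self hg (inj_of_form hg) h2 hgp
    (fun a ha => (hμ a ha).1) hgr nd_top hW (hx ▸ inv_of_map_le hWg)
  exact ⟨ν, hν, hνs.trans hWd, hνp⟩

/-! ### Involutions -/

/-- A piece spanned by vectors with nondegenerate Gram matrix. -/
theorem span_piece {ι : Type*} [Fintype ι] (v : ι → (Fin d ⊕ Fin d → F))
    (hv : ∀ c : ι → F, (∀ l, ∑ j, c j * bil (v j) (v l) = 0) → c = 0) :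
    Nd bil (Submodule.span F (Set.range v)) ∧
      finrank F ↥(Submodule.span F (Set.range v)) = Fintype.card ι := by
  have key : ∀ c : ι → F, (∀ l, bil (∑ j, c j • v j) (v l) = 0) → c = 0 := fun c hc => hv c fun l => by
    simpa [map_sum, LinearMap.sum_apply] using hc l
  refine ⟨fun u hu h => ?_, finrank_span_eq_card (Fintype.linearIndependent_iff.2 fun c hc j =>
    congrFun (key c fun l => by rw [hc, map_zero, LinearMap.zero_apply]) j)⟩
  obtain ⟨c, rfl⟩ := (Submodule.mem_span_range_iff_exists_fun F).1 hu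
  rw [key c fun l => h _ (Submodule.subset_span ⟨l, rfl⟩)]
  simp

theorem span_inv {ι : Type*} {g : Module.End F (Fin d ⊕ Fin d → F)} {v : ι → (Fin d ⊕ Fin d → F)}
    (h : ∀ j, g (v j) ∈ Submodule.span F (Set.range v)) :
    ∀ x ∈ Submodule.span F (Set.range v), g x ∈ Submodule.span F (Set.range v) := by
  intro x hx
  refine (Submodule.map_le_iff_le_comap (f := g) (q := Submodule.span F (Set.range v))).1 ?_ hx
  rw [Submodule.map_span, Submodule.span_le]
  rintro _ ⟨_, ⟨j, rfl⟩, rfl⟩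
  exact h j

theorem plane_piece {g : Module.End F (Fin d ⊕ Fin d → F)} {u w : Fin d ⊕ Fin d → F}
    {W : Submodule F (Fin d ⊕ Fin d → F)} (hu : u ∈ W) (hw : w ∈ W) (huw : bil u w = 1)
    (hfix : SympInvolutionSteps.FixesPlane g (u, w)) :
    ∃ P ≤ W, Nd bil P ∧ (∀ x ∈ P, g x ∈ P) ∧ finrank F P = 2 := by
  obtain ⟨h1, h2⟩ := span_piece ![u, w] fun c hc => by
    have hwu : bil w u = -1 := by rw [skew bil_self u w, huw]
    have e0 := hc 0
    have e1 := hc 1
    simp only [Fin.sum_univ_two, Matrix.cons_val_zero, Matrix.cons_val_one, bil_self, huw, hwu] at e0 e1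
    funext j
    fin_cases j
    · simpa using e1
    · simpa using e0
  rw [Fintype.card_fin] at h2
  refine ⟨_, Submodule.span_le.2 ?_, h1, span_inv fun j => ?_, h2⟩
  · rintro _ ⟨j, rfl⟩; fin_cases j <;> assumption
  · rw [show Set.range ![u, w] = {u, w} by
      rw [Matrix.range_cons, Matrix.range_cons, Matrix.range_empty, Set.union_empty, Set.singleton_union]]
    fin_cases j
    exacts [hfix.1, hfix.2]

theorem quad_piece {g : Module.End F (Fin d ⊕ Fin d → F)} {u w : Fin d ⊕ Fin d → F}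
    {W : Submodule F (Fin d ⊕ Fin d → F)} (hg : ∀ x y, bil (g x) (g y) = bil x y) (hg2 : ∀ v, g (g v) = v)
    (hWg : ∀ x ∈ W, g x ∈ W) (hu : u ∈ W) (hw : w ∈ W) (huw : bil u w = 1)
    (h : bil u (g u) = 0 ∧ bil u (g w) = 0 ∧ bil w (g u) = 0 ∧ bil w (g w) = 0) :
    ∃ P ≤ W, Nd bil P ∧ (∀ x ∈ P, g x ∈ P) ∧ finrank F P = 4 := by
  obtain ⟨a, b, c', e⟩ := h
  obtain ⟨h1, h2⟩ := span_piece ![u, w, g u, g w] fun c hc => by
    have hwu : bil w u = -1 := by rw [skew bil_self u w, huw]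
    have hgg : bil (g u) (g w) = 1 := by rw [hg, huw]
    have hgg' : bil (g w) (g u) = -1 := by rw [hg, hwu]
    have a' : bil (g u) u = 0 := by rw [skew bil_self u (g u), a, neg_zero]
    have b' : bil (g w) u = 0 := by rw [skew bil_self u (g w), b, neg_zero]
    have c'' : bil (g u) w = 0 := by rw [skew bil_self w (g u), c', neg_zero]
    have e' : bil (g w) w = 0 := by rw [skew bil_self w (g w), e, neg_zero]
    have e0 := hc 0
    have e1 := hc 1
    have e2 := hc 2
    have e3 := hc 3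
    simp [Fin.sum_univ_four, bil_self, huw, hwu, hgg, hgg', a, b, c', e, a', b', c'', e'] at e0 e1 e2 e3
    funext j
    fin_cases j <;> simp_all
  rw [Fintype.card_fin] at h2
  refine ⟨_, Submodule.span_le.2 ?_, h1, span_inv fun j => ?_, h2⟩
  · rintro _ ⟨j, rfl⟩
    fin_cases j
    exacts [hu, hw, hWg u hu, hWg w hw]
  · fin_cases j
    · exact Submodule.subset_span ⟨2, rfl⟩
    · exact Submodule.subset_span ⟨3, rfl⟩
    · exact Submodule.subset_span ⟨0, (hg2 u).symm⟩
    · exact Submodule.subset_span ⟨1, (hg2 w).symm⟩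

theorem invol_all (hd : 0 < d) {m : ℕ} (hme : Even m) (hmd : m ≤ 2 * d)
    (hc : (2 : F) ≠ 0 ∨ m % 4 = 0 ∨ (2 * d) % 4 = 2) (x : symplecticGroup (Fin d) F)
    (hx : ∃ z : F, (x ^ 2).1 = z • (1 : Matrix (Fin d ⊕ Fin d) (Fin d ⊕ Fin d) F)) :
    ∃ W : Submodule F (Fin d ⊕ Fin d → F), finrank F W = m ∧ Nd bil W ∧
      W.map (Matrix.toLin' x.1) ≤ W := by
  obtain ⟨z, hz, hg2⟩ := SympInvolutionSteps.square_scalar hd x hx
  set g : Module.End F (Fin d ⊕ Fin d → F) := Matrix.toLin' x.1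
  have hg : ∀ u v, bil (g u) (g v) = bil u v := toLin_iso x.2
  have step : ∀ W : Submodule F (Fin d ⊕ Fin d → F), W ≠ ⊥ → (∀ x ∈ W, g x ∈ W) → Nd bil W →
      ∃ P ≤ W, Nd bil P ∧ (∀ x ∈ P, g x ∈ P) ∧ (finrank F P = 2 ∨ ((2 : F) = 0 ∧ finrank F P = 4)) := by
    intro W hW hWg hn
    by_cases h2 : (2 : F) = 0
    · have hg1 : ∀ v, g (g v) = v := fun v => by
        rcases hz with rfl | rfl
        · rw [hg2, one_smul]
        · rw [hg2, show (-1 : F) = 1 by linear_combination (-1 : F) * h2, one_smul]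
      obtain ⟨u, w, hu, hw, huw, hcase⟩ :=
        SympInvolutionSteps.step_char_two (bil (F := F) (d := d)) g bil_self hg h2 hg1 W hW hWg hn
      rcases hcase with hcase | ⟨-, hcase⟩
      · obtain ⟨P, h1, h2', h3, h4⟩ := plane_piece hu hw huw hcase
        exact ⟨P, h1, h2', h3, Or.inl h4⟩
      · obtain ⟨P, h1, h2', h3, h4⟩ := quad_piece hg hg1 hWg hu hw huw hcase
        exact ⟨P, h1, h2', h3, Or.inr ⟨h2, h4⟩⟩
    · rcases hz with rfl | rfl
      · obtain ⟨u, w, hu, hw, huw, hfix⟩ := SympInvolutionSteps.step_one (bil (F := F) (d := d)) g bil_self hg h2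
          (fun v => by rw [hg2, one_smul]) W hW hWg hn
        obtain ⟨P, h1, h2', h3, h4⟩ :=
          plane_piece hu hw huw (SympInvolutionSteps.fixesPlane_of_fixesLines g hfix)
        exact ⟨P, h1, h2', h3, Or.inl h4⟩
      · obtain ⟨u, w, hu, hw, huw, hfix⟩ := SympInvolutionSteps.step_neg_one (bil (F := F) (d := d)) g bil_self hg h2
          (fun v => by rw [hg2, neg_one_smul]) W hW hWg hn
        obtain ⟨P, h1, h2', h3, h4⟩ :=
          plane_piece hu hw huw (SympInvolutionSteps.fixesPlane_of_swapsLines g hfix)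
        exact ⟨P, h1, h2', h3, Or.inl h4⟩
  obtain ⟨R, -, hR, hRg, hRd⟩ := exists_small (q := (2 : F) = 0) bil_self hg (inj_of_form hg) step
    (2 * d) ⊤ (by rw [finrank_top, S5961.finrank_space]) (fun _ _ => trivial) nd_top (even_two_mul d)
    m hme hmd hc
  exact ⟨R, hRd, hR, map_le_of_inv hRg⟩

theorem invol_only (h2 : (2 : F) = 0) {m : ℕ} (hd : 0 < d) (hd2 : (2 * d) % 4 = 0) (hm4 : m % 4 = 2) :
    ∃ x : symplecticGroup (Fin d) F, (x ^ 2).1 = (1 : F) • (1 : Matrix (Fin d ⊕ Fin d) (Fin d ⊕ Fin d) F) ∧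
      (∀ z : F, x.1 ≠ z • (1 : Matrix (Fin d ⊕ Fin d) (Fin d ⊕ Fin d) F)) ∧
      ∀ W : Submodule F (Fin d ⊕ Fin d → F), finrank F W = m → Nd bil W →
        ¬ W.map (Matrix.toLin' x.1) ≤ W := by
  let τ : Fin d → Fin d := fun i => ⟨if (i : ℕ) % 2 = 0 then (i : ℕ) + 1 else (i : ℕ) - 1, by
    have := i.2; split_ifs <;> omega⟩
  have hτ : ∀ i, τ (τ i) = i := fun i => Fin.ext (by
    show (if (τ i : ℕ) % 2 = 0 then (τ i : ℕ) + 1 else (τ i : ℕ) - 1) = (i : ℕ)
    simp only [τ]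
    split_ifs <;> omega)
  have hτne : ∀ i, τ i ≠ i := fun i h => by
    have := congrArg Fin.val h
    simp only [τ] at this
    split_ifs at this <;> omega
  have hneg : (-1 : F) = 1 := by linear_combination (-1 : F) * h2
  let N : Module.End F (Fin d ⊕ Fin d → F) :=
    { toFun := fun v => Sum.elim (fun i => v (Sum.inr (τ i))) 0
      map_add' := fun v w => funext fun s => by rcases s with i | i <;> simp
      map_smul' := fun c v => funext fun s => by rcases s with i | i <;> simp }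
  have hBN : ∀ u v, bil u (N v) = ∑ i, u (Sum.inr i) * v (Sum.inr (τ i)) := fun u v => by
    rw [bil_apply, SympInvolutionSteps.form_sum]
    simp [N]
  have hsym : ∀ u v, bil u (N v) = bil v (N u) := fun u v => by
    rw [hBN, hBN]
    exact Finset.sum_bij' (fun i _ => τ i) (fun i _ => τ i) (by simp) (by simp) (fun i _ => hτ i)
      (fun i _ => hτ i) (fun i _ => by rw [hτ, mul_comm])
  have hself : ∀ v, bil v (N v) = 0 := fun v => by
    rw [hBN]
    exact Finset.sum_involution (fun i _ => τ i) (fun i _ => by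
      rw [hτ]; linear_combination (v (Sum.inr i) * v (Sum.inr (τ i))) * h2)
      (fun i _ _ => hτne i) (fun i _ => Finset.mem_univ _) (fun i _ => hτ i)
  have hNN : ∀ v, N (N v) = 0 := fun v => funext fun s => by rcases s with i | i <;> simp [N]
  have hker : ∀ u v, N u = 0 → N v = 0 → bil u v = 0 := by
    have hr : ∀ u, N u = 0 → ∀ i, u (Sum.inr i) = 0 := fun u hu i => by
      have := congrFun hu (Sum.inl (τ i))
      simpa [N, hτ] using this
    intro u v hu hv
    rw [bil_apply, SympInvolutionSteps.form_sum]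
    simp [hr u hu, hr v hv]
  have hg : ∀ u v, bil ((1 + N) u) ((1 + N) v) = bil u v := fun u v => by
    simp only [LinearMap.add_apply, Module.End.one_apply, map_add, LinearMap.add_apply]
    rw [hker (N u) (N v) (hNN u) (hNN v), skew bil_self v (N u), hsym v u]
    ring
  obtain ⟨x, hx⟩ := exists_matrix hg
  have hN1 : N (Pi.single (Sum.inr ⟨0, hd⟩) 1) ≠ 0 := fun h => by
    have := congrFun h (Sum.inl (τ ⟨0, hd⟩))
    simp [N, hτ] at this
  refine ⟨x, scalar_pow_toLin ?_, fun z hz => ?_, fun W hWd hW hWx => ?_⟩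
  · rw [hx, one_smul]
    refine LinearMap.ext fun v => ?_
    simp only [pow_two, Module.End.mul_apply, LinearMap.add_apply, Module.End.one_apply, map_add, hNN]
    rw [add_zero, add_assoc, ← two_smul F (N v), h2, zero_smul, add_zero]
  · rw [hz, map_smul, Matrix.toLin'_one] at hx
    have h := fun v => LinearMap.congr_fun hx v
    simp only [LinearMap.smul_apply, LinearMap.id_apply, LinearMap.add_apply, Module.End.one_apply] at h
    have hNv : ∀ v, N v = (z - 1) • v := fun v => by rw [sub_smul, one_smul, h]; abel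
    have h0 := hNN (Pi.single (Sum.inr ⟨0, hd⟩) 1)
    rw [hNv, hNv, smul_smul, smul_eq_zero] at h0
    rcases h0 with h0 | h0
    · exact hN1 (by rw [hNv, mul_self_eq_zero.1 h0, zero_smul])
    · exact hN1 (by rw [h0, map_zero])
  have hWN : ∀ a ∈ W, N a ∈ W := fun a ha => by
    have h := inv_of_map_le (hx ▸ hWx) a ha
    simpa using W.sub_mem h ha
  let β : W →ₗ[F] W →ₗ[F] F := bil.compl₁₂ (N ∘ₗ W.subtype) W.subtype
  have hβ : ∀ a : W, β a a = 0 := fun a => by
    show bil (N a.1) a.1 = 0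
    rw [skew bil_self a.1 (N a.1), hself, neg_zero]
  have hkerβ : LinearMap.ker β = LinearMap.ker (N ∘ₗ W.subtype) := by
    ext a
    refine ⟨fun h => LinearMap.mem_ker.2 (hW _ (hWN a.1 a.2) fun y hy => ?_), fun h => ?_⟩
    · exact LinearMap.congr_fun (LinearMap.mem_ker.1 h) ⟨y, hy⟩
    · refine LinearMap.mem_ker.2 (LinearMap.ext fun b => ?_)
      show bil (N a.1) b.1 = 0
      rw [show N a.1 = 0 from h, map_zero, LinearMap.zero_apply]
  set K := LinearMap.ker (N ∘ₗ W.subtype) with hK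
  obtain ⟨ρ, hρ⟩ := SymplecticAlt.even_finrank_range β hβ
  have h1 := β.finrank_range_add_finrank_ker
  rw [hkerβ, hρ, hWd] at h1
  have h3 : ρ + ρ ≤ finrank F K := by
    have e := (N ∘ₗ W.subtype).finrank_range_add_finrank_ker
    rw [← hK, hWd] at e
    have : finrank F ↥(LinearMap.range (N ∘ₗ W.subtype)) ≤ finrank F K := by
      rw [← Submodule.finrank_map_subtype_eq W K]
      refine Submodule.finrank_mono ?_
      rintro _ ⟨a, rfl⟩
      exact ⟨⟨_, hWN a.1 a.2⟩, hNN a.1, rfl⟩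
    omega
  have h4 : finrank F K + finrank F K ≤ m := by
    let ψ : K →ₗ[F] (W →ₗ[F] F) := (LinearMap.lcomp F F W.subtype) ∘ₗ bil ∘ₗ W.subtype ∘ₗ K.subtype
    have hψ : Function.Injective ψ := by
      rw [injective_iff_map_eq_zero]
      intro a ha
      exact Subtype.ext (Subtype.ext (hW _ a.1.2 fun y hy => LinearMap.congr_fun ha ⟨y, hy⟩))
    have hle : LinearMap.range ψ ≤ K.dualAnnihilator := by
      rintro _ ⟨a, rfl⟩
      rw [Submodule.mem_dualAnnihilator]
      exact fun b hb => hker _ _ a.2 hb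
    have := Submodule.finrank_mono hle
    rw [LinearMap.finrank_range_of_inj hψ] at this
    have h5 : finrank F K + finrank F K.dualAnnihilator = finrank F W :=
      Subspace.finrank_add_finrank_dualAnnihilator_eq K
    rw [hWd] at h5
    exact (Nat.add_le_add_left this _).trans h5.le
  omega

/-! ### Semisimple elements -/

theorem dvd_two_mul {c i : ℕ} (hc : c = if Even i then i else 2 * i) {x : ℕ} (h : i ∣ 2 * x) :
    c ∣ 2 * x := by
  rw [hc]
  split_ifs with hev
  · exact h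
  · exact mul_dvd_mul_left 2 ((Nat.coprime_two_right.2 (Nat.not_even_iff_odd.1 hev)).dvd_of_dvd_mul_left h)

theorem ss_all [Fintype F] {m r : ℕ} [Fact r.Prime] (hd : 0 < d) (hr2 : r ≠ 2) (hr : (r : F) ≠ 0)
    (hme : Even m) (hmd : m ≤ 2 * d) (hmod : m % blockDim F r ≤ 2 * d % blockDim F r)
    (x : symplecticGroup (Fin d) F) {z : F}
    (hz : (x ^ r).1 = z • (1 : Matrix (Fin d ⊕ Fin d) (Fin d ⊕ Fin d) F)) :
    ∃ W : Submodule F (Fin d ⊕ Fin d → F), finrank F W = m ∧ Nd bil W ∧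
      W.map (Matrix.toLin' x.1) ≤ W := by
  have hzz := S5961.mul_self_of_scalar hd hz
  have hz0 : z ≠ 0 := fun e => by rw [e, mul_zero] at hzz; exact zero_ne_one hzz
  have hmem : z • x.1 ∈ symplecticGroup (Fin d) F := mem_sp_iff_form.2 fun u v => by
    rw [smul_mulVec, smul_mulVec, form_smul_left, form_smul_right, ← mul_assoc, hzz, one_mul]
    exact mem_sp_iff_form.1 x.2 u v
  have hpow : (z • x.1) ^ r = 1 := by
    obtain ⟨l, hl⟩ := (Fact.out : r.Prime).odd_of_ne_two hr2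
    rw [_root_.smul_pow, ← SubmonoidClass.coe_pow, hz, smul_smul, ← pow_succ, hl,
      show 2 * l + 1 + 1 = 2 * (l + 1) by omega, pow_mul, pow_two, hzz, one_pow, one_smul]
  have hiso := S5961.iso_of_mem hmem hpow hr
  have hk := hiso.finrank_modEq hr2 (2 * d) ⊤ (by rw [finrank_top, S5961.finrank_space]) nondegOn_top
    (fun v _ => Submodule.mem_top)
  have hce : Even (blockDim F r) := by
    unfold blockDim
    split_ifs with h
    exacts [h, even_two_mul _]
  obtain ⟨R, -, hR, hRg, hRd, -⟩ := hiso.exists_sub (blockDim_pos hiso.hr) hce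
    (fun W hW hWg hf => hiso.exists_block hr2 hW hWg hf) m hme ⊤ nondegOn_top
    (fun v _ => Submodule.mem_top) (by rwa [finrank_top, S5961.finrank_space])
    (hmod.trans (hk.le.trans (Nat.mod_le _ _)))
  refine ⟨R, hRd, nd_iff.2 hR, map_le_of_inv fun v hv => ?_⟩
  have h' := R.smul_mem z⁻¹ (hRg v hv)
  simpa [smul_smul, inv_mul_cancel₀ hz0] using h'

/-- A nondegenerate subspace of every even dimension. -/
theorem exists_nd {m : ℕ} (hme : Even m) (hmd : m ≤ 2 * d) :
    ∃ W : Submodule F (Fin d ⊕ Fin d → F), finrank F W = m ∧ Nd bil W := by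
  have step : ∀ W : Submodule F (Fin d ⊕ Fin d → F), W ≠ ⊥ →
      (∀ x ∈ W, (1 : Module.End F (Fin d ⊕ Fin d → F)) x ∈ W) → Nd bil W →
      ∃ P ≤ W, Nd bil P ∧ (∀ x ∈ P, (1 : Module.End F (Fin d ⊕ Fin d → F)) x ∈ P) ∧
        (finrank F P = 2 ∨ (False ∧ finrank F P = 4)) := by
    intro W hW _ hn
    obtain ⟨u, hu, hu0⟩ := Submodule.exists_mem_ne_zero_of_ne_bot hW
    obtain ⟨w, hw, huw⟩ := SympInvolutionSteps.exists_pair (bil (F := F) (d := d)) bil_self hn hu hu0
    obtain ⟨P, h1, h2, h3, h4⟩ := plane_piece (g := 1) hu hw huw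
      (SympInvolutionSteps.fixesPlane_of_fixesLines _ ⟨⟨1, (one_smul F u).symm⟩, 1, (one_smul F w).symm⟩)
    exact ⟨P, h1, h2, h3, Or.inl h4⟩
  obtain ⟨R, -, hR, -, hRd⟩ := exists_small (q := False) bil_self (g := 1) (fun _ _ => rfl)
    (fun _ _ h => h) step (2 * d) ⊤ (by rw [finrank_top, S5961.finrank_space]) (fun _ _ => trivial) nd_top
    (even_two_mul d) m hme hmd (Or.inl id)
  exact ⟨R, hRd, hR⟩

/-- The orbit–stabiliser count of nondegenerate subspaces. -/
theorem card_nd [Fintype F] {k l : ℕ} :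
    Nat.card (symplecticGroup (Fin (k + l)) F) =
      Nat.card {W : Submodule F (Fin (k + l) ⊕ Fin (k + l) → F) // finrank F W = 2 * k ∧
        ∀ u ∈ W, u ≠ 0 → ∃ v ∈ W, sympForm (k + l) F u v ≠ 0} *
      (Nat.card (symplecticGroup (Fin k) F) * Nat.card (symplecticGroup (Fin l) F)) := by
  classical
  set X := {W : Submodule F (Fin (k + l) ⊕ Fin (k + l) → F) // finrank F W = 2 * k ∧
        ∀ u ∈ W, u ≠ 0 → ∃ v ∈ W, sympForm (k + l) F u v ≠ 0}
  obtain ⟨W₁, hW₁, hW₁'⟩ := exists_nd (F := F) (d := k + l) (even_two_mul k) (by omega)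
  let W₀ : X := ⟨W₁, hW₁, nd_iff.1 hW₁'⟩
  have hnd : ∀ W : X, ∀ u ∈ W.1, (∀ v ∈ W.1, sympForm (k + l) F u v = 0) → u = 0 :=
    fun W => nd_iff.2 W.2.2
  have hinj : ∀ x : symplecticGroup (Fin (k + l)) F, Function.Injective (Matrix.toLin' x.1) :=
    fun x => inj_of_form (toLin_iso x.2)
  let : MulAction (symplecticGroup (Fin (k + l)) F) X :=
    { smul := fun x W => ⟨W.1.map (Matrix.toLin' x.1),
        ((Submodule.equivMapOfInjective _ (hinj x) W.1).finrank_eq).symm.trans W.2.1, by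
        rintro _ ⟨u, hu, rfl⟩ hne
        obtain ⟨v, hv, hv'⟩ := W.2.2 u hu fun e => hne (by rw [e, map_zero])
        exact ⟨_, ⟨v, hv, rfl⟩, by
          rwa [← bil_apply, toLin_iso x.2, bil_apply]⟩⟩
      one_smul := fun W => Subtype.ext (by
        show W.1.map (Matrix.toLin' (1 : symplecticGroup (Fin (k + l)) F).1) = W.1
        rw [OneMemClass.coe_one, Matrix.toLin'_one, Submodule.map_id])
      mul_smul := fun x y W => Subtype.ext (by
        show W.1.map (Matrix.toLin' (x * y).1) = (W.1.map (Matrix.toLin' y.1)).map (Matrix.toLin' x.1)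
        rw [Submonoid.coe_mul, Matrix.toLin'_mul, Submodule.map_comp]) }
  have key : ∀ (g : symplecticGroup (Fin (k + l)) F) (W : X), (∀ x, g • x ∈ W.1 ↔ x ∈
      SymplecticDecomp.headSpace F k l) →
      (SymplecticDecomp.headSpace F k l).map (Matrix.toLin' g.1) = W.1 := by
    intro g W hg
    ext v
    obtain ⟨x, rfl⟩ := MulAction.surjective g v
    rw [hg]
    constructor
    · rintro ⟨y, hy, e⟩
      rwa [← hinj g (e.trans (Matrix.toLin'_apply g.1 x).symm)]
    · exact fun h => ⟨x, h, Matrix.toLin'_apply g.1 x⟩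
  have : MulAction.IsPretransitive (symplecticGroup (Fin (k + l)) F) X := ⟨fun W W' => by
    obtain ⟨g, hg⟩ := SymplecticDecomp.exists_map_head W.1 W.2.1 (hnd W)
    obtain ⟨g', hg'⟩ := SymplecticDecomp.exists_map_head W'.1 W'.2.1 (hnd W')
    refine ⟨g' * g⁻¹, Subtype.ext ?_⟩
    show W.1.map (Matrix.toLin' (g' * g⁻¹).1) = W'.1
    rw [← key g W hg, ← key g' W' hg', ← Submodule.map_comp, ← Matrix.toLin'_mul,
      ← Submonoid.coe_mul, inv_mul_cancel_right]⟩
  have hstab : MulAction.stabilizer (symplecticGroup (Fin (k + l)) F) W₀ =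
      Cfsg.stabilizing (Cfsg.spToMat (k + l) F) (W₀.1 : Set (Fin (k + l) ⊕ Fin (k + l) → F)) := by
    ext h
    rw [MulAction.mem_stabilizer_iff]
    show _ ↔ ∀ v, v ∈ W₀.1 ↔ Matrix.toLin' h.1 v ∈ W₀.1
    rw [Subtype.ext_iff]
    show W₀.1.map (Matrix.toLin' h.1) = W₀.1 ↔ _
    constructor
    · intro e v
      conv_rhs => rw [← e]
      exact ⟨fun hv => ⟨v, hv, rfl⟩, fun ⟨y, hy, e'⟩ => hinj h e' ▸ hy⟩
    · intro hh
      refine Submodule.eq_of_le_of_finrank_eq ?_
        ((Submodule.equivMapOfInjective _ (hinj h) W₀.1).finrank_eq).symm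
      rintro _ ⟨v, hv, rfl⟩
      exact (hh v).1 hv
  obtain ⟨e⟩ := SymplecticDecomp.stab_nondeg W₀.1 W₀.2.1 (hnd W₀)
  rw [← Subgroup.index_mul_card (MulAction.stabilizer (symplecticGroup (Fin (k + l)) F) W₀),
    MulAction.index_stabilizer_of_transitive, hstab, Nat.card_congr e.toEquiv, Nat.card_prod]

theorem ss_only [Fintype F] {p m r i c : ℕ} [Fact p.Prime] [CharP F p] [Fact r.Prime] (hd : 0 < d)
    (hr2 : r ≠ 2) (hrp : r ≠ p) (hi : i = orderOf (Fintype.card F : ZMod r))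
    (hc : c = if Even i then i else 2 * i) (hm : 0 < m) (hme : Even m) (hmd : m ≤ d)
    (hΩ : r ∣ Nat.card {W : Submodule F (Fin d ⊕ Fin d → F) // finrank F W = m ∧
      ∀ u ∈ W, u ≠ 0 → ∃ v ∈ W, sympForm d F u v ≠ 0})
    (h : ∀ x : symplecticGroup (Fin d) F,
      (∃ z : F, (x ^ r).1 = z • (1 : Matrix (Fin d ⊕ Fin d) (Fin d ⊕ Fin d) F)) →
      (∀ z : F, x.1 ≠ z • (1 : Matrix (Fin d ⊕ Fin d) (Fin d ⊕ Fin d) F)) →
      ∃ W : Submodule F (Fin d ⊕ Fin d → F), finrank F W = m ∧ Nd bil W ∧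
        W.map (Matrix.toLin' x.1) ≤ W) :
    c ≤ m ∧ m % c ≤ 2 * d % c := by
  have hr' : r.Prime := Fact.out
  have hrF : (r : F) ≠ 0 := by
    rw [Ne, CharP.cast_eq_zero_iff F p, Nat.prime_dvd_prime_iff_eq Fact.out hr']
    exact fun e => hrp e.symm
  have hcF : blockDim F r = c := by rw [hc, hi]; rfl
  have hc0 : 0 < c := hcF ▸ blockDim_pos hrF
  obtain ⟨k, hk⟩ := hme
  obtain ⟨l, rfl⟩ : ∃ l, d = k + l := ⟨d - k, by omega⟩
  obtain ⟨j, hj1, hj2, hj⟩ : ∃ j, l < j ∧ j ≤ k + l ∧ c ∣ 2 * j := by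
    have hΩ' : r ∣ Nat.card {W : Submodule F (Fin (k + l) ⊕ Fin (k + l) → F) // finrank F W = 2 * k ∧
        ∀ u ∈ W, u ≠ 0 → ∃ v ∈ W, sympForm (k + l) F u v ≠ 0} := by
      convert hΩ using 6 <;> omega
    have hP : r ∣ Fintype.card F ^ ((k + l) ^ 2) *
        ∏ j ∈ Finset.range k, (Fintype.card F ^ (2 * (l + j + 1)) - 1) := by
      have e := card_nd (F := F) (k := k) (l := l)
      have hl : 0 < ∏ j ∈ Finset.range l, (Fintype.card F ^ (2 * (j + 1)) - 1) :=
        Finset.prod_pos fun j _ => Nat.sub_pos_of_lt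
          (Nat.one_lt_pow (by omega) Fintype.one_lt_card)
      rw [SymplecticOrder.card_symplectic rfl, SymplecticOrder.card_symplectic rfl,
        SymplecticOrder.card_symplectic rfl, add_comm k l, Finset.prod_range_add] at e
      rw [add_comm k l] at hΩ' ⊢
      refine (dvd_mul_of_dvd_left hΩ' (Fintype.card F ^ (k ^ 2) *
        (∏ j ∈ Finset.range k, (Fintype.card F ^ (2 * (j + 1)) - 1)) * Fintype.card F ^ (l ^ 2))).trans
        (dvd_of_eq (Nat.eq_of_mul_eq_mul_right hl ?_))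
      linear_combination -e
    rcases hr'.dvd_mul.1 hP with h5 | h5
    · exact absurd ((ZMod.natCast_eq_zero_iff _ _).2 (hr'.dvd_of_dvd_pow h5))
        (PrimeOrderModule84.natCast_card_ne_zero hrF)
    · obtain ⟨j, hj, hdvd⟩ := hr'.prime.dvd_finsetProd_iff _ |>.1 h5
      rw [Finset.mem_range] at hj
      refine ⟨l + j + 1, by omega, by omega, dvd_two_mul hc ?_⟩
      have h6 := (ZMod.natCast_eq_zero_iff _ _).2 hdvd
      rw [Nat.cast_sub (Nat.one_le_pow _ _ Fintype.card_pos), Nat.cast_pow, Nat.cast_one, sub_eq_zero] at h6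
      rw [hi]
      exact orderOf_dvd_of_pow_eq_one h6
  obtain ⟨x, hx, hxf⟩ := S5961.exists_test (F := F) (d := k + l) (p := p) hr2 hrp hi
  rw [← hc] at hxf
  have hiso := S5961.iso_of_mem x.2 (by rw [← SubmonoidClass.coe_pow, hx]; rfl) hrF
  have hlt : 2 * (k + l) % c < 2 * (k + l) := lt_of_lt_of_le (Nat.mod_lt _ hc0)
    ((Nat.le_of_dvd (by omega) hj).trans (by omega))
  have hne : ∀ z : F, x.1 ≠ z • (1 : Matrix (Fin (k + l) ⊕ Fin (k + l)) (Fin (k + l) ⊕ Fin (k + l)) F) := by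
    intro z hz
    have hzz := S5961.mul_self_of_scalar (by omega) hz
    obtain ⟨t, ht⟩ := hr'.odd_of_ne_two hr2
    have h2 : z ^ r • (1 : Matrix (Fin (k + l) ⊕ Fin (k + l)) (Fin (k + l) ⊕ Fin (k + l)) F) = 1 := by
      rw [← one_pow (M := Matrix (Fin (k + l) ⊕ Fin (k + l)) (Fin (k + l) ⊕ Fin (k + l)) F) r,
        ← _root_.smul_pow, ← hz, ← SubmonoidClass.coe_pow, hx, one_pow]
      rfl
    rw [ht, pow_add, pow_mul, pow_two, hzz, one_pow, one_mul, pow_one, ← hz] at h2
    have htop : fixedSp (Matrix.toLin' x.1 : Module.End F (Fin (k + l) ⊕ Fin (k + l) → F)) = ⊤ :=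
      eq_top_iff.2 fun v _ => mem_fixedSp.2 (by rw [h2, Matrix.toLin'_one]; rfl)
    rw [htop, finrank_top, S5961.finrank_space] at hxf
    omega
  obtain ⟨W, hWd, hW, hWg⟩ := h x ⟨1, by rw [hx, one_smul]; rfl⟩ hne
  have hmodW := hiso.finrank_modEq hr2 m W hWd (nd_iff.1 hW) (inv_of_map_le hWg)
  rw [hcF] at hmodW
  have hle : m % c ≤ 2 * (k + l) % c := by
    rw [hmodW]
    exact (Nat.mod_le _ _).trans ((Submodule.finrank_mono inf_le_right).trans hxf)
  refine ⟨?_, hle⟩
  by_contra hcm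
  rw [Nat.mod_eq_of_lt (by omega)] at hle
  obtain ⟨a, ha⟩ := hj
  have hd1 := Nat.div_add_mod (2 * (k + l)) c
  have : a ≤ 2 * (k + l) / c := by
    rw [Nat.le_div_iff_mul_le hc0, mul_comm, ← ha]; omega
  have := Nat.mul_le_mul_left c this
  omega


/-- Elements of prime order of PSp_n(q) with no fixed nondegenerate `m`-space. Here `T = PSp_n(q)` with `n = 2d ≥ 4`, `(n, q) ≠ (4, 2)`, realised through the symplectic matrices over the field `F` with `q` elements (preserving the standard alternating form); an element of `T` of prime order `r` is such a matrix `x` with `x^r` scalar and `x` not scalar. For `r ≠ p` let `i` be the multiplicative order of `q` modulo `r`, `c = i` for `i` even and `c = 2i` for `i` odd, and write `k = n mod c`, `ℓ = m mod i`, `ℓ' = m mod c`, `n' = ⌊n/i⌋`, `m' = ⌊m/i⌋`, `t = (r−1)/i`. Let `m` be even with `2 ≤ m < n/2` and let `r` be a prime dividing the number of nondegenerate `m`-spaces. Then every element of `T` of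 order `r` fixes a nondegenerate `m`-space if and only if one of: (i) `r = p > 2` and every partition of `n` into parts of size at most `p` in which every odd part has even multiplicity contains (as a sub-multiset) a partition of `m` in which every odd part has even multiplicity; (ii) `r = p = 2` and (`n ≡ 2 (mod 4)` or `m ≡ 0 (mod 4)`); (iii) `r = 2 ≠ p`; (iv) `r ≠ p`, `r > 2`, `c ≤ m` and `k ≥ ℓ'`. -/
theorem result {F : Type*} [Field F] [Fintype F] {p : ℕ} [Fact p.Prime] [CharP F p] {q : ℕ} (hq : Fintype.card F = q)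
    (d m : ℕ) (hd : 2 ≤ d) (hT : (d, q) ≠ (2, 2)) (hm : 2 ≤ m) (hme : Even m) (hmd : m < d)
    (r : ℕ) [Fact r.Prime]
    (hrΩ : r ∣ Nat.card {W : Submodule F (Fin d ⊕ Fin d → F) // Module.finrank F ↥W = m ∧ (∀ u ∈ W, u ≠ 0 → ∃ v ∈ W, Cfsg.sympForm d F u v ≠ 0)})
    (i c : ℕ) (hi : i = orderOf (q : ZMod r)) (hc : c = if Even i then i else 2 * i) :
    (∀ x : ↥(Matrix.symplecticGroup (Fin d) F),
      (∃ z : F, ((x ^ r : ↥(Matrix.symplecticGroup (Fin d) F)) : Matrix (Fin d ⊕ Fin d) (Fin d ⊕ Fin d) F) = z • (1 : Matrix (Fin d ⊕ Fin d) (Fin d ⊕ Fin d) F)) →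
      (∀ z : F, (x : Matrix (Fin d ⊕ Fin d) (Fin d ⊕ Fin d) F) ≠ z • (1 : Matrix (Fin d ⊕ Fin d) (Fin d ⊕ Fin d) F)) →
      ∃ W : Submodule F (Fin d ⊕ Fin d → F), Module.finrank F ↥W = m ∧ (∀ u ∈ W, u ≠ 0 → ∃ v ∈ W, Cfsg.sympForm d F u v ≠ 0) ∧
        W.map (Matrix.toLin' (x : Matrix (Fin d ⊕ Fin d) (Fin d ⊕ Fin d) F)) ≤ W) ↔
    ((r = p ∧ 2 < p ∧ (∀ μ : Multiset ℕ, (∀ a ∈ μ, 0 < a ∧ a ≤ p) → (∀ a : ℕ, Odd a → Even (μ.count a)) → μ.sum = 2 * d →
        ∃ ν : Multiset ℕ, ν ≤ μ ∧ ν.sum = m ∧ ∀ a : ℕ, Odd a → Even (ν.count a))) ∨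
     (r = p ∧ p = 2 ∧ ((2 * d) % 4 = 2 ∨ m % 4 = 0)) ∨
     (r = 2 ∧ p ≠ 2) ∨
     (r ≠ p ∧ 2 < r ∧ c ≤ m ∧ m % c ≤ (2 * d) % c)) := by
  have hp : p.Prime := Fact.out
  have hr : r.Prime := Fact.out
  subst hq
  have hd0 : 0 < d := by omega
  have hch : p = 2 ↔ (2 : F) = 0 := by
    rw [show (2 : F) = ((2 : ℕ) : F) by norm_num, CharP.cast_eq_zero_iff F p,
      Nat.prime_dvd_prime_iff_eq hp Nat.prime_two]
  simp only [← nd_iff]
  constructor
  · intro h
    by_cases hrp : r = p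
    · subst hrp
      by_cases hp2 : r = 2
      · subst hp2
        refine Or.inr (Or.inl ⟨rfl, rfl, ?_⟩)
        by_contra hcon
        obtain ⟨s, hs⟩ := hme
        obtain ⟨x, h1, h2, h3⟩ := invol_only (F := F) (hch.1 rfl) (m := m) hd0 (by omega) (by omega)
        obtain ⟨W, hW1, hW2, hW3⟩ := h x ⟨1, h1⟩ h2
        exact h3 W hW1 hW2 hW3
      · have hp3 : 2 < r := lt_of_le_of_ne hr.two_le (Ne.symm hp2)
        exact Or.inl ⟨rfl, hp3, fun μ h1 h2 h3 => unip_only hp3 hme (by omega) h μ h1 h2 h3⟩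
    · by_cases hr2 : r = 2
      · exact Or.inr (Or.inr (Or.inl ⟨hr2, fun e => hrp (hr2.trans e.symm)⟩))
      · refine Or.inr (Or.inr (Or.inr ⟨hrp, lt_of_le_of_ne hr.two_le (Ne.symm hr2), ?_⟩))
        exact ss_only hd0 hr2 hrp hi hc (by omega) hme (by omega) hrΩ h
  · rintro (⟨rfl, hp3, hpart⟩ | ⟨rfl, rfl, hcond⟩ | ⟨rfl, hp2⟩ | ⟨hrp, hr2, -, hmod⟩) x ⟨z, hz⟩ -
    · exact unip_all hp3 hd0 hpart x hz
    · exact invol_all hd0 hme (by omega) (Or.inr hcond.symm) x ⟨z, hz⟩
    · exact invol_all hd0 hme (by omega) (Or.inl fun e => hp2 (hch.2 e)) x ⟨z, hz⟩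
    · have hrF : (r : F) ≠ 0 := by
        rw [Ne, CharP.cast_eq_zero_iff F p, Nat.prime_dvd_prime_iff_eq hp hr]
        exact fun e => hrp e.symm
      have hcF : blockDim F r = c := by rw [hc, hi]; rfl
      exact ss_all hd0 (by omega) hrF hme (by omega) (by rwa [hcF]) x hz

end Cfsg.Agent.S5956
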