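import Cfsg.Statements.S5957
import Cfsg.Agent.Lib.SquareScalarBasis

set_option autoImplicit false
open scoped MatrixGroups
open Cfsg

namespace Cfsg.Agent.S5957

/-- Involutions of PSL_n(q) and imprimitive subgroups. Here `T = PSL_n(F)` for a field `F` with `q = p^f` elements (`n ≥ 2`, `(n, q) ≠ (2, 2), (2, 3)`), `n = a·t` with `t ≥ 2`, and Ω is the set of direct-sum decompositions of `F^n` into `t` subspaces of dimension `a` (unordered; their number is the number of ordered ones divided by `t!`), whose stabilizers are the imprimitive subgroups of type GL_a(q) ≀ S_t (maximal except in some small cases; maximality is not assumed); an element of `T` of prime order `r` (a matrix `x` of determinant 1 with `x^r` scalar, `x` not scalar) fixes a point of Ω when it permutes the summands of some such decomposition. If the number of such decompositions is even, then every involution of `T` stabilizes one of them (the action is 2-elusive). -/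
theorem result {F : Type*} [Field F] [Fintype F] {p : ℕ} [Fact p.Prime] [CharP F p] {q : ℕ} (hq : Fintype.card F = q)
    (n a t : ℕ) (hn : 2 ≤ n) (hT : (n, q) ≠ (2, 2) ∧ (n, q) ≠ (2, 3)) (hat : n = a * t) (ha : 1 ≤ a) (ht : 2 ≤ t)
    (hΩ : 2 ∣ Nat.card {D : Fin t → Submodule F (Fin n → F) // Cfsg.Geo.IsMDecomposition a D} / Nat.factorial t)
    (x : Matrix.SpecialLinearGroup (Fin n) F)
    (hx1 : ∃ z : F, ((x ^ 2 : Matrix.SpecialLinearGroup (Fin n) F) : Matrix (Fin n) (Fin n) F) = z • (1 : Matrix (Fin n) (Fin n) F))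
    (hx2 : ∀ z : F, (x : Matrix (Fin n) (Fin n) F) ≠ z • (1 : Matrix (Fin n) (Fin n) F)) :
    ∃ D : Fin t → Submodule F (Fin n → F), Cfsg.Geo.IsMDecomposition a D ∧
        ∃ σ : Equiv.Perm (Fin t), ∀ j, (D j).map (Matrix.toLin' (x : Matrix (Fin n) (Fin n) F)) = D (σ j) := by
  classical
  obtain ⟨z, hz⟩ := hx1
  set g := Matrix.toLin' (x : Matrix (Fin n) (Fin n) F) with hg
  have hginj : Function.Injective g :=
    Function.LeftInverse.injective
      (g := Matrix.toLin' ((x⁻¹ : Matrix.SpecialLinearGroup (Fin n) F) : Matrix (Fin n) (Fin n) F))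
      fun v => by
        rw [hg, ← LinearMap.comp_apply, ← Matrix.toLin'_mul, ← Matrix.SpecialLinearGroup.coe_mul,
          inv_mul_cancel, Matrix.SpecialLinearGroup.coe_one, Matrix.toLin'_one, LinearMap.id_apply]
  have hgg : ∀ v, g (g v) = z • v := by
    intro v
    rw [hg, ← LinearMap.comp_apply, ← Matrix.toLin'_mul, ← Matrix.SpecialLinearGroup.coe_mul,
      ← pow_two, hz, map_smul, Matrix.toLin'_one, LinearMap.smul_apply, LinearMap.id_apply]
  have hz0 : z ≠ 0 := by
    rintro rfl
    have h1 : (Pi.single (⟨0, by omega⟩ : Fin n) (1 : F) : Fin n → F) ≠ 0 := by simp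
    refine h1 (hginj (hginj ?_))
    rw [hgg, hgg, zero_smul, zero_smul]
  obtain ⟨k, r, b, hb⟩ := Cfsg.Agent.SquareScalarBasis.hasMonomialBasis g z hz0 hgg
  have hkr : 2 * k + r = a * t := by
    have := Module.finrank_eq_card_basis b
    rw [Module.finrank_fin_fun, Fintype.card_sum, Fintype.card_prod, Fintype.card_fin,
      Fintype.card_fin, Fintype.card_fin] at this
    omega
  obtain ⟨f, σ, hf, hfσ⟩ := Cfsg.Agent.InvolBlocks.exists_blocks k r a t ha hkr
  refine ⟨fun j => Submodule.span F (b '' {i | f i = j}), ⟨ht, ha, fun j => ?_, ?_, ?_⟩, σ, ?_⟩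
  · rw [Set.image_eq_range, finrank_span_eq_card]
    · exact (Nat.card_eq_fintype_card).symm.trans (hf j)
    · exact b.linearIndependent.comp _ Subtype.val_injective
  · intro j
    rw [← Submodule.span_iUnion₂, ← Set.image_iUnion₂]
    refine b.linearIndependent.disjoint_span_image ?_
    rw [Set.disjoint_left]
    intro i hi hi'
    obtain ⟨j', hj', hij'⟩ := Set.mem_iUnion₂.mp hi'
    exact hj' ((Eq.symm hij').trans hi)
  · rw [← Submodule.span_iUnion, ← Set.image_iUnion, eq_top_iff, ← b.span_eq]
    refine Submodule.span_mono ?_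
    rintro _ ⟨i, rfl⟩
    exact ⟨i, Set.mem_iUnion.mpr ⟨f i, rfl⟩, rfl⟩
  · intro j
    refine Submodule.eq_of_le_of_finrank_le ?_ ?_
    · rw [Submodule.map_span, Submodule.span_le]
      rintro _ ⟨_, ⟨i, hi, rfl⟩, rfl⟩
      obtain ⟨c, hc⟩ := hb i
      rw [hg] at hc
      rw [hc]
      refine Submodule.smul_mem _ c (Submodule.subset_span ⟨_, ?_, rfl⟩)
      show f _ = σ j
      rw [hfσ, hi]
    · rw [← LinearEquiv.finrank_eq (Submodule.equivMapOfInjective g hginj _)]
      show Module.finrank F ↥(Submodule.span F (b '' {i | f i = σ j})) ≤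
        Module.finrank F ↥(Submodule.span F (b '' {i | f i = j}))
      rw [Set.image_eq_range, Set.image_eq_range, finrank_span_eq_card, finrank_span_eq_card]
      · rw [← Nat.card_eq_fintype_card, ← Nat.card_eq_fintype_card]
        exact ((hf (σ j)).trans (hf j).symm).le
      · exact b.linearIndependent.comp _ Subtype.val_injective
      · exact b.linearIndependent.comp _ Subtype.val_injective

end Cfsg.Agent.S5957
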