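import Cfsg.Statements.S5958
import Cfsg.Agent.Lib.PrimeOrderLinear84
import Cfsg.Agent.Lib.DecompPerm84
-- import your own Cfsg.Agent.* helpers here

set_option autoImplicit false
open scoped MatrixGroups
open Cfsg

namespace Cfsg.Agent.S5958

open Cfsg.Agent.PrimeOrderModule84 Cfsg.Agent.PrimeOrderLinear84 Cfsg.Agent.DecompPerm84 Module

/-- If `r` divides the number of decompositions then `ord_r q ≤ n`. -/
theorem le_of_dvd_card {F : Type*} [Field F] [Fintype F] (n a t r : ℕ) [Fact r.Prime] (hr : (r : F) ≠ 0)
    (hat : n = a * t)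
    (hΩ : r ∣ Nat.card {D : Fin t → Submodule F (Fin n → F) // Cfsg.Geo.IsMDecomposition a D} / Nat.factorial t)
    (ha : 1 ≤ a) (hne : Nonempty {D : Fin t → Submodule F (Fin n → F) // Cfsg.Geo.IsMDecomposition a D}) :
    orderOf (Fintype.card F : ZMod r) ≤ n := by
  classical
  let X := {D : Fin t → Submodule F (Fin n → F) // Cfsg.Geo.IsMDecomposition a D}
  have hinjD : ∀ D : X, Function.Injective D.1 := fun D => D.2.indep.injective fun j e => by
    have := D.2.finrank_eq j
    rw [e, finrank_bot] at this
    omega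
  have hperm : ∀ (D : X) (τ : Equiv.Perm (Fin t)), Cfsg.Geo.IsMDecomposition a (D.1 ∘ τ) :=
    fun D τ => ⟨D.2.two_le, D.2.pos, fun j => D.2.finrank_eq _, D.2.indep.comp τ.injective,
      (τ.iSup_comp (g := D.1)).trans D.2.iSup_eq_top⟩
  have h1 : r ∣ Nat.card X := by
    refine dvd_trans hΩ ?_
    have hfac : Nat.factorial t ∣ Nat.card X := by
      let Φ : X → {S : Set (Submodule F (Fin n → F)) // ∃ D : X, Set.range D.1 = S} :=
        fun D => ⟨Set.range D.1, D, rfl⟩
      have : Fintype {S : Set (Submodule F (Fin n → F)) // ∃ D : X, Set.range D.1 = S} := Fintype.ofFinite _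
      rw [← Nat.card_congr (Equiv.sigmaFiberEquiv Φ), Nat.card_sigma]
      refine Finset.dvd_sum fun S _ => ?_
      obtain ⟨S, D₀, rfl⟩ := S
      have e : Equiv.Perm (Fin t) ≃ {D // Φ D = ⟨Set.range D₀.1, D₀, rfl⟩} :=
        Equiv.ofBijective
          (fun τ => ⟨⟨D₀.1 ∘ τ, hperm D₀ τ⟩, Subtype.ext (τ.surjective.range_comp D₀.1)⟩)
          ⟨fun τ τ' h => Equiv.ext fun j => hinjD D₀ (congrFun (congrArg (fun D => D.1.1) h) j),
            fun ⟨D, hD⟩ => by
              have hD' : Set.range D.1 = Set.range D₀.1 := congrArg Subtype.val hD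
              have hex : ∀ j, ∃ i, D₀.1 i = D.1 j := fun j => hD'.le ⟨j, rfl⟩
              choose f hf using hex
              have hfi : Function.Injective f := fun i j h => hinjD D (by rw [← hf, h, hf])
              exact ⟨Equiv.ofBijective f (Finite.injective_iff_bijective.1 hfi),
                Subtype.ext (Subtype.ext (funext hf))⟩⟩
      rw [← Nat.card_congr e, Nat.card_perm, Nat.card_eq_fintype_card, Fintype.card_fin]
    obtain ⟨u, hu⟩ := hfac
    show Nat.card X / Nat.factorial t ∣ Nat.card X
    rw [hu, Nat.mul_div_cancel_left _ (Nat.factorial_pos t)]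
    exact dvd_mul_left u _
  have h2 : Nat.card X ∣ Nat.card ((Fin n → F) ≃ₗ[F] (Fin n → F)) := by
    rcases isEmpty_or_nonempty X with hX | ⟨⟨D₀⟩⟩
    · exact absurd hX (not_isEmpty_iff.2 hne)
    let act : ((Fin n → F) ≃ₗ[F] (Fin n → F)) → X → X := fun e D =>
      ⟨fun j => (D.1 j).map (e : (Fin n → F) →ₗ[F] (Fin n → F)), D.2.two_le, D.2.pos,
        fun j => (e.finrank_map_eq _).trans (D.2.finrank_eq j),
        (iSupIndep_map_orderIso_iff (Submodule.orderIsoMapComap e) (a := D.1)).2 D.2.indep, by
          rw [← Submodule.map_iSup, D.2.iSup_eq_top, Submodule.map_top, LinearEquiv.range]⟩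
    have hact : ∀ e e' D, act (e.trans e') D = act e' (act e D) := fun e e' D =>
      Subtype.ext (funext fun j => Submodule.map_comp _ _ _)
    have htrans : ∀ D : X, ∃ e, act e D₀ = D := by
      intro D
      have hI : ∀ D : X, DirectSum.IsInternal D.1 := fun D =>
        (DirectSum.isInternal_submodule_iff_iSupIndep_and_iSup_eq_top _).2 ⟨D.2.indep, D.2.iSup_eq_top⟩
      let b : ∀ D : X, Basis (Σ _ : Fin t, Fin a) F (Fin n → F) := fun D =>
        (hI D).collectedBasis fun j => Module.finBasisOfFinrankEq F _ (D.2.finrank_eq j)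
      have hspan : ∀ (D : X) j, D.1 j = Submodule.span F (Set.range fun i => b D ⟨j, i⟩) := by
        intro D j
        refine (Submodule.eq_of_le_of_finrank_eq ?_ ?_).symm
        · rw [Submodule.span_le]
          rintro _ ⟨i, rfl⟩
          exact DirectSum.IsInternal.collectedBasis_mem (hI D) (fun j => Module.finBasisOfFinrankEq F _ (D.2.finrank_eq j)) ⟨j, i⟩
        · rw [finrank_span_eq_card (b := fun i => b D ⟨j, i⟩)
            ((b D).linearIndependent.comp _ (fun x y h => by simpa using h)), Fintype.card_fin,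
            D.2.finrank_eq]
      refine ⟨(b D₀).equiv (b D) (Equiv.refl _), Subtype.ext (funext fun j => ?_)⟩
      show (D₀.1 j).map _ = D.1 j
      rw [hspan, hspan, Submodule.map_span, ← Set.range_comp]
      congr 2
      funext i
      simp [Function.comp]
    choose s hs using htrans
    have hrefl : ∀ D, act (LinearEquiv.refl F _) D = D := fun D =>
      Subtype.ext (funext fun j => Submodule.map_id _)
    let e : ((Fin n → F) ≃ₗ[F] (Fin n → F)) ≃ X × {e // act e D₀ = D₀} :=
      { toFun := fun e => (act e D₀, ⟨e.trans (s (act e D₀)).symm, by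
          rw [hact]
          conv_lhs => arg 2; rw [← hs (act e D₀)]
          rw [← hact, LinearEquiv.self_trans_symm, hrefl]⟩)
        invFun := fun x => x.2.1.trans (s x.1)
        left_inv := fun e => LinearEquiv.ext fun v => by simp
        right_inv := fun x => by
          have hx : act (x.2.1.trans (s x.1)) D₀ = x.1 := by rw [hact, x.2.2, hs]
          refine Prod.ext hx (Subtype.ext (LinearEquiv.ext fun v => ?_))
          simp only [hx]
          simp }
    rw [Nat.card_congr e, Nat.card_prod]
    exact dvd_mul_right _ _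
  have h3 : Nat.card ((Fin n → F) ≃ₗ[F] (Fin n → F)) = Nat.card (GL (Fin n) F) :=
    (Nat.card_congr (Matrix.GeneralLinearGroup.toLin.toEquiv.trans
      (LinearMap.GeneralLinearGroup.generalLinearEquiv F (Fin n → F)).toEquiv)).symm
  have h4 := dvd_trans h1 (h3 ▸ h2)
  rw [Matrix.card_GL_field, (Fact.out : r.Prime).prime.dvd_finsetProd_iff] at h4
  obtain ⟨i, -, hi⟩ := h4
  rw [sub_eq_mul i.2.le] at hi
  rcases (Fact.out : r.Prime).dvd_mul.1 hi with h5 | h5
  · exact absurd ((ZMod.natCast_eq_zero_iff _ _).2 ((Fact.out : r.Prime).dvd_of_dvd_pow h5))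
      (natCast_card_ne_zero hr)
  · rw [← card_pow_eq_one_iff, ← orderOf_dvd_iff_pow_eq_one] at h5
    exact (Nat.le_of_dvd (by have := i.2; omega) h5).trans (Nat.sub_le _ _)

/-- Elements of odd prime order of PSL_n(q) and imprimitive subgroups. Here `T = PSL_n(F)` for a field `F` with `q = p^f` elements (`n ≥ 2`, `(n, q) ≠ (2, 2), (2, 3)`), `n = a·t` with `t ≥ 2`, and Ω is the set of direct-sum decompositions of `F^n` into `t` subspaces of dimension `a` (unordered; their number is the number of ordered ones divided by `t!`), whose stabilizers are the imprimitive subgroups of type GL_a(q) ≀ S_t (maximal except in some small cases; maximality is not assumed); an element of `T` of prime order `r` (a matrix `x` of determinant 1 with `x^r` scalar, `x` not scalar) fixes a point of Ω when it permutes the summands of some such decomposition. Let `r ≠ p` be an odd prime dividing the number of such decompositions, let `c` be the multiplicative order of `q` modulo `r`, and write `k = n mod c`, `ℓ = a mod c`. Then every element of `T`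 of order `r` stabilizes such a decomposition if and only if either `a = 1`, `c = r − 1 > 1` and `n ≤ k·r`, or `c ≤ a` and `k = t·ℓ`. -/
theorem result {F : Type*} [Field F] [Fintype F] {p : ℕ} [Fact p.Prime] [CharP F p] {q : ℕ} (hq : Fintype.card F = q)
    (n a t : ℕ) (hn : 2 ≤ n) (hT : (n, q) ≠ (2, 2) ∧ (n, q) ≠ (2, 3)) (hat : n = a * t) (ha : 1 ≤ a) (ht : 2 ≤ t)
    (r : ℕ) [Fact r.Prime] (hr2 : r ≠ 2) (hrp : r ≠ p) (hΩ : r ∣ Nat.card {D : Fin t → Submodule F (Fin n → F) // Cfsg.Geo.IsMDecomposition a D} / Nat.factorial t)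
    (c : ℕ) (hc : c = orderOf (q : ZMod r)) :
    (∀ x : Matrix.SpecialLinearGroup (Fin n) F,
      (∃ z : F, ((x ^ r : Matrix.SpecialLinearGroup (Fin n) F) : Matrix (Fin n) (Fin n) F) = z • (1 : Matrix (Fin n) (Fin n) F)) →
      (∀ z : F, (x : Matrix (Fin n) (Fin n) F) ≠ z • (1 : Matrix (Fin n) (Fin n) F)) →
      ∃ D : Fin t → Submodule F (Fin n → F), Cfsg.Geo.IsMDecomposition a D ∧
        ∃ σ : Equiv.Perm (Fin t), ∀ j, (D j).map (Matrix.toLin' (x : Matrix (Fin n) (Fin n) F)) = D (σ j)) ↔
    ((a = 1 ∧ 1 < c ∧ c = r - 1 ∧ n ≤ (n % c) * r) ∨ (c ≤ a ∧ n % c = t * (a % c))) := by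
  classical
  subst hq
  have hnV : finrank F (Fin n → F) = n := Module.finrank_fin_fun F
  have hr : (r : F) ≠ 0 := by
    rw [Ne, CharP.cast_eq_zero_iff F p, Nat.prime_dvd_prime_iff_eq Fact.out Fact.out]
    exact fun e => hrp e.symm
  let Q : Module.End F (Fin n → F) → Prop := fun g =>
    ∃ D : Fin t → Submodule F (Fin n → F), Cfsg.Geo.IsMDecomposition a D ∧
      ∃ σ : Equiv.Perm (Fin t), ∀ j, (D j).map g = D (σ j)
  have hQ : ∀ (w : F) (g : Module.End F (Fin n → F)), w ≠ 0 → (Q (w • g) ↔ Q g) := fun w g hw => by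
    refine exists_congr fun D => and_congr_right fun _ => exists_congr fun σ => forall_congr' fun j => ?_
    rw [Submodule.map_smul g (D j) w hw]
  have hQdec : ∀ g : Module.End F (Fin n → F), Function.Injective g → Dec g a t → Q g := by
    intro g hg h
    obtain ⟨D, hd, hi, htp, hσ⟩ := h.submodules hg
    exact ⟨D, ⟨ht, ha, hd, hi, htp⟩, hσ⟩
  have hinj1 : ∀ y : Module.End F (Fin n → F), y ^ r = 1 → Function.Injective y := by
    intro y hy
    refine Function.LeftInverse.injective (g := (y ^ (r - 1) : Module.End F (Fin n → F))) fun v => ?_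
    rw [← Module.End.mul_apply, ← pow_succ, Nat.sub_add_cancel (Fact.out : r.Prime).one_le, hy]
    rfl
  refine (forall_SL_iff r Q).trans ?_
  have hne0 : Nonempty {D : Fin t → Submodule F (Fin n → F) // Cfsg.Geo.IsMDecomposition a D} := by
    obtain ⟨D, hd, hi, htp, -⟩ := Dec.submodules (g := (1 : Module.End F (Fin n → F))) (a := a) (t := t)
      (fun u v h => h) (power_fixed (r := r) hr a t (one_pow r) (by rw [hnV, hat]) (by
        rw [sub_self, LinearMap.ker_zero, finrank_top, hnV, hat, mul_comm a t]
        exact Nat.mul_le_mul_left t (Nat.mod_le _ _)))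
    exact ⟨⟨D, ht, ha, hd, hi, htp⟩⟩
  subst hc
  set c := orderOf (Fintype.card F : ZMod r) with hc
  have hcpos : 0 < c := orderOf_card_pos hr
  have hc0 : n % c < c := Nat.mod_lt n hcpos
  rcases Nat.lt_or_ge c 2 with hc1 | hc2
  · replace hc1 : c = 1 := by omega
    refine (iff_of_order_one hn hr hc1 Q True hQ ?_ ?_).trans ?_
    · intro y hy
      exact hQdec y (hinj1 y hy) (power_fixed hr a t hy (by rw [hnV, hat])
        (by rw [← hc, hc1, Nat.mod_one, mul_zero]; exact Nat.zero_le _))
    · intro g z hz hg hnp hrn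
      refine iff_of_true ?_ trivial
      have hginj : Function.Injective g := by
        intro u v huv
        have h1 := congrArg (g ^ (r - 1)) huv
        rw [← Module.End.mul_apply, ← Module.End.mul_apply, ← pow_succ,
          Nat.sub_add_cancel (Fact.out : r.Prime).one_le, hg] at h1
        simpa [hz] using h1
      rw [hat] at hrn
      rcases (Fact.out : r.Prime).dvd_mul.1 hrn with ⟨b, rfl⟩ | ⟨u, rfl⟩
      · exact hQdec g hginj (nonpower_fixed hr hz hnp b t hg (by rw [hnV, hat]))
      · exact hQdec g hginj (nonpower_seq hr hz hnp a u hg (by rw [hnV, hat]; ring))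
    · refine iff_of_true (Or.inl trivial) (Or.inr ⟨by omega, ?_⟩)
      rw [hc1, Nat.mod_one, Nat.mod_one, mul_zero]
  · refine (iff_of_order_ge_two hn hr hc2 Q hQ).trans ?_
    have hcn : c ≤ n := le_of_dvd_card (F := F) n a t r hr hat hΩ ha hne0
    have hcdiv : c ∣ r - 1 := by
      apply orderOf_dvd_of_pow_eq_one
      exact ZMod.pow_card_sub_one_eq_one (natCast_card_ne_zero hr)
    have hcr : c ≤ r - 1 := Nat.le_of_dvd (by have := (Fact.out : r.Prime).two_le; omega) hcdiv
    constructor
    · intro h
      obtain ⟨g, hg, hdet, hg1, hk, P, hP0, hPd, hP⟩ := exists_blocks (V := Fin n → F) hr hc2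
        (b := n / c) (Nat.div_pos hcn hcpos) (by rw [hnV]; exact Nat.div_mul_le_self n c)
      have hk0 : finrank F ↥(LinearMap.ker (g - 1)) = n % c := by
        rw [hnV, ← hc] at hk
        have := Nat.mod_add_div' n c
        omega
      obtain ⟨D, hD, σ, hσ⟩ := h g hg hdet hg1
      have hne : ∀ j, D j ≠ ⊥ := fun j e => by
        have := hD.finrank_eq j
        rw [e, finrank_bot] at this
        omega
      have hfixed : ∀ (g : Module.End F (Fin n → F)) (D : Fin t → Submodule F (Fin n → F))
          (σ : Equiv.Perm (Fin t)), g ^ r = 1 → Cfsg.Geo.IsMDecomposition a D →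
          (∀ j, (D j).map g = D (σ j)) → ∀ j, σ j = j →
          finrank F ↥(D j ⊓ LinearMap.ker (g - 1) : Submodule F (Fin n → F)) % c = a % c ∧
          (a < c → ∀ v ∈ D j, g v = v) := by
        intro g D σ hg hD hσ j hj
        have hinv : (D j).map g ≤ D j := by rw [hσ, hj]
        have h1 := finrank_modEq hr hg hinv
        rw [hD.finrank_eq, ← hc] at h1
        refine ⟨h1.symm, fun hac v hv => ?_⟩
        have h2 : finrank F ↥(D j ⊓ LinearMap.ker (g - 1) : Submodule F (Fin n → F)) ≤ a :=
          (Submodule.finrank_mono inf_le_left).trans (hD.finrank_eq j).le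
        rw [Nat.ModEq, Nat.mod_eq_of_lt hac, Nat.mod_eq_of_lt (by omega)] at h1
        have h3 : D j ⊓ LinearMap.ker (g - 1) = D j :=
          Submodule.eq_of_le_of_finrank_eq inf_le_left (by rw [← h1, hD.finrank_eq])
        have h4 := (h3.ge hv).2
        rw [SetLike.mem_coe, LinearMap.mem_ker, LinearMap.sub_apply, Module.End.one_apply,
          sub_eq_zero] at h4
        exact h4
      by_cases hall : ∀ j, σ j = j
      · right
        have hsum := sum_finrank_le hD.indep hD.iSup_eq_top (fun j => D j ⊓ LinearMap.ker (g - 1))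
          (fun j => inf_le_left) (LinearMap.ker (g - 1)) (fun j => inf_le_right)
        rw [hk0] at hsum
        have hge : ∑ j : Fin t, a % c ≤
            ∑ j, finrank F ↥(D j ⊓ LinearMap.ker (g - 1) : Submodule F (Fin n → F)) :=
          Finset.sum_le_sum fun j _ => by
            rw [← (hfixed g D σ hg hD hσ j (hall j)).1]; exact Nat.mod_le _ _
        rw [Finset.sum_const, Finset.card_univ, Fintype.card_fin, smul_eq_mul] at hge
        have hmod : t * (a % c) ≡ n [MOD c] := by
          rw [hat, mul_comm a t]; exact Nat.ModEq.mul_left t (Nat.mod_modEq a c)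
        rw [Nat.ModEq, Nat.mod_eq_of_lt (show t * (a % c) < c by omega)] at hmod
        refine ⟨?_, hmod.symm⟩
        by_contra hac
        apply hg1
        refine LinearMap.ext_on_range (v := fun x : (Σ j, ↥(D j)) => (x.2 : Fin n → F)) ?_ ?_
        · rw [eq_top_iff, ← hD.iSup_eq_top]
          exact iSup_le fun j v hv => Submodule.subset_span ⟨⟨j, ⟨v, hv⟩⟩, rfl⟩
        · rintro ⟨j, v, hv⟩
          exact (hfixed g D σ hg hD hσ j (hall j)).2 (by omega) v hv
      · push Not at hall
        obtain ⟨j, hj⟩ := hall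
        left
        have hdeg := orbit_poly hD.indep hD.iSup_eq_top hne hg hσ hj hP0 hP
        rw [← hc] at hPd
        have hcr1 : c = r - 1 := by omega
        have hak := le_finrank_ker hD.indep hD.iSup_eq_top hne hg hσ hj
        rw [hD.finrank_eq, hk0] at hak
        have hac : a < c := by omega
        obtain ⟨R, hR, htR, -⟩ := exists_reps hr hD.indep hD.iSup_eq_top hD.finrank_eq ha hg hσ
          (fun i hi => (hfixed g D σ hg hD hσ i hi).2 hac)
        rw [hk0] at hR
        have ha1 : a = 1 := by
          obtain ⟨g', hg', hdet', hg1', hk', -⟩ := exists_blocks (V := Fin n → F) hr hc2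
            (b := 1) one_pos (by rw [one_mul, hnV]; exact hcn)
          rw [one_mul, hnV, ← hc] at hk'
          obtain ⟨D', hD', σ', hσ'⟩ := h g' hg' hdet' hg1'
          have hpt : ∀ i, σ' i = i → ∀ v ∈ D' i, g' v = v := fun i hi =>
            (hfixed g' D' σ' hg' hD' hσ' i hi).2 hac
          obtain ⟨R', hR', -, hR2⟩ := exists_reps hr hD'.indep hD'.iSup_eq_top hD'.finrank_eq ha hg' hσ' hpt
          by_cases hmv : ∃ i, σ' i ≠ i
          · have h5 := Nat.mul_le_mul_right a (hR2 hmv)
            rw [add_mul, ← hR', ← hcr1, mul_comm t a, ← hat] at h5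
            have h6 : c * a ≤ c * 1 := by omega
            have := Nat.le_of_mul_le_mul_left h6 hcpos
            omega
          · push Not at hmv
            exfalso
            apply hg1'
            refine LinearMap.ext_on_range (v := fun x : (Σ j, ↥(D' j)) => (x.2 : Fin n → F)) ?_ ?_
            · rw [eq_top_iff, ← hD'.iSup_eq_top]
              exact iSup_le fun j v hv => Submodule.subset_span ⟨⟨j, ⟨v, hv⟩⟩, rfl⟩
            · rintro ⟨i, v, hv⟩
              exact hpt i (hmv i) v hv
        refine ⟨ha1, by omega, hcr1, ?_⟩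
        rw [hR, hat, ha1, one_mul, mul_one, mul_comm]
        exact htR
    · intro hcond y hy _ _
      set k := finrank F ↥(LinearMap.ker (y - 1)) with hk
      have hkn : k ≤ n := hnV ▸ Submodule.finrank_le _
      have h1 := finrank_modEq hr hy (W := ⊤) le_top
      rw [top_inf_eq, finrank_top, hnV, ← hc, ← hk] at h1
      have hknc : n % c ≤ k := h1.symm ▸ Nat.mod_le k c
      rcases hcond with ⟨ha1, -, hcr1, hle⟩ | ⟨hca, hmod⟩
      · obtain ⟨l, hl⟩ := (Nat.modEq_iff_dvd' hkn).1 h1.symm
        have hr2 : c + 1 = r := by have := (Fact.out : r.Prime).two_le; omega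
        have hlk : l ≤ k := by
          have h2 : n % c * r = n % c * c + n % c := by rw [← hr2, Nat.mul_succ]
          have h3 : c * l ≤ c * (n % c) := by
            rw [mul_comm c (n % c)]; omega
          exact (Nat.le_of_mul_le_mul_left h3 hcpos).trans hknc
        have h4 := power_lines hr hr2 l hy (by rw [← hk]; exact hlk)
          (by rw [hnV, ← hk, ← hc, mul_comm l c]; omega)
        refine hQdec y (hinj1 y hy) ?_
        have hnt : n = t := by rw [hat, ha1, one_mul]
        have h5 := (congrArg (Dec y 1) (hnV.trans hnt)).mp h4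
        rwa [ha1]
      · exact hQdec y (hinj1 y hy) (power_fixed hr a t hy (by rw [hnV, hat])
          (by rw [← hc, ← hmod]; exact hknc))
end Cfsg.Agent.S5958
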