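import Cfsg.Statements.S5959
import Cfsg.Agent.Lib.NilpotentPartition

set_option autoImplicit false
open scoped MatrixGroups
open Cfsg

namespace Cfsg.Agent.S5959

open Cfsg.Agent.NilpotentPartition

theorem map_sub_eq_count (μ : Multiset ℕ) (p : ℕ) (hμ : ∀ b ∈ μ, 0 < b ∧ b ≤ p) :
    (μ.map (· - (p - 1))).sum = μ.count p := by
  induction μ using Multiset.induction_on with
  | empty => simp
  | cons b μ ih =>
    have hb := hμ b (Multiset.mem_cons_self b μ)
    have := ih fun c hc => hμ c (Multiset.mem_cons_of_mem hc)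
    simp only [Multiset.map_cons, Multiset.sum_cons, Multiset.count_cons]
    split_ifs <;> omega

theorem char_identities {F V : Type*} [Field F] [AddCommGroup V] [Module F V] {p : ℕ}
    [Fact p.Prime] [CharP F p] (g : Module.End F V) :
    (g - 1) ^ p = g ^ p - 1 ∧ (g - 1) ^ (p - 1) = ∑ i ∈ Finset.range p, g ^ i := by
  open Polynomial in
  have h1 : ((X : F[X]) - 1) ^ p = X ^ p - 1 := by rw [sub_pow_char, one_pow]
  open Polynomial in
  have h2 : ((X : F[X]) - 1) ^ (p - 1) = ∑ i ∈ Finset.range p, X ^ i := by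
    have hne : (X : F[X]) - 1 ≠ 0 := X_sub_C_ne_zero (1 : F) |> fun h => by simpa using h
    apply mul_right_cancel₀ hne
    rw [geom_sum_mul, ← pow_succ, Nat.sub_add_cancel (Fact.out : p.Prime).one_le, h1]
  exact ⟨by simpa using congrArg (Polynomial.aeval g) h1,
    by simpa using congrArg (Polynomial.aeval g) h2⟩


/-- Elements of order `p` of PSL_n(q) and imprimitive subgroups: a necessary condition. Here `T = PSL_n(F)` for a field `F` with `q = p^f` elements (`n ≥ 2`, `(n, q) ≠ (2, 2), (2, 3)`), `n = a·t` with `t ≥ 2`, and Ω is the set of direct-sum decompositions of `F^n` into `t` subspaces of dimension `a` (unordered; their number is the number of ordered ones divided by `t!`), whose stabilizers are the imprimitive subgroups of type GL_a(q) ≀ S_t (maximal except in some small cases; maximality is not assumed); an element of `T` of prime order `r` (a matrix `x` of determinant 1 with `x^r` scalar, `x` not scalar) fixes a point of Ω when it permutes the summands of some such decomposition. Suppose `p > 2` divides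 the number of such decompositions. If every element of `T` of order `p` stabilizes such a decomposition, then every partition of `n` into parts of size at most `p` in which the part `p` occurs fewer than `a` times contains (as a sub-multiset) a partition of `a`. -/
theorem result {F : Type*} [Field F] [Fintype F] {p : ℕ} [Fact p.Prime] [CharP F p] {q : ℕ} (hq : Fintype.card F = q)
    (n a t : ℕ) (hn : 2 ≤ n) (hT : (n, q) ≠ (2, 2) ∧ (n, q) ≠ (2, 3)) (hat : n = a * t) (ha : 1 ≤ a) (ht : 2 ≤ t)
    (hp : 2 < p) (hΩ : p ∣ Nat.card {D : Fin t → Submodule F (Fin n → F) // Cfsg.Geo.IsMDecomposition a D} / Nat.factorial t)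
    (h : ∀ x : Matrix.SpecialLinearGroup (Fin n) F,
      (∃ z : F, ((x ^ p : Matrix.SpecialLinearGroup (Fin n) F) : Matrix (Fin n) (Fin n) F) = z • (1 : Matrix (Fin n) (Fin n) F)) →
      (∀ z : F, (x : Matrix (Fin n) (Fin n) F) ≠ z • (1 : Matrix (Fin n) (Fin n) F)) →
      ∃ D : Fin t → Submodule F (Fin n → F), Cfsg.Geo.IsMDecomposition a D ∧
        ∃ σ : Equiv.Perm (Fin t), ∀ j, (D j).map (Matrix.toLin' (x : Matrix (Fin n) (Fin n) F)) = D (σ j)) :
    (∀ μ : Multiset ℕ, (∀ b ∈ μ, 0 < b ∧ b ≤ p) → μ.sum = n → μ.count p < a → ∃ ν : Multiset ℕ, ν ≤ μ ∧ ν.sum = a) := by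
  classical
  intro μ hμ hsum hcount
  obtain ⟨N, hN⟩ := exists_nilpotent_with_partition (F := F) (V := Fin n → F) μ
    (by rw [hsum, Module.finrank_fin_fun])
  set g : Module.End F (Fin n → F) := 1 + N with hg
  have hgN : g - 1 = N := by rw [hg, add_sub_cancel_left]
  obtain ⟨hid1, hid2⟩ := char_identities (p := p) g
  rw [hgN] at hid1 hid2
  have hNp : N ^ p = 0 := by
    have h0 : (μ.map (· - p)).sum = 0 := by
      rw [Multiset.sum_eq_zero_iff]
      intro y hy
      obtain ⟨b, hb, rfl⟩ := Multiset.mem_map.mp hy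
      have := hμ b hb; omega
    rw [← hN p, Submodule.finrank_eq_zero, LinearMap.range_eq_bot] at h0
    exact h0
  have hgp : g ^ p = 1 := by
    rw [hNp, eq_comm, sub_eq_zero] at hid1; exact hid1
  set M : Matrix (Fin n) (Fin n) F := LinearMap.toMatrixAlgEquiv' g with hM
  have hMp : M ^ p = 1 := by rw [hM, ← map_pow, hgp, map_one]
  have hdet : M.det = 1 := by
    have h1 : M.det ^ p = 1 := by rw [← Matrix.det_pow, hMp, Matrix.det_one]
    have h2 : (M.det - 1) ^ p = 0 := by rw [sub_pow_char, h1, one_pow, sub_self]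
    exact sub_eq_zero.mp (pow_eq_zero_iff (Fact.out : p.Prime).ne_zero |>.mp h2)
  by_cases hscal : ∃ c : F, M = c • (1 : Matrix (Fin n) (Fin n) F)
  · obtain ⟨c, hc⟩ := hscal
    have hN0 : N = 0 := by
      have hgc : g = c • 1 := by
        apply LinearMap.toMatrixAlgEquiv'.injective
        rw [← hM, hc, map_smul, map_one]
      have hcp : c ^ p = 1 := by
        have := hMp
        rw [hc, smul_pow, one_pow] at this
        have h' := congrFun (congrFun this ⟨0, by omega⟩) ⟨0, by omega⟩
        simpa using h'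
      have hc1 : (c - 1) ^ p = 0 := by rw [sub_pow_char, hcp, one_pow, sub_self]
      rw [sub_eq_zero.mp (pow_eq_zero_iff (Fact.out : p.Prime).ne_zero |>.mp hc1), one_smul] at hgc
      rw [← hgN, hgc, sub_self]
    have h1 : (μ.map (· - 1)).sum = 0 := by
      rw [← hN 1, pow_one, hN0, LinearMap.range_zero, finrank_bot]
    rw [Multiset.sum_eq_zero_iff] at h1
    have hrep : μ = Multiset.replicate μ.card 1 := Multiset.eq_replicate_card.mpr fun b hb => by
      have h2 := h1 _ (Multiset.mem_map.mpr ⟨b, hb, rfl⟩)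
      have := hμ b hb; omega
    refine ⟨Multiset.replicate a 1, ?_, by simp⟩
    rw [hrep] at hsum ⊢
    simp only [Multiset.sum_replicate, smul_eq_mul, mul_one] at hsum
    rw [Multiset.replicate_le_replicate, hsum, hat]
    exact Nat.le_mul_of_pos_right a (by omega)
  push Not at hscal
  set xs : Matrix.SpecialLinearGroup (Fin n) F := ⟨M, hdet⟩ with hxs
  have hxv : (xs : Matrix (Fin n) (Fin n) F) = M := rfl
  obtain ⟨D, hD, σ, hσ⟩ := h xs ⟨1, by
    rw [one_smul, Matrix.SpecialLinearGroup.coe_pow, hxv]; exact hMp⟩ (by rw [hxv]; exact hscal)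
  simp only [hxv] at hσ
  have hlin : Matrix.toLin' M = g := by
    rw [hM]; exact LinearMap.toMatrixAlgEquiv'.symm_apply_apply g
  simp only [hlin] at hσ
  have hDne : ∀ j, D j ≠ ⊥ := fun j hbot => by
    have := hD.finrank_eq j
    rw [hbot, finrank_bot] at this
    omega
  have hpow : ∀ i j, (D j).map (g ^ i) = D ((σ ^ i) j) := by
    intro i
    induction i with
    | zero => intro j; rw [pow_zero, pow_zero, Module.End.one_eq_id, Submodule.map_id]; rfl
    | succ i ih =>
      intro j
      rw [pow_succ', Module.End.mul_eq_comp, Submodule.map_comp, ih, hσ, pow_succ',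
        Equiv.Perm.mul_apply]
  have hσp : ∀ j, (σ ^ p) j = j := by
    intro j
    apply hD.indep.injective hDne
    rw [← hpow, hgp, Module.End.one_eq_id, Submodule.map_id]
  by_cases hfix : ∀ j, σ j = j
  · let j0 : Fin t := ⟨0, by omega⟩
    have hinvg : ∀ j, (D j).map N ≤ D j := by
      rintro j _ ⟨v, hv, rfl⟩
      have h1 : g v ∈ D j := by
        have h2 := (hσ j).le (Submodule.mem_map_of_mem hv)
        rwa [hfix] at h2
      rw [← hgN]
      exact (D j).sub_mem h1 hv
    obtain ⟨ν, hν, hνs⟩ := exists_sub_partition N μ p hNp hN (W := D j0)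
      (C := ⨆ (j) (_ : j ≠ j0), D j) (hinvg j0)
      (by simp only [Submodule.map_iSup]; exact iSup₂_mono fun j _ => hinvg j)
      ⟨hD.indep j0, by
        rw [codisjoint_iff, eq_top_iff, ← hD.iSup_eq_top]
        refine iSup_le fun j => ?_
        by_cases hj : j = j0
        · rw [hj]; exact le_sup_left
        · exact le_sup_of_le_right (le_iSup₂_of_le j hj le_rfl)⟩
    exact ⟨ν, hν, hνs.trans (hD.finrank_eq j0)⟩
  · exfalso
    push Not at hfix
    obtain ⟨j, hj⟩ := hfix
    have hperiod : ∀ i, 0 < i → i < p → (σ ^ i) j ≠ j := by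
      intro i hi0 hip heq
      have h1 : Function.IsPeriodicPt σ p j := by
        rw [Function.IsPeriodicPt, Function.IsFixedPt, ← Equiv.Perm.coe_pow]; exact hσp j
      have h2 : Function.IsPeriodicPt σ i j := by
        rw [Function.IsPeriodicPt, Function.IsFixedPt, ← Equiv.Perm.coe_pow]; exact heq
      have h3 := h2.gcd h1
      rw [Nat.coprime_comm.mp ((Nat.Prime.coprime_iff_not_dvd Fact.out).mpr
        (Nat.not_dvd_of_pos_of_lt hi0 hip))] at h3
      exact hj h3
    have hker : D j ⊓ LinearMap.ker (N ^ (p - 1)) = ⊥ := by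
      rw [eq_bot_iff]
      rintro v ⟨hv, hv0⟩
      rw [SetLike.mem_coe, LinearMap.mem_ker, hid2, LinearMap.sum_apply, Finset.range_eq_Ico,
        Finset.sum_eq_sum_Ico_succ_bot (Fact.out : p.Prime).pos, pow_zero,
        Module.End.one_apply, add_eq_zero_iff_eq_neg] at hv0
      have hother : v ∈ ⨆ (j') (_ : j' ≠ j), D j' := by
        rw [hv0]
        refine Submodule.neg_mem _ (Submodule.sum_mem _ fun i hi => ?_)
        rw [Finset.mem_Ico] at hi
        exact (le_iSup₂_of_le ((σ ^ i) j) (hperiod i hi.1 hi.2) le_rfl : D ((σ ^ i) j) ≤ _)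
          ((hpow i j).le (Submodule.mem_map_of_mem hv))
      exact (hD.indep j).le_bot ⟨hv, hother⟩
    have h1 := LinearMap.finrank_range_add_finrank_ker ((N ^ (p - 1)).domRestrict (D j))
    rw [LinearMap.range_domRestrict, LinearMap.ker_domRestrict,
      ← Submodule.finrank_map_subtype_eq (D j) ((LinearMap.ker (N ^ (p - 1))).comap (D j).subtype),
      Submodule.map_comap_subtype, hker, finrank_bot, hD.finrank_eq] at h1
    have h2 : Module.finrank F ↥((D j).map (N ^ (p - 1))) ≤ μ.count p := by
      rw [← map_sub_eq_count μ p hμ, ← hN (p - 1)]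
      exact Submodule.finrank_mono LinearMap.map_le_range
    omega

end Cfsg.Agent.S5959
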