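import Cfsg.Statements.S5960
import Cfsg.Agent.Lib.SympInvolutionSteps

set_option autoImplicit false
open scoped MatrixGroups
open Cfsg

namespace Cfsg.Agent.S5960

open Cfsg.Agent.SympInvolution Cfsg.Agent.SympInvolutionSteps Cfsg.Agent.InvolBlocks

/-- Involutions of PSp_n(q) and imprimitive subgroups. Here `T = PSp_n(q)`, `n = 2d ≥ 4`, `(n, q) ≠ (4, 2)`, realised through the symplectic matrices over the field `F` with `q` elements and the standard alternating form; `n = a·t` with `a` even and `t ≥ 2`, and Ω is the (nonempty) set of orthogonal decompositions of `F^n` into `t` nondegenerate subspaces of dimension `a` (unordered; counted as ordered ones divided by `t!`), whose stabilizers are the imprimitive subgroups of type Sp_a(q) ≀ S_t (maximality is not assumed); an element of `T` of prime order `r` (a symplectic matrix `x` with `x^r` scalar, `x` not scalar) fixes a point of Ω when it permutes the summands of some such decomposition. If the number of such decompositions is even, then every involution of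 `T` stabilizes one of them (the action is 2-elusive). -/
theorem result {F : Type*} [Field F] [Fintype F] {p : ℕ} [Fact p.Prime] [CharP F p] {q : ℕ} (hq : Fintype.card F = q)
    (d : ℕ) (hd : 2 ≤ d) (hT : (d, q) ≠ (2, 2))
    (a t : ℕ) (hat : 2 * d = a * t) (ha : 2 ≤ a) (hae : Even a) (ht : 2 ≤ t) (hΩ : 2 ∣ Nat.card {D : Fin t → Submodule F (Fin d ⊕ Fin d → F) // (Cfsg.Geo.IsMDecomposition a D ∧ (∀ j, ∀ u ∈ D j, u ≠ 0 → ∃ v ∈ D j, Cfsg.sympForm d F u v ≠ 0) ∧
          (∀ j j', j ≠ j' → ∀ u ∈ D j, ∀ v ∈ D j', Cfsg.sympForm d F u v = 0))} / Nat.factorial t)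
    (x : ↥(Matrix.symplecticGroup (Fin d) F))
    (hx1 : ∃ z : F, ((x ^ 2 : ↥(Matrix.symplecticGroup (Fin d) F)) : Matrix (Fin d ⊕ Fin d) (Fin d ⊕ Fin d) F) = z • (1 : Matrix (Fin d ⊕ Fin d) (Fin d ⊕ Fin d) F))
    (hx2 : ∀ z : F, (x : Matrix (Fin d ⊕ Fin d) (Fin d ⊕ Fin d) F) ≠ z • (1 : Matrix (Fin d ⊕ Fin d) (Fin d ⊕ Fin d) F)) :
    ∃ D : Fin t → Submodule F (Fin d ⊕ Fin d → F), (Cfsg.Geo.IsMDecomposition a D ∧ (∀ j, ∀ u ∈ D j, u ≠ 0 → ∃ v ∈ D j, Cfsg.sympForm d F u v ≠ 0) ∧
          (∀ j j', j ≠ j' → ∀ u ∈ D j, ∀ v ∈ D j', Cfsg.sympForm d F u v = 0)) ∧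
        ∃ σ : Equiv.Perm (Fin t), ∀ j, (D j).map (Matrix.toLin' (x : Matrix (Fin d ⊕ Fin d) (Fin d ⊕ Fin d) F)) = D (σ j) := by
  classical
  obtain ⟨z, hz, hg2⟩ := square_scalar (by omega) x hx1
  set g := Matrix.toLin' (x : Matrix (Fin d ⊕ Fin d) (Fin d ⊕ Fin d) F) with hg
  have hgB : ∀ u v, bForm d F (g u) (g v) = bForm d F u v := bForm_map x
  have hz0 : z ≠ 0 := by rcases hz with rfl | rfl <;> simp
  have hginj : Function.Injective g := fun u v h => by
    have := congrArg g h
    rw [hg2, hg2] at this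
    exact smul_right_injective _ hz0 this
  obtain ⟨k, r, S, P, -, hdual, hcard, hPQ, -⟩ := decompose (bForm d F) bForm_self g hgB z hg2
    (FixesPlane g) True (fun u w h => h)
    (by
      intro W hW hinv hnd
      by_cases h2 : (2 : F) = 0
      · have hz1 : z = 1 := by
          rcases hz with rfl | rfl
          · rfl
          · linear_combination -h2
        exact step_char_two _ g bForm_self hgB h2 (fun v => by rw [hg2, hz1, one_smul]) W hW hinv hnd
      rcases hz with rfl | rfl
      · obtain ⟨u, w, hu, hw, huw, h⟩ := step_one _ g bForm_self hgB h2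
          (fun v => by rw [hg2, one_smul]) W hW hinv hnd
        exact ⟨u, w, hu, hw, huw, .inl (fixesPlane_of_fixesLines g h)⟩
      · obtain ⟨u, w, hu, hw, huw, h⟩ := step_neg_one _ g bForm_self hgB h2
          (fun v => by rw [hg2, neg_one_smul]) W hW hinv hnd
        exact ⟨u, w, hu, hw, huw, .inl (fixesPlane_of_swapsLines g h)⟩)
    _ ⊤ le_rfl (fun _ _ => Submodule.mem_top)
    (fun v _ h => bForm_nondeg v fun y => h y Submodule.mem_top)
  obtain ⟨a', rfl⟩ := hae
  have hkr : 2 * k + r = a' * t := by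
    rw [finrank_top, Module.finrank_pi, Fintype.card_sum, Fintype.card_fin] at hcard
    have h3 : (a' + a') * t = a' * t + a' * t := Nat.add_mul _ _ _
    omega
  obtain ⟨f, σ, hf, hfσ⟩ := exists_blocks k r a' t (by omega) hkr
  set PL := planes g S P with hPL
  have hli := linearIndependent_vecs (bForm d F) bForm_self hdual
  have hspan : Submodule.span F (Set.range (vecs PL)) = ⊤ := by
    refine hli.span_eq_top_of_card_eq_finrank' ?_
    rw [finrank_top] at hcard
    rw [← hcard]
    simp; ring
  let D : Fin t → Submodule F (Fin d ⊕ Fin d → F) := fun j =>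
    Submodule.span F (vecs PL '' {q | f q.1 = j})
  have hDdim : ∀ j, Module.finrank F ↥(D j) = a' + a' := by
    intro j
    show Module.finrank F ↥(Submodule.span F (vecs PL '' {q | f q.1 = j})) = _
    rw [Set.image_eq_range, finrank_span_eq_card]
    · rw [← Nat.card_eq_fintype_card, Nat.card_congr (β := {i // f i = j} × Fin 2)
        ⟨fun q => (⟨q.1.1, q.2⟩, q.1.2), fun q => ⟨(q.1.1, q.2), q.1.2⟩, fun q => rfl, fun q => rfl⟩,
        Nat.card_prod, hf, Nat.card_fin]
      ring
    · exact hli.comp _ Subtype.val_injective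
  have horth : ∀ j j', j ≠ j' → ∀ u ∈ D j, ∀ v ∈ D j', bForm d F u v = 0 := by
    intro j j' hjj u hu v hv
    induction hu using Submodule.span_induction with
    | mem u hu =>
      induction hv using Submodule.span_induction with
      | mem v hv =>
        obtain ⟨⟨i, e⟩, hi, rfl⟩ := hu
        obtain ⟨⟨i', e'⟩, hi', rfl⟩ := hv
        have hii : i ≠ i' := fun h => hjj (by
          simp only [Set.mem_setOf_eq] at hi hi'; rw [← hi, ← hi', h])
        obtain ⟨h1, h2, h3, h4⟩ := hdual.2 i i' hii
        fin_cases e <;> fin_cases e' <;> assumption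
      | zero => simp only [map_zero]
      | add b c _ _ h1 h2 => rw [map_add, h1, h2, add_zero]
      | smul c b _ h => rw [map_smul, h, smul_zero]
    | zero => simp only [map_zero, LinearMap.zero_apply]
    | add a c _ _ h1 h2 => rw [map_add, LinearMap.add_apply, h1, h2, add_zero]
    | smul c a _ h => rw [map_smul, LinearMap.smul_apply, h, smul_zero]
  refine ⟨D, ⟨⟨ht, by omega, hDdim, ?_, ?_⟩, ?_, horth⟩, σ, ?_⟩
  · intro j
    show Disjoint (Submodule.span F _) _
    rw [← Submodule.span_iUnion₂, ← Set.image_iUnion₂]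
    refine hli.disjoint_span_image ?_
    rw [Set.disjoint_left]
    intro i hi hi'
    obtain ⟨j', hj', hij'⟩ := Set.mem_iUnion₂.mp hi'
    exact hj' ((Eq.symm hij').trans hi)
  · show ⨆ j, Submodule.span F _ = ⊤
    rw [← Submodule.span_iUnion, ← Set.image_iUnion, eq_top_iff, ← hspan]
    refine Submodule.span_mono ?_
    rintro _ ⟨q, rfl⟩
    exact ⟨q, Set.mem_iUnion.mpr ⟨f q.1, rfl⟩, rfl⟩
  · intro j u hu hu0
    by_contra! h
    refine hu0 (bForm_nondeg u fun y => ?_)
    have hy : y ∈ ⨆ j', D j' := by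
      have : (⊤ : Submodule F _) ≤ ⨆ j', D j' := by
        rw [← hspan, Submodule.span_le]
        rintro _ ⟨q, rfl⟩
        exact (le_iSup D (f q.1)) (Submodule.subset_span ⟨q, rfl, rfl⟩)
      exact this Submodule.mem_top
    induction hy using Submodule.iSup_induction' with
    | mem j' y hy =>
      by_cases hjj : j = j'
      · exact h y (hjj ▸ hy)
      · exact horth j j' hjj u hu y hy
    | zero => simp only [map_zero]
    | add b c _ _ h1 h2 => rw [map_add, h1, h2, add_zero]
  · intro j
    refine Submodule.eq_of_le_of_finrank_le ?_ ?_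
    · show (Submodule.span F _).map _ ≤ _
      rw [Submodule.map_span, Submodule.span_le]
      rintro _ ⟨_, ⟨⟨i, e⟩, hi, rfl⟩, rfl⟩
      simp only [Set.mem_setOf_eq] at hi
      have hσi : f (swapPairs i) = σ j := by rw [hfσ, hi]
      have hmem : ∀ e, vecs PL (swapPairs i, e) ∈ D (σ j) := fun e =>
        Submodule.subset_span ⟨(swapPairs i, e), hσi, rfl⟩
      rcases i with ⟨m, ε⟩ | i
      · have h0 := hmem 0
        have h1 := hmem 1
        fin_cases ε <;> fin_cases e <;> simp [hPL, planes, vecs, swapPairs, ← hg, hg2] at h0 h1 ⊢ <;>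
          first | assumption | exact Submodule.smul_mem _ z h0 | exact Submodule.smul_mem _ z h1
      · have hle : Submodule.span F {(P i).1, (P i).2} ≤ D (σ j) := by
          rw [Submodule.span_le, Set.insert_subset_iff, Set.singleton_subset_iff]
          exact ⟨hmem 0, hmem 1⟩
        obtain ⟨h1, h2⟩ := hPQ i
        fin_cases e
        · exact hle h1
        · exact hle h2
    · rw [← LinearEquiv.finrank_eq (Submodule.equivMapOfInjective _ hginj _), hDdim, hDdim]

end Cfsg.Agent.S5960
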