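import Cfsg.Statements.S5962
import Cfsg.Agent.Lib.SympInvolutionSteps

set_option autoImplicit false
open scoped MatrixGroups
open Cfsg

namespace Cfsg.Agent.S5962

open Cfsg.Agent.SympInvolution Cfsg.Agent.SympInvolutionSteps Cfsg.Agent.InvolBlocks

/-- Involutions of PSp_n(q), q odd, and the subgroups GL_{n/2}(q).2. Here `T = PSp_n(q)`, `n = 2d ≥ 4`, `q` odd, realised through the symplectic matrices over the field `F` with `q` elements; Ω is the set of unordered pairs `{U, W}` of complementary totally isotropic `d`-spaces (`F^n = U ⊕ W`), whose stabilizers are the subgroups of type GL_d(q).2 (maximal except in some small cases; maximality is not assumed); an element of `T` of prime order `r` (a symplectic matrix `x` with `x^r` scalar, `x` not scalar) fixes such a pair when it fixes or interchanges `U` and `W`. If the number of such pairs is even, every involution of `T` fixes one of them (the action is 2-elusive). -/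
theorem result {F : Type*} [Field F] [Fintype F] {p : ℕ} [Fact p.Prime] [CharP F p] {q : ℕ} (hq : Fintype.card F = q)
    (d : ℕ) (hd : 2 ≤ d) (hT : (d, q) ≠ (2, 2)) (hodd : Odd q)
    (hΩ : 2 ∣ Nat.card {P : Submodule F (Fin d ⊕ Fin d → F) × Submodule F (Fin d ⊕ Fin d → F) // IsCompl P.1 P.2 ∧ (∀ u ∈ P.1, ∀ v ∈ P.1, Cfsg.sympForm d F u v = 0) ∧ (∀ u ∈ P.2, ∀ v ∈ P.2, Cfsg.sympForm d F u v = 0)} / 2)
    (x : ↥(Matrix.symplecticGroup (Fin d) F))
    (hx1 : ∃ z : F, ((x ^ 2 : ↥(Matrix.symplecticGroup (Fin d) F)) : Matrix (Fin d ⊕ Fin d) (Fin d ⊕ Fin d) F) = z • (1 : Matrix (Fin d ⊕ Fin d) (Fin d ⊕ Fin d) F))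
    (hx2 : ∀ z : F, (x : Matrix (Fin d ⊕ Fin d) (Fin d ⊕ Fin d) F) ≠ z • (1 : Matrix (Fin d ⊕ Fin d) (Fin d ⊕ Fin d) F)) :
    ∃ U W : Submodule F (Fin d ⊕ Fin d → F), IsCompl U W ∧ (∀ u ∈ U, ∀ v ∈ U, Cfsg.sympForm d F u v = 0) ∧ (∀ u ∈ W, ∀ v ∈ W, Cfsg.sympForm d F u v = 0) ∧
        ((U.map (Matrix.toLin' (x : Matrix (Fin d ⊕ Fin d) (Fin d ⊕ Fin d) F)) = U ∧ W.map (Matrix.toLin' (x : Matrix (Fin d ⊕ Fin d) (Fin d ⊕ Fin d) F)) = W) ∨
         (U.map (Matrix.toLin' (x : Matrix (Fin d ⊕ Fin d) (Fin d ⊕ Fin d) F)) = W ∧ W.map (Matrix.toLin' (x : Matrix (Fin d ⊕ Fin d) (Fin d ⊕ Fin d) F)) = U)) := by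
  classical
  have h2 : (2 : F) ≠ 0 := by
    intro h2
    obtain ⟨m, hpp, hm⟩ := FiniteField.card F p
    have hp2 : p = 2 := (Nat.prime_dvd_prime_iff_eq hpp Nat.prime_two).mp
      ((CharP.cast_eq_zero_iff F p 2).mp (by exact_mod_cast h2))
    rw [← hq, hm, hp2, Nat.odd_pow_iff m.pos.ne'] at hodd
    exact absurd hodd (by decide)
  obtain ⟨z, hz, hg2⟩ := square_scalar (by omega) x hx1
  set g := Matrix.toLin' (x : Matrix (Fin d ⊕ Fin d) (Fin d ⊕ Fin d) F) with hg
  have hgB : ∀ u v, bForm d F (g u) (g v) = bForm d F u v := bForm_map x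
  have hz0 : z ≠ 0 := by rcases hz with rfl | rfl <;> simp
  have hginj : Function.Injective g := fun u v h => by
    have := congrArg g h
    rw [hg2, hg2] at this
    exact smul_right_injective _ hz0 this
  let Q : (Fin d ⊕ Fin d → F) × (Fin d ⊕ Fin d → F) → Prop := fun p =>
    if z = 1 then FixesLines g p else SwapsLines g p
  obtain ⟨k, r, S, P, -, hdual, hcard, hPQ, hk⟩ := decompose (bForm d F) bForm_self g hgB z hg2 Q
    False (by
      intro u w h
      by_cases hz1 : z = 1
      · have h' : FixesLines g (u, w) := by simpa only [Q, if_pos hz1] using h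
        have := fixesPlane_of_fixesLines g h'
        exact this
      · have h' : SwapsLines g (u, w) := by simpa only [Q, if_neg hz1] using h
        have := fixesPlane_of_swapsLines g h'
        exact this)
    (by
      intro W hW hinv hnd
      by_cases hz1 : z = 1
      · obtain ⟨u, w, hu, hw, huw, h⟩ := step_one _ g bForm_self hgB h2
          (fun v => by rw [hg2, hz1, one_smul]) W hW hinv hnd
        exact ⟨u, w, hu, hw, huw, .inl (by simp only [Q, if_pos hz1]; exact h)⟩
      · obtain ⟨u, w, hu, hw, huw, h⟩ := step_neg_one _ g bForm_self hgB h2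
          (fun v => by rw [hg2, hz.resolve_left hz1, neg_one_smul]) W hW hinv hnd
        exact ⟨u, w, hu, hw, huw, .inl (by simp only [Q, if_neg hz1]; exact h)⟩)
    _ ⊤ le_rfl (fun _ _ => Submodule.mem_top)
    (fun v _ h => bForm_nondeg v fun y => h y Submodule.mem_top)
  have hk0 : k = 0 := by_contra fun h => hk h
  subst hk0
  obtain ⟨hd1, hd2⟩ := hdual
  have hli := linearIndependent_vecs (bForm d F) bForm_self (P := planes g S P) ⟨hd1, hd2⟩
  have hrd : r = d := by
    rw [finrank_top, Module.finrank_pi, Fintype.card_sum, Fintype.card_fin] at hcard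
    omega
  let emb : Fin r × Fin 2 → ((Fin 0 × Fin 2) ⊕ Fin r) × Fin 2 := fun q => (Sum.inr q.1, q.2)
  let e : Fin r × Fin 2 → Fin d ⊕ Fin d → F := vecs (planes g S P) ∘ emb
  have heli : LinearIndependent F e := LinearIndependent.comp (v := vecs (planes g S P)) hli emb (by
    rintro ⟨a, b⟩ ⟨a', b'⟩ h; simpa [emb] using h)
  have hetop : Submodule.span F (Set.range e) = ⊤ := by
    refine heli.span_eq_top_of_card_eq_finrank' ?_
    simp; omega
  have horth : ∀ i j, i ≠ j → bForm d F (P i).1 (P j).1 = 0 ∧ bForm d F (P i).2 (P j).2 = 0 :=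
    fun i j hij => by
      obtain ⟨a, -, -, b⟩ := hd2 (.inr i) (.inr j) (by simpa using hij)
      exact ⟨a, b⟩
  set U := Submodule.span F (Set.range fun i => (P i).1) with hU
  set W := Submodule.span F (Set.range fun i => (P i).2) with hW
  have hsing : ∀ (v : Fin r → Fin d ⊕ Fin d → F), (∀ i j, bForm d F (v i) (v j) = 0) →
      ∀ a ∈ Submodule.span F (Set.range v), ∀ b ∈ Submodule.span F (Set.range v),
        bForm d F a b = 0 := by
    intro v hv a ha b hb
    induction ha using Submodule.span_induction with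
    | mem a ha =>
      induction hb using Submodule.span_induction with
      | mem b hb =>
        obtain ⟨i, rfl⟩ := ha; obtain ⟨j, rfl⟩ := hb; exact hv i j
      | zero => simp only [map_zero]
      | add b c _ _ h1 h2 => rw [map_add, h1, h2, add_zero]
      | smul c b _ h => rw [map_smul, h, smul_zero]
    | zero => simp only [map_zero, LinearMap.zero_apply]
    | add a c _ _ h1 h2 => rw [map_add, LinearMap.add_apply, h1, h2, add_zero]
    | smul c a _ h => rw [map_smul, LinearMap.smul_apply, h, smul_zero]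
  have hfin : ∀ ε : Fin 2, Module.finrank F ↥(Submodule.span F (Set.range fun i => e (i, ε))) = r := by
    intro ε
    rw [finrank_span_eq_card (b := fun i => e (i, ε)), Fintype.card_fin]
    exact LinearIndependent.comp (v := e) heli (fun i => (i, ε)) fun a b h => by simpa using h
  have hUr : Module.finrank F ↥U = r := hfin 0
  have hWr : Module.finrank F ↥W = r := hfin 1
  refine ⟨U, W, ⟨?_, ?_⟩, ?_, ?_, ?_⟩
  · have h0 : U = Submodule.span F (e '' {q : Fin r × Fin 2 | q.2 = 0}) := by
      rw [hU]; congr 1; ext v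
      exact ⟨fun ⟨i, h⟩ => ⟨(i, 0), rfl, h⟩, fun ⟨⟨i, ε⟩, hε, h⟩ => ⟨i, by
        simp only [Set.mem_setOf_eq] at hε; subst hε; exact h⟩⟩
    have h1 : W = Submodule.span F (e '' {q : Fin r × Fin 2 | q.2 = 1}) := by
      rw [hW]; congr 1; ext v
      exact ⟨fun ⟨i, h⟩ => ⟨(i, 1), rfl, h⟩, fun ⟨⟨i, ε⟩, hε, h⟩ => ⟨i, by
        simp only [Set.mem_setOf_eq] at hε; subst hε; exact h⟩⟩
    rw [h0, h1]
    exact heli.disjoint_span_image (Set.disjoint_left.mpr fun q h h' => by
      simp only [Set.mem_setOf_eq] at h h'; omega)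
  · rw [codisjoint_iff, eq_top_iff, ← hetop, Submodule.span_le]
    rintro _ ⟨⟨i, ε⟩, rfl⟩
    fin_cases ε
    · exact Submodule.mem_sup_left (Submodule.subset_span ⟨i, rfl⟩)
    · exact Submodule.mem_sup_right (Submodule.subset_span ⟨i, rfl⟩)
  · intro u hu v hv
    exact hsing _ (fun i j => if h : i = j then by rw [h]; exact bForm_self _ else (horth i j h).1)
      u hu v hv
  · intro u hu v hv
    exact hsing _ (fun i j => if h : i = j then by rw [h]; exact bForm_self _ else (horth i j h).2)
      u hu v hv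
  · have hmap : ∀ (A : Submodule F (Fin d ⊕ Fin d → F)) (v : Fin r → Fin d ⊕ Fin d → F),
        Module.finrank F ↥A = r → Module.finrank F ↥(Submodule.span F (Set.range v)) = r →
        (∀ i, g (v i) ∈ A) → (Submodule.span F (Set.range v)).map g = A := by
      intro A v hA hv h
      refine Submodule.eq_of_le_of_finrank_le ?_ ?_
      · rw [Submodule.map_span, Submodule.span_le]
        rintro _ ⟨_, ⟨i, rfl⟩, rfl⟩
        exact h i
      · rw [← LinearEquiv.finrank_eq (Submodule.equivMapOfInjective g hginj _), hA, hv]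
    by_cases hz1 : z = 1
    · left
      refine ⟨hmap U _ hUr hUr fun i => ?_, hmap W _ hWr hWr fun i => ?_⟩ <;>
        · have h := hPQ i
          simp only [Q, if_pos hz1] at h
          obtain ⟨⟨c, hc⟩, c', hc'⟩ := h
          first
            | exact hc ▸ U.smul_mem c (Submodule.subset_span ⟨i, rfl⟩)
            | exact hc' ▸ W.smul_mem c' (Submodule.subset_span ⟨i, rfl⟩)
    · right
      refine ⟨hmap W _ hWr hUr fun i => ?_, hmap U _ hUr hWr fun i => ?_⟩ <;>
        · have h := hPQ i
          simp only [Q, if_neg hz1] at h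
          obtain ⟨⟨c, hc⟩, c', hc'⟩ := h
          first
            | exact hc ▸ W.smul_mem c (Submodule.subset_span ⟨i, rfl⟩)
            | exact hc' ▸ U.smul_mem c' (Submodule.subset_span ⟨i, rfl⟩)

end Cfsg.Agent.S5962
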