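import Cfsg.Statements.S5963
import Cfsg.Agent.Lib.SympPrimeElements
import Cfsg.Agent.Lib.PolarPairs
-- import your own Cfsg.Agent.* helpers here

set_option autoImplicit false
open scoped MatrixGroups
open Cfsg

namespace Cfsg.Agent.S5963

/-- Derangements of odd prime order of PSp_n(q), q odd, on pairs of complementary totally isotropic subspaces. Here `T = PSp_n(q)`, `n = 2d ≥ 4`, `q` odd, realised through the symplectic matrices over the field `F` with `q` elements; Ω is the set of unordered pairs `{U, W}` of complementary totally isotropic `d`-spaces (`F^n = U ⊕ W`), whose stabilizers are the subgroups of type GL_d(q).2 (maximal except in some small cases; maximality is not assumed); an element of `T` of prime order `r` (a symplectic matrix `x` with `x^r` scalar, `x` not scalar) fixes such a pair when it fixes or interchanges `U` and `W`. For every odd prime `r ≠ p` dividing the number of such pairs, some element of `T` of order `r` fixes no such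 pair (the action is never `r`-elusive for odd `r ≠ p`). -/
theorem result {F : Type*} [Field F] [Fintype F] {p : ℕ} [Fact p.Prime] [CharP F p] {q : ℕ} (hq : Fintype.card F = q)
    (d : ℕ) (hd : 2 ≤ d) (hT : (d, q) ≠ (2, 2)) (hodd : Odd q)
    (r : ℕ) [Fact r.Prime] (hr2 : r ≠ 2) (hrp : r ≠ p) (hΩ : r ∣ Nat.card {P : Submodule F (Fin d ⊕ Fin d → F) × Submodule F (Fin d ⊕ Fin d → F) // IsCompl P.1 P.2 ∧ (∀ u ∈ P.1, ∀ v ∈ P.1, Cfsg.sympForm d F u v = 0) ∧ (∀ u ∈ P.2, ∀ v ∈ P.2, Cfsg.sympForm d F u v = 0)} / 2) :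
    ∃ x : ↥(Matrix.symplecticGroup (Fin d) F),
      (∃ z : F, ((x ^ r : ↥(Matrix.symplecticGroup (Fin d) F)) : Matrix (Fin d ⊕ Fin d) (Fin d ⊕ Fin d) F) = z • (1 : Matrix (Fin d ⊕ Fin d) (Fin d ⊕ Fin d) F)) ∧
      (∀ z : F, (x : Matrix (Fin d ⊕ Fin d) (Fin d ⊕ Fin d) F) ≠ z • (1 : Matrix (Fin d ⊕ Fin d) (Fin d ⊕ Fin d) F)) ∧
      ¬ (∃ U W : Submodule F (Fin d ⊕ Fin d → F), IsCompl U W ∧ (∀ u ∈ U, ∀ v ∈ U, Cfsg.sympForm d F u v = 0) ∧ (∀ u ∈ W, ∀ v ∈ W, Cfsg.sympForm d F u v = 0) ∧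
        ((U.map (Matrix.toLin' (x : Matrix (Fin d ⊕ Fin d) (Fin d ⊕ Fin d) F)) = U ∧ W.map (Matrix.toLin' (x : Matrix (Fin d ⊕ Fin d) (Fin d ⊕ Fin d) F)) = W) ∨
         (U.map (Matrix.toLin' (x : Matrix (Fin d ⊕ Fin d) (Fin d ⊕ Fin d) F)) = W ∧ W.map (Matrix.toLin' (x : Matrix (Fin d ⊕ Fin d) (Fin d ⊕ Fin d) F)) = U))) := by
  classical
  have hr : r.Prime := Fact.out
  obtain ⟨f, hp, hf⟩ := FiniteField.card F p
  have hqr : ¬ r ∣ q := fun h => hrp ((Nat.prime_dvd_prime_iff_eq hr hp).1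
    (hr.dvd_of_dvd_pow (show r ∣ p ^ (f : ℕ) by rw [← hf, hq]; exact h)))
  obtain ⟨j, hj1, hjd, hj⟩ : ∃ j, 1 ≤ j ∧ j ≤ d ∧ r ∣ q ^ j + 1 := by
    obtain ⟨N, hN⟩ := Cfsg.Agent.PolarPairs.card_pairs (F := F) (d := d)
    have h2 : 2 ∣ Fintype.card F ^ (d - (d - 1)) + 1 := by
      rw [← even_iff_two_dvd, hq]; exact hodd.pow.add_one
    have hev : 2 ∣ (∏ i ∈ Finset.range d, (Fintype.card F ^ (d - i) + 1)) * Fintype.card F ^ N :=
      Dvd.dvd.mul_right (h2.trans (Finset.dvd_prod_of_mem (fun i => Fintype.card F ^ (d - i) + 1)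
        (Finset.mem_range.2 (by omega : d - 1 < d)))) _
    have h := hΩ.trans (Nat.div_dvd_of_dvd (hN.symm ▸ hev))
    replace h : r ∣ (∏ i ∈ Finset.range d, (Fintype.card F ^ (d - i) + 1)) * Fintype.card F ^ N :=
      hN ▸ h
    rw [hq] at h
    rcases hr.prime.dvd_or_dvd h with h | h
    · obtain ⟨i, hi, hri⟩ := hr.prime.exists_mem_finset_dvd h
      exact ⟨d - i, by have := Finset.mem_range.1 hi; omega, Nat.sub_le _ _, hri⟩
    · exact absurd (hr.dvd_of_dvd_pow h) hqr
  have hneg : (q : ZMod r) ^ j = -1 := by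
    rw [← ZMod.natCast_eq_zero_iff] at hj
    push_cast at hj
    exact eq_neg_of_add_eq_zero_left hj
  have h21 : (q : ZMod r) ^ (2 * j) = 1 := by rw [mul_comm, pow_mul, hneg, neg_one_sq]
  obtain ⟨i, hi⟩ : ∃ i, i = orderOf (q : ZMod r) := ⟨_, rfl⟩
  have hev : Even i := by
    by_contra hno
    rw [Nat.not_even_iff_odd] at hno
    have h1 : i ∣ j := (Nat.Coprime.dvd_mul_left (Nat.coprime_two_right.2 hno)).1
      (hi ▸ orderOf_dvd_of_pow_eq_one h21)
    have h3 : (q : ZMod r) ^ j = 1 := orderOf_dvd_iff_pow_eq_one.1 (hi ▸ h1)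
    rw [hneg] at h3
    haveI : Fact (2 < r) := ⟨lt_of_le_of_ne hr.two_le (Ne.symm hr2)⟩
    exact ZMod.neg_one_ne_one h3
  obtain ⟨x, M, hB⟩ := Cfsg.Agent.SympPrimeElements.exists_block (p := p) hq hd hr hr2 hrp hi
    ⟨j, hj1, hjd, h21⟩
  refine ⟨x, ⟨1, by rw [hB.pow, one_smul]; rfl⟩, hB.not_scalar, ?_⟩
  rintro ⟨U, W, hc, hU, hW, hfix⟩
  set A : Module.End F (Fin d ⊕ Fin d → F) := Matrix.toLin' x.1 with hA
  have hAr : A ^ r = 1 := by
    rw [hA, ← Matrix.toLin'_pow, ← SubmonoidClass.coe_pow, hB.pow, OneMemClass.coe_one, Matrix.toLin'_one]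
    rfl
  rcases hfix with ⟨hUU, hWW⟩ | ⟨hUW, hWU⟩
  · have hAU : ∀ u ∈ U, A u ∈ U := fun u hu => hUU ▸ Submodule.mem_map_of_mem hu
    have hAW : ∀ u ∈ W, A u ∈ W := fun u hu => hWW ▸ Submodule.mem_map_of_mem hu
    have hpoly : ∀ (S : Submodule F (Fin d ⊕ Fin d → F)), (∀ u ∈ S, A u ∈ S) →
        ∀ h : Polynomial F, ∀ u ∈ S, Polynomial.aeval A h u ∈ S := by
      intro S hS h
      induction h using Polynomial.induction_on with
      | C a => intro u hu; simpa [Module.algebraMap_end_apply] using S.smul_mem a hu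
      | add a b ha hb => intro u hu; rw [map_add, LinearMap.add_apply]; exact S.add_mem (ha u hu) (hb u hu)
      | monomial n a ih =>
        intro u hu
        rw [pow_succ, ← mul_assoc, map_mul, Polynomial.aeval_X, Module.End.mul_apply]
        exact ih _ (hS u hu)
    let π := U.projection W hc
    have hl : ∀ y ∈ U, π y = y := fun y hy => Submodule.projection_apply_left hc ⟨y, hy⟩
    have hrr : ∀ y ∈ W, π y = 0 := fun y hy => Submodule.projection_apply_right hc ⟨y, hy⟩
    have hπ : Commute π A := LinearMap.ext fun v => by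
      obtain ⟨u, w, hu, hw, rfl⟩ := Submodule.codisjoint_iff_exists_add_eq.1 hc.codisjoint v
      simp only [Module.End.mul_apply, map_add, hl u hu, hl _ (hAU u hu), hrr w hw, hrr _ (hAW w hw),
        map_zero]
    have hMne : M ≠ ⊥ := fun h => by
      have := hB.finrank
      rw [h, finrank_bot] at this
      have h1 := orderOf_dvd_of_pow_eq_one h21
      rw [← hi, ← this, zero_dvd_iff] at h1
      omega
    obtain ⟨v, hv, hv0⟩ := Submodule.exists_mem_ne_zero_of_ne_bot hMne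
    have key : ∀ (S : Submodule F (Fin d ⊕ Fin d → F)), (∀ u ∈ S, A u ∈ S) →
        (∀ u ∈ S, ∀ w ∈ S, Cfsg.sympForm d F u w = 0) → ∀ u ∈ M, u ∈ S → u = 0 := by
      intro S hS hSi u hu huS
      by_contra hu0
      refine hu0 (hB.nondeg hev u hu fun w hw => ?_)
      obtain ⟨h, rfl⟩ := hB.cyclic u hu hu0 w hw
      exact hSi u huS _ (hpoly S hS h u huS)
    have h0 : π v = 0 := key U hAU hU _ (hB.stable π hπ v hv) (Submodule.projection_apply_mem hc v)
    exact hv0 (key W hAW hW v hv ((Submodule.projection_apply_eq_zero_iff hc).1 h0))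
  · have hswap : ∀ n, U.map (A ^ (2 * n + 1)) = W := by
      intro n
      induction n with
      | zero => rw [mul_zero, zero_add, pow_one]; exact hUW
      | succ n ih =>
        rw [show 2 * (n + 1) + 1 = 1 + (1 + (2 * n + 1)) by ring, pow_add, pow_add, pow_one,
          Module.End.mul_eq_comp, Module.End.mul_eq_comp, Submodule.map_comp, Submodule.map_comp, ih]
        rw [show Submodule.map A W = U from hWU]
        exact hUW
    obtain ⟨n, hn⟩ := hr.odd_of_ne_two hr2
    have hWe := hswap n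
    rw [← hn, hAr, show (1 : Module.End F (Fin d ⊕ Fin d → F)) = LinearMap.id from rfl,
      Submodule.map_id] at hWe
    subst hWe
    have := (Cfsg.Agent.PolarPairs.finrank_eq hc hU hW).1
    have hbot : U = ⊥ := by simpa using hc.inf_eq_bot
    rw [hbot, finrank_bot] at this
    omega

end Cfsg.Agent.S5963
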