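import Cfsg.Statements.S5964
import Cfsg.Agent.Lib.SLInvolutions68
import Cfsg.Agent.Lib.SubfieldRational
import Cfsg.Agent.Lib.PSLCard

set_option autoImplicit false
open scoped MatrixGroups
open Cfsg Polynomial Matrix

namespace Cfsg.Agent.S5964

open Cfsg.Agent.SLInvolutions68

universe u

variable {F : Type u} [Field F] {n : ℕ} {F₀ : Subfield F}

theorem mem_of_eq [NeZero n] (g : GL (Fin n) F) (s : F) (B : Matrix (Fin n) (Fin n) F₀)
    (h : (g : Matrix (Fin n) (Fin n) F) = s • B.map (F₀.subtype : F₀ →+* F)) :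
    g ∈ Cfsg.Geo.subfieldSubgroup F₀ (1 : GL (Fin n) F) := by
  refine (SubfieldRational.mem_subfieldSubgroup_iff 1 g).2 fun u => ⟨s, B *ᵥ u, ?_⟩
  simp only [SubfieldRational.rat, Units.val_one, Matrix.one_mulVec]
  rw [h, Matrix.smul_mulVec]
  congr 1
  funext i
  exact (RingHom.map_mulVec (F₀.subtype : F₀ →+* F) B u i).symm

theorem eq_of_mem (g : GL (Fin n) F) (h : g ∈ Cfsg.Geo.subfieldSubgroup F₀ (1 : GL (Fin n) F)) :
    ∃ (s : F) (B : Matrix (Fin n) (Fin n) F₀), s ≠ 0 ∧
      (g : Matrix (Fin n) (Fin n) F) = s • B.map (F₀.subtype : F₀ →+* F) := by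
  obtain ⟨g', hg', rfl⟩ := Subgroup.mem_map.mp h
  obtain ⟨a, ⟨B, rfl⟩, b, hb, rfl⟩ := Subgroup.mem_sup_of_normal_right.mp hg'
  obtain ⟨c, hc⟩ := (Cfsg.Geo.mem_scalars_iff b).mp hb
  refine ⟨c, (B : Matrix (Fin n) (Fin n) F₀), c.ne_zero, ?_⟩
  simp [hc, Matrix.GeneralLinearGroup.map]

variable [Fintype F]

theorem isSquare_of_sub (h2 : (2 : F) ≠ 0) {q₀ : ℕ} (hF₀ : Nat.card ↥F₀ = q₀)
    (hq : Fintype.card F = q₀ ^ 2) (a : F₀) : IsSquare (a : F) := by
  classical
  rcases eq_or_ne (a : F) 0 with h | ha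
  · exact h ▸ IsSquare.zero
  have hchar : ringChar F ≠ 2 := fun h => h2 (by
    have := ringChar.Nat.cast_ringChar (R := F)
    rw [h] at this
    exact_mod_cast this)
  rw [FiniteField.isSquare_iff hchar ha]
  have hodd : Odd q₀ := by
    have := two_ne_zero_iff_odd.1 h2
    rwa [hq, Nat.odd_pow_iff two_ne_zero] at this
  obtain ⟨t, rfl⟩ := hodd
  have e : Fintype.card F / 2 = (2 * t + 1 - 1) * (t + 1) := by
    rw [hq, Nat.add_sub_cancel, show (2 * t + 1) ^ 2 = 2 * (2 * t * (t + 1)) + 1 by ring]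
    omega
  have h0 : a ^ (2 * t + 1 - 1) = 1 := by
    haveI : Fintype F₀ := Fintype.ofFinite _
    rw [← hF₀, Nat.card_eq_fintype_card]
    exact FiniteField.pow_card_sub_one_eq_one a (fun h => ha (by rw [h]; rfl))
  have h1 : (a : F) ^ (2 * t + 1 - 1) = 1 := by
    simpa using congrArg Subtype.val h0
  rw [e, pow_mul, h1, one_pow]

theorem geom_odd {b k : ℕ} (hb : Odd b) (hk : Odd k) : ∃ o, Odd o ∧ b ^ k - 1 = (b - 1) * o := by
  refine ⟨∑ i ∈ Finset.range k, b ^ i, ?_, ?_⟩
  · rw [Finset.odd_sum_iff_odd_card_odd, Finset.filter_true_of_mem fun i _ => hb.pow,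
      Finset.card_range]
    exact hk
  · have h := geom_sum_mul_of_one_le (show 1 ≤ b from hb.pos) k
    rw [← h, mul_comm]

theorem step_odd {b k : ℕ} (hb : Odd b) (hk : Odd k) (i j : ℕ) :
    ∃ o, Odd o ∧ (b ^ k) ^ (i + j) - (b ^ k) ^ i = (b ^ (i + j) - b ^ i) * o := by
  obtain ⟨o, ho, h⟩ := geom_odd (b := b ^ j) hb.pow hk
  refine ⟨(b ^ i) ^ (k - 1) * o, (hb.pow.pow).mul ho, ?_⟩
  rw [pow_add, pow_add, ← Nat.mul_sub_one, ← Nat.mul_sub_one, pow_right_comm b k j, h,
    pow_right_comm b k i]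
  conv_lhs => rw [show k = k - 1 + 1 by have := hk.pos; omega, pow_succ]
  ring

theorem odd_index [NeZero n] {k q₀ : ℕ} (hF₀ : Nat.card ↥F₀ = q₀) (hqk : Fintype.card F = q₀ ^ k)
    (hodd : Odd (Fintype.card F)) (hk : Odd k) :
    Odd ((Cfsg.Geo.subfieldSubgroup F₀ 1).comap (Matrix.SpecialLinearGroup.toGL : Matrix.SpecialLinearGroup (Fin n) F →* GL (Fin n) F)).index := by
  classical
  set H := (Cfsg.Geo.subfieldSubgroup F₀ 1).comap (Matrix.SpecialLinearGroup.toGL : Matrix.SpecialLinearGroup (Fin n) F →* GL (Fin n) F) with hH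
  have hq0 : Odd q₀ := by rwa [hqk, Nat.odd_pow_iff hk.pos.ne'] at hodd
  have hsub : Nat.card (Matrix.SpecialLinearGroup (Fin n) F₀) ∣ Nat.card H := by
    let φ : Matrix.SpecialLinearGroup (Fin n) F₀ →* Matrix.SpecialLinearGroup (Fin n) F :=
      Matrix.SpecialLinearGroup.map (F₀.subtype : F₀ →+* F)
    have hinj : Function.Injective φ := fun A B h => Subtype.ext
      (Matrix.map_injective (F₀.subtype).injective (congrArg Subtype.val h))
    have hle : φ.range ≤ H := by
      rintro _ ⟨A, rfl⟩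
      refine mem_of_eq _ 1 (A : Matrix (Fin n) (Fin n) F₀) ?_
      simp [φ]
    rw [Nat.card_congr (MonoidHom.ofInjective hinj).toEquiv]
    exact Subgroup.card_dvd_of_le hle
  have hGL : ∃ o, Odd o ∧ Nat.card (GL (Fin n) F) = Nat.card (GL (Fin n) F₀) * o := by
    haveI : Fintype F₀ := Fintype.ofFinite _
    rw [Matrix.card_GL_field, Matrix.card_GL_field, hqk, ← Nat.card_eq_fintype_card, hF₀]
    have : ∀ i : Fin n, ∃ o, Odd o ∧ (q₀ ^ k) ^ n - (q₀ ^ k) ^ (i : ℕ) = (q₀ ^ n - q₀ ^ (i : ℕ)) * o := by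
      intro i
      have := step_odd hq0 hk (i : ℕ) (n - (i : ℕ))
      rwa [Nat.add_sub_cancel' i.2.le] at this
    choose o ho h using this
    refine ⟨∏ i, o i, ?_, ?_⟩
    · exact Finset.prod_induction _ Odd (fun _ _ => Odd.mul) odd_one fun i _ => ho i
    · rw [← Finset.prod_mul_distrib]
      exact Finset.prod_congr rfl fun i _ => h i
  obtain ⟨o, ho, hGL⟩ := hGL
  rw [← PSLCard.card_SL_mul_card_units, ← PSLCard.card_SL_mul_card_units, PSLCard.card_units_field,
    PSLCard.card_units_field, hF₀, Nat.card_eq_fintype_card (α := F), hqk] at hGL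
  obtain ⟨o', ho', hq'⟩ := geom_odd hq0 hk
  obtain ⟨t, ht⟩ := hsub
  have hc := H.card_mul_index
  rw [hq', ← hc, ht] at hGL
  have hpos : 0 < Nat.card (Matrix.SpecialLinearGroup (Fin n) F₀) * (q₀ - 1) := by
    refine Nat.mul_pos Nat.card_pos ?_
    have h1 : 1 < Nat.card F₀ := Finite.one_lt_card
    omega
  have h3 : t * H.index * o' = o := Nat.eq_of_mul_eq_mul_left hpos (by linear_combination hGL)
  rw [← h3] at ho
  exact (Nat.odd_mul.1 (Nat.odd_mul.1 ho).1).2

/-- Involutions of PSL_n(q) and subfield subgroups. -/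
theorem result {F : Type*} [Field F] [Fintype F] {p : ℕ} [Fact p.Prime] [CharP F p] {q : ℕ} (hq : Fintype.card F = q)
    (n : ℕ) (hn : 2 ≤ n) (hT : (n, q) ≠ (2, 2) ∧ (n, q) ≠ (2, 3))
    (F₀ : Subfield F) (k q₀ : ℕ) (hk : k.Prime) (hF₀ : Nat.card ↥F₀ = q₀) (hqk : q = q₀ ^ k) (hC5 : ¬ (n = 2 ∧ q₀ = 2)) (hΩ : 2 ∣ ((Cfsg.Geo.subfieldSubgroup F₀ 1).comap (Matrix.SpecialLinearGroup.toGL : Matrix.SpecialLinearGroup (Fin n) F →* GL (Fin n) F)).index) :
    (∀ x : Matrix.SpecialLinearGroup (Fin n) F,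
      (∃ z : F, ((x ^ 2 : Matrix.SpecialLinearGroup (Fin n) F) : Matrix (Fin n) (Fin n) F) = z • (1 : Matrix (Fin n) (Fin n) F)) →
      (∀ z : F, (x : Matrix (Fin n) (Fin n) F) ≠ z • (1 : Matrix (Fin n) (Fin n) F)) →
      ∃ P : Matrix.SpecialLinearGroup (Fin n) F, P⁻¹ * x * P ∈ ((Cfsg.Geo.subfieldSubgroup F₀ 1).comap (Matrix.SpecialLinearGroup.toGL : Matrix.SpecialLinearGroup (Fin n) F →* GL (Fin n) F))) ↔
    (Odd q → (k = 2 ∧ padicValNat 2 n ≤ padicValNat 2 (q - 1))) := by
  classical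
  subst hq
  haveI : NeZero n := ⟨by omega⟩
  constructor
  · intro hall hodd
    have h2 := two_ne_zero_iff_odd.2 hodd
    have hk2 : k = 2 := by
      by_contra hk2
      have := odd_index (n := n) hF₀ hqk hodd (hk.odd_of_ne_two hk2)
      exact (Nat.not_even_iff_odd.2 this) (even_iff_two_dvd.2 hΩ)
    refine ⟨hk2, ?_⟩
    by_contra hv
    push Not at hv
    subst hk2
    have hne : padicValNat 2 n ≠ 0 := by omega
    have hev : 2 ∣ n := dvd_of_one_le_padicValNat (by omega)
    obtain ⟨m, rfl⟩ := hev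
    have hm0 : m ≠ 0 := by omega
    rw [padicValNat.mul two_ne_zero hm0, padicValNat.self one_lt_two] at hv
    obtain ⟨w, hw, hwm⟩ := (exists_nonsquare_pow_eq_one_iff h2 hm0).2 (by omega)
    have hm1 : IsSquare (-1 : F) := by
      have := isSquare_of_sub h2 hF₀ hqk (-1)
      simpa using this
    set z : F := -w with hz_def
    have hz : ¬ IsSquare z := fun h => hw (by
      have := hm1.mul h
      rwa [hz_def, neg_one_mul, neg_neg] at this)
    let e : Fin 2 × Fin m ≃ Fin (2 * m) := finProdFinEquiv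
    let A : Matrix (Fin (2 * m)) (Fin (2 * m)) F :=
      Matrix.reindexAlgEquiv F F e (Matrix.blockDiagonal fun _ : Fin m => !![0, z; 1, 0])
    have hA : A * A = z • 1 := by
      rw [← map_mul, ← Matrix.blockDiagonal_mul]
      have : (!![0, z; 1, 0] : Matrix (Fin 2) (Fin 2) F) * !![0, z; 1, 0] = z • 1 := by
        ext i j; fin_cases i <;> fin_cases j <;> simp
      rw [show (fun _ : Fin m => (!![0, z; 1, 0] : Matrix (Fin 2) (Fin 2) F) * !![0, z; 1, 0])
        = z • (fun _ : Fin m => (1 : Matrix (Fin 2) (Fin 2) F)) from funext fun _ => this,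
        Matrix.blockDiagonal_smul, map_smul,
        show Matrix.blockDiagonal (fun _ : Fin m => (1 : Matrix (Fin 2) (Fin 2) F)) = 1 from Matrix.blockDiagonal_one,
        map_one]
    have hAdet : A.det = 1 := by
      obtain ⟨m', hm', hd⟩ := nonsplit_det hz hA
      rw [Fintype.card_fin] at hm'
      rw [hd, show m' = m by omega, hz_def, neg_neg, hwm]
    let x : Matrix.SpecialLinearGroup (Fin (2 * m)) F := ⟨A, hAdet⟩
    obtain ⟨P, hP⟩ := hall x ⟨z, by rw [sq, Matrix.SpecialLinearGroup.coe_mul]; exact hA⟩ (by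
      intro c hc
      have hA' : A = c • 1 := hc
      rw [hA', Matrix.smul_mul, one_mul, smul_smul] at hA
      have h := congrFun (congrFun hA ⟨0, by omega⟩) ⟨0, by omega⟩
      exact hz ⟨c, by simpa using h.symm⟩)
    obtain ⟨s, B, hs, hB⟩ := eq_of_mem _ (Subgroup.mem_comap.1 hP)
    rw [Matrix.SpecialLinearGroup.coe_GL_coe_matrix, Matrix.SpecialLinearGroup.coe_mul,
      Matrix.SpecialLinearGroup.coe_mul] at hB
    have hsq : (s • B.map (F₀.subtype : F₀ →+* F)) * (s • B.map (F₀.subtype : F₀ →+* F)) = z • 1 :=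
      conj_sq_scalar P hA hB
    rw [Matrix.smul_mul, Matrix.mul_smul, smul_smul, ← Matrix.map_mul] at hsq
    have h00 := congrFun (congrFun hsq ⟨0, by omega⟩) ⟨0, by omega⟩
    simp only [Matrix.smul_apply, Matrix.map_apply, Matrix.one_apply_eq, smul_eq_mul, mul_one] at h00
    exact hz (h00 ▸ (IsSquare.mul_self s).mul (isSquare_of_sub h2 hF₀ hqk _))
  · intro hR x ⟨z, hzx⟩ hns
    have hA := sq_coe hzx
    have hdx : (x : Matrix (Fin n) (Fin n) F).det = 1 := x.2
    by_cases hodd : Odd (Fintype.card F)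
    · obtain ⟨hk2, hv⟩ := hR hodd
      subst hk2
      have h2 := two_ne_zero_iff_odd.2 hodd
      by_cases hz : IsSquare z
      · obtain ⟨c, rfl⟩ := hz
        have hc : c ≠ 0 := by
          rintro rfl
          have := congrArg Matrix.det hA
          rw [Matrix.det_mul, hdx, mul_zero, zero_smul, Matrix.det_zero] at this
          simp at this
        obtain ⟨a, b, hab, hcp, -⟩ := split_charpoly hA
        have hab' := hab
        rw [Fintype.card_fin] at hab'
        obtain ⟨P, hP⟩ := split_conj h2 hc hA hab hcp (fun i : Fin n => (i : ℕ) < b) (by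
          rw [Fin.card_filter_val_lt, min_eq_right (by omega)])
        have hd : (Matrix.diagonal fun i : Fin n => if (i : ℕ) < b then -c else c).det ≠ 0 := by
          rw [← hP, Matrix.det_mul, Matrix.det_mul, hdx, (P⁻¹).2, P.2]
          simp
        refine fixes_of_conj _ x P (Matrix.GeneralLinearGroup.mkOfDetNeZero _ hd)
          (mem_of_eq _ c (Matrix.diagonal fun i : Fin n => if (i : ℕ) < b then -1 else 1) ?_) hP
        rw [Matrix.diagonal_map (map_zero _), ← Matrix.diagonal_smul]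
        refine congrArg Matrix.diagonal (funext fun i => ?_)
        by_cases h : (i : ℕ) < b <;> simp [h]
      · exfalso
        obtain ⟨m, hm, hd⟩ := nonsplit_det hz hA
        rw [hdx] at hd
        rw [Fintype.card_fin] at hm
        subst hm
        have hm0 : m ≠ 0 := by omega
        rw [padicValNat.mul two_ne_zero hm0, padicValNat.self one_lt_two] at hv
        have hm1 : IsSquare (-1 : F) := by simpa using isSquare_of_sub h2 hF₀ hqk (-1)
        have := (exists_nonsquare_pow_eq_one_iff h2 hm0).1 ⟨-z, fun h => hz (by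
          simpa using hm1.mul h), hd.symm⟩
        omega
    · haveI := charP_two_of_even hodd
      obtain ⟨c, N, hc, hN0, hN, hxe⟩ := char_two_form hA (by rw [hdx]; exact one_ne_zero) hns
      obtain ⟨r, hr⟩ : ∃ r, N.rank = r := ⟨_, rfl⟩
      have hb := rank_bound hN
      rw [Fintype.card_fin, hr] at hb
      let S : Finset (Fin n) := Finset.univ.filter fun i => (i : ℕ) < r
      have hS : ∀ i ∈ S, Fin.revPerm i ∉ S := by
        intro i hi
        simp only [S, Finset.mem_filter, Finset.mem_univ, true_and, Fin.revPerm_apply, Fin.val_rev] at hi ⊢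
        omega
      obtain ⟨hM, hMr⟩ := shifted_diag (F := F) Fin.revPerm S hS
      obtain ⟨P, hP⟩ := char_two_conj (fun a => (FiniteField.isSquare_of_char_two (ringChar.eq F 2) a).imp
        fun _ h => h.symm) hN hM hN0 (by rw [hr, hMr, Fin.card_filter_val_lt, min_eq_right (by omega)]) c
      rw [← hxe] at hP
      have hd : (c • (1 + (Matrix.diagonal fun i => if i ∈ S then (1 : F) else 0).submatrix id Fin.revPerm)).det ≠ 0 := by
        rw [← hP, Matrix.det_mul, Matrix.det_mul, hdx, (P⁻¹).2, P.2]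
        simp
      refine fixes_of_conj _ x P (Matrix.GeneralLinearGroup.mkOfDetNeZero _ hd)
        (mem_of_eq _ c (1 + (Matrix.diagonal fun i => if i ∈ S then (1 : F₀) else 0).submatrix id Fin.revPerm) ?_) hP
      show c • (1 + (Matrix.diagonal fun i => if i ∈ S then (1 : F) else 0).submatrix id Fin.revPerm) = _
      congr 1
      ext i j
      simp only [Matrix.map_apply, Matrix.add_apply, Matrix.one_apply, Matrix.submatrix_apply, id_eq,
        Matrix.diagonal_apply]
      split_ifs <;> simp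

end Cfsg.Agent.S5964
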