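import Cfsg.Statements.S5966
import Cfsg.Agent.Lib.JordanTypeClasses

set_option autoImplicit false
open scoped MatrixGroups
open Cfsg

namespace Cfsg.Agent.S5966
open Matrix

theorem cube_bij (R : Type*) [Field R] [Finite R] [CharP R 3] :
    Function.Bijective fun x : R => x ^ 3 := by
  haveI : Fact (Nat.Prime 3) := ⟨Nat.prime_three⟩
  exact Finite.injective_iff_bijective.1 (frobenius_inj R 3)

section
variable {F : Type*} [Field F] {n : ℕ} (F₀ : Subfield F)

/-- Extension of scalars. -/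
abbrev up (A : GL (Fin n) F₀) : GL (Fin n) F :=
  Matrix.GeneralLinearGroup.map (F₀.subtype : F₀ →+* F) A

theorem up_val (A : GL (Fin n) F₀) :
    (up F₀ A : Matrix (Fin n) (Fin n) F) = (A : Matrix (Fin n) (Fin n) F₀).map (F₀.subtype : F₀ →+* F) := rfl

theorem mem_H_iff (g : Matrix.SpecialLinearGroup (Fin n) F) :
    g ∈ (Cfsg.Geo.subfieldSubgroup F₀ 1).comap
        (Matrix.SpecialLinearGroup.toGL : Matrix.SpecialLinearGroup (Fin n) F →* GL (Fin n) F) ↔
      ∃ (A : GL (Fin n) F₀) (c : Fˣ), (g : Matrix (Fin n) (Fin n) F) =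
        (c : F) • (up F₀ A : Matrix (Fin n) (Fin n) F) := by
  have h1 : (MulAut.conj (1 : GL (Fin n) F)).toMonoidHom = MonoidHom.id _ := by ext; simp
  rw [Subgroup.mem_comap, Cfsg.Geo.subfieldSubgroup, h1, Subgroup.map_id,
    Subgroup.mem_sup_of_normal_right]
  constructor
  · rintro ⟨_, ⟨A, rfl⟩, b, hb, e⟩
    obtain ⟨c, hc⟩ := (Cfsg.Geo.mem_scalars_iff b).1 hb
    refine ⟨A, c, ?_⟩
    have e' := congrArg (fun z : GL (Fin n) F => (z : Matrix (Fin n) (Fin n) F)) e
    simp only [Units.val_mul, hc, Matrix.mul_smul, Matrix.mul_one] at e'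
    exact e'.symm
  · rintro ⟨A, c, hA⟩
    refine ⟨up F₀ A, ⟨A, rfl⟩, _, ⟨c, rfl⟩, Units.ext ?_⟩
    show _ = (g : Matrix (Fin n) (Fin n) F)
    rw [hA, Units.val_mul]
    simp [Matrix.smul_one_eq_diagonal, Matrix.smul_eq_diagonal_mul]
    ext i j
    simp [mul_comm]

theorem map_shape {t : ℕ} (d : Fin t → ℕ) (e : JordanType.Ix d ≃ Fin n) :
    (Matrix.reindex e e (JordanType.sh d F₀ 1)).map (F₀.subtype : F₀ →+* F) =
      Matrix.reindex e e (JordanType.sh d F 1) := by
  ext i j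
  simp only [map_apply, reindex_apply, submatrix_apply, JordanType.sh, of_apply]
  split_ifs <;> simp

theorem shape_pow {t : ℕ} (d : Fin t → ℕ) (e : JordanType.Ix d ≃ Fin n) (k : ℕ) :
    Matrix.reindex e e (JordanType.sh d F 1) ^ k = Matrix.reindex e e (JordanType.sh d F k) := by
  rw [← JordanType.sh_pow d k, ← Matrix.coe_reindexAlgEquiv F F]
  exact (map_pow _ _ _).symm

/-- Diagonal unit. -/
def dg (w : Fin n → Fˣ) : GL (Fin n) F :=
  ⟨diagonal fun i => (w i : F), diagonal fun i => ((w i)⁻¹ : Fˣ), by simp, by simp⟩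

theorem det_dg (w : Fin n → Fˣ) :
    (dg w : Matrix (Fin n) (Fin n) F).det = ((∏ i, w i : Fˣ) : F) := by
  simp [dg]

theorem blockScal {t : ℕ} (d : Fin t → ℕ) (e : JordanType.Ix d ≃ Fin n) (l : Fin t → Fˣ) :
    ∃ z : GL (Fin n) F,
      (z : Matrix (Fin n) (Fin n) F) * Matrix.reindex e e (JordanType.sh d F 1) =
        Matrix.reindex e e (JordanType.sh d F 1) * (z : Matrix (Fin n) (Fin n) F) ∧
      (z : Matrix (Fin n) (Fin n) F).det = ((∏ a, l a ^ d a : Fˣ) : F) := by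
  refine ⟨dg fun i => l (e.symm i).1, ?_, ?_⟩
  · show diagonal _ * _ = _ * diagonal _
    ext i j
    simp only [diagonal_mul, mul_diagonal, reindex_apply, submatrix_apply, JordanType.sh, of_apply]
    split_ifs with h
    · rw [h.1]; ring
    · ring
  · rw [det_dg, ← Equiv.prod_comp e]
    simp only [Equiv.symm_apply_apply]
    rw [Fintype.prod_sigma]
    simp

variable [Fintype F] [CharP F 3]

theorem cube_surj (t : Fˣ) : ∃ s : Fˣ, s ^ 3 = t := by
  obtain ⟨s, hs⟩ := (cube_bij F).2 (t : F)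
  simp only at hs
  have hs0 : s ≠ 0 := fun e => t.ne_zero (by rw [← hs, e]; simp)
  exact ⟨Units.mk0 s hs0, Units.ext (by simpa using hs)⟩
end

section
variable {F : Type*} [Field F] [Fintype F] [CharP F 3] {n : ℕ} {F₀ : Subfield F} {k q₀ : ℕ}

theorem ringChar_ne : ringChar F ≠ 2 := by rw [ringChar.eq F 3]; norm_num

theorem odd_q0 (hF₀ : Nat.card ↥F₀ = q₀) : Odd q₀ := by
  haveI : CharP F₀ 3 := inferInstance
  haveI : Fintype F₀ := Fintype.ofFinite _
  obtain ⟨m, -, hm⟩ := FiniteField.card F₀ 3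
  rw [← hF₀, Nat.card_eq_fintype_card, hm]
  exact (by decide : Odd 3).pow

theorem sq_of_sub {q : ℕ} (hq : Fintype.card F = q) (hF₀ : Nat.card ↥F₀ = q₀) (hqk : q = q₀ ^ 2)
    (a : F₀) : IsSquare (a : F) := by
  by_cases ha : (a : F) = 0
  · exact ⟨0, by simp [ha]⟩
  haveI : Fintype F₀ := Fintype.ofFinite _
  rw [FiniteField.isSquare_iff ringChar_ne ha, hq, hqk]
  obtain ⟨m, hm⟩ := odd_q0 hF₀
  have h1 : (a : F) ^ (q₀ - 1) = 1 := by
    have := FiniteField.pow_card_sub_one_eq_one a (by simpa using ha)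
    rw [← Nat.card_eq_fintype_card, hF₀] at this
    simpa using congrArg (fun z : F₀ => (z : F)) this
  rw [show q₀ ^ 2 / 2 = (q₀ - 1) * (m + 1) from ?_, pow_mul, h1, one_pow]
  rw [hm, Nat.add_sub_cancel]
  have : (2 * m + 1) ^ 2 = 2 * (2 * m * (m + 1)) + 1 := by ring
  omega

theorem exists_nonsq_sub {q : ℕ} (hq : Fintype.card F = q) (hF₀ : Nat.card ↥F₀ = q₀)
    (hqk : q = q₀ ^ k) (hk : Odd k) : ∃ a : F₀, a ≠ 0 ∧ ¬ IsSquare (a : F) := by
  haveI : Fintype F₀ := Fintype.ofFinite _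
  haveI : CharP F₀ 3 := inferInstance
  have h2 : ringChar F₀ ≠ 2 := by rw [ringChar.eq F₀ 3]; norm_num
  obtain ⟨a, ha⟩ := FiniteField.exists_nonsquare h2
  have ha0 : a ≠ 0 := fun e => ha ⟨0, by simp [e]⟩
  refine ⟨a, ha0, fun hs => ha ?_⟩
  rw [FiniteField.isSquare_iff h2 ha0, ← Nat.card_eq_fintype_card, hF₀]
  have haF : (a : F) ≠ 0 := by simpa using ha0
  rw [FiniteField.isSquare_iff ringChar_ne haF, hq, hqk] at hs
  have h1 : a ^ (q₀ - 1) = 1 := by
    have := FiniteField.pow_card_sub_one_eq_one a ha0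
    rwa [← Nat.card_eq_fintype_card, hF₀] at this
  obtain ⟨m, hm⟩ := odd_q0 hF₀
  -- q₀^k / 2 = m * (odd number)
  obtain ⟨r, hr⟩ : ∃ r, q₀ ^ k / 2 = m * (2 * r + 1) := by
    obtain ⟨j, rfl⟩ := hk
    clear hs hqk
    have key : ∀ i, ∃ s, q₀ ^ i = 2 * m * s + 1 ∧ (Odd i → Odd s) ∧ (Even i → Even s) := by
      intro i
      induction i with
      | zero => exact ⟨0, by simp, by simp, by simp⟩
      | succ i ih =>
        obtain ⟨s, h, ho, he⟩ := ih
        refine ⟨s * q₀ + 1, ?_, fun h' => ?_, fun h' => ?_⟩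
        · rw [pow_succ, h, hm]; ring
        · have : Even i := by rwa [Nat.odd_add_one, Nat.not_odd_iff_even] at h'
          exact Even.add_one ((he this).mul_right _)
        · have : Odd i := by rwa [Nat.even_add_one, Nat.not_even_iff_odd] at h'
          exact ((ho this).mul (odd_q0 hF₀)).add_one
    obtain ⟨s, h, ho, -⟩ := key (2 * j + 1)
    obtain ⟨r, rfl⟩ := ho ⟨j, rfl⟩
    exact ⟨r, by rw [h, mul_assoc]; omega⟩
  rw [hr] at hs
  have h3 : a ^ (m * (2 * r + 1)) = 1 := Subtype.ext (by simpa using hs)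
  rw [show m * (2 * r + 1) = (q₀ - 1) * r + m by rw [hm, Nat.add_sub_cancel]; ring, pow_add, pow_mul,
    h1, one_pow, one_mul] at h3
  rwa [show q₀ / 2 = m by omega]

theorem forward (hn : 2 ≤ n) {q : ℕ} (hq : Fintype.card F = q) (hF₀ : Nat.card ↥F₀ = q₀)
    (hk : k.Prime) (hqk : q = q₀ ^ k) (h : Odd n ∨ (Even n ∧ 2 < k))
    (x : Matrix.SpecialLinearGroup (Fin n) F) (z : F)
    (hz : ((x ^ 3 : Matrix.SpecialLinearGroup (Fin n) F) : Matrix (Fin n) (Fin n) F) =
      z • (1 : Matrix (Fin n) (Fin n) F))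
    (hns : ∀ z : F, (x : Matrix (Fin n) (Fin n) F) ≠ z • (1 : Matrix (Fin n) (Fin n) F)) :
    ∃ P : Matrix.SpecialLinearGroup (Fin n) F, P⁻¹ * x * P ∈ (Cfsg.Geo.subfieldSubgroup F₀ 1).comap
        (Matrix.SpecialLinearGroup.toGL : Matrix.SpecialLinearGroup (Fin n) F →* GL (Fin n) F) := by
  classical
  haveI : Nonempty (Fin n) := ⟨⟨0, by omega⟩⟩
  haveI : Fact (Nat.Prime 3) := ⟨Nat.prime_three⟩
  haveI : CharP (Matrix (Fin n) (Fin n) F) 3 := inferInstance
  obtain ⟨c, hc⟩ := (cube_bij F).2 z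
  simp only at hc
  have hx3 : (x : Matrix (Fin n) (Fin n) F) ^ 3 = z • (1 : Matrix (Fin n) (Fin n) F) := by
    rw [← hz, Matrix.SpecialLinearGroup.coe_pow]
  have hc0 : c ≠ 0 := by
    intro e
    have := congrArg Matrix.det hx3
    rw [← hc, e] at this
    simp [Matrix.det_pow] at this
  set X : Matrix (Fin n) (Fin n) F := (x : Matrix (Fin n) (Fin n) F) with hX
  set N : Matrix (Fin n) (Fin n) F := c⁻¹ • X - 1 with hN
  have hN3 : N ^ 3 = 0 := by
    rw [hN, sub_pow_char_of_commute 3 (Commute.one_right _), one_pow, smul_pow, hx3, smul_smul,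
      ← hc, ← mul_pow, inv_mul_cancel₀ hc0, one_pow, one_smul, sub_self]
  have hXN : X = c • (1 + N) := by
    rw [hN, add_sub_cancel, smul_smul, mul_inv_cancel₀ hc0, one_smul]
  obtain ⟨t, d, e, g, hg⟩ := JordanType.exists_type N ⟨3, hN3⟩
  set S := Matrix.reindex e e (JordanType.sh d F 1) with hS
  have hU : ∀ u : (Matrix (Fin n) (Fin n) F)ˣ, IsUnit (u : Matrix (Fin n) (Fin n) F).det :=
    fun u => (Matrix.isUnit_iff_isUnit_det _).1 u.isUnit
  have hd3 : ∀ a, d a ≤ 3 := by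
    intro a
    have h3 : SemiconjBy (g : Matrix (Fin n) (Fin n) F) (S ^ 3) 0 := by
      rw [← hN3]; exact SemiconjBy.pow_right hg 3
    have h4 : S ^ 3 = 0 := by
      have h3' : (g : Matrix (Fin n) (Fin n) F) * S ^ 3 = 0 := h3.eq.trans (zero_mul _)
      calc S ^ 3 = (↑g⁻¹ : Matrix (Fin n) (Fin n) F) * (↑g * S ^ 3) := by
            rw [← Matrix.mul_assoc, Units.inv_mul, Matrix.one_mul]
        _ = 0 := by rw [h3', Matrix.mul_zero]
    have h5 := congrArg Matrix.rank h4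
    rw [hS, shape_pow, Matrix.rank_reindex, JordanType.rank_sh, Matrix.rank_zero] at h5
    have := Finset.sum_eq_zero_iff.1 h5 a (Finset.mem_univ _)
    omega
  have hsum : ∑ a, d a = n := by
    have := Fintype.card_congr e
    simpa [Fintype.card_sigma] using this
  have hN0 : ∃ a, 2 ≤ d a := by
    by_contra hcon
    push_neg at hcon
    have h4 : S = 0 := by
      ext i j
      simp only [hS, reindex_apply, submatrix_apply, JordanType.sh, of_apply, Matrix.zero_apply]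
      rw [if_neg]
      rintro ⟨-, h'⟩
      have := (e.symm i).2.2
      have := hcon (e.symm i).1
      omega
    have hN' : N = 0 := by
      have h3' : N * (g : Matrix (Fin n) (Fin n) F) = 0 := by rw [← hg.eq, h4, Matrix.mul_zero]
      calc N = N * (↑g : Matrix (Fin n) (Fin n) F) * ↑g⁻¹ := by
            rw [Matrix.mul_assoc, Units.mul_inv, Matrix.mul_one]
        _ = 0 := by rw [h3', Matrix.zero_mul]
    exact hns c (hXN.trans (by rw [hN', add_zero]))
  obtain ⟨G, hG⟩ : ∃ G : GL (Fin n) F, G = g := ⟨g, rfl⟩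
  -- every determinant is available
  have hdet : ∀ τ : Fˣ, ∃ (l : Fin t → Fˣ) (a : F₀), a ≠ 0 ∧
      ((∏ b, l b ^ d b : Fˣ) : F) * (a : F) = τ := by
    intro τ
    have one : ∀ (b : Fin t) (s : Fˣ), ∏ b', (Function.update (fun _ => (1 : Fˣ)) b s) b' ^ d b' = s ^ d b := by
      intro b s
      rw [Finset.prod_eq_single b (fun b' _ hb => by simp [hb]) (by simp)]
      simp
    by_cases h1 : ∃ b, d b = 1
    · obtain ⟨b, hb⟩ := h1
      exact ⟨Function.update (fun _ => 1) b τ, 1, one_ne_zero, by rw [one, hb]; simp⟩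
    by_cases h3 : ∃ b, d b = 3
    · obtain ⟨b, hb⟩ := h3
      obtain ⟨s, hs⟩ := cube_surj τ
      exact ⟨Function.update (fun _ => 1) b s, 1, one_ne_zero, by rw [one, hb, hs]; simp⟩
    push_neg at h1 h3
    have heven : Even n := by
      rw [← hsum]
      refine even_iff_two_dvd.2 (Finset.dvd_sum fun b _ => ?_)
      have := hd3 b
      have := h1 b
      have := h3 b
      omega
    have hk2 : 2 < k := by
      rcases h with h | h
      · exact absurd heven (Nat.not_even_iff_odd.2 h)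
      · exact h.2
    have hko : Odd k := hk.odd_of_ne_two (by omega)
    obtain ⟨a, ha0, ha⟩ := exists_nonsq_sub hq hF₀ hqk hko
    obtain ⟨b, hb⟩ := hN0
    have hb2 : d b = 2 := by have := hd3 b; have := h3 b; omega
    have haF : (a : F) ≠ 0 := by simpa using ha0
    by_cases ht : IsSquare (τ : F)
    · obtain ⟨r, hr⟩ := ht
      have hr0 : r ≠ 0 := fun e0 => τ.ne_zero (by rw [hr, e0, mul_zero])
      exact ⟨Function.update (fun _ => 1) b (Units.mk0 r hr0), 1, one_ne_zero, by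
        rw [one, hb2]; simp [hr, sq]⟩
    · have h4 : IsSquare ((τ : F) / a) := by
        have e1 := FiniteField.isSquare_iff ringChar_ne (div_ne_zero τ.ne_zero haF)
        rw [e1, div_pow]
        have e2 := FiniteField.pow_dichotomy ringChar_ne τ.ne_zero
        have e3 := FiniteField.pow_dichotomy ringChar_ne haF
        rw [FiniteField.isSquare_iff ringChar_ne haF] at ha
        rw [FiniteField.isSquare_iff ringChar_ne τ.ne_zero] at ht
        rw [e2.resolve_left ht, e3.resolve_left ha]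
        simp
      obtain ⟨r, hr⟩ := h4
      have hr0 : r ≠ 0 := fun e0 => div_ne_zero τ.ne_zero haF (by rw [hr, e0, mul_zero])
      exact ⟨Function.update (fun _ => 1) b (Units.mk0 r hr0), a, ha0, by
        rw [one, hb2]; simp [sq, ← hr, haF]⟩
  obtain ⟨l, a, ha0, hla⟩ := hdet ((Matrix.GeneralLinearGroup.det G)⁻¹)
  obtain ⟨Z, hZc, hZd⟩ := blockScal d e l
  set A : GL (Fin n) F₀ := dg (Function.update (fun _ => (1 : F₀ˣ)) ⟨0, by omega⟩ (Units.mk0 a ha0)) with hA
  have hAdet : (up F₀ A : Matrix (Fin n) (Fin n) F).det = (a : F) := by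
    rw [up_val]
    erw [← RingHom.map_det]
    rw [hA, det_dg, Finset.prod_update_of_mem (Finset.mem_univ _)]
    simp
  set W : GL (Fin n) F := G * Z * up F₀ A with hW
  have hWdet : (W : Matrix (Fin n) (Fin n) F).det = 1 := by
    rw [hW, Units.val_mul, Units.val_mul, Matrix.det_mul, Matrix.det_mul, hZd, hAdet, mul_assoc, hla]
    rw [← Matrix.GeneralLinearGroup.val_det_apply]
    simp [mul_inv_cancel₀ (hU g).ne_zero, hG]
  refine ⟨⟨W, hWdet⟩, (mem_H_iff F₀ _).2 ?_⟩
  obtain ⟨U₀, hU₀⟩ : ∃ U₀ : GL (Fin n) F₀, (U₀ : Matrix (Fin n) (Fin n) F₀) =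
      1 + Matrix.reindex e e (JordanType.sh d F₀ 1) := by
    have hnil : IsNilpotent (Matrix.reindex e e (JordanType.sh d F₀ 1)) := ⟨3, by
      rw [shape_pow]
      ext i j
      simp only [reindex_apply, submatrix_apply, JordanType.sh, of_apply, Matrix.zero_apply]
      rw [if_neg]
      rintro ⟨-, h'⟩
      have := (e.symm i).2.2
      have := hd3 (e.symm i).1
      omega⟩
    exact ⟨hnil.isUnit_one_add.unit, rfl⟩
  refine ⟨A⁻¹ * U₀ * A, Units.mk0 c hc0, ?_⟩
  set Pm : Matrix.SpecialLinearGroup (Fin n) F := ⟨(W : Matrix (Fin n) (Fin n) F), hWdet⟩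
  have hP : (Pm : Matrix (Fin n) (Fin n) F) * ((Units.mk0 c hc0 : F) •
      (up F₀ (A⁻¹ * U₀ * A) : Matrix (Fin n) (Fin n) F)) = X * (Pm : Matrix (Fin n) (Fin n) F) := by
    show (W : Matrix (Fin n) (Fin n) F) * _ = X * (W : Matrix (Fin n) (Fin n) F)
    have hu : (up F₀ U₀ : Matrix (Fin n) (Fin n) F) = 1 + S := by
      rw [up_val, hU₀, hS, ← map_shape F₀ d e]
      exact map_add (RingHom.mapMatrix (F₀.subtype : F₀ →+* F)) 1 _ |>.trans (by rw [map_one]; rfl)
    have hsemi : ((G * Z : GL (Fin n) F) : Matrix (Fin n) (Fin n) F) * (1 + S) =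
        (1 + N) * ((G * Z : GL (Fin n) F) : Matrix (Fin n) (Fin n) F) := by
      rw [hG, Units.val_mul, Matrix.mul_add, Matrix.add_mul, Matrix.mul_one, Matrix.one_mul,
        Matrix.mul_assoc, hZc, ← Matrix.mul_assoc, hg.eq, Matrix.mul_assoc]
    rw [Matrix.mul_smul, hXN, Matrix.smul_mul, Units.val_mk0]
    congr 1
    rw [← Units.val_mul]
    have e1 : W * up F₀ (A⁻¹ * U₀ * A) = G * Z * up F₀ U₀ * up F₀ A := by
      rw [hW]; simp only [up, map_mul, map_inv]; group
    rw [e1, Units.val_mul, Units.val_mul, hu, hsemi, hW, Matrix.mul_assoc, ← Units.val_mul]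
  calc ((Pm⁻¹ * x * Pm : Matrix.SpecialLinearGroup (Fin n) F) : Matrix (Fin n) (Fin n) F)
      = (Pm⁻¹ : Matrix.SpecialLinearGroup (Fin n) F).1 * (X * Pm.1) := by
        rw [Matrix.SpecialLinearGroup.coe_mul, Matrix.SpecialLinearGroup.coe_mul, Matrix.mul_assoc]
    _ = _ := by
        rw [← hP, ← Matrix.mul_assoc, ← Matrix.SpecialLinearGroup.coe_mul, inv_mul_cancel,
          Matrix.SpecialLinearGroup.coe_one, Matrix.one_mul]

/-- Split the index type of two-row blocks. -/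
def twoSplit (m : ℕ) : JordanType.Ix (fun _ : Fin m => 2) ≃ Fin m ⊕ Fin m where
  toFun p := if p.2 = 0 then Sum.inl p.1 else Sum.inr p.1
  invFun := Sum.elim (fun a => ⟨a, 0⟩) (fun a => ⟨a, 1⟩)
  left_inv := by rintro ⟨a, i⟩; fin_cases i <;> simp
  right_inv := by rintro (a | a) <;> simp

theorem det_comm_square {K : Type*} [Field K] (m : ℕ) (e : JordanType.Ix (fun _ : Fin m => 2) ≃ Fin n)
    (Z : Matrix (Fin n) (Fin n) K)
    (hZ : Z * Matrix.reindex e e (JordanType.sh (fun _ : Fin m => 2) K 1) =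
      Matrix.reindex e e (JordanType.sh (fun _ : Fin m => 2) K 1) * Z) : IsSquare Z.det := by
  set φ := (e.symm.trans (twoSplit m)) with hφ
  set B := Matrix.reindex φ φ Z with hB
  have hJ : Matrix.reindex φ φ (Matrix.reindex e e (JordanType.sh (fun _ : Fin m => 2) K 1)) =
      Matrix.fromBlocks 0 0 1 0 := by
    ext (a | a) (b | b) <;>
      simp [hφ, twoSplit, JordanType.sh, Matrix.one_apply]
  have hc : B * Matrix.fromBlocks 0 0 1 0 = Matrix.fromBlocks 0 0 1 0 * B := by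
    rw [← hJ, hB, ← Matrix.coe_reindexAlgEquiv K K, ← map_mul, ← map_mul]
    exact congrArg _ hZ
  rw [← Matrix.fromBlocks_toBlocks B, Matrix.fromBlocks_multiply, Matrix.fromBlocks_multiply] at hc
  obtain ⟨h1, -, h3, -⟩ := Matrix.fromBlocks_inj.1 hc
  simp only [Matrix.mul_one, Matrix.one_mul, Matrix.mul_zero, Matrix.zero_mul, zero_add, add_zero] at h1 h3
  refine ⟨B.toBlocks₁₁.det, ?_⟩
  rw [← Matrix.det_reindex_self φ Z, ← hB]
  conv_lhs => rw [← Matrix.fromBlocks_toBlocks B]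
  rw [h1, Matrix.det_fromBlocks_zero₁₂, h3]

theorem backward {q : ℕ} (hq : Fintype.card F = q) (hF₀ : Nat.card ↥F₀ = q₀)
    (hqk : q = q₀ ^ 2) (m : ℕ) (hm : 1 ≤ m) (hnm : n = m * 2)
    (h : ∀ x : Matrix.SpecialLinearGroup (Fin n) F,
      (∃ z : F, ((x ^ 3 : Matrix.SpecialLinearGroup (Fin n) F) : Matrix (Fin n) (Fin n) F) = z • (1 : Matrix (Fin n) (Fin n) F)) →
      (∀ z : F, (x : Matrix (Fin n) (Fin n) F) ≠ z • (1 : Matrix (Fin n) (Fin n) F)) →
      ∃ P : Matrix.SpecialLinearGroup (Fin n) F, P⁻¹ * x * P ∈ (Cfsg.Geo.subfieldSubgroup F₀ 1).comap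
        (Matrix.SpecialLinearGroup.toGL : Matrix.SpecialLinearGroup (Fin n) F →* GL (Fin n) F)) :
    False := by
  classical
  haveI : Nonempty (Fin n) := ⟨⟨0, by omega⟩⟩
  haveI : Fact (Nat.Prime 3) := ⟨Nat.prime_three⟩
  haveI : CharP (Matrix (Fin n) (Fin n) F) 3 := inferInstance
  haveI : CharP F₀ 3 := inferInstance
  haveI : Fintype F₀ := Fintype.ofFinite _
  set d₂ : Fin m → ℕ := fun _ => 2 with hd₂
  let e₂ : JordanType.Ix d₂ ≃ Fin n := Fintype.equivFinOfCardEq (by simp [hd₂, hnm])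
  set J := Matrix.reindex e₂ e₂ (JordanType.sh d₂ F 1) with hJ
  obtain ⟨ν, hν⟩ := FiniteField.exists_nonsquare (F := F) ringChar_ne
  have hν0 : ν ≠ 0 := fun e => hν ⟨0, by simp [e]⟩
  set D : GL (Fin n) F := dg (Function.update (fun _ => (1 : Fˣ)) ⟨0, by omega⟩ (Units.mk0 ν hν0)) with hD
  have hDdet : (D : Matrix (Fin n) (Fin n) F).det = ν := by
    rw [hD, det_dg, Finset.prod_update_of_mem (Finset.mem_univ _)]; simp
  have hJ2 : J ^ 2 = 0 := by
    rw [hJ, shape_pow]
    ext i j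
    simp only [reindex_apply, submatrix_apply, JordanType.sh, of_apply, Matrix.zero_apply]
    rw [if_neg]
    rintro ⟨-, h'⟩
    have := (e₂.symm i).2.2
    simp only [hd₂] at this
    omega
  have hJ3 : (1 + J) ^ 3 = 1 := by
    rw [add_pow_char_of_commute 3 (Commute.one_left J), one_pow, pow_succ, hJ2, zero_mul, add_zero]
  obtain ⟨UJ, hUJ⟩ : ∃ UJ : GL (Fin n) F, (UJ : Matrix (Fin n) (Fin n) F) = 1 + J :=
    ⟨(IsNilpotent.isUnit_one_add ⟨2, hJ2⟩).unit, rfl⟩
  have hJdet : (UJ : Matrix (Fin n) (Fin n) F).det = 1 := by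
    have h1 : (UJ : Matrix (Fin n) (Fin n) F).det ^ 3 = 1 := by
      rw [← Matrix.det_pow, hUJ, hJ3, Matrix.det_one]
    exact (cube_bij F).1 (by simpa using h1)
  set Xg : GL (Fin n) F := D * UJ * D⁻¹ with hXg
  have hXdet : (Xg : Matrix (Fin n) (Fin n) F).det = 1 := by
    rw [hXg, ← Matrix.GeneralLinearGroup.val_det_apply, map_mul, map_mul, map_inv, mul_comm,
      inv_mul_cancel_left, Matrix.GeneralLinearGroup.val_det_apply, hJdet]
  have hX3 : Xg ^ 3 = 1 := by
    rw [hXg, conj_pow, show UJ ^ 3 = 1 from Units.ext (by rw [Units.val_pow_eq_pow_val, hUJ, hJ3, Units.val_one])]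
    group
  have hrkJ : ∀ k, (J ^ k).rank = JordanType.rk d₂ k := fun k => by
    rw [hJ, shape_pow, Matrix.rank_reindex, JordanType.rank_sh]
  obtain ⟨P, hP⟩ := h ⟨(Xg : Matrix (Fin n) (Fin n) F), hXdet⟩ ⟨1, by
      show (Xg : Matrix (Fin n) (Fin n) F) ^ 3 = (1 : F) • 1
      rw [one_smul, ← Units.val_pow_eq_pow_val, hX3, Units.val_one]⟩ (by
      intro z hz
      have h1 : (D : Matrix (Fin n) (Fin n) F) * (1 + J) = (D : Matrix (Fin n) (Fin n) F) * (z • 1) := by
        have : Xg * D = D * UJ := by rw [hXg]; group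
        have := congrArg (fun u : GL (Fin n) F => (u : Matrix (Fin n) (Fin n) F)) this
        simp only [Units.val_mul, hUJ] at this
        rw [← this]
        rw [show (Xg : Matrix (Fin n) (Fin n) F) = z • 1 from hz]
        simp
      have h2 : (1 + J) = z • (1 : Matrix (Fin n) (Fin n) F) := D.isUnit.mul_left_cancel h1
      have h3 := congrFun (congrFun h2 (e₂ ⟨⟨0, hm⟩, ⟨1, Nat.lt_succ_self 1⟩⟩))
        (e₂ ⟨⟨0, hm⟩, ⟨0, Nat.succ_pos 1⟩⟩)
      have hne : e₂ ⟨⟨0, hm⟩, ⟨1, Nat.lt_succ_self 1⟩⟩ ≠ e₂ ⟨⟨0, hm⟩, ⟨0, Nat.succ_pos 1⟩⟩ :=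
        fun he => by
          have := e₂.injective he
          simp [Fin.ext_iff] at this
      rw [Matrix.add_apply, Matrix.smul_apply, Matrix.one_apply_ne hne, smul_zero, zero_add, hJ,
        Matrix.reindex_apply, Matrix.submatrix_apply, Equiv.symm_apply_apply,
        Equiv.symm_apply_apply, JordanType.sh, Matrix.of_apply, if_pos ⟨rfl, rfl⟩] at h3
      exact one_ne_zero h3)
  obtain ⟨A, c, hA⟩ := (mem_H_iff F₀ _).1 hP
  obtain ⟨Q, hQ⟩ : ∃ Q : GL (Fin n) F, Q = Matrix.SpecialLinearGroup.toGL P := ⟨_, rfl⟩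
  have hQdet : (Q : Matrix (Fin n) (Fin n) F).det = 1 := by rw [hQ]; exact P.2
  have hA' : ((Q⁻¹ * Xg * Q : GL (Fin n) F) : Matrix (Fin n) (Fin n) F) =
      (c : F) • (up F₀ A : Matrix (Fin n) (Fin n) F) := by
    rw [← hA, hQ, Units.val_mul, Units.val_mul, ← map_inv]
    rfl
  -- normalise the scalar
  have hA3 : (c : F) ^ 3 • (up F₀ (A ^ 3) : Matrix (Fin n) (Fin n) F) = 1 := by
    have h1 : (Q⁻¹ * Xg * Q) ^ 3 = 1 := by
      have := conj_pow (a := Q⁻¹) (b := Xg) (i := 3)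
      rw [inv_inv] at this
      rw [this, hX3]; group
    have := congrArg (fun u : GL (Fin n) F => (u : Matrix (Fin n) (Fin n) F)) h1
    simp only [Units.val_pow_eq_pow_val, hA', smul_pow, Units.val_one] at this
    rw [← this, up, map_pow, Units.val_pow_eq_pow_val]
  obtain ⟨i₀⟩ := (inferInstance : Nonempty (Fin n))
  have hentry := congrFun (congrFun hA3 i₀) i₀
  rw [Matrix.smul_apply, Matrix.one_apply_eq, up_val, Matrix.map_apply, smul_eq_mul] at hentry
  set u : F₀ := ((A ^ 3 : GL (Fin n) F₀) : Matrix (Fin n) (Fin n) F₀) i₀ i₀ with hu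
  obtain ⟨v, hv⟩ := (cube_bij F₀).2 u
  simp only at hv
  have hcv : (c : F) * (v : F) = 1 := by
    refine (cube_bij F).1 ?_
    simp only [mul_pow, one_pow]
    rw [← SubmonoidClass.coe_pow, hv]
    exact hentry
  have hv0 : v ≠ 0 := fun e => by simp [e] at hcv
  set A₁ : Matrix (Fin n) (Fin n) F₀ := v⁻¹ • (A : Matrix (Fin n) (Fin n) F₀) with hA₁
  set ι' := RingHom.mapMatrix (m := Fin n) (F₀.subtype : F₀ →+* F) with hι
  have hA₁m : ι' A₁ = ((Q⁻¹ * Xg * Q : GL (Fin n) F) : Matrix (Fin n) (Fin n) F) := by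
    rw [hA']
    ext i j
    simp only [hι, RingHom.mapMatrix_apply, Matrix.map_apply, hA₁, Matrix.smul_apply, smul_eq_mul,
      up_val, map_mul, map_inv₀]
    congr 1
    exact (eq_inv_of_mul_eq_one_left (by simpa using hcv)).symm
  set R : GL (Fin n) F := Q⁻¹ * D with hR
  have hRJ : (R : Matrix (Fin n) (Fin n) F) * J = ι' (A₁ - 1) * (R : Matrix (Fin n) (Fin n) F) := by
    have h1 : R * UJ = (Q⁻¹ * Xg * Q) * R := by rw [hR, hXg]; group
    have := congrArg (fun u : GL (Fin n) F => (u : Matrix (Fin n) (Fin n) F)) h1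
    simp only [Units.val_mul (a := R), Units.val_mul (b := R), hUJ] at this
    rw [← hA₁m, Matrix.mul_add, Matrix.mul_one] at this
    rw [map_sub, map_one, Matrix.sub_mul, Matrix.one_mul, ← this, add_sub_cancel_left]
  have hnil : IsNilpotent (A₁ - 1) := by
    refine ⟨2, ?_⟩
    have h1 : ι' ((A₁ - 1) ^ 2) * (R : Matrix (Fin n) (Fin n) F) = 0 := by
      have := SemiconjBy.pow_right (show SemiconjBy (R : Matrix (Fin n) (Fin n) F) J (ι' (A₁ - 1)) from hRJ) 2
      rw [map_pow, ← this.eq, hJ2, Matrix.mul_zero]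
    have h2 : ι' ((A₁ - 1) ^ 2) = 0 := R.isUnit.mul_right_cancel (h1.trans (Matrix.zero_mul _).symm)
    ext i j
    have := congrFun (congrFun h2 i) j
    simpa [hι] using this
  obtain ⟨t, d, e, B, hB⟩ := JordanType.exists_type (A₁ - 1) hnil
  set S := Matrix.reindex e e (JordanType.sh d F 1) with hS
  set BF : GL (Fin n) F := up F₀ B with hBF
  have hBS : (BF : Matrix (Fin n) (Fin n) F) * S = ι' (A₁ - 1) * (BF : Matrix (Fin n) (Fin n) F) := by
    have := congrArg ι' hB.eq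
    rw [map_mul, map_mul] at this
    rw [hS, ← map_shape F₀ d e]
    exact this
  set T : GL (Fin n) F := BF⁻¹ * R with hT
  have hTJ : (T : Matrix (Fin n) (Fin n) F) * J = S * (T : Matrix (Fin n) (Fin n) F) := by
    rw [hT, Units.val_mul, Matrix.mul_assoc, hRJ, ← Matrix.mul_assoc S]
    rw [← Matrix.mul_assoc (↑BF⁻¹ : Matrix (Fin n) (Fin n) F)]
    congr 1
    calc (↑BF⁻¹ : Matrix (Fin n) (Fin n) F) * ι' (A₁ - 1)
        = ↑BF⁻¹ * (ι' (A₁ - 1) * ↑BF) * ↑BF⁻¹ := by
          rw [Matrix.mul_assoc, Matrix.mul_assoc, Units.mul_inv, Matrix.mul_one]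
      _ = S * ↑BF⁻¹ := by rw [← hBS, ← Matrix.mul_assoc, Units.inv_mul, Matrix.one_mul]
  have hrk : ∀ k, JordanType.rk d k = JordanType.rk d₂ k := by
    intro k
    have h1 := SemiconjBy.pow_right (show SemiconjBy (T : Matrix (Fin n) (Fin n) F) J S from hTJ) k
    have hU : IsUnit (T : Matrix (Fin n) (Fin n) F).det :=
      (Matrix.isUnit_iff_isUnit_det _).1 T.isUnit
    rw [← hrkJ, ← Matrix.rank_mul_eq_right_of_isUnit_det (T : Matrix (Fin n) (Fin n) F) _ hU, h1.eq,
      Matrix.rank_mul_eq_left_of_isUnit_det _ _ hU, hS, shape_pow, Matrix.rank_reindex, JordanType.rank_sh]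
  obtain ⟨f, hf⟩ := JordanType.exists_equiv (F := F₀) d₂ d
    (fun j hj => (JordanType.count_eq_of_rk d d₂ hrk j hj).symm)
  obtain ⟨π, hπ⟩ : IsConj (Matrix.reindex e₂ e₂ (JordanType.sh d₂ F₀ 1))
      (Matrix.reindex e e (JordanType.sh d F₀ 1)) := by
    have := JordanType.isConj_reindex ((e₂.symm.trans f).trans e)
      (Matrix.reindex e₂ e₂ (JordanType.sh d₂ F₀ 1))
    convert! this using 1
    rw [← hf]
    ext i j
    simp
  set πF : GL (Fin n) F := up F₀ π with hπF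
  have hπJ : (πF : Matrix (Fin n) (Fin n) F) * J = S * (πF : Matrix (Fin n) (Fin n) F) := by
    have := congrArg ι' hπ.eq
    rw [map_mul, map_mul] at this
    rw [hS, hJ, ← map_shape F₀ d e, ← map_shape F₀ d₂ e₂]
    exact this
  set Z : GL (Fin n) F := T⁻¹ * πF with hZ
  have hZJ : (Z : Matrix (Fin n) (Fin n) F) * J = J * (Z : Matrix (Fin n) (Fin n) F) := by
    rw [hZ, Units.val_mul, Matrix.mul_assoc, hπJ, ← Matrix.mul_assoc, ← Matrix.mul_assoc]
    congr 1
    calc (↑T⁻¹ : Matrix (Fin n) (Fin n) F) * S = ↑T⁻¹ * (S * ↑T) * ↑T⁻¹ := by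
          rw [Matrix.mul_assoc, Matrix.mul_assoc, Units.mul_inv, Matrix.mul_one]
      _ = J * ↑T⁻¹ := by rw [← hTJ, ← Matrix.mul_assoc, Units.inv_mul, Matrix.one_mul]
  have hsq := det_comm_square m e₂ _ hZJ
  have hdetR : (R : Matrix (Fin n) (Fin n) F).det = ν := by
    have h1 : Q * R = D := by rw [hR, mul_inv_cancel_left]
    have := congrArg (fun u : GL (Fin n) F => (u : Matrix (Fin n) (Fin n) F).det) h1
    simpa [hQdet, hDdet] using this
  have hup : ∀ E : GL (Fin n) F₀, IsSquare (up F₀ E : Matrix (Fin n) (Fin n) F).det := fun E => by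
    rw [up_val]
    erw [← RingHom.map_det]
    exact sq_of_sub hq hF₀ hqk _
  have hRZ : R * Z = BF * πF := by rw [hZ, hT]; group
  have := congrArg (fun u : GL (Fin n) F => (u : Matrix (Fin n) (Fin n) F).det) hRZ
  simp only [Units.val_mul, Matrix.det_mul, hdetR] at this
  have hZ0 : (Z : Matrix (Fin n) (Fin n) F).det ≠ 0 :=
    ((Matrix.isUnit_iff_isUnit_det _).1 Z.isUnit).ne_zero
  refine hν ?_
  rw [eq_div_of_mul_eq hZ0 this]
  exact ((hup B).mul (hup π)).div hsq

end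

/-- Elements of order 3 of PSL_n(q) in characteristic 3 and subfield subgroups. Here `T = PSL_n(F)` for a field `F` with `q` elements, `q` a power of 3 (`n ≥ 2`, `(n, q) ≠ (2, 2), (2, 3)`), `F₀` is the subfield with `q₀` elements where `q = q₀^k` for a prime `k`, and `H` is the subgroup of matrices of determinant 1 lying in the subfield group of `F₀` (invertible matrices over `F₀` times scalars) — a maximal subgroup of type GL_n(q₀) (the case `n = 2`, `q₀ = 2` is excluded); Ω is the set of `T`-conjugates of `H` (cosets of `H`), so an element of `T` of prime order `r` (a matrix `x` of determinant 1 with `x^r` scalar, `x` not scalar) fixes a point of Ω when some conjugate of `x` by a matrix of determinant 1 lies in `H`. Suppose 3 divides the index of `H`. Then every element of `T` of order 3 is conjugate in `T` into `H` if and only if `n` is odd, or `n` is even and `k > 2`. -/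
theorem result {F : Type*} [Field F] [Fintype F] [CharP F 3] {q : ℕ} (hq : Fintype.card F = q)
    (n : ℕ) (hn : 2 ≤ n) (hT : (n, q) ≠ (2, 3))
    (F₀ : Subfield F) (k q₀ : ℕ) (hk : k.Prime) (hF₀ : Nat.card ↥F₀ = q₀) (hqk : q = q₀ ^ k) (hC5 : ¬ (n = 2 ∧ q₀ = 2)) (hΩ : 3 ∣ ((Cfsg.Geo.subfieldSubgroup F₀ 1).comap (Matrix.SpecialLinearGroup.toGL : Matrix.SpecialLinearGroup (Fin n) F →* GL (Fin n) F)).index) :
    (∀ x : Matrix.SpecialLinearGroup (Fin n) F,
      (∃ z : F, ((x ^ 3 : Matrix.SpecialLinearGroup (Fin n) F) : Matrix (Fin n) (Fin n) F) = z • (1 : Matrix (Fin n) (Fin n) F)) →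
      (∀ z : F, (x : Matrix (Fin n) (Fin n) F) ≠ z • (1 : Matrix (Fin n) (Fin n) F)) →
      ∃ P : Matrix.SpecialLinearGroup (Fin n) F, P⁻¹ * x * P ∈ ((Cfsg.Geo.subfieldSubgroup F₀ 1).comap (Matrix.SpecialLinearGroup.toGL : Matrix.SpecialLinearGroup (Fin n) F →* GL (Fin n) F))) ↔
    (Odd n ∨ (Even n ∧ 2 < k)) := by
  constructor
  · intro h
    by_contra hcon
    push_neg at hcon
    obtain ⟨hne, hk2⟩ := hcon
    have he : Even n := Nat.not_odd_iff_even.1 hne
    have hk2' : k = 2 := le_antisymm (hk2 he) hk.two_le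
    obtain ⟨m, hm⟩ := he
    subst hk2'
    exact backward hq hF₀ hqk m (by omega) (by omega) h
  · rintro h x ⟨z, hz⟩ hns
    exact forward hn hq hF₀ hk hqk h x z hz hns

end Cfsg.Agent.S5966
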