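import Cfsg.Statements.S5967
import Cfsg.Agent.Lib.SLInvolutions68
import Cfsg.Agent.Lib.SymplecticAlt

set_option autoImplicit false
open scoped MatrixGroups
open Cfsg Polynomial Matrix

namespace Cfsg.Agent.S5967

open Cfsg.Agent.SLInvolutions68

universe u

variable {F : Type u} [Field F] {n d : ℕ}

/-- A form given as a function, as a bilinear map. -/
def bmap {f : (Fin n → F) → (Fin n → F) → F} (hf : Cfsg.Geo.IsBilinearForm f) :
    (Fin n → F) →ₗ[F] (Fin n → F) →ₗ[F] F :=
  LinearMap.mk₂ F f hf.add_left (fun c x v => by rw [hf.smul_left, smul_eq_mul]) hf.add_right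
    (fun c v x => by rw [hf.smul_right, smul_eq_mul])

theorem exists_std {f : (Fin n → F) → (Fin n → F) → F} (hf : Cfsg.Geo.IsSymplecticForm f) :
    ∃ (d : ℕ) (e : Module.Basis (Fin d ⊕ Fin d) F (Fin n → F)), n = 2 * d ∧
      ∀ s t, f (e s) (e t) = Matrix.J (Fin d) F s t := by
  obtain ⟨k, hk, e, -, he⟩ := SymplecticAlt.exists_symp_basis (bmap hf.bilinear) hf.alternating _ ⊤ rfl
    (fun v _ h => by
      by_contra hv
      obtain ⟨-, x, hx⟩ := hf.nondegenerate v hv
      exact hx (h x Submodule.mem_top))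
  rw [finrank_top, Module.finrank_fin_fun] at hk
  have hJ : ∀ s t, f (e s) (e t) = Matrix.J (Fin k) F s t := by
    intro s t
    have h := he s t
    rw [Cfsg.sympForm, Matrix.mulVec_single_one, single_dotProduct, one_mul] at h
    exact h
  have hli : LinearIndependent F e := by
    rw [Fintype.linearIndependent_iff]
    intro a ha s
    have h : Matrix.vecMul a (Matrix.J (Fin k) F) = 0 := by
      funext t
      have h := congrArg (fun v => bmap hf.bilinear v (e t)) ha
      simp only [map_sum, map_smul, LinearMap.sum_apply, LinearMap.smul_apply, map_zero,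
        LinearMap.zero_apply, smul_eq_mul] at h
      rw [Pi.zero_apply, ← h]
      show ∑ i, a i * Matrix.J (Fin k) F i t = _
      exact Finset.sum_congr rfl fun i _ => by rw [← hJ i t]; rfl
    by_contra hne
    have h0 : (Matrix.J (Fin k) F).det = 0 :=
      Matrix.exists_vecMul_eq_zero_iff.1 ⟨a, fun h' => hne (congrFun h' s), h⟩
    exact (Matrix.isUnit_det_J (Fin k) F).ne_zero h0
  rcases isEmpty_or_nonempty (Fin k ⊕ Fin k) with hE | hE
  · have hk0 : k = 0 := by
      by_contra h
      exact isEmptyElim (Sum.inl ⟨0, Nat.pos_of_ne_zero h⟩ : Fin k ⊕ Fin k)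
    have hn0 : n = 0 := by omega
    subst hn0
    exact ⟨k, Module.Basis.empty _, hk, fun s => isEmptyElim s⟩
  refine ⟨k, basisOfLinearIndependentOfCardEqFinrank hli (by simp; omega), hk, fun s t => ?_⟩
  rw [coe_basisOfLinearIndependentOfCardEqFinrank]
  exact hJ s t

variable (e : Module.Basis (Fin d ⊕ Fin d) F (Fin n → F))

/-- Matrices in the basis `e`. -/
noncomputable def toStd :
    Matrix (Fin d ⊕ Fin d) (Fin d ⊕ Fin d) F ≃ₐ[F] Matrix (Fin n) (Fin n) F :=
  (Matrix.toLinAlgEquiv e).trans LinearMap.toMatrixAlgEquiv'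

theorem toStd_mulVec (B : Matrix (Fin d ⊕ Fin d) (Fin d ⊕ Fin d) F) (v : Fin n → F) :
    toStd e B *ᵥ v = Matrix.toLin e e B v := by
  show LinearMap.toMatrix' (Matrix.toLin e e B) *ᵥ v = _
  rw [← Matrix.toLin'_apply, Matrix.toLin'_toMatrix']

theorem toStd_charpoly (B : Matrix (Fin d ⊕ Fin d) (Fin d ⊕ Fin d) F) :
    (toStd e B).charpoly = B.charpoly := by
  have h := LinearMap.charpoly_toMatrix (Matrix.toLin e e B) e
  rw [LinearMap.toMatrix_toLin] at h
  rw [h, ← Matrix.charpoly_toLin' (toStd e B)]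
  congr 1
  exact LinearMap.ext fun v => by rw [Matrix.toLin'_apply, toStd_mulVec]

theorem toStd_rank (B : Matrix (Fin d ⊕ Fin d) (Fin d ⊕ Fin d) F) : (toStd e B).rank = B.rank := by
  rw [Matrix.rank_eq_finrank_range_toLin B e e,
    show (toStd e B).rank = Module.finrank F (LinearMap.range (Matrix.toLin' (toStd e B))) from rfl]
  rw [show Matrix.toLin' (toStd e B) = Matrix.toLin e e B from
    LinearMap.ext fun v => by rw [Matrix.toLin'_apply, toStd_mulVec]]

theorem toStd_similitude {f : (Fin n → F) → (Fin n → F) → F} (hf : Cfsg.Geo.IsBilinearForm f)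
    (he : ∀ s t, f (e s) (e t) = Matrix.J (Fin d) F s t) (B : Matrix (Fin d ⊕ Fin d) (Fin d ⊕ Fin d) F) (μ : F)
    (hB : Bᵀ * Matrix.J (Fin d) F * B = μ • Matrix.J (Fin d) F) (u v : Fin n → F) :
    f (toStd e B *ᵥ u) (toStd e B *ᵥ v) = μ * f u v := by
  have h : (bmap hf).compl₁₂ (Matrix.toLin e e B) (Matrix.toLin e e B) = μ • bmap hf := by
    refine LinearMap.ext_basis e e fun s t => ?_
    rw [LinearMap.compl₁₂_apply, Matrix.toLin_self, Matrix.toLin_self, LinearMap.smul_apply,
      LinearMap.smul_apply, show bmap hf (e s) (e t) = Matrix.J (Fin d) F s t from he s t]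
    simp only [map_sum, map_smul, LinearMap.sum_apply, LinearMap.smul_apply, smul_eq_mul]
    have h2 := congrFun (congrFun hB s) t
    simp only [Matrix.mul_apply, Matrix.transpose_apply, Matrix.smul_apply, smul_eq_mul,
      Finset.sum_mul] at h2
    rw [← h2]
    refine Finset.sum_congr rfl fun i _ => ?_
    rw [Finset.mul_sum]
    refine Finset.sum_congr rfl fun j _ => ?_
    rw [show bmap hf (e j) (e i) = Matrix.J (Fin d) F j i from he j i]
    ring
  have := LinearMap.congr_fun (LinearMap.congr_fun h u) v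
  rw [toStd_mulVec, toStd_mulVec]
  exact this

/-- A diagonal involution with a single eigenvalue `-1` is not a similitude in dimension at least three. -/
theorem no_reflection (h2 : (2 : F) ≠ 0) (hn : 3 ≤ n) {g : (Fin n → F) → (Fin n → F) → F}
    (hb : Cfsg.Geo.IsBilinearForm g) (halt : ∀ v, g v v = 0)
    (hnd : ∀ v, v ≠ 0 → ∃ w, g v w ≠ 0) (d : Fin n → F) (i₀ : Fin n) (hd0 : d i₀ = -1)
    (hd1 : ∀ i, i ≠ i₀ → d i = 1) (μ : F)
    (h : ∀ i j, d i * d j * g (Pi.single i 1) (Pi.single j 1) = μ * g (Pi.single i 1) (Pi.single j 1)) :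
    False := by
  classical
  have hsum : ∀ (v w : Fin n → F), (∀ j, g v (Pi.single j 1) = 0) → g v w = 0 := by
    intro v w h
    rw [show g v w = bmap hb v w from rfl, pi_eq_sum_univ' w, map_sum]
    refine Finset.sum_eq_zero fun j _ => ?_
    rw [map_smul, show bmap hb v (Pi.single j 1) = g v (Pi.single j 1) from rfl, h j, smul_zero]
  have rad : ∀ v, v ≠ 0 → ¬ ∀ j, g v (Pi.single j 1) = 0 := fun v hv h' => by
    obtain ⟨w, hw⟩ := hnd v hv
    exact hw (hsum v w h')
  by_cases hμ : μ = 1
  · refine rad (Pi.single i₀ 1) (by simp) fun j => ?_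
    rcases eq_or_ne j i₀ with rfl | hj
    · exact halt _
    · have := h i₀ j
      rw [hd0, hd1 j hj, hμ] at this
      have e2 : 2 * g (Pi.single i₀ 1) (Pi.single j 1) = 0 := by linear_combination -this
      exact (mul_eq_zero.1 e2).resolve_left h2
  · have hz : ∀ i j, i ≠ i₀ → j ≠ i₀ → g (Pi.single i 1) (Pi.single j 1) = 0 := fun i j hi hj => by
      have := h i j
      rw [hd1 i hi, hd1 j hj, one_mul] at this
      have e2 : (μ - 1) * g (Pi.single i 1) (Pi.single j 1) = 0 := by linear_combination -this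
      exact (mul_eq_zero.1 e2).resolve_left (sub_ne_zero.2 hμ)
    obtain ⟨a, ha, b, hb', hab⟩ := (Finset.one_lt_card (s := Finset.univ.erase i₀)).1 (by
      rw [Finset.card_erase_of_mem (Finset.mem_univ _), Finset.card_univ, Fintype.card_fin]; omega)
    rw [Finset.mem_erase] at ha hb'
    by_cases hb0 : g (Pi.single b 1) (Pi.single i₀ 1) = 0
    · refine rad (Pi.single b 1) (by simp) fun j => ?_
      rcases eq_or_ne j i₀ with rfl | hj
      · exact hb0
      · exact hz b j hb'.1 hj
    · refine rad (g (Pi.single b 1) (Pi.single i₀ 1) • Pi.single a 1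
        - g (Pi.single a 1) (Pi.single i₀ 1) • Pi.single b 1) (fun h0 => hb0 ?_) fun j => ?_
      · simpa [hab] using congrFun h0 a
      · rw [sub_eq_add_neg, ← neg_smul, hb.add_left, hb.smul_left, hb.smul_left]
        rcases eq_or_ne j i₀ with rfl | hj
        · ring
        · rw [hz a j ha.1 hj, hz b j hb'.1 hj]; ring

theorem target_sym {R : Type*} [CommRing R] (A B : Matrix (Fin d) (Fin d) R) (c : R) (hA : Aᵀ * A = c • 1)
    (hAB : Aᵀ * B = Bᵀ * A) :
    (Matrix.fromBlocks A B 0 A)ᵀ * Matrix.J (Fin d) R * Matrix.fromBlocks A B 0 A = c • Matrix.J (Fin d) R := by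
  rw [Matrix.J, Matrix.fromBlocks_transpose, Matrix.fromBlocks_multiply, Matrix.fromBlocks_multiply,
    Matrix.fromBlocks_smul]
  simp [hA, hAB]

variable [Fintype F]

theorem fixes {f : (Fin n → F) → (Fin n → F) → F} (hf : Cfsg.Geo.IsBilinearForm f)
    (he : ∀ s t, f (e s) (e t) = Matrix.J (Fin d) F s t) (x : Matrix.SpecialLinearGroup (Fin n) F)
    (B : Matrix (Fin d ⊕ Fin d) (Fin d ⊕ Fin d) F) (μ : F) (hμ : μ ≠ 0)
    (hB : Bᵀ * Matrix.J (Fin d) F * B = μ • Matrix.J (Fin d) F) (P : Matrix.SpecialLinearGroup (Fin n) F)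
    (hP : ((P⁻¹ : Matrix.SpecialLinearGroup (Fin n) F) : Matrix (Fin n) (Fin n) F) * x * P = toStd e B) :
    ∃ P : Matrix.SpecialLinearGroup (Fin n) F, P⁻¹ * x * P ∈ (Cfsg.Geo.similarityGroup f).comap
      (Matrix.SpecialLinearGroup.toGL : Matrix.SpecialLinearGroup (Fin n) F →* GL (Fin n) F) := by
  classical
  have hd : (toStd e B).det ≠ 0 := by
    rw [← hP, Matrix.det_mul, Matrix.det_mul, x.2, (P⁻¹).2, P.2]
    simp
  exact fixes_of_conj _ x P (Matrix.GeneralLinearGroup.mkOfDetNeZero _ hd)
    ⟨Units.mk0 μ hμ, fun u v => toStd_similitude e hf he B μ hB u v⟩ hP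

/-- Involutions of PSL_n(q) and the symplectic-type subgroups. -/
theorem result {F : Type*} [Field F] [Fintype F] {p : ℕ} [Fact p.Prime] [CharP F p] {q : ℕ} (hq : Fintype.card F = q)
    (n : ℕ) (hn : 4 ≤ n) (he : Even n) (f : (Fin n → F) → (Fin n → F) → F) (hf : Cfsg.Geo.IsSymplecticForm f)
    (hΩ : 2 ∣ ((Cfsg.Geo.similarityGroup f).comap (Matrix.SpecialLinearGroup.toGL : Matrix.SpecialLinearGroup (Fin n) F →* GL (Fin n) F)).index) :
    (∀ x : Matrix.SpecialLinearGroup (Fin n) F,
      (∃ z : F, ((x ^ 2 : Matrix.SpecialLinearGroup (Fin n) F) : Matrix (Fin n) (Fin n) F) = z • (1 : Matrix (Fin n) (Fin n) F)) →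
      (∀ z : F, (x : Matrix (Fin n) (Fin n) F) ≠ z • (1 : Matrix (Fin n) (Fin n) F)) →
      ∃ P : Matrix.SpecialLinearGroup (Fin n) F, P⁻¹ * x * P ∈ ((Cfsg.Geo.similarityGroup f).comap (Matrix.SpecialLinearGroup.toGL : Matrix.SpecialLinearGroup (Fin n) F →* GL (Fin n) F))) ↔
    padicValNat 2 (q - 1) ≤ padicValNat 2 n := by
  classical
  subst hq
  haveI : NeZero n := ⟨by omega⟩
  constructor
  · intro hall
    by_contra hv
    push Not at hv
    have hodd : Odd (Fintype.card F) := by
      rcases Nat.even_or_odd (Fintype.card F) with hev | h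
      · have : ¬ 2 ∣ Fintype.card F - 1 := by
          have := Fintype.one_lt_card (α := F)
          obtain ⟨a, ha⟩ := hev; omega
        rw [padicValNat.eq_zero_of_not_dvd this] at hv
        omega
      · exact h
    have h2 := two_ne_zero_iff_odd.2 hodd
    obtain ⟨c, hc⟩ := (exists_pow_eq_neg_one_iff h2 (by omega)).2 hv
    have hc0 : c ≠ 0 := fun h => by simp [h, zero_pow (show n ≠ 0 by omega)] at hc
    let D : Fin n → F := fun i => if i = 0 then -1 else 1
    have hdet : (c • Matrix.diagonal D).det = 1 := by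
      rw [Matrix.det_smul, Matrix.det_diagonal, Fintype.card_fin, hc]
      simp [D, Finset.prod_ite_eq']
    let x : Matrix.SpecialLinearGroup (Fin n) F := ⟨c • Matrix.diagonal D, hdet⟩
    obtain ⟨P, hP⟩ := hall x ⟨c * c, by
        rw [sq, Matrix.SpecialLinearGroup.coe_mul]
        show (c • Matrix.diagonal D) * (c • Matrix.diagonal D) = _
        rw [Matrix.smul_mul, Matrix.mul_smul, smul_smul, Matrix.diagonal_mul_diagonal, ← Matrix.diagonal_one]
        congr 2
        funext i
        by_cases h : i = 0 <;> simp [D, h]⟩ (by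
      intro z hz
      have hz' : c • Matrix.diagonal D = z • 1 := hz
      have h0 := congrFun (congrFun hz' 0) 0
      have h1 := congrFun (congrFun hz' ⟨1, by omega⟩) ⟨1, by omega⟩
      simp [D, Matrix.diagonal_apply, show (⟨1, by omega⟩ : Fin n) ≠ 0 from by simp [Fin.ext_iff]] at h0 h1
      exact h2 ((mul_eq_zero.1 (show c * 2 = 0 by linear_combination h1 - h0)).resolve_left hc0))
    obtain ⟨μ, hμ⟩ := Subgroup.mem_comap.1 hP
    let Q : Matrix (Fin n) (Fin n) F := ((P⁻¹ : Matrix.SpecialLinearGroup (Fin n) F) : Matrix (Fin n) (Fin n) F)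
    have hPQ : (P : Matrix (Fin n) (Fin n) F) * Q = 1 := by
      rw [← Matrix.SpecialLinearGroup.coe_mul, mul_inv_cancel, Matrix.SpecialLinearGroup.coe_one]
    have hQP : Q * (P : Matrix (Fin n) (Fin n) F) = 1 := by
      rw [← Matrix.SpecialLinearGroup.coe_mul, inv_mul_cancel, Matrix.SpecialLinearGroup.coe_one]
    let g : (Fin n → F) → (Fin n → F) → F := fun u v => f (Q *ᵥ u) (Q *ᵥ v)
    have hgb : Cfsg.Geo.IsBilinearForm g :=
      ⟨fun a b v => by simp [g, Matrix.mulVec_add, hf.bilinear.add_left],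
        fun a b v => by simp [g, Matrix.mulVec_smul, hf.bilinear.smul_left],
        fun v a b => by simp [g, Matrix.mulVec_add, hf.bilinear.add_right],
        fun a v b => by simp [g, Matrix.mulVec_smul, hf.bilinear.smul_right]⟩
    refine no_reflection h2 (by omega) hgb (fun v => hf.alternating _) (fun v hv => ?_) D 0 (by simp [D])
      (fun i hi => by simp [D, hi]) ((μ : F) / (c * c)) fun i j => ?_
    · have hQv : Q *ᵥ v ≠ 0 := fun h => hv (by
        have := congrArg ((P : Matrix (Fin n) (Fin n) F) *ᵥ ·) h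
        simpa [Matrix.mulVec_mulVec, hPQ] using this)
      obtain ⟨-, w, hw⟩ := hf.nondegenerate _ hQv
      exact ⟨(P : Matrix (Fin n) (Fin n) F) *ᵥ w, by simpa [g, Matrix.mulVec_mulVec, hQP] using hw⟩
    · have h := hμ (Q *ᵥ Pi.single i 1) (Q *ᵥ Pi.single j 1)
      rw [Matrix.SpecialLinearGroup.coe_GL_coe_matrix, Matrix.SpecialLinearGroup.coe_mul,
        Matrix.SpecialLinearGroup.coe_mul, Matrix.mulVec_mulVec, Matrix.mulVec_mulVec] at h
      have e1 : Q * (x : Matrix (Fin n) (Fin n) F) * (P : Matrix (Fin n) (Fin n) F) * Q = Q * (x : Matrix (Fin n) (Fin n) F) := by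
        rw [mul_assoc, hPQ, mul_one]
      have e2 : ∀ i : Fin n, (Q * (x : Matrix (Fin n) (Fin n) F)) *ᵥ Pi.single i 1 = (c * D i) • (Q *ᵥ Pi.single i 1) := by
        intro i
        rw [← Matrix.mulVec_mulVec, ← Matrix.mulVec_smul]
        congr 1
        show (c • Matrix.diagonal D) *ᵥ Pi.single i 1 = _
        funext k
        by_cases hk : k = i <;> simp [Matrix.smul_mulVec, Matrix.diagonal, hk]
      change f ((Q * (x : Matrix (Fin n) (Fin n) F) * (P : Matrix (Fin n) (Fin n) F) * Q) *ᵥ Pi.single i 1)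
        ((Q * (x : Matrix (Fin n) (Fin n) F) * (P : Matrix (Fin n) (Fin n) F) * Q) *ᵥ Pi.single j 1) = _ at h
      rw [e1, e2, e2, hf.bilinear.smul_left, hf.bilinear.smul_right] at h
      show D i * D j * g _ _ = _
      rw [div_mul_eq_mul_div, eq_div_iff (mul_ne_zero hc0 hc0)]
      linear_combination h
  · intro hv x ⟨z, hzx⟩ hns
    obtain ⟨d, e, hnd, hef⟩ := exists_std hf
    have hA := sq_coe hzx
    have hdx : (x : Matrix (Fin n) (Fin n) F).det = 1 := x.2
    have hz0 : z ≠ 0 := by
      rintro rfl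
      have := congrArg Matrix.det hA
      rw [Matrix.det_mul, hdx, zero_smul, Matrix.det_zero] at this
      simp at this
    by_cases hodd : Odd (Fintype.card F)
    · have h2 := two_ne_zero_iff_odd.2 hodd
      by_cases hz : IsSquare z
      · obtain ⟨c, rfl⟩ := hz
        have hc : c ≠ 0 := fun h => hz0 (by rw [h, mul_zero])
        obtain ⟨a, b, hab, hcp, hdet⟩ := split_charpoly hA
        rw [Fintype.card_fin] at hab
        rw [hdx, hab] at hdet
        have hbe : Even b := by
          by_contra hb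
          rw [Nat.not_even_iff_odd] at hb
          rw [hb.neg_one_pow] at hdet
          exact absurd ((exists_pow_eq_neg_one_iff h2 (by omega)).1 ⟨c, by linear_combination hdet⟩)
            (not_lt.2 hv)
        obtain ⟨b', rfl⟩ := hbe
        let pr : Fin d ⊕ Fin d → Prop := fun i => Sum.elim (fun k : Fin d => (k : ℕ) < b') (fun k : Fin d => (k : ℕ) < b') i
        haveI : DecidablePred pr := Classical.decPred _
        let D : Fin d → F := fun k => if (k : ℕ) < b' then -c else c
        let B := Matrix.fromBlocks (Matrix.diagonal D) 0 0 (Matrix.diagonal D)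
        have hBd : B = Matrix.diagonal fun i => if pr i then -c else c := by
          simp only [B, Matrix.fromBlocks_diagonal]
          refine congrArg Matrix.diagonal (funext fun i => ?_)
          rcases i with i | i <;> by_cases h : (i : ℕ) < b' <;> simp [D, pr, h]
        have hcard : (Finset.univ.filter fun i => pr i).card = b' + b' := by
          have hh : (Finset.univ.filter fun i => pr i) = (Finset.univ.filter fun k : Fin d => (k : ℕ) < b').disjSum
              (Finset.univ.filter fun k : Fin d => (k : ℕ) < b') := by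
            ext (i | i) <;> simp [pr]
          rw [hh, Finset.card_disjSum, Fin.card_filter_val_lt, min_eq_right (by omega)]
        have hDD : (Matrix.diagonal D)ᵀ * Matrix.diagonal D = (c * c) • 1 := by
          rw [Matrix.diagonal_transpose, Matrix.diagonal_mul_diagonal, ← Matrix.diagonal_one, ← Matrix.diagonal_smul]
          refine congrArg Matrix.diagonal (funext fun i => ?_)
          by_cases h : (i : ℕ) < b' <;> simp [D, h]
        have hB2 : toStd e B * toStd e B = (c * c) • 1 := by
          rw [← map_mul, Matrix.fromBlocks_multiply]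
          rw [Matrix.diagonal_transpose] at hDD
          simp [hDD, Matrix.fromBlocks_smul, ← Matrix.fromBlocks_one]
          rw [← map_one (toStd e), ← map_smul, ← Matrix.fromBlocks_one, Matrix.fromBlocks_smul]
          simp
        obtain ⟨P, hP⟩ := exists_sl_conj (semisimple_of_sq h2 (mul_ne_zero hc hc) hA)
          (semisimple_of_sq h2 (mul_ne_zero hc hc) hB2) (by
            rw [toStd_charpoly, hBd, charpoly_diagonal_two, hcard, hcp]
            congr 2
            have := Finset.card_filter_add_card_filter_not (s := (Finset.univ : Finset (Fin d ⊕ Fin d))) pr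
            rw [hcard, Finset.card_univ, Fintype.card_sum, Fintype.card_fin] at this
            omega)
        exact fixes e hf.bilinear hef x B (c * c) (mul_ne_zero hc hc) (target_sym _ _ _ hDD (by simp)) P hP
      · let B : Matrix (Fin d ⊕ Fin d) (Fin d ⊕ Fin d) F := Matrix.fromBlocks 0 (z • 1) 1 0
        have hB2 : toStd e B * toStd e B = z • 1 := by
          rw [← map_mul, Matrix.fromBlocks_multiply, ← map_one (toStd e), ← map_smul, ← Matrix.fromBlocks_one,
            Matrix.fromBlocks_smul]
          simp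
        obtain ⟨P, hP⟩ := nonsplit_conj hz hA hB2
        refine fixes e hf.bilinear hef x B (-z) (neg_ne_zero.2 hz0) ?_ P hP
        rw [Matrix.J, Matrix.fromBlocks_transpose, Matrix.fromBlocks_multiply, Matrix.fromBlocks_multiply,
          Matrix.fromBlocks_smul]
        simp
    · haveI := charP_two_of_even hodd
      obtain ⟨c, N, hc, hN0, hN, hxe⟩ := char_two_form hA (by rw [hdx]; exact one_ne_zero) hns
      obtain ⟨r, hr⟩ : ∃ r, N.rank = r := ⟨_, rfl⟩
      have hb := rank_bound hN
      rw [Fintype.card_fin, hr] at hb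
      let S : Finset (Fin d ⊕ Fin d) := (Finset.univ.filter fun k : Fin d => (k : ℕ) < r).map ⟨Sum.inl, Sum.inl_injective⟩
      obtain ⟨hM, hMr⟩ := shifted_diag (F := F) (Equiv.sumComm (Fin d) (Fin d)) S (by
        intro i hi
        obtain ⟨k, -, rfl⟩ := Finset.mem_map.1 hi
        simp [S])
      let δ : Fin d → F := fun k => if (k : ℕ) < r then 1 else 0
      have hMe : (Matrix.diagonal fun i => if i ∈ S then (1 : F) else 0).submatrix id (Equiv.sumComm (Fin d) (Fin d))
          = Matrix.fromBlocks 0 (Matrix.diagonal δ) 0 0 := by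
        ext (i | i) (j | j) <;> simp [S, δ, Matrix.diagonal_apply]
      rw [hMe] at hM hMr
      obtain ⟨P, hP⟩ := char_two_conj (fun a => (FiniteField.isSquare_of_char_two (ringChar.eq F 2) a).imp
        fun _ h => h.symm) hN (M := toStd e (Matrix.fromBlocks 0 (Matrix.diagonal δ) 0 0))
        (by rw [← map_mul, hM, map_zero]) hN0
        (by rw [toStd_rank, hMr, hr, Finset.card_map, Fin.card_filter_val_lt, min_eq_right (by omega)]) c
      rw [← hxe, ← map_one (toStd e), ← map_add, ← map_smul] at hP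
      refine fixes e hf.bilinear hef x _ (c * c) (mul_ne_zero hc hc) ?_ P hP
      rw [show c • (1 + Matrix.fromBlocks 0 (Matrix.diagonal δ) 0 0)
          = Matrix.fromBlocks (c • (1 : Matrix (Fin d) (Fin d) F)) (c • Matrix.diagonal δ) 0 (c • 1) by
        rw [← Matrix.fromBlocks_one, Matrix.fromBlocks_add, Matrix.fromBlocks_smul]; simp]
      exact target_sym _ _ _ (by simp [smul_smul]) (by simp [smul_smul])

end Cfsg.Agent.S5967
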