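import Cfsg.Statements.S5969
import Cfsg.Agent.Lib.SLInvolutions68

set_option autoImplicit false
open scoped MatrixGroups
open Cfsg Polynomial Matrix

namespace Cfsg.Agent.S5969

open Cfsg.Agent.SLInvolutions68

universe u

variable {F : Type u} [Field F] {n : ℕ} {K : Subalgebra F (Matrix (Fin n) (Fin n) F)}

theorem isUnit_sub (hK : Cfsg.Geo.IsFieldSubalgebra 2 K) {a b : Matrix (Fin n) (Fin n) F} (ha : a ∈ K)
    (hb : b ∈ K) (hab : a ≠ b) : IsUnit (a - b) := by
  obtain ⟨y, hy, hy1⟩ := hK.inv _ (K.sub_mem ha hb) (sub_ne_zero.2 hab)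
  exact ⟨⟨a - b, y, hy1, by rw [hK.comm y hy _ (K.sub_mem ha hb), hy1]⟩, rfl⟩

theorem exists_gen [NeZero n] (hK : Cfsg.Geo.IsFieldSubalgebra 2 K) :
    ∃ (y : Matrix (Fin n) (Fin n) F) (s t : F), y ∈ K ∧ (∀ a : F, y ≠ a • 1) ∧
      (∀ k ∈ K, ∃ a b : F, k = a • 1 + b • y) ∧ y * y = s • y + t • 1 ∧ ∀ r : F, r * r ≠ s * r + t := by
  have hfr : Module.finrank F K.toSubmodule = 2 := hK.finrank_eq
  obtain ⟨y, hy, hys⟩ : ∃ y ∈ K, ∀ a : F, y ≠ a • (1 : Matrix (Fin n) (Fin n) F) := by
    by_contra h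
    push Not at h
    have hle : K.toSubmodule ≤ Submodule.span F {1} := fun k hk => by
      obtain ⟨a, ha⟩ := h k hk
      exact Submodule.mem_span_singleton.2 ⟨a, ha.symm⟩
    have := (Submodule.finrank_mono hle).trans (finrank_span_le_card ({1} : Set (Matrix (Fin n) (Fin n) F)))
    rw [hfr] at this
    simp at this
  have hli : LinearIndependent F ![(1 : Matrix (Fin n) (Fin n) F), y] := by
    rw [LinearIndependent.pair_iff]
    intro a b h
    by_cases hb : b = 0
    · subst hb
      rw [zero_smul, add_zero] at h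
      exact ⟨(smul_eq_zero.1 h).resolve_right one_ne_zero, rfl⟩
    · exfalso
      apply hys (-(b⁻¹ * a))
      have h2 : b • y = -(a • (1 : Matrix (Fin n) (Fin n) F)) := eq_neg_of_add_eq_zero_right h
      calc y = b⁻¹ • (b • y) := by rw [smul_smul, inv_mul_cancel₀ hb, one_smul]
        _ = _ := by rw [h2, smul_neg, smul_smul, neg_smul]
  have hsub : Submodule.span F (Set.range ![(1 : Matrix (Fin n) (Fin n) F), y]) = K.toSubmodule := by
    refine Submodule.eq_of_le_of_finrank_eq (Submodule.span_le.2 ?_) ?_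
    · rintro _ ⟨i, rfl⟩
      fin_cases i
      · exact K.one_mem
      · exact hy
    · rw [hfr, finrank_span_eq_card hli, Fintype.card_fin]
  have hspan : ∀ k ∈ K, ∃ a b : F, k = a • 1 + b • y := by
    intro k hk
    have : k ∈ Submodule.span F (Set.range ![(1 : Matrix (Fin n) (Fin n) F), y]) := hsub ▸ hk
    obtain ⟨c, hc⟩ := Submodule.mem_span_range_iff_exists_fun _ |>.1 this
    exact ⟨c 0, c 1, by rw [← hc, Fin.sum_univ_two]; rfl⟩
  obtain ⟨t, s, hts⟩ := hspan (y * y) (K.mul_mem hy hy)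
  refine ⟨y, s, t, hy, hys, hspan, by rw [hts, add_comm], fun r hr => ?_⟩
  have hu : IsUnit (y - r • (1 : Matrix (Fin n) (Fin n) F)) :=
    isUnit_sub hK hy (K.smul_mem K.one_mem r) (hys r)
  have h0 : (y - r • 1) * (y + (r - s) • (1 : Matrix (Fin n) (Fin n) F)) = 0 := by
    rw [sub_mul, mul_add, Matrix.mul_smul, mul_one, Matrix.smul_mul, one_mul, smul_add, smul_smul, hts,
      show r * (r - s) = t by linear_combination hr, sub_smul]
    abel
  have h1 := hu.mul_right_eq_zero.1 h0
  apply hys (s - r)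
  rw [eq_neg_of_add_eq_zero_left h1, ← neg_smul, neg_sub]

theorem gen_poly {y : Matrix (Fin n) (Fin n) F} {s t : F} (hy : y * y = s • y + t • 1)
    (hr : ∀ r : F, r * r ≠ s * r + t) :
    Irreducible (X ^ 2 - (C s * X + C t)) ∧ (X ^ 2 - (C s * X + C t)).Monic ∧
      aeval y (X ^ 2 - (C s * X + C t)) = 0 := by
  have hdeg : (C s * X + C t).degree < ((2 : ℕ) : WithBot ℕ) :=
    lt_of_le_of_lt degree_linear_le (by norm_cast)
  have hm : (X ^ 2 - (C s * X + C t)).Monic := monic_X_pow_sub hdeg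
  have hnd : (X ^ 2 - (C s * X + C t)).natDegree = 2 := by
    apply natDegree_eq_of_degree_eq_some
    rw [degree_sub_eq_left_of_degree_lt (by rwa [degree_X_pow]), degree_X_pow]
  refine ⟨irreducible_of_degree_le_three_of_not_isRoot (by rw [hnd]; simp) fun r h => hr r ?_, hm, ?_⟩
  · simp only [IsRoot.def, eval_sub, eval_pow, eval_X, eval_add, eval_mul, eval_C] at h
    linear_combination h
  · simp [sq, hy, Algebra.algebraMap_eq_smul_one, Matrix.smul_mul]

theorem inv_mul_cancel_mat (P : Matrix.SpecialLinearGroup (Fin n) F) :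
    ((P⁻¹ : Matrix.SpecialLinearGroup (Fin n) F) : Matrix (Fin n) (Fin n) F) * P = 1 ∧
      (P : Matrix (Fin n) (Fin n) F) * ((P⁻¹ : Matrix.SpecialLinearGroup (Fin n) F) : Matrix (Fin n) (Fin n) F) = 1 := by
  constructor <;> rw [← Matrix.SpecialLinearGroup.coe_mul] <;> simp

theorem conj_mul (P : Matrix.SpecialLinearGroup (Fin n) F) (A B : Matrix (Fin n) (Fin n) F) :
    ((P : Matrix (Fin n) (Fin n) F) * A * ((P⁻¹ : Matrix.SpecialLinearGroup (Fin n) F) : Matrix (Fin n) (Fin n) F)) *
      ((P : Matrix (Fin n) (Fin n) F) * B * ((P⁻¹ : Matrix.SpecialLinearGroup (Fin n) F) : Matrix (Fin n) (Fin n) F)) =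
      (P : Matrix (Fin n) (Fin n) F) * (A * B) * ((P⁻¹ : Matrix.SpecialLinearGroup (Fin n) F) : Matrix (Fin n) (Fin n) F) := by
  calc _ = (P : Matrix (Fin n) (Fin n) F) * (A * (((P⁻¹ : Matrix.SpecialLinearGroup (Fin n) F) : Matrix (Fin n) (Fin n) F) * P) * B) *
        ((P⁻¹ : Matrix.SpecialLinearGroup (Fin n) F) : Matrix (Fin n) (Fin n) F) := by simp only [mul_assoc]
    _ = _ := by rw [(inv_mul_cancel_mat P).1, mul_one]

theorem gen_mem_normalizer [Fintype F] {y : Matrix (Fin n) (Fin n) F}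
    (hspan : ∀ k ∈ K, ∃ a b : F, k = a • 1 + b • y) (g : GL (Fin n) F) (y₁ : Matrix (Fin n) (Fin n) F)
    (hy₁ : y₁ ∈ K) (hg : (g : Matrix (Fin n) (Fin n) F) * y = y₁ * (g : Matrix (Fin n) (Fin n) F)) :
    g ∈ Cfsg.Geo.subalgebraNormalizer K := by
  have hmaps : ∀ k ∈ K, (g : Matrix (Fin n) (Fin n) F) * k * ((g⁻¹ : GL (Fin n) F) : Matrix (Fin n) (Fin n) F) ∈ K := by
    intro k hk
    obtain ⟨a, b, rfl⟩ := hspan k hk
    rw [mul_add, add_mul, Matrix.mul_smul, mul_one, Matrix.smul_mul, Units.mul_inv, Matrix.mul_smul,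
      Matrix.smul_mul, hg, mul_assoc, Units.mul_inv, mul_one]
    exact K.add_mem (K.smul_mem K.one_mem a) (K.smul_mem hy₁ b)
  intro k
  refine ⟨hmaps k, fun h => ?_⟩
  let φ : K → K := fun k => ⟨_, hmaps k.1 k.2⟩
  have hinj : Function.Injective φ := fun a b hab => Subtype.ext (by
    have := congrArg Subtype.val hab
    exact (g.isUnit.mul_right_inj).1 ((g⁻¹).isUnit.mul_left_inj.1 this))
  obtain ⟨k', hk'⟩ := (Finite.injective_iff_surjective.1 hinj) ⟨_, h⟩
  have := congrArg Subtype.val hk'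
  rw [← (g.isUnit.mul_right_inj).1 ((g⁻¹).isUnit.mul_left_inj.1 this)]
  exact k'.2

theorem fixes [Fintype F] {y : Matrix (Fin n) (Fin n) F}
    (hspan : ∀ k ∈ K, ∃ a b : F, k = a • 1 + b • y) (x : Matrix.SpecialLinearGroup (Fin n) F)
    (A y₁ : Matrix (Fin n) (Fin n) F) (hy₁ : y₁ ∈ K) (hA : A * y = y₁ * A)
    (P : Matrix.SpecialLinearGroup (Fin n) F)
    (hP : ((P⁻¹ : Matrix.SpecialLinearGroup (Fin n) F) : Matrix (Fin n) (Fin n) F) * x * P = A) :
    ∃ P : Matrix.SpecialLinearGroup (Fin n) F, P⁻¹ * x * P ∈ (Cfsg.Geo.subalgebraNormalizer K).comap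
      (Matrix.SpecialLinearGroup.toGL : Matrix.SpecialLinearGroup (Fin n) F →* GL (Fin n) F) := by
  classical
  have hd : A.det ≠ 0 := by
    rw [← hP, Matrix.det_mul, Matrix.det_mul, x.2, (P⁻¹).2, P.2]
    simp
  exact fixes_of_conj _ x P (Matrix.GeneralLinearGroup.mkOfDetNeZero _ hd)
    (gen_mem_normalizer hspan _ y₁ hy₁ hA) hP

/-- In dimension two some involution normalises the field. -/
theorem exists_sigma [Fintype F] {K : Subalgebra F (Matrix (Fin 2) (Fin 2) F)}
    {y : Matrix (Fin 2) (Fin 2) F} {s t : F} (hy : y ∈ K) (hyy : y * y = s • y + t • 1)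
    (hr : ∀ r : F, r * r ≠ s * r + t) :
    ∃ (g y₁ : Matrix (Fin 2) (Fin 2) F), g * g = 1 ∧ (∀ a : F, g ≠ a • 1) ∧ y₁ ∈ K ∧ g * y = y₁ * g := by
  obtain ⟨hg, hgm, hgy⟩ := gen_poly hyy hr
  let Y : Matrix (Fin 2) (Fin 2) F := !![0, t; 1, s]
  let G : Matrix (Fin 2) (Fin 2) F := !![1, s; 0, -1]
  have hY : aeval Y (X ^ 2 - (C s * X + C t)) = 0 := (gen_poly (by
    ext i j; fin_cases i <;> fin_cases j <;> simp [Y, Matrix.mul_apply, Fin.sum_univ_two] <;> ring) hr).2.2
  obtain ⟨P, hP⟩ := conj_of_irreducible hg hgm hgy hY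
  have hy' : y = (P : Matrix (Fin 2) (Fin 2) F) * Y * ((P⁻¹ : Matrix.SpecialLinearGroup (Fin 2) F) : Matrix (Fin 2) (Fin 2) F) := by
    rw [← hP]
    simp only [← mul_assoc]
    rw [(inv_mul_cancel_mat P).2, one_mul, mul_assoc, (inv_mul_cancel_mat P).2, mul_one]
  refine ⟨(P : Matrix (Fin 2) (Fin 2) F) * G * ((P⁻¹ : Matrix.SpecialLinearGroup (Fin 2) F) : Matrix (Fin 2) (Fin 2) F),
    s • 1 - y, ?_, fun a ha => ?_, K.sub_mem (K.smul_mem K.one_mem s) hy, ?_⟩
  · rw [conj_mul, show G * G = 1 by ext i j; fin_cases i <;> fin_cases j <;> simp [G, Matrix.mul_apply, Fin.sum_univ_two],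
      mul_one, (inv_mul_cancel_mat P).2]
  · have hG : G = a • 1 := by
      have := congrArg (fun M => ((P⁻¹ : Matrix.SpecialLinearGroup (Fin 2) F) : Matrix (Fin 2) (Fin 2) F) * M * (P : Matrix (Fin 2) (Fin 2) F)) ha
      simp only [← mul_assoc, (inv_mul_cancel_mat P).1, one_mul] at this
      rw [mul_assoc, (inv_mul_cancel_mat P).1, mul_one, Matrix.mul_smul, mul_one, Matrix.smul_mul,
        (inv_mul_cancel_mat P).1] at this
      exact this
    have h00 : (1 : F) = a := by simpa [G] using congrFun (congrFun hG 0) 0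
    have h01 : s = 0 := by simpa [G] using congrFun (congrFun hG 0) 1
    have h11 : (-1 : F) = a := by simpa [G] using congrFun (congrFun hG 1) 1
    have h20 : (2 : F) = 0 := by linear_combination h00 - h11
    haveI := charP_two_of_even (F := F) fun hodd => two_ne_zero_iff_odd.2 hodd h20
    obtain ⟨r, hr'⟩ := FiniteField.isSquare_of_char_two (ringChar.eq F 2) t
    exact hr r (by rw [h01, hr']; ring)
  · have e1 : s • (1 : Matrix (Fin 2) (Fin 2) F) - y = (P : Matrix (Fin 2) (Fin 2) F) * (s • 1 - Y) *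
        ((P⁻¹ : Matrix.SpecialLinearGroup (Fin 2) F) : Matrix (Fin 2) (Fin 2) F) := by
      rw [mul_sub, sub_mul, ← hy', Matrix.mul_smul, mul_one, Matrix.smul_mul, (inv_mul_cancel_mat P).2]
    rw [e1, hy', conj_mul, conj_mul]
    congr 2
    ext i j; fin_cases i <;> fin_cases j <;> simp [G, Y, Matrix.mul_apply, Fin.sum_univ_two] <;> ring

/-- An element with one-dimensional displacement normalises the field only in dimension two. -/
theorem dim_le_two (hK : Cfsg.Geo.IsFieldSubalgebra 2 K) {y : Matrix (Fin n) (Fin n) F}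
    (hy : y ∈ K) (hys : ∀ a : F, y ≠ a • 1) {u y₁ : Matrix (Fin n) (Fin n) F} (hy₁ : y₁ ∈ K)
    (hu : u * y = y₁ * u) (a : Fin n → F) (hN : ∀ v, ∃ r : F, u *ᵥ v - v = r • a) (hne : u ≠ 1) : n ≤ 2 := by
  let N := Matrix.toLin' (u - 1)
  have hNv : ∀ v, N v = u *ᵥ v - v := fun v => by simp [N, Matrix.sub_mulVec]
  let L : (Fin n → F) →ₗ[F] LinearMap.range N × LinearMap.range N :=
    N.rangeRestrict.prod (N.rangeRestrict.comp (Matrix.toLin' y))
  have hr : Module.finrank F (LinearMap.range N) ≤ 1 := by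
    have hle : LinearMap.range N ≤ Submodule.span F {a} := by
      rintro _ ⟨v, rfl⟩
      obtain ⟨r, hr⟩ := hN v
      exact Submodule.mem_span_singleton.2 ⟨r, by rw [hNv, hr]⟩
    refine (Submodule.finrank_mono hle).trans ((finrank_span_le_card ({a} : Set (Fin n → F))).trans ?_)
    simp
  have hdiff : y₁ ≠ y := by
    intro h
    rw [h] at hu
    obtain ⟨v, hv⟩ : ∃ v, N v ≠ 0 := by
      by_contra hc
      push Not at hc
      apply hne
      rw [← sub_eq_zero]
      exact Matrix.toLin'.injective (by rw [map_zero]; exact LinearMap.ext hc)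
    obtain ⟨r₁, hr₁⟩ := hN v
    obtain ⟨r₂, hr₂⟩ := hN (y *ᵥ v)
    have hr₁0 : r₁ ≠ 0 := fun h => hv (by rw [hNv, hr₁, h, zero_smul])
    have hcomm : y *ᵥ (u *ᵥ v - v) = u *ᵥ (y *ᵥ v) - y *ᵥ v := by
      rw [Matrix.mulVec_sub, Matrix.mulVec_mulVec, Matrix.mulVec_mulVec, hu]
    have h0 : (y - (r₂ / r₁) • (1 : Matrix (Fin n) (Fin n) F)) *ᵥ (u *ᵥ v - v) = 0 := by
      rw [Matrix.sub_mulVec, Matrix.smul_mulVec, Matrix.one_mulVec, hcomm, hr₂, hr₁, smul_smul,
        div_mul_cancel₀ _ hr₁0, sub_self]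
    have hinj := (Matrix.mulVec_injective_iff_isUnit).2 (isUnit_sub hK hy (K.smul_mem K.one_mem (r₂ / r₁)) (hys _))
    exact hv (by rw [hNv]; exact hinj (h0.trans (Matrix.mulVec_zero _).symm))
  have hL : Function.Injective L := by
    rw [injective_iff_map_eq_zero]
    intro v hv
    simp only [L, LinearMap.prod_apply, Function.prod_apply, Prod.mk_eq_zero, LinearMap.comp_apply,
      Matrix.toLin'_apply] at hv
    have h1 : N v = 0 := congrArg Subtype.val hv.1
    have h2 : N (y *ᵥ v) = 0 := congrArg Subtype.val hv.2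
    rw [hNv, sub_eq_zero] at h1 h2
    have h3 : (y₁ - y) *ᵥ v = 0 := by
      rw [Matrix.sub_mulVec, sub_eq_zero]
      calc y₁ *ᵥ v = y₁ *ᵥ (u *ᵥ v) := by rw [h1]
        _ = y *ᵥ v := by rw [Matrix.mulVec_mulVec, ← hu, ← Matrix.mulVec_mulVec, h2]
    exact (Matrix.mulVec_injective_iff_isUnit.2 (isUnit_sub hK hy₁ hy hdiff))
      (h3.trans (Matrix.mulVec_zero _).symm)
  have := LinearMap.finrank_le_finrank_of_injective hL
  rw [Module.finrank_fin_fun, Module.finrank_prod] at this
  omega

theorem counter (hK : Cfsg.Geo.IsFieldSubalgebra 2 K) {y : Matrix (Fin n) (Fin n) F}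
    (hy : y ∈ K) (hys : ∀ a : F, y ≠ a • 1) (x : Matrix.SpecialLinearGroup (Fin n) F) (c w : F) (i j : Fin n)
    (hc : c ≠ 0) (hw : w ≠ 0) (hx : (x : Matrix (Fin n) (Fin n) F) = c • (1 + Matrix.single i j w))
    (P : Matrix.SpecialLinearGroup (Fin n) F)
    (hP : P⁻¹ * x * P ∈ (Cfsg.Geo.subalgebraNormalizer K).comap
      (Matrix.SpecialLinearGroup.toGL : Matrix.SpecialLinearGroup (Fin n) F →* GL (Fin n) F)) : n ≤ 2 := by
  set Q : Matrix (Fin n) (Fin n) F := ((P⁻¹ : Matrix.SpecialLinearGroup (Fin n) F) : Matrix (Fin n) (Fin n) F) with hQ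
  set g := Matrix.SpecialLinearGroup.toGL (P⁻¹ * x * P) with hg
  have hgK := ((Subgroup.mem_comap.1 hP) y).1 hy
  obtain ⟨u, hu⟩ : ∃ u, u = Q * (1 + Matrix.single i j w) * (P : Matrix (Fin n) (Fin n) F) := ⟨_, rfl⟩
  have hgu : (g : Matrix (Fin n) (Fin n) F) = c • u := by
    rw [hg, Matrix.SpecialLinearGroup.coe_GL_coe_matrix, Matrix.SpecialLinearGroup.coe_mul,
      Matrix.SpecialLinearGroup.coe_mul, hx, hu, hQ]
    rw [Matrix.mul_smul, Matrix.smul_mul]
  refine dim_le_two hK hy hys (u := u) hgK ?_ (Q *ᵥ Pi.single i 1) (fun v => ⟨w * ((P : Matrix (Fin n) (Fin n) F) *ᵥ v) j, ?_⟩) ?_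
  · have h : (g : Matrix (Fin n) (Fin n) F) * y * ((g⁻¹ : GL (Fin n) F) : Matrix (Fin n) (Fin n) F) *
        (g : Matrix (Fin n) (Fin n) F) = (g : Matrix (Fin n) (Fin n) F) * y := by
      rw [mul_assoc _ _ (g : Matrix (Fin n) (Fin n) F), Units.inv_mul, mul_one]
    rw [hgu, Matrix.smul_mul, Matrix.mul_smul] at h
    refine smul_right_injective _ hc ?_
    convert h.symm using 2
    rw [hgu, Matrix.smul_mul]
  · rw [hu, ← Matrix.mulVec_mulVec, ← Matrix.mulVec_mulVec, Matrix.add_mulVec, Matrix.one_mulVec, Matrix.mulVec_add,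
      Matrix.mulVec_mulVec v Q, (inv_mul_cancel_mat P).1, Matrix.one_mulVec, add_sub_cancel_left, ← Matrix.mulVec_smul]
    congr 1
    funext k
    by_cases hk : k = i
    · subst hk; simp [Matrix.mulVec, dotProduct, Matrix.single, Pi.single_apply]
    · simp [Matrix.mulVec, dotProduct, Matrix.single, Pi.single_apply, hk, Ne.symm hk]
  · intro h
    have h2 : (1 : Matrix (Fin n) (Fin n) F) + Matrix.single i j w = 1 := by
      calc (1 : Matrix (Fin n) (Fin n) F) + Matrix.single i j w
          = ((P : Matrix (Fin n) (Fin n) F) * Q) * (1 + Matrix.single i j w) * ((P : Matrix (Fin n) (Fin n) F) * Q) := by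
            rw [(inv_mul_cancel_mat P).2, one_mul, mul_one]
        _ = (P : Matrix (Fin n) (Fin n) F) * u * Q := by simp only [hu, mul_assoc]
        _ = 1 := by rw [h, mul_one, (inv_mul_cancel_mat P).2]
    exact hw (by simpa using congrFun (congrFun (add_eq_left.1 h2) i) j)

theorem nonsquare_div [Fintype F] (h2 : (2 : F) ≠ 0) {a b : F} (ha : ¬ IsSquare a) (hb : ¬ IsSquare b) :
    IsSquare (a / b) := by
  have hchar : ringChar F ≠ 2 := fun h => h2 (by
    have := ringChar.Nat.cast_ringChar (R := F)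
    rw [h] at this
    exact_mod_cast this)
  have ha0 : a ≠ 0 := fun h => ha (h ▸ IsSquare.zero)
  have hb0 : b ≠ 0 := fun h => hb (h ▸ IsSquare.zero)
  rw [FiniteField.isSquare_iff hchar (div_ne_zero ha0 hb0), div_pow,
    (FiniteField.pow_dichotomy hchar ha0).resolve_left fun h => ha ((FiniteField.isSquare_iff hchar ha0).2 h),
    (FiniteField.pow_dichotomy hchar hb0).resolve_left fun h => hb ((FiniteField.isSquare_iff hchar hb0).2 h),
    div_self (neg_ne_zero.2 one_ne_zero)]

/-- Involutions of PSL_n(q) and extension-field subgroups of degree 2. -/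
theorem result {F : Type*} [Field F] [Fintype F] {p : ℕ} [Fact p.Prime] [CharP F p] {q : ℕ} (hq : Fintype.card F = q)
    (n : ℕ) (hn : 2 ≤ n) (hT : (n, q) ≠ (2, 2) ∧ (n, q) ≠ (2, 3))
    (k : ℕ) (hk : k.Prime) (hkn : k ∣ n) (K : Subalgebra F (Matrix (Fin n) (Fin n) F)) (hK : Cfsg.Geo.IsFieldSubalgebra k K) (hk2 : k = 2) (hΩ : 2 ∣ ((Cfsg.Geo.subalgebraNormalizer K).comap (Matrix.SpecialLinearGroup.toGL : Matrix.SpecialLinearGroup (Fin n) F →* GL (Fin n) F)).index) :
    (∀ x : Matrix.SpecialLinearGroup (Fin n) F,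
      (∃ z : F, ((x ^ 2 : Matrix.SpecialLinearGroup (Fin n) F) : Matrix (Fin n) (Fin n) F) = z • (1 : Matrix (Fin n) (Fin n) F)) →
      (∀ z : F, (x : Matrix (Fin n) (Fin n) F) ≠ z • (1 : Matrix (Fin n) (Fin n) F)) →
      ∃ P : Matrix.SpecialLinearGroup (Fin n) F, P⁻¹ * x * P ∈ ((Cfsg.Geo.subalgebraNormalizer K).comap (Matrix.SpecialLinearGroup.toGL : Matrix.SpecialLinearGroup (Fin n) F →* GL (Fin n) F))) ↔
    (n = 2 ∨ (Odd q ∧ padicValNat 2 (q - 1) ≤ padicValNat 2 n)) := by
  classical
  subst hq hk2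
  haveI : NeZero n := ⟨by omega⟩
  obtain ⟨y, s, t, hy, hys, hspan, hyy, hroot⟩ := exists_gen hK
  constructor
  · intro hall
    by_contra hcon
    push Not at hcon
    obtain ⟨hn2, hcon⟩ := hcon
    have hne : (⟨1, by omega⟩ : Fin n) ≠ 0 := by simp [Fin.ext_iff]
    by_cases hodd : Odd (Fintype.card F)
    · have h2 := two_ne_zero_iff_odd.2 hodd
      obtain ⟨c, hc⟩ := (exists_pow_eq_neg_one_iff h2 (by omega)).2 (hcon hodd)
      have hc0 : c ≠ 0 := fun h => by simp [h, zero_pow (show n ≠ 0 by omega)] at hc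
      have hM : (1 + Matrix.single (0 : Fin n) (0 : Fin n) (-2 : F)) = Matrix.diagonal fun i => if i = 0 then -1 else 1 := by
        ext i j
        by_cases h : i = j
        · subst h
          by_cases h0 : i = 0
          · subst h0; simp; ring
          · simp [h0, Ne.symm h0]
        · have : ¬ ((0 : Fin n) = i ∧ (0 : Fin n) = j) := fun h' => h (h'.1.symm.trans h'.2)
          simp [h, this, Matrix.single]
      have hdet : (c • (1 + Matrix.single (0 : Fin n) (0 : Fin n) (-2 : F))).det = 1 := by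
        rw [hM, Matrix.det_smul, Matrix.det_diagonal, Fintype.card_fin, hc]
        simp
      let x : Matrix.SpecialLinearGroup (Fin n) F := ⟨_, hdet⟩
      obtain ⟨P, hP⟩ := hall x ⟨c * c, by
          rw [sq, Matrix.SpecialLinearGroup.coe_mul]
          show (c • (1 + Matrix.single (0 : Fin n) (0 : Fin n) (-2 : F))) * (c • (1 + Matrix.single (0 : Fin n) (0 : Fin n) (-2 : F))) = _
          rw [hM, Matrix.smul_mul, Matrix.mul_smul, smul_smul, Matrix.diagonal_mul_diagonal, ← Matrix.diagonal_one]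
          congr 2
          funext i
          by_cases h : i = 0 <;> simp [h]⟩ (by
        intro z hz
        have hz' : c • (1 + Matrix.single (0 : Fin n) (0 : Fin n) (-2 : F)) = z • 1 := hz
        rw [hM] at hz'
        have h0 := congrFun (congrFun hz' 0) 0
        have h1 := congrFun (congrFun hz' ⟨1, by omega⟩) ⟨1, by omega⟩
        simp [hne] at h0 h1
        exact h2 ((mul_eq_zero.1 (show c * 2 = 0 by linear_combination h1 - h0)).resolve_left hc0))
      have := counter hK hy hys _ c (-2) 0 0 hc0 (neg_ne_zero.2 h2) rfl P hP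
      omega
    · haveI := charP_two_of_even hodd
      have hdet : ((1 : Matrix (Fin n) (Fin n) F) + Matrix.single (0 : Fin n) (⟨1, by omega⟩ : Fin n) 1).det = 1 :=
        Matrix.det_transvection_of_ne _ _ hne.symm 1
      have hsq : ((1 : Matrix (Fin n) (Fin n) F) + Matrix.single (0 : Fin n) (⟨1, by omega⟩ : Fin n) 1) *
          (1 + Matrix.single (0 : Fin n) (⟨1, by omega⟩ : Fin n) 1) = 1 := by
        have h := Matrix.transvection_mul_transvection_same (R := F) 0 (⟨1, by omega⟩ : Fin n) hne.symm 1 1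
        rw [CharTwo.add_self_eq_zero, Matrix.transvection_zero] at h
        exact h
      let x : Matrix.SpecialLinearGroup (Fin n) F := ⟨_, hdet⟩
      obtain ⟨P, hP⟩ := hall x ⟨1, by
          rw [sq, Matrix.SpecialLinearGroup.coe_mul, one_smul]; exact hsq⟩ (by
        intro z hz
        have hz' : (1 : Matrix (Fin n) (Fin n) F) + Matrix.single (0 : Fin n) (⟨1, by omega⟩ : Fin n) 1 = z • 1 := hz
        have h1 := congrFun (congrFun hz' 0) ⟨1, by omega⟩
        simp [hne.symm] at h1)
      have := counter hK hy hys _ 1 1 0 ⟨1, by omega⟩ one_ne_zero one_ne_zero (one_smul F _).symm P hP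
      omega
  · intro hR x ⟨z, hzx⟩ hns
    have hA := sq_coe hzx
    have hdx : (x : Matrix (Fin n) (Fin n) F).det = 1 := x.2
    have hz0 : z ≠ 0 := by
      rintro rfl
      have := congrArg Matrix.det hA
      rw [Matrix.det_mul, hdx, zero_smul, Matrix.det_zero] at this
      simp at this
    by_cases hodd : Odd (Fintype.card F)
    · have h2 := two_ne_zero_iff_odd.2 hodd
      by_cases hz : IsSquare z
      · obtain ⟨c, rfl⟩ := hz
        have hc : c ≠ 0 := fun h => hz0 (by rw [h, mul_zero])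
        obtain ⟨a, b, hab, hcp, hdet⟩ := split_charpoly hA
        rcases hR with rfl | ⟨-, hv⟩
        · obtain ⟨g, y₁, hgg, hgs, hy₁, hgy⟩ := exists_sigma hy hyy hroot
          have hB : (c • g) * (c • g) = (c * c) • 1 := by
            rw [Matrix.smul_mul, Matrix.mul_smul, smul_smul, hgg]
          obtain ⟨a', b', hab', hcp', -⟩ := split_charpoly hB
          have h1 := split_scalar h2 hc hA hab hcp hns
          have h1' := split_scalar h2 hc hB hab' hcp' fun e he => hgs (c⁻¹ * e) (by
            rw [← smul_smul, ← he, smul_smul, inv_mul_cancel₀ hc, one_smul])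
          rw [Fintype.card_fin] at hab hab'
          obtain ⟨P, hP⟩ := exists_sl_conj (semisimple_of_sq h2 (mul_ne_zero hc hc) hA)
            (semisimple_of_sq h2 (mul_ne_zero hc hc) hB)
            (by rw [hcp, hcp', show a = a' by omega, show b = b' by omega])
          exact fixes hspan x (c • g) y₁ hy₁ (by rw [Matrix.smul_mul, Matrix.mul_smul, hgy]) P hP
        · rw [Fintype.card_fin] at hab
          rw [hdx, hab] at hdet
          have hbe : Even b := by
            by_contra hb
            rw [Nat.not_even_iff_odd] at hb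
            rw [hb.neg_one_pow] at hdet
            exact absurd ((exists_pow_eq_neg_one_iff h2 (by omega)).1 ⟨c, by linear_combination hdet⟩)
              (not_lt.2 hv)
          obtain ⟨b', rfl⟩ := hbe
          obtain ⟨m, rfl⟩ := hkn
          obtain ⟨hg, hgm, hgy⟩ := gen_poly hyy hroot
          let e : Fin 2 × Fin m ≃ Fin (2 * m) := finProdFinEquiv
          let Y : Matrix (Fin (2 * m)) (Fin (2 * m)) F :=
            Matrix.reindexAlgEquiv F F e (Matrix.blockDiagonal fun _ : Fin m => !![0, t; 1, s])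
          have hYY : Y * Y = s • Y + t • 1 := by
            rw [← map_mul, ← Matrix.blockDiagonal_mul]
            have : (!![0, t; 1, s] : Matrix (Fin 2) (Fin 2) F) * !![0, t; 1, s] = s • !![0, t; 1, s] + t • 1 := by
              ext i j; fin_cases i <;> fin_cases j <;> simp <;> ring
            rw [show (fun _ : Fin m => (!![0, t; 1, s] : Matrix (Fin 2) (Fin 2) F) * !![0, t; 1, s])
              = s • (fun _ : Fin m => (!![0, t; 1, s] : Matrix (Fin 2) (Fin 2) F))
                + t • (fun _ : Fin m => (1 : Matrix (Fin 2) (Fin 2) F)) from funext fun _ => this,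
              Matrix.blockDiagonal_add, Matrix.blockDiagonal_smul, Matrix.blockDiagonal_smul, map_add, map_smul,
              map_smul, show Matrix.blockDiagonal (fun _ : Fin m => (1 : Matrix (Fin 2) (Fin 2) F)) = 1 from Matrix.blockDiagonal_one,
              map_one]
          obtain ⟨P, hP⟩ := conj_of_irreducible hg hgm hgy (gen_poly hYY hroot).2.2
          let pr : Fin (2 * m) → Prop := fun i => ((e.symm i).2 : ℕ) < b'
          have hcard : (Finset.univ.filter fun i => pr i).card = b' + b' := by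
            have : (Finset.univ.filter fun i => pr i) =
                ((Finset.univ : Finset (Fin 2)) ×ˢ (Finset.univ.filter fun j : Fin m => (j : ℕ) < b')).map e.toEmbedding := by
              ext i
              simp [pr, Finset.mem_map_equiv]
            rw [this, Finset.card_map, Finset.card_product, Finset.card_univ, Fintype.card_fin,
              Fin.card_filter_val_lt, min_eq_right (by omega), two_mul]
          obtain ⟨Q, hQ⟩ := split_conj h2 hc hA (by rw [Fintype.card_fin]; exact hab) hcp pr hcard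
          set D : Matrix (Fin (2 * m)) (Fin (2 * m)) F := Matrix.diagonal fun i => if pr i then -c else c with hD
          have hDY : D * Y = Y * D := by
            ext i j
            rw [hD, Matrix.diagonal_mul, Matrix.mul_diagonal]
            simp only [Y, Matrix.reindexAlgEquiv_apply, Matrix.reindex_apply, Matrix.submatrix_apply,
              Matrix.blockDiagonal_apply, pr]
            by_cases h : (e.symm i).2 = (e.symm j).2
            · rw [h]; ring
            · simp [h]
          have hy' : y = (P : Matrix _ _ F) * Y * ((P⁻¹ : Matrix.SpecialLinearGroup (Fin (2 * m)) F) : Matrix _ _ F) := by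
            rw [← hP]
            simp only [← mul_assoc]
            rw [(inv_mul_cancel_mat P).2, one_mul, mul_assoc, (inv_mul_cancel_mat P).2, mul_one]
          refine fixes hspan x ((P : Matrix _ _ F) * D * ((P⁻¹ : Matrix.SpecialLinearGroup (Fin (2 * m)) F) : Matrix _ _ F))
            y hy (by rw [hy', conj_mul, conj_mul, hDY]) (Q * P⁻¹) ?_
          rw [_root_.mul_inv_rev, inv_inv, Matrix.SpecialLinearGroup.coe_mul, Matrix.SpecialLinearGroup.coe_mul, ← hQ]
          simp only [mul_assoc]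
      · -- a square root of `z` inside the field
        have hD : ¬ IsSquare (s * s / 4 + t) := by
          rintro ⟨r, hr⟩
          apply hroot (r + s / 2)
          have h4 : (4 : F) ≠ 0 := by
            rw [show (4 : F) = 2 * 2 by norm_num]; exact mul_ne_zero h2 h2
          field_simp at hr ⊢
          linear_combination -hr
        obtain ⟨b, hb⟩ := nonsquare_div h2 hz hD
        have hD0 : s * s / 4 + t ≠ 0 := fun h => hD (h ▸ IsSquare.zero)
        rw [div_eq_iff hD0] at hb
        set A : Matrix (Fin n) (Fin n) F := (-(b * s / 2)) • 1 + b • y with hA'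
        have hAA : A * A = z • 1 := by
          rw [hA']
          simp only [add_mul, mul_add, Matrix.smul_mul, Matrix.mul_smul, one_mul, mul_one, hyy, smul_add, smul_smul]
          have e1 : ∀ a₁ a₂ a₃ a₄ a₅ : F, a₁ + a₅ = z → a₂ + a₃ + a₄ = 0 →
              a₁ • (1 : Matrix (Fin n) (Fin n) F) + a₂ • y + (a₃ • y + (a₄ • y + a₅ • 1)) = z • 1 := by
            intro a₁ a₂ a₃ a₄ a₅ h1 h2
            rw [show a₁ • (1 : Matrix (Fin n) (Fin n) F) + a₂ • y + (a₃ • y + (a₄ • y + a₅ • 1)) =
              (a₁ + a₅) • (1 : Matrix (Fin n) (Fin n) F) + (a₂ + a₃ + a₄) • y by simp only [add_smul]; abel,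
              h1, h2, zero_smul, add_zero]
          refine e1 _ _ _ _ _ ?_ ?_
          · have h4 : (4 : F) ≠ 0 := by
              rw [show (4 : F) = 2 * 2 by norm_num]; exact mul_ne_zero h2 h2
            rw [hb]; field_simp; ring
          · field_simp; ring
        obtain ⟨P, hP⟩ := nonsplit_conj hz hA hAA
        refine fixes hspan x A y hy ?_ P hP
        exact hK.comm A (K.add_mem (K.smul_mem K.one_mem _) (K.smul_mem hy b)) y hy
    · haveI := charP_two_of_even hodd
      obtain rfl : n = 2 := hR.resolve_right fun h => hodd h.1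
      obtain ⟨g, y₁, hgg, hgs, hy₁, hgy⟩ := exists_sigma hy hyy hroot
      obtain ⟨c, N, hc, hN0, hN, hxe⟩ := char_two_form hA (by rw [hdx]; exact one_ne_zero) hns
      have hM : (g - 1) * (g - 1) = 0 := by
        rw [sub_mul, mul_sub, hgg, one_mul, mul_one, CharTwo.sub_eq_add, CharTwo.sub_eq_add, CharTwo.sub_eq_add,
          add_comm g 1, CharTwo.add_self_eq_zero]
      have hM0 : g - 1 ≠ 0 := fun h => hgs 1 (by rw [one_smul]; exact sub_eq_zero.1 h)
      have hrank : ∀ M : Matrix (Fin 2) (Fin 2) F, M * M = 0 → M ≠ 0 → M.rank = 1 := by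
        intro M h1 h2
        have := rank_bound h1
        rw [Fintype.card_fin] at this
        have : M.rank ≠ 0 := fun h => h2 (Matrix.toLin'.injective (by
          rw [map_zero]
          exact LinearMap.range_eq_bot.1 (Submodule.finrank_eq_zero.1 h)))
        omega
      obtain ⟨P, hP⟩ := char_two_conj (fun a => (FiniteField.isSquare_of_char_two (ringChar.eq F 2) a).imp
        fun _ h => h.symm) hN hM hN0 (by rw [hrank N hN hN0, hrank _ hM hM0]) c
      rw [← hxe, add_sub_cancel] at hP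
      exact fixes hspan x (c • g) y₁ hy₁ (by rw [Matrix.smul_mul, Matrix.mul_smul, hgy]) P hP

end Cfsg.Agent.S5969
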