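import Cfsg.Statements.S5970
import Cfsg.Agent.Lib.SingerPrime
import Cfsg.Agent.S5968

set_option autoImplicit false
open scoped MatrixGroups
open Cfsg

namespace Cfsg.Agent.S5970

open scoped Matrix

/-- Elements of order `n` of PSL_n(q), `n` prime, and the normalizer of a Singer cycle. Here `T = PSL_n(F)` for a field `F` with `q = p^f` elements (`n ≥ 2`, `(n, q) ≠ (2, 2), (2, 3)`), `k` is a prime dividing `n`, `K` is a subalgebra of the `n × n` matrices that is a field of degree `k` over `F` (an extension-field structure F_{q^k} on `F^n`), and `H` is the subgroup of matrices of determinant 1 normalizing `K` — a subgroup of type GL_{n/k}(q^k) (maximal except in some small cases; maximality is not assumed); Ω is the set of cosets of `H` in `T`, so an element of `T` of prime order `r` (a matrix `x` of determinant 1 with `x^r` scalar, `x` not scalar) fixes a point of Ω when some conjugate of `x` by a matrix of determinant 1 normalizes `K`. Take `k = n > 3` prime with `n ≠ p` (so `H` is the normalizer of a Singer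 cycle), and suppose `n` divides the index of `H`. Then every element of `T` of order `n` is conjugate in `T` into `H` if and only if the multiplicative order of `q` modulo `n` is `n − 1`. -/
theorem result {F : Type*} [Field F] [Fintype F] {p : ℕ} [Fact p.Prime] [CharP F p] {q : ℕ} (hq : Fintype.card F = q)
    (n : ℕ) (hn : 2 ≤ n) (hT : (n, q) ≠ (2, 2) ∧ (n, q) ≠ (2, 3))
    (k : ℕ) (hk : k.Prime) (hkn : k ∣ n) (K : Subalgebra F (Matrix (Fin n) (Fin n) F)) (hK : Cfsg.Geo.IsFieldSubalgebra k K) (hkn' : k = n) (hn3 : 3 < n) (hnp : n ≠ p) (hΩ : n ∣ ((Cfsg.Geo.subalgebraNormalizer K).comap (Matrix.SpecialLinearGroup.toGL : Matrix.SpecialLinearGroup (Fin n) F →* GL (Fin n) F)).index) :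
    (∀ x : Matrix.SpecialLinearGroup (Fin n) F,
      (∃ z : F, ((x ^ n : Matrix.SpecialLinearGroup (Fin n) F) : Matrix (Fin n) (Fin n) F) = z • (1 : Matrix (Fin n) (Fin n) F)) →
      (∀ z : F, (x : Matrix (Fin n) (Fin n) F) ≠ z • (1 : Matrix (Fin n) (Fin n) F)) →
      ∃ P : Matrix.SpecialLinearGroup (Fin n) F, P⁻¹ * x * P ∈ ((Cfsg.Geo.subalgebraNormalizer K).comap (Matrix.SpecialLinearGroup.toGL : Matrix.SpecialLinearGroup (Fin n) F →* GL (Fin n) F))) ↔
    orderOf (q : ZMod n) = n - 1 := by
  classical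
  subst hkn'
  haveI : Fact k.Prime := ⟨hk⟩
  have hpr := Fact.out (p := p.Prime)
  constructor
  · intro hall
    by_contra hne
    obtain ⟨a, -, hqa⟩ := FiniteField.card F p
    have hq0 : (q : ZMod k) ≠ 0 := by
      rw [← hq, hqa, Nat.cast_pow]
      exact pow_ne_zero _ fun h => hnp ((Nat.prime_dvd_prime_iff_eq hk hpr).mp ((ZMod.natCast_eq_zero_iff _ _).mp h))
    set e := orderOf (q : ZMod k) with he
    have hdvd : e ∣ k - 1 := orderOf_dvd_of_pow_eq_one (ZMod.pow_card_sub_one_eq_one hq0)
    have hepos : 0 < e := orderOf_pos_iff.mpr ⟨k - 1, by omega, isPeriodicPt_mul_iff_pow_eq_one _ |>.mpr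
      (ZMod.pow_card_sub_one_eq_one hq0)⟩
    have he2 : e + 2 ≤ k := by
      obtain ⟨c, hc⟩ := hdvd
      rcases c with - | - | c
      · omega
      · exact absurd (by omega : e = k - 1) hne
      · have : e * 2 ≤ k - 1 := hc ▸ Nat.mul_le_mul_left e (by omega)
        omega
    have hq2 : 2 ≤ q := hq ▸ Fintype.one_lt_card
    have hiff : ∀ i, k ∣ q ^ i - 1 ↔ e ∣ i := fun i => by
      rw [orderOf_dvd_iff_pow_eq_one, ← ZMod.natCast_eq_zero_iff, Nat.cast_sub (Nat.one_le_pow _ _ (by omega)),
        Nat.cast_pow, Nat.cast_one, sub_eq_zero]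
    obtain ⟨m, hm, hdiv⟩ : ∃ m, m + 2 ≤ k ∧ k ∣ Nat.card (Matrix.SpecialLinearGroup (Fin m) F) := by
      by_cases he1 : e = 1
      · have hk1 : k ∣ q - 1 := by simpa using (hiff 1).mpr (by rw [he1])
        refine ⟨2, by omega, ?_⟩
        have h := Cfsg.Agent.S5968.card_SL_mul (F := F) (k := 2) hq (by norm_num)
        rw [Finset.prod_range_succ, Finset.prod_range_succ, Finset.prod_range_zero, one_mul, pow_zero,
          pow_one] at h
        have e2 : q ^ 2 - q = q * (q - 1) := by rw [Nat.mul_sub_one, pow_two]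
        rw [e2, ← mul_assoc] at h
        rw [Nat.eq_of_mul_eq_mul_right (by omega) h]
        refine Dvd.dvd.mul_right (dvd_trans hk1 ?_) _
        simpa using Nat.sub_dvd_pow_sub_pow q 1 2
      · refine ⟨e, he2, ?_⟩
        have h := Cfsg.Agent.S5968.card_SL_mul (F := F) (k := e) hq (by omega)
        obtain ⟨C, hC⟩ := Cfsg.Agent.S5968.prod_split q e
        rw [hC] at h
        have h2 : k ∣ Nat.card (Matrix.SpecialLinearGroup (Fin e) F) * (q - 1) := by
          rw [h]
          refine Dvd.dvd.mul_left (dvd_trans ((hiff e).mpr dvd_rfl) ?_) _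
          have := Finset.dvd_prod_of_mem (fun i => q ^ (i + 1) - 1) (Finset.mem_range.mpr (show e - 1 < e by omega))
          rwa [Nat.sub_add_cancel (show 1 ≤ e by omega)] at this
        refine (hk.dvd_mul.mp h2).resolve_right fun h' => he1 ?_
        exact Nat.dvd_one.mp ((hiff 1).mp (by simpa using h'))
    obtain ⟨A, hA⟩ := exists_prime_orderOf_dvd_card' k hdiv
    let ε : Fin m ⊕ Fin (k - m) ≃ Fin k := finSumFinEquiv.trans (finCongr (by omega))
    let X : Matrix (Fin k) (Fin k) F :=
      Matrix.reindex ε ε (Matrix.fromBlocks (A : Matrix (Fin m) (Fin m) F) 0 0 1)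
    have hdet : X.det = 1 := by
      rw [Matrix.det_reindex_self, Matrix.det_fromBlocks_zero₂₁, A.2, Matrix.det_one, mul_one]
    have hpowX : ∀ i : ℕ, X ^ i =
        Matrix.reindex ε ε (Matrix.fromBlocks ((A : Matrix (Fin m) (Fin m) F) ^ i) 0 0 1) := by
      intro i
      induction i with
      | zero => simp [Matrix.fromBlocks_one]
      | succ i ih =>
        rw [pow_succ, ih]
        simp only [X, Matrix.reindex_apply, Matrix.submatrix_mul_equiv, Matrix.fromBlocks_multiply]
        simp [pow_succ]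
    have hXr : X ^ k = 1 := by
      have hAk := pow_orderOf_eq_one A
      rw [hA] at hAk
      rw [hpowX, ← Matrix.SpecialLinearGroup.coe_pow, hAk,
        Matrix.SpecialLinearGroup.coe_one, Matrix.fromBlocks_one]
      simp
    have hA1 : (A : Matrix (Fin m) (Fin m) F) ≠ 1 := fun h => by
      have hA' : A = 1 := Subtype.ext h
      rw [hA', orderOf_one] at hA
      exact hk.one_lt.ne hA
    have hns : ∀ z : F, X ≠ z • 1 := fun z hz => by
      have h1 := congrFun (congrFun hz (ε (Sum.inr ⟨0, by omega⟩))) (ε (Sum.inr ⟨0, by omega⟩))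
      simp [X] at h1
      apply hA1
      ext i j
      have h2 := congrFun (congrFun hz (ε (Sum.inl i))) (ε (Sum.inl j))
      simpa [X, ← h1, Matrix.one_apply] using h2
    have hfix : ∀ j : Fin (k - m), X *ᵥ Pi.single (ε (Sum.inr j)) 1 = Pi.single (ε (Sum.inr j)) 1 := by
      intro j
      rw [Matrix.mulVec_single_one]
      funext i
      obtain ⟨i, rfl⟩ := ε.surjective i
      rcases i with i | i <;> simp [X, Matrix.col, Pi.single_apply, Matrix.one_apply]
    refine SingerPrime.not_conj hk hK ⟨X, hdet⟩ one_ne_zero (v := Pi.single (ε (Sum.inr ⟨0, by omega⟩)) 1)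
      (w := Pi.single (ε (Sum.inr ⟨1, by omega⟩)) 1) (by simp) (by rw [one_smul]; exact hfix _)
      (by rw [one_smul]; exact hfix _) (fun t ht => ?_) (hns 1)
      (hall ⟨X, hdet⟩ ⟨1, ?_⟩ hns)
    · have := congrFun ht (ε (Sum.inr ⟨1, by omega⟩))
      simp [Pi.single_apply] at this
    · rw [one_smul]
      exact (Matrix.SpecialLinearGroup.coe_pow _ _).trans hXr
  · intro hord x ⟨z, hz⟩ hns
    exact SingerPrime.conj_all hq hk (by omega) hord hK x hz (fun h => hns 1 (by rw [h, one_smul]))

end Cfsg.Agent.S5970
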