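import Cfsg.Statements.S5971
import Cfsg.Agent.Lib.SingerPrime
import Cfsg.Agent.S5968
import Cfsg.Agent.Lib.HeisenbergThree

set_option autoImplicit false
open scoped MatrixGroups
open Cfsg

namespace Cfsg.Agent.S5971

open scoped Matrix

theorem ord_two : orderOf ((2 : ℕ) : ZMod 3) = 2 :=
  orderOf_eq_prime (p := 2) (by decide) (by decide)

/-- Elements of order 3 of PSL_3(q) and the normalizer of a Singer cycle. Here `T = PSL_n(F)` for a field `F` with `q = p^f` elements (`n ≥ 2`, `(n, q) ≠ (2, 2), (2, 3)`), `k` is a prime dividing `n`, `K` is a subalgebra of the `n × n` matrices that is a field of degree `k` over `F` (an extension-field structure F_{q^k} on `F^n`), and `H` is the subgroup of matrices of determinant 1 normalizing `K` — a subgroup of type GL_{n/k}(q^k) (maximal except in some small cases; maximality is not assumed); Ω is the set of cosets of `H` in `T`, so an element of `T` of prime order `r` (a matrix `x` of determinant 1 with `x^r` scalar, `x` not scalar) fixes a point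 of Ω when some conjugate of `x` by a matrix of determinant 1 normalizes `K`. Take `n = k = 3` and suppose 3 divides the index of `H`. Then every element of `T` of order 3 is conjugate in `T` into `H` if and only if `q ≡ 4, 7` or `8 (mod 9)`. -/
theorem result {F : Type*} [Field F] [Fintype F] {p : ℕ} [Fact p.Prime] [CharP F p] {q : ℕ} (hq : Fintype.card F = q)
    (n : ℕ) (hn : n = 3) (k : ℕ) (hk : k.Prime) (hkn : k ∣ n) (K : Subalgebra F (Matrix (Fin n) (Fin n) F)) (hK : Cfsg.Geo.IsFieldSubalgebra k K) (hk3 : k = 3) (hΩ : 3 ∣ ((Cfsg.Geo.subalgebraNormalizer K).comap (Matrix.SpecialLinearGroup.toGL : Matrix.SpecialLinearGroup (Fin n) F →* GL (Fin n) F)).index) :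
    (∀ x : Matrix.SpecialLinearGroup (Fin n) F,
      (∃ z : F, ((x ^ 3 : Matrix.SpecialLinearGroup (Fin n) F) : Matrix (Fin n) (Fin n) F) = z • (1 : Matrix (Fin n) (Fin n) F)) →
      (∀ z : F, (x : Matrix (Fin n) (Fin n) F) ≠ z • (1 : Matrix (Fin n) (Fin n) F)) →
      ∃ P : Matrix.SpecialLinearGroup (Fin n) F, P⁻¹ * x * P ∈ ((Cfsg.Geo.subalgebraNormalizer K).comap (Matrix.SpecialLinearGroup.toGL : Matrix.SpecialLinearGroup (Fin n) F →* GL (Fin n) F))) ↔
    (q % 9 = 4 ∨ q % 9 = 7 ∨ q % 9 = 8) := by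
  classical
  subst hn
  subst hk3
  haveI : Fact (Nat.Prime 3) := ⟨hk⟩
  have hq2 : 2 ≤ q := hq ▸ Fintype.one_lt_card
  obtain ⟨y, hyN, hy3, hy1, v₀, hv₀, hfv₀⟩ := SingerPrime.exists_frob hq hk hK
  by_cases h0 : q % 3 = 0
  · -- characteristic three
    refine iff_of_false (fun hall => ?_) (by omega)
    have hchar : (3 : F) = 0 := by
      obtain ⟨a, hp, h2⟩ := FiniteField.card F p
      have hp3 : p = 3 := by
        have h := Nat.dvd_of_mod_eq_zero h0
        rw [← hq, h2] at h
        exact ((Nat.prime_dvd_prime_iff_eq hk hp).mp (hk.dvd_of_dvd_pow h)).symm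
      subst hp3
      exact_mod_cast CharP.cast_eq_zero F 3
    let X : Matrix (Fin 3) (Fin 3) F := !![1, 1, 0; 0, 1, 0; 0, 0, 1]
    have hdet : X.det = 1 := by simp [X, Matrix.det_fin_three]
    have hns : ∀ z : F, X ≠ z • 1 := fun z hz => by
      have := congrFun (congrFun hz 0) 1
      simp [X] at this
    refine SingerPrime.not_conj hk hK ⟨X, hdet⟩ one_ne_zero (v := Pi.single 0 1) (w := Pi.single 2 1)
      (by simp) ?_ ?_ (fun t ht => ?_) (hns 1) (hall ⟨X, hdet⟩ ⟨1, ?_⟩ hns)
    · rw [one_smul]; funext i; fin_cases i <;> simp [X]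
    · rw [one_smul]; funext i; fin_cases i <;> simp [X]
    · have := congrFun ht 2; simp at this
    · rw [one_smul]
      refine (Matrix.SpecialLinearGroup.coe_pow _ _).trans ?_
      show X ^ 3 = 1
      rw [pow_three]
      ext i j
      fin_cases i <;> fin_cases j <;> simp [X, Matrix.mul_apply, Fin.sum_univ_three] <;>
        linear_combination hchar
  by_cases h2 : q % 3 = 2
  · -- `q` has order two modulo three
    have hord : orderOf (q : ZMod 3) = 3 - 1 := by
      rw [← ZMod.natCast_mod q 3, h2]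
      exact ord_two
    refine iff_of_true (fun x ⟨z, hz⟩ hns =>
      SingerPrime.conj_all hq hk le_rfl hord hK x hz (fun h => hns 1 (by rw [h, one_smul]))) ?_
    by_contra h8
    -- the index is prime to three
    have hcop : ¬ 3 ∣ q - 1 := by omega
    have hydet : Matrix.GeneralLinearGroup.det y = 1 := by
      have h1 : orderOf (Matrix.GeneralLinearGroup.det y) ∣ 3 :=
        orderOf_dvd_of_pow_eq_one (by rw [← map_pow, hy3, map_one])
      rcases (Nat.dvd_prime hk).mp h1 with h | h
      · exact orderOf_eq_one_iff.mp h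
      · exact absurd (by rw [← h, ← hq, ← Fintype.card_units]; exact orderOf_dvd_card) hcop
    let Y : Matrix.SpecialLinearGroup (Fin 3) F :=
      ⟨(y : Matrix (Fin 3) (Fin 3) F), by
        rw [← Matrix.GeneralLinearGroup.val_det_apply, hydet, Units.val_one]⟩
    have hYy : Matrix.SpecialLinearGroup.toGL Y = y := Units.ext rfl
    have hY : orderOf Y = 3 := by
      have hinj : Function.Injective (Matrix.SpecialLinearGroup.toGL :
          Matrix.SpecialLinearGroup (Fin 3) F →* GL (Fin 3) F) := fun A B h =>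
        Subtype.ext (congrArg Units.val h)
      rw [← orderOf_injective _ hinj Y, hYy]
      exact orderOf_eq_prime hy3 hy1
    let H := (Cfsg.Geo.subalgebraNormalizer K).comap
      (Matrix.SpecialLinearGroup.toGL : Matrix.SpecialLinearGroup (Fin 3) F →* GL (Fin 3) F)
    have hYmem : Y ∈ H := by rw [Subgroup.mem_comap, hYy]; exact hyN
    have h3H : 3 ∣ Nat.card H := by
      have := orderOf_dvd_natCard (⟨Y, hYmem⟩ : H)
      rwa [Subgroup.orderOf_mk, hY] at this
    have hmul := Subgroup.card_mul_index H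
    obtain ⟨a, ha⟩ := h3H
    obtain ⟨b, hb⟩ := hΩ
    change H.index = 3 * b at hb
    rw [ha, hb] at hmul
    have hc := Cfsg.Agent.S5968.card_SL_mul (F := F) (k := 3) hq (by norm_num)
    rw [← hmul, Finset.prod_range_succ, Finset.prod_range_succ, Finset.prod_range_succ,
      Finset.prod_range_zero, one_mul, pow_zero, pow_one] at hc
    obtain ⟨m, rfl⟩ : ∃ m, q = 3 * m + 2 := ⟨q / 3, by omega⟩
    have hm : ¬ 3 ∣ m + 1 := by omega
    have e1 : (3 * m + 2) ^ 3 - 1 = (3 * m + 1) * (9 * m ^ 2 + 15 * m + 7) := by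
      rw [show (3 * m + 2) ^ 3 = (3 * m + 1) * (9 * m ^ 2 + 15 * m + 7) + 1 by ring, Nat.add_sub_cancel]
    have e2 : (3 * m + 2) ^ 3 - (3 * m + 2) = (3 * m + 2) * (3 * m + 1) * (3 * (m + 1)) := by
      rw [show (3 * m + 2) ^ 3 = (3 * m + 2) * (3 * m + 1) * (3 * (m + 1)) + (3 * m + 2) by ring,
        Nat.add_sub_cancel]
    have e3 : (3 * m + 2) ^ 3 - (3 * m + 2) ^ 2 = (3 * m + 2) ^ 2 * (3 * m + 1) := by
      rw [show (3 * m + 2) ^ 3 = (3 * m + 2) ^ 2 * (3 * m + 1) + (3 * m + 2) ^ 2 by ring, Nat.add_sub_cancel]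
    rw [e1, e2, e3, show 3 * m + 2 - 1 = 3 * m + 1 by omega] at hc
    have e : 3 * (a * b) = (9 * m ^ 2 + 15 * m + 7) * ((3 * m + 2) ^ 3 * (3 * m + 1) ^ 2) * (m + 1) := by
      apply Nat.eq_of_mul_eq_mul_left (show 0 < 3 * (3 * m + 1) by omega)
      linear_combination hc
    rcases hk.dvd_mul.mp (Dvd.intro _ e) with h | h
    · rcases hk.dvd_mul.mp h with h | h
      · have hd : 3 ∣ 9 * m ^ 2 + 15 * m + 6 := ⟨3 * m ^ 2 + 5 * m + 2, by ring⟩
        omega
      · rcases hk.dvd_mul.mp h with h | h <;>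
        · have := hk.dvd_of_dvd_pow h; omega
    · exact hm h
  have h1 : 3 ∣ q - 1 := by omega
  have root : ∀ d : ℕ, d ∣ q - 1 → ∃ η : F, orderOf η = d := by
    intro d hd
    obtain ⟨g, hg⟩ := IsCyclic.exists_ofOrder_eq_natCard (α := Fˣ)
    rw [Nat.card_units, Nat.card_eq_fintype_card, hq] at hg
    obtain ⟨m, hm⟩ := hd
    have hm0 : m ≠ 0 := fun e => by rw [e, mul_zero] at hm; omega
    refine ⟨((g ^ m : Fˣ) : F), ?_⟩
    rw [orderOf_units, orderOf_pow_of_dvd hm0 ⟨d, by rw [hg, hm, mul_comm]⟩, hg, hm,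
      Nat.mul_div_left _ (Nat.pos_of_ne_zero hm0)]
  by_cases h9 : q % 9 = 1
  · refine iff_of_false (fun hall => ?_) (by omega)
    obtain ⟨η, hη⟩ := root 9 (by omega)
    have hη0 : η ≠ 0 := fun e => by rw [e, orderOf_zero] at hη; omega
    have hη3 : η ^ 3 ≠ 1 := fun e => by
      have := orderOf_dvd_of_pow_eq_one e; rw [hη] at this; omega
    have hη9 : η ^ 9 = 1 := hη ▸ pow_orderOf_eq_one η
    let d : Fin 3 → F := ![η, η, (η ^ 2)⁻¹]
    have hdet : (Matrix.diagonal d).det = 1 := by
      simp [d, Fin.prod_univ_three]; field_simp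
    have hns : ∀ z : F, Matrix.diagonal d ≠ z • 1 := fun z hz => by
      have e0 := congrFun (congrFun hz 0) 0
      have e2 := congrFun (congrFun hz 2) 2
      simp [d] at e0 e2
      refine hη3 ?_
      rw [← e0] at e2
      field_simp at e2
      linear_combination -e2
    refine SingerPrime.not_conj hk hK ⟨Matrix.diagonal d, hdet⟩ hη0 (v := Pi.single 0 1) (w := Pi.single 1 1)
      (by simp) ?_ ?_ (fun t ht => ?_) (hns η) (hall ⟨Matrix.diagonal d, hdet⟩ ⟨η ^ 3, ?_⟩ hns)
    · funext i; fin_cases i <;> simp [d]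
    · funext i; fin_cases i <;> simp [d]
    · have := congrFun ht 1; simp at this
    · refine (Matrix.SpecialLinearGroup.coe_pow _ _).trans ?_
      show Matrix.diagonal d ^ 3 = _
      rw [Matrix.diagonal_pow, Matrix.smul_one_eq_diagonal]
      refine congrArg Matrix.diagonal (funext fun i => ?_)
      fin_cases i <;> simp [d] <;> field_simp <;> linear_combination -hη9
  refine iff_of_true ?_ (by omega)
  obtain ⟨ω, hω⟩ := root 3 h1
  have hω3 : ω ^ 3 = 1 := hω ▸ pow_orderOf_eq_one ω
  have hω1 : ω ≠ 1 := fun e => by rw [e, orderOf_one] at hω; omega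
  have h3F : (3 : F) ≠ 0 := by
    intro e
    obtain ⟨a, hp, h2'⟩ := FiniteField.card F p
    have hp3 := (Nat.prime_dvd_prime_iff_eq hp hk).mp ((CharP.cast_eq_zero_iff F p 3).mp (by exact_mod_cast e))
    rw [hq, hp3] at h2'
    have : 3 ∣ q := h2' ▸ dvd_pow_self 3 a.pos.ne'
    omega
  intro x ⟨z, hz⟩ hns
  have hdetx : (x : Matrix (Fin 3) (Fin 3) F).det = 1 := x.2
  have hx3 : (x : Matrix (Fin 3) (Fin 3) F) ^ 3 = z • 1 := by rw [← Matrix.SpecialLinearGroup.coe_pow]; exact hz
  have hz3 : z ^ 3 = 1 := by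
    have := congrArg Matrix.det hx3
    rw [Matrix.det_pow, hdetx, one_pow, Matrix.det_smul, Matrix.det_one, mul_one, Fintype.card_fin] at this
    exact this.symm
  -- a cube root of unity other than one is not a cube
  have hz1 : z = 1 := by
    by_contra hne
    have hzo : orderOf z = 3 := orderOf_eq_prime hz3 hne
    have hnc : ∀ b : F, b ^ 3 ≠ z := fun b hb => by
      have hb0 : b ≠ 0 := fun e => by rw [e, zero_pow (by norm_num)] at hb; rw [← hb, orderOf_zero] at hzo; omega
      have h9' : orderOf (Units.mk0 b hb0) = 3 ^ (1 + 1) := orderOf_eq_prime_pow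
        (fun e => hne (by rw [← hb]; simpa using congrArg Units.val e))
        (Units.ext (by rw [Units.val_pow_eq_pow_val, Units.val_mk0, Units.val_one,
          show (3 : ℕ) ^ (1 + 1) = 3 * 3 by norm_num, pow_mul, hb, hz3]))
      have h := orderOf_dvd_card (x := Units.mk0 b hb0)
      rw [h9', Fintype.card_units, hq] at h
      omega
    have hirr := X_pow_sub_C_irreducible_of_prime hk hnc
    have hmin : Polynomial.X ^ 3 - Polynomial.C z = minpoly F (x : Matrix (Fin 3) (Fin 3) F) :=
      minpoly.eq_of_irreducible_of_monic hirr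
        (by simp [hx3, Algebra.algebraMap_eq_smul_one]) (Polynomial.monic_X_pow_sub_C _ (by norm_num))
    have hdvd := Matrix.minpoly_dvd_charpoly (x : Matrix (Fin 3) (Fin 3) F)
    rw [← hmin] at hdvd
    have heq := Polynomial.eq_of_monic_of_dvd_of_natDegree_le (Polynomial.monic_X_pow_sub_C z (by norm_num))
      (Matrix.charpoly_monic (x : Matrix (Fin 3) (Fin 3) F)) hdvd
      (by rw [Polynomial.natDegree_X_pow_sub_C, Matrix.charpoly_natDegree_eq_dim, Fintype.card_fin])
    have hd := Matrix.det_eq_sign_charpoly_coeff (x : Matrix (Fin 3) (Fin 3) F)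
    rw [heq, hdetx, Fintype.card_fin] at hd
    simp [Polynomial.coeff_X_pow] at hd
    exact hne (by linear_combination -hd)
  rw [hz1, one_smul] at hx3
  have hxxx : (x : Matrix (Fin 3) (Fin 3) F) * x * x = 1 := by rw [← hx3, pow_three, mul_assoc]
  obtain ⟨P, l, hl, hP⟩ := HeisenbergThree.diag_of_span (x : Matrix (Fin 3) (Fin 3) F) {t | ∃ k : ℕ, t = ω ^ k}
    (HeisenbergThree.span_three hω3 hω1 h3F hxxx)
  obtain ⟨Q, m, hm, hQ⟩ := HeisenbergThree.diag_of_span (y : Matrix (Fin 3) (Fin 3) F) {t | ∃ k : ℕ, t = ω ^ k}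
    (HeisenbergThree.span_three hω3 hω1 h3F (by
      rw [← Units.val_mul, ← Units.val_mul, ← pow_two, ← pow_succ, hy3, Units.val_one]))
  have hcube : ∀ {t : F}, (∃ k : ℕ, t = ω ^ k) → t ^ 3 = 1 := fun ⟨k, hk'⟩ => by
    rw [hk', ← pow_mul, mul_comm, pow_mul, hω3, one_pow]
  have hinjl : Function.Injective l := by
    by_contra hnot
    obtain ⟨i, j, hij, hne⟩ := Function.not_injective_iff.mp hnot
    have hprod : l 0 * l 1 * l 2 = 1 := by
      have e := congrArg Matrix.det hP
      rw [Matrix.det_mul, Matrix.det_mul, hdetx, one_mul, Matrix.det_diagonal, Fin.prod_univ_three] at e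
      have hPd : (P : Matrix (Fin 3) (Fin 3) F).det ≠ 0 := by
        rw [← Matrix.GeneralLinearGroup.val_det_apply]; exact Units.ne_zero _
      exact mul_left_cancel₀ hPd (by rw [mul_one]; exact e.symm)
    have hall : ∀ k, l k = l i := by
      have c : ∀ k, l k ^ 3 = 1 := fun k => hcube (hl k)
      have solve : ∀ {u v : F}, u ^ 3 = 1 → u * u * v = 1 → v = u := fun {u v} h1 h2 =>
        mul_left_cancel₀ (pow_ne_zero 2 (fun e => by rw [e] at h2; simp at h2 : u ≠ 0))
          (by linear_combination h2 - h1)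
      have key : (l 0 = l 1 ∨ l 0 = l 2 ∨ l 1 = l 2) → l 0 = l 1 ∧ l 1 = l 2 := by
        rintro (h | h | h)
        · exact ⟨h, by
            rw [← h] at hprod
            rw [← h, solve (c 0) hprod]⟩
        · have e := solve (v := l 1) (c 0) (by rw [← h] at hprod; linear_combination hprod)
          exact ⟨e.symm, e.trans h⟩
        · have e := solve (v := l 0) (c 1) (by rw [← h] at hprod; linear_combination hprod)
          exact ⟨e, h⟩
      obtain ⟨e01, e12⟩ := key (by
        fin_cases i <;> fin_cases j <;> simp at hne hij <;> simp [hij])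
      intro k
      fin_cases i <;> fin_cases k <;> simp [e01, e12]
    refine hns (l i) ?_
    rw [show Matrix.diagonal l = l i • (1 : Matrix (Fin 3) (Fin 3) F) by
      rw [Matrix.smul_one_eq_diagonal]; exact congrArg Matrix.diagonal (funext hall), mul_smul_comm, mul_one] at hP
    calc (x : Matrix (Fin 3) (Fin 3) F) = (x : Matrix (Fin 3) (Fin 3) F) * P *
          ((P⁻¹ : GL (Fin 3) F) : Matrix (Fin 3) (Fin 3) F) := by rw [mul_assoc, Units.mul_inv, mul_one]
      _ = _ := by rw [hP, smul_mul_assoc, Units.mul_inv]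
  have hinjm : Function.Injective m := by
    by_contra hnot
    obtain ⟨i, j, hij, hne⟩ := Function.not_injective_iff.mp hnot
    have hm0 : m i ≠ 0 := fun e => by simpa [e] using hcube (hm i)
    have hcol : ∀ k, (y : Matrix (Fin 3) (Fin 3) F) *ᵥ (Q : Matrix (Fin 3) (Fin 3) F).col k =
        m k • (Q : Matrix (Fin 3) (Fin 3) F).col k := fun k => by
      funext r
      have := congrFun (congrFun hQ r) k
      rw [Matrix.mul_diagonal] at this
      simpa [Matrix.col, Matrix.mulVec, dotProduct, Matrix.mul_apply, mul_comm] using this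
    let cu : GL (Fin 3) F := Units.map (algebraMap F (Matrix (Fin 3) (Fin 3) F)).toMonoidHom (Units.mk0 (m i) hm0)
    have hcu : cu ∈ Cfsg.Geo.subalgebraNormalizer K := fun k => by
      have e : (cu : Matrix (Fin 3) (Fin 3) F) * k = k * (cu : Matrix (Fin 3) (Fin 3) F) := Algebra.commutes _ k
      rw [e, mul_assoc, Units.mul_inv, mul_one]
    have hfix : ∀ k, m k = m i → ((cu⁻¹ * y : GL (Fin 3) F) : Matrix (Fin 3) (Fin 3) F) *ᵥ
        (Q : Matrix (Fin 3) (Fin 3) F).col k = (Q : Matrix (Fin 3) (Fin 3) F).col k := fun k hk' => by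
      show (algebraMap F (Matrix (Fin 3) (Fin 3) F) (m i)⁻¹ * (y : Matrix (Fin 3) (Fin 3) F)) *ᵥ _ = _
      rw [Algebra.algebraMap_eq_smul_one, smul_mul_assoc, one_mul, Matrix.smul_mulVec, hcol, hk', smul_smul,
        inv_mul_cancel₀ hm0, one_smul]
    have hli : LinearIndependent F (Q : Matrix (Fin 3) (Fin 3) F).col :=
      Matrix.linearIndependent_cols_iff_isUnit.mpr Q.isUnit
    have hyne : cu⁻¹ * y ≠ 1 := fun e => by
      rw [inv_mul_eq_one] at e
      apply hy1
      have h := congrArg (fun g : GL (Fin 3) F => (g : Matrix (Fin 3) (Fin 3) F) *ᵥ v₀) e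
      simp only [hfv₀] at h
      have hcuv : (cu : Matrix (Fin 3) (Fin 3) F) *ᵥ v₀ = m i • v₀ := by
        show algebraMap F (Matrix (Fin 3) (Fin 3) F) (m i) *ᵥ v₀ = m i • v₀
        rw [Algebra.algebraMap_eq_smul_one, Matrix.smul_mulVec, Matrix.one_mulVec]
      have h' : m i • v₀ = v₀ := by rw [← hcuv]; exact h
      have h1' : m i = 1 := smul_left_injective F hv₀ (h'.trans (one_smul _ _).symm)
      rw [← e]
      exact Units.ext (by show algebraMap F (Matrix (Fin 3) (Fin 3) F) (m i) = 1; rw [h1', map_one])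
    obtain ⟨t, ht⟩ := SingerPrime.fixed_le hk hK (Subgroup.mul_mem _ (Subgroup.inv_mem _ hcu) hyN) hyne
      (hli.ne_zero i) (hfix i rfl) (hfix j hij.symm)
    have := (linearIndependent_iff'.mp hli) {i, j} (fun k => if k = j then 1 else -t) (by
      rw [Finset.sum_pair hne, if_neg hne, if_pos rfl, one_smul, ht, neg_smul, neg_add_cancel]) j (by simp)
    simp at this
  -- both take the same three values
  let root3 : Fin 3 → {t : F // t ^ 3 = 1} := fun i => ⟨ω ^ (i : ℕ), hcube ⟨_, rfl⟩⟩
  haveI : Fintype {t : F // t ^ 3 = 1} := Fintype.ofFinite _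
  have hcard3 : Fintype.card {t : F // t ^ 3 = 1} ≤ 3 := by
    have h0 : (Polynomial.X ^ 3 - Polynomial.C 1 : Polynomial F) ≠ 0 := Polynomial.X_pow_sub_C_ne_zero (by norm_num) 1
    rw [Fintype.card_subtype]
    refine le_trans (le_trans (Finset.card_le_card ?_) (Multiset.toFinset_card_le _))
      ((Polynomial.card_roots' _).trans (Polynomial.natDegree_X_pow_sub_C (n := 3) (r := (1 : F))).le)
    intro a ha
    simp only [Finset.mem_filter, Finset.mem_univ, true_and] at ha
    rw [Multiset.mem_toFinset, Polynomial.mem_roots h0]; simp [ha]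
  let lf : Fin 3 → {t : F // t ^ 3 = 1} := fun i => ⟨l i, hcube (hl i)⟩
  let mf : Fin 3 → {t : F // t ^ 3 = 1} := fun i => ⟨m i, hcube (hm i)⟩
  have hlf : Function.Bijective lf := by
    refine (Fintype.bijective_iff_injective_and_card lf).mpr ⟨fun a b e => hinjl (congrArg Subtype.val e), ?_⟩
    have := Fintype.card_le_of_injective lf fun a b e => hinjl (congrArg Subtype.val e)
    rw [Fintype.card_fin] at this ⊢
    omega
  let π : Fin 3 → Fin 3 := fun i => (Equiv.ofBijective lf hlf).symm (mf i)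
  have hπl : ∀ i, l (π i) = m i := fun i =>
    congrArg Subtype.val ((Equiv.ofBijective lf hlf).apply_symm_apply (mf i))
  have hπ : Function.Bijective π := Finite.injective_iff_bijective.mp fun a b e => hinjm (by
    rw [← hπl a, ← hπl b, e])
  have hunit : IsUnit ((P : Matrix (Fin 3) (Fin 3) F).submatrix id π) :=
    (Matrix.isUnit_submatrix_equiv (Equiv.refl _) (Equiv.ofBijective π hπ)).mpr P.isUnit
  have hxP : (x : Matrix (Fin 3) (Fin 3) F) * (hunit.unit : GL (Fin 3) F) =
      ((hunit.unit : GL (Fin 3) F) : Matrix (Fin 3) (Fin 3) F) * Matrix.diagonal m := by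
    rw [IsUnit.unit_spec]
    ext i j
    have e := congrFun (congrFun hP i) (π j)
    rw [Matrix.mul_diagonal, hπl] at e
    rw [Matrix.mul_diagonal]
    exact e
  obtain ⟨g, hg, hge⟩ := HeisenbergThree.conj_of_diag (x := Matrix.SpecialLinearGroup.toGL x) hxP hQ
  let S : Matrix.SpecialLinearGroup (Fin 3) F := ⟨(g : Matrix (Fin 3) (Fin 3) F), by
    rw [← Matrix.GeneralLinearGroup.val_det_apply, show Matrix.GeneralLinearGroup.det g = 1 from hg, Units.val_one]⟩
  refine ⟨S, ?_⟩
  have hS : Matrix.SpecialLinearGroup.toGL S = g := Units.ext rfl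
  rw [Subgroup.mem_comap, map_mul, map_mul, map_inv, hS, hge]
  exact hyN

end Cfsg.Agent.S5971
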