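import Cfsg.Statements.S5972
import Cfsg.Agent.Lib.OrthTSBridge97
import Cfsg.Agent.Lib.OrthTSCountP97
import Cfsg.Agent.Lib.OrthTSTwoIff97
import Cfsg.Agent.Lib.OrthTSArith97

set_option autoImplicit false
open scoped MatrixGroups
open Cfsg

namespace Cfsg.Agent.S5972

/-- Elements of prime order of Ω_n(q), n = 2d+1 ≥ 7, q odd, with no fixed totally singular `m`-space. Here `T = Ω_n(q)` is realised as the commutator subgroup of the isometry group of the quadratic form `x₀² + Σ xᵢyᵢ` over the field `F` with `q` elements (it has trivial centre, so its elements of prime order `r` are used directly); let `1 ≤ m ≤ d` and let `r` be a prime dividing the number of totally singular `m`-spaces. For `r ≠ p` let `i` be the multiplicative order of `q` modulo `r`, `c = i` for `i` even and `c = 2i` for `i` odd, and write `k = n mod c`, `ℓ = m mod i`, `n' = ⌊n/i⌋`, `m' = ⌊m/i⌋`, `t = (r−1)/i`. Then every element of `T` of order `r` fixes some totally singular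 `m`-space if and only if either (i) `r = 2` and (`m < (n−1)/2` or `q ≡ 1 (mod 4)`); or (ii) `r ≠ p` is odd, `i ≤ m`, `k > 2ℓ`, and (`i` is odd or `n' − 2m' ≥ t`). -/
theorem result {F : Type*} [Field F] [Fintype F] {p : ℕ} [Fact p.Prime] [CharP F p] {q : ℕ} (hq : Fintype.card F = q) (hqodd : Odd q)
    (d m : ℕ) (hd : 3 ≤ d) (hm : 1 ≤ m) (hmd : m ≤ d)
    (r : ℕ) [Fact r.Prime]
    (hrΩ : r ∣ Nat.card {W : Submodule F (Unit ⊕ (Fin d ⊕ Fin d) → F) // Module.finrank F ↥W = m ∧ (∀ w ∈ W, Cfsg.quadFormOdd d F w = 0)})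
    (i c : ℕ) (hi : i = orderOf (q : ZMod r)) (hc : c = if Even i then i else 2 * i) :
    (∀ x : GL (Unit ⊕ (Fin d ⊕ Fin d)) F, x ∈ Cfsg.Geo.omegaGL (Cfsg.quadFormOdd d F) → orderOf x = r →
      ∃ W : Submodule F (Unit ⊕ (Fin d ⊕ Fin d) → F), Module.finrank F ↥W = m ∧ (∀ w ∈ W, Cfsg.quadFormOdd d F w = 0) ∧
        W.map (Matrix.toLin' (x : Matrix (Unit ⊕ (Fin d ⊕ Fin d)) (Unit ⊕ (Fin d ⊕ Fin d)) F)) ≤ W) ↔
    ((r = 2 ∧ (m < d ∨ q % 4 = 1)) ∨
     (r ≠ p ∧ 2 < r ∧ i ≤ m ∧ 2 * (m % i) < (2 * d + 1) % c ∧ (Odd i ∨ (r - 1) / i + 2 * (m / i) ≤ (2 * d + 1) / i))) := by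
  subst hq
  have hp2 : (2 : F) ≠ 0 := OmegaStd.two_ne_zero rfl hqodd
  rw [← QuadClassify.qOdd_coe] at hrΩ ⊢
  set Q := QuadClassify.qOdd d F
  have hQ : (QuadraticMap.polarBilin Q).Nondegenerate := OmegaMaxGlue.nondeg_odd hp2
  have hn : Module.finrank F (Unit ⊕ (Fin d ⊕ Fin d) → F) = 2 * d + 1 := by simp; omega
  obtain ⟨κ, hκ⟩ := OrthTSKind97.exists_ty hQ
  obtain rfl : κ = 1 := by have := hκ.mod_two; have := hκ.le_two; omega
  have hexc : Fintype.card F ≠ 2 ∨ Module.finrank F (Unit ⊕ (Fin d ⊕ Fin d) → F) ≠ 4 :=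
    Or.inr (by omega)
  have hr := (Fact.out : r.Prime)
  have hrp : r ≠ p := fun h => by
    subst h
    exact OrthTSCountP97.not_dvd hQ hκ (m := m) (by omega) (by omega) hrΩ
  rcases eq_or_ne r 2 with rfl | hr2
  · rw [OrthTSTwoIff97.bridge_order_two, OrthTSTwoIff97.odd_iff hQ hexc hp2 hn (by omega) hmd,
      FiniteField.isSquare_neg_one_iff]
    have := Nat.odd_iff.1 hqodd
    constructor
    · rintro (h | h)
      · exact Or.inl ⟨rfl, Or.inl h⟩
      · exact Or.inl ⟨rfl, Or.inr (by omega)⟩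
    · rintro (⟨-, h | h⟩ | h)
      · exact Or.inl h
      · exact Or.inr (by omega)
      · omega
  have hrF : (r : F) ≠ 0 := by
    rw [Ne, CharP.cast_eq_zero_iff F p, Nat.prime_dvd_prime_iff_eq Fact.out hr]
    exact hrp.symm
  have hr3 : 2 < r := lt_of_le_of_ne hr.two_le hr2.symm
  have hi0 : 0 < i := hi ▸ PrimeOrderModule84.orderOf_card_pos hrF
  have ht : (r - 1) / i * i = r - 1 := Nat.div_mul_cancel (hi ▸ ZMod.orderOf_dvd_card_sub_one
    (PrimeOrderModule84.natCast_card_ne_zero hrF))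
  have hb := OrthTSSplit97.bet_pos hi0
  have htb := OrthTSSplit97.two_bet i
  have hk : ∀ K, OrthTSSplit97.kap i 1 K = 1 := fun K => by
    unfold OrthTSSplit97.kap; split_ifs <;> rfl
  have hD : Module.finrank F (Unit ⊕ (Fin d ⊕ Fin d) → F) / 2 = d := by omega
  obtain ⟨hV, hmax⟩ := OrthTSArith97.max_div (n := Module.finrank F (Unit ⊕ (Fin d ⊕ Fin d) → F))
    (κ := 1) hb rfl (by
      rw [hk, hD]
      have := Nat.div_mul_le_self d (OrthTSSplit97.bet i)
      rw [mul_comm] at this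
      omega)
  rw [OrthTSBridge97.bridge_order hQ hexc hr hr2,
    OrthTSIff97.allFix_iff (p := p) hrp hQ hrF hr2 hi ht hκ (by omega) hV hmax hrΩ]
  have hw : OrthTSSplit97.wit i (Module.finrank F (Unit ⊕ (Fin d ⊕ Fin d) → F)) 1
      (d / OrthTSSplit97.bet i) = d % OrthTSSplit97.bet i := by
    unfold OrthTSSplit97.wit
    rw [hk, hD]
    have := Nat.div_add_mod d (OrthTSSplit97.bet i)
    omega
  rw [hD, hw]
  have hdm := Nat.div_add_mod d (OrthTSSplit97.bet i)
  have hlt := Nat.mod_lt d hb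
  simp only [hr2, hrp, hr3, ne_eq, not_false_eq_true, true_and, false_and, false_or]
  rcases Nat.even_or_odd i with he | ho
  · rw [if_pos he] at hc
    subst hc
    have hb2 := htb.1 he
    obtain ⟨h1, h2⟩ := OrthTSArith97.divmod (n := 2 * d + 1) (c := c) (a := d / OrthTSSplit97.bet c)
      (b := 2 * (d % OrthTSSplit97.bet c) + 1) (by
        conv_rhs => arg 1; arg 1; rw [← hb2]
        rw [mul_assoc]; omega) (by omega)
    rw [h1, h2]
    simp only [he, Nat.not_odd_iff_even.2 he, forall_const, false_or]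
    constructor
    · rintro ⟨a, b, e⟩; exact ⟨a, by omega, b⟩
    · rintro ⟨a, b, e⟩; exact ⟨a, e, by omega⟩
  · rw [if_neg (Nat.not_even_iff_odd.2 ho)] at hc
    have hb2 := htb.2 ho
    rw [hb2] at hdm hlt ⊢
    obtain ⟨-, h2⟩ := OrthTSArith97.divmod (n := 2 * d + 1) (c := c) (a := d / i)
      (b := 2 * (d % i) + 1) (by rw [hc, mul_assoc]; omega) (by omega)
    rw [h2]
    simp only [ho, Nat.not_even_iff_odd.2 ho, IsEmpty.forall_iff, true_or, and_true, true_and]
    constructor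
    · rintro ⟨a, e⟩; exact ⟨a, by omega⟩
    · rintro ⟨a, e⟩; exact ⟨a, by omega⟩

end Cfsg.Agent.S5972
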