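import Cfsg.Statements.S5973
import Cfsg.Agent.Lib.OrthTSBridge97
import Cfsg.Agent.Lib.OrthTSCountP97
import Cfsg.Agent.Lib.OrthTSTwoIff97
import Cfsg.Agent.Lib.OrthTSArith97

set_option autoImplicit false
open scoped MatrixGroups
open Cfsg

namespace Cfsg.Agent.S5973

/-- Elements of prime order of PΩ⁺_n(q), n = 2d ≥ 8, with no fixed totally singular `m`-space, `m < n/2`. Here `T = PΩ⁺_n(q)` is realised through `Ω⁺_n(q)`, the commutator subgroup of the isometry group of the quadratic form `Σ xᵢyᵢ` over the field `F` with `q` elements; an element of `T` of prime order `r` is an element `x` of `Ω⁺_n(q)` with `x^r` scalar and `x` not scalar. Let `1 ≤ m < d` and let `r` be a prime dividing the number of totally singular `m`-spaces. For `r ≠ p` let `i` be the multiplicative order of `q` modulo `r`, `c = i` for `i` even and `c = 2i` for `i` odd, and write `k = n mod c`, `ℓ = m mod i`, `n' = ⌊n/i⌋`, `m' = ⌊m/i⌋`, `t = (r−1)/i`.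 Then every element of `T` of order `r` fixes some totally singular `m`-space if and only if one of: (i) `r = 2 ≠ p` and either `q ≡ 1 (mod 4)`, or `q ≡ 3 (mod 4)`, `m ≤ n/2 − 2` and (`m` even or `n ≡ 2 (mod 4)`); (ii) `r ≠ p` odd, `i` odd, `i ≤ m` and `k ≥ 2ℓ`; (iii) `r ≠ p` odd, `i` even, `i ≤ m`, `n' − 2m' ≥ t`, and one of: `i ≥ 2ℓ`, `k = 0`, `n/i` odd and `n' − 2m' > t`; or `k ≥ 2ℓ` and `n'` even; or `k > 2ℓ` and `n'` odd. -/
theorem result {F : Type*} [Field F] [Fintype F] {p : ℕ} [Fact p.Prime] [CharP F p] {q : ℕ} (hq : Fintype.card F = q)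
    (d m : ℕ) (hd : 4 ≤ d) (hm : 1 ≤ m) (hmd : m < d)
    (r : ℕ) [Fact r.Prime]
    (hrΩ : r ∣ Nat.card {W : Submodule F (Fin d ⊕ Fin d → F) // Module.finrank F ↥W = m ∧ (∀ w ∈ W, Cfsg.quadFormPlus d F w = 0)})
    (i c : ℕ) (hi : i = orderOf (q : ZMod r)) (hc : c = if Even i then i else 2 * i) :
    (∀ x : GL (Fin d ⊕ Fin d) F, x ∈ Cfsg.Geo.omegaGL (Cfsg.quadFormPlus d F) →
      (∃ z : F, ((x ^ r : GL (Fin d ⊕ Fin d) F) : Matrix (Fin d ⊕ Fin d) (Fin d ⊕ Fin d) F) = z • (1 : Matrix (Fin d ⊕ Fin d) (Fin d ⊕ Fin d) F)) →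
      (∀ z : F, (x : Matrix (Fin d ⊕ Fin d) (Fin d ⊕ Fin d) F) ≠ z • (1 : Matrix (Fin d ⊕ Fin d) (Fin d ⊕ Fin d) F)) →
      ∃ W : Submodule F (Fin d ⊕ Fin d → F), Module.finrank F ↥W = m ∧ (∀ w ∈ W, Cfsg.quadFormPlus d F w = 0) ∧
        W.map (Matrix.toLin' (x : Matrix (Fin d ⊕ Fin d) (Fin d ⊕ Fin d) F)) ≤ W) ↔
    ((r = 2 ∧ p ≠ 2 ∧ (q % 4 = 1 ∨ (q % 4 = 3 ∧ m + 2 ≤ d ∧ (Even m ∨ (2 * d) % 4 = 2)))) ∨
     (r ≠ p ∧ 2 < r ∧ Odd i ∧ i ≤ m ∧ 2 * (m % i) ≤ (2 * d) % c) ∨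
     (r ≠ p ∧ 2 < r ∧ Even i ∧ i ≤ m ∧ (r - 1) / i + 2 * (m / i) ≤ (2 * d) / i ∧
       ((2 * (m % i) ≤ i ∧ (2 * d) % c = 0 ∧ Odd ((2 * d) / i) ∧ (r - 1) / i + 2 * (m / i) < (2 * d) / i) ∨
        (2 * (m % i) ≤ (2 * d) % c ∧ Even ((2 * d) / i)) ∨
        (2 * (m % i) < (2 * d) % c ∧ Odd ((2 * d) / i))))) := by
  subst hq
  rw [← QuadClassify.qPlus_coe] at hrΩ ⊢
  set Q := QuadClassify.qPlus d F
  have hQ : (QuadraticMap.polarBilin Q).Nondegenerate := OmegaStd.nondeg_plus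
  have hn : Module.finrank F (Fin d ⊕ Fin d → F) = 2 * d := OmegaStd.finrank_plus
  obtain ⟨κ, hκ⟩ := OrthTSKind97.exists_ty hQ
  obtain rfl : κ = 0 := by
    have h := hκ.bound OmegaStd.lagr_plus.1
    have h2 := OmegaStd.finrank_ker_funLeft (F := F) (j := (Sum.inr : Fin d → Fin d ⊕ Fin d)) Sum.inr_injective
    rw [Fintype.card_sum, Fintype.card_fin] at h2
    omega
  have hne : Nonempty (Fin d ⊕ Fin d) := ⟨Sum.inl ⟨0, by omega⟩⟩
  have hexc : Fintype.card F ≠ 2 ∨ Module.finrank F (Fin d ⊕ Fin d → F) ≠ 4 := Or.inr (by omega)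
  have hr := (Fact.out : r.Prime)
  have hrp : r ≠ p := fun h => by
    subst h
    exact OrthTSCountP97.not_dvd hQ hκ (m := m) (by omega) (by omega) hrΩ
  rcases eq_or_ne r 2 with rfl | hr2
  · have hp2 : (2 : F) ≠ 0 := by
      intro h
      have h' : ((2 : ℕ) : F) = 0 := by exact_mod_cast h
      rw [CharP.cast_eq_zero_iff F p, Nat.prime_dvd_prime_iff_eq Fact.out Nat.prime_two] at h'
      exact hrp h'.symm
    have hq2 : Fintype.card F % 2 = 1 := QuadClassify.card_odd hp2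
    rw [OrthTSTwoIff97.bridge_scalar_two,
      (OrthTSTwoIff97.even_iff hQ hexc hp2 hn (by omega) hκ hmd).1 rfl, FiniteField.isSquare_neg_one_iff]
    constructor
    · rintro (h | ⟨h, h', h''⟩)
      · exact Or.inl ⟨rfl, fun e => hrp e.symm, Or.inl (by omega)⟩
      · refine Or.inl ⟨rfl, fun e => hrp e.symm, Or.inr ⟨by omega, h', h''.imp id fun ho => ?_⟩⟩
        rw [Nat.odd_iff] at ho
        omega
    · rintro (⟨-, -, h | ⟨h, h', h''⟩⟩ | h | h)
      · exact Or.inl (by omega)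
      · refine Or.inr ⟨by omega, h', h''.imp id fun ho => ?_⟩
        rw [Nat.odd_iff]
        omega
      · omega
      · omega
  have hrF : (r : F) ≠ 0 := by
    rw [Ne, CharP.cast_eq_zero_iff F p, Nat.prime_dvd_prime_iff_eq Fact.out hr]
    exact hrp.symm
  have hr3 : 2 < r := lt_of_le_of_ne hr.two_le hr2.symm
  have hi0 : 0 < i := hi ▸ PrimeOrderModule84.orderOf_card_pos hrF
  have ht : (r - 1) / i * i = r - 1 := Nat.div_mul_cancel (hi ▸ ZMod.orderOf_dvd_card_sub_one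
    (PrimeOrderModule84.natCast_card_ne_zero hrF))
  have hb := OrthTSSplit97.bet_pos hi0
  have htb := OrthTSSplit97.two_bet i
  simp only [hr2, hrp, hr3, ne_eq, not_false_eq_true, true_and, false_and, false_or]
  rw [OrthTSBridge97.bridge_scalar hQ hexc hr hr2]
  rcases Nat.even_or_odd i with he | ho
  · rw [if_pos he] at hc
    subst c
    obtain ⟨K₀, hV, hmax, hw⟩ := OrthTSArith97.max_even (d := d) (κ := 0) he hb (by omega) (by omega)
    rw [OrthTSIff97.allFix_iff (p := p) hrp hQ hrF hr2 hi ht hκ (by omega) (K₀ := K₀) (hn ▸ hV)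
      (fun K h => hmax K (hn ▸ h)) hrΩ, hn]
    have hb2 := htb.1 he
    have hdm := Nat.div_add_mod d (OrthTSSplit97.bet i)
    have hlt := Nat.mod_lt d hb
    obtain ⟨h1, h2⟩ := OrthTSArith97.divmod (n := 2 * d) (c := i) (a := d / OrthTSSplit97.bet i)
      (b := 2 * (d % OrthTSSplit97.bet i)) (by
        conv_rhs => arg 1; arg 1; rw [← hb2]
        rw [mul_assoc]; omega) (by omega)
    rw [h1, h2]
    simp only [he, Nat.not_odd_iff_even.2 he, forall_const, false_and, false_or, true_and]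
    simp only [Nat.even_iff, Nat.odd_iff]
    constructor
    · rintro ⟨ha, h3, h4⟩; exact ⟨ha, by omega, by omega⟩
    · rintro ⟨ha, h3, h4⟩; exact ⟨ha, by omega, by omega⟩
  · rw [if_neg (Nat.not_even_iff_odd.2 ho)] at hc
    have hb2 := htb.2 ho
    have hk : ∀ K, OrthTSSplit97.kap i 0 K = 0 := fun K => by
      unfold OrthTSSplit97.kap; rw [if_neg (fun h => Nat.not_even_iff_odd.2 ho h.1)]
    obtain ⟨hV, hmax⟩ := OrthTSArith97.max_div (n := Module.finrank F (Fin d ⊕ Fin d → F)) (κ := 0) hb rfl (by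
      rw [hk]
      have := Nat.div_mul_le_self (Module.finrank F (Fin d ⊕ Fin d → F) / 2) (OrthTSSplit97.bet i)
      rw [mul_comm] at this
      omega)
    rw [OrthTSIff97.allFix_iff (p := p) hrp hQ hrF hr2 hi ht hκ (by omega) hV hmax hrΩ]
    unfold OrthTSSplit97.wit
    rw [hk, hb2, hn, Nat.mul_div_cancel_left d two_pos]
    have hdm := Nat.div_add_mod d i
    have hlt := Nat.mod_lt d hi0
    obtain ⟨-, h2⟩ := OrthTSArith97.divmod (n := 2 * d) (c := c) (a := d / i)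
      (b := 2 * (d % i)) (by rw [hc, mul_assoc]; omega) (by omega)
    rw [h2]
    simp only [ho, Nat.not_even_iff_odd.2 ho, IsEmpty.forall_iff, false_and, or_false, true_and]
    constructor
    · rintro ⟨ha, h4⟩; exact ⟨ha, by omega⟩
    · rintro ⟨ha, h4⟩; exact ⟨ha, by omega⟩

end Cfsg.Agent.S5973
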