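import Cfsg.Statements.S5974
import Cfsg.Agent.Lib.OrthHypElems93

set_option autoImplicit false
open scoped MatrixGroups
open Cfsg

namespace Cfsg.Agent.S5974

open Module
open QuadraticMap (polar polarBilin)
open Cfsg.Agent.QuadClassify (Nondeg qPlus qPlus_coe)
open Cfsg.Agent.OrthBlocks61 Cfsg.Agent.OrthIsoClasses61 Cfsg.Agent.OrthSubspaceFix61
open Cfsg.Agent.OrthHypFix93 Cfsg.Agent.OrthHypElems93

universe u

variable {F : Type u} [Field F] {d : ℕ}

/-- The subspaces of the statement. -/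
theorem pred_iff (W : Submodule F (Fin d ⊕ Fin d → F)) (m : ℕ) :
    (Module.finrank F ↥W = m ∧ (∀ u ∈ W, u ≠ 0 → ∃ v ∈ W, QuadraticMap.polar (Cfsg.quadFormPlus d F) u v ≠ 0) ∧
      ∃ U : Submodule F (Fin d ⊕ Fin d → F), U ≤ W ∧ 2 * Module.finrank F ↥U = m ∧
        ∀ u ∈ U, Cfsg.quadFormPlus d F u = 0) ↔
    (finrank F W = m ∧ Nondeg (qPlus d F) W ∧ Plus (qPlus d F) W) := by
  rw [← qPlus_coe]
  constructor
  · rintro ⟨hd, hn, U, hU, hUd, hU0⟩
    refine ⟨hd, fun u hu h => ?_, U, hU, hU0, hUd.trans hd.symm⟩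
    by_contra hu0
    obtain ⟨v, hv, hne⟩ := hn u hu hu0
    exact hne (h v hv)
  · rintro ⟨hd, hn, U, hU, hU0, hUd⟩
    refine ⟨hd, fun u hu hu0 => ?_, U, hU, hUd.trans hd, hU0⟩
    by_contra hc
    push Not at hc
    exact hu0 (hn u hu hc)

theorem map_le_iff {g : Module.End F (Fin d ⊕ Fin d → F)} {W : Submodule F (Fin d ⊕ Fin d → F)} :
    W.map g ≤ W ↔ ∀ v ∈ W, g v ∈ W := Submodule.map_le_iff_le_comap

/-- Arithmetic for an odd order. -/
theorem odd_arith {N M c : ℕ} (hc : 0 < c) (hM : M ≤ N) (hMc : c ≤ M) :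
    (c ∣ M ∨ c ∣ N - M ∨ (0 < M % c ∧ (M % c < N % c ∨ (N % c = 0 ∧ ¬ c ∣ N)))) ↔ M % c ≤ N % c := by
  have h3 : c ∣ N - M ↔ M % c = N % c := (Nat.modEq_iff_dvd' hM).symm
  rw [Nat.dvd_iff_mod_eq_zero, h3, Nat.dvd_iff_mod_eq_zero]
  omega

/-- Arithmetic for an even order. -/
theorem even_arith {N M i : ℕ} (hi : 0 < i) (hM : M ≤ N) (hM0 : 0 < M)
    (himp : (0 < M % i ∧ N % i = 0 ∧ ¬ Even (N / i)) → i ≤ M) :
    (i ≤ M ∧ ((i ∣ M ∧ Even (M / i)) ∨ (i ∣ N - M ∧ Even ((N - M) / i)) ∨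
      (0 < M % i ∧ (M % i < N % i ∨ (N % i = 0 ∧ ¬ (i ∣ N ∧ Even (N / i))))))) ↔
    ((N % i = 0 ∧ (Odd (N / i) ∨ (M % i = 0 ∧ Even (M / i)))) ∨
      (i ≤ M ∧ ((M % i < N % i ∧ 0 < M % i) ∨
        (N % i = M % i ∧ 0 < M % i ∧ Even ((N + M - 2 * (N % i)) / i)) ∨
        (0 < N % i ∧ M % i = 0 ∧ Even (M / i))))) := by
  have hN := Nat.div_add_mod N i
  have hA := Nat.div_add_mod M i
  have hle : M / i ≤ N / i := Nat.div_le_div_right hM
  have h3 : i ∣ N - M ↔ M % i = N % i := (Nat.modEq_iff_dvd' hM).symm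
  have e1 : M % i = N % i → (N - M) / i = N / i - M / i := fun e => by
    rw [show N - M = i * (N / i - M / i) by rw [Nat.mul_sub]; omega, Nat.mul_div_cancel_left _ hi]
  have e2 : M % i = N % i → (N + M - 2 * (N % i)) / i = N / i + M / i := fun e => by
    rw [show N + M - 2 * (N % i) = i * (N / i + M / i) by rw [Nat.mul_add]; omega,
      Nat.mul_div_cancel_left _ hi]
  have h4 : M % i = 0 → i ≤ M := fun e => Nat.le_of_dvd hM0 (Nat.dvd_of_mod_eq_zero e)
  rw [h3, Nat.dvd_iff_mod_eq_zero, Nat.dvd_iff_mod_eq_zero]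
  simp only [Nat.even_iff, Nat.odd_iff] at himp ⊢
  by_cases he : M % i = N % i
  · rw [e1 he, e2 he]
    generalize N / i = A at *
    generalize M / i = B at *
    omega
  · simp only [he, false_and, false_or]
    generalize (N + M - 2 * (N % i)) / i = C at *
    generalize N / i = A at *
    generalize M / i = B at *
    omega


/-- Elements of prime order of PΩ⁺_n(q), n = 2d ≥ 8, with no fixed nondegenerate hyperbolic `m`-space. Here `T = PΩ⁺_n(q)` is realised through `Ω⁺_n(q)`, the commutator subgroup of the isometry group of `Q = Σ xᵢyᵢ` over the field `F` with `q` elements; an element of `T` of prime order `r` is an element `x` of `Ω⁺_n(q)` with `x^r` scalar and `x` not scalar. A hyperbolic `m`-space is a subspace `W` of even dimension `m` on which the polar form of `Q` is nondegenerate and which contains a totally singular subspace of dimension `m/2`. Let `m` be even with `2 ≤ m < n/2`, and let `r` be a prime dividing the number of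 hyperbolic `m`-spaces, with `r = 2` or `r ≠ p`. For `r ≠ p` let `i` be the multiplicative order of `q` modulo `r`, `c = i` for `i` even and `c = 2i` for `i` odd, and write `k = n mod c`, `ℓ' = m mod c`. Then every element of `T` of order `r` fixes some hyperbolic `m`-space if and only if one of: (i) `r = 2` and (`n ≡ 2 (mod 4)`, or `m ≡ 0 (mod 4)`, or `q ≡ 1 (mod 4)`); (ii) `r ≠ p` odd, `i` odd, `c ≤ m` and `k ≥ ℓ'`; (iii) `r ≠ p` odd, `i` even, and either `k = 0` and (`n/i` odd, or `ℓ' = 0` and `m/i` even), or `i ≤ m` and (`k > ℓ' > 0`, or `k = ℓ' > 0` and `(n + m − 2k)/i` even, or `k > ℓ' = 0` and `m/i` even). -/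
theorem result {F : Type*} [Field F] [Fintype F] {p : ℕ} [Fact p.Prime] [CharP F p] {q : ℕ} (hq : Fintype.card F = q)
    (d m : ℕ) (hd : 4 ≤ d) (hm : 2 ≤ m) (hme : Even m) (hmd : m < d)
    (r : ℕ) [Fact r.Prime] (hr : r = 2 ∨ r ≠ p)
    (hrΩ : r ∣ Nat.card {W : Submodule F (Fin d ⊕ Fin d → F) // (Module.finrank F ↥W = m ∧ (∀ u ∈ W, u ≠ 0 → ∃ v ∈ W, QuadraticMap.polar (Cfsg.quadFormPlus d F) u v ≠ 0) ∧
          ∃ U : Submodule F (Fin d ⊕ Fin d → F), U ≤ W ∧ 2 * Module.finrank F ↥U = m ∧ ∀ u ∈ U, Cfsg.quadFormPlus d F u = 0)})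
    (i c : ℕ) (hi : i = orderOf (q : ZMod r)) (hc : c = if Even i then i else 2 * i) :
    (∀ x : GL (Fin d ⊕ Fin d) F, x ∈ Cfsg.Geo.omegaGL (Cfsg.quadFormPlus d F) →
      (∃ z : F, ((x ^ r : GL (Fin d ⊕ Fin d) F) : Matrix (Fin d ⊕ Fin d) (Fin d ⊕ Fin d) F) = z • (1 : Matrix (Fin d ⊕ Fin d) (Fin d ⊕ Fin d) F)) →
      (∀ z : F, (x : Matrix (Fin d ⊕ Fin d) (Fin d ⊕ Fin d) F) ≠ z • (1 : Matrix (Fin d ⊕ Fin d) (Fin d ⊕ Fin d) F)) →
      ∃ W : Submodule F (Fin d ⊕ Fin d → F), (Module.finrank F ↥W = m ∧ (∀ u ∈ W, u ≠ 0 → ∃ v ∈ W, QuadraticMap.polar (Cfsg.quadFormPlus d F) u v ≠ 0) ∧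
          ∃ U : Submodule F (Fin d ⊕ Fin d → F), U ≤ W ∧ 2 * Module.finrank F ↥U = m ∧ ∀ u ∈ U, Cfsg.quadFormPlus d F u = 0) ∧
        W.map (Matrix.toLin' (x : Matrix (Fin d ⊕ Fin d) (Fin d ⊕ Fin d) F)) ≤ W) ↔
    ((r = 2 ∧ ((2 * d) % 4 = 2 ∨ m % 4 = 0 ∨ q % 4 = 1)) ∨
     (r ≠ p ∧ 2 < r ∧ Odd i ∧ c ≤ m ∧ m % c ≤ (2 * d) % c) ∨
     (r ≠ p ∧ 2 < r ∧ Even i ∧
       (((2 * d) % c = 0 ∧ (Odd ((2 * d) / i) ∨ (m % c = 0 ∧ Even (m / i)))) ∨
        (i ≤ m ∧ ((m % c < (2 * d) % c ∧ 0 < m % c) ∨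
                  ((2 * d) % c = m % c ∧ 0 < m % c ∧ Even ((2 * d + m - 2 * ((2 * d) % c)) / i)) ∨
                  (0 < (2 * d) % c ∧ m % c = 0 ∧ Even (m / i))))))) := by
  simp only [pred_iff, map_le_iff]
  set Q := qPlus d F with hQdef
  have hQ : (polarBilin Q).Nondegenerate := OmegaStd.nondeg_plus
  have hcoe : Cfsg.quadFormPlus d F = ⇑Q := (qPlus_coe d).symm
  haveI : Nonempty (Fin d ⊕ Fin d) := ⟨Sum.inl ⟨0, by omega⟩⟩
  have hfr : finrank F (Fin d ⊕ Fin d → F) = 2 * d := OmegaStd.finrank_plus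
  have htopn := QuadClassify.nondeg_top hQ
  have htopp : Plus Q (⊤ : Submodule F (Fin d ⊕ Fin d → F)) := plus_top
  obtain ⟨a, rfl⟩ := hme
  rw [← two_mul] at *
  obtain ⟨T, -, hTn, hTd, hTp⟩ := exists_plus_lt htopn (a := a) (by rw [finrank_top, hfr]; omega)
  have hcard : Fintype.card F = q := hq
  by_cases hr2 : r = 2
  · subst hr2
    have hRHS : ∀ P Q' : Prop, ((2 = 2 ∧ P) ∨ (2 ≠ p ∧ 2 < 2 ∧ Q')) ↔ P := fun P Q' =>
      ⟨fun h => h.elim And.right fun h => absurd h.2.1 (lt_irrefl 2), fun h => Or.inl ⟨rfl, h⟩⟩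
    rw [show ∀ A B C : Prop, (A ∨ B ∨ C) ↔ A ∨ (B ∨ C) from fun A B C => Iff.rfl]
    constructor
    · intro hall
      refine Or.inl ⟨rfl, ?_⟩
      by_contra hc
      push Not at hc
      obtain ⟨hc1, hc2, hc3⟩ := hc
      have hde : Even d := Nat.even_iff.2 (by omega)
      have hao : ¬ Even a := fun he => hc2 (by obtain ⟨b, rfl⟩ := he; omega)
      by_cases h2 : (2 : F) = 0
      · obtain ⟨x, hx, hx2, hxs⟩ := exists_alt h2 hde (by omega)
        have hpow : ((x ^ 2 : GL (Fin d ⊕ Fin d) F) : Matrix (Fin d ⊕ Fin d) (Fin d ⊕ Fin d) F) =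
            (1 : F) • 1 := by
          refine Matrix.toLin'.injective (LinearMap.ext fun v => ?_)
          rw [Units.val_pow_eq_pow_val, pow_two, Matrix.toLin'_mul, LinearMap.comp_apply, hx2, one_smul,
            Matrix.toLin'_one, LinearMap.id_apply]
        have hxne : ∀ z : F, (x : Matrix (Fin d ⊕ Fin d) (Fin d ⊕ Fin d) F) ≠ z • 1 := by
          intro z hz
          have hzz : z * z = 1 := OrthDerangeBase61.scalar_isometry hQ fun v => by
            have h := OrthDerangeBase61.form_of_mem hcoe hx v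
            rwa [hz, map_smul, Matrix.toLin'_one, LinearMap.smul_apply, LinearMap.id_apply] at h
          have hz1 : z = 1 := by
            have : (z + 1) * (z + 1) = 0 := by linear_combination hzz + (z + 1) * h2
            linear_combination mul_self_eq_zero.1 this - h2
          obtain ⟨w, -, hw⟩ := exists_ne_zero_value (Q := Q) htopn (fun e => by
            have := congrArg (fun S : Submodule F (Fin d ⊕ Fin d → F) => finrank F S) e
            simp only [finrank_top, finrank_bot, hfr] at this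
            omega)
          refine hw ?_
          rw [← hcoe]
          refine hxs w ?_
          rw [hz, hz1, one_smul, Matrix.toLin'_one, LinearMap.id_apply]
        obtain ⟨W, ⟨hWd, hWn, -⟩, hWx⟩ := hall x hx ⟨1, hpow⟩ hxne
        exact hao (even_sub h2 (OrthDerangeBase61.form_of_mem hcoe hx) hx2
          (fun v hv => by rw [← hcoe]; exact hxs v hv) hWn hWx hWd)
      · have hnsq : ¬ IsSquare (-1 : F) := by
          rw [FiniteField.isSquare_neg_one_iff, hcard]
          have hodd := FiniteField.odd_card_of_char_ne_two (F := F) (fun e => h2 (by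
            haveI : CharP F 2 := ringChar.of_eq e
            exact CharTwo.two_eq_zero))
          rw [hcard] at hodd
          omega
        obtain ⟨x, hx, hx2⟩ := exists_neg_one h2 hnsq hde
        have hpow : ((x ^ 2 : GL (Fin d ⊕ Fin d) F) : Matrix (Fin d ⊕ Fin d) (Fin d ⊕ Fin d) F) =
            (-1 : F) • 1 := by
          refine Matrix.toLin'.injective (LinearMap.ext fun v => ?_)
          rw [Units.val_pow_eq_pow_val, pow_two, Matrix.toLin'_mul, LinearMap.comp_apply, hx2, map_smul,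
            Matrix.toLin'_one, LinearMap.smul_apply, LinearMap.id_apply, neg_one_smul]
        have hxne : ∀ z : F, (x : Matrix (Fin d ⊕ Fin d) (Fin d ⊕ Fin d) F) ≠ z • 1 := by
          intro z hz
          refine hnsq ⟨z, ?_⟩
          have h := congrFun (hx2 (Pi.single (Sum.inl ⟨0, by omega⟩) 1)) (Sum.inl ⟨0, by omega⟩)
          simp [hz] at h
          linear_combination -h
        obtain ⟨W, ⟨hWd, hWn, hWp⟩, hWx⟩ := hall x hx ⟨-1, hpow⟩ hxne
        exact ((complex_plus_iff h2 (OrthDerangeBase61.form_of_mem hcoe hx) hx2 hWn hWx hWd).1 hWp).elim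
          hnsq hao
    · intro hcond x hx ⟨z, hz⟩ hns
      have hcond' := hcond.elim And.right fun h => absurd (h.elim (·.2.1) (·.2.1)) (lt_irrefl 2)
      set g : Module.End F (Fin d ⊕ Fin d → F) :=
        Matrix.toLin' (x : Matrix (Fin d ⊕ Fin d) (Fin d ⊕ Fin d) F)
      have hg : ∀ v, Q (g v) = Q v := OrthDerangeBase61.form_of_mem hcoe hx
      have hgz : ∀ v, g (g v) = z • v := fun v => by
        have h := congrArg (fun M => Matrix.toLin' M v) hz
        simpa [g, pow_two, Matrix.toLin'_mul, Units.val_pow_eq_pow_val] using h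
      have hzz : z * z = 1 := OrthDerangeBase61.scalar_isometry hQ fun v => by rw [← hgz, hg, hg]
      by_cases h2 : (2 : F) = 0
      · have hz1 : z = 1 := by
          have : (z + 1) * (z + 1) = 0 := by linear_combination hzz + (z + 1) * h2
          linear_combination mul_self_eq_zero.1 this - h2
        have hq4 : q % 4 ≠ 1 := fun e => by
          have h0 := Nat.cast_card_eq_zero F
          rw [hcard, ← Nat.div_add_mod q 4, e] at h0
          push_cast at h0
          exact one_ne_zero (α := F) (by linear_combination h0 - 2 * ((q / 4 : ℕ) : F) * h2)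
        obtain ⟨W, -, hWn, hWg, hWd, hWp⟩ := inv_sub h2 hg (fun v => by rw [hgz, hz1, one_smul]) d ⊤ htopn
          (fun _ _ => Submodule.mem_top) htopp (by rw [finrank_top, hfr]) a (by omega) (by
            rcases hcond' with h | h | h
            · exact Or.inr (Or.inl (Nat.odd_iff.2 (by omega)))
            · exact Or.inl (Nat.even_iff.2 (by omega))
            · exact absurd h hq4)
        exact ⟨W, ⟨hWd, hWn, hWp⟩, hWg⟩
      rcases mul_self_eq_one_iff.1 hzz with hz1 | hz1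
      · obtain ⟨W, hWn, hWg, hWd, hWp⟩ := exists_fix_sq_one h2 hQ hg
          (fun v => by rw [hgz, hz1, one_smul]) (a := a) (by rw [hfr]; omega)
        exact ⟨W, ⟨hWd, hWn, hWp⟩, hWg⟩
      · have hg2 : ∀ v, g (g v) = -v := fun v => by rw [hgz, hz1, neg_one_smul]
        obtain ⟨W, -, hWn, hWg, hWd, hWp⟩ := complex_sub h2 hg hg2 a ⊤ htopn (fun _ _ => Submodule.mem_top)
          (by rw [finrank_top, hfr]; omega)
        refine ⟨W, ⟨hWd, hWn, hWp.2 ?_⟩, hWg⟩
        by_cases hsq : IsSquare (-1 : F)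
        · exact Or.inl hsq
        have hd' := ((complex_plus_iff h2 hg hg2 htopn (fun _ _ => Submodule.mem_top)
          (a := d) (by rw [finrank_top, hfr])).1 htopp).resolve_left hsq
        rw [Nat.even_iff] at hd'
        rw [FiniteField.isSquare_neg_one_iff, hcard] at hsq
        exact Or.inr (Nat.even_iff.2 (by omega))
  have hr0 : (r : F) ≠ 0 := fun e => (hr.resolve_left hr2) (((Nat.prime_dvd_prime_iff_eq (Fact.out) (Fact.out)).1
    ((CharP.cast_eq_zero_iff F p r).1 e)).symm)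
  have hrp : r ≠ p := hr.resolve_left hr2
  have hr3 : 2 < r := by have := (Fact.out : r.Prime).two_le; omega
  have hcb : blockDim F r = c := by rw [blockDim, hcard, ← hi, hc]
  have hΩ : r ∣ Nat.card (Cls Q T) := by
    refine hrΩ.trans (dvd_of_eq (Nat.card_congr (Equiv.subtypeEquivRight fun W => ?_)))
    refine (pred_iff W (2 * a)).trans ⟨fun ⟨hd', hn, hp⟩ => ⟨hn, (congr_iff_plus hn hTn hd' hTd).2
      (iff_of_true hp hTp)⟩, fun ⟨hn, hcg⟩ => ⟨hcg.finrank_eq.trans hTd, hn, hcg.symm.plus hTp⟩⟩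
  have hall := OrthDerangeBase61.allFix_iff hQ hr2 hr0 hTn (Or.inr (hTd ▸ even_two_mul a)) (by omega)
    (by rw [hfr]; omega) hΩ
  have hcle : OrthDerangeBase61.Cond Q r T → blockDim F r ≤ finrank F T := fun hC =>
    (hall.1 fun g hg _ => OrthDerangeBase61.fix_of_cond hQ hr2 hTn (Or.inr (hTd ▸ even_two_mul a)) (by omega)
      (by rw [hfr]; omega) hC hg).1
  have hequiv : (∀ g : Module.End F (Fin d ⊕ Fin d → F), Iso Q r g → g ≠ 1 → Fix Q g T) ↔
      (∀ x : GL (Fin d ⊕ Fin d) F, x ∈ Cfsg.Geo.omegaGL (Cfsg.quadFormPlus d F) →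
      (∃ z : F, ((x ^ r : GL (Fin d ⊕ Fin d) F) : Matrix (Fin d ⊕ Fin d) (Fin d ⊕ Fin d) F) = z • (1 : Matrix (Fin d ⊕ Fin d) (Fin d ⊕ Fin d) F)) →
      (∀ z : F, (x : Matrix (Fin d ⊕ Fin d) (Fin d ⊕ Fin d) F) ≠ z • (1 : Matrix (Fin d ⊕ Fin d) (Fin d ⊕ Fin d) F)) →
      ∃ W : Submodule F (Fin d ⊕ Fin d → F), (finrank F W = 2 * a ∧ Nondeg Q W ∧ Plus Q W) ∧
        ∀ v ∈ W, Matrix.toLin' (x : Matrix (Fin d ⊕ Fin d) (Fin d ⊕ Fin d) F) v ∈ W) := by
    constructor
    · intro h x hx ⟨z, hz⟩ hns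
      obtain ⟨w, hw, hiso⟩ := OrthDerangeBase61.exists_smul hQ hcoe hr2 hr0 hx hz
      obtain ⟨W, hWn, hWg, hWT⟩ := h _ hiso (fun e => hns w⁻¹ (Matrix.toLin'.injective (by
        rw [map_smul, Matrix.toLin'_one]
        refine LinearMap.ext fun v => ?_
        have := congrArg (fun G : Module.End F (Fin d ⊕ Fin d → F) => w⁻¹ • G v) e
        simpa [inv_smul_smul₀ hw] using this)))
      refine ⟨W, ⟨hWT.finrank_eq.trans hTd, hWn, hWT.symm.plus hTp⟩, fun v hv => ?_⟩
      simpa [inv_smul_smul₀ hw] using W.smul_mem w⁻¹ (hWg v hv)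
    · intro h g hg hg1
      obtain ⟨x, hx, hxg, hxr, hxns, -⟩ := OrthDerangeBase61.exists_gl hQ hcoe (Or.inr (by rw [hfr]; omega))
        hr2 hg hg1
      obtain ⟨W, ⟨hWd, hWn, hWp⟩, hWg⟩ := h x hx ⟨1, hxr⟩ hxns
      exact ⟨W, hWn, fun v hv => hxg ▸ hWg v hv,
        (congr_iff_plus hWn hTn hWd hTd).2 (iff_of_true hWp hTp)⟩
  rw [← hequiv, hall]
  obtain ⟨hPn, hPd, -⟩ := nd_perp hQ hTn
  have hPd' : finrank F ↥(perp Q T) = 2 * d - 2 * a := by omega
  have hPp : Plus Q (perp Q T) := (OrthDerangeBase61.plus_perp hQ hTn (b := d - a) hTd (by omega)).2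
    (iff_of_true hTp htopp)
  have hfree : ∀ {W : Submodule F (Fin d ⊕ Fin d → F)}, Nondeg Q W → Plus Q W →
      (Free Q r W ↔ c ∣ finrank F W ∧ (Odd i ∨ (Even i ∧ Even (finrank F W / i)))) := by
    intro W hW hp
    rw [OrthDerangeBase61.free_iff hr0 hr2 hW (i := i) (c := c) (by rw [hcard]; exact hi) hcb.symm]
    simp only [hp, iff_true, and_true]
  rw [and_iff_left_of_imp (fun h : blockDim F r ≤ finrank F T ∧ OrthDerangeBase61.Cond Q r T => trivial)
    |>.symm.trans (and_iff_left trivial)]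
  simp only [OrthDerangeBase61.Cond, hfree hTn hTp, hfree hPn hPp, hfree htopn htopp, hTd, hPd', hcb,
    finrank_top, hfr] at hcle ⊢
  have hi0 : 0 < i := by
    rw [hi, ← hcard]; exact PrimeOrderModule84.orderOf_card_pos hr0
  simp only [hrp, hr2, hr3, false_and, false_or, true_and, ne_eq, not_false_eq_true]
  rcases Nat.even_or_odd i with hie | hio
  · have hio : ¬ Odd i := Nat.not_odd_iff_even.2 hie
    obtain rfl : c = i := by rw [hc, if_pos hie]
    simp only [hie, hio, false_and, false_or, true_and] at hcle ⊢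
    refine even_arith hi0 (by omega) (by omega) fun ⟨h1, h2, h3⟩ => hcle ?_
    exact Or.inr (Or.inr ⟨h1, Or.inr ⟨h2, fun h => h3 h.2⟩⟩)
  · have hie : ¬ Even i := Nat.not_even_iff_odd.2 hio
    simp only [hie, hio, false_and, or_false, and_true, true_and] at hcle ⊢
    have hc0 : 0 < c := by rw [hc, if_neg hie]; omega
    constructor
    · rintro ⟨h1, h2⟩
      exact ⟨h1, (odd_arith hc0 (by omega) h1).1 h2⟩
    · rintro ⟨h1, h2⟩
      exact ⟨h1, (odd_arith hc0 (by omega) h1).2 h2⟩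

end Cfsg.Agent.S5974
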