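import Cfsg.Statements.S5975
import Cfsg.Agent.Lib.SympFieldExtDerange
import Cfsg.Agent.Lib.SympFieldExtInvol
-- import your own Cfsg.Agent.* helpers here

set_option autoImplicit false
open scoped MatrixGroups
open scoped Matrix
open Cfsg
open scoped Matrix

namespace Cfsg.Agent.S5975

/-- Elements of prime order of PSp_n(q) and the field-extension subgroups of type Sp_{n/k}(q^k). Here `T = PSp_{2d}(F)` for a field `F` with `q` elements (`d ≥ 2`, `(d, q) ≠ (2, 2)`), realised through the matrices preserving the standard alternating form `f`; `k` is a prime and `K` is a subalgebra of the `2d × 2d` matrices that is a field of degree `k` over `F` whose elements are self-adjoint for `f` and satisfy `f(a v, v) = 0` (so `F^{2d}` becomes a vector space over `K ≅ F_{q^k}` on which `f` is the trace of a `K`-bilinear alternating form); `H` is the subgroup of `T` normalizing `K` — the symplectic maps that are `K`-linear or `K`-semilinear, a subgroup of type Sp_{2d/k}(q^k) (maximality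 is not assumed). Ω is the set of cosets of `H` in `T`, so an element of `T` of prime order `r` (`x ∈ T` with `x^r` scalar, `x` not scalar) fixes a point of Ω exactly when some `T`-conjugate of `x` normalizes `K`. Let `r` be a prime dividing the index of `H`. Then every element of `T` of order `r` fixes a point of Ω if and only if `r = 2`, `d = 2`, `k = 2` and `q` is odd. -/
theorem result {F : Type*} [Field F] [Fintype F] {p : ℕ} [Fact p.Prime] [CharP F p] {q : ℕ} (hq : Fintype.card F = q)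
    (d : ℕ) (hd : 2 ≤ d) (hT : (d, q) ≠ (2, 2)) (k : ℕ) (hk : k.Prime)
    (K : Subalgebra F (Matrix (Fin d ⊕ Fin d) (Fin d ⊕ Fin d) F)) (hK : Cfsg.Geo.IsFieldSubalgebra k K)
    (hKf : Cfsg.Geo.IsSelfAdjointFor (Cfsg.sympForm d F) K) (hKalt : ∀ a ∈ K, ∀ v : Fin d ⊕ Fin d → F, Cfsg.sympForm d F (a *ᵥ v) v = 0)
    (r : ℕ) [Fact r.Prime]
    (hΩ : r ∣ (Cfsg.Geo.subalgebraNormalizer K).relIndex (Cfsg.spGL d F)) :
    (∀ x ∈ Cfsg.spGL d F, (∃ z : F, ((x ^ r : GL (Fin d ⊕ Fin d) F) : Matrix (Fin d ⊕ Fin d) (Fin d ⊕ Fin d) F) = z • (1 : Matrix (Fin d ⊕ Fin d) (Fin d ⊕ Fin d) F)) →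
      (∀ z : F, (x : Matrix (Fin d ⊕ Fin d) (Fin d ⊕ Fin d) F) ≠ z • (1 : Matrix (Fin d ⊕ Fin d) (Fin d ⊕ Fin d) F)) →
      ∃ g ∈ Cfsg.spGL d F, g⁻¹ * x * g ∈ Cfsg.Geo.subalgebraNormalizer K) ↔
    (r = 2 ∧ d = 2 ∧ k = 2 ∧ Odd q) := by
  classical
  letI iK : CommRing K := { (inferInstance : Ring K) with
    mul_comm := fun a b => Subtype.ext (hK.comm a.1 a.2 b.1 b.2) }
  have : Nonempty (Fin d) := ⟨⟨0, by omega⟩⟩
  have hKf' : IsField K :=
    { exists_pair_ne := ⟨0, 1, fun h => zero_ne_one (congrArg Subtype.val h)⟩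
      mul_comm := fun a b => mul_comm a b
      mul_inv_cancel := fun {a} ha => by
        obtain ⟨b, hb, hab⟩ := hK.inv a.1 a.2 fun h => ha (Subtype.ext h)
        exact ⟨⟨b, hb⟩, Subtype.ext hab⟩ }
  letI : Field K := hKf'.toField
  let ι : K →ₐ[F] Matrix (Fin d ⊕ Fin d) (Fin d ⊕ Fin d) F := K.val
  have hι : Cfsg.Agent.SympFieldExt.IsExt ι :=
    ⟨fun a u v => hKf a.1 a.2 u v, fun a v => hKalt a.1 a.2 v⟩
  have hH : ∀ g : GL (Fin d ⊕ Fin d) F, g ∈ Cfsg.Geo.subalgebraNormalizer K ↔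
      ∀ a, ∃ b, g.1 * ι a = ι b * g.1 := by
    intro g
    constructor
    · intro hg a
      exact ⟨⟨_, (hg a.1).1 a.2⟩, by
        show g.1 * a.1 = g.1 * a.1 * (g⁻¹).1 * g.1
        rw [mul_assoc, Units.inv_mul, mul_one]⟩
    · intro h A
      have hmem : ∀ a : K, g.1 * a.1 * (g⁻¹).1 ∈ K := fun a => by
        obtain ⟨b, hb⟩ := h a
        rw [show g.1 * a.1 = b.1 * g.1 from hb, mul_assoc, Units.mul_inv, mul_one]
        exact b.2
      let T : K →ₗ[F] K :=
        { toFun := fun a => ⟨_, hmem a⟩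
          map_add' := fun a b => Subtype.ext (by simp [mul_add, add_mul])
          map_smul' := fun c a => Subtype.ext (by simp [Matrix.mul_smul, Matrix.smul_mul]) }
      have hT : Function.Injective T := fun a b hab => Subtype.ext
        (g.isUnit.mul_right_injective ((g⁻¹).isUnit.mul_left_injective (congrArg Subtype.val hab)))
      refine ⟨fun hA => hmem ⟨A, hA⟩, fun hA => ?_⟩
      obtain ⟨a, ha⟩ := LinearMap.injective_iff_surjective.1 hT ⟨_, hA⟩
      rw [show A = a.1 from (g.isUnit.mul_right_injective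
        ((g⁻¹).isUnit.mul_left_injective (congrArg Subtype.val ha))).symm]
      exact a.2
  have hk' : Module.finrank F K = k := hK.finrank_eq
  constructor
  · intro hall
    have := Cfsg.Agent.SympFieldExtDerange.forward (p := p) hq hd (hk'.symm ▸ hk) hι _ hH Fact.out hΩ hall
    rwa [hk'] at this
  · rintro ⟨rfl, rfl, rfl, hodd⟩ x hx ⟨z, hz⟩ hns
    have h2 : (2 : F) ≠ 0 := fun h => by
      obtain ⟨f, hpp, hf⟩ := FiniteField.card F p
      have hp2 : p = 2 := (Nat.prime_dvd_prime_iff_eq hpp Nat.prime_two).1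
        ((CharP.cast_eq_zero_iff F p 2).1 (by exact_mod_cast h))
      rw [← hq, hf, hp2, Nat.odd_pow_iff f.pos.ne'] at hodd
      exact absurd hodd (by decide)
    let xs : ↥(Matrix.symplecticGroup (Fin 2) F) := ⟨x.1, Cfsg.Agent.SympSkew.mem_spGL.1 hx⟩
    let φ := Cfsg.Agent.SympSemisimpleClasses.unitsHom 2 F
    have hxs : φ xs = x := Units.ext rfl
    obtain ⟨y, hy, hyN⟩ := Cfsg.Agent.SympFieldExtInvol.conj_normalizes h2 hι rfl hk' xs z
      (by rw [← hz, pow_two, Units.val_mul]) hns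
    obtain ⟨c, hc⟩ := isConj_iff.1 hy
    refine ⟨φ c, Cfsg.Agent.SympSkew.unitsHom_mem c, ?_⟩
    rw [← hxs, ← hc, ← map_inv, ← map_mul, ← map_mul, show c⁻¹ * (c * y * c⁻¹) * c = y by group]
    exact (hH _).2 hyN

end Cfsg.Agent.S5975
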