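import Cfsg.Statements.S5976
import Cfsg.Agent.Lib.SympPrimeElements
import Cfsg.Agent.Lib.SympSkew
-- import your own Cfsg.Agent.* helpers here

set_option autoImplicit false
open scoped MatrixGroups
open Cfsg
open scoped Matrix

namespace Cfsg.Agent.S5976

/-- Elements of prime order of PSp_n(q), q odd, and the subgroups of type GU_{n/2}(q). Here `T = PSp_{2d}(F)` for a field `F` with `q` elements, `q` odd, `d ≥ 2`, realised through the matrices preserving the standard alternating form `f`; `K` is a subalgebra of the `2d × 2d` matrices that is a field of degree 2 over `F`, closed under taking adjoints for `f` but not consisting of self-adjoint elements (so `F^{2d}` becomes a `d`-dimensional space over `K ≅ F_{q²}` on which `f` is the trace of a multiple of a non-degenerate hermitian form); `H` is the subgroup of `T` normalizing `K` — the symplectic maps that are `K`-linear or `K`-semilinear, a subgroup of type GU_d(q) (maximality is not assumed). Ω is the set of cosets of `H` in `T`, so an element of `T` of prime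 order `r` (`x ∈ T` with `x^r` scalar, `x` not scalar) fixes a point of Ω exactly when some `T`-conjugate of `x` normalizes `K`. Let `r` be a prime dividing the index of `H`. Then every element of `T` of order `r` fixes a point of Ω if and only if `r = 2`. -/
theorem result {F : Type*} [Field F] [Fintype F] {p : ℕ} [Fact p.Prime] [CharP F p] {q : ℕ} (hq : Fintype.card F = q)
    (hodd : Odd q) (d : ℕ) (hd : 2 ≤ d)
    (K : Subalgebra F (Matrix (Fin d ⊕ Fin d) (Fin d ⊕ Fin d) F)) (hK : Cfsg.Geo.IsFieldSubalgebra 2 K)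
    (hKf : Cfsg.Geo.IsAdjointClosedFor (Cfsg.sympForm d F) K) (hKns : ¬ Cfsg.Geo.IsSelfAdjointFor (Cfsg.sympForm d F) K)
    (r : ℕ) [Fact r.Prime]
    (hΩ : r ∣ (Cfsg.Geo.subalgebraNormalizer K).relIndex (Cfsg.spGL d F)) :
    (∀ x ∈ Cfsg.spGL d F, (∃ z : F, ((x ^ r : GL (Fin d ⊕ Fin d) F) : Matrix (Fin d ⊕ Fin d) (Fin d ⊕ Fin d) F) = z • (1 : Matrix (Fin d ⊕ Fin d) (Fin d ⊕ Fin d) F)) →
      (∀ z : F, (x : Matrix (Fin d ⊕ Fin d) (Fin d ⊕ Fin d) F) ≠ z • (1 : Matrix (Fin d ⊕ Fin d) (Fin d ⊕ Fin d) F)) →
      ∃ g ∈ Cfsg.spGL d F, g⁻¹ * x * g ∈ Cfsg.Geo.subalgebraNormalizer K) ↔ r = 2 := by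
  classical
  have hr : r.Prime := Fact.out
  obtain ⟨f, hpp, hf⟩ := FiniteField.card F p
  have hp2 : p ≠ 2 := by
    rintro rfl
    rw [← hq, hf, Nat.odd_pow_iff f.pos.ne'] at hodd
    exact absurd hodd (by decide)
  have h2 : (2 : F) ≠ 0 := fun h => hp2 ((Nat.prime_dvd_prime_iff_eq hpp Nat.prime_two).1
    ((CharP.cast_eq_zero_iff F p 2).1 (by exact_mod_cast h)))
  obtain ⟨e, D, he, hD, hN⟩ := Cfsg.Agent.SympSkew.exists_skew_of_subalgebra h2 (by omega) hK hKf hKns
  have he0 : e ≠ 0 := fun h => he (by rw [h]; exact IsSquare.zero)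
  obtain ⟨P, hP⟩ := Cfsg.Agent.SympSkew.exists_normal_form h2 he hD
  let φ := Cfsg.Agent.SympSemisimpleClasses.unitsHom d F
  constructor
  · intro hall
    by_contra hr2
    -- an element of order `r` none of whose conjugates commutes with `D`
    suffices ∃ x : ↥(Matrix.symplecticGroup (Fin d) F), x ^ r = 1 ∧
        (∀ z : F, x.1 ≠ z • (1 : Matrix (Fin d ⊕ Fin d) (Fin d ⊕ Fin d) F)) ∧
        ∀ D' : Matrix (Fin d ⊕ Fin d) (Fin d ⊕ Fin d) F,
          Cfsg.Agent.SympSkew.IsSkew e D' → D' * x.1 ≠ x.1 * D' by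
      obtain ⟨x, hxr, hxs, hxD⟩ := this
      obtain ⟨g, hg, hgN⟩ := hall (φ x) (Cfsg.Agent.SympSkew.unitsHom_mem x)
        ⟨1, by rw [← map_pow, hxr, map_one, Units.val_one, one_smul]⟩ hxs
      let gs : ↥(Matrix.symplecticGroup (Fin d) F) := ⟨g.1, Cfsg.Agent.SympSkew.mem_spGL.1 hg⟩
      have hgs : φ gs = g := Units.ext rfl
      set y := gs⁻¹ * x * gs with hy
      have hyN : φ y ∈ Cfsg.Geo.subalgebraNormalizer K := by
        rw [hy, map_mul, map_mul, map_inv, hgs]; exact hgN
      have hyr : y ^ r = 1 := by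
        rw [hy, show gs⁻¹ * x * gs = MulAut.conj gs⁻¹ x by rw [MulAut.conj_apply, inv_inv], ← map_pow, hxr, map_one]
      have hyD : y.1 * D = D * y.1 := by
        rcases (hN _).1 hyN with h | h
        · exact h
        have h' : ∀ n : ℕ, (y ^ n).1 * D = (-1 : F) ^ n • (D * (y ^ n).1) := by
          intro n
          induction n with
          | zero => simp
          | succ n ih =>
            rw [pow_succ', Submonoid.coe_mul, mul_assoc, ih, Matrix.mul_smul, ← mul_assoc,
              show y.1 * D = -(D * y.1) from h, pow_succ, mul_smul, neg_one_smul, Matrix.neg_mul, mul_assoc]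
        have h0 := h' r
        rw [hyr, OneMemClass.coe_one, one_mul, mul_one, (hr.odd_of_ne_two hr2).neg_one_pow, neg_one_smul] at h0
        have hz : (2 : F) • D = 0 := by rw [two_smul]; nth_rewrite 2 [h0]; exact add_neg_cancel D
        have hD0 : D = 0 := (smul_eq_zero.1 hz).resolve_left h2
        rw [hD0] at h ⊢
        simp
      refine hxD (gs.1 * D * (gs⁻¹).1) ⟨?_, fun u v => ?_⟩ ?_
      · have hi : (gs⁻¹).1 * gs.1 = 1 := congrArg Subtype.val (inv_mul_cancel gs)
        have hi' : gs.1 * (gs⁻¹).1 = 1 := congrArg Subtype.val (mul_inv_cancel gs)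
        rw [show gs.1 * D * (gs⁻¹).1 * (gs.1 * D * (gs⁻¹).1) = gs.1 * D * ((gs⁻¹).1 * gs.1) * D * (gs⁻¹).1 by
          simp only [mul_assoc], hi, mul_one, mul_assoc gs.1 D D, hD.sq, Matrix.mul_smul, mul_one,
          Matrix.smul_mul, hi']
      · simp only [← Matrix.mulVec_mulVec, ← Cfsg.Agent.SymplecticBasic.smul_def]
        conv_lhs => rw [← smul_inv_smul gs v, Cfsg.Agent.SymplecticBasic.form_map, hD.skew]
        conv_rhs => rw [← smul_inv_smul gs u, Cfsg.Agent.SymplecticBasic.form_map]
      · have hi : (gs⁻¹).1 * gs.1 = 1 := congrArg Subtype.val (inv_mul_cancel gs)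
        have hxy : x = gs * y * gs⁻¹ := by rw [hy]; group
        rw [hxy, Submonoid.coe_mul, Submonoid.coe_mul]
        calc gs.1 * D * (gs⁻¹).1 * (gs.1 * y.1 * (gs⁻¹).1)
            = gs.1 * D * ((gs⁻¹).1 * gs.1) * y.1 * (gs⁻¹).1 := by simp only [mul_assoc]
          _ = gs.1 * (D * y.1) * (gs⁻¹).1 := by rw [hi, mul_one, mul_assoc gs.1 D]
          _ = gs.1 * (y.1 * D) * (gs⁻¹).1 := by rw [hyD]
          _ = gs.1 * y.1 * ((gs⁻¹).1 * gs.1) * D * (gs⁻¹).1 := by rw [hi, mul_one, mul_assoc gs.1 y.1]
          _ = _ := by simp only [mul_assoc]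
    rcases eq_or_ne r p with hrp | hrp
    · -- a transvection
      let v : Fin d ⊕ Fin d → F := Pi.single (Sum.inl ⟨0, by omega⟩) 1
      let w : Fin d ⊕ Fin d → F := Pi.single (Sum.inr ⟨0, by omega⟩) 1
      have hwv : Cfsg.sympForm d F w v = 1 := by
        rw [Cfsg.Agent.SymplecticBasic.form_single_inl_right]; simp [w]
      have hv0 : v ≠ 0 := by simp [v]
      refine ⟨Cfsg.Agent.SymplecticBasic.transv v 1, ?_, fun z hz => ?_, fun D' hD' hcomm => ?_⟩
      · have : ∀ n : ℕ, Cfsg.Agent.SymplecticBasic.transv v (1 : F) ^ n =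
            Cfsg.Agent.SymplecticBasic.transv v (n : F) := by
          intro n
          induction n with
          | zero => rw [pow_zero, Nat.cast_zero, Cfsg.Agent.SymplecticBasic.transv_zero]
          | succ n ih => rw [pow_succ, ih, Cfsg.Agent.SymplecticBasic.transv_add, Nat.cast_succ]
        rw [this, hrp, CharP.cast_eq_zero, Cfsg.Agent.SymplecticBasic.transv_zero]
      · have h1 := Cfsg.Agent.SymplecticBasic.transv_smul v (1 : F) w
        have h0 := Cfsg.Agent.SymplecticBasic.transv_smul v (1 : F) v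
        rw [Cfsg.Agent.SymplecticBasic.smul_def, hz, Matrix.smul_mulVec, Matrix.one_mulVec] at h1 h0
        rw [hwv, mul_one, one_smul] at h1
        have := congrFun h1 (Sum.inl ⟨0, by omega⟩)
        simp [v, w] at this
      · have h1 := congrArg (· *ᵥ w) hcomm
        simp only [← Matrix.mulVec_mulVec, ← Cfsg.Agent.SymplecticBasic.smul_def,
          Cfsg.Agent.SymplecticBasic.transv_smul, Matrix.mulVec_add, hwv, one_mul,
          one_smul, add_right_inj] at h1
        set s := Cfsg.sympForm d F (D' *ᵥ w) v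
        have h3 : e • v = (s * s) • v := by
          rw [← hD'.sq_mulVec v, h1, Matrix.mulVec_smul, h1, smul_smul]
        exact he ⟨s, smul_left_injective F hv0 h3⟩
    · obtain ⟨i, hi⟩ : ∃ i, i = orderOf (q : ZMod r) := ⟨_, rfl⟩
      have hfit : ∃ j, 1 ≤ j ∧ j ≤ d ∧ (q : ZMod r) ^ (2 * j) = 1 := by
        have hdvd : r ∣ Nat.card (Cfsg.spGL d F) := hΩ.trans (Subgroup.index_dvd_card _)
        rw [Cfsg.Agent.SympSkew.card_spGL, Cfsg.Agent.SymplecticOrder.card_symplectic hq] at hdvd
        rcases hr.prime.dvd_or_dvd hdvd with h | h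
        · have h' : r ∣ p ^ (f : ℕ) := by rw [← hf, hq]; exact hr.dvd_of_dvd_pow h
          exact absurd ((Nat.prime_dvd_prime_iff_eq hr hpp).1 (hr.dvd_of_dvd_pow h')) hrp
        · obtain ⟨j, hj, hrj⟩ := hr.prime.exists_mem_finset_dvd h
          rw [← ZMod.natCast_eq_zero_iff, Nat.cast_sub (Nat.one_le_pow _ _ (hq ▸ Fintype.card_pos)),
            Nat.cast_pow, Nat.cast_one, sub_eq_zero] at hrj
          exact ⟨j + 1, by omega, Finset.mem_range.1 hj, hrj⟩
      obtain ⟨x, M, hB⟩ := Cfsg.Agent.SympPrimeElements.exists_block (p := p) hq hd hr hr2 hrp hi hfit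
      refine ⟨x, hB.pow, hB.not_scalar, fun D' hD' hcomm => ?_⟩
      set A : Module.End F (Fin d ⊕ Fin d → F) := Matrix.toLin' x.1 with hA
      set L : Module.End F (Fin d ⊕ Fin d → F) := Matrix.toLin' D' with hL
      have hLA : Commute L A := by
        show Matrix.toLin' D' ∘ₗ Matrix.toLin' x.1 = Matrix.toLin' x.1 ∘ₗ Matrix.toLin' D'
        rw [← Matrix.toLin'_mul, ← Matrix.toLin'_mul, hcomm]
      have hLM : ∀ v ∈ M, L v ∈ M := hB.stable L hLA
      have hLL : ∀ v, L (L v) = e • v := hD'.sq_mulVec
      rcases Nat.even_or_odd i with hev | ⟨t, ht⟩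
      · obtain ⟨k, hk⟩ := hev
        rcases Nat.even_or_odd k with hkev | hkodd
        · -- `i ≡ 0 mod 4`
          have hMne : M ≠ ⊥ := fun h => by
            have h1 := hB.finrank
            rw [h, finrank_bot] at h1
            obtain ⟨j, hj1, -, hj⟩ := hfit
            have h3 := orderOf_dvd_of_pow_eq_one hj
            rw [← hi, ← h1, zero_dvd_iff] at h3
            omega
          obtain ⟨v, hv, hv0⟩ := Submodule.exists_mem_ne_zero_of_ne_bot hMne
          have hk0 : 0 < k := by
            rcases Nat.eq_zero_or_pos k with h0 | h0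
            · have := hB.finrank
              rw [hk, h0, Submodule.finrank_eq_zero] at this
              exact absurd this hMne
            · exact h0
          obtain ⟨h, hh⟩ := hB.cyclic v hv hv0 (L v) (hLM v hv)
          have hcA : ∀ h' : Polynomial F, Commute L (Polynomial.aeval A h') := fun h' => by
            induction h' using Polynomial.induction_on' with
            | add a b ha hb => rw [map_add]; exact ha.add_right hb
            | monomial n a =>
              rw [Polynomial.aeval_monomial]
              exact (Algebra.commute_algebraMap_right a L).mul_right (hLA.pow_right n)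
          have hLh : ∀ w ∈ M, Polynomial.aeval A h w = L w := fun w hw => by
            obtain ⟨h', rfl⟩ := hB.cyclic v hv hv0 w hw
            rw [← Module.End.mul_apply, ← map_mul, mul_comm, map_mul, Module.End.mul_apply, hh,
              ← Module.End.mul_apply, ← (hcA h').eq, Module.End.mul_apply]
          have hLn : ∀ n : ℕ, ∀ w ∈ M, (Polynomial.aeval A h ^ n) w = (L ^ n) w := by
            intro n
            induction n with
            | zero => intro w _; rfl
            | succ n ih =>
              intro w hw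
              rw [pow_succ, pow_succ, Module.End.mul_apply, Module.End.mul_apply, hLh w hw, ih _ (hLM w hw)]
          obtain ⟨c, hc⟩ := Cfsg.Agent.SympPrimeElements.pow_half_eq_neg_one hi hk hk0
          have hAQ : A * A ^ q ^ k = 1 := by
            rw [← pow_succ', hc, hA, ← Matrix.toLin'_pow, pow_mul, ← SubmonoidClass.coe_pow, hB.pow,
              OneMemClass.coe_one, one_pow, Matrix.toLin'_one]
            rfl
          have hadj : ∀ u w, Cfsg.sympForm d F (A u) w = Cfsg.sympForm d F u ((A ^ q ^ k) w) := fun u w => by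
            conv_lhs => rw [← show (A * A ^ q ^ k) w = w by rw [hAQ]; rfl]
            simp only [Module.End.mul_apply, hA, Matrix.toLin'_apply]
            exact Cfsg.Agent.SymplecticBasic.mem_sp_iff_form.1 x.2 _ _
          have hhalf : e ^ (q / 2) = -1 := by
            have hchar : ringChar F ≠ 2 := by rw [ringChar.eq F p]; exact hp2
            rw [← hq]
            exact (FiniteField.pow_dichotomy hchar he0).resolve_left fun h =>
              he ((FiniteField.isSquare_iff hchar he0).2 h)
          have hexp : ∀ m : ℕ, ∃ l, q ^ (2 * m) = 2 * l + 1 ∧ e ^ l = 1 := by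
            intro m
            induction m with
            | zero => exact ⟨0, by simp, pow_zero e⟩
            | succ m ih =>
              obtain ⟨l, hl, hel⟩ := ih
              obtain ⟨a, ha⟩ := hodd
              rw [show q / 2 = a by omega] at hhalf
              refine ⟨l * (2 * (a * (2 * a + 2)) + 1) + a * (2 * a + 2), ?_, ?_⟩
              · rw [mul_add, mul_one, pow_add, hl, ha]; ring
              · rw [pow_add, pow_mul e l, hel, one_pow, one_mul, pow_mul, hhalf, Even.neg_one_pow ⟨a + 1, by ring⟩]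
          obtain ⟨m, hm⟩ := hkev
          obtain ⟨l, hl, hel⟩ := hexp m
          have hzero : ∀ w ∈ M, L w = 0 := fun w hw => by
            refine hB.nondeg ⟨k, hk⟩ _ (hLM w hw) fun u hu => ?_
            have h1 : Cfsg.sympForm d F (L u) w = Cfsg.sympForm d F u (L w) := by
              rw [← hLh u hu, Cfsg.Agent.SympPrimeElements.adj_aeval hadj h,
                Cfsg.Agent.SympPrimeElements.aeval_pow_card hq, hLn _ w hw,
                show k = 2 * m by omega, hl, pow_add, pow_one, pow_mul, Module.End.mul_apply]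
              have hpow : ∀ n : ℕ, ∀ z, ((L ^ 2) ^ n) z = e ^ n • z := by
                intro n
                induction n with
                | zero => intro z; simp
                | succ n ih =>
                  intro z
                  rw [pow_succ, Module.End.mul_apply, ih, pow_two, Module.End.mul_apply, hLL, smul_smul,
                    pow_succ]
              rw [hpow, hel, one_smul]
            have h3 : Cfsg.sympForm d F (L u) w = - Cfsg.sympForm d F u (L w) := hD'.skew u w
            rw [h1] at h3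
            have : (2 : F) * Cfsg.sympForm d F u (L w) = 0 := by linear_combination h3
            exact Cfsg.Agent.SymplecticBasic.form_eq_zero_comm.1 ((mul_eq_zero.1 this).resolve_left h2)
          have h4 := hLL v
          rw [hzero v hv, map_zero] at h4
          exact hv0 ((smul_eq_zero.1 h4.symm).resolve_left he0)
        · exact Cfsg.Agent.SympSkew.not_dvd_relIndex h2 he hD _ (fun g hg => (hN g).2 (Or.inl hg)) hr2 hkodd
            (i := i) (by rw [hq, hi]) (by omega) hΩ
      · -- `i` odd
        have hdet : LinearMap.det (L.restrict hLM) * LinearMap.det (L.restrict hLM) = e ^ i := by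
          rw [← map_mul, show L.restrict hLM * L.restrict hLM = e • (1 : Module.End F M) from
            LinearMap.ext fun z => Subtype.ext (hLL z.1), LinearMap.det_smul, map_one, mul_one, hB.finrank]
        refine he ⟨LinearMap.det (L.restrict hLM) / e ^ t, ?_⟩
        rw [div_mul_div_comm, hdet, eq_div_iff (mul_ne_zero (pow_ne_zero _ he0) (pow_ne_zero _ he0)), ht]
        ring
  · rintro rfl x hx ⟨z, hz⟩ -
    let xs : ↥(Matrix.symplecticGroup (Fin d) F) := ⟨x.1, Cfsg.Agent.SympSkew.mem_spGL.1 hx⟩
    have hxs : φ xs = x := Units.ext rfl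
    suffices ∃ y, IsConj y xs ∧ (y.1 * D = D * y.1 ∨ y.1 * D = -(D * y.1)) by
      obtain ⟨y, hy, hyD⟩ := this
      obtain ⟨c, hc⟩ := isConj_iff.1 hy
      refine ⟨φ c, Cfsg.Agent.SympSkew.unitsHom_mem c, ?_⟩
      rw [← hxs, ← hc, ← map_inv, ← map_mul, ← map_mul, show c⁻¹ * (c * y * c⁻¹) * c = y by group]
      exact (hN _).2 hyD
    have hxx : ∀ v, xs • xs • v = z • v := fun v => by
      rw [Cfsg.Agent.SymplecticBasic.smul_def, Cfsg.Agent.SymplecticBasic.smul_def, Matrix.mulVec_mulVec,
        show xs.1 * xs.1 = z • (1 : Matrix (Fin d ⊕ Fin d) (Fin d ⊕ Fin d) F) by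
          rw [← hz, pow_two, Units.val_mul], Matrix.smul_mulVec, Matrix.one_mulVec]
    have hz2 : z * z = 1 := by
      have h1 := Cfsg.Agent.SymplecticBasic.form_map (xs * xs) (Pi.single (Sum.inr ⟨0, by omega⟩) 1)
        (Pi.single (Sum.inl ⟨0, by omega⟩) 1)
      rw [mul_smul, mul_smul, hxx, hxx, Cfsg.Agent.SymplecticBasic.form_smul_left,
        Cfsg.Agent.SymplecticBasic.form_smul_right, Cfsg.Agent.SymplecticBasic.form_single_inl_right] at h1
      simpa using h1
    have hi' : P.1 * (P⁻¹).1 = 1 := congrArg Subtype.val (mul_inv_cancel P)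
    have hi : (P⁻¹).1 * P.1 = 1 := congrArg Subtype.val (inv_mul_cancel P)
    have hP' : (P⁻¹).1 * D = Cfsg.Agent.SympSkew.stdD d e * (P⁻¹).1 := by
      calc (P⁻¹).1 * D = (P⁻¹).1 * (D * P.1) * (P⁻¹).1 := by rw [mul_assoc, mul_assoc D, hi', mul_one]
        _ = _ := by rw [hP, ← mul_assoc, hi, one_mul]
    have key : ∀ (s : ↥(Matrix.symplecticGroup (Fin d) F)) (c : F),
        s.1 * Cfsg.Agent.SympSkew.stdD d e = c • (Cfsg.Agent.SympSkew.stdD d e * s.1) →
        (P * s * P⁻¹).1 * D = c • (D * (P * s * P⁻¹).1) := fun s c hs => by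
      show P.1 * s.1 * (P⁻¹).1 * D = c • (D * (P.1 * s.1 * (P⁻¹).1))
      rw [mul_assoc _ (P⁻¹).1 D, hP', ← mul_assoc, mul_assoc P.1 s.1, hs, Matrix.mul_smul, ← mul_assoc,
        ← hP, Matrix.smul_mul]
      simp only [mul_assoc]
    rcases mul_self_eq_one_iff.1 hz2 with hz1 | hz1
    · subst hz1
      obtain ⟨j, -, hj⟩ := Cfsg.Agent.SymplecticInvol.conj_signEl h2 xs (fun v => by rw [hxx, one_smul])
      refine ⟨_, (isConj_iff.2 ⟨P, rfl⟩ : IsConj _ (P * Cfsg.Agent.SymplecticInvol.signEl F d j * P⁻¹)).symm.trans hj,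
        Or.inl ?_⟩
      rw [key _ 1 ?_, one_smul]
      refine Matrix.ext fun a b => ?_
      rw [one_smul, Cfsg.Agent.SympSkew.stdD]
      rcases a with a | a <;> rcases b with b | b <;>
        simp [Cfsg.Agent.SymplecticInvol.signEl, Matrix.diagonal_mul, Matrix.mul_diagonal, Matrix.one_apply] <;>
        by_cases hab : a = b <;> simp [hab]
    · subst hz1
      obtain ⟨a, b, hab⟩ := Cfsg.Agent.SympSkew.exists_repr h2 e (-1) he0
      let Y : Matrix (Fin d ⊕ Fin d) (Fin d ⊕ Fin d) F :=
        Matrix.fromBlocks (a • 1) ((-(b * e)) • 1) (b • 1) ((-a) • 1)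
      have hY : Y ∈ Matrix.symplecticGroup (Fin d) F := by
        rw [SymplecticGroup.mem_iff]
        simp only [Y, Matrix.J, Matrix.fromBlocks_transpose, Matrix.fromBlocks_multiply,
          Matrix.transpose_smul, Matrix.transpose_neg, Matrix.transpose_one, Matrix.smul_mul, Matrix.mul_smul,
          Matrix.one_mul, Matrix.mul_one, Matrix.mul_zero, zero_add, add_zero, Matrix.mul_neg,
          smul_neg, smul_smul, neg_smul]
        congr 1
        · module
        · rw [← neg_one_smul F (1 : Matrix (Fin d) (Fin d) F), ← hab]; module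
        · conv_rhs => rw [← one_smul F (1 : Matrix (Fin d) (Fin d) F),
            show (1 : F) = -(a * a - e * (b * b)) by rw [hab, neg_neg]]
          module
        · module
      have hYY : Y * Y = -1 := by
        simp only [Y, Matrix.fromBlocks_multiply, Matrix.smul_mul, Matrix.mul_smul, Matrix.one_mul,
          smul_smul, ← add_smul]
        rw [← Matrix.fromBlocks_one, Matrix.fromBlocks_neg, neg_zero,
          show a * a + b * -(b * e) = -1 by linear_combination hab,
          show -(b * e) * a + -a * -(b * e) = 0 by ring, show a * b + b * -a = 0 by ring,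
          show -(b * e) * b + -a * -a = -1 by linear_combination hab]
        simp
      let y0 : ↥(Matrix.symplecticGroup (Fin d) F) := ⟨Y, hY⟩
      have h1 := Cfsg.Agent.SymplecticInvol.conj_symJ h2 xs (fun v => by rw [hxx, neg_one_smul])
      have h3 := Cfsg.Agent.SymplecticInvol.conj_symJ h2 y0 (fun v => by
        show Y *ᵥ (Y *ᵥ v) = -v
        rw [Matrix.mulVec_mulVec, hYY, Matrix.neg_mulVec, Matrix.one_mulVec])
      refine ⟨_, (isConj_iff.2 ⟨P, rfl⟩ : IsConj y0 (P * y0 * P⁻¹)).symm.trans (h3.symm.trans h1), Or.inr ?_⟩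
      rw [key y0 (-1) ?_, neg_one_smul]
      show Y * Cfsg.Agent.SympSkew.stdD d e = _ • (Cfsg.Agent.SympSkew.stdD d e * Y)
      simp only [Y, Cfsg.Agent.SympSkew.stdD, Matrix.fromBlocks_multiply, Matrix.fromBlocks_smul,
        Matrix.smul_mul, Matrix.mul_smul, Matrix.one_mul, Matrix.mul_one, Matrix.mul_zero, Matrix.zero_mul,
        smul_smul, zero_add, add_zero, smul_zero]
      congr 1 <;> module

end Cfsg.Agent.S5976
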