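import Cfsg.Statements.S5980
import Cfsg.Agent.Lib.TensorSympDerange95
import Cfsg.Agent.Lib.SympFieldExtDerange
import Cfsg.Agent.Lib.SymplecticInvol
-- import your own Cfsg.Agent.* helpers here

set_option autoImplicit false
open scoped MatrixGroups
open Cfsg

namespace Cfsg.Agent.S5980

open Cfsg.Agent.TensorDerange84 Cfsg.Agent.TensorSympDerange95 Cfsg.Agent.SymplecticBasic Module
open scoped Kronecker Matrix

variable {F : Type*} [Field F]

/-- Eigenspaces of a diagonal matrix. -/
theorem finrank_ker_diagonal {ι : Type} [Fintype ι] [DecidableEq ι] [DecidableEq F] (d : ι → F) (μ : F) :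
    finrank F ↥(LinearMap.ker (Matrix.toLin' (Matrix.diagonal d) - μ • 1)) = Fintype.card {i // d i = μ} := by
  let K := LinearMap.ker (Matrix.toLin' (Matrix.diagonal d) - μ • (1 : Module.End F (ι → F)))
  have hK : ∀ v, v ∈ K ↔ ∀ i, d i ≠ μ → v i = 0 := by
    intro v
    simp only [K, LinearMap.mem_ker, LinearMap.sub_apply, LinearMap.smul_apply, Module.End.one_apply, sub_eq_zero,
      Matrix.toLin'_apply, funext_iff, Matrix.mulVec_diagonal, Pi.smul_apply, smul_eq_mul]
    refine forall_congr' fun i => ?_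
    by_cases h : d i = μ
    · simp [h]
    · simp [h, mul_eq_mul_right_iff]
  let e : K ≃ₗ[F] ({i // d i = μ} → F) :=
    { toFun := fun v i => (v : ι → F) i
      map_add' := fun a b => rfl
      map_smul' := fun a b => rfl
      invFun := fun w => ⟨fun i => if h : d i = μ then w ⟨i, h⟩ else 0, (hK _).2 fun i hi => dif_neg hi⟩
      left_inv := fun v => by
        apply Subtype.ext
        funext i
        by_cases h : d i = μ
        · simp [h]
        · simp [h, (hK _).1 v.2 i h]
      right_inv := fun w => funext fun i => by simp [i.2] }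
  rw [e.finrank_eq, Module.finrank_fintype_fun_eq_card]

theorem gram_formOfGram {κ : Type} [Fintype κ] (G : Matrix κ κ F) (x y : κ → F) :
    Cfsg.Geo.formOfGram id G x y = x ⬝ᵥ (G *ᵥ y) := by
  simp [Cfsg.Geo.formOfGram, dotProduct, Matrix.mulVec, Finset.mul_sum, mul_assoc]

/-- Kronecker products of isometries act as isometries. -/
theorem exists_kron {d a b : ℕ} (e : (Fin d ⊕ Fin d) ≃ Fin a × Fin b) (P : GL (Fin d ⊕ Fin d) F)
    {f₁ : (Fin a → F) → (Fin a → F) → F} {f₂ : (Fin b → F) → (Fin b → F) → F}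
    (hS : Cfsg.Geo.IsTensorFormStructure id (Cfsg.sympForm d F) f₁ f₂ e P) (A : GL (Fin a) F) (B : GL (Fin b) F)
    (hA : (A : Matrix (Fin a) (Fin a) F)ᵀ * Cfsg.Geo.gramMatrix f₁ * A = Cfsg.Geo.gramMatrix f₁)
    (hB : (B : Matrix (Fin b) (Fin b) F)ᵀ * Cfsg.Geo.gramMatrix f₂ * B = Cfsg.Geo.gramMatrix f₂) :
    ∃ (y : ↥(Matrix.symplecticGroup (Fin d) F)) (φ : (Fin a × Fin b → F) ≃ₗ[F] (Fin d ⊕ Fin d → F)),
      SympSemisimpleClasses.unitsHom d F y ∈ Cfsg.Geo.tensorProductSubgroup a b e P ∧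
      ∀ v, (y : Matrix (Fin d ⊕ Fin d) (Fin d ⊕ Fin d) F) *ᵥ φ v =
        φ (((A : Matrix (Fin a) (Fin a) F) ⊗ₖ (B : Matrix (Fin b) (Fin b) F)) *ᵥ v) := by
  classical
  obtain ⟨K, hK⟩ : ∃ K : GL (Fin a × Fin b) F,
      (K : Matrix _ _ F) = (A : Matrix (Fin a) (Fin a) F) ⊗ₖ (B : Matrix (Fin b) (Fin b) F) :=
    ⟨⟨(A : Matrix (Fin a) (Fin a) F) ⊗ₖ (B : Matrix (Fin b) (Fin b) F), ((A⁻¹ : GL (Fin a) F) : Matrix (Fin a) (Fin a) F) ⊗ₖ ((B⁻¹ : GL (Fin b) F) : Matrix (Fin b) (Fin b) F),
      by rw [← Matrix.mul_kronecker_mul]; simp, by rw [← Matrix.mul_kronecker_mul]; simp⟩, rfl⟩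
  set R := Cfsg.Geo.glReindex e.symm K with hR
  let φ : (Fin a × Fin b → F) ≃ₗ[F] (Fin d ⊕ Fin d → F) :=
    (LinearEquiv.funCongrLeft F F e).trans
      ((LinearMap.GeneralLinearGroup.generalLinearEquiv F (Fin d ⊕ Fin d → F))
        (Matrix.GeneralLinearGroup.toLin P))
  have hRX : ∀ X : Fin a × Fin b → F, (R : Matrix (Fin d ⊕ Fin d) (Fin d ⊕ Fin d) F) *ᵥ (X ∘ e) =
      ((K : Matrix (Fin a × Fin b) (Fin a × Fin b) F) *ᵥ X) ∘ e := fun X => by
    show ((K : Matrix _ _ F).submatrix e e) *ᵥ (X ∘ e) = _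
    rw [Matrix.submatrix_mulVec_equiv]
    simp [Function.comp_assoc]
  set Y : GL (Fin d ⊕ Fin d) F := P * R * P⁻¹ with hY
  have hYφ : ∀ X, (Y : Matrix (Fin d ⊕ Fin d) (Fin d ⊕ Fin d) F) *ᵥ φ X =
      φ ((K : Matrix (Fin a × Fin b) (Fin a × Fin b) F) *ᵥ X) := by
    intro X
    show (Y : Matrix (Fin d ⊕ Fin d) (Fin d ⊕ Fin d) F) *ᵥ ((P : Matrix (Fin d ⊕ Fin d) (Fin d ⊕ Fin d) F) *ᵥ (X ∘ e)) =
      (P : Matrix (Fin d ⊕ Fin d) (Fin d ⊕ Fin d) F) *ᵥ (((K : Matrix (Fin a × Fin b) (Fin a × Fin b) F) *ᵥ X) ∘ e)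
    rw [Matrix.mulVec_mulVec, ← Units.val_mul, show Y * P = P * R by rw [hY]; group, Units.val_mul,
      ← Matrix.mulVec_mulVec, hRX]
  obtain ⟨c, -, hc⟩ := hS
  have hYm : (Y : Matrix (Fin d ⊕ Fin d) (Fin d ⊕ Fin d) F) ∈ Matrix.symplecticGroup (Fin d) F := by
    refine mem_sp_iff_form.2 fun u v => ?_
    obtain ⟨X, rfl⟩ := φ.surjective u
    obtain ⟨Z, rfl⟩ := φ.surjective v
    rw [hYφ, hYφ]
    show Cfsg.sympForm d F ((P : Matrix (Fin d ⊕ Fin d) (Fin d ⊕ Fin d) F) *ᵥ (((K : Matrix (Fin a × Fin b) (Fin a × Fin b) F) *ᵥ X) ∘ e)) ((P : Matrix (Fin d ⊕ Fin d) (Fin d ⊕ Fin d) F) *ᵥ (((K : Matrix (Fin a × Fin b) (Fin a × Fin b) F) *ᵥ Z) ∘ e)) =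
      Cfsg.sympForm d F ((P : Matrix (Fin d ⊕ Fin d) (Fin d ⊕ Fin d) F) *ᵥ (X ∘ e)) ((P : Matrix (Fin d ⊕ Fin d) (Fin d ⊕ Fin d) F) *ᵥ (Z ∘ e))
    rw [hc, hc, gram_formOfGram, gram_formOfGram]
    congr 1
    rw [Matrix.mulVec_mulVec, ← Matrix.vecMul_transpose, ← Matrix.dotProduct_mulVec, Matrix.mulVec_mulVec, hK,
      ← Matrix.kroneckerMap_transpose, ← Matrix.mul_kronecker_mul, ← Matrix.mul_kronecker_mul,
      ← Matrix.mul_assoc, ← Matrix.mul_assoc, hA, hB]
  refine ⟨⟨_, hYm⟩, φ, ?_, fun v => by rw [← hK]; exact hYφ v⟩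
  exact ⟨R, ⟨K, ⟨A, B, hK⟩, rfl⟩, Units.ext rfl⟩

theorem ten_of_mem {d a b : ℕ} (e : (Fin d ⊕ Fin d) ≃ Fin a × Fin b) (P x g' : GL (Fin d ⊕ Fin d) F)
    (h : g'⁻¹ * x * g' ∈ Cfsg.Geo.tensorProductSubgroup a b e P) :
    Ten (Matrix.toLin' (x : Matrix (Fin d ⊕ Fin d) (Fin d ⊕ Fin d) F)) a b := by
  classical
  obtain ⟨_, ⟨K, ⟨A, B, hK⟩, rfl⟩, hy⟩ := h
  set R := Cfsg.Geo.glReindex e.symm K with hR
  change P * R * P⁻¹ = g'⁻¹ * x * g' at hy
  have hxS : x * (g' * P) = g' * P * R := by
    calc x * (g' * P) = g' * (g'⁻¹ * x * g') * P := by group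
      _ = g' * P * R := by rw [← hy]; group
  let φ : (Fin a × Fin b → F) ≃ₗ[F] (Fin d ⊕ Fin d → F) :=
    (LinearEquiv.funCongrLeft F F e).trans
      ((LinearMap.GeneralLinearGroup.generalLinearEquiv F (Fin d ⊕ Fin d → F))
        (Matrix.GeneralLinearGroup.toLin (g' * P)))
  refine ⟨A, B, φ, fun v => ?_⟩
  show (x : Matrix (Fin d ⊕ Fin d) (Fin d ⊕ Fin d) F) *ᵥ (((g' * P : GL (Fin d ⊕ Fin d) F) : Matrix _ _ F) *ᵥ (v ∘ e)) =
    ((g' * P : GL (Fin d ⊕ Fin d) F) : Matrix _ _ F) *ᵥ
      ((((A : Matrix (Fin a) (Fin a) F) ⊗ₖ (B : Matrix (Fin b) (Fin b) F)) *ᵥ v) ∘ e)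
  rw [Matrix.mulVec_mulVec, ← Units.val_mul, hxS, Units.val_mul, ← Matrix.mulVec_mulVec]
  congr 1
  rw [← hK]
  show ((K : Matrix _ _ F).submatrix e e) *ᵥ (v ∘ e) = _
  rw [Matrix.submatrix_mulVec_equiv]
  simp [Function.comp_assoc]

/-- A diagonal element of the symplectic group. -/
theorem diag_mem {d : ℕ} (D : Fin d → F) (hD : ∀ i, D i ≠ 0) :
    Matrix.diagonal (Sum.elim D fun i => (D i)⁻¹) ∈ Matrix.symplecticGroup (Fin d) F := by
  refine mem_sp_iff_form.2 fun u v => ?_
  simp only [form_eq_sum, Matrix.mulVec_diagonal, Sum.elim_inl, Sum.elim_inr]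
  refine Finset.sum_congr rfl fun i _ => ?_
  have := hD i
  field_simp

/-- An orthogonal frame for a symmetric form. -/
theorem exists_orth_matrix [Fintype F] (h2 : (2 : F) ≠ 0) {b : ℕ} {f₂ : (Fin b → F) → (Fin b → F) → F}
    (hf : Cfsg.Geo.IsSymmetricForm f₂) :
    ∃ (Q : GL (Fin b) F) (δ : Fin b → F),
      (Q : Matrix (Fin b) (Fin b) F)ᵀ * Cfsg.Geo.gramMatrix f₂ * Q = Matrix.diagonal δ := by
  classical
  letI := invertibleOfNonzero h2
  let Bl : LinearMap.BilinForm F (Fin b → F) :=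
    LinearMap.mk₂ F f₂ hf.bilinear.add_left hf.bilinear.smul_left (fun v x y => hf.bilinear.add_right v x y)
      (fun c v x => hf.bilinear.smul_right c v x)
  obtain ⟨v, hv⟩ := LinearMap.BilinForm.exists_orthogonal_basis (B := Bl) ⟨fun x y => hf.symm x y⟩
  let v' := v.reindex (finCongr (Module.finrank_fin_fun F))
  let M : Matrix (Fin b) (Fin b) F := Matrix.of fun i j => v' j i
  have hcol : ∀ j, M *ᵥ Pi.single j 1 = v' j := fun j => by funext i; simp [M]
  have hMu : IsUnit M := by
    refine Matrix.linearIndependent_cols_iff_isUnit.1 ?_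
    exact v'.linearIndependent
  obtain ⟨Q, hQ⟩ := hMu
  have hG : ∀ x y, f₂ x y = x ⬝ᵥ (Cfsg.Geo.gramMatrix f₂ *ᵥ y) := by
    intro x y
    have e : LinearMap.toMatrix₂' F Bl = Cfsg.Geo.gramMatrix f₂ := by
      ext i j
      simp [Cfsg.Geo.gramMatrix, LinearMap.toMatrix₂'_apply, Bl]
    rw [← e, ← Matrix.toLinearMap₂'_apply', Matrix.toLinearMap₂'_toMatrix']
    rfl
  refine ⟨Q, fun j => f₂ (v' j) (v' j), ?_⟩
  rw [hQ]
  ext i j
  have key : (Mᵀ * Cfsg.Geo.gramMatrix f₂ * M) i j = f₂ (v' i) (v' j) := by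
    rw [hG, ← hcol i, ← hcol j, Matrix.mulVec_mulVec, ← Matrix.vecMul_transpose, ← Matrix.dotProduct_mulVec,
      Matrix.mulVec_mulVec, single_dotProduct, one_mul, Matrix.mulVec_single_one, Matrix.mul_assoc]
    rfl
  rw [key]
  by_cases h : i = j
  · subst h; simp
  · rw [Matrix.diagonal_apply_ne _ h]
    have : (finCongr (Module.finrank_fin_fun F (n := b))).symm i ≠ (finCongr (Module.finrank_fin_fun F (n := b))).symm j :=
      fun e => h ((Equiv.injective _) e)
    have := hv this
    simpa [v', Function.onFun, Bl, Basis.reindex_apply] using this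

/-- Elements of prime order of PSp_n(q), q odd, and the stabilizers of tensor decompositions Sp_a(q) ⊗ O_b(q). Here `T = PSp_{2d}(F)` for a field `F` with `q` elements, `q` odd, `d ≥ 2`, realised through the matrices preserving the standard alternating form `f`; `2d = a·b` with `a` even, `b ≥ 3`, and the bijection `e` and change of basis `P` exhibit `f` as a non-zero scalar multiple of the tensor product of a non-degenerate alternating form `f₁` on `F^a` and a non-degenerate symmetric bilinear form `f₂` on `F^b`; `H` is the subgroup of `T` stabilizing this tensor decomposition (the elements of `T` in the conjugate by `P` of the group of Kronecker products) — a subgroup of type Sp_a(q) ⊗ O^ε_b(q) (maximality is not assumed). Ω is the set of cosets of `H` in `T`, so an element of `T` of prime order `r` (`x ∈ T` with `x^r` scalar, `x` not scalar) fixes a point of Ω exactly when some `T`-conjugate of `x` lies in `H`. Let `r` be a prime dividing the index of `H`. Then every element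 of `T` of order `r` fixes a point of Ω if and only if `r = 2` and `a = 2`. -/
theorem result {F : Type*} [Field F] [Fintype F] {p : ℕ} [Fact p.Prime] [CharP F p] {q : ℕ} (hq : Fintype.card F = q)
    (hodd : Odd q) (d : ℕ) (hd : 2 ≤ d) (a b : ℕ) (hab : 2 * d = a * b) (ha : Even a) (ha2 : 2 ≤ a) (hb : 3 ≤ b)
    (e : (Fin d ⊕ Fin d) ≃ Fin a × Fin b) (P : GL (Fin d ⊕ Fin d) F)
    (f₁ : (Fin a → F) → (Fin a → F) → F) (f₂ : (Fin b → F) → (Fin b → F) → F)
    (hf₁ : Cfsg.Geo.IsSymplecticForm f₁) (hf₂ : Cfsg.Geo.IsSymmetricForm f₂)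
    (hS : Cfsg.Geo.IsTensorFormStructure id (Cfsg.sympForm d F) f₁ f₂ e P)
    (r : ℕ) [Fact r.Prime]
    (hΩ : r ∣ (Cfsg.Geo.tensorProductSubgroup a b e P).relIndex (Cfsg.spGL d F)) :
    (∀ x ∈ Cfsg.spGL d F, (∃ z : F, ((x ^ r : GL (Fin d ⊕ Fin d) F) : Matrix (Fin d ⊕ Fin d) (Fin d ⊕ Fin d) F) = z • (1 : Matrix (Fin d ⊕ Fin d) (Fin d ⊕ Fin d) F)) →
      (∀ z : F, (x : Matrix (Fin d ⊕ Fin d) (Fin d ⊕ Fin d) F) ≠ z • (1 : Matrix (Fin d ⊕ Fin d) (Fin d ⊕ Fin d) F)) →
      ∃ g ∈ Cfsg.spGL d F, g⁻¹ * x * g ∈ Cfsg.Geo.tensorProductSubgroup a b e P) ↔ (r = 2 ∧ a = 2) := by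
  classical
  subst hq
  have hr : r.Prime := Fact.out
  have hn : finrank F (Fin d ⊕ Fin d → F) = 2 * d := by
    rw [Module.finrank_fintype_fun_eq_card, Fintype.card_sum, Fintype.card_fin]; omega
  have h2b : 2 * b ≤ a * b := Nat.mul_le_mul_right b ha2
  have h2a : a * 3 ≤ a * b := Nat.mul_le_mul_left a hb
  have h2F : (2 : F) ≠ 0 := by
    intro h0
    have h1 : p = 2 := (Nat.prime_dvd_prime_iff_eq Fact.out Nat.prime_two).1
      ((CharP.cast_eq_zero_iff F p 2).1 (by exact_mod_cast h0))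
    have h3 := FiniteField.even_card_of_char_two (by rw [ringChar.eq F p]; exact h1)
    rw [Nat.odd_iff] at hodd
    omega
  have hm1 : (-1 : F) ≠ 1 := fun e => h2F (by linear_combination -e)
  constructor
  · intro hall
    have key : ∀ x : ↥(Matrix.symplecticGroup (Fin d) F), (∃ z : F, x.1 ^ r = z • 1) → (∀ z : F, x.1 ≠ z • 1) →
        Ten (Matrix.toLin' x.1) a b := by
      intro x hz hns
      obtain ⟨g, -, hg⟩ := hall (SympSemisimpleClasses.unitsHom d F x) (SympSkew.unitsHom_mem x)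
        (by rw [Units.val_pow_eq_pow_val]; exact hz) hns
      exact ten_of_mem e P _ g hg
    have hpowlin : ∀ (M : Matrix (Fin d ⊕ Fin d) (Fin d ⊕ Fin d) F) (t : ℕ), Matrix.toLin' M ^ t = Matrix.toLin' (M ^ t) :=
      fun M t => (Matrix.toLin'_pow M t).symm
    have diagTest : ∀ (D : Fin d → F) (hD : ∀ i, D i ≠ 0) (z : F), (∀ i, D i ^ r = z) → (∀ i, (D i)⁻¹ ^ r = z) →
        (∀ c : F, ∃ i, D i ≠ c ∨ (D i)⁻¹ ≠ c) → ∀ lam μ : F, lam ≠ 0 → μ ≠ 0 →
        a * b < Fintype.card {i // Sum.elim D (fun i => (D i)⁻¹) i = lam} + b →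
        ¬ a ∣ Fintype.card {i // Sum.elim D (fun i => (D i)⁻¹) i = μ} →
        ¬ b ∣ Fintype.card {i // Sum.elim D (fun i => (D i)⁻¹) i = μ} → False := by
      intro D hD z hz hz' hns lam μ hl hμ h1 h2 h3
      let x : ↥(Matrix.symplecticGroup (Fin d) F) := ⟨_, diag_mem D hD⟩
      have hT := key x ⟨z, by
          show Matrix.diagonal _ ^ r = _
          rw [Matrix.diagonal_pow, Matrix.smul_one_eq_diagonal]
          congr 1
          funext i
          rcases i with i | i
          · exact hz i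
          · exact hz' i⟩
        (fun c hc => by
          obtain ⟨i, hi⟩ := hns c
          rcases hi with hi | hi
          · apply hi
            have := congrFun (congrFun hc (Sum.inl i)) (Sum.inl i)
            simpa [x] using this
          · apply hi
            have := congrFun (congrFun hc (Sum.inr i)) (Sum.inr i)
            simpa [x] using this)
      rcases hT.eigen (by omega) hl hμ with ⟨-, h4⟩ | ⟨-, h4⟩ | ⟨h4, -⟩
      · rw [finrank_ker_diagonal] at h4; exact h2 h4
      · rw [finrank_ker_diagonal] at h4; exact h3 h4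
      · rw [finrank_ker_diagonal] at h4; omega
    let i₀ : Fin d := ⟨0, by omega⟩
    let i₁ : Fin d := ⟨1, by omega⟩
    have h10 : i₁ ≠ i₀ := by simp [i₀, i₁]
    have hrp : r ≠ p := by
      intro hrp
      let v : Fin d ⊕ Fin d → F := Pi.single (Sum.inl i₀) 1
      let w : Fin d ⊕ Fin d → F := Pi.single (Sum.inr i₀) 1
      have hwv : sympForm d F w v = 1 := by rw [form_single_inl_right]; simp [w]
      have hv0 : v ≠ 0 := by simp [v]
      let x := transv v (1 : F)
      have hxr : x ^ r = 1 := by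
        have : ∀ n : ℕ, transv v (1 : F) ^ n = transv v (n : F) := by
          intro n
          induction n with
          | zero => rw [pow_zero, Nat.cast_zero, transv_zero]
          | succ n ih => rw [pow_succ, ih, transv_add, Nat.cast_succ]
        rw [this, hrp, CharP.cast_eq_zero, transv_zero]
      have hns : ∀ z : F, x.1 ≠ z • 1 := fun z hz => by
        have h1 := transv_smul v (1 : F) w
        rw [smul_def, hz, Matrix.smul_mulVec, Matrix.one_mulVec, hwv, mul_one, one_smul] at h1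
        have := congrFun h1 (Sum.inl i₀)
        simp [v, w] at this
      have hT := key x ⟨1, by rw [← SubmonoidClass.coe_pow, hxr, one_smul]; rfl⟩ hns
      let Φ : (Fin d ⊕ Fin d → F) →ₗ[F] F :=
        { toFun := fun u => sympForm d F u v
          map_add' := fun a b => form_add_left a b v
          map_smul' := fun c a => form_smul_left c a v }
      have h1 := LinearMap.finrank_range_add_finrank_ker Φ
      have h2 := Submodule.finrank_le (LinearMap.range Φ)
      rw [Module.finrank_self] at h2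
      have h3 : LinearMap.ker Φ ≤ LinearMap.ker (Matrix.toLin' x.1 - 1) := fun u hu => by
        rw [LinearMap.mem_ker, LinearMap.sub_apply, sub_eq_zero, Matrix.toLin'_apply, coe_transv,
          transvection_mulVec, show sympForm d F u v = 0 from hu, mul_zero, zero_smul, add_zero]
        rfl
      have h4 := Submodule.finrank_mono h3
      have h5 : finrank F ↥(LinearMap.ker (Matrix.toLin' x.1 - 1)) < 2 * d := by
        rw [← hn]
        refine Submodule.finrank_lt fun htop => hns 1 ?_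
        rw [LinearMap.ker_eq_top, sub_eq_zero] at htop
        rw [one_smul]
        exact Matrix.toLin'.injective (htop.trans Matrix.toLin'_one.symm)
      rw [hn] at h1
      have h6 : finrank F ↥(LinearMap.ker (Matrix.toLin' x.1 - 1)) + 1 = a * b := by omega
      have he := hT.eigen (by omega) (one_ne_zero (α := F)) (one_ne_zero (α := F))
      rw [one_smul] at he
      rcases he with ⟨h7, -⟩ | ⟨h7, -⟩ | ⟨h7, -⟩
      · have h8 := Nat.dvd_sub (dvd_mul_right a b) h7
        rw [show a * b - finrank F ↥(LinearMap.ker (Matrix.toLin' x.1 - 1)) = 1 by omega, Nat.dvd_one] at h8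
        omega
      · have h8 := Nat.dvd_sub (dvd_mul_left b a) h7
        rw [show a * b - finrank F ↥(LinearMap.ker (Matrix.toLin' x.1 - 1)) = 1 by omega, Nat.dvd_one] at h8
        omega
      · omega
    have hrF : (r : F) ≠ 0 := by
      rw [Ne, CharP.cast_eq_zero_iff F p, Nat.prime_dvd_prime_iff_eq Fact.out Fact.out]
      exact fun e => hrp e.symm
    -- count eigenvalues of a test with one special pair
    have hc2 : ∀ (D : Fin d → F) (s t : F), s ≠ 1 → D i₀ = s → t = s⁻¹ → (∀ i, i ≠ i₀ → D i = 1) →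
        Fintype.card {i // Sum.elim D (fun i => (D i)⁻¹) i = 1} + 2 = a * b ∧
        Fintype.card {i // Sum.elim D (fun i => (D i)⁻¹) i = s} = if t = s then 2 else 1 := by
      intro D s t hs h0 ht hD
      subst ht
      constructor
      · rw [Fintype.card_subtype,
          show ({i | Sum.elim D (fun i => (D i)⁻¹) i = 1} : Finset (Fin d ⊕ Fin d)) = {Sum.inl i₀, Sum.inr i₀}ᶜ by
            ext i; rcases i with i | i <;> by_cases h : i = i₀ <;> simp [h, h0, hD, hs],
          Finset.card_compl, Finset.card_pair (by simp), Fintype.card_sum, Fintype.card_fin]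
        omega
      · by_cases hst : s⁻¹ = s
        · rw [if_pos hst, Fintype.card_subtype,
            show ({i | Sum.elim D (fun i => (D i)⁻¹) i = s} : Finset (Fin d ⊕ Fin d)) = {Sum.inl i₀, Sum.inr i₀} by
              ext i; rcases i with i | i <;> by_cases h : i = i₀ <;> simp [h, h0, hD, Ne.symm hs, hst],
            Finset.card_pair (by simp)]
        · rw [if_neg hst, Fintype.card_subtype,
            show ({i | Sum.elim D (fun i => (D i)⁻¹) i = s} : Finset (Fin d ⊕ Fin d)) = {Sum.inl i₀} by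
              ext i; rcases i with i | i <;> by_cases h : i = i₀ <;> simp [h, h0, hD, Ne.symm hs, hst],
            Finset.card_singleton]
    by_cases hr2 : r = 2
    · refine ⟨hr2, ?_⟩
      by_contra hane
      obtain ⟨a', ha'⟩ := ha
      let D : Fin d → F := fun i => if i = i₀ then -1 else 1
      obtain ⟨hA, hB⟩ := hc2 D (-1) (-1) hm1 (if_pos rfl) (by rw [inv_neg, inv_one]) fun i hi => if_neg hi
      rw [if_pos rfl] at hB
      subst hr2
      refine diagTest D (fun i => by simp only [D]; split_ifs <;> simp) 1 (fun i => by simp only [D]; split_ifs <;> simp)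
        (fun i => by simp only [D]; split_ifs <;> simp) (fun c => ?_) 1 (-1) one_ne_zero (neg_ne_zero.2 one_ne_zero)
        (by omega) (by rw [hB]; intro h; have := Nat.le_of_dvd (by omega) h; omega)
        (by rw [hB]; intro h; have := Nat.le_of_dvd (by omega) h; omega)
      by_cases h : c = 1
      · exact ⟨i₀, Or.inl (by simp [D, h, hm1])⟩
      · exact ⟨i₁, Or.inl (by simp [D, h10, Ne.symm h])⟩
    exfalso
    have hrodd : Odd r := hr.odd_of_ne_two hr2
    set i := orderOf (Fintype.card F : ZMod r) with hi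
    have hipos : 0 < i := PrimeOrderModule84.orderOf_card_pos hrF
    rcases Nat.lt_or_ge i 2 with h1 | h1
    · have hrq : r ∣ Fintype.card F - 1 := by
        have := (PrimeOrderModule84.card_pow_eq_one_iff (F := F) (r := r) 1).1 (by
          rw [show (1 : ℕ) = i by omega]; exact pow_orderOf_eq_one _)
        rwa [pow_one] at this
      obtain ⟨u, hu⟩ := exists_prime_orderOf_dvd_card' (G := Fˣ) r (by
        rw [Nat.card_units, Nat.card_eq_fintype_card]; exact hrq)
      have hur : (u : F) ^ r = 1 := by rw [← Units.val_pow_eq_pow_val, ← hu, pow_orderOf_eq_one, Units.val_one]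
      have hu1 : (u : F) ≠ 1 := fun e => by
        rw [Units.val_eq_one] at e
        rw [e, orderOf_one] at hu
        exact hr.ne_one hu.symm
      have huu : (u : F)⁻¹ ≠ u := fun e => by
        have h2 : (u : F) ^ 2 = 1 := by rw [sq]; nth_rewrite 1 [← e]; exact inv_mul_cancel₀ u.ne_zero
        obtain ⟨j, rfl⟩ := hrodd
        rw [pow_succ, pow_mul, h2, one_pow, one_mul] at hur
        exact hu1 hur
      let D : Fin d → F := fun i => if i = i₀ then (u : F) else 1
      obtain ⟨hA, hB⟩ := hc2 D (u : F) (u : F)⁻¹ hu1 (if_pos rfl) rfl fun i hi => if_neg hi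
      rw [if_neg huu] at hB
      refine diagTest D (fun i => by simp only [D]; split_ifs <;> simp) 1 (fun i => by simp only [D]; split_ifs <;> simp [hur])
        (fun i => by simp only [D]; split_ifs <;> simp [hur, inv_pow]) (fun c => ?_) 1 (u : F) one_ne_zero u.ne_zero
        (by omega) (by rw [hB, Nat.dvd_one]; omega) (by rw [hB, Nat.dvd_one]; omega)
      by_cases h : c = 1
      · exact ⟨i₀, Or.inl (by simp [D, h, hu1])⟩
      · exact ⟨i₁, Or.inl (by simp [D, h10, Ne.symm h])⟩
    · have hnq : ¬ r ∣ Fintype.card F := fun h => by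
        obtain ⟨f, hpp, hf⟩ := FiniteField.card F p
        rw [hf] at h
        exact hrp ((Nat.prime_dvd_prime_iff_eq hr hpp).1 (hr.dvd_of_dvd_pow h))
      have hfit : ∃ j, 1 ≤ j ∧ j ≤ d ∧ ((Fintype.card F : ℕ) : ZMod r) ^ (2 * j) = 1 := by
        have hdvd : r ∣ Nat.card (Cfsg.spGL d F) := hΩ.trans (Subgroup.index_dvd_card _)
        rw [SympSkew.card_spGL, SymplecticOrder.card_symplectic (rfl : Fintype.card F = _)] at hdvd
        rcases hr.prime.dvd_or_dvd hdvd with h | h
        · exact absurd (hr.dvd_of_dvd_pow h) hnq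
        · obtain ⟨j, hj, hrj⟩ := hr.prime.exists_mem_finset_dvd h
          rw [← ZMod.natCast_eq_zero_iff, Nat.cast_sub (Nat.one_le_pow _ _ Fintype.card_pos),
            Nat.cast_pow, Nat.cast_one, sub_eq_zero] at hrj
          exact ⟨j + 1, by omega, Finset.mem_range.1 hj, hrj⟩
      obtain ⟨x, M, hB⟩ := SympPrimeElements.exists_block (p := p) (rfl : Fintype.card F = _) hd hr hr2 hrp hi hfit
      refine not_ten_of_block hrF h1 ha2 ha hb (M := M) ?_ ?_ hB.stable hB.cyclic ?_
        (key x ⟨1, by rw [← SubmonoidClass.coe_pow, hB.pow, one_smul]; rfl⟩ hB.not_scalar)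
      · rw [hpowlin, ← SubmonoidClass.coe_pow, hB.pow]
        simp
        rfl
      · intro h
        have := hB.finrank
        rw [h, finrank_bot] at this
        omega
      · rw [← hab, ← hi]; exact hB.fixed
  · rintro ⟨rfl, rfl⟩ x hx ⟨z, hz⟩ -
    obtain rfl : d = b := by omega
    let xs : ↥(Matrix.symplecticGroup (Fin d) F) := ⟨x.1, SympSkew.mem_spGL.1 hx⟩
    let φH := SympSemisimpleClasses.unitsHom d F
    have hxs : φH xs = x := Units.ext rfl
    have hxx : ∀ v : Fin d ⊕ Fin d → F, xs • xs • v = z • v := fun v => by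
      rw [smul_def, smul_def, Matrix.mulVec_mulVec, ← sq, show xs.1 ^ 2 = z • 1 by rw [← hz, Units.val_pow_eq_pow_val],
        Matrix.smul_mulVec, Matrix.one_mulVec]
    suffices ∃ y : ↥(Matrix.symplecticGroup (Fin d) F),
        φH y ∈ Cfsg.Geo.tensorProductSubgroup 2 d e P ∧ IsConj y xs by
      obtain ⟨y, hyH, hy⟩ := this
      obtain ⟨c, hc⟩ := isConj_iff.1 hy
      refine ⟨φH c, SympSkew.unitsHom_mem c, ?_⟩
      rwa [← hxs, ← hc, ← map_inv, ← map_mul, ← map_mul, show c⁻¹ * (c * y * c⁻¹) * c = y by group]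
    have hG₁ : ∀ A : Matrix (Fin 2) (Fin 2) F, A.det = 1 →
        Aᵀ * Cfsg.Geo.gramMatrix f₁ * A = Cfsg.Geo.gramMatrix f₁ := by
      intro A hA
      rw [Matrix.det_fin_two] at hA
      have h00 : Cfsg.Geo.gramMatrix f₁ 0 0 = 0 := hf₁.alternating _
      have h11 : Cfsg.Geo.gramMatrix f₁ 1 1 = 0 := hf₁.alternating _
      have h10 : Cfsg.Geo.gramMatrix f₁ 1 0 = - Cfsg.Geo.gramMatrix f₁ 0 1 := hf₁.skew _ _
      ext i j
      fin_cases i <;> fin_cases j <;> simp [Matrix.mul_apply, Fin.sum_univ_two, h00, h11, h10] <;>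
        first | ring1 | linear_combination Cfsg.Geo.gramMatrix f₁ 0 1 * hA |
          linear_combination -(Cfsg.Geo.gramMatrix f₁ 0 1) * hA
    have hz2 : z * z = 1 := by
      have h1 := form_map (xs * xs) (Pi.single (Sum.inr (⟨0, by omega⟩ : Fin d)) 1)
        (Pi.single (Sum.inl (⟨0, by omega⟩ : Fin d)) 1 : Fin d ⊕ Fin d → F)
      rw [mul_smul, mul_smul, hxx, hxx, form_smul_left, form_smul_right, form_single_inl_right] at h1
      simpa using h1
    rcases mul_self_eq_one_iff.1 hz2 with rfl | rfl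
    · obtain ⟨j, hj, hconj⟩ := SymplecticInvol.conj_signEl h2F xs (fun v => by rw [hxx, one_smul])
      obtain ⟨Q, δ, hQ⟩ := exists_orth_matrix h2F hf₂
      let s : Fin d → F := fun l => if (l : ℕ) < j then 1 else -1
      have hss : ∀ l, s l * s l = 1 := fun l => by simp only [s]; split_ifs <;> simp
      let S : GL (Fin d) F := ⟨Matrix.diagonal s, Matrix.diagonal s,
        by rw [Matrix.diagonal_mul_diagonal, funext hss, Matrix.diagonal_one],
        by rw [Matrix.diagonal_mul_diagonal, funext hss, Matrix.diagonal_one]⟩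
      let B := Q * S * Q⁻¹
      have hB : (B : Matrix (Fin d) (Fin d) F)ᵀ * Cfsg.Geo.gramMatrix f₂ * B = Cfsg.Geo.gramMatrix f₂ := by
        have hG : Cfsg.Geo.gramMatrix f₂ = ((Q⁻¹ : GL (Fin d) F) : Matrix (Fin d) (Fin d) F)ᵀ * Matrix.diagonal δ *
            ((Q⁻¹ : GL (Fin d) F) : Matrix (Fin d) (Fin d) F) := by
          rw [← hQ, ← Matrix.mul_assoc, ← Matrix.mul_assoc, ← Matrix.transpose_mul, Units.mul_inv, Matrix.transpose_one,
            Matrix.one_mul, Matrix.mul_assoc, Units.mul_inv, Matrix.mul_one]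
        have hSd : (S : Matrix (Fin d) (Fin d) F)ᵀ * Matrix.diagonal δ * (S : Matrix (Fin d) (Fin d) F) = Matrix.diagonal δ := by
          show (Matrix.diagonal s)ᵀ * _ * Matrix.diagonal s = _
          rw [Matrix.diagonal_transpose, Matrix.diagonal_mul_diagonal, Matrix.diagonal_mul_diagonal]
          congr 1
          funext l
          rw [mul_comm (s l), mul_assoc, hss, mul_one]
        calc (B : Matrix (Fin d) (Fin d) F)ᵀ * Cfsg.Geo.gramMatrix f₂ * B
            = ((Q⁻¹ : GL (Fin d) F) : Matrix (Fin d) (Fin d) F)ᵀ * ((S : Matrix (Fin d) (Fin d) F)ᵀ *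
              ((Q : Matrix (Fin d) (Fin d) F)ᵀ * Cfsg.Geo.gramMatrix f₂ * Q) * S) *
              ((Q⁻¹ : GL (Fin d) F) : Matrix (Fin d) (Fin d) F) := by
                simp only [B, Units.val_mul, Matrix.transpose_mul, Matrix.mul_assoc]
          _ = _ := by rw [hQ, hSd, ← hG]
      obtain ⟨y, φ, hyH, hyφ⟩ := exists_kron e P hS 1 B (hG₁ _ (by simp)) hB
      refine ⟨y, hyH, ?_⟩
      have hBB : (B : Matrix (Fin d) (Fin d) F) * (B : Matrix (Fin d) (Fin d) F) = 1 := by
        rw [← Units.val_mul, show B * B = 1 by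
          have : S * S = 1 := Units.ext (by
            show Matrix.diagonal s * Matrix.diagonal s = 1
            rw [Matrix.diagonal_mul_diagonal, funext hss, Matrix.diagonal_one])
          show Q * S * Q⁻¹ * (Q * S * Q⁻¹) = 1
          rw [show Q * S * Q⁻¹ * (Q * S * Q⁻¹) = Q * (S * S) * Q⁻¹ by group, this]; group, Units.val_one]
      have hyy : ∀ v : Fin d ⊕ Fin d → F, y • y • v = v := fun v => by
        obtain ⟨X, rfl⟩ := φ.surjective v
        rw [smul_def, smul_def, hyφ, hyφ, Matrix.mulVec_mulVec, ← Matrix.mul_kronecker_mul, hBB]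
        simp
      obtain ⟨j', hj', hconj'⟩ := SymplecticInvol.conj_signEl h2F y hyy
      -- the fixed space of `y` has dimension `2 j`
      have hy1 : finrank F ↥(LinearMap.ker (Matrix.toLin' y.1 - (1 : F) • 1)) = 2 * j := by
        let φ' : (Fin 2 → Fin d → F) ≃ₗ[F] (Fin d ⊕ Fin d → F) :=
          ((LinearEquiv.curry F F (Fin 2) (Fin d)).symm).trans φ
        rw [finrank_ker_compLeft (Matrix.toLin' y.1) (Matrix.toLin' (B : Matrix (Fin d) (Fin d) F)) φ' (fun v => by
          show y.1 *ᵥ φ _ = φ _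
          rw [hyφ]
          congr 1
          funext ⟨k, l⟩
          rw [kron_mulVec, Finset.sum_eq_single k]
          · simp [LinearEquiv.curry, Matrix.toLin'_apply]
          · intro k' _ hk; simp [Matrix.one_apply_ne (Ne.symm hk)]
          · intro hh; exact absurd (Finset.mem_univ k) hh)]
        congr 1
        have hQi : Function.Injective (Matrix.toLin' (Q : Matrix (Fin d) (Fin d) F)) :=
          Matrix.mulVec_injective_iff_isUnit.2 Q.isUnit
        let eQ := LinearEquiv.ofBijective _ ⟨hQi, LinearMap.injective_iff_surjective.1 hQi⟩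
        rw [show LinearMap.ker (Matrix.toLin' (B : Matrix (Fin d) (Fin d) F) - (1 : F) • 1) =
          (LinearMap.ker (Matrix.toLin' (Matrix.diagonal s) - (1 : F) • 1)).map eQ.toLinearMap from ?_,
          LinearEquiv.finrank_map_eq, finrank_ker_diagonal, Fintype.card_subtype,
          show ({l | s l = 1} : Finset (Fin d)) = Finset.univ.filter (fun l : Fin d => (l : ℕ) < j) by
            ext l; by_cases h : (l : ℕ) < j <;> simp [s, h, hm1],
          Fin.card_filter_val_lt, min_eq_right hj]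
        ext v
        obtain ⟨u, rfl⟩ := eQ.surjective v
        rw [Submodule.mem_map_equiv, LinearEquiv.symm_apply_apply]
        simp only [LinearMap.mem_ker, LinearMap.sub_apply, LinearMap.smul_apply, Module.End.one_apply, sub_eq_zero,
          one_smul, Matrix.toLin'_apply]
        show (B : Matrix (Fin d) (Fin d) F) *ᵥ ((Q : Matrix (Fin d) (Fin d) F) *ᵥ u) = (Q : Matrix (Fin d) (Fin d) F) *ᵥ u ↔ _
        rw [Matrix.mulVec_mulVec, ← Units.val_mul, show B * Q = Q * S by simp [B, mul_assoc], Units.val_mul,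
          ← Matrix.mulVec_mulVec]
        exact ⟨fun h => hQi h, fun h => congrArg _ h⟩
      have hsign : ∀ k, k ≤ d → finrank F ↥(LinearMap.ker (Matrix.toLin' (SymplecticInvol.signEl F d k).1 - (1 : F) • 1)) = 2 * k := by
        intro k hk
        show finrank F ↥(LinearMap.ker (Matrix.toLin' (Matrix.diagonal _) - (1 : F) • 1)) = _
        refine (finrank_ker_diagonal _ _).trans ?_
        rw [Fintype.card_congr (Equiv.subtypeSum ..), Fintype.card_sum, Fintype.card_subtype, Fintype.card_subtype]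
        have hiff : ∀ l : Fin d, (if (l : ℕ) < k then (1 : F) else -1) = 1 ↔ (l : ℕ) < k := fun l => by
          by_cases h : (l : ℕ) < k <;> simp [h, hm1]
        simp [hiff, Fin.card_filter_val_lt, hk, two_mul]
      obtain ⟨c, hc⟩ := isConj_iff.1 hconj'
      have heq : finrank F ↥(LinearMap.ker (Matrix.toLin' y.1 - (1 : F) • 1)) = 2 * j' := by
        rw [← hsign j' hj']
        symm
        have hci : Function.Injective (Matrix.toLin' c.1) :=
          Matrix.mulVec_injective_iff_isUnit.2 (φH c).isUnit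
        let ec := LinearEquiv.ofBijective _ ⟨hci, LinearMap.injective_iff_surjective.1 hci⟩
        rw [← LinearEquiv.finrank_map_eq ec]
        refine congrArg (fun S : Submodule F (Fin d ⊕ Fin d → F) => finrank F S) ?_
        ext v
        obtain ⟨u, rfl⟩ := ec.surjective v
        rw [Submodule.mem_map_equiv, LinearEquiv.symm_apply_apply]
        simp only [LinearMap.mem_ker, LinearMap.sub_apply, LinearMap.smul_apply, Module.End.one_apply, sub_eq_zero,
          one_smul, Matrix.toLin'_apply]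
        show _ ↔ y.1 *ᵥ (c.1 *ᵥ u) = c.1 *ᵥ u
        rw [Matrix.mulVec_mulVec, ← Submonoid.coe_mul, show y * c = c * SymplecticInvol.signEl F d j' by rw [← hc]; group,
          Submonoid.coe_mul, ← Matrix.mulVec_mulVec]
        exact ⟨fun h => congrArg _ h, fun h => hci h⟩
      obtain rfl : j' = j := by omega
      exact hconj'.symm.trans hconj
    · let A : GL (Fin 2) F := ⟨!![0, 1; -1, 0], !![0, -1; 1, 0],
        by ext i j; fin_cases i <;> fin_cases j <;> simp [Matrix.mul_apply, Fin.sum_univ_two],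
        by ext i j; fin_cases i <;> fin_cases j <;> simp [Matrix.mul_apply, Fin.sum_univ_two]⟩
      obtain ⟨y, φ, hyH, hyφ⟩ := exists_kron e P hS A 1 (hG₁ _ (by simp [A, Matrix.det_fin_two])) (by simp)
      refine ⟨y, hyH, ?_⟩
      have hAA : (A : Matrix (Fin 2) (Fin 2) F) * (A : Matrix (Fin 2) (Fin 2) F) = -1 := by
        ext i j; fin_cases i <;> fin_cases j <;> simp [A, Matrix.mul_apply, Fin.sum_univ_two]
      have hyy : ∀ v : Fin d ⊕ Fin d → F, y • y • v = -v := fun v => by
        obtain ⟨X, rfl⟩ := φ.surjective v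
        rw [smul_def, smul_def, hyφ, hyφ, Matrix.mulVec_mulVec, ← Matrix.mul_kronecker_mul, hAA, Units.val_one, Matrix.one_mul,
          show ((-1 : Matrix (Fin 2) (Fin 2) F) ⊗ₖ (1 : Matrix (Fin d) (Fin d) F)) = -1 by
            ext p q; obtain ⟨p1, p2⟩ := p; obtain ⟨q1, q2⟩ := q
            by_cases h1 : p1 = q1 <;> by_cases h2 : p2 = q2 <;> simp [Matrix.one_apply, h1, h2],
          Matrix.neg_mulVec, Matrix.one_mulVec, map_neg]
      exact (SymplecticInvol.conj_symJ h2F y hyy).symm.trans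
        (SymplecticInvol.conj_symJ h2F xs fun v => by rw [hxx, neg_one_smul])

end Cfsg.Agent.S5980
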