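import Cfsg.Statements.S5981
import Cfsg.Agent.Lib.OrthDerange84
import Cfsg.Agent.S5965
import Cfsg.Agent.S5979
import Cfsg.Agent.S5968
import Cfsg.Agent.Lib.DecompPerm84
-- import your own Cfsg.Agent.* helpers here

set_option autoImplicit false
set_option maxHeartbeats 1000000
open scoped MatrixGroups
open Cfsg

namespace Cfsg.Agent.S5981

open Module Cfsg.Agent.PrimeOrderModule84 Cfsg.Agent.OrthDerange84 Cfsg.Agent.OrthTypeCount73

section Helpers

variable {F : Type*} [Field F] [Fintype F] {n : ℕ} {r : ℕ} [Fact r.Prime]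

omit [Fintype F] in
theorem exists_form (Q : (Fin n → F) → F) (hQ : Cfsg.Geo.IsNondegenerateQuadraticForm Q) :
    ∃ q : QuadraticForm F (Fin n → F), (∀ v, q v = Q v) ∧ (QuadraticMap.polarBilin q).Nondegenerate := by
  refine ⟨QuadraticMap.ofPolar Q (fun a x => by rw [hQ.smul, smul_eq_mul]; ring) hQ.polar_bilinear.add_left
    hQ.polar_bilinear.smul_left, fun v => rfl, fun v hv => ?_, fun v hv => ?_⟩
  · by_contra h
    obtain ⟨x, hx⟩ := (hQ.nondegenerate v h).2
    exact hx (hv x)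
  · by_contra h
    obtain ⟨x, hx⟩ := (hQ.nondegenerate v h).1
    exact hx (hv x)

omit [Fintype F] [Fact r.Prime] in
theorem pres_of_conj {Q : (Fin n → F) → F} {q : QuadraticForm F (Fin n → F)} (hq : ∀ v, q v = Q v)
    (g x : GL (Fin n) F) (h : g⁻¹ * x * g ∈ Cfsg.Geo.quadSimilarityGroup Q) :
    Pres q (Matrix.toLin' (x : Matrix (Fin n) (Fin n) F)) := by
  obtain ⟨c, hc⟩ := h
  let S := (LinearMap.GeneralLinearGroup.generalLinearEquiv F (Fin n → F))
    (Matrix.GeneralLinearGroup.toLin g⁻¹)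
  refine ⟨S, c, c.ne_zero, fun v => ?_⟩
  show q (((g⁻¹ : GL (Fin n) F) : Matrix (Fin n) (Fin n) F).mulVec ((x : Matrix (Fin n) (Fin n) F).mulVec v)) =
    (c : F) * q (((g⁻¹ : GL (Fin n) F) : Matrix (Fin n) (Fin n) F).mulVec v)
  have h1 := hc (((g⁻¹ : GL (Fin n) F) : Matrix (Fin n) (Fin n) F).mulVec v)
  rw [Matrix.mulVec_mulVec, ← Units.val_mul, mul_inv_cancel_right, Units.val_mul, ← Matrix.mulVec_mulVec,
    ← hq, ← hq] at h1
  exact h1

omit [Fact r.Prime] in
theorem conj_of_pres {Q : (Fin n → F) → F} {q : QuadraticForm F (Fin n → F)} (hq : ∀ v, q v = Q v)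
    (hn : 0 < n) (x : GL (Fin n) F)
    (hss : Module.End.IsSemisimple (Matrix.toLin' (x : Matrix (Fin n) (Fin n) F)))
    (h : Pres q (Matrix.toLin' (x : Matrix (Fin n) (Fin n) F))) :
    ∃ g ∈ Cfsg.Geo.specialLinear (Fin n) F, g⁻¹ * x * g ∈ Cfsg.Geo.quadSimilarityGroup Q := by
  classical
  obtain ⟨S, l, hl, h⟩ := h
  obtain ⟨G, hG⟩ : ∃ G : GL (Fin n) F, ∀ v, (G : Matrix (Fin n) (Fin n) F).mulVec v = S v := by
    refine ⟨⟨LinearMap.toMatrix' S.toLinearMap, LinearMap.toMatrix' S.symm.toLinearMap, ?_, ?_⟩,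
      fun v => ?_⟩
    · rw [← LinearMap.toMatrix'_comp]; simp
    · rw [← LinearMap.toMatrix'_comp]; simp
    · exact LinearMap.toMatrix'_mulVec S.toLinearMap v
  have : Nonempty (Fin n) := ⟨⟨0, hn⟩⟩
  set d : F := ((G⁻¹ : GL (Fin n) F) : Matrix (Fin n) (Fin n) F).det with hd
  have hd0 : d ≠ 0 := ((Matrix.isUnit_iff_isUnit_det _).1 (G⁻¹).isUnit).ne_zero
  obtain ⟨T, hT, hTd⟩ := SemisimpleConjGL.exists_gl_commute_det hss (r := d⁻¹) (inv_ne_zero hd0)
  have hTx : T * x = x * T := Units.ext hT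
  refine ⟨T * G⁻¹, Units.ext ?_, Units.mk0 l hl, fun v => ?_⟩
  · rw [Matrix.GeneralLinearGroup.val_det_apply, Units.val_mul, Matrix.det_mul, hTd, ← hd,
      inv_mul_cancel₀ hd0]
    rfl
  · have e : (T * G⁻¹)⁻¹ * x * (T * G⁻¹) = G * x * G⁻¹ := by
      rw [mul_inv_rev, inv_inv, mul_assoc, mul_assoc, ← mul_assoc x T, ← hTx]
      group
    rw [e, Units.val_mul, Units.val_mul, ← Matrix.mulVec_mulVec, ← Matrix.mulVec_mulVec, hG, ← hq, ← hq]
    have h1 := h (((G⁻¹ : GL (Fin n) F) : Matrix (Fin n) (Fin n) F).mulVec v)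
    rw [Matrix.toLin'_apply] at h1
    rw [h1, ← hG, Matrix.mulVec_mulVec, ← Units.val_mul, mul_inv_cancel, Units.val_one, Matrix.one_mulVec]
    rfl

omit [Fact r.Prime] in
/-- Square scalars: a diagonal form is preserved. -/
theorem pres_square (h2 : (2 : F) ≠ 0) {q : QuadraticForm F (Fin n → F)}
    (hq : (QuadraticMap.polarBilin q).Nondegenerate) {A : Matrix (Fin n) (Fin n) F} {w : F} (hw : w ≠ 0)
    (hA : A ^ 2 = (w ^ 2) • 1) : Pres q (Matrix.toLin' A) := by
  classical
  haveI : Fact (Nat.Prime 2) := ⟨Nat.prime_two⟩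
  haveI : Invertible (2 : F) := invertibleOfNonzero h2
  have hA1 : (w⁻¹ • A) ^ 2 = 1 := by
    rw [_root_.smul_pow, hA, smul_smul, inv_pow, inv_mul_cancel₀ (pow_ne_zero _ hw), one_smul]
  have hc : orderOf (Fintype.card F : ZMod 2) = 1 := by
    rw [orderOf_eq_one_iff]
    have := natCast_card_ne_zero (F := F) (r := 2) (by exact_mod_cast h2)
    revert this
    generalize (Fintype.card F : ZMod 2) = a
    decide +revert
  obtain ⟨v, P, hv, hP⟩ := S5965.exists_conj_diagonal (r := 2) (by exact_mod_cast h2) hc hA1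
  have hsep : LinearMap.SeparatingLeft (QuadraticMap.associated (R := F) q) := by
    intro a ha
    refine hq.1 a fun b => ?_
    have hb := ha b
    have h2a := LinearMap.congr_fun₂ (QuadraticMap.two_nsmul_associated F q) a b
    rw [LinearMap.smul_apply, LinearMap.smul_apply, hb, smul_zero] at h2a
    exact h2a.symm
  obtain ⟨d, ⟨e⟩⟩ := QuadraticForm.equivalent_weightedSumSquares_units_of_nondegenerate' q hsep
  let σ : Fin n ≃ Fin (finrank F (Fin n → F)) := (finCongr (Module.finrank_fin_fun F).symm)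
  let Pl := (LinearMap.GeneralLinearGroup.generalLinearEquiv F (Fin n → F))
    (Matrix.GeneralLinearGroup.toLin P)
  let S : (Fin n → F) ≃ₗ[F] (Fin n → F) :=
    (Pl.trans (LinearEquiv.funCongrLeft F F σ.symm)).trans e.toLinearEquiv.symm
  refine (pres_smul_iff (inv_ne_zero hw)).1 ⟨S, 1, one_ne_zero, fun u => ?_⟩
  have hS : ∀ u, q (S u) = ∑ i, (d i : F) * ((P : Matrix (Fin n) (Fin n) F).mulVec u (σ.symm i)) ^ 2 := by
    intro u
    show q (e.toLinearEquiv.symm ((P : Matrix (Fin n) (Fin n) F).mulVec u ∘ σ.symm)) = _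
    rw [← e.map_app, show e (e.toLinearEquiv.symm _) = _ from e.toLinearEquiv.apply_symm_apply _,
      QuadraticMap.weightedSumSquares_apply]
    simp [Units.smul_def, pow_two]
  rw [hS, hS, one_mul]
  refine Finset.sum_congr rfl fun i _ => ?_
  rw [LinearMap.smul_apply, Matrix.toLin'_apply, ← Matrix.smul_mulVec, Matrix.mulVec_mulVec, hP,
    ← Matrix.mulVec_mulVec, Matrix.mulVec_diagonal, mul_pow, hv, one_mul]

/-- The exceptional positive case. -/
theorem pres_exceptional (h2 : (2 : F) ≠ 0) (hr : (r : F) ≠ 0)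
    (hc : orderOf (Fintype.card F : ZMod r) = 1) (hr35 : r = 3 ∨ r = 5) (hn : n = r)
    {q : QuadraticForm F (Fin n → F)} (hqn : (QuadraticMap.polarBilin q).Nondegenerate)
    {A : Matrix (Fin n) (Fin n) F} (hA : A ^ r = 1) (hdet : A.det = 1) : Pres q (Matrix.toLin' A) := by
  classical
  obtain ⟨v, P, hv, hP⟩ := S5965.exists_conj_diagonal hr hc hA
  have hdetv : ∏ i, v i = 1 := by
    have h1 := congrArg Matrix.det hP
    rw [Matrix.det_mul, Matrix.det_mul, hdet, mul_one, Matrix.det_diagonal, eq_comm,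
      mul_eq_right₀ ((Matrix.isUnit_iff_isUnit_det _).1 P.isUnit).ne_zero] at h1
    exact h1
  have hrq : r ∣ Fintype.card F - 1 := by
    have := (card_pow_eq_one_iff (F := F) (r := r) 1).1 (by rw [← hc]; exact pow_orderOf_eq_one _)
    rwa [pow_one] at this
  obtain ⟨ζ, hζ, hζ1⟩ := S5965.exists_root (F := F) (r := r) hrq
  have hord : orderOf ζ = r := orderOf_eq_prime hζ hζ1
  have hpr : IsPrimitiveRoot ζ r := hord ▸ IsPrimitiveRoot.orderOf ζ
  haveI : NeZero r := ⟨(Fact.out : r.Prime).ne_zero⟩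
  let pw : ZMod r → F := fun x => ζ ^ x.val
  have hpwn : ∀ m : ℕ, pw (m : ZMod r) = ζ ^ m := fun m => by
    show ζ ^ (m : ZMod r).val = ζ ^ m
    rw [ZMod.val_natCast, ← hord, pow_mod_orderOf]
  have hpwa : ∀ x y, pw (x + y) = pw x * pw y := fun x y => by
    rw [← ZMod.natCast_zmod_val x, ← ZMod.natCast_zmod_val y, ← Nat.cast_add, hpwn, hpwn, hpwn, pow_add]
  have hex : ∀ i, ∃ x : ZMod r, pw x = v i := fun i => by
    obtain ⟨j, -, hj⟩ := hpr.eq_pow_of_pow_eq_one (hv i)
    exact ⟨j, by rw [hpwn, hj]⟩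
  choose f hf using hex
  have hsum : ∑ i, f i = 0 := by
    have h1 : ∀ s : Finset (Fin n), pw (∑ i ∈ s, f i) = ∏ i ∈ s, v i := by
      intro s
      induction s using Finset.induction_on with
      | empty => rw [Finset.sum_empty, Finset.prod_empty, ← Nat.cast_zero, hpwn, pow_zero]
      | insert a s ha ih => rw [Finset.sum_insert ha, Finset.prod_insert ha, hpwa, ih, hf]
    have h2 := h1 Finset.univ
    rw [hdetv] at h2
    have h3 : r ∣ (∑ i, f i).val := (hpr.pow_eq_one_iff_dvd _).1 h2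
    rw [← ZMod.natCast_eq_zero_iff, ZMod.natCast_zmod_val] at h3
    exact h3
  obtain ⟨l, hl⟩ := S5965.exists_center hr35 (fun x => Fintype.card {i // f i = x}) (by
      rw [← Fintype.card_sigma, Fintype.card_congr (Equiv.sigmaFiberEquiv f), Fintype.card_fin, hn])
    (by
      rw [← hsum, ← Finset.sum_fiberwise Finset.univ f f]
      refine Finset.sum_congr rfl fun x _ => ?_
      rw [Finset.sum_congr rfl (fun i hi => (Finset.mem_filter.1 hi).2), Finset.sum_const,
        Fintype.card_subtype, nsmul_eq_mul])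
  -- an involution reversing the exponents about `l`
  let E : Fin n ≃ Σ x : ZMod r, Fin (Fintype.card {i // f i = x}) :=
    (Equiv.sigmaFiberEquiv f).symm.trans (Equiv.sigmaCongrRight fun x => Fintype.equivFin _)
  have hE : ∀ i, (E i).1 = f i := fun i => rfl
  let τ : (Σ x : ZMod r, Fin (Fintype.card {i // f i = x})) → Σ x : ZMod r, Fin (Fintype.card {i // f i = x}) :=
    fun p => ⟨l + l - p.1, Fin.cast (hl p.1).symm p.2⟩
  have hττ : ∀ p, τ (τ p) = p := by
    rintro ⟨x, k⟩
    refine Sigma.ext (sub_sub_cancel _ _) ?_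
    refine (Fin.heq_ext_iff ?_).2 rfl
    simp [τ]
  let π : Fin n → Fin n := fun i => E.symm (τ (E i))
  have hππ : ∀ i, π (π i) = i := fun i => by simp [π, hττ]
  have hfπ : ∀ i, f (π i) = l + l - f i := fun i => by
    rw [← hE, ← hE]
    simp [π, τ]
  let Q' : QuadraticForm F (Fin n → F) :=
    ∑ i, QuadraticMap.linMulLin (LinearMap.proj i) (LinearMap.proj (π i))
  have hQ' : ∀ u, Q' u = ∑ i, u i * u (π i) := fun u => by simp [Q', QuadraticMap.sum_apply]
  have hpolg : ∀ u w, QuadraticMap.polar Q' u w = ∑ i, (u i * w (π i) + w i * u (π i)) := fun u w => by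
    simp only [QuadraticMap.polar, hQ', ← Finset.sum_sub_distrib]
    exact Finset.sum_congr rfl fun i _ => by simp only [Pi.add_apply]; ring
  have hpol : ∀ u j, QuadraticMap.polar Q' u (Pi.single j 1) = 2 * u (π j) := fun u j => by
    rw [hpolg, Finset.sum_add_distrib, Finset.sum_eq_single (π j), Finset.sum_eq_single j]
    · rw [hππ, Pi.single_eq_same, mul_one, one_mul, two_mul]
    · intro i _ hi; rw [Pi.single_eq_of_ne hi, zero_mul]
    · intro h; exact absurd (Finset.mem_univ _) h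
    · intro i _ hi
      rw [Pi.single_eq_of_ne (fun e => hi (by rw [← e, hππ])), mul_zero]
    · intro h; exact absurd (Finset.mem_univ _) h
  have hQ'n : (QuadraticMap.polarBilin Q').Nondegenerate := by
    have key : ∀ u, (∀ w, QuadraticMap.polar Q' u w = 0) → u = 0 := fun u hu => funext fun i => by
      have := hu (Pi.single (π i) 1)
      rw [hpol, hππ, mul_eq_zero] at this
      exact this.resolve_left h2
    exact ⟨fun u hu => key u hu, fun u hu => key u fun w => by rw [QuadraticMap.polar_comm]; exact hu w⟩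
  obtain ⟨m, hm⟩ : ∃ m, n = 2 * m + 1 := ⟨n / 2, by omega⟩
  refine pres_of_model (Q := Q') (J := Matrix.toLin' (Matrix.diagonal v))
    ((LinearMap.GeneralLinearGroup.generalLinearEquiv F (Fin n → F)) (Matrix.GeneralLinearGroup.toLin P))
    (fun u => ?_) (l := pw (l + l)) (pow_ne_zero _ (hpr.ne_zero (Fact.out : r.Prime).ne_zero)) (fun u => ?_)
    (similar_odd hqn hQ'n (m := m) (by rw [Module.finrank_fin_fun, hm]) (by rw [Module.finrank_fin_fun, hm]))
  · show (P : Matrix (Fin n) (Fin n) F).mulVec (A.mulVec u) =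
      (Matrix.diagonal v).mulVec ((P : Matrix (Fin n) (Fin n) F).mulVec u)
    rw [Matrix.mulVec_mulVec, hP, ← Matrix.mulVec_mulVec]
  · rw [hQ', hQ', Finset.mul_sum]
    refine Finset.sum_congr rfl fun i _ => ?_
    rw [Matrix.toLin'_apply, Matrix.mulVec_diagonal, Matrix.mulVec_diagonal, ← hf, ← hf, hfπ]
    have : pw (f i) * pw (l + l - f i) = pw (l + l) := by rw [← hpwa, add_sub_cancel]
    linear_combination (u i * u (π i)) * this

omit [Fact r.Prime] in
theorem pres_eigen {q : QuadraticForm F (Fin n → F)} (hqn : (QuadraticMap.polarBilin q).Nondegenerate)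
    {d : Fin n → F} (hd : ∀ i, d i ≠ 0) (h : Pres q (Matrix.toLin' (Matrix.diagonal d))) :
    ∃ l : F, l ≠ 0 ∧ ∀ a : F, a ≠ 0 →
      Nat.card {i // d i = a} = Nat.card {i // d i = l * a⁻¹} := by
  classical
  obtain ⟨S, l, hl, h⟩ := h
  let Q : QuadraticForm F (Fin n → F) := q.comp (S : (Fin n → F) →ₗ[F] (Fin n → F))
  refine ⟨l, hl, fun a ha => ?_⟩
  rw [← TensorDerange84.finrank_ker_diag, ← TensorDerange84.finrank_ker_diag]
  refine finrank_eigen (Q := Q) (OrthPrimeOrderClasses73.nd_of_iso hqn S fun v => rfl) hl h ?_ ha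
  refine Finite.injective_iff_bijective.1 ?_
  intro u u' he
  funext i
  have := congrFun he i
  simp only [Matrix.toLin'_apply, Matrix.mulVec_diagonal] at this
  exact mul_left_cancel₀ (hd i) this

omit [Fintype F] [Fact r.Prime] in
theorem prod_parity (q : ℕ) : ∀ d : ℕ, ∏ i ∈ Finset.range (2 * d), (q ^ (i + 1) - 1) =
    (∏ i ∈ Finset.range d, (q ^ (2 * i + 1) - 1)) * ∏ i ∈ Finset.range d, (q ^ (2 * (i + 1)) - 1) := by
  intro d
  induction d with
  | zero => simp
  | succ d ih =>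
    rw [show 2 * (d + 1) = 2 * d + 1 + 1 by ring, Finset.prod_range_succ, Finset.prod_range_succ, ih,
      Finset.prod_range_succ (fun i => q ^ (2 * i + 1) - 1), Finset.prod_range_succ (fun i => q ^ (2 * (i + 1)) - 1),
      show 2 * (d + 1) = 2 * d + 1 + 1 by ring]
    ring

/-- Even orbit size: the index of the similitudes is prime to `r`. -/
theorem not_dvd_index_even (hq2 : (2 : F) ≠ 0) (hn : 2 ≤ n) (hr2 : r ≠ 2) (hr : (r : F) ≠ 0)
    (hce : Even (orderOf (Fintype.card F : ZMod r))) {Q : (Fin n → F) → F}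
    {qf : QuadraticForm F (Fin n → F)} (hq : ∀ v, qf v = Q v)
    (hqn : (QuadraticMap.polarBilin qf).Nondegenerate)
    (htype : ∀ d N E, n = 2 * d → Prof ⇑qf N E → orderOf (Fintype.card F : ZMod r) ∣ n → (r : ℤ) ∣ E - 1) :
    ¬ r ∣ (Cfsg.Geo.quadSimilarityGroup Q).relIndex (Cfsg.Geo.specialLinear (Fin n) F) := by
  classical
  set N₀ := Fintype.card F with hN₀
  have hrp := (Fact.out : r.Prime)
  have hrq : ¬ r ∣ N₀ := fun h => natCast_card_ne_zero (r := r) hr ((ZMod.natCast_eq_zero_iff _ _).2 h)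
  have hN2 : 1 < N₀ := Fintype.one_lt_card
  have hgood : ∀ j, Odd j → ¬ r ∣ N₀ ^ j - 1 := fun j hj hd => by
    rw [hN₀, ← card_pow_eq_one_iff, ← orderOf_dvd_iff_pow_eq_one] at hd
    exact (Nat.not_even_iff_odd.2 hj) (even_iff_two_dvd.2 (dvd_trans (even_iff_two_dvd.1 hce) hd))
  have hodd : ∀ d, ¬ r ∣ ∏ i ∈ Finset.range d, (N₀ ^ (2 * i + 1) - 1) := fun d h => by
    rw [hrp.prime.dvd_finsetProd_iff] at h
    obtain ⟨i, -, hi⟩ := h
    exact hgood _ ⟨i, rfl⟩ hi
  obtain ⟨A, hA⟩ := S5968.prod_split N₀ n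
  have hGL : Nat.card (GL (Fin n) F) = N₀ ^ A * ∏ i ∈ Finset.range n, (N₀ ^ (i + 1) - 1) := by
    rw [Matrix.card_GL_field, Fin.prod_univ_eq_prod_range (fun i => Fintype.card F ^ n - Fintype.card F ^ i), hA]
  -- a form isometric to a standard one
  obtain ⟨c, hc, C, hC, hdvd⟩ : ∃ c : F, c ≠ 0 ∧ ∃ C, ¬ r ∣ C ∧
      Nat.card (GL (Fin n) F) ∣ Nat.card (Cfsg.isometryGroup F (⇑(c • qf))) * C := by
    rcases Nat.even_or_odd n with ⟨d, hd⟩ | ⟨d, hd⟩
    · have hd' : n = 2 * d := by omega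
      obtain ⟨m, rfl⟩ : ∃ m, d = m + 1 := ⟨d - 1, by omega⟩
      obtain ⟨N, hN⟩ := exists_prof qf hqn (m := m + 1) (by rw [Module.finrank_fin_fun]; omega)
      have h1 : (1 : F) • qf = qf := one_smul F qf
      refine ⟨1, one_ne_zero, ?_⟩
      rw [h1]
      have hcard := OrthUnitaryQuad.card_isometryGroup qf (⇑qf) (LinearEquiv.refl F _) (fun _ => rfl)
      have hone : 1 ≤ N₀ ^ (m + 1) := Nat.one_le_pow _ _ (by omega)
      have hprod : (N₀ ^ (m + 1) - 1) * (N₀ ^ (m + 1) + 1) = N₀ ^ (2 * (m + 1)) - 1 := by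
        zify [hone, Nat.one_le_pow (2 * (m + 1)) N₀ (by omega)]
        ring
      -- the factor absent from the order
      have hsel : ∀ X Y : ℕ, X * Y = N₀ ^ (2 * (m + 1)) - 1 →
          Nat.card (Cfsg.isometryGroup F (⇑qf)) = 2 * N₀ ^ ((m + 1) * m) * X *
            ∏ i ∈ Finset.range m, (N₀ ^ (2 * (i + 1)) - 1) → ¬ r ∣ Y →
          ∃ C, ¬ r ∣ C ∧ Nat.card (GL (Fin n) F) ∣ Nat.card (Cfsg.isometryGroup F (⇑qf)) * C := by
        intro X Y hXY hcd hY
        refine ⟨N₀ ^ A * ((∏ i ∈ Finset.range (m + 1), (N₀ ^ (2 * i + 1) - 1)) * Y), ?_, ?_⟩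
        · intro h
          rcases hrp.dvd_mul.1 h with h | h
          · exact hrq (hrp.dvd_of_dvd_pow h)
          · rcases hrp.dvd_mul.1 h with h | h
            · exact hodd _ h
            · exact hY h
        · rw [hGL, congrArg (fun k => ∏ i ∈ Finset.range k, (N₀ ^ (i + 1) - 1)) hd', prod_parity, Finset.prod_range_succ (fun i => N₀ ^ (2 * (i + 1)) - 1), ← hXY, hcd]
          exact Dvd.intro (2 * N₀ ^ ((m + 1) * m)) (by ring)
      have hside : ∀ s : ℤ, (s = 1 ∨ s = -1) → Prof ⇑qf N (s * (N₀ : ℤ) ^ (m + 1)) →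
          ¬ (r : ℤ) ∣ (N₀ : ℤ) ^ (m + 1) + s := by
        intro s hs hP hdv
        by_cases hcn : orderOf (Fintype.card F : ZMod r) ∣ n
        · have h2 := htype (m + 1) N _ hd' hP hcn
          rcases hs with rfl | rfl
          · exact OrthPrimeOrderClasses73.not_both hrp hr2 (x := (N₀ : ℤ) ^ (m + 1)) (by simpa using h2) hdv
          · refine OrthPrimeOrderClasses73.not_both hrp hr2 (x := (N₀ : ℤ) ^ (m + 1))
              (by rwa [← sub_eq_add_neg] at hdv) ?_
            rw [← dvd_neg, show -((N₀ : ℤ) ^ (m + 1) + 1) = -1 * (N₀ : ℤ) ^ (m + 1) - 1 by ring]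
            exact h2
        · apply hcn
          rw [orderOf_dvd_iff_pow_eq_one, card_pow_eq_one_iff, hd', ← hN₀, ← hprod]
          rcases hs with rfl | rfl
          · refine dvd_mul_of_dvd_right ?_ _
            exact_mod_cast hdv
          · refine dvd_mul_of_dvd_left (Int.natCast_dvd_natCast.1 ?_) _
            rw [Nat.cast_sub hone]
            push_cast
            rwa [← sub_eq_add_neg] at hdv
      rcases hN with hN | hN
      · obtain ⟨T, hT⟩ := iso_plus_of_prof qf hqn (by rw [Module.finrank_fin_fun]; omega) hN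
        refine hsel _ _ hprod ?_ fun h => hside 1 (Or.inl rfl) (by rwa [one_mul]) ?_
        · rw [hcard, ← OrthUnitaryQuad.card_isometryGroup qf (Cfsg.quadFormPlus (m + 1) F) T hT,
            OrthUnitaryForms.card_isometryGroup_plus rfl]
        · exact_mod_cast Int.natCast_dvd_natCast.2 h
      · obtain ⟨a, b, hab⟩ := exists_aniso_pair (F := F)
        obtain ⟨T, hT⟩ := iso_minus_of_prof qf hqn (by rw [Module.finrank_fin_fun]; omega) hN hab
        refine hsel _ _ ((mul_comm _ _).trans hprod) ?_ fun h => hside (-1) (Or.inr rfl) (by rwa [neg_one_mul]) ?_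
        · rw [hcard, ← OrthUnitaryQuad.card_isometryGroup qf (Cfsg.quadFormMinus (m + 1 - 1) F a b) T hT]
          rw [OrthUnitaryForms.card_isometryGroup_minus rfl hab]
          rfl
        · have := Int.natCast_dvd_natCast.2 h
          rw [Nat.cast_sub hone] at this
          push_cast at this
          rwa [sub_eq_add_neg] at this
    · obtain ⟨c, T, hc, hT⟩ := iso_odd qf hqn (m := d) (by rw [Module.finrank_fin_fun]; omega)
      have hN₀o : Odd N₀ := by
        rw [← Nat.not_even_iff_odd]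
        intro he
        apply hq2
        obtain ⟨p, hp⟩ := CharP.exists F
        obtain ⟨k, hpp, hk⟩ := FiniteField.card F p
        have : p = 2 := ((Nat.prime_dvd_prime_iff_eq Nat.prime_two hpp).1
          (Nat.prime_two.dvd_of_dvd_pow (by rw [← hk]; exact even_iff_two_dvd.1 he))).symm
        subst this
        exact_mod_cast CharP.cast_eq_zero F 2
      refine ⟨c, hc, N₀ ^ A * ∏ i ∈ Finset.range (d + 1), (N₀ ^ (2 * i + 1) - 1), fun h => ?_, ?_⟩
      · rcases hrp.dvd_mul.1 h with h | h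
        · exact hrq (hrp.dvd_of_dvd_pow h)
        · exact hodd _ h
      · rw [OrthUnitaryQuad.card_isometryGroup (c • qf) (⇑(c • qf)) (LinearEquiv.refl F _) (fun _ => rfl),
          ← OrthUnitaryQuad.card_isometryGroup (c • qf) (Cfsg.quadFormOdd d F) T (fun v => hT v),
          OrthUnitaryForms.card_isometryGroup_odd rfl hN₀o, hGL, congrArg (fun k => ∏ i ∈ Finset.range k, (N₀ ^ (i + 1) - 1)) hd, Finset.prod_range_succ _ (2 * d),
          prod_parity, Finset.prod_range_succ _ d]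
        exact Dvd.intro (2 * N₀ ^ (d ^ 2)) (by ring)
  -- the isometries of determinant one lie in `H`
  set q' := c • qf with hq'
  let O := Cfsg.isometryGroup F (⇑q')
  let δ : O →* Fˣ := Matrix.GeneralLinearGroup.det.comp O.subtype
  have hq'n : (QuadraticMap.polarBilin q').Nondegenerate := by
    have key : ∀ u, (∀ w, QuadraticMap.polar q' u w = 0) → u = 0 := fun u hu => hqn.1 u fun w => by
      have := hu w
      rw [hq', QuadraticMap.coeFn_smul, QuadraticMap.polar_smul, smul_eq_mul, mul_eq_zero] at this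
      exact this.resolve_left hc
    exact ⟨fun u hu => key u hu, fun u hu => key u fun w => by rw [QuadraticMap.polar_comm]; exact hu w⟩
  have hsq : ∀ g : O, (δ g) ^ 2 = 1 := by
    intro g
    let M : Matrix (Fin n) (Fin n) F := ((g : GL (Fin n) F) : Matrix (Fin n) (Fin n) F)
    let G := LinearMap.toMatrix₂' F (QuadraticMap.polarBilin q')
    have hG : G.det ≠ 0 := by
      have := (LinearMap.separatingLeft_iff_det_ne_zero (Pi.basisFun F (Fin n))).1 hq'n.1
      convert this using 2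
      ext i j
      simp [G, LinearMap.toMatrix₂_apply, LinearMap.toMatrix₂'_apply]
    have hcomp : (QuadraticMap.polarBilin q').compl₁₂ (Matrix.toLin' M) (Matrix.toLin' M) =
        QuadraticMap.polarBilin q' := by
      refine LinearMap.ext fun u => LinearMap.ext fun w => ?_
      have h : ∀ v, q' (M.mulVec v) = q' v := fun v => g.2 v v
      show QuadraticMap.polar q' (M.mulVec u) (M.mulVec w) = QuadraticMap.polar q' u w
      simp only [QuadraticMap.polar, ← Matrix.mulVec_add, h]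
    have h2 := congrArg (LinearMap.toMatrix₂' F) hcomp
    rw [LinearMap.toMatrix₂'_compl₁₂, LinearMap.toMatrix'_toLin'] at h2
    have h3 := congrArg Matrix.det h2
    rw [Matrix.det_mul, Matrix.det_mul, Matrix.det_transpose] at h3
    refine Units.ext ?_
    show M.det ^ 2 = 1
    exact mul_right_cancel₀ hG (by linear_combination h3)
  have hrange : Nat.card δ.range ≤ 2 := by
    have hsub : (δ.range : Set Fˣ) ⊆ ({1, -1} : Finset Fˣ) := by
      rintro _ ⟨g, rfl⟩
      have := congrArg Units.val (hsq g)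
      rw [Units.val_pow_eq_pow_val, Units.val_one, sq_eq_one_iff] at this
      rw [Finset.mem_coe, Finset.mem_insert, Finset.mem_singleton]
      rcases this with h | h
      · exact Or.inl (Units.ext h)
      · exact Or.inr (Units.ext (by simpa using h))
    have h1 := Nat.card_mono (Finset.finite_toSet _) hsub
    rw [show Nat.card δ.range = Nat.card (δ.range : Set Fˣ) from rfl]
    refine h1.trans ?_
    rw [Nat.card_coe_set_eq, Set.ncard_coe_finset]
    exact Finset.card_le_two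
  set S := Cfsg.Geo.specialLinear (Fin n) F
  set H := Cfsg.Geo.quadSimilarityGroup Q
  have hker : Nat.card δ.ker ∣ Nat.card (H ⊓ S : Subgroup (GL (Fin n) F)) := by
    have hle : δ.ker.map O.subtype ≤ H ⊓ S := by
      rintro _ ⟨g, hg, rfl⟩
      refine ⟨⟨1, fun v => ?_⟩, hg⟩
      have h : q' (((g : GL (Fin n) F) : Matrix (Fin n) (Fin n) F).mulVec v) = q' v := g.2 v v
      rw [hq', QuadraticMap.smul_apply, QuadraticMap.smul_apply, smul_eq_mul, smul_eq_mul, hq, hq] at h
      rw [Units.val_one, one_mul]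
      exact mul_left_cancel₀ hc h
    rw [Nat.card_congr (δ.ker.equivMapOfInjective O.subtype O.subtype_injective).toEquiv]
    exact Subgroup.card_dvd_of_le hle
  intro hd
  obtain ⟨t, ht⟩ := hker
  have hO : Nat.card O = Nat.card δ.ker * Nat.card δ.range := by
    rw [← δ.ker.card_mul_index, Subgroup.index_ker]
  have hrel : H.relIndex S * Nat.card (H ⊓ S : Subgroup (GL (Fin n) F)) = Nat.card S := by
    have h := Subgroup.relIndex_mul_relIndex (⊥ : Subgroup (GL (Fin n) F)) (H ⊓ S) S bot_le inf_le_right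
    rw [Subgroup.relIndex_bot_left, Subgroup.relIndex_bot_left, Subgroup.inf_relIndex_right] at h
    rw [mul_comm, h]
  have h1 : H.relIndex S * (Nat.card δ.ker * t) ∣ Nat.card δ.ker * (Nat.card δ.range * C) := by
    rw [← ht, hrel, ← mul_assoc, ← hO]
    exact (Subgroup.card_subgroup_dvd_card S).trans hdvd
  have h3 : r ∣ Nat.card δ.range * C := by
    have h2 : Nat.card δ.ker * r ∣ Nat.card δ.ker * (Nat.card δ.range * C) := by
      refine dvd_trans ?_ h1
      obtain ⟨s, hs⟩ := hd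
      rw [hs]
      exact ⟨s * t, by ring⟩
    exact Nat.dvd_of_mul_dvd_mul_left Nat.card_pos h2
  rcases hrp.dvd_mul.1 h3 with h | h
  · have := Nat.le_of_dvd Nat.card_pos h
    have := hrp.two_le
    omega
  · exact hC h

end Helpers

/-- Elements of prime order of PSL_n(q), q odd, and the subgroups of orthogonal type. Here `T = PSL_n(F)` for a field `F` with `q` elements, `q` odd, `n ≥ 3`; `Q` is a non-degenerate quadratic form on `F^n` (of either type when `n` is even) and `H` is the subgroup of matrices of determinant 1 that preserve `Q` up to a scalar — a subgroup of type O^ε_n(q) (maximality is not assumed); Ω is the set of cosets of `H` in `T`, so an element of `T` of prime order `r` (a matrix `x` of determinant 1 with `x^r` scalar, `x` not scalar) fixes a point of Ω exactly when some conjugate of `x` by a matrix of determinant 1 preserves `Q` up to a scalar. Let `r` be a prime dividing the index of `H`, with `(n, r) ≠ (6, 3)`. Then every element of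 `T` of order `r` fixes a point of Ω if and only if `r = 2`, or `r ∈ {3, 5}`, `n = r` and `(q − 1)_r = r` (the `r`-part of `q − 1` is exactly `r`). The case `(n, r) = (6, 3)` is not covered by this statement. -/
theorem result {F : Type*} [Field F] [Fintype F] {p : ℕ} [Fact p.Prime] [CharP F p] {q : ℕ} (hq : Fintype.card F = q)
    (hodd : Odd q) (n : ℕ) (hn : 3 ≤ n) (Q : (Fin n → F) → F) (hQ : Cfsg.Geo.IsNondegenerateQuadraticForm Q)
    (r : ℕ) [Fact r.Prime] (hgap : ¬ (n = 6 ∧ r = 3))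
    (hΩ : r ∣ (Cfsg.Geo.quadSimilarityGroup Q).relIndex (Cfsg.Geo.specialLinear (Fin n) F)) :
    (∀ x ∈ Cfsg.Geo.specialLinear (Fin n) F, (∃ z : F, ((x ^ r : GL (Fin n) F) : Matrix (Fin n) (Fin n) F) = z • (1 : Matrix (Fin n) (Fin n) F)) →
      (∀ z : F, (x : Matrix (Fin n) (Fin n) F) ≠ z • (1 : Matrix (Fin n) (Fin n) F)) →
      ∃ g ∈ Cfsg.Geo.specialLinear (Fin n) F, g⁻¹ * x * g ∈ Cfsg.Geo.quadSimilarityGroup Q) ↔
    (r = 2 ∨ ((r = 3 ∨ r = 5) ∧ n = r ∧ padicValNat r (q - 1) = 1)) := by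
  classical
  subst hq
  set q := Fintype.card F with hqdef
  obtain ⟨qf, hqf, hqn⟩ := exists_form Q hQ
  have hrpr : r.Prime := Fact.out
  have hpp : p.Prime := Fact.out
  have h2F : (2 : F) ≠ 0 := OrthUnitaryForms.two_ne_zero_of_odd rfl hodd
  haveI : Nonempty (Fin n) := ⟨⟨0, by omega⟩⟩
  have hnV : finrank F (Fin n → F) = n := Module.finrank_fin_fun F
  have hne : ∃ v : Fin n → F, v ≠ 0 := ⟨Pi.single ⟨0, by omega⟩ 1, by simp⟩
  -- translation
  have hiff : ∀ (x : GL (Fin n) F) (z : F), (r : F) ≠ 0 → z ≠ 0 →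
      (x : Matrix (Fin n) (Fin n) F) ^ r = z • 1 →
      ((∃ g ∈ Cfsg.Geo.specialLinear (Fin n) F, g⁻¹ * x * g ∈ Cfsg.Geo.quadSimilarityGroup Q) ↔
        Pres qf (Matrix.toLin' (x : Matrix (Fin n) (Fin n) F))) := fun x z hr hz h =>
    ⟨fun ⟨g, _, hg⟩ => pres_of_conj hqf g x hg,
      conj_of_pres hqf (by omega) x (S5965.isSemisimple_of_pow hr hz h)⟩
  have hzof : ∀ (x : GL (Fin n) F), x ∈ Cfsg.Geo.specialLinear (Fin n) F → ∀ z : F,
      ((x ^ r : GL (Fin n) F) : Matrix (Fin n) (Fin n) F) = z • 1 →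
      z ≠ 0 ∧ (x : Matrix (Fin n) (Fin n) F).det = 1 := by
    intro x hx z hz
    have hd : (x : Matrix (Fin n) (Fin n) F).det = 1 :=
      congrArg Units.val (show Matrix.GeneralLinearGroup.det x = 1 from hx)
    refine ⟨fun e0 => ?_, hd⟩
    have := congrArg Matrix.det hz
    rw [Units.val_pow_eq_pow_val, Matrix.det_pow, hd, one_pow, e0, zero_smul, Matrix.det_zero] at this
    exact one_ne_zero this
  have hbad : ∀ (A : Matrix (Fin n) (Fin n) F) (w : F), A ^ r = 1 → (∀ s : F, A ≠ s • 1) →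
      w ^ n * A.det = 1 → ¬ Pres qf (Matrix.toLin' A) →
      ¬ (∀ x ∈ Cfsg.Geo.specialLinear (Fin n) F, (∃ z : F, ((x ^ r : GL (Fin n) F) : Matrix (Fin n) (Fin n) F) = z • (1 : Matrix (Fin n) (Fin n) F)) →
      (∀ z : F, (x : Matrix (Fin n) (Fin n) F) ≠ z • (1 : Matrix (Fin n) (Fin n) F)) →
      ∃ g ∈ Cfsg.Geo.specialLinear (Fin n) F, g⁻¹ * x * g ∈ Cfsg.Geo.quadSimilarityGroup Q) := by
    intro A w hA hns hd hP hall
    have hw : w ≠ 0 := fun e0 => by
      rw [e0, zero_pow (by omega), zero_mul] at hd; exact zero_ne_one hd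
    have hdet : (w • A).det = 1 := by rw [Matrix.det_smul, Fintype.card_fin, hd]
    let x : GL (Fin n) F := Matrix.GeneralLinearGroup.mkOfDetNeZero (w • A) (by rw [hdet]; exact one_ne_zero)
    obtain ⟨g, -, hg⟩ := hall x (Units.ext hdet)
      ⟨w ^ r, by rw [Units.val_pow_eq_pow_val]; show (w • A) ^ r = _; rw [_root_.smul_pow, hA]⟩
      (fun z hz => hns (w⁻¹ * z) (by
        rw [← smul_smul, ← hz]
        show A = w⁻¹ • (w • A)
        rw [smul_smul, inv_mul_cancel₀ hw, one_smul]))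
    apply hP
    have := pres_of_conj hqf g x hg
    rw [show Matrix.toLin' (x : Matrix (Fin n) (Fin n) F) = w • Matrix.toLin' A from map_smul _ w A,
      pres_smul_iff hw] at this
    exact this
  rcases eq_or_ne r 2 with hr2 | hr2
  · subst hr2
    refine iff_of_true ?_ (Or.inl rfl)
    intro x hx ⟨z, hz⟩ _
    obtain ⟨hz0, -⟩ := hzof x hx z hz
    rw [Units.val_pow_eq_pow_val] at hz
    refine (hiff x z (by exact_mod_cast h2F) hz0 hz).2 ?_
    by_cases hsq : ∃ w : F, w ^ 2 = z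
    · obtain ⟨w, hw⟩ := hsq
      exact pres_square h2F hqn (w := w) (fun e0 => hz0 (by rw [← hw, e0, zero_pow two_ne_zero])) (by rw [hz, hw])
    · push Not at hsq
      refine pres_nonsquare (p := p) h2F hqn hz0 hsq ?_
      rw [← Matrix.toLin'_pow, hz, map_smul, Matrix.toLin'_one]
      rfl
  rcases eq_or_ne r p with hrp | hrp
  · -- `r = p`
    subst hrp
    have hv : padicValNat r (q - 1) = 0 := by
      refine padicValNat.eq_zero_of_not_dvd fun hd => ?_
      obtain ⟨k, -, hk⟩ := FiniteField.card F r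
      have h1 : r ∣ q := by rw [hqdef, hk]; exact dvd_pow_self _ k.ne_zero
      have := Nat.dvd_sub h1 hd
      rw [Nat.sub_sub_self (show 1 ≤ q from Fintype.card_pos), Nat.dvd_one] at this
      exact hrpr.ne_one this
    refine iff_of_false ?_ (by rintro (h | ⟨-, -, h⟩) <;> omega)
    obtain ⟨g, hdet, hg, hns, hk⟩ := S5979.exists_transvection (F := F) (r := r) n (by omega)
    refine hbad (LinearMap.toMatrix' g) 1 ?_ (fun s hs => hns s ?_)
      (by rw [one_pow, one_mul, LinearMap.det_toMatrix', hdet]) ?_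
    · apply Matrix.toLin'.injective
      rw [Matrix.toLin'_pow, Matrix.toLin'_toMatrix', hg, Matrix.toLin'_one]; rfl
    · have := congrArg Matrix.toLin' hs
      rw [Matrix.toLin'_toMatrix', map_smul, Matrix.toLin'_one] at this
      exact this
    rw [Matrix.toLin'_toMatrix']
    intro hP
    obtain ⟨S, Q', l, -, hQ'n, -, hlr, hgQ⟩ := hP.unfold hqn hne hg
    have hl1 : l = 1 := frobenius_inj F r (by rw [frobenius_def, frobenius_def, hlr, one_pow])
    have : CharP (Module.End F (Fin n → F)) r :=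
      charP_of_injective_algebraMap (algebraMap F _).injective r
    refine not_isometry_transvection h2F hQ'n (N := r) ?_ (fun v => by rw [hgQ, hl1, one_mul]) (by omega)
    rw [sub_pow_char_of_commute r (Commute.one_right g), hg, one_pow, sub_self]
  have hr : (r : F) ≠ 0 := fun e => hrp
    ((Nat.prime_dvd_prime_iff_eq hpp hrpr).1 ((CharP.cast_eq_zero_iff F p r).1 e)).symm
  set c := orderOf (q : ZMod r) with hcdef
  have hcpos : 0 < c := orderOf_card_pos hr
  rcases Nat.lt_or_ge 1 c with hc2 | hc1'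
  · -- `c ≥ 2`
    have hnd : ¬ r ∣ q - 1 := fun hd => by
      have h1 : (q : ZMod r) ^ 1 = 1 := by rw [hqdef, card_pow_eq_one_iff, pow_one]; exact hd
      rw [pow_one] at h1
      rw [hcdef, h1, orderOf_one] at hc2
      omega
    have hroot : ∀ l : F, l ^ r = 1 → l = 1 := by
      intro l hl
      have hl0 : l ≠ 0 := fun e0 => by rw [e0, zero_pow hrpr.ne_zero] at hl; exact zero_ne_one hl
      have := pow_gcd_eq_one.2 ⟨hl, FiniteField.pow_card_sub_one_eq_one l hl0⟩
      rwa [hrpr.coprime_iff_not_dvd.2 hnd, pow_one] at this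
    refine iff_of_false ?_ (by
      rintro (h | ⟨-, -, h⟩)
      · exact hr2 h
      · exact hnd (dvd_of_one_le_padicValNat (le_of_eq h.symm)))
    -- a block element and its refutation
    have hmk : ∀ b : ℕ, 0 < b → b * c ≤ n → ∃ g : Module.End F (Fin n → F), g ^ r = 1 ∧
        LinearMap.det g = 1 ∧ (∀ s : F, LinearMap.toMatrix' g ≠ s • 1) ∧
        finrank F ↥(LinearMap.ker (g - 1)) + b * c = n := by
      intro b hb hbn
      obtain ⟨g, hg, hdet, hg1, hker, -⟩ := DecompPerm84.exists_blocks (F := F) (V := Fin n → F) (r := r)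
        hr hc2 hb (by rw [hnV]; exact hbn)
      rw [hnV] at hker
      refine ⟨g, hg, hdet, fun s hs => hg1 ?_, hker⟩
      have hgs : g = s • 1 := by
        have := congrArg Matrix.toLin' hs
        rw [Matrix.toLin'_toMatrix', map_smul, Matrix.toLin'_one] at this
        exact this
      rw [hgs, smul_pow, one_pow] at hg
      have hs1 : s ^ r = 1 :=
        smul_left_injective F (one_ne_zero (α := Module.End F (Fin n → F))) (hg.trans (one_smul F _).symm)
      rw [hgs, hroot s hs1, one_smul]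
    have hlast : ∀ g : Module.End F (Fin n → F), g ^ r = 1 → LinearMap.det g = 1 →
        (∀ s : F, LinearMap.toMatrix' g ≠ s • 1) → ¬ Pres qf g →
        ¬ (∀ x ∈ Cfsg.Geo.specialLinear (Fin n) F, (∃ z : F, ((x ^ r : GL (Fin n) F) : Matrix (Fin n) (Fin n) F) = z • (1 : Matrix (Fin n) (Fin n) F)) →
      (∀ z : F, (x : Matrix (Fin n) (Fin n) F) ≠ z • (1 : Matrix (Fin n) (Fin n) F)) →
      ∃ g ∈ Cfsg.Geo.specialLinear (Fin n) F, g⁻¹ * x * g ∈ Cfsg.Geo.quadSimilarityGroup Q) := by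
      intro g hg hdet hns hP
      refine hbad (LinearMap.toMatrix' g) 1 ?_ hns (by rw [one_pow, one_mul, LinearMap.det_toMatrix', hdet])
        (by rwa [Matrix.toLin'_toMatrix'])
      apply Matrix.toLin'.injective
      rw [Matrix.toLin'_pow, Matrix.toLin'_toMatrix', hg, Matrix.toLin'_one]; rfl
    rcases Nat.even_or_odd c with hce | hco
    · -- `c` even
      by_contra hall
      refine not_dvd_index_even h2F (by omega) hr2 hr hce hqf hqn ?_ hΩ
      intro d N E hd hP hcn
      obtain ⟨m, hm⟩ := hcn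
      change n = c * m at hm
      have hm0 : 0 < m := Nat.pos_of_ne_zero fun e0 => by rw [e0, mul_zero] at hm; omega
      obtain ⟨g, hg, hdet, hns, hker⟩ := hmk m hm0 (by rw [hm, mul_comm])
      have hker0 : LinearMap.ker (g - 1) = ⊥ :=
        Submodule.finrank_eq_zero.1 (by rw [mul_comm, ← hm] at hker; omega)
      have hPg : Pres qf g := by
        by_contra hng
        exact hlast g hg hdet hns hng hall
      refine dvd_of_pres hqn hP hg hne (fun v hv => ?_) hPg hroot
      have : v ∈ LinearMap.ker (g - 1) := by simp [hv]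
      rwa [hker0, Submodule.mem_bot] at this
    · -- `c` odd
      have hcn : c ≤ n := S5979.le_of_dvd_relIndex hr _ _ hΩ
      obtain ⟨g, hg, hdet, hns, hker⟩ := hmk 1 one_pos (by omega)
      refine hlast g hg hdet hns fun hP => ?_
      obtain ⟨S, Q', l, -, hQ'n, -, hlr, hgQ⟩ := hP.unfold hqn hne hg
      have hrodd : Odd r := hrpr.odd_of_ne_two hr2
      have h1 := even_finrank_range h2F hQ'n hrodd hr hg (fun v => by rw [hgQ, hroot l hlr, one_mul])
      have h2 := LinearMap.finrank_range_add_finrank_ker (g - 1)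
      rw [hnV] at h2
      rw [show finrank F ↥(LinearMap.range (g - 1)) = c by omega] at h1
      exact (Nat.not_even_iff_odd.2 hco) h1
  have hc1 : c = 1 := by omega
  have hrq : r ∣ q - 1 := by
    have := (card_pow_eq_one_iff (F := F) (r := r) 1).1 (by rw [← hqdef, ← hc1]; exact pow_orderOf_eq_one _)
    rwa [pow_one] at this
  have hq1 : q - 1 ≠ 0 := by have : 1 < q := Fintype.one_lt_card; omega
  by_cases hex : (r = 3 ∨ r = 5) ∧ n = r ∧ padicValNat r (q - 1) = 1
  · refine iff_of_true ?_ (Or.inr hex)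
    obtain ⟨hr35, hnr, hv1⟩ := hex
    intro x hx ⟨z, hz⟩ _
    obtain ⟨hz0, hdet⟩ := hzof x hx z hz
    rw [Units.val_pow_eq_pow_val] at hz
    refine (hiff x z hr hz0 hz).2 ?_
    obtain ⟨w, hw⟩ : ∃ w : F, w ^ r = z := by
      by_contra hb
      push Not at hb
      have hg : (Matrix.toLin' (x : Matrix (Fin n) (Fin n) F)) ^ r = z • 1 := by
        rw [← Matrix.toLin'_pow, hz, map_smul, Matrix.toLin'_one]; rfl
      obtain ⟨t, ht, hdet'⟩ := det_eq_of_pow_smul hrpr hz0 hg hb
      rw [hnV] at ht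
      rw [LinearMap.det_toLin', hdet] at hdet'
      have ht0 : t ≠ 0 := fun e0 => by rw [e0, mul_zero] at ht; omega
      exact (exists_bad_iff hrq ht ht0).1 ⟨z, hz0, hb, hdet'.symm⟩
        ⟨le_of_eq (by rw [hv1, hnr, padicValNat.self hrpr.one_lt]), fun e2 => absurd e2 hr2⟩
    have hw0 : w ≠ 0 := fun e0 => hz0 (by rw [← hw, e0, zero_pow hrpr.ne_zero])
    set A := w⁻¹ • (x : Matrix (Fin n) (Fin n) F) with hA'
    have hA : A ^ r = 1 := by
      rw [hA', _root_.smul_pow, hz, smul_smul, ← hw, inv_pow, inv_mul_cancel₀ (pow_ne_zero _ hw0), one_smul]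
    have hdA : A.det = 1 := by
      have hdr : A.det ^ r = 1 := by rw [← Matrix.det_pow, hA, Matrix.det_one]
      have hd1 : A.det = w⁻¹ ^ r := by rw [hA', Matrix.det_smul, Fintype.card_fin, hdet, mul_one, hnr]
      have hw2 : w⁻¹ ^ (r * r) = 1 := by rw [pow_mul, ← hd1, hdr]
      have hg := pow_gcd_eq_one.2 ⟨hw2, FiniteField.pow_card_sub_one_eq_one w⁻¹ (inv_ne_zero hw0)⟩
      obtain ⟨i, -, hie⟩ := (Nat.dvd_prime_pow hrpr).1
        (show Nat.gcd (r * r) (q - 1) ∣ r ^ 2 by rw [_root_.sq]; exact Nat.gcd_dvd_left _ _)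
      rw [← hqdef, hie] at hg
      rcases Nat.lt_or_ge i 2 with h | h
      · obtain ⟨s, hs⟩ : r ^ i ∣ r := dvd_trans (pow_dvd_pow r (show i ≤ 1 by omega)) (by rw [pow_one])
        rw [hd1]
        nth_rw 1 [hs]
        rw [pow_mul, hg, one_pow]
      · exfalso
        have hdq : r ^ 2 ∣ q - 1 := dvd_trans (by rw [hie]; exact pow_dvd_pow r h) (Nat.gcd_dvd_right _ _)
        rw [padicValNat_dvd_iff_le hq1] at hdq
        omega
    have hP := pres_exceptional h2F hr hc1 hr35 hnr hqn hA hdA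
    rw [hA', map_smul, pres_smul_iff (inv_ne_zero hw0)] at hP
    exact hP
  refine iff_of_false ?_ (by rintro (h | h); exacts [hr2 h, hex h])
  obtain ⟨ζ, hζ, hζ1⟩ := S5965.exists_root (F := F) (r := r) hrq
  have hord : orderOf ζ = r := orderOf_eq_prime hζ hζ1
  have hζ0 : ζ ≠ 0 := fun e0 => by rw [e0, zero_pow hrpr.ne_zero] at hζ; exact zero_ne_one hζ
  have hζi : ζ⁻¹ ≠ ζ := fun h => hr2 (by
    have h2 : ζ ^ 2 = 1 := by
      rw [_root_.sq]
      nth_rw 2 [← h]
      exact mul_inv_cancel₀ hζ0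
    exact (Nat.prime_dvd_prime_iff_eq hrpr Nat.prime_two).1 (hord ▸ orderOf_dvd_of_pow_eq_one h2))
  have hdiag : ∀ (μ : F) (b b' : ℕ) (w : F), μ ^ r = 1 → μ ≠ 1 → μ ≠ ζ → b ≤ b' → b' < n → 0 < b →
      n - b' ≠ b → n - b' ≠ b' - b → b' - b ≠ b → w ^ n * (ζ ^ b * μ ^ (b' - b)) = 1 →
      ¬ (∀ x ∈ Cfsg.Geo.specialLinear (Fin n) F, (∃ z : F, ((x ^ r : GL (Fin n) F) : Matrix (Fin n) (Fin n) F) = z • (1 : Matrix (Fin n) (Fin n) F)) →
      (∀ z : F, (x : Matrix (Fin n) (Fin n) F) ≠ z • (1 : Matrix (Fin n) (Fin n) F)) →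
      ∃ g ∈ Cfsg.Geo.specialLinear (Fin n) F, g⁻¹ * x * g ∈ Cfsg.Geo.quadSimilarityGroup Q) := by
    intro μ b b' w hμ hμ1 hμζ hb hb' hb0 h1 h2 h3 hw
    refine hbad _ w (S5965.vec_pow hζ hμ b b') ?_ ?_ ?_
    · intro s hs
      have e1 := congrFun (congrFun hs ⟨0, by omega⟩) ⟨0, by omega⟩
      have e2 := congrFun (congrFun hs ⟨b', hb'⟩) ⟨b', hb'⟩
      simp [S5965.vec, hb0, show ¬ b' < b by omega] at e1 e2
      exact hζ1 (e1.trans e2.symm)
    · rw [Matrix.det_diagonal, S5965.prod_vec ζ μ hb hb'.le, hw]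
    · intro hP
      have hμ0 : μ ≠ 0 := fun e0 => by rw [e0, zero_pow hrpr.ne_zero] at hμ; exact zero_ne_one hμ
      obtain ⟨l, hl, hsym⟩ := pres_eigen hqn (fun i => by
        simp only [S5965.vec]; split_ifs <;> simp [hζ0, hμ0]) hP
      simp only [S5965.mult_vec hζ1 hμ1 hμζ hb hb'.le] at hsym
      have hl1 : l = 1 := by
        have := hsym 1 one_ne_zero
        rw [inv_one, mul_one, if_neg hζ1.symm, if_neg hμ1.symm, if_pos rfl] at this
        split_ifs at this with e1 e2 e3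
        · omega
        · omega
        · exact e3
        · omega
      have := hsym ζ hζ0
      rw [hl1, one_mul, if_pos rfl, if_neg hζi] at this
      split_ifs at this with e2 e3 <;> omega
  have hμ : ζ ^ 2 ≠ 1 ∧ ζ ^ 2 ≠ ζ := by
    refine ⟨fun h => hr2 ?_, fun h => hζ1 ?_⟩
    · exact (Nat.prime_dvd_prime_iff_eq hrpr Nat.prime_two).1 (hord ▸ orderOf_dvd_of_pow_eq_one h)
    · apply mul_right_cancel₀ hζ0
      rw [← _root_.sq, h, one_mul]
  have hμr : (ζ ^ 2) ^ r = 1 := by rw [← pow_mul, mul_comm, pow_mul, hζ, one_pow]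
  have htwo : ∀ (b : ℕ) (w : F), 0 < b → b < n → n - b ≠ b → w ^ n * ζ ^ b = 1 →
      ¬ (∀ x ∈ Cfsg.Geo.specialLinear (Fin n) F, (∃ z : F, ((x ^ r : GL (Fin n) F) : Matrix (Fin n) (Fin n) F) = z • (1 : Matrix (Fin n) (Fin n) F)) →
      (∀ z : F, (x : Matrix (Fin n) (Fin n) F) ≠ z • (1 : Matrix (Fin n) (Fin n) F)) →
      ∃ g ∈ Cfsg.Geo.specialLinear (Fin n) F, g⁻¹ * x * g ∈ Cfsg.Geo.quadSimilarityGroup Q) :=
    fun b w hb hbn hne hw => hdiag (ζ ^ 2) b b w hμr hμ.1 hμ.2 le_rfl hbn hb hne (by omega) (by omega)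
      (by rw [Nat.sub_self, pow_zero, mul_one, hw])
  have hthree : 3 < r → 6 ≤ n →
      ¬ (∀ x ∈ Cfsg.Geo.specialLinear (Fin n) F, (∃ z : F, ((x ^ r : GL (Fin n) F) : Matrix (Fin n) (Fin n) F) = z • (1 : Matrix (Fin n) (Fin n) F)) →
      (∀ z : F, (x : Matrix (Fin n) (Fin n) F) ≠ z • (1 : Matrix (Fin n) (Fin n) F)) →
      ∃ g ∈ Cfsg.Geo.specialLinear (Fin n) F, g⁻¹ * x * g ∈ Cfsg.Geo.quadSimilarityGroup Q) := by
    intro h3 h6
    have hm1 : (ζ⁻¹) ^ 2 ≠ 1 := by rw [inv_pow, ne_eq, inv_eq_one]; exact hμ.1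
    have hmz : (ζ⁻¹) ^ 2 ≠ ζ := fun h => by
      have h2 : ζ ^ 3 = 1 := by
        rw [pow_succ]
        nth_rw 2 [← h]
        rw [← mul_pow, mul_inv_cancel₀ hζ0, one_pow]
      have := Nat.le_of_dvd (by omega) (hord ▸ orderOf_dvd_of_pow_eq_one h2)
      omega
    refine hdiag ((ζ⁻¹) ^ 2) 2 3 1 ?_ hm1 hmz (by omega) (by omega) (by omega) (by omega) (by omega) (by omega) ?_
    · rw [← pow_mul, mul_comm, pow_mul, inv_pow, hζ, inv_one, one_pow]
    · rw [one_pow, one_mul, show (3 - 2 : ℕ) = 1 by rfl, pow_one, ← mul_pow, mul_inv_cancel₀ hζ0,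
        one_pow]
  by_cases hrn : r ∣ n
  · obtain ⟨t, ht⟩ := hrn
    have ht0 : 0 < t := Nat.pos_of_ne_zero fun e0 => by rw [e0, mul_zero] at ht; omega
    have hr3 : 3 ≤ r := by have := hrpr.two_le; omega
    rcases Nat.lt_or_ge 2 t with h | h
    · have : r * 3 ≤ n := by rw [ht]; exact Nat.mul_le_mul_left r h
      exact htwo r 1 hrpr.pos (by omega) (by omega) (by rw [one_pow, one_mul, hζ])
    rcases Nat.lt_or_ge 1 t with h1 | h1
    · have ht2 : t = 2 := by omega
      subst ht2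
      have : r ≠ 3 := fun e3 => hgap ⟨by omega, e3⟩
      exact hthree (by omega) (by omega)
    have ht1 : t = 1 := by omega
    subst ht1
    rw [mul_one] at ht
    rcases Nat.lt_or_ge 5 n with h7 | h5
    · exact hthree (by omega) (by omega)
    have hv : 2 ≤ padicValNat r (q - 1) := by
      have hpos : 1 ≤ padicValNat r (q - 1) := one_le_padicValNat_of_dvd hq1 hrq
      by_contra hlt
      have h35 : r = 3 ∨ r = 5 := by
        have : r ≠ 4 := fun e4 => by rw [e4] at hrpr; exact absurd hrpr (by norm_num)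
        omega
      exact hex ⟨h35, ht, by omega⟩
    obtain ⟨w, hw⟩ : ∃ w : F, w ^ n * ζ = 1 := by
      have hd2 : r ^ 2 ∣ q - 1 := (pow_dvd_pow r hv).trans pow_padicValNat_dvd
      obtain ⟨a, ha, hao⟩ := exists_generator (F := F)
      obtain ⟨s, hs⟩ := hd2
      obtain ⟨j, hj⟩ := ha (Units.mk0 ζ⁻¹ (inv_ne_zero hζ0))
      have h1 : a ^ (j * r) = 1 := by
        rw [pow_mul, hj]
        ext
        simp [hζ]
      rw [← orderOf_dvd_iff_pow_eq_one, hao, ← hqdef, hs] at h1
      obtain ⟨u, hu⟩ : r * s ∣ j := by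
        apply Nat.dvd_of_mul_dvd_mul_right hrpr.pos
        rwa [show r * s * r = r ^ 2 * s by ring]
      refine ⟨((a ^ (s * u) : Fˣ) : F), ?_⟩
      rw [← Units.val_pow_eq_pow_val, ← pow_mul, show s * u * n = j by rw [ht, hu]; ring, hj,
        Units.val_mk0, inv_mul_cancel₀ hζ0]
    exact htwo 1 w one_pos (by omega) (by omega) (by rw [pow_one, hw])
  · obtain ⟨j, hj⟩ : ∃ j : ℕ, r ∣ n * j + 1 := by
      refine ⟨(-(n : ZMod r)⁻¹).val, (ZMod.natCast_eq_zero_iff _ _).1 ?_⟩
      have hn0 : (n : ZMod r) ≠ 0 := by rwa [Ne, ZMod.natCast_eq_zero_iff]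
      push_cast
      rw [ZMod.natCast_zmod_val, mul_neg, mul_inv_cancel₀ hn0, neg_add_cancel]
    refine htwo 1 (ζ ^ j) one_pos (by omega) (by omega) ?_
    rw [← pow_mul, pow_one, mul_comm j n, ← pow_succ, ← orderOf_dvd_iff_pow_eq_one, hord]
    exact hj

end Cfsg.Agent.S5981
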