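import Cfsg.Statements.S5983
import Cfsg.Agent.Lib.CharTwoPointFree61
import Cfsg.Agent.S2593

set_option autoImplicit false
open scoped MatrixGroups
open Cfsg

namespace Cfsg.Agent.S5983

open QuadraticMap Module Matrix
open Cfsg.Agent.OrthUnitaryQuad Cfsg.Agent.OrthUnitaryRefl Cfsg.Agent.OrthCharTwo
open Cfsg.Agent.CharTwoInvolCount Cfsg.Agent.SymplecticBasic

universe u

variable {F : Type u} [Field F] {d : ℕ}

local notation "V" => (Fin d ⊕ Fin d → F)

/-- Linear equivalences as invertible matrices. -/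
noncomputable def toGL {ι : Type} [Fintype ι] [DecidableEq ι] (g : (ι → F) ≃ₗ[F] (ι → F)) : GL ι F where
  val := LinearMap.toMatrix' g.toLinearMap
  inv := LinearMap.toMatrix' g.symm.toLinearMap
  val_inv := by rw [← LinearMap.toMatrix'_comp]; simp
  inv_val := by rw [← LinearMap.toMatrix'_comp]; simp

theorem toGL_mulVec {ι : Type} [Fintype ι] [DecidableEq ι] (g : (ι → F) ≃ₗ[F] (ι → F)) (v : ι → F) :
    (toGL g : Matrix ι ι F) *ᵥ v = g v := by
  show LinearMap.toMatrix' g.toLinearMap *ᵥ v = _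
  rw [LinearMap.toMatrix'_mulVec]; rfl

theorem mem_spGL_iff (x : GL (Fin d ⊕ Fin d) F) : x ∈ Cfsg.spGL d F ↔
    ∀ u v, Cfsg.sympForm d F ((x : Matrix (Fin d ⊕ Fin d) (Fin d ⊕ Fin d) F) *ᵥ u) ((x : Matrix (Fin d ⊕ Fin d) (Fin d ⊕ Fin d) F) *ᵥ v) =
      Cfsg.sympForm d F u v := Iff.rfl

theorem mulVec_inv_cancel {ι : Type} [Fintype ι] [DecidableEq ι] (x : GL ι F) (v : ι → F) :
    (x : Matrix ι ι F) *ᵥ (((x⁻¹ : GL ι F) : Matrix ι ι F) *ᵥ v) = v := by
  rw [Matrix.mulVec_mulVec, ← Units.val_mul, mul_inv_cancel, Units.val_one, Matrix.one_mulVec]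

theorem mulVec_mul {ι : Type} [Fintype ι] [DecidableEq ι] (x y : GL ι F) (v : ι → F) :
    ((x * y : GL ι F) : Matrix ι ι F) *ᵥ v = (x : Matrix ι ι F) *ᵥ ((y : Matrix ι ι F) *ᵥ v) := by
  rw [Units.val_mul, Matrix.mulVec_mulVec]

/-- The symplectic group as matrices in `GL`. -/
def spToGL (c : ↥(Matrix.symplecticGroup (Fin d) F)) : GL (Fin d ⊕ Fin d) F where
  val := c.1
  inv := (c⁻¹ : ↥(Matrix.symplecticGroup (Fin d) F)).1
  val_inv := congrArg Subtype.val (mul_inv_cancel c)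
  inv_val := congrArg Subtype.val (inv_mul_cancel c)

theorem spToGL_mem (c : ↥(Matrix.symplecticGroup (Fin d) F)) : spToGL c ∈ Cfsg.spGL d F :=
  mem_sp_iff_form.1 c.2

/-- `spGL` is the symplectic group. -/
def spEquiv : ↥(Cfsg.spGL d F) ≃* ↥(Matrix.symplecticGroup (Fin d) F) where
  toFun x := ⟨(x.1 : Matrix (Fin d ⊕ Fin d) (Fin d ⊕ Fin d) F), mem_sp_iff_form.2 ((mem_spGL_iff x.1).1 x.2)⟩
  invFun c := ⟨spToGL c, spToGL_mem c⟩
  left_inv x := Subtype.ext (Units.ext rfl)
  right_inv c := Subtype.ext rfl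
  map_mul' x y := rfl

variable [Fintype F] [CharP F 2]

/-- An isometry between forms polarising to the alternating form is symplectic. -/
theorem toGL_mem (Q Q' : QuadraticForm F V) (hf : ∀ u v, polar Q u v = Cfsg.sympForm d F u v)
    (hf' : ∀ u v, polar Q' u v = Cfsg.sympForm d F u v) (g : V ≃ₗ[F] V) (hg : ∀ v, Q' (g v) = Q v) :
    toGL g ∈ Cfsg.spGL d F := (mem_spGL_iff _).2 fun u v => by
  rw [toGL_mulVec, toGL_mulVec, ← hf', ← hf]
  exact polar_congr g hg u v

theorem nondeg_of_polar (Q : QuadraticForm F V) (hf : ∀ u v, polar Q u v = Cfsg.sympForm d F u v) :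
    (polarBilin Q).Nondegenerate :=
  ⟨fun x hx => form_nondeg fun y => by rw [← hf]; exact hx y,
    fun y hy => form_nondeg fun x => by rw [← hf, polar_comm]; exact hy x⟩

theorem finrank_V : finrank F V = 2 * d := by
  rw [finrank_pi, Fintype.card_sum, Fintype.card_fin, two_mul]

/-- An elliptic form polarising to the alternating form. -/
theorem exists_elliptic (hd : 1 ≤ d) :
    ∃ (a b : F) (_ : OrthUnitaryForms.IsAniso a b) (Q : QuadraticForm F V)
      (g : V ≃ₗ[F] ((Fin (d - 1) ⊕ Fin (d - 1)) ⊕ Fin 2 → F)),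
      (∀ u v, polar Q u v = Cfsg.sympForm d F u v) ∧
      ∀ v, CharTwoInvolForms.qfMinus (d - 1) a b (g v) = Q v := by
  classical
  obtain ⟨k, rfl⟩ : ∃ k, d = k + 1 := ⟨d - 1, by omega⟩
  obtain ⟨c, hc⟩ : ∃ c : F, ∀ t : F, t * t + t ≠ c := by
    by_contra h
    push Not at h
    have hinj : Function.Injective fun t : F => t * t + t :=
      Finite.injective_iff_surjective.2 h
    exact zero_ne_one (hinj (show (0 : F) * 0 + 0 = 1 * 1 + 1 by
      rw [mul_zero, add_zero, mul_one, CharTwo.add_self_eq_zero]))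
  have hab : OrthUnitaryForms.IsAniso (1 : F) c := by
    intro x y h
    by_cases hy : y = 0
    · subst hy; exact ⟨by simpa using h, rfl⟩
    · refine absurd ?_ (hc (x / y))
      field_simp
      linear_combination h - c * y ^ 2 * (CharTwo.two_eq_zero (R := F))
  let g : (Fin (k + 1) ⊕ Fin (k + 1) → F) ≃ₗ[F] ((Fin k ⊕ Fin k) ⊕ Fin 2 → F) :=
    { toFun := fun v => Sum.elim
        (Sum.elim (fun i => v (.inl i.castSucc)) (fun i => v (.inr i.castSucc)))
        ![v (.inl (Fin.last k)), v (.inr (Fin.last k))]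
      map_add' := fun u v => by
        ext ((i | i) | i) <;> simp <;> fin_cases i <;> simp
      map_smul' := fun t v => by
        ext ((i | i) | i) <;> simp <;> fin_cases i <;> simp
      invFun := fun z => Sum.elim (Fin.snoc (fun i => z (.inl (.inl i))) (z (.inr 0)))
        (Fin.snoc (fun i => z (.inl (.inr i))) (z (.inr 1)))
      left_inv := fun v => by
        ext (i | i) <;> refine Fin.lastCases ?_ (fun j => ?_) i <;> simp
      right_inv := fun z => by
        ext ((i | i) | i)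
        · simp
        · simp
        · fin_cases i <;> simp }
  refine ⟨1, c, hab, (CharTwoInvolForms.qfMinus k 1 c).comp g.toLinearMap, g, fun u v => ?_,
    fun v => rfl⟩
  have h1 : polar ((CharTwoInvolForms.qfMinus k 1 c).comp g.toLinearMap) u v =
      polar (CharTwoInvolForms.qfMinus k 1 c) (g u) (g v) := by
    simp [polar]
  rw [h1, CharTwoInvolForms.polar_minus, S2593.sympForm_eq_polar, CharTwoInvolBridge.polar_plus,
    Fin.sum_univ_castSucc, one_mul]
  simp [g]

/-- The two types of forms polarising to the alternating form. -/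
theorem classify (Q : QuadraticForm F V) (hf : ∀ u v, polar Q u v = Cfsg.sympForm d F u v)
    {a b : F} (hab : OrthUnitaryForms.IsAniso a b) :
    (∃ g : V ≃ₗ[F] V, ∀ v, qfPlus F d (g v) = Q v) ∨
      (∃ g : V ≃ₗ[F] ((Fin (d - 1) ⊕ Fin (d - 1)) ⊕ Fin 2 → F),
        ∀ v, CharTwoInvolForms.qfMinus (d - 1) a b (g v) = Q v) := by
  obtain ⟨k, e, f, W, hdec, hW⟩ := QuadClassify.exists_decomp Q (nondeg_of_polar Q hf)
  have hsum := hdec.2.2.2.2.2.1
  rw [finrank_top, finrank_V] at hsum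
  by_cases h0 : finrank F W = 0
  · obtain rfl : k = d := by omega
    obtain ⟨g, hg⟩ := QuadClassify.iso_plus Q hdec.1 finrank_V
    exact Or.inl ⟨g, fun v => by rw [qfPlus_apply]; exact hg v⟩
  · have hk : k = d - 1 := by omega
    subst hk
    obtain ⟨g, hg⟩ := QuadClassify.iso_minus Q hdec (by omega) hab
    exact Or.inr ⟨g, fun v => by rw [CharTwoInvolForms.qfMinus_apply]; exact hg v⟩

/-- No maximal totally singular subspace in the elliptic case. -/
theorem no_lagrangian {Q : QuadraticForm F V} {a b : F} (hd : 1 ≤ d)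
    (hab : OrthUnitaryForms.IsAniso a b)
    (g : V ≃ₗ[F] ((Fin (d - 1) ⊕ Fin (d - 1)) ⊕ Fin 2 → F))
    (hg : ∀ v, CharTwoInvolForms.qfMinus (d - 1) a b (g v) = Q v) (W : Submodule F V)
    (hW : ∀ v ∈ W, Q v = 0) : finrank F W ≠ d := by
  intro h
  refine CharTwoInvolForms.finrank_le_of_singular (k := d - 1) hab
    (W.map (g : V →ₗ[F] ((Fin (d - 1) ⊕ Fin (d - 1)) ⊕ Fin 2 → F))) ?_
    (by rw [LinearEquiv.finrank_map_eq]; omega)
  rintro _ ⟨v, hv, rfl⟩
  exact (hg v).trans (hW v hv)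

omit [CharP F 2] in
/-- A similarity fixing the polar form is an isometry. -/
theorem isometry_of_similar (hd : 1 ≤ d) (Q : QuadraticForm F V)
    (hf : ∀ u v, polar Q u v = Cfsg.sympForm d F u v) (x : GL (Fin d ⊕ Fin d) F)
    (hx : x ∈ Cfsg.spGL d F) (hxQ : x ∈ Cfsg.Geo.quadSimilarityGroup ⇑Q) :
    ∀ v, Q ((x : Matrix (Fin d ⊕ Fin d) (Fin d ⊕ Fin d) F) *ᵥ v) = Q v := by
  obtain ⟨c, hc⟩ := hxQ
  have h1 : Cfsg.sympForm d F (Pi.single (Sum.inr (⟨0, hd⟩ : Fin d)) 1)
      (Pi.single (Sum.inl ⟨0, hd⟩) 1) = 1 := by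
    rw [form_single_inl_right]; simp
  set u : V := Pi.single (Sum.inr (⟨0, hd⟩ : Fin d)) 1
  set w : V := Pi.single (Sum.inl ⟨0, hd⟩) 1
  have h2 := (mem_spGL_iff _).1 hx u w
  rw [← hf, polar, ← Matrix.mulVec_add, hc, hc, hc, ← mul_sub, ← mul_sub] at h2
  rw [← polar, hf, h1, mul_one] at h2
  intro v
  rw [hc, h2, one_mul]

/-- The order of the orthogonal subgroup of the symplectic group. -/
theorem card_inf (hd : 1 ≤ d) (Q : QuadraticForm F V)
    (hf : ∀ u v, polar Q u v = Cfsg.sympForm d F u v) :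
    Nat.card ((Cfsg.Geo.quadSimilarityGroup ⇑Q).subgroupOf (Cfsg.spGL d F)) = Nat.card (orth Q) := by
  rw [← Nat.card_congr (isometryGroupEquiv Q (⇑Q) fun _ => rfl).toEquiv]
  refine Nat.card_congr
    { toFun := fun x => ⟨x.1.1, fun v _ => isometry_of_similar hd Q hf _ x.1.2 x.2 v⟩
      invFun := fun y => ⟨⟨y.1, (mem_spGL_iff _).2 fun u v => by
          have hy : ∀ w, Q ((y.1 : Matrix (Fin d ⊕ Fin d) (Fin d ⊕ Fin d) F) *ᵥ w) = Q w := fun w => y.2 w w
          rw [← hf, ← hf, polar, polar, ← Matrix.mulVec_add, hy, hy, hy]⟩,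
        ⟨1, fun v => by rw [Units.val_one, one_mul]; exact y.2 v v⟩⟩
      left_inv := fun x => rfl
      right_inv := fun y => rfl }

omit [CharP F 2] in
theorem card_orth_of_iso {ι : Type} [Fintype ι] [DecidableEq ι] (Q : QuadraticForm F V)
    (Q' : QuadraticForm F (ι → F)) (f : (ι → F) → F) (hQ' : ∀ v, f v = Q' v)
    (g : V ≃ₗ[F] (ι → F)) (hg : ∀ v, Q' (g v) = Q v) :
    Nat.card (orth Q) = Nat.card (isometryGroup F f) :=
  (card_isometryGroup Q f g fun v => by rw [hQ', hg]).symm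

/-- An odd prime dividing the index divides `q ^ d + ε`. -/
theorem dvd_of_relIndex (hd : 1 ≤ d) (Q : QuadraticForm F V)
    (hf : ∀ u v, polar Q u v = Cfsg.sympForm d F u v) {r : ℕ} (hr : r.Prime) (hr2 : r ≠ 2)
    (hΩ : r ∣ (Cfsg.Geo.quadSimilarityGroup ⇑Q).relIndex (Cfsg.spGL d F)) {A : ℕ}
    (hA : 0 < A) {B : ℕ} (hAB : A * B = Fintype.card F ^ (2 * d) - 1)
    (hcard : Nat.card (orth Q) = 2 * Fintype.card F ^ (d * (d - 1)) * A *
      ∏ i ∈ Finset.range (d - 1), (Fintype.card F ^ (2 * (i + 1)) - 1)) : r ∣ B := by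
  have h := Subgroup.card_mul_index ((Cfsg.Geo.quadSimilarityGroup ⇑Q).subgroupOf (Cfsg.spGL d F))
  rw [card_inf hd Q hf, hcard, Nat.card_congr spEquiv.toEquiv,
    SymplecticOrder.card_symplectic (F := F) rfl] at h
  obtain ⟨k, rfl⟩ : ∃ k, d = k + 1 := ⟨d - 1, by omega⟩
  set q := Fintype.card F
  set N := ((Cfsg.Geo.quadSimilarityGroup ⇑Q).subgroupOf (Cfsg.spGL (k + 1) F)).index
  have hq : 1 < q := Fintype.one_lt_card
  have hP : 0 < ∏ i ∈ Finset.range k, (q ^ (2 * (i + 1)) - 1) :=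
    Finset.prod_pos fun i _ => Nat.sub_pos_of_lt (Nat.one_lt_pow (by omega) hq)
  rw [Nat.add_sub_cancel, Finset.prod_range_succ, ← hAB] at h
  have h2 : 2 * N = q ^ (k + 1) * B := by
    refine Nat.eq_of_mul_eq_mul_left
      (show 0 < q ^ ((k + 1) * k) * A * ∏ i ∈ Finset.range k, (q ^ (2 * (i + 1)) - 1) by positivity) ?_
    calc q ^ ((k + 1) * k) * A * (∏ i ∈ Finset.range k, (q ^ (2 * (i + 1)) - 1)) * (2 * N)
        = 2 * q ^ ((k + 1) * k) * A * (∏ i ∈ Finset.range k, (q ^ (2 * (i + 1)) - 1)) * N := by ring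
      _ = _ := by rw [h, show (k + 1) ^ 2 = (k + 1) * k + (k + 1) by ring, pow_add]; ring
  have hdvd : r ∣ q ^ (k + 1) * B := h2 ▸ Dvd.dvd.mul_left hΩ 2
  refine ((hr.dvd_mul).1 hdvd).resolve_left fun hrq => hr2 ?_
  obtain ⟨n, -, hn⟩ := FiniteField.card F 2
  have := hr.dvd_of_dvd_pow hrq
  rw [show q = 2 ^ (n : ℕ) from hn] at this
  exact (Nat.prime_dvd_prime_iff_eq hr Nat.prime_two).1 (hr.dvd_of_dvd_pow this)

omit [Fintype F] in
/-- A form preserved by an element without fixed vectors is unique. -/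
theorem unique_form (Q Q' : QuadraticForm F V) (hf : ∀ u v, polar Q u v = polar Q' u v)
    (L : V ≃ₗ[F] V) (hQ : ∀ v, Q (L v) = Q v) (hQ' : ∀ v, Q' (L v) = Q' v)
    (hfix : ∀ v, L v = v → v = 0) : ∀ v, Q v = Q' v := by
  have hinj : Function.Injective (L.toLinearMap + LinearMap.id : V →ₗ[F] V) := fun u v h => by
    refine sub_eq_zero.1 (hfix _ ?_)
    rw [map_sub]
    have h' : L u + u = L v + v := h
    have h2 : ∀ z : V, z + z = 0 := fun z => funext fun i => CharTwo.add_self_eq_zero (z i)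
    calc L u - L v = (L u + u) - (L v + v) - (u - v) := by abel
      _ = -(u - v) := by rw [h']; abel
      _ = u - v := neg_eq_of_add_eq_zero_left (h2 _)
  have hsurj : Function.Surjective ⇑(L.toLinearMap + LinearMap.id : V →ₗ[F] V) :=
    LinearMap.injective_iff_surjective.1 hinj
  intro v
  obtain ⟨w, rfl⟩ := hsurj v
  show Q (L w + w) = Q' (L w + w)
  rw [QuadraticMap.map_add (⇑Q), QuadraticMap.map_add (⇑Q'), hQ, hQ', hf,
    CharTwo.add_self_eq_zero, CharTwo.add_self_eq_zero]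

/-- An orthogonal involution with the same symplectic invariant gives a conjugate inside `O(Q)`. -/
theorem exists_conj_involution (Q Q₀ : QuadraticForm F V)
    (hf : ∀ u v, polar Q u v = Cfsg.sympForm d F u v)
    (hf₀ : ∀ u v, polar Q₀ u v = Cfsg.sympForm d F u v) (g : V ≃ₗ[F] V)
    (hg : ∀ v, Q₀ (g v) = Q v) (x : ↥(Matrix.symplecticGroup (Fin d) F)) (hx : orderOf x = 2)
    (t : orth Q₀) (ht : orderOf t = 2) (hti : inv t = S2593.spInv x) :
    ∃ c ∈ Cfsg.spGL d F, c⁻¹ * spToGL x * c ∈ Cfsg.Geo.quadSimilarityGroup ⇑Q := by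
  classical
  obtain ⟨ht2, hrk⟩ := (orderOf_two_iff t).1 ht
  set M := LinearMap.toMatrix' (t.1 : V →ₗ[F] V) with hMdef
  have happ : ∀ v, M *ᵥ v = t.1 v := fun v => by rw [hMdef, LinearMap.toMatrix'_mulVec]; rfl
  let y : ↥(Matrix.symplecticGroup (Fin d) F) := ⟨M, mem_sp_iff_form.2 fun u v => by
    rw [happ, happ, ← hf₀, ← hf₀]; exact polar_orth t u v⟩
  have hrank : (M - 1).rank = finrank F (LinearMap.range (dif t)) := by
    rw [Matrix.rank]
    have hmv : (M - 1).mulVecLin = dif t := LinearMap.ext fun v => by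
      rw [Matrix.mulVecLin_apply, Matrix.sub_mulVec, Matrix.one_mulVec, dif_apply, happ]
    rw [hmv]
  have hy : orderOf y = 2 := by
    rw [orderOf_eq_prime_iff, pow_two]
    refine ⟨Subtype.ext (Matrix.toLin'.injective (LinearMap.ext fun v => ?_)), fun h1 => ?_⟩
    · show (M * M).toLin' v = Matrix.toLin' 1 v
      rw [Matrix.toLin'_apply, Matrix.toLin'_apply, ← Matrix.mulVec_mulVec, happ, happ,
        Matrix.one_mulVec]
      exact LinearEquiv.congr_fun (congrArg Subtype.val ht2) v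
    · have : M = 1 := congrArg Subtype.val h1
      rw [this, sub_self, Matrix.rank_zero] at hrank
      omega
  have hinv : S2593.spInv y = inv t := by
    obtain ⟨-, -, t3⟩ := CharTwoInvolOrbit.dif_facts t ht2
    refine Prod.ext hrank (decide_eq_decide.2 ?_)
    have key : ∀ v, Cfsg.sympForm d F v (M *ᵥ v) = Q₀ (dif t v) := fun v => by
      rw [t3 v, dif_apply, happ, polar_sub_right, polar_self_mul, CharTwo.two_eq_zero, zero_mul,
        sub_zero, hf₀]
    exact ⟨fun h v => (key v).symm.trans (h v), fun h v => (key v).trans (h v)⟩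
  obtain ⟨c, hc⟩ := isConj_iff.1 ((S2593.isConj_iff_spInv y x hy hx).2 (hinv.trans hti))
  refine ⟨spToGL c * toGL g, Subgroup.mul_mem _ (spToGL_mem c) (toGL_mem Q Q₀ hf hf₀ g hg), 1,
    fun v => ?_⟩
  have hgg : ∀ w, ((toGL g)⁻¹ : GL (Fin d ⊕ Fin d) F).1 *ᵥ w = g.symm w := fun w =>
    g.injective (by
      rw [g.apply_symm_apply, ← toGL_mulVec]
      exact mulVec_inv_cancel (toGL g) w)
  have hcx : (spToGL c)⁻¹ * spToGL x * spToGL c = spToGL y := Units.ext (by
    have h : c⁻¹ * x * c = y := by rw [← hc]; group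
    exact congrArg Subtype.val h)
  rw [Units.val_one, one_mul, show (spToGL c * toGL g)⁻¹ * spToGL x * (spToGL c * toGL g) =
    (toGL g)⁻¹ * ((spToGL c)⁻¹ * spToGL x * spToGL c) * toGL g by group, hcx, mulVec_mul, mulVec_mul,
    hgg, toGL_mulVec]
  show Q (g.symm (M *ᵥ g v)) = Q v
  rw [happ, ← hg, g.apply_symm_apply, map_orth t, hg]

/-- An element without fixed vectors of a form of the other type. -/
theorem no_conj (hd : 1 ≤ d) (Q Q₀ : QuadraticForm F V)
    (hf : ∀ u v, polar Q u v = Cfsg.sympForm d F u v)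
    (hf₀ : ∀ u v, polar Q₀ u v = Cfsg.sympForm d F u v)
    (hno : ¬ ∃ g : V ≃ₗ[F] V, ∀ v, Q₀ (g v) = Q v)
    {r : ℕ} (g₀ : orth Q₀) (hg : g₀ ^ r = 1) (hg1 : g₀ ≠ 1) (hfix : ∀ v, g₀.1 v = v → v = 0)
    (hall : ∀ x ∈ Cfsg.spGL d F, (∃ z : F, ((x ^ r : GL (Fin d ⊕ Fin d) F) : Matrix (Fin d ⊕ Fin d) (Fin d ⊕ Fin d) F) = z • (1 : Matrix (Fin d ⊕ Fin d) (Fin d ⊕ Fin d) F)) →
      (∀ z : F, (x : Matrix (Fin d ⊕ Fin d) (Fin d ⊕ Fin d) F) ≠ z • (1 : Matrix (Fin d ⊕ Fin d) (Fin d ⊕ Fin d) F)) →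
      ∃ g ∈ Cfsg.spGL d F, g⁻¹ * x * g ∈ Cfsg.Geo.quadSimilarityGroup ⇑Q) : False := by
  set y := (isometryGroupEquiv Q₀ (⇑Q₀) fun _ => rfl).symm g₀ with hy
  have happ : ∀ v, (y.1 : Matrix (Fin d ⊕ Fin d) (Fin d ⊕ Fin d) F) *ᵥ v = g₀.1 v := fun v => by
    rw [← OrthUnitaryPrelude.isometryGroupEquiv_apply Q₀ (⇑Q₀) (fun _ => rfl) y, hy, MulEquiv.apply_symm_apply]
  have hys : y.1 ∈ Cfsg.spGL d F := (mem_spGL_iff _).2 fun u v => by
    rw [happ, happ, ← hf₀, ← hf₀]; exact polar_orth g₀ u v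
  obtain ⟨c, hc, hcQ⟩ := hall y.1 hys ⟨1, by
      have : y ^ r = 1 := by rw [hy, ← map_pow, hg, map_one]
      rw [one_smul, ← Subgroup.coe_pow, this, Subgroup.coe_one, Units.val_one]⟩
    (fun z hz => by
      have hgz : ∀ u, g₀.1 u = z • u := fun u => by
        rw [← happ, hz, Matrix.smul_mulVec, Matrix.one_mulVec]
      have hns : ∃ v, Q₀ v ≠ 0 := exists_map_ne_zero
        (OrthUnitaryOmega.isReg_of_nondegenerate (nondeg_of_polar Q₀ hf₀))
        (by rw [finrank_V]; omega)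
      obtain ⟨v, hv⟩ := hns
      exact hg1 (orth_ext fun u => by
        rw [hgz, CharTwoPointFree61.eigen_one Q₀ g₀ hv (hgz v), one_smul]; rfl))
  have hiso := isometry_of_similar hd Q hf _
    (Subgroup.mul_mem _ (Subgroup.mul_mem _ (Subgroup.inv_mem _ hc) hys) hc) hcQ
  let C : V ≃ₗ[F] V := LinearMap.GeneralLinearGroup.generalLinearEquiv F _
    (Matrix.GeneralLinearGroup.toLin c)
  have hC : ∀ v, C v = (c : Matrix (Fin d ⊕ Fin d) (Fin d ⊕ Fin d) F) *ᵥ v :=
    fun v => Matrix.GeneralLinearGroup.toLin_apply c v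
  let Q₁ : QuadraticForm F V := Q.comp C.symm.toLinearMap
  have hC' : ∀ v, C.symm v = ((c⁻¹ : GL (Fin d ⊕ Fin d) F) : Matrix (Fin d ⊕ Fin d) (Fin d ⊕ Fin d) F) *ᵥ v := fun v => C.injective (by
    rw [C.apply_symm_apply, hC, mulVec_inv_cancel])
  refine hno ⟨C, fun v => ?_⟩
  have key := unique_form Q₁ Q₀ (fun u v => by
      rw [hf₀, show polar Q₁ u v = polar Q (C.symm u) (C.symm v) by simp [polar, Q₁], hf, hC', hC']
      exact (mem_spGL_iff _).1 (Subgroup.inv_mem _ hc) u v)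
    g₀.1 (fun v => by
      show Q (C.symm (g₀.1 v)) = Q (C.symm v)
      have h := hiso (C.symm v)
      rwa [mulVec_mul, mulVec_mul, ← hC, C.apply_symm_apply, happ, ← hC'] at h)
    (fun v => map_orth g₀ v) hfix (C v)
  rw [← key]
  show Q (C.symm (C v)) = Q v
  rw [C.symm_apply_apply]

/-- Elements of prime order of PSp_n(q), q even, and the subgroups of orthogonal type. Here `T = Sp_{2d}(F)` for a field `F` of characteristic 2 with `q` elements (`d ≥ 2`, `(d, q) ≠ (2, 2)`), realised as the invertible matrices preserving the standard alternating form; `Q` is a non-degenerate quadratic form on `F^{2d}` whose polar form is that alternating form, and `H` is the subgroup of `T` preserving `Q` up to a scalar (equivalently preserving `Q`) — a subgroup of type O^±_{2d}(q) (maximality is not assumed); `Q` is of plus type when `F^{2d}` contains a `d`-dimensional subspace on which `Q` vanishes, of minus type otherwise. Ω is the set of cosets of `H` in `T`, so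 an element of `T` of prime order `r` (`x ∈ T` with `x^r` scalar, `x` not scalar) fixes a point of Ω exactly when some `T`-conjugate of `x` preserves `Q`. Let `r` be a prime dividing the index of `H`. Then every element of `T` of order `r` fixes a point of Ω if and only if `r = 2` and either `Q` is of plus type or `d` is odd. -/
theorem result {F : Type*} [Field F] [Fintype F] {p : ℕ} [Fact p.Prime] [CharP F p] {q : ℕ} (hq : Fintype.card F = q)
    (hp : p = 2) (d : ℕ) (hd : 2 ≤ d) (hT : (d, q) ≠ (2, 2)) (Q : (Fin d ⊕ Fin d → F) → F) (hQ : Cfsg.Geo.IsNondegenerateQuadraticForm Q)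
    (hQf : ∀ u v, QuadraticMap.polar Q u v = Cfsg.sympForm d F u v)
    (r : ℕ) [Fact r.Prime]
    (hΩ : r ∣ (Cfsg.Geo.quadSimilarityGroup Q).relIndex (Cfsg.spGL d F)) :
    (∀ x ∈ Cfsg.spGL d F, (∃ z : F, ((x ^ r : GL (Fin d ⊕ Fin d) F) : Matrix (Fin d ⊕ Fin d) (Fin d ⊕ Fin d) F) = z • (1 : Matrix (Fin d ⊕ Fin d) (Fin d ⊕ Fin d) F)) →
      (∀ z : F, (x : Matrix (Fin d ⊕ Fin d) (Fin d ⊕ Fin d) F) ≠ z • (1 : Matrix (Fin d ⊕ Fin d) (Fin d ⊕ Fin d) F)) →
      ∃ g ∈ Cfsg.spGL d F, g⁻¹ * x * g ∈ Cfsg.Geo.quadSimilarityGroup Q) ↔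
    (r = 2 ∧ (Cfsg.Geo.IsPlusTypeOn Q ⊤ ∨ Odd d)) := by
  classical
  subst hp
  haveI hchar : CharP F 2 := inferInstance
  have hd1 : 1 ≤ d := by omega
  have hr : r.Prime := Fact.out
  obtain ⟨Q', rfl⟩ : ∃ Q' : QuadraticForm F (Fin d ⊕ Fin d → F), ⇑Q' = Q :=
    ⟨QuadraticMap.ofPolar Q (fun a x => by rw [hQ.smul, smul_eq_mul, pow_two])
      hQ.polar_bilinear.add_left
      (fun a x y => by rw [hQ.polar_bilinear.smul_left, smul_eq_mul]), rfl⟩
  obtain ⟨a, b, hab, Qm, hm, hfm, hQm⟩ := exists_elliptic (F := F) hd1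
  have hfp : ∀ u v, polar (qfPlus F d) u v = Cfsg.sympForm d F u v :=
    fun u v => (S2593.sympForm_eq_polar u v).symm
  have hplusW : ∀ g : (Fin d ⊕ Fin d → F) ≃ₗ[F] (Fin d ⊕ Fin d → F),
      (∀ v, qfPlus F d (g v) = Q' v) → Cfsg.Geo.IsPlusTypeOn (⇑Q') ⊤ := by
    intro g hg
    refine ⟨(CharTwoInvolBridge.leftSpace F d).map
      (g.symm : (Fin d ⊕ Fin d → F) →ₗ[F] (Fin d ⊕ Fin d → F)), le_top, ?_, ?_⟩
    · rintro _ ⟨v, hv, rfl⟩
      rw [LinearEquiv.coe_coe, ← hg, g.apply_symm_apply]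
      exact CharTwoInvolBridge.leftSpace_singular v hv
    · rw [LinearEquiv.finrank_map_eq, CharTwoInvolBridge.finrank_leftSpace, finrank_top, finrank_V]
  have hminus : ∀ g : (Fin d ⊕ Fin d → F) ≃ₗ[F] ((Fin (d - 1) ⊕ Fin (d - 1)) ⊕ Fin 2 → F),
      (∀ v, CharTwoInvolForms.qfMinus (d - 1) a b (g v) = Q' v) →
      ¬ Cfsg.Geo.IsPlusTypeOn (⇑Q') ⊤ := by
    rintro g hg ⟨U, -, hU, hdim⟩
    rw [finrank_top, finrank_V] at hdim
    exact no_lagrangian hd1 hab g hg U hU (by omega)
  constructor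
  · intro hall
    have hr2 : r = 2 := by
      by_contra hr2
      rcases classify Q' hQf hab with ⟨g, hg⟩ | ⟨g, hg⟩
      · have hdvd := dvd_of_relIndex hd1 Q' hQf hr hr2 hΩ (A := Fintype.card F ^ d - 1)
          (B := Fintype.card F ^ d + 1)
          (Nat.sub_pos_of_lt (Nat.one_lt_pow (by omega) Fintype.one_lt_card))
          (by rw [mul_comm, ← Nat.sq_sub_sq, one_pow, ← pow_mul, mul_comm d 2]) (by
            rw [card_orth_of_iso Q' (qfPlus F d) (Cfsg.quadFormPlus d F)
              (fun v => (qfPlus_apply F d v).symm) g hg]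
            obtain ⟨k, rfl⟩ : ∃ k, d = k + 1 := ⟨d - 1, by omega⟩
            exact OrthUnitaryForms.card_isometryGroup_plus rfl k)
        obtain ⟨y, hy, hy1, hfix⟩ := CharTwoPointFree61.exists_minus (k := d - 1) hab hr
          (by rwa [Nat.sub_add_cancel hd1])
        refine no_conj hd1 Q' Qm hQf hfm (fun ⟨g', hg'⟩ => hminus (g'.trans hm)
          (fun v => (hQm (g' v)).trans (hg' v)) (hplusW g hg))
          (orthCongr hm.symm (fun v => by rw [← hQm, hm.apply_symm_apply]) y)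
          (by rw [← map_pow, hy, map_one]) ?_ ?_ hall
        · intro h
          rw [← map_one (orthCongr hm.symm (fun v => by rw [← hQm, hm.apply_symm_apply])),
            (orthCongr hm.symm _).injective.eq_iff] at h
          exact hy1 h
        · intro v hv
          have h : hm.symm (y.1 (hm v)) = v := hv
          have h2 := hfix (hm v) (hm.symm.injective (h.trans (hm.symm_apply_apply v).symm))
          exact hm.injective (h2.trans (map_zero hm).symm)
      · have hdvd := dvd_of_relIndex hd1 Q' hQf hr hr2 hΩ (A := Fintype.card F ^ d + 1)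
          (B := Fintype.card F ^ d - 1) (Nat.succ_pos _)
          (by rw [← Nat.sq_sub_sq, one_pow, ← pow_mul, mul_comm d 2]) (by
            rw [card_orth_of_iso Q' (CharTwoInvolForms.qfMinus (d - 1) a b)
              (Cfsg.quadFormMinus (d - 1) F a b)
              (fun v => (CharTwoInvolForms.qfMinus_apply v).symm) g hg,
              OrthUnitaryForms.card_isometryGroup_minus rfl hab, Nat.sub_add_cancel hd1])
        obtain ⟨y, hy, hy1, hfix⟩ := CharTwoPointFree61.exists_plus (F := F) (by omega : d ≠ 0) hr hdvd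
        exact no_conj hd1 Q' (qfPlus F d) hQf hfp (fun ⟨g', hg'⟩ => hminus g hg (hplusW g' hg'))
          y hy hy1 hfix hall
    subst hr2
    refine ⟨rfl, ?_⟩
    by_contra hcon
    push Not at hcon
    obtain ⟨hmi, hodd⟩ := hcon
    obtain ⟨j, hj⟩ := Nat.not_odd_iff_even.1 hodd
    obtain ⟨t, ht, hti⟩ := (CharTwoInvolForms.realised_plus (F := F) d (d, true)).1 (by
      simp only [invSet, Finset.mem_union, Finset.mem_image, Finset.mem_Icc]
      exact Or.inr ⟨j, ⟨by omega, by omega⟩, Prod.ext (by show 2 * j = d; omega) rfl⟩)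
    obtain ⟨ht2, hrk⟩ := (orderOf_two_iff t).1 ht
    have hrd : finrank F (LinearMap.range (dif t)) = d := congrArg Prod.fst hti
    have halt : ∀ v, qfPlus F d (dif t v) = 0 := of_decide_eq_true (congrArg Prod.snd hti)
    obtain ⟨c, hc, hcQ⟩ := hall (toGL t.1) (toGL_mem _ _ hfp hfp t.1 fun v => map_orth t v)
      ⟨1, by
        rw [one_smul, pow_two, Units.val_mul, Units.val_one.symm]
        refine Matrix.toLin'.injective (LinearMap.ext fun v => ?_)
        rw [Matrix.toLin'_apply, Matrix.toLin'_apply, ← Matrix.mulVec_mulVec, toGL_mulVec,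
          toGL_mulVec, Units.val_one, Matrix.one_mulVec]
        exact LinearEquiv.congr_fun (congrArg Subtype.val ht2) v⟩
      (fun z hz => by
        have htz : ∀ v, t.1 v = z • v := fun v => by
          rw [← toGL_mulVec, hz, Matrix.smul_mulVec, Matrix.one_mulVec]
        obtain ⟨w, hw⟩ := exists_map_ne_zero (OrthUnitaryOmega.isReg_of_nondegenerate
          (nondeg_of_polar _ hfp)) (by rw [finrank_V]; omega)
        have : t = 1 := orth_ext fun v => by
          rw [htz, CharTwoPointFree61.eigen_one (qfPlus F d) t hw (htz w), one_smul]; rfl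
        rw [this, orderOf_one] at ht
        exact absurd ht (by decide))
    have hiso := isometry_of_similar hd1 Q' hQf _ (Subgroup.mul_mem _ (Subgroup.mul_mem _
      (Subgroup.inv_mem _ hc) (toGL_mem _ _ hfp hfp t.1 fun v => map_orth t v)) hc) hcQ
    refine hmi ⟨(LinearMap.range (dif t)).map
      (Matrix.toLin' ((c⁻¹ : GL (Fin d ⊕ Fin d) F) : Matrix (Fin d ⊕ Fin d) (Fin d ⊕ Fin d) F)),
      le_top, ?_, ?_⟩
    · rintro _ ⟨_, ⟨v, rfl⟩, rfl⟩
      set u := ((c⁻¹ : GL (Fin d ⊕ Fin d) F) : Matrix (Fin d ⊕ Fin d) (Fin d ⊕ Fin d) F) *ᵥ v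
      set u' := ((c⁻¹ : GL (Fin d ⊕ Fin d) F) : Matrix (Fin d ⊕ Fin d) (Fin d ⊕ Fin d) F) *ᵥ (t.1 v)
      have huu : Q' u' = Q' u := by
        have := hiso u
        rwa [mulVec_mul, mulVec_mul, mulVec_inv_cancel, toGL_mulVec] at this
      rw [Matrix.toLin'_apply, dif_apply, Matrix.mulVec_sub]
      show Q' (u' - u) = 0
      rw [sub_eq_add_neg, QuadraticMap.map_add (⇑Q'), QuadraticMap.map_neg, huu, polar_neg_right,
        CharTwo.neg_eq, CharTwo.add_self_eq_zero, zero_add, hQf,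
        (mem_spGL_iff _).1 (Subgroup.inv_mem _ hc), ← hfp]
      have h3 := halt v
      rw [dif_apply, sub_eq_add_neg, QuadraticMap.map_add (⇑(qfPlus F d)), QuadraticMap.map_neg,
        map_orth t, polar_neg_right, CharTwo.neg_eq, CharTwo.add_self_eq_zero, zero_add] at h3
      exact h3
    · rw [finrank_top, finrank_V]
      congr 1
      exact (Submodule.equivMapOfInjective _ (fun x y h => by
        have := congrArg (fun w => (c : Matrix (Fin d ⊕ Fin d) (Fin d ⊕ Fin d) F) *ᵥ w) h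
        simpa only [Matrix.toLin'_apply, mulVec_inv_cancel] using this) _).finrank_eq.symm.trans hrd
  · rintro ⟨rfl, htype⟩ x hx ⟨z, hz⟩ hnz
    have hxx : ∀ v, (x : Matrix (Fin d ⊕ Fin d) (Fin d ⊕ Fin d) F) *ᵥ ((x : Matrix (Fin d ⊕ Fin d) (Fin d ⊕ Fin d) F) *ᵥ v) = z • v := fun v => by
      rw [Matrix.mulVec_mulVec, ← Units.val_mul, ← pow_two, hz, Matrix.smul_mulVec, Matrix.one_mulVec]
    have hz1 : z = 1 := by
      have h2 := (mem_spGL_iff _).1 (Subgroup.mul_mem _ hx hx)
      have h1 : Cfsg.sympForm d F (Pi.single (Sum.inr (⟨0, hd1⟩ : Fin d)) 1)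
          (Pi.single (Sum.inl ⟨0, hd1⟩) 1) = 1 := by rw [form_single_inl_right]; simp
      have h3 := h2 (Pi.single (Sum.inr (⟨0, hd1⟩ : Fin d)) 1) (Pi.single (Sum.inl ⟨0, hd1⟩) 1)
      rw [mulVec_mul, mulVec_mul, hxx, hxx, form_smul_left, form_smul_right, h1, mul_one] at h3
      exact CharTwo.sq_injective (by simpa [pow_two] using h3)
    let xs : ↥(Matrix.symplecticGroup (Fin d) F) := spEquiv ⟨x, hx⟩
    have hxs : orderOf xs = 2 := by
      rw [orderOf_eq_prime_iff, pow_two]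
      refine ⟨Subtype.ext ?_, fun h => hnz 1 (by rw [one_smul]; exact congrArg Subtype.val h)⟩
      show (x : Matrix (Fin d ⊕ Fin d) (Fin d ⊕ Fin d) F) * (x : Matrix (Fin d ⊕ Fin d) (Fin d ⊕ Fin d) F) = 1
      rw [← Units.val_mul, ← pow_two, hz, hz1, one_smul]
    have hxeq : spToGL xs = x := Units.ext rfl
    obtain ⟨hle, c, -, h1, -⟩ := CharTwoInvolSp.card_centralizer_sp (F := F) rfl xs
      (by rw [← hxs, pow_orderOf_eq_one]) rfl
    have hge : 1 ≤ (S2593.spInv xs).1 := by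
      rw [Nat.one_le_iff_ne_zero]
      intro h0
      have h0' : Matrix.toLin' ((xs : Matrix (Fin d ⊕ Fin d) (Fin d ⊕ Fin d) F) - 1) = 0 := by
        rw [← LinearMap.range_eq_bot, ← Submodule.finrank_eq_zero]
        exact h0
      have : xs = 1 := Subtype.ext (sub_eq_zero.1
        (Matrix.toLin'.injective (h0'.trans (map_zero _).symm)))
      rw [this, orderOf_one] at hxs
      exact absurd hxs (by decide)
    have hev : (S2593.spInv xs).2 = true → Even (S2593.spInv xs).1 := fun h => by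
      obtain ⟨j, hj, -⟩ := h1 (@of_decide_eq_true _ (Classical.propDecidable _) h)
      exact ⟨j, by show (S2593.spInv xs).1 = j + j; have : (S2593.spInv xs).1 = 2 * j := hj; omega⟩
    have hle' : (S2593.spInv xs).1 ≤ d := hle
    have hin : ∀ r, d ≤ r + 1 → (r = d ∨ Odd d) → S2593.spInv xs ∈ invSet d r := by
      intro r hr1 hr2
      simp only [invSet, Finset.mem_union, Finset.mem_image, Finset.mem_Icc]
      cases hb : (S2593.spInv xs).2
      · exact Or.inl ⟨_, ⟨hge, hle'⟩, Prod.ext rfl hb.symm⟩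
      · obtain ⟨j, hj⟩ := hev hb
        refine Or.inr ⟨j, ⟨by omega, ?_⟩, Prod.ext (by show 2 * j = (S2593.spInv xs).1; omega) hb.symm⟩
        rcases hr2 with rfl | ⟨l, hl⟩ <;> omega
    rw [← hxeq]
    rcases classify Q' hQf hab with ⟨g, hg⟩ | ⟨g, hg⟩
    · obtain ⟨t, ht, hti⟩ := (CharTwoInvolForms.realised_plus (F := F) d _).1
        (hin d (by omega) (Or.inl rfl))
      exact exists_conj_involution Q' (qfPlus F d) hQf hfp g hg xs hxs t ht hti
    · obtain ⟨l, hl⟩ := htype.resolve_left (hminus g hg)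
      have hreal := CharTwoInvolForms.realised_minus (k := d - 1) (F := F) hab
      rw [Nat.sub_add_cancel hd1] at hreal
      obtain ⟨t, ht, hti⟩ := (hreal _).1 (hin (d - 1) (by omega) (Or.inr ⟨l, hl⟩))
      have hg' : ∀ v, Q' (g.symm v) = CharTwoInvolForms.qfMinus (d - 1) a b v := fun v => by
        rw [← hg, g.apply_symm_apply]
      refine exists_conj_involution Q' Q' hQf hQf (LinearEquiv.refl F _) (fun v => rfl) xs hxs
        (orthCongr g.symm hg' t) (by rw [MulEquiv.orderOf_eq]; exact ht) ?_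
      rw [← hti]
      refine Prod.ext ?_ (decide_eq_decide.2 ?_)
      · show finrank F (LinearMap.range (dif (orthCongr g.symm hg' t))) = finrank F (LinearMap.range (dif t))
        have : dif (orthCongr g.symm hg' t) =
            ((g.symm : _ →ₗ[F] _) ∘ₗ dif t) ∘ₗ (g : _ →ₗ[F] _) := LinearMap.ext fun v => by
          show g.symm (t.1 (g.symm.symm v)) - v = g.symm (t.1 (g v) - g v)
          rw [map_sub, g.symm_apply_apply, LinearEquiv.symm_symm]
        rw [this, LinearMap.range_comp_of_range_eq_top _ (LinearMap.range_eq_top.2 g.surjective),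
          LinearMap.range_comp, LinearEquiv.finrank_map_eq]
      · have key : ∀ v, Q' (dif (orthCongr g.symm hg' t) v) =
            CharTwoInvolForms.qfMinus (d - 1) a b (dif t (g v)) := fun v => by
          rw [← hg', dif_apply, dif_apply, map_sub g.symm, g.symm_apply_apply]
          rfl
        exact ⟨fun h v => by
            have := h (g.symm v)
            rwa [key, g.apply_symm_apply] at this,
          fun h v => (key v).trans (h (g v))⟩

end Cfsg.Agent.S5983
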