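import Cfsg.Statements.S5984
import Cfsg.Agent.Lib.UnitaryPairs95
-- import your own Cfsg.Agent.* helpers here

set_option autoImplicit false
open scoped MatrixGroups
open Cfsg

namespace Cfsg.Agent.S5984

open Cfsg.Agent.OrthUnitaryTransvection Cfsg.Agent.UnitaryPairs95 Cfsg.Agent.OrthUnitaryHerm Cfsg.Agent.OrthUnitarySubspaces Cfsg.Agent.OrthUnitaryIsotropic
open Module Polynomial
open scoped Matrix

variable {F : Type*} [Field F] [Fintype F] {q n k : ℕ}

/-- An element fixing or swapping a pair. -/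
def Perm2 (g : Module.End F (Fin n → F)) (D₀ D₁ : Submodule F (Fin n → F)) : Prop :=
  ((∀ w ∈ D₀, g w ∈ D₀) ∧ ∀ w ∈ D₁, g w ∈ D₁) ∨ ((∀ w ∈ D₀, g w ∈ D₁) ∧ ∀ w ∈ D₁, g w ∈ D₀)

/-- `x` fixes a point: some pair is permuted. -/
def Fixes (q k : ℕ) (g : Module.End F (Fin n → F)) : Prop :=
  ∃ D₀ D₁, Pair q k D₀ D₁ ∧ Perm2 g D₀ D₁

/-- For odd `r` a pair cannot be swapped by an element with scalar `r`-th power. -/
theorem fix_of_odd {g : Module.End F (Fin n → F)} {r : ℕ} (hr : Odd r) {z : F} (hz : z ≠ 0)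
    (hg : ∀ v, (g ^ r) v = z • v) (hk : 0 < k)
    {D₀ D₁ : Submodule F (Fin n → F)} (P : Pair q k D₀ D₁) (h : Perm2 g D₀ D₁) :
    (∀ w ∈ D₀, g w ∈ D₀) ∧ ∀ w ∈ D₁, g w ∈ D₁ := by
  refine h.resolve_right fun ⟨h₀, h₁⟩ => ?_
  obtain ⟨m, rfl⟩ := hr
  have key : ∀ j, ∀ w ∈ D₀, (g ^ (2 * j)) w ∈ D₀ := by
    intro j
    induction j with
    | zero => simp
    | succ j ih =>
      intro w hw
      rw [show 2 * (j + 1) = 2 * j + 2 by ring, pow_add, Module.End.mul_apply, pow_two, Module.End.mul_apply]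
      exact ih _ (h₁ _ (h₀ _ hw))
  obtain ⟨w, hw, hw0⟩ := Submodule.exists_mem_ne_zero_of_ne_bot (p := D₀) (fun h => by
    have := P.dim₀; rw [h, finrank_bot] at this; omega)
  have : (g ^ (2 * m + 1)) w ∈ D₁ := by
    rw [pow_succ', Module.End.mul_apply]
    exact h₀ _ (key m w hw)
  rw [hg] at this
  exact hw0 ((smul_eq_zero.1 (P.zero (D₀.smul_mem z hw) this)).resolve_left hz)

/-- Companion element of an irreducible factor of the cyclotomic polynomial. -/
theorem exists_irr (hF : Fintype.card F = q ^ 2) {r : ℕ} [Fact r.Prime] (hr : (r : F) ≠ 0) {e : ℕ}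
    (he : e = orderOf (Fintype.card F : ZMod r)) (he1 : 1 < e) {i : ℕ} (hi : Odd i) (hri : r ∣ q ^ i + 1) :
    ∃ M : Matrix (Fin e) (Fin e) F, IsU q M ∧ M.det = 1 ∧ M ^ r = 1 ∧ ∀ v, M *ᵥ v = v → v = 0 := by
  classical
  obtain ⟨σ, hσq⟩ := exists_frobHom hF
  have hσ : ∀ x, σ (σ x) = x := fun x => by rw [hσq, hσq, pow_q_q hF]
  have hns : ∃ c, σ c ≠ c := by
    obtain ⟨c, hc, hc'⟩ := exists_normOne_sq_ne_one hF
    refine ⟨c, fun h => hc' (Units.ext ?_)⟩
    rw [hσq] at h
    have : (c : F) ^ (q + 1) = 1 := by rw [← Units.val_pow_eq_pow_val, hc, Units.val_one]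
    rw [pow_succ, h] at this
    rw [Units.val_pow_eq_pow_val, sq, this, Units.val_one]
  -- arithmetic of the orders
  have hq2 : (Fintype.card F : ZMod r) = (q : ZMod r) ^ 2 := by rw [hF, Nat.cast_pow]
  have hqi : (q : ZMod r) ^ i = -1 := by
    rw [← add_eq_zero_iff_eq_neg]
    exact_mod_cast (ZMod.natCast_eq_zero_iff _ _).2 hri
  have hei : e ∣ i := by
    rw [he]
    refine orderOf_dvd_of_pow_eq_one ?_
    rw [hq2, ← pow_mul, mul_comm, pow_mul, hqi, neg_one_sq]
  obtain ⟨c, hc⟩ := hei
  have heo : Odd e := (Nat.odd_mul.1 (hc ▸ hi)).1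
  have hco : Odd c := (Nat.odd_mul.1 (hc ▸ hi)).2
  have hqe : (q : ZMod r) ^ e = -1 := by
    have h2 : ((q : ZMod r) ^ e) ^ 2 = 1 := by
      rw [← pow_mul, mul_comm, pow_mul, ← hq2, he, pow_orderOf_eq_one]
    rcases sq_eq_one_iff.1 h2 with h | h
    · rw [hc, pow_mul, h, one_pow] at hqi
      rw [h]
      exact hqi
    · exact h
  have hre : r ∣ q ^ e + 1 := by
    rw [← ZMod.natCast_eq_zero_iff]; push_cast; rw [hqe, neg_add_cancel]
  -- the polynomial
  let P : F[X] := ∑ j ∈ Finset.range r, X ^ j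
  have hPd : P ∣ X ^ r - 1 := ⟨X - 1, (geom_sum_mul X r).symm⟩
  have hPu : ¬ IsUnit P := fun hu => by
    have h1 := congrArg natDegree (geom_sum_mul (X : F[X]) r)
    change natDegree (P * (X - 1)) = _ at h1
    rw [← C_1, natDegree_mul hu.ne_zero (X_sub_C_ne_zero (1 : F)), natDegree_eq_zero_of_isUnit hu,
      natDegree_X_sub_C, natDegree_X_pow_sub_C] at h1
    exact (Fact.out : r.Prime).ne_one (by omega)
  obtain ⟨h, hm, hirr, hhP⟩ := Polynomial.exists_monic_irreducible_factor P hPu
  have h1 : h.eval 1 ≠ 0 := fun h0 => hr (by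
    have := eval_eq_zero_of_dvd_of_eval_eq_zero hhP h0
    simpa [P, eval_finsetSum] using this)
  have hdle := PrimeOrderModule84.natDegree_le_order hr hirr (hhP.trans hPd)
  have h00 : h.coeff 0 ≠ 0 := fun h0 => by
    have := eval_eq_zero_of_dvd_of_eval_eq_zero (hhP.trans hPd) (show h.eval 0 = 0 by rw [← coeff_zero_eq_eval_zero, h0])
    simp [(Fact.out : r.Prime).ne_zero] at this
  haveI : Fact (Irreducible h) := ⟨hirr⟩
  set ρ := AdjoinRoot.root h with hρ
  set of' := AdjoinRoot.of h with hof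
  have hρr : ρ ^ r = 1 := by
    obtain ⟨a, ha⟩ := hhP.trans hPd
    have : eval₂ of' ρ (X ^ r - 1 : F[X]) = 0 := by
      rw [ha, eval₂_mul, hρ, hof, AdjoinRoot.eval₂_root, zero_mul]
    simpa [sub_eq_zero] using this
  have hρi : ρ * ρ ^ (q ^ e) = 1 := by
    obtain ⟨a, ha⟩ := hre
    rw [← pow_succ', ha, pow_mul, hρr, one_pow]
  -- a Frobenius power of the root is a root
  have hpow : ∀ j, eval₂ of' (ρ ^ ((q ^ 2) ^ j)) h = 0 := by
    intro j
    induction j with
    | zero => simpa [hρ, hof] using AdjoinRoot.eval₂_root h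
    | succ j ih =>
      rw [pow_succ, pow_mul]
      obtain ⟨p, f, hp, hc, -, hpf⟩ := exists_prime_pow hF
      haveI := hc
      haveI : Fact p.Prime := ⟨hp⟩
      haveI : CharP (AdjoinRoot h) p := charP_of_injective_ringHom (AdjoinRoot.of h).injective p
      have e1 : q ^ 2 = p ^ (2 * f) := by rw [hpf, ← pow_mul, mul_comm]
      rw [e1] at ih ⊢
      have := congrArg (iterateFrobenius (AdjoinRoot h) p (2 * f)) ih
      rw [hom_eval₂, map_zero, iterateFrobenius_def] at this
      rw [← this]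
      congr 1
      refine RingHom.ext fun a => ?_
      rw [RingHom.comp_apply, iterateFrobenius_def, ← map_pow, ← e1, ← hF, FiniteField.pow_card]
  have hfix : UnitaryPolys53.Fixed σ h := by
    refine ⟨⟨hm, h00⟩, ?_⟩
    obtain ⟨hg, hd⟩ := UnitaryPolys53.tau_good σ (p := h) ⟨hm, h00⟩
    refine (Polynomial.eq_of_monic_of_dvd_of_natDegree_le hm hg.1 ?_ hd.le)
    rw [← AdjoinRoot.mk_eq_zero, ← AdjoinRoot.aeval_eq, aeval_def, AdjoinRoot.algebraMap_eq]
    show eval₂ of' ρ (C (σ (h.coeff 0))⁻¹ * (h.map σ).reverse) = 0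
    haveI : Invertible ρ := ⟨ρ ^ (q ^ e), by rw [mul_comm, hρi], hρi⟩
    haveI : Invertible (ρ ^ (q ^ e)) := ⟨ρ, hρi, by rw [mul_comm, hρi]⟩
    have h2 : eval₂ of' (ρ ^ (q ^ e)) (h.map σ) = 0 := by
      obtain ⟨j, hj⟩ := heo
      have hp1 := congrArg (· ^ q) (hpow j)
      obtain ⟨p, f, hp, hc, -, hpf⟩ := exists_prime_pow hF
      haveI := hc
      haveI : Fact p.Prime := ⟨hp⟩
      haveI : CharP (AdjoinRoot h) p := charP_of_injective_ringHom (AdjoinRoot.of h).injective p
      beta_reduce at hp1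
      rw [zero_pow (q_ne_zero hF)] at hp1
      rw [← hp1, hpf, ← iterateFrobenius_def (R := AdjoinRoot h) p f, hom_eval₂, eval₂_map]
      congr 1
      · refine RingHom.ext fun a => ?_
        rw [RingHom.comp_apply, RingHom.comp_apply, iterateFrobenius_def, hσq, map_pow, hpf]
      · rw [iterateFrobenius_def, ← hpf, ← pow_mul, ← pow_mul, ← pow_succ, hj]
    have h3 := (eval₂_reverse_eq_zero_iff of' (ρ ^ (q ^ e)) (h.map σ)).2 h2
    rw [show (⅟(ρ ^ (q ^ e)) : AdjoinRoot h) = ρ from invOf_eq_right_inv (by rw [mul_comm, hρi])] at h3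
    rw [eval₂_mul, h3, mul_zero]
  -- the determinant
  let pb := AdjoinRoot.powerBasis hirr.ne_zero
  let M₀ := Algebra.leftMulMatrix pb.basis ρ
  have hM₀ : M₀.charpoly = h := by
    simp only [M₀, hρ]
    rw [← AdjoinRoot.powerBasis_gen hirr.ne_zero, charpoly_leftMulMatrix, AdjoinRoot.powerBasis_gen,
      AdjoinRoot.minpoly_root hirr.ne_zero, hm.leadingCoeff, inv_one, C_1, mul_one]
  have hcst : SLClassCount53.cst h = 1 := by
    have hd : M₀.det = SLClassCount53.cst h := by
      rw [Matrix.det_eq_sign_charpoly_coeff, hM₀, Fintype.card_fin]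
      simp [SLClassCount53.cst, pb]
    have hr1 : SLClassCount53.cst h ^ r = 1 := by
      rw [← hd, ← Matrix.det_pow, ← map_pow, hρr, map_one, Matrix.det_one]
    have hne : SLClassCount53.cst h ≠ 0 := fun h0 => by simp [h0, (Fact.out : r.Prime).ne_zero] at hr1
    have hd1 := FiniteField.pow_card_sub_one_eq_one _ hne
    have hord := Nat.dvd_gcd (orderOf_dvd_of_pow_eq_one hr1) (orderOf_dvd_of_pow_eq_one hd1)
    have hnd : ¬ r ∣ Fintype.card F - 1 := fun hdv => by
      have : (Fintype.card F : ZMod r) = 1 := by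
        rw [← pow_one (Fintype.card F : ZMod r), PrimeOrderModule84.card_pow_eq_one_iff, pow_one]
        exact hdv
      rw [this, orderOf_one] at he
      omega
    rw [(Nat.Prime.coprime_iff_not_dvd Fact.out).2 hnd, Nat.dvd_one, orderOf_eq_one_iff] at hord
    exact hord
  haveI : NeZero h.natDegree := ⟨hirr.natDegree_pos.ne'⟩
  obtain ⟨g, hg⟩ := UnitaryClasses53.exists_charpoly (n := h.natDegree) σ hσ hns hσq hfix rfl hcst
  set M := ((UnitaryClasses53.suGL g : GL (Fin h.natDegree) F) : Matrix (Fin h.natDegree) (Fin h.natDegree) F) with hMdef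
  have hMr : M ^ r = 1 := by
    obtain ⟨a, ha⟩ := hhP.trans hPd
    have := congrArg (Polynomial.aeval M) ha
    have hc0 := Matrix.aeval_self_charpoly M
    rw [hMdef, hg, ← hMdef] at hc0
    rw [map_mul, hc0, zero_mul] at this
    simpa [sub_eq_zero] using this
  have hM1 : ∀ v, M *ᵥ v = v → v = 0 := by
    intro v hv
    by_contra hv0
    refine h1 ?_
    rw [← hg, Matrix.eval_charpoly]
    exact Matrix.exists_mulVec_eq_zero_iff.1 ⟨v, hv0, by
      rw [Matrix.sub_mulVec, Matrix.scalar_apply, Matrix.diagonal_one, Matrix.one_mulVec, hv, sub_self]⟩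
  have hed : h.natDegree = e := by
    refine le_antisymm (hdle.trans he.ge) ?_
    have hp : (Matrix.toLin' M) ^ r = 1 := by
      show (Matrix.toLinAlgEquiv' M) ^ r = 1
      rw [← map_pow, hMr, map_one]
    have hrange : LinearMap.range (Matrix.toLin' M - 1) = ⊤ := by
      rw [LinearMap.range_eq_top]
      refine LinearMap.injective_iff_surjective.1 ((injective_iff_map_eq_zero _).2 fun v hv => hM1 v ?_)
      simpa [sub_eq_zero] using hv
    have := PrimeOrderModule84.dvd_finrank_of_le_range hr hp (W := ⊤) le_top (by rw [hrange])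
    rw [finrank_top, Module.finrank_fin_fun, ← he] at this
    exact Nat.le_of_dvd hirr.natDegree_pos this
  have hMU : IsU q M := g.2
  have hMd : M.det = 1 := g.1.2
  have hex : ∃ M : Matrix (Fin h.natDegree) (Fin h.natDegree) F, IsU q M ∧ M.det = 1 ∧ M ^ r = 1 ∧
      ∀ v, M *ᵥ v = v → v = 0 := ⟨M, hMU, hMd, hMr, hM1⟩
  exact hed ▸ hex

/-- The order divides some `q^i + 1` with `i` odd. -/
theorem exists_odd (hF : Fintype.card F = q ^ 2) {r : ℕ} [Fact r.Prime] (hrq : ¬ r ∣ q) (hn : n = 2 * k)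
    (hk : 0 < k) {D : Fin 2 → Submodule F (Fin n → F)} (P : Pair q k (D 0) (D 1))
    (hΩ : r ∣ (Cfsg.Geo.decompositionStabilizer D).relIndex (Cfsg.GU n F q ⊓ Cfsg.Geo.specialLinear (Fin n) F)) :
    ∃ i, Odd i ∧ i ≤ n ∧ r ∣ q ^ i + 1 := by
  classical
  obtain ⟨e, f, he, hf, hw⟩ := P.exists_frame hF
  have hidx := card_idx (k := k) (m := 0) (n := n) (by omega)
  set G := Cfsg.GU n F q
  set S := Cfsg.GU n F q ⊓ Cfsg.Geo.specialLinear (Fin n) F
  set H := Cfsg.Geo.decompositionStabilizer D
  have h1 : H.relIndex S * Nat.card ↥(H ⊓ S) = Nat.card S := by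
    have := Subgroup.relIndex_mul_relIndex (⊥ : Subgroup (GL (Fin n) F)) (H ⊓ S) S bot_le inf_le_right
    rw [Subgroup.relIndex_bot_left, Subgroup.relIndex_bot_left, Subgroup.inf_relIndex_right] at this
    rw [mul_comm, this]
  -- `GL_k` inside the stabiliser
  have h2 : Nat.card (GL (Fin k) F) ≤ Nat.card ↥(H ⊓ G) ∧ Nat.card (GL (Fin k) F) ∣ Nat.card ↥(H ⊓ G) := by
    obtain ⟨σ, hσ⟩ := exists_frobHom hF
    let st : GL (Fin k) F → Matrix (Fin k) (Fin k) F := fun A =>
      (((A⁻¹ : GL (Fin k) F) : Matrix (Fin k) (Fin k) F).map σ).transpose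
    let L : GL (Fin k) F → (Fin n → F) →ₗ[F] (Fin n → F) := fun A =>
      ∑ a : Idx k 0, (hermL q (frame e f Fin.elim0 (pairing a))).smulRight
        (Sum.elim (Sum.elim (fun i => ∑ j, (A : Matrix (Fin k) (Fin k) F) j i • e j)
          (fun i => ∑ j, st A j i • f j)) Fin.elim0 a)
    have hLe : ∀ A (a : Idx k 0), L A (frame e f Fin.elim0 a) =
        Sum.elim (Sum.elim (fun i => ∑ j, (A : Matrix (Fin k) (Fin k) F) j i • e j)
          (fun i => ∑ j, st A j i • f j)) Fin.elim0 a := by
      intro A a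
      simp only [L, LinearMap.sum_apply, LinearMap.smulRight_apply, hermL_apply, hw _ _, pairing_invol _, ite_smul, one_smul,
        zero_smul, Finset.sum_ite_eq, Finset.mem_univ, if_true]
    have hef : ∀ i j, hermForm n F q (e i) (f j) = if i = j then 1 else 0 := fun i j => by
      simpa [pairing, frame] using hw (.inl (.inl i)) (.inl (.inr j))
    have hfe : ∀ i j, hermForm n F q (f i) (e j) = if i = j then 1 else 0 := fun i j => by
      simpa [pairing, frame] using hw (.inl (.inr i)) (.inl (.inl j))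
    have hee : ∀ i j, hermForm n F q (e i) (e j) = 0 := fun i j => by
      simpa [pairing, frame] using hw (.inl (.inl i)) (.inl (.inl j))
    have hff : ∀ i j, hermForm n F q (f i) (f j) = 0 := fun i j => by
      simpa [pairing, frame] using hw (.inl (.inr i)) (.inl (.inr j))
    have hgram : ∀ A : GL (Fin k) F, IsGram q pairing fun a => L A (frame e f Fin.elim0 a) := by
      intro A
      have hAi : ∀ i i', ∑ j, (A : Matrix (Fin k) (Fin k) F) j i * (σ (st A j i')) = if i = i' then 1 else 0 := by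
        intro i i'
        have := congrFun (congrFun (Units.inv_mul A) i') i
        rw [Matrix.mul_apply, Matrix.one_apply] at this
        simp only [eq_comm (a := i')] at this
        rw [← this]
        refine Finset.sum_congr rfl fun j _ => ?_
        simp [st, hσ, pow_q_q hF, mul_comm]
      have hx : ∀ i i', hermForm n F q (∑ j, (A : Matrix (Fin k) (Fin k) F) j i • e j) (∑ j, st A j i' • f j) =
          if i = i' then 1 else 0 := fun i i' => by
        rw [← hAi]
        simp [herm_sum_left, herm_sum_right hF, herm_smul_left, herm_smul_right, hef, hσ, mul_comm]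
      rintro ((i | i) | i) ((j | j) | j)
      · simp only [hLe]; simp [pairing, herm_sum_left, herm_sum_right hF, herm_smul_left, herm_smul_right, hee]
      · simp only [hLe]; simp [pairing, hx]
      · exact j.elim0
      · simp only [hLe, Sum.elim_inl, Sum.elim_inr]
        rw [herm_conj hF, hx]
        by_cases h : j = i
        · subst h; simp [pairing]
        · simp [pairing, h, Ne.symm h, zero_pow_q hF]
      · simp only [hLe]; simp [pairing, herm_sum_left, herm_sum_right hF, herm_smul_left, herm_smul_right, hff]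
      · exact j.elim0
      all_goals exact i.elim0
    choose M hM hMw using fun A => exists_witt hF pairing_invol hw (hgram A) hidx
    have hMe : ∀ A i, M A *ᵥ e i = ∑ j, (A : Matrix (Fin k) (Fin k) F) j i • e j := fun A i =>
      (hMw A (.inl (.inl i))).trans (hLe A _)
    have hMf : ∀ A i, M A *ᵥ f i = ∑ j, st A j i • f j := fun A i =>
      (hMw A (.inl (.inr i))).trans (hLe A _)
    have hstmul : ∀ A B, st (A * B) = st A * st B := by
      intro A B
      simp only [st, _root_.mul_inv_rev, Units.val_mul, Matrix.map_mul, Matrix.transpose_mul]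
    have hMmul : ∀ A B, M (A * B) = M A * M B := by
      intro A B
      refine mat_ext hF pairing_invol hw hidx fun a => ?_
      rw [← Matrix.mulVec_mulVec]
      rcases a with (i | i) | i
      · show M (A * B) *ᵥ e i = M A *ᵥ (M B *ᵥ e i)
        simp only [hMe, Matrix.mulVec_sum, Matrix.mulVec_smul, Units.val_mul, Matrix.mul_apply, Finset.sum_smul,
          Finset.smul_sum, smul_smul]
        rw [Finset.sum_comm]
        exact Finset.sum_congr rfl fun _ _ => Finset.sum_congr rfl fun _ _ => by rw [mul_comm]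
      · show M (A * B) *ᵥ f i = M A *ᵥ (M B *ᵥ f i)
        simp only [hMf, hstmul, Matrix.mulVec_sum, Matrix.mulVec_smul, Matrix.mul_apply, Finset.sum_smul,
          Finset.smul_sum, smul_smul]
        rw [Finset.sum_comm]
        exact Finset.sum_congr rfl fun _ _ => Finset.sum_congr rfl fun _ _ => by rw [mul_comm]
      · exact i.elim0
    have hmapD : ∀ A, (mkGU hF (M A) (hM A)).1 ∈ H := by
      intro A
      refine ⟨1, fun l => ?_⟩
      have hle : (D l).map (Matrix.toLin' (M A)) ≤ D l := by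
        have : ∃ v : Fin k → Fin n → F, Submodule.span F (Set.range v) = D l ∧
            ∀ i, M A *ᵥ v i ∈ Submodule.span F (Set.range v) := by
          fin_cases l
          · exact ⟨e, he, fun i => by
              rw [hMe]; exact Submodule.sum_mem _ fun j _ => Submodule.smul_mem _ _ (Submodule.subset_span ⟨j, rfl⟩)⟩
          · exact ⟨f, hf, fun i => by
              rw [hMf]; exact Submodule.sum_mem _ fun j _ => Submodule.smul_mem _ _ (Submodule.subset_span ⟨j, rfl⟩)⟩
        obtain ⟨v, hv, hvi⟩ := this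
        rw [← hv, Submodule.map_span, Submodule.span_le]
        rintro _ ⟨_, ⟨i, rfl⟩, rfl⟩
        exact hvi i
      rw [mkGU_coe]
      exact Submodule.eq_of_le_of_finrank_eq hle
        (Submodule.equivMapOfInjective _ (Matrix.mulVec_injective_iff_isUnit.2 ((hM A).isUnit hF)) _).finrank_eq.symm
    let ψ : GL (Fin k) F →* ↥(H ⊓ G) :=
      MonoidHom.mk' (fun A => ⟨(mkGU hF (M A) (hM A)).1, hmapD A, (mkGU hF (M A) (hM A)).2⟩) fun A B =>
        Subtype.ext (Units.ext (by
          simp only [Subgroup.coe_mul, Units.val_mul]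
          rw [mkGU_coe, mkGU_coe, mkGU_coe, hMmul]))
    have hψ : Function.Injective ψ := by
      intro A B h
      have h' : M A = M B := by
        have := congrArg (fun z : ↥(H ⊓ G) => ((z : GL (Fin n) F) : Matrix (Fin n) (Fin n) F)) h
        simpa [ψ, mkGU_coe] using this
      have hli : LinearIndependent F e :=
        (gram_li pairing_invol hw).comp (fun i : Fin k => (Sum.inl (Sum.inl i) : Idx k 0)) fun a b h => by simpa using h
      refine Units.ext (Matrix.ext fun i j => ?_)
      have := hMe A j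
      rw [h', hMe B j, ← sub_eq_zero, ← Finset.sum_sub_distrib] at this
      simp only [← sub_smul] at this
      exact (sub_eq_zero.1 (Fintype.linearIndependent_iff.1 hli _ this i)).symm
    exact ⟨Nat.card_le_card_of_injective ψ hψ, Subgroup.card_dvd_of_injective ψ hψ⟩
  -- the determinant of the stabiliser
  have h3 : Nat.card ↥(H ⊓ G) ∣ (q + 1) * Nat.card ↥(H ⊓ S) := by
    let φ : ↥(H ⊓ G) →* Fˣ := Matrix.GeneralLinearGroup.det.comp (H ⊓ G).subtype
    have hr : φ.range ≤ (powMonoidHom (q + 1) : Fˣ →* Fˣ).ker := by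
      rintro _ ⟨g, rfl⟩
      apply Units.ext
      simpa [φ, Matrix.GeneralLinearGroup.val_det_apply] using
        (isU_of_mem (⟨g.1, g.2.2⟩ : Cfsg.GU n F q)).det_pow hF
    have hrc := Subgroup.card_dvd_of_le hr
    rw [show Nat.card ((powMonoidHom (q + 1) : Fˣ →* Fˣ).ker) = q + 1 from card_normOne hF] at hrc
    have hker : Nat.card φ.ker = Nat.card ↥(H ⊓ S) :=
      Nat.card_congr
        { toFun := fun g => ⟨g.1.1, g.1.2.1, g.1.2.2, g.2⟩
          invFun := fun g => ⟨⟨g.1, g.2.1, g.2.2.1⟩, g.2.2.2⟩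
          left_inv := fun g => rfl
          right_inv := fun g => rfl }
    rw [Subgroup.card_eq_card_quotient_mul_card_subgroup φ.ker,
      Nat.card_congr (QuotientGroup.quotientKerEquivRange φ).toEquiv, hker]
    exact mul_dvd_mul_right hrc _
  have h4 : Nat.card G = (q + 1) * Nat.card S := by
    rw [show G = Cfsg.GU n F q from rfl, ← card_GU_eq_mul_card_SU hF (by omega)]
    congr 1
    rw [Nat.card_congr (MonoidHom.ofInjective (suToGU_injective (n := n) (F := F) (q := q))).toEquiv]
    refine Nat.card_congr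
      { toFun := fun g => ⟨g.1.1, g.1.2, ?_⟩
        invFun := fun g => ⟨⟨g.1, g.2.1⟩, ?_⟩
        left_inv := fun g => rfl
        right_inv := fun g => rfl }
    · obtain ⟨a, ha⟩ := g.2
      rw [← ha]
      show Matrix.GeneralLinearGroup.det (Matrix.SpecialLinearGroup.toGL a.1) = 1
      ext
      rw [Matrix.GeneralLinearGroup.val_det_apply, Units.val_one]
      exact a.1.2
    · have hd := congrArg Units.val (MonoidHom.mem_ker.1 g.2.2)
      rw [Matrix.GeneralLinearGroup.val_det_apply, Units.val_one] at hd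
      exact ⟨⟨⟨_, hd⟩, g.2.1⟩, Subtype.ext (Units.ext rfl)⟩
  have h5 : r * Nat.card (GL (Fin k) F) ∣ Nat.card G := by
    refine (mul_dvd_mul hΩ (h2.2.trans h3)).trans ?_
    rw [h4, ← h1, mul_left_comm]
  rw [show G = Cfsg.GU n F q from rfl, card_GU hF, Matrix.card_GL_field] at h5
  -- cancel the even part
  set O := ∏ j ∈ Finset.range k, (q ^ (2 * j + 1) + 1) with hO
  set E := ∏ j ∈ Finset.range k, (q ^ (2 * j + 2) - 1) with hE
  have hsplit : ∀ k, ∏ i ∈ Finset.range (2 * k), (if Even i then q ^ (i + 1) + 1 else q ^ (i + 1) - 1) =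
      (∏ j ∈ Finset.range k, (q ^ (2 * j + 1) + 1)) * ∏ j ∈ Finset.range k, (q ^ (2 * j + 2) - 1) := by
    intro k
    induction k with
    | zero => simp
    | succ k ih =>
      rw [show 2 * (k + 1) = 2 * k + 1 + 1 by ring, Finset.prod_range_succ, Finset.prod_range_succ, ih,
        Finset.prod_range_succ, Finset.prod_range_succ, if_pos (even_two_mul k), if_neg (by simp)]
      ring
  have hgl : (∏ i : Fin k, ((q ^ 2) ^ k - (q ^ 2) ^ (i : ℕ))) = (∏ i : Fin k, (q ^ 2) ^ (i : ℕ)) * E := by
    rw [Fin.prod_univ_eq_prod_range (fun i => (q ^ 2) ^ k - (q ^ 2) ^ i), Fin.prod_univ_eq_prod_range (fun i => (q ^ 2) ^ i),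
      hE, ← Finset.prod_range_reflect (fun j => q ^ (2 * j + 2) - 1) k, ← Finset.prod_mul_distrib]
    refine Finset.prod_congr rfl fun i hi => ?_
    have hi := Finset.mem_range.1 hi
    rw [Nat.mul_sub, mul_one, ← pow_mul, ← pow_mul, ← pow_add]
    congr 2
    omega
  have hE0 : 0 < E := Finset.prod_pos fun j _ => by
    have := two_le_q hF
    have : 2 ≤ q ^ (2 * j + 2) := this.trans (Nat.le_self_pow (by omega) q)
    omega
  rw [hF, hgl, hn, hsplit, ← hO, ← hE, show r * ((∏ i : Fin k, (q ^ 2) ^ (i : ℕ)) * E) =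
    r * (∏ i : Fin k, (q ^ 2) ^ (i : ℕ)) * E by ring, ← mul_assoc] at h5
  have h6 : r ∣ q ^ (2 * k * (2 * k - 1) / 2) * O :=
    (dvd_mul_right _ _).trans ((Nat.mul_dvd_mul_iff_right hE0).1 h5)
  have hrp : r.Prime := Fact.out
  rcases hrp.dvd_mul.1 h6 with h | h
  · exact absurd (hrp.dvd_of_dvd_pow h) hrq
  · obtain ⟨j, hj, hj'⟩ := (hrp.prime.dvd_finsetProd_iff _).1 h
    exact ⟨2 * j + 1, by simp, by simp at hj; omega, hj'⟩

/-- An element of `SU` of order `r` fixing no pair. -/
theorem exists_test_line (hF : Fintype.card F = q ^ 2) (hn : 4 ≤ n) {μ : F} (hμ : μ ^ (q + 1) = 1)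
    {ν : F} (hν : ν ^ (q + 1) = 1) {c : F} (hc : c ^ (q + 1) = 1) (hne : μ ≠ ν) (hne' : μ ≠ c)
    (hprod : μ * ν * c ^ (n - 2) = 1) :
    ∃ (M : Matrix (Fin n) (Fin n) F) (v : Fin n → F), IsU q M ∧ M.det = 1 ∧
      M *ᵥ v = μ • v ∧ hermForm n F q v v ≠ 0 ∧ (∀ w, M *ᵥ w = μ • w → ∃ a : F, w = a • v) ∧
      (∀ t : ℕ, μ ^ t = ν ^ t → c ^ t = ν ^ t → M ^ t = ν ^ t • (1 : Matrix (Fin n) (Fin n) F)) ∧
      ∀ z : F, M ≠ z • (1 : Matrix (Fin n) (Fin n) F) := by
  let i₀ : Fin n := ⟨0, by omega⟩
  let i₁ : Fin n := ⟨1, by omega⟩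
  have h01 : i₀ ≠ i₁ := by simp [i₀, i₁]
  let d : Fin n → F := fun i => if i = i₀ then μ else if i = i₁ then ν else c
  refine ⟨Matrix.diagonal d, Pi.single i₀ 1, ?_, ?_, ?_, ?_, ?_, ?_, ?_⟩
  · intro u v
    simp only [hermForm, Matrix.mulVec_diagonal, mul_pow]
    refine Finset.sum_congr rfl fun i _ => ?_
    have : d i ^ (q + 1) = 1 := by simp only [d]; split_ifs <;> assumption
    rw [pow_succ] at this
    linear_combination u i * v i ^ q * this
  · rw [Matrix.det_diagonal, ← Finset.mul_prod_erase _ _ (Finset.mem_univ i₀),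
      ← Finset.mul_prod_erase _ _ (Finset.mem_erase.2 ⟨h01.symm, Finset.mem_univ i₁⟩),
      Finset.prod_congr rfl (fun i hi => show d i = c by
        simp only [Finset.mem_erase] at hi
        simp [d, hi.1, hi.2.1]), Finset.prod_const, Finset.card_erase_of_mem (by simp [h01.symm]),
      Finset.card_erase_of_mem (Finset.mem_univ _), Finset.card_univ, Fintype.card_fin]
    simp only [d, if_true, if_neg h01.symm]
    rw [← mul_assoc, show n - 1 - 1 = n - 2 by omega, hprod]
  · funext i
    by_cases h : i = i₀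
    · subst h; simp [Matrix.mulVec_diagonal, d]
    · simp [Matrix.mulVec_diagonal, h]
  · simp [herm_single_right hF]
  · intro w hw
    refine ⟨w i₀, funext fun i => ?_⟩
    by_cases h : i = i₀
    · subst h; simp
    · have := congrFun hw i
      simp only [Matrix.mulVec_diagonal, Pi.smul_apply, smul_eq_mul] at this
      have hd : d i ≠ μ := by simp only [d, if_neg h]; split_ifs <;> exact Ne.symm ‹_›
      simp [h, (mul_eq_mul_right_iff.1 this).resolve_left hd]
  · intro t h1 h2
    rw [Matrix.diagonal_pow, Matrix.smul_one_eq_diagonal]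
    congr 1
    funext i
    simp only [Pi.pow_apply, d]
    split_ifs <;> first | exact h1 | exact h2 | rfl
  · intro z hz
    have h0 := congrFun (congrFun hz i₀) i₀
    have h1 := congrFun (congrFun hz i₁) i₁
    simp [d, h01, h01.symm] at h0 h1
    exact hne (h0.trans h1.symm)

theorem range_block {e m : ℕ} (A : Matrix (Fin e) (Fin e) F) (hA : ∀ v, A *ᵥ v = v → v = 0) :
    finrank F (LinearMap.range (Matrix.toLin' (blockMat A (1 : Matrix (Fin m) (Fin m) F)) - 1)) = e := by
  let L : (Fin e → F) →ₗ[F] (Fin (e + m) → F) :=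
    { toFun := fun a => Fin.append a 0
      map_add' := fun a b => funext fun i => by induction i using Fin.addCases <;> simp
      map_smul' := fun c a => funext fun i => by induction i using Fin.addCases <;> simp }
  have hL : Function.Injective L := fun a b h => funext fun i => by
    simpa [L] using congrFun h (Fin.castAdd m i)
  have hsurj : Function.Surjective (Matrix.toLin' A - 1 : Module.End F (Fin e → F)) :=
    LinearMap.injective_iff_surjective.1 ((injective_iff_map_eq_zero _).2 fun v hv => hA v (by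
      simpa [sub_eq_zero] using hv))
  have key : LinearMap.range (Matrix.toLin' (blockMat A (1 : Matrix (Fin m) (Fin m) F)) - 1) = LinearMap.range L := by
    apply le_antisymm
    · rintro _ ⟨x, rfl⟩
      refine ⟨(Matrix.toLin' A - 1 : Module.End F (Fin e → F)) fun i => x (Fin.castAdd m i), ?_⟩
      conv_rhs => rw [← Fin.append_castAdd_natAdd (f := x)]
      simp only [LinearMap.sub_apply, Module.End.one_apply, Matrix.toLin'_apply, blockMat_mulVec, Matrix.one_mulVec]
      funext i; induction i using Fin.addCases <;> simp [L]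
    · rintro _ ⟨a, rfl⟩
      obtain ⟨b, rfl⟩ := hsurj a
      refine ⟨Fin.append b 0, ?_⟩
      simp only [LinearMap.sub_apply, Module.End.one_apply, Matrix.toLin'_apply, blockMat_mulVec, Matrix.one_mulVec]
      funext i; induction i using Fin.addCases <;> simp [L]
  rw [key, LinearMap.finrank_range_of_inj hL, Module.finrank_fin_fun]

/-- An element of order `r ≠ p` fixing no pair, `r` not dividing `q^2 - 1`. -/
theorem exists_test_big (hF : Fintype.card F = q ^ 2) {r : ℕ} [Fact r.Prime] (hr : (r : F) ≠ 0) {e : ℕ}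
    (he : e = orderOf (Fintype.card F : ZMod r)) (he1 : 1 < e) {i : ℕ} (hi : Odd i) (hri : r ∣ q ^ i + 1)
    (hin : e ≤ n) :
    ∃ M : Matrix (Fin n) (Fin n) F, IsU q M ∧ M.det = 1 ∧ M ^ r = 1 ∧
      finrank F (LinearMap.range (Matrix.toLin' M - 1)) = e := by
  obtain ⟨m, rfl⟩ := Nat.exists_eq_add_of_le hin
  obtain ⟨A, hA, hAd, hAr, hA1⟩ := exists_irr hF hr he he1 hi hri
  have hB : IsU q (1 : Matrix (Fin m) (Fin m) F) := fun u v => by simp
  refine ⟨blockMat A 1, isU_blockMat hA hB, ?_, ?_, range_block A hA1⟩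
  · rw [blockMat, Matrix.det_submatrix_equiv_self, Matrix.det_fromBlocks_zero₂₁, hAd, Matrix.det_one, one_mul]
  · have : ∀ j, blockMat A (1 : Matrix (Fin m) (Fin m) F) ^ j = blockMat (A ^ j) 1 := by
      intro j
      induction j with
      | zero => simp [blockMat]
      | succ j ih =>
        rw [pow_succ, ih, pow_succ, blockMat, blockMat, blockMat, Matrix.submatrix_mul_equiv, Matrix.fromBlocks_multiply]
        simp
    rw [this, hAr]
    simp [blockMat]

/-- A transvection in `SU`. -/
theorem exists_test_transv (hF : Fintype.card F = q ^ 2) (hn : 4 ≤ n) {p : ℕ} [CharP F p] :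
    ∃ (v : Fin n → F) (c : F), v ≠ 0 ∧ c ≠ 0 ∧ IsU q (unitaryTransvection n q v c) ∧
      (unitaryTransvection n q v c).det = 1 ∧ unitaryTransvection n q v c ^ p = 1 ∧
      ∀ z : F, unitaryTransvection n q v c ≠ z • (1 : Matrix (Fin n) (Fin n) F) := by
  obtain ⟨s, hs⟩ := exists_norm_eq hF (a := (-1 : F)) (by rw [neg_pow_q hF, one_pow])
  obtain ⟨c, hc0, hc⟩ := exists_skew hF
  let i₀ : Fin n := ⟨0, by omega⟩
  let i₁ : Fin n := ⟨1, by omega⟩
  let i₂ : Fin n := ⟨2, by omega⟩
  let v : Fin n → F := Pi.single i₀ 1 + s • Pi.single i₁ 1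
  have h01 : i₀ ≠ i₁ := by simp [i₀, i₁]
  have hv0 : v i₀ = 1 := by simp [v, Pi.single_eq_of_ne h01]
  have hv : hermForm n F q v v = 0 := by
    simp only [v, herm_add_left, herm_add_right hF, herm_smul_left, herm_smul_right, herm_single_right hF]
    simp [Pi.single_eq_of_ne h01, Pi.single_eq_of_ne h01.symm]
    rw [← pow_succ, hs]; ring
  have hv' : v ≠ 0 := fun h => by simp [h] at hv0
  refine ⟨v, c, hv', hc0, isU_transvection hF (by rw [hv, mul_zero, add_zero, hc]), by
    rw [det_transvection hF, hv, mul_zero, add_zero], ?_, ?_⟩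
  · have key : ∀ (j : ℕ) w, (unitaryTransvection n q v c ^ j) *ᵥ w = w + (j * (c * hermForm n F q w v)) • v := by
      intro j
      induction j with
      | zero => simp
      | succ j ih =>
        intro w
        rw [pow_succ, ← Matrix.mulVec_mulVec, transvection_mulVec, ih, herm_add_left, herm_smul_left, hv]
        push_cast; module
    refine Matrix.ext_of_mulVec_single fun i => ?_
    rw [key, CharP.cast_eq_zero]; simp
    funext j; simp [Matrix.one_apply, Pi.single_apply, eq_comm]
  · intro z hz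
    have h02 : i₀ ≠ i₂ ∧ i₁ ≠ i₂ := by simp [i₀, i₁, i₂]
    have h1 := congrArg (· *ᵥ (Pi.single i₀ (1:F))) hz
    simp only [transvection_mulVec, Matrix.smul_mulVec, Matrix.one_mulVec, herm_single_left] at h1
    have h2 := congrFun h1 i₁
    simp [v, Pi.single_eq_of_ne h01, Pi.single_eq_of_ne h01.symm, hc0] at h2
    exact absurd h2 (fun h => by simp [h] at hs)

/-- Elements of prime order of PSU_n(q) and the stabilizers of pairs of complementary totally singular subspaces. Here `T = PSU_n(q)` is realised through `SU_n(q)`, the matrices of determinant 1 over the field `F` with `q²` elements preserving the hermitian form `Σ uᵢ vᵢ^q`, with `n ≥ 4` even; `D` is a pair of complementary subspaces of dimension `n/2` on each of which the form vanishes identically, and `H` is the subgroup of `SU_n(q)` fixing or interchanging the two members — a subgroup of type GL_{n/2}(q²).2 (maximality is not assumed). Ω is the set of cosets of `H`, so an element of `T` of prime order `r` (`x ∈ SU_n(q)` with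 `x^r` scalar, `x` not scalar) fixes a point of Ω exactly when some `SU_n(q)`-conjugate of `x` lies in `H`. Let `r` be a prime dividing the index of `H`. Then every element of `T` of order `r` fixes a point of Ω if and only if `r = 2`, `q` is odd and `(q + 1)_2 ≤ (n)_2` (2-parts). -/
theorem result {F : Type*} [Field F] [Fintype F] {p : ℕ} [Fact p.Prime] [CharP F p] {q : ℕ} (hq : Fintype.card F = q ^ 2)
    (n : ℕ) (hn : 4 ≤ n) (he : Even n) (D : Fin 2 → Submodule F (Fin n → F)) (hD : Cfsg.Geo.IsMDecomposition (n / 2) D)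
    (hDs : ∀ i, Cfsg.Geo.IsTotallySingularFor (Cfsg.hermForm n F q) (D i))
    (r : ℕ) [Fact r.Prime]
    (hΩ : r ∣ (Cfsg.Geo.decompositionStabilizer D).relIndex (Cfsg.GU n F q ⊓ Cfsg.Geo.specialLinear (Fin n) F)) :
    (∀ x ∈ Cfsg.GU n F q ⊓ Cfsg.Geo.specialLinear (Fin n) F, (∃ z : F, ((x ^ r : GL (Fin n) F) : Matrix (Fin n) (Fin n) F) = z • (1 : Matrix (Fin n) (Fin n) F)) →
      (∀ z : F, (x : Matrix (Fin n) (Fin n) F) ≠ z • (1 : Matrix (Fin n) (Fin n) F)) →
      ∃ g ∈ Cfsg.GU n F q ⊓ Cfsg.Geo.specialLinear (Fin n) F, g⁻¹ * x * g ∈ Cfsg.Geo.decompositionStabilizer D) ↔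
    (r = 2 ∧ Odd q ∧ padicValNat 2 (q + 1) ≤ padicValNat 2 n) := by
  classical
  obtain ⟨k, rfl⟩ : ∃ k, n = 2 * k := by obtain ⟨k, hk⟩ := he; exact ⟨k, by omega⟩
  have hk2 : 2 ≤ k := by omega
  have hk : 0 < k := by omega
  rw [Nat.mul_div_cancel_left k two_pos] at hD
  have hne : (0 : Fin 2) ≠ 1 := by decide
  have P₀ : Pair q k (D 0) (D 1) := by
    refine ⟨hD.finrank_eq 0, hD.finrank_eq 1, ⟨hD.indep.pairwiseDisjoint hne, codisjoint_iff.2 ?_⟩, hDs 0, hDs 1⟩
    rw [eq_top_iff, ← hD.iSup_eq_top]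
    refine iSup_le fun i => ?_
    fin_cases i
    · exact le_sup_left
    · exact le_sup_right
  have hr : r.Prime := Fact.out
  have hcp : CharP F p := inferInstance
  set S := Cfsg.GU (2 * k) F q ⊓ Cfsg.Geo.specialLinear (Fin (2 * k)) F with hS
  -- fixed points are permuted pairs
  have hfix : ∀ x ∈ S, (∃ g ∈ S, g⁻¹ * x * g ∈ Cfsg.Geo.decompositionStabilizer D) ↔
      Fixes q k (Matrix.toLin' (x : Matrix (Fin (2 * k)) (Fin (2 * k)) F)) := by
    intro x _
    constructor
    · rintro ⟨g, hg, σ, hσ⟩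
      set G := Matrix.toLin' (g : Matrix (Fin (2 * k)) (Fin (2 * k)) F) with hG
      have hGi : Function.Injective G :=
        Matrix.mulVec_injective_iff_isUnit.2 ⟨g, rfl⟩
      have hGU := hg.1
      have hdim : ∀ i, finrank F ↥((D i).map G) = k := fun i =>
        (Submodule.equivMapOfInjective _ hGi _).finrank_eq.symm.trans (hD.finrank_eq i)
      have hts : ∀ i, ∀ u ∈ (D i).map G, ∀ v ∈ (D i).map G, hermForm (2 * k) F q u v = 0 := by
        rintro i _ ⟨u, hu, rfl⟩ _ ⟨v, hv, rfl⟩
        exact (hGU u v).trans (hDs i u hu v hv)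
      refine ⟨(D 0).map G, (D 1).map G, ⟨hdim 0, hdim 1, ⟨disjoint_iff.2 ?_, codisjoint_iff.2 ?_⟩, hts 0, hts 1⟩, ?_⟩
      · rw [← Submodule.map_inf _ hGi, P₀.compl.inf_eq_bot, Submodule.map_bot]
      · rw [← Submodule.map_sup, P₀.compl.sup_eq_top, Submodule.map_top, LinearMap.range_eq_top]
        exact LinearMap.injective_iff_surjective.1 hGi
      have hmap : ∀ i, ∀ w ∈ (D i).map G,
          Matrix.toLin' (x : Matrix (Fin (2 * k)) (Fin (2 * k)) F) w ∈ (D (σ i)).map G := by
        rintro i _ ⟨u, hu, rfl⟩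
        refine ⟨Matrix.toLin' ((g⁻¹ * x * g : GL (Fin (2 * k)) F) : Matrix (Fin (2 * k)) (Fin (2 * k)) F) u,
          hσ i ▸ Submodule.mem_map_of_mem hu, ?_⟩
        rw [hG, ← LinearMap.comp_apply, ← Matrix.toLin'_mul, ← LinearMap.comp_apply, ← Matrix.toLin'_mul,
          ← Units.val_mul, ← Units.val_mul, show g * (g⁻¹ * x * g) = x * g by group]
      by_cases h0 : σ 0 = 0
      · have h1 : σ 1 = 1 := by
          have := σ.injective.ne hne
          rw [h0] at this
          omega
        exact Or.inl ⟨fun w hw => h0 ▸ hmap 0 w hw, fun w hw => h1 ▸ hmap 1 w hw⟩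
      · have h0' : σ 0 = 1 := by omega
        have h1 : σ 1 = 0 := by
          have := σ.injective.ne hne
          rw [h0'] at this
          omega
        exact Or.inr ⟨fun w hw => h0' ▸ hmap 0 w hw, fun w hw => h1 ▸ hmap 1 w hw⟩
    · rintro ⟨E₀, E₁, PE, hp⟩
      obtain ⟨g, hg, hg0, hg1⟩ := exists_map_pair hq rfl hk P₀ PE
      set G := Matrix.toLin' (g : Matrix (Fin (2 * k)) (Fin (2 * k)) F) with hG
      have hXi : Function.Injective (Matrix.toLin' (x : Matrix (Fin (2 * k)) (Fin (2 * k)) F)) :=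
        Matrix.mulVec_injective_iff_isUnit.2 ⟨x, rfl⟩
      have key : ∀ (i j : Fin 2) (A B : Submodule F (Fin (2 * k) → F)), (D i).map G = A → (D j).map G = B →
          (∀ w ∈ A, Matrix.toLin' (x : Matrix (Fin (2 * k)) (Fin (2 * k)) F) w ∈ B) →
          (D i).map (Matrix.toLin' ((g⁻¹ * x * g : GL (Fin (2 * k)) F) : Matrix (Fin (2 * k)) (Fin (2 * k)) F)) = D j := by
        intro i j A B hA hB hx
        refine Submodule.eq_of_le_of_finrank_eq ?_ ?_
        · rintro _ ⟨u, hu, rfl⟩
          obtain ⟨w, hw, hwe⟩ := hB.symm ▸ hx (G u) (hA ▸ Submodule.mem_map_of_mem hu)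
          simp only [hG, Matrix.toLin'_apply] at hwe ⊢
          rw [Units.val_mul, Units.val_mul, ← Matrix.mulVec_mulVec, ← Matrix.mulVec_mulVec, ← hwe,
            Matrix.mulVec_mulVec, ← Units.val_mul, inv_mul_cancel, Units.val_one, Matrix.one_mulVec]
          exact hw
        · rw [← (Submodule.equivMapOfInjective _ (Matrix.mulVec_injective_iff_isUnit.2
            ⟨g⁻¹ * x * g, rfl⟩) _).finrank_eq, hD.finrank_eq, hD.finrank_eq]
      refine ⟨g, hg, ?_⟩
      rcases hp with ⟨h0, h1⟩ | ⟨h0, h1⟩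
      · refine ⟨1, fun i => ?_⟩
        fin_cases i
        · exact key 0 0 _ _ hg0 hg0 h0
        · exact key 1 1 _ _ hg1 hg1 h1
      · refine ⟨Equiv.swap 0 1, fun i => ?_⟩
        fin_cases i
        · exact key 0 1 _ _ hg0 hg1 h0
        · exact key 1 0 _ _ hg1 hg0 h1
  have hpow : ∀ (M : Matrix (Fin (2 * k)) (Fin (2 * k)) F) (t : ℕ), Matrix.toLin' (M ^ t) = Matrix.toLin' M ^ t :=
    fun M t => map_pow Matrix.toLinAlgEquiv' M t
  constructor
  · intro hall
    have test : ∀ (M : Matrix (Fin (2 * k)) (Fin (2 * k)) F) (hM : IsU q M), M.det = 1 →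
        (∃ z : F, M ^ r = z • 1) → (∀ z : F, M ≠ z • 1) → Fixes q k (Matrix.toLin' M) := by
      intro M hM hd hMr hMz
      have hmem : (mkGU hq M hM).1 ∈ S := by
        refine ⟨(mkGU hq M hM).2, ?_⟩
        show Matrix.GeneralLinearGroup.det _ = 1
        ext
        rw [Matrix.GeneralLinearGroup.val_det_apply, mkGU_coe, hd, Units.val_one]
      have := (hfix _ hmem).1 (hall _ hmem (by rw [Units.val_pow_eq_pow_val, mkGU_coe]; exact hMr)
        (by rw [mkGU_coe]; exact hMz))
      rwa [mkGU_coe] at this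
    by_cases hrp : r = p
    · -- transvections
      exfalso
      obtain ⟨v, c, hv, hc, hU, hd, hTp, hz⟩ := exists_test_transv hq (n := 2 * k) (by omega) (p := p)
      obtain ⟨E₀, E₁, PE, hp⟩ := test _ hU hd ⟨1, by rw [one_smul, hrp, hTp]⟩ hz
      refine not_transv hq hv hc hk2 PE ?_
      rcases hp with ⟨h0, h1⟩ | ⟨h0, h1⟩
      · exact Or.inl ⟨fun w hw => by simpa using h0 w hw, fun w hw => by simpa using h1 w hw⟩
      · exact Or.inr fun w hw => by simpa using h0 w hw
    have hpq : p ∣ q := by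
      obtain ⟨p', f, hp', hc', hf, hq'⟩ := exists_prime_pow hq
      haveI := hc'
      rw [hq', CharP.eq F hcp hc']
      exact dvd_pow_self _ hf.ne'
    have hrq : ¬ r ∣ q := by
      obtain ⟨p', f, hp', hc', hf, hq'⟩ := exists_prime_pow hq
      haveI := hc'
      intro h
      rw [hq'] at h
      exact hrp (((Nat.prime_dvd_prime_iff_eq hr hp').1 (hr.dvd_of_dvd_pow h)).trans
        (CharP.eq F hc' hcp))
    by_cases hr2 : r = 2
    · subst hr2
      have hodd : Odd q := by
        rw [← Nat.not_even_iff_odd, even_iff_two_dvd]; exact hrq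
      refine ⟨rfl, hodd, ?_⟩
      by_contra hlt
      push Not at hlt
      haveI : Fact (Nat.Prime 2) := ⟨Nat.prime_two⟩
      set t := padicValNat 2 (2 * k) with ht
      obtain ⟨a, ha⟩ : 2 ^ (t + 1) ∣ q + 1 := (pow_dvd_pow 2 hlt).trans pow_padicValNat_dvd
      obtain ⟨l, hl⟩ : ∃ l : Fˣ, orderOf l = 2 ^ (t + 1) := by
        obtain ⟨g, hg⟩ := IsCyclic.exists_ofOrder_eq_natCard (α := Fˣ)
        rw [card_units_eq hq, ha, mul_assoc] at hg
        refine ⟨g ^ (a * (q - 1)), ?_⟩
        have hpos : 0 < a * (q - 1) := by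
          have := two_le_q hq
          rcases Nat.eq_zero_or_pos a with rfl | h
          · omega
          · exact Nat.mul_pos h (by omega)
        rw [orderOf_pow_of_dvd hpos.ne' (hg ▸ dvd_mul_left _ _), hg, Nat.mul_div_cancel _ hpos]
      have hl1 : l ^ (q + 1) = 1 := orderOf_dvd_iff_pow_eq_one.1 (hl ▸ ⟨a, ha⟩)
      have hlF : (l : F) ^ (q + 1) = 1 := by rw [← Units.val_pow_eq_pow_val, hl1, Units.val_one]
      have hl2 : (l : F) ^ 2 ^ t = -1 := by
        have h1 : ((l : F) ^ 2 ^ t) ^ 2 = 1 := by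
          rw [← pow_mul, ← pow_succ, ← hl, ← Units.val_pow_eq_pow_val, pow_orderOf_eq_one, Units.val_one]
        refine (sq_eq_one_iff.1 h1).resolve_left fun h => ?_
        have : orderOf l ∣ 2 ^ t := orderOf_dvd_of_pow_eq_one (Units.ext (by simpa using h))
        rw [hl, Nat.pow_dvd_pow_iff_le_right one_lt_two] at this
        omega
      obtain ⟨b, hb⟩ : 2 ^ t ∣ 2 * k := pow_padicValNat_dvd
      have hbo : Odd b := by
        rw [← Nat.not_even_iff_odd]
        rintro ⟨c, rfl⟩
        have h2 : 2 ^ (t + 1) ∣ 2 * k := ⟨c, by rw [hb, pow_succ]; ring⟩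
        rw [padicValNat_dvd_iff] at h2
        rcases h2 with h2 | h2 <;> omega
      have hln : (l : F) ^ (2 * k) = -1 := by rw [hb, pow_mul, hl2, hbo.neg_one_pow]
      have hnl : (-(l : F)) ^ (q + 1) = 1 := by rw [neg_pow, hodd.add_one.neg_one_pow, one_mul, hlF]
      have hne' : -(l : F) ≠ l := by
        intro h
        have h0 : (2 : F) * l = 0 := by linear_combination -h
        have h2 : ((2 : ℕ) : F) = 0 := by exact_mod_cast (mul_eq_zero.1 h0).resolve_right l.ne_zero
        rw [CharP.cast_eq_zero_iff F p] at h2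
        exact hrp ((Nat.prime_dvd_prime_iff_eq Fact.out Nat.prime_two).1 h2).symm
      obtain ⟨M, v, hU, hd, hMv, hvv, hline, hMt, hMz⟩ := exists_test_line hq (n := 2 * k) (by omega) hnl hlF hlF
        hne' hne' (by
          rw [neg_mul, neg_mul, mul_assoc, ← pow_succ', ← pow_succ', show 2 * k - 2 + 1 + 1 = 2 * k by omega, hln, neg_neg])
      have hM2 := hMt 2 (by ring) rfl
      obtain ⟨E₀, E₁, PE, hp⟩ := test M hU hd ⟨_, hM2⟩ hMz
      rcases hp with ⟨h0, h1⟩ | ⟨h0, -⟩
      · exact not_fix_line (g := Matrix.toLin' M) (v := v) (by rw [Matrix.toLin'_apply, hMv]) hvv (fun w hw => hline w (by simpa using hw)) PE h0 h1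
      · refine not_swap_line (μ := -(l : F)) (neg_ne_zero.2 l.ne_zero) (fun w => ?_) hk2
          (fun w hw => hline w (by simpa using hw)) PE h0
        rw [Matrix.toLin'_apply, Matrix.toLin'_apply, Matrix.mulVec_mulVec, ← sq, hM2, Matrix.smul_mulVec,
          Matrix.one_mulVec, neg_sq]
    · exfalso
      have hrodd : Odd r := hr.odd_of_ne_two hr2
      have hrF : (r : F) ≠ 0 := by
        rw [Ne, CharP.cast_eq_zero_iff F p, Nat.prime_dvd_prime_iff_eq Fact.out hr]
        exact fun e => hrp e.symm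
      obtain ⟨i, hi, hin, hri⟩ := exists_odd hq hrq rfl hk P₀ hΩ
      set e := orderOf (Fintype.card F : ZMod r) with he'
      have he0 : 0 < e := PrimeOrderModule84.orderOf_card_pos hrF
      rcases Nat.lt_or_ge 1 e with he1 | he1
      · have hei : e ∣ i := by
          refine orderOf_dvd_of_pow_eq_one ?_
          rw [hq, Nat.cast_pow, ← pow_mul, mul_comm, pow_mul,
            show ((q : ZMod r) ^ i) = -1 from eq_neg_of_add_eq_zero_left (by
              exact_mod_cast (ZMod.natCast_eq_zero_iff _ _).2 hri), neg_one_sq]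
        obtain ⟨M, hU, hd, hMr, hrange⟩ := exists_test_big hq hrF he' he1 hi hri
          ((Nat.le_of_dvd hi.pos hei).trans hin)
        have hz : ∀ z : F, M ≠ z • 1 := by
          intro z hz
          rw [hz, map_smul, Matrix.toLin'_one] at hrange
          by_cases h1 : z = 1
          · rw [h1, one_smul, show (LinearMap.id : Module.End F (Fin (2 * k) → F)) - 1 = 0 from sub_self _,
              LinearMap.range_zero, finrank_bot] at hrange
            omega
          · have hr' : z ^ r = 1 := by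
              have h := congrFun (congrFun hMr ⟨0, by omega⟩) ⟨0, by omega⟩
              rw [hz, _root_.smul_pow, one_pow] at h
              simpa using h
            refine h1 ?_
            have hz0 : z ≠ 0 := fun h => by simp [h, hr.ne_zero] at hr'
            have hord := Nat.dvd_gcd (orderOf_dvd_of_pow_eq_one hr')
              (orderOf_dvd_of_pow_eq_one (FiniteField.pow_card_sub_one_eq_one _ hz0))
            have hnd : ¬ r ∣ Fintype.card F - 1 := fun hdv => by
              have : (Fintype.card F : ZMod r) = 1 := by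
                rw [← pow_one (Fintype.card F : ZMod r), PrimeOrderModule84.card_pow_eq_one_iff, pow_one]
                exact hdv
              rw [this, orderOf_one] at he'
              omega
            rw [(Nat.Prime.coprime_iff_not_dvd hr).2 hnd, Nat.dvd_one, orderOf_eq_one_iff] at hord
            exact hord
        obtain ⟨E₀, E₁, PE, hp⟩ := test M hU hd ⟨1, by rw [hMr, one_smul]⟩ hz
        have hg : Matrix.toLin' M ^ r = 1 := by rw [← hpow, hMr, Matrix.toLin'_one]; rfl
        obtain ⟨h0, h1⟩ := fix_of_odd hrodd one_ne_zero (fun v => by rw [hg, one_smul]; rfl) hk PE hp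
        exact not_fix_range hq hrF (fun u v => by simpa using hU u v) hg hrange PE h0 h1
      · -- `r` divides `q + 1`
        have hq2 : (q : ZMod r) ^ 2 = 1 := by
          have := pow_orderOf_eq_one (Fintype.card F : ZMod r)
          rw [← he', show e = 1 by omega, pow_one, hq, Nat.cast_pow] at this
          exact this
        have hr1 : r ∣ q + 1 := by
          rw [← ZMod.natCast_eq_zero_iff, Nat.cast_add, Nat.cast_one]
          have h := (ZMod.natCast_eq_zero_iff _ _).2 hri
          push_cast at h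
          obtain ⟨j, rfl⟩ := hi
          rwa [pow_succ, pow_mul, hq2, one_pow, one_mul] at h
        obtain ⟨a, ha⟩ := exists_prime_orderOf_dvd_card' (G := Fˣ) r
          (card_units_eq hq ▸ hr1.mul_right _)
        have ha1 : a ^ (q + 1) = 1 := orderOf_dvd_iff_pow_eq_one.1 (ha ▸ hr1)
        have haF : (a : F) ^ (q + 1) = 1 := by rw [← Units.val_pow_eq_pow_val, ha1, Units.val_one]
        have har : (a : F) ^ r = 1 := by rw [← ha, ← Units.val_pow_eq_pow_val, pow_orderOf_eq_one, Units.val_one]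
        have hne1 : (a : F) ≠ 1 := fun h => by
          rw [show a = 1 from Units.ext h, orderOf_one] at ha
          exact hr.ne_one ha.symm
        have hne2 : (a : F) ≠ (a : F)⁻¹ := fun h => by
          have h2 : (a : F) ^ 2 = 1 := by rw [sq]; nth_rewrite 2 [h]; exact mul_inv_cancel₀ a.ne_zero
          obtain ⟨j, rfl⟩ := hrodd
          rw [pow_succ, pow_mul, h2, one_pow, one_mul] at har
          exact hne1 har
        obtain ⟨M, v, hU, hd, hMv, hvv, hline, hMt, hMz⟩ := exists_test_line hq (n := 2 * k) (by omega) haF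
          (ν := (a : F)⁻¹) (by rw [inv_pow, haF, inv_one]) (c := 1) (one_pow _) hne2 hne1
          (by rw [mul_inv_cancel₀ a.ne_zero, one_pow, one_mul])
        have hMr := hMt r (by rw [har, inv_pow, har, inv_one]) (by rw [one_pow, inv_pow, har, inv_one])
        obtain ⟨E₀, E₁, PE, hp⟩ := test M hU hd ⟨_, hMr⟩ hMz
        have hg : Matrix.toLin' M ^ r = 1 := by
          rw [← hpow, hMr, inv_pow, har, inv_one, one_smul, Matrix.toLin'_one]; rfl
        obtain ⟨h0, h1⟩ := fix_of_odd hrodd one_ne_zero (fun v => by rw [hg, one_smul]; rfl) hk PE hp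
        exact not_fix_line (g := Matrix.toLin' M) (v := v) (by rw [Matrix.toLin'_apply, hMv]) hvv (fun w hw => hline w (by simpa using hw)) PE h0 h1
  · rintro ⟨rfl, hodd, hv⟩ x hx ⟨z, hz⟩ -
    have hd := congrArg Units.val (MonoidHom.mem_ker.1 hx.2)
    rw [Matrix.GeneralLinearGroup.val_det_apply, Units.val_one] at hd
    rw [Units.val_pow_eq_pow_val, sq] at hz
    obtain ⟨E₀, E₁, PE, h0, h1⟩ := exists_pair_of_sq hq hodd rfl hk hv (M := (x : Matrix (Fin (2 * k)) (Fin (2 * k)) F))
      hx.1 hd hz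
    exact (hfix x hx).2 ⟨E₀, E₁, PE, Or.inl ⟨fun w hw => by simpa using h0 w hw, fun w hw => by simpa using h1 w hw⟩⟩

end Cfsg.Agent.S5984
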