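import Cfsg.Statements.S5985
import Cfsg.Agent.Lib.CharTwoPointFree61

set_option autoImplicit false
open scoped MatrixGroups
open Cfsg
open Cfsg.Agent.CharTwoPointFree61

namespace Cfsg.Agent.S5985

/-- Elements of prime order of Ω⁺_n(q), q even, with no fixed nonsingular 1-space. Here `T = PΩ⁺_n(F)`, `n = 2d ≥ 8`, realised through `Ω⁺_n(q)`, the commutator subgroup of the isometry group of `Q = Σ xᵢyᵢ` over the field `F` with `q` elements; an element of `T` of prime order `r` is an element `x` of `Ω⁺_n(q)` with `x^r` scalar and `x` not scalar; `q` is even (so the centre is trivial). Let Ω be the set of 1-dimensional subspaces spanned by a vector `v` with `Q(v) ≠ 0`, and let `r` be a prime dividing their number. Then every element of `T` of order `r` fixes some nonsingular 1-space if and only if `r = 2` and `n ≡ 2 (mod 4)` (that is, `d` is odd). -/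
theorem result {F : Type*} [Field F] [Fintype F] {p : ℕ} [Fact p.Prime] [CharP F p] {q : ℕ} (hq : Fintype.card F = q)
    (hp : p = 2) (d : ℕ) (hd : 4 ≤ d) (r : ℕ) [Fact r.Prime]
    (hrΩ : r ∣ Nat.card {W : Submodule F (Fin d ⊕ Fin d → F) // Module.finrank F ↥W = 1 ∧ ∃ v ∈ W, Cfsg.quadFormPlus d F v ≠ 0}) :
    (∀ x : GL (Fin d ⊕ Fin d) F, x ∈ Cfsg.Geo.omegaGL (Cfsg.quadFormPlus d F) →
      (∃ z : F, ((x ^ r : GL (Fin d ⊕ Fin d) F) : Matrix (Fin d ⊕ Fin d) (Fin d ⊕ Fin d) F) = z • (1 : Matrix (Fin d ⊕ Fin d) (Fin d ⊕ Fin d) F)) →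
      (∀ z : F, (x : Matrix (Fin d ⊕ Fin d) (Fin d ⊕ Fin d) F) ≠ z • (1 : Matrix (Fin d ⊕ Fin d) (Fin d ⊕ Fin d) F)) →
      ∃ W : Submodule F (Fin d ⊕ Fin d → F), (Module.finrank F ↥W = 1 ∧ ∃ v ∈ W, Cfsg.quadFormPlus d F v ≠ 0) ∧ W.map (Matrix.toLin' (x : Matrix (Fin d ⊕ Fin d) (Fin d ⊕ Fin d) F)) ≤ W) ↔ (r = 2 ∧ Odd d) := by
  classical
  subst hp
  haveI : CharP F 2 := inferInstance
  have hr : r.Prime := Fact.out
  have hq2 : 2 ≤ Fintype.card F := Fintype.one_lt_card
  have hrq : ∀ n : ℕ, r ≠ 2 → ¬ r ∣ Fintype.card F ^ n := by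
    intro n h2 h
    obtain ⟨e, -, he⟩ := FiniteField.card F 2
    have := hr.dvd_of_dvd_pow h
    rw [he] at this
    exact h2 ((Nat.prime_dvd_prime_iff_eq hr Nat.prime_two).1 (hr.dvd_of_dvd_pow this))
  set Q := OrthUnitaryQuad.qfPlus F d
  have hQ : ∀ v, Cfsg.quadFormPlus d F v = Q v := fun v => (OrthUnitaryQuad.qfPlus_apply F d v).symm
  have hnd := CharTwoInvolBridge.nondeg_plus (F := F) d
  have hgen := CharTwoInvolBridge.gen_plus (F := F) (m := d) (Or.inr (by omega))
  have hdim : Module.finrank F (Fin d ⊕ Fin d → F) = 2 * d := by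
    rw [Module.finrank_pi, Fintype.card_sum, Fintype.card_fin, two_mul]
  have hns : ∃ v, Q v ≠ 0 :=
    OrthUnitaryRefl.exists_map_ne_zero (OrthUnitaryOmega.isReg_of_nondegenerate hnd)
      (by rw [hdim]; omega)
  change AllFix (Cfsg.quadFormPlus d F) r ↔ _
  constructor
  · intro hall
    have hr2 : r = 2 := by
      by_contra hr2
      have hN := q_mul_points Q hQ (n := 2 * d)
        (by rw [Fintype.card_sum, Fintype.card_fin, two_mul])
        (OrthUnitaryForms.q_mul_card_zero_plus rfl d)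
      set N := Nat.card {W : Submodule F (Fin d ⊕ Fin d → F) //
        Module.finrank F ↥W = 1 ∧ ∃ v ∈ W, Cfsg.quadFormPlus d F v ≠ 0}
      have h1 : (Fintype.card F : ℤ) * N = (Fintype.card F : ℤ) ^ d *
          ((Fintype.card F : ℤ) ^ d - 1) := by
        refine mul_left_cancel₀ (sub_ne_zero.2 (show (Fintype.card F : ℤ) ≠ 1 by omega)) ?_
        rw [hN]; ring
      have h2 : Fintype.card F * N = Fintype.card F ^ d * (Fintype.card F ^ d - 1) := by
        have h3 : 1 ≤ Fintype.card F ^ d := Nat.one_le_pow _ _ (by omega)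
        zify [h3]; exact h1
      have hdvd : r ∣ Fintype.card F ^ d - 1 :=
        ((hr.dvd_mul).1 (h2 ▸ Dvd.dvd.mul_left hrΩ _)).resolve_left (hrq d hr2)
      obtain ⟨g, hg, hg1, hfix⟩ := exists_plus (F := F) (by omega : d ≠ 0) hr hdvd
      exact not_allFix Q hQ hnd hgen hns g hg hg1
        (fun v hv => by rw [hfix v hv, QuadraticMap.map_zero])
        (Or.inl (hr.odd_of_ne_two hr2)) hall
    subst hr2
    refine ⟨rfl, ?_⟩
    by_contra hodd
    obtain ⟨j, hj⟩ := Nat.not_odd_iff_even.1 hodd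
    obtain ⟨t, ht, hti⟩ := (CharTwoInvolForms.realised_plus (F := F) d (d, true)).1 (by
      simp only [CharTwoInvolCount.invSet, Finset.mem_union, Finset.mem_image, Finset.mem_Icc]
      exact Or.inr ⟨j, ⟨by omega, by omega⟩, Prod.ext (by show 2 * j = d; omega) rfl⟩)
    obtain ⟨ht2, -⟩ := (CharTwoInvolCount.orderOf_two_iff t).1 ht
    have hrk : Module.finrank F (LinearMap.range (OrthCharTwo.dif t)) = d := congrArg Prod.fst hti
    have halt : ∀ x, Q (OrthCharTwo.dif t x) = 0 := of_decide_eq_true (congrArg Prod.snd hti)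
    have hker : LinearMap.range (OrthCharTwo.dif t) = LinearMap.ker (OrthCharTwo.dif t) := by
      refine Submodule.eq_of_le_of_finrank_eq ?_ ?_
      · rintro _ ⟨x, rfl⟩
        exact (CharTwoInvolOrbit.dif_facts t ht2).1 x
      · have := LinearMap.finrank_range_add_finrank_ker (OrthCharTwo.dif t)
        omega
    refine not_allFix Q hQ hnd hgen hns t (by rw [pow_two, ht2]) (fun h => ?_) (fun v hv => ?_)
      (Or.inr ⟨rfl, by rw [hrk]; exact ⟨j, hj⟩⟩) hall
    · rw [h, orderOf_one] at ht; exact absurd ht (by decide)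
    · obtain ⟨x, hx⟩ : v ∈ LinearMap.range (OrthCharTwo.dif t) := by
        rw [hker, LinearMap.mem_ker, OrthCharTwo.dif_apply, hv, sub_self]
      rw [← hx]; exact halt x
  · rintro ⟨rfl, hodd⟩
    refine allFix_two Q hQ hnd hgen hns fun t _ hev h => ?_
    rw [hdim] at h
    rw [show Module.finrank F (LinearMap.range (OrthCharTwo.dif t)) = d by omega] at hev
    exact Nat.not_even_iff_odd.2 hodd hev

end Cfsg.Agent.S5985
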