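import Cfsg.Statements.S5986
import Cfsg.Agent.Lib.CharTwoPointFree61

set_option autoImplicit false
open scoped MatrixGroups
open Cfsg
open Cfsg.Agent.CharTwoPointFree61

namespace Cfsg.Agent.S5986

/-- Elements of prime order of Ω⁻_n(q), q even, with no fixed nonsingular 1-space. Here `T = PΩ⁻_n(F)`, `n = 2d ≥ 8`, realised through `Ω⁻_n(q)`, the commutator subgroup of the isometry group of `Q = Σ_{i<d−1} xᵢyᵢ + z₁² + a z₁z₂ + b z₂²` with `z₁² + a z₁z₂ + b z₂²` anisotropic, over the field `F` with `q` elements; an element of `T` of prime order `r` is an element `x` of `Ω⁻_n(q)` with `x^r` scalar and `x` not scalar; `q` is even (so the centre is trivial). Let Ω be the set of 1-dimensional subspaces spanned by a vector `v` with `Q(v) ≠ 0`, and let `r` be a prime dividing their number. Then every element of `T` of order `r` fixes some nonsingular 1-space if and only if `r = 2`. -/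
theorem result {F : Type*} [Field F] [Fintype F] {p : ℕ} [Fact p.Prime] [CharP F p] {q : ℕ} (hq : Fintype.card F = q)
    (hp : p = 2) (d : ℕ) (hd : 4 ≤ d) (a b : F) (hab : ∀ x y : F, x ^ 2 + a * x * y + b * y ^ 2 = 0 → x = 0 ∧ y = 0) (r : ℕ) [Fact r.Prime]
    (hrΩ : r ∣ Nat.card {W : Submodule F ((Fin (d - 1) ⊕ Fin (d - 1)) ⊕ Fin 2 → F) // Module.finrank F ↥W = 1 ∧ ∃ v ∈ W, Cfsg.quadFormMinus (d - 1) F a b v ≠ 0}) :
    (∀ x : GL ((Fin (d - 1) ⊕ Fin (d - 1)) ⊕ Fin 2) F, x ∈ Cfsg.Geo.omegaGL (Cfsg.quadFormMinus (d - 1) F a b) →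
      (∃ z : F, ((x ^ r : GL ((Fin (d - 1) ⊕ Fin (d - 1)) ⊕ Fin 2) F) : Matrix ((Fin (d - 1) ⊕ Fin (d - 1)) ⊕ Fin 2) ((Fin (d - 1) ⊕ Fin (d - 1)) ⊕ Fin 2) F) = z • (1 : Matrix ((Fin (d - 1) ⊕ Fin (d - 1)) ⊕ Fin 2) ((Fin (d - 1) ⊕ Fin (d - 1)) ⊕ Fin 2) F)) →
      (∀ z : F, (x : Matrix ((Fin (d - 1) ⊕ Fin (d - 1)) ⊕ Fin 2) ((Fin (d - 1) ⊕ Fin (d - 1)) ⊕ Fin 2) F) ≠ z • (1 : Matrix ((Fin (d - 1) ⊕ Fin (d - 1)) ⊕ Fin 2) ((Fin (d - 1) ⊕ Fin (d - 1)) ⊕ Fin 2) F)) →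
      ∃ W : Submodule F ((Fin (d - 1) ⊕ Fin (d - 1)) ⊕ Fin 2 → F), (Module.finrank F ↥W = 1 ∧ ∃ v ∈ W, Cfsg.quadFormMinus (d - 1) F a b v ≠ 0) ∧ W.map (Matrix.toLin' (x : Matrix ((Fin (d - 1) ⊕ Fin (d - 1)) ⊕ Fin 2) ((Fin (d - 1) ⊕ Fin (d - 1)) ⊕ Fin 2) F)) ≤ W) ↔ r = 2 := by
  classical
  subst hp
  haveI : CharP F 2 := inferInstance
  have hr : r.Prime := Fact.out
  have hq2 : 2 ≤ Fintype.card F := Fintype.one_lt_card
  have hrq : ∀ n : ℕ, r ≠ 2 → ¬ r ∣ Fintype.card F ^ n := by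
    intro n h2 h
    obtain ⟨e, -, he⟩ := FiniteField.card F 2
    have := hr.dvd_of_dvd_pow h
    rw [he] at this
    exact h2 ((Nat.prime_dvd_prime_iff_eq hr Nat.prime_two).1 (hr.dvd_of_dvd_pow this))
  obtain ⟨k, rfl⟩ : ∃ k, d = k + 1 := ⟨d - 1, by omega⟩
  set Q := CharTwoInvolForms.qfMinus k a b
  have hQ : ∀ v : (Fin k ⊕ Fin k) ⊕ Fin 2 → F, Cfsg.quadFormMinus k F a b v = Q v :=
    fun v => (CharTwoInvolForms.qfMinus_apply v).symm
  have hnd := CharTwoInvolForms.nondeg_minus (k := k) hab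
  have hgen := CharTwoInvolForms.gen_minus (k := k) hab
  have hdim := CharTwoInvolForms.finrank_minus (F := F) (k := k)
  have hns : ∃ v, Q v ≠ 0 :=
    OrthUnitaryRefl.exists_map_ne_zero (OrthUnitaryOmega.isReg_of_nondegenerate hnd)
      (by rw [hdim]; omega)
  change AllFix (Cfsg.quadFormMinus k F a b) r ↔ _
  constructor
  · intro hall
    by_contra hr2
    have hN := q_mul_points Q hQ (n := 2 * (k + 1))
      (by simp only [Fintype.card_sum, Fintype.card_fin]; omega)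
      (OrthUnitaryForms.q_mul_card_zero_minus rfl hab k)
    set N := Nat.card {W : Submodule F ((Fin k ⊕ Fin k) ⊕ Fin 2 → F) //
      Module.finrank F ↥W = 1 ∧ ∃ v ∈ W, Cfsg.quadFormMinus k F a b v ≠ 0} with hNdef
    have h1 : (Fintype.card F : ℤ) * N = (Fintype.card F : ℤ) ^ (k + 1) *
        ((Fintype.card F : ℤ) ^ (k + 1) + 1) := by
      refine mul_left_cancel₀ (sub_ne_zero.2 (show (Fintype.card F : ℤ) ≠ 1 by omega)) ?_
      rw [hN]; ring
    have h2 : Fintype.card F * N = Fintype.card F ^ (k + 1) * (Fintype.card F ^ (k + 1) + 1) := by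
      exact_mod_cast h1
    have hdvd : r ∣ Fintype.card F ^ (k + 1) + 1 :=
      ((hr.dvd_mul).1 (h2 ▸ Dvd.dvd.mul_left hrΩ _)).resolve_left (hrq (k + 1) hr2)
    obtain ⟨g, hg, hg1, hfix⟩ := exists_minus (k := k) hab hr hdvd
    exact not_allFix Q hQ hnd hgen hns g hg hg1
      (fun v hv => by rw [hfix v hv, QuadraticMap.map_zero])
      (Or.inl (hr.odd_of_ne_two hr2)) hall
  · rintro rfl
    refine allFix_two Q hQ hnd hgen hns fun t _ _ h => ?_
    rw [hdim] at h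
    refine CharTwoInvolForms.finrank_le_of_singular hab (LinearMap.range (OrthCharTwo.dif t)) ?_
      (by omega)
    rintro _ ⟨x, rfl⟩
    exact h.2 x

end Cfsg.Agent.S5986
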