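import Cfsg.Statements.S5987
import Cfsg.Agent.Lib.OrthTSBridge97
import Cfsg.Agent.Lib.OrthTSCountP97
import Cfsg.Agent.Lib.OrthTSTwoIff97
import Cfsg.Agent.Lib.OrthTSArith97

set_option autoImplicit false
open scoped MatrixGroups
open Cfsg

namespace Cfsg.Agent.S5987

/-- Elements of prime order of PΩ⁻_n(q) with no fixed totally singular `m`-space. Here `T = PΩ⁻_n(F)`, `n = 2d ≥ 8`, realised through `Ω⁻_n(q)`, the commutator subgroup of the isometry group of `Q = Σ_{i<d−1} xᵢyᵢ + z₁² + a z₁z₂ + b z₂²` with `z₁² + a z₁z₂ + b z₂²` anisotropic, over the field `F` with `q` elements; an element of `T` of prime order `r` is an element `x` of `Ω⁻_n(q)` with `x^r` scalar and `x` not scalar. Let `1 ≤ m ≤ d − 1` and let `r` be a prime dividing the number of totally singular `m`-spaces (subspaces of dimension `m` on which `Q` vanishes); for `r ≠ p` let `i` be the multiplicative order of `q` modulo `r`, `c = i` for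 `i` even and `c = 2i` for `i` odd, and write `k = n mod c`, `ℓ = m mod i`, `n' = ⌊n/i⌋`, `m' = ⌊m/i⌋`, `t = (r−1)/i`. Then every element of `T` of order `r` fixes some totally singular `m`-space if and only if one of: (i) `r = 2 ≠ p` and (`n ≡ 0 (mod 4)`, or `m` is even, or `q ≢ 7 (mod 8)`); (ii) `r ≠ p` odd, `i` odd, `i ≤ m` and (`k = 0` or `k > 2ℓ`); (iii) `r ≠ p` odd, `i` even, `i ≤ m`, `n' − 2m' ≥ t`, and one of: (a) `i ≥ 2ℓ`, `k = 0`, `n/i` even and `n' − 2m' > t` (all four); (b) `k ≥ 2ℓ` and `n'` odd; (c) `k > 2ℓ` and `n'` even. -/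
theorem result {F : Type*} [Field F] [Fintype F] {p : ℕ} [Fact p.Prime] [CharP F p] {q : ℕ} (hq : Fintype.card F = q)
    (d m : ℕ) (hd : 4 ≤ d) (hm : 1 ≤ m) (hmd : m + 1 ≤ d) (a b : F) (hab : ∀ x y : F, x ^ 2 + a * x * y + b * y ^ 2 = 0 → x = 0 ∧ y = 0)
    (r : ℕ) [Fact r.Prime]
    (hrΩ : r ∣ Nat.card {W : Submodule F ((Fin (d - 1) ⊕ Fin (d - 1)) ⊕ Fin 2 → F) // Module.finrank F ↥W = m ∧ Cfsg.Geo.IsTotallySingularQuad (Cfsg.quadFormMinus (d - 1) F a b) W})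
    (i c : ℕ) (hi : i = orderOf (q : ZMod r)) (hc : c = if Even i then i else 2 * i) :
    (∀ x : GL ((Fin (d - 1) ⊕ Fin (d - 1)) ⊕ Fin 2) F, x ∈ Cfsg.Geo.omegaGL (Cfsg.quadFormMinus (d - 1) F a b) →
      (∃ z : F, ((x ^ r : GL ((Fin (d - 1) ⊕ Fin (d - 1)) ⊕ Fin 2) F) : Matrix ((Fin (d - 1) ⊕ Fin (d - 1)) ⊕ Fin 2) ((Fin (d - 1) ⊕ Fin (d - 1)) ⊕ Fin 2) F) = z • (1 : Matrix ((Fin (d - 1) ⊕ Fin (d - 1)) ⊕ Fin 2) ((Fin (d - 1) ⊕ Fin (d - 1)) ⊕ Fin 2) F)) →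
      (∀ z : F, (x : Matrix ((Fin (d - 1) ⊕ Fin (d - 1)) ⊕ Fin 2) ((Fin (d - 1) ⊕ Fin (d - 1)) ⊕ Fin 2) F) ≠ z • (1 : Matrix ((Fin (d - 1) ⊕ Fin (d - 1)) ⊕ Fin 2) ((Fin (d - 1) ⊕ Fin (d - 1)) ⊕ Fin 2) F)) →
      ∃ W : Submodule F ((Fin (d - 1) ⊕ Fin (d - 1)) ⊕ Fin 2 → F), (Module.finrank F ↥W = m ∧ Cfsg.Geo.IsTotallySingularQuad (Cfsg.quadFormMinus (d - 1) F a b) W) ∧ W.map (Matrix.toLin' (x : Matrix ((Fin (d - 1) ⊕ Fin (d - 1)) ⊕ Fin 2) ((Fin (d - 1) ⊕ Fin (d - 1)) ⊕ Fin 2) F)) ≤ W) ↔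
    ((r = 2 ∧ p ≠ 2 ∧ (Even d ∨ Even m ∨ q % 8 ≠ 7)) ∨
     (r ≠ p ∧ 2 < r ∧ Odd i ∧ i ≤ m ∧ ((2 * d) % c = 0 ∨ 2 * (m % i) < (2 * d) % c)) ∨
     (r ≠ p ∧ 2 < r ∧ Even i ∧ i ≤ m ∧ (r - 1) / i + 2 * (m / i) ≤ (2 * d) / i ∧
       ((2 * (m % i) ≤ i ∧ (2 * d) % c = 0 ∧ Even ((2 * d) / i) ∧ (r - 1) / i + 2 * (m / i) < (2 * d) / i) ∨
        (2 * (m % i) ≤ (2 * d) % c ∧ Odd ((2 * d) / i)) ∨
        (2 * (m % i) < (2 * d) % c ∧ Even ((2 * d) / i))))) := by
  subst hq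
  rw [← QuadClassify.qMinus_coe] at hrΩ ⊢
  simp only [Cfsg.Geo.IsTotallySingularQuad, and_assoc] at hrΩ ⊢
  set Q := QuadClassify.qMinus (d - 1) F a b
  have hQ : (QuadraticMap.polarBilin Q).Nondegenerate := OrthPrimeOrderClasses73.nd_minus _ hab
  have hn : Module.finrank F ((Fin (d - 1) ⊕ Fin (d - 1)) ⊕ Fin 2 → F) = 2 * d := by simp; omega
  obtain ⟨κ, hκ⟩ := OrthTSKind97.exists_ty hQ
  obtain rfl : κ = 2 := by
    have hm := hκ.mod_two
    have := hκ.le_two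
    obtain ⟨N, hN⟩ := hκ.prof hQ (by omega)
    obtain ⟨M, hM⟩ := OrthTypeCount73.prof_qMinus (d - 1) hab
    have h := hN.unique (hM.map (g := ⇑Q) (Equiv.refl _) fun v => by
      rw [QuadClassify.qMinus_coe]; rfl)
    by_contra hc
    rw [OrthTSKind97.sgn, if_neg hc, one_mul] at h
    have h1 := OrthTSKind97.card_pow_pos (F := F) (Module.finrank F ((Fin (d - 1) ⊕ Fin (d - 1)) ⊕ Fin 2 → F) / 2)
    have h2 := OrthTSKind97.card_pow_pos (F := F) (d - 1 + 1)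
    omega
  have hne : Nonempty ((Fin (d - 1) ⊕ Fin (d - 1)) ⊕ Fin 2) := ⟨Sum.inr 0⟩
  have hexc : Fintype.card F ≠ 2 ∨ Module.finrank F ((Fin (d - 1) ⊕ Fin (d - 1)) ⊕ Fin 2 → F) ≠ 4 := Or.inr (by omega)
  have hr := (Fact.out : r.Prime)
  have hrp : r ≠ p := fun h => by
    subst h
    exact OrthTSCountP97.not_dvd hQ hκ (m := m) (by omega) (by omega) hrΩ
  rcases eq_or_ne r 2 with rfl | hr2
  · have hp2 : (2 : F) ≠ 0 := by
      intro h
      have h' : ((2 : ℕ) : F) = 0 := by exact_mod_cast h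
      rw [CharP.cast_eq_zero_iff F p, Nat.prime_dvd_prime_iff_eq Fact.out Nat.prime_two] at h'
      exact hrp h'.symm
    have hq2 : Fintype.card F % 2 = 1 := QuadClassify.card_odd hp2
    rw [OrthTSTwoIff97.bridge_scalar_two,
      (OrthTSTwoIff97.even_iff hQ hexc hp2 hn (by omega) hκ (by omega)).2 rfl]
    have hsq : Odd d → (IsSquare ((2 : F) ^ d) ↔ IsSquare (2 : F)) := fun ⟨e, he⟩ => by
      subst he
      rw [pow_succ, pow_mul']
      constructor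
      · rintro ⟨s, hs⟩
        exact ⟨s / 2 ^ e, by field_simp; linear_combination hs⟩
      · rintro ⟨s, hs⟩
        exact ⟨2 ^ e * s, by rw [hs]; ring⟩
    rw [Nat.even_iff, Nat.even_iff, FiniteField.isSquare_neg_one_iff]
    by_cases hdo : Odd d
    · rw [hsq hdo, FiniteField.isSquare_two_iff]
      rw [Nat.odd_iff] at hdo
      constructor
      · intro h; exact Or.inl ⟨rfl, fun e => hrp e.symm, by omega⟩
      · rintro (⟨-, -, h⟩ | h | h) <;> omega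
    · rw [Nat.not_odd_iff_even, Nat.even_iff] at hdo
      exact iff_of_true (Or.inl hdo) (Or.inl ⟨rfl, fun e => hrp e.symm, Or.inl hdo⟩)
  have hrF : (r : F) ≠ 0 := by
    rw [Ne, CharP.cast_eq_zero_iff F p, Nat.prime_dvd_prime_iff_eq Fact.out hr]
    exact hrp.symm
  have hr3 : 2 < r := lt_of_le_of_ne hr.two_le hr2.symm
  have hi0 : 0 < i := hi ▸ PrimeOrderModule84.orderOf_card_pos hrF
  have ht : (r - 1) / i * i = r - 1 := Nat.div_mul_cancel (hi ▸ ZMod.orderOf_dvd_card_sub_one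
    (PrimeOrderModule84.natCast_card_ne_zero hrF))
  have hb := OrthTSSplit97.bet_pos hi0
  have htb := OrthTSSplit97.two_bet i
  simp only [hr2, hrp, hr3, ne_eq, not_false_eq_true, true_and, false_and, false_or]
  rw [OrthTSBridge97.bridge_scalar hQ hexc hr hr2]
  rcases Nat.even_or_odd i with he | ho
  · rw [if_pos he] at hc
    subst c
    obtain ⟨K₀, hV, hmax, hw⟩ := OrthTSArith97.max_even (d := d) (κ := 2) he hb (by omega) (by omega)
    rw [OrthTSIff97.allFix_iff (p := p) hrp hQ hrF hr2 hi ht hκ (by omega) (K₀ := K₀) (hn ▸ hV)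
      (fun K h => hmax K (hn ▸ h)) hrΩ, hn]
    have hb2 := htb.1 he
    have hdm := Nat.div_add_mod d (OrthTSSplit97.bet i)
    have hlt := Nat.mod_lt d hb
    obtain ⟨h1, h2⟩ := OrthTSArith97.divmod (n := 2 * d) (c := i) (a := d / OrthTSSplit97.bet i)
      (b := 2 * (d % OrthTSSplit97.bet i)) (by
        conv_rhs => arg 1; arg 1; rw [← hb2]
        rw [mul_assoc]; omega) (by omega)
    rw [h1, h2]
    simp only [he, Nat.not_odd_iff_even.2 he, forall_const, false_and, false_or, true_and]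
    simp only [Nat.even_iff, Nat.odd_iff]
    constructor
    · rintro ⟨ha, h3, h4⟩; exact ⟨ha, by omega, by omega⟩
    · rintro ⟨ha, h3, h4⟩; exact ⟨ha, by omega, by omega⟩
  · rw [if_neg (Nat.not_even_iff_odd.2 ho)] at hc
    have hb2 := htb.2 ho
    have hk : ∀ K, OrthTSSplit97.kap i 2 K = 2 := fun K => by
      unfold OrthTSSplit97.kap; rw [if_neg (fun h => Nat.not_even_iff_odd.2 ho h.1)]
    have hdm' := Nat.div_add_mod (d - 1) i
    have hlt' := Nat.mod_lt (d - 1) hi0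
    have hmax : ∀ K, OrthTSSplit97.Valid i (Module.finrank F ((Fin (d - 1) ⊕ Fin (d - 1)) ⊕ Fin 2 → F)) 2 K → K ≤ (d - 1) / i := fun K hV => by
      unfold OrthTSSplit97.Valid at hV
      rw [hk, hb2, hn] at hV
      rw [Nat.le_div_iff_mul_le hi0, mul_comm]
      omega
    rw [OrthTSIff97.allFix_iff (p := p) hrp hQ hrF hr2 hi ht hκ (by omega) (K₀ := (d - 1) / i) (by
      unfold OrthTSSplit97.Valid
      rw [hk, hb2, hn]
      omega) hmax hrΩ]
    unfold OrthTSSplit97.wit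
    rw [hk, hb2, hn, Nat.mul_div_cancel_left d two_pos]
    have hdm := Nat.div_add_mod d i
    have hlt := Nat.mod_lt d hi0
    obtain ⟨-, h2⟩ := OrthTSArith97.divmod (n := 2 * d) (c := c) (a := d / i)
      (b := 2 * (d % i)) (by rw [hc, mul_assoc]; omega) (by omega)
    rw [h2]
    have hml := Nat.mod_lt m hi0
    have hrel : (d % i = 0 ∧ (d - 1) % i = i - 1) ∨ (0 < d % i ∧ (d - 1) % i = d % i - 1) := by
      rcases Nat.eq_zero_or_pos (d % i) with h | h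
      · obtain ⟨K, hK⟩ : ∃ K, d / i = K + 1 := by
          refine ⟨d / i - 1, ?_⟩
          rcases Nat.eq_zero_or_pos (d / i) with h' | h'
          · rw [h', mul_zero] at hdm; omega
          · omega
        rw [hK, Nat.mul_add, Nat.mul_one] at hdm
        exact Or.inl ⟨h, (OrthTSArith97.divmod (a := K) (b := i - 1) (by omega) (by omega)).2⟩
      · exact Or.inr ⟨h, (OrthTSArith97.divmod (a := d / i) (b := d % i - 1) (by omega) (by omega)).2⟩
    simp only [ho, Nat.not_even_iff_odd.2 ho, IsEmpty.forall_iff, false_and, or_false, true_and]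
    constructor
    · rintro ⟨ha, h4⟩; exact ⟨ha, by omega⟩
    · rintro ⟨ha, h4⟩; exact ⟨ha, by omega⟩

end Cfsg.Agent.S5987
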