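import Cfsg.Statements.S5988
import Cfsg.Agent.Lib.OrthDerangeEven61

set_option autoImplicit false
open scoped MatrixGroups
open Cfsg
open Module
open Cfsg.Agent.OrthBlocks61 Cfsg.Agent.OrthIsoClasses61 Cfsg.Agent.OrthSubspaceFix61
open Cfsg.Agent.OrthDerangeBase61 Cfsg.Agent.OrthDerangeGlue61 Cfsg.Agent.OrthDerangeEven61

namespace Cfsg.Agent.S5988

/-- Elements of prime order of PΩ⁺_n(q) with no fixed elliptic `m`-space. Here `T = PΩ⁺_n(F)`, `n = 2d ≥ 8`, realised through `Ω⁺_n(q)`, the commutator subgroup of the isometry group of `Q = Σ xᵢyᵢ` over the field `F` with `q` elements; an element of `T` of prime order `r` is an element `x` of `Ω⁺_n(q)` with `x^r` scalar and `x` not scalar; a nondegenerate `m`-space (even `m`) is a subspace on which the polar form of `Q` is nondegenerate; it is hyperbolic if it contains an `m/2`-dimensional subspace on which `Q` vanishes, elliptic otherwise. Let `m` be even with `2 ≤ m < n/2`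 and let `r` be a prime dividing the number of elliptic `m`-spaces; for `r ≠ p` let `i` be the multiplicative order of `q` modulo `r`, `c = i` for `i` even and `c = 2i` for `i` odd, and write `k = n mod c`, `ℓ = m mod i`, `ℓ' = m mod c`, `n' = ⌊n/i⌋`, `m' = ⌊m/i⌋`, `t = (r−1)/i`. Then every element of `T` of order `r` fixes some elliptic `m`-space if and only if one of: (i) `r = 2 ≠ p` and either `n ≡ 0 (mod 4)`, `q ≡ 3 (mod 4)` and `m ≡ 2 (mod 4)`, or `n ≡ 2 (mod 4)` and `q ≢ 1 (mod 8)`; (ii) `r ≠ p` odd, `i` odd, `c ≤ m` and `k > ℓ' > 0`; (iii) `r ≠ p` odd, `i` even, and either `k = 0` and (`n/i` odd, or `ℓ' = 0` and `m/i` odd), or `i ≤ m` and (`k > ℓ' > 0`, or `k = ℓ' > 0` and `(n + m − 2k)/i` odd, or `k > ℓ' = 0` and `m/i` odd). (For `r = p` there is always an element of order `p` fixing no elliptic `m`-space.) -/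
theorem result {F : Type*} [Field F] [Fintype F] {p : ℕ} [Fact p.Prime] [CharP F p] {q : ℕ} (hq : Fintype.card F = q)
    (d m : ℕ) (hd : 4 ≤ d) (hm : 2 ≤ m) (hme : Even m) (hmd : m < d)
    (r : ℕ) [Fact r.Prime]
    (hrΩ : r ∣ Nat.card {W : Submodule F (Fin d ⊕ Fin d → F) // Module.finrank F ↥W = m ∧ Cfsg.Geo.IsNondegenerateOn (QuadraticMap.polar (Cfsg.quadFormPlus d F)) W ∧ ¬ Cfsg.Geo.IsPlusTypeOn (Cfsg.quadFormPlus d F) W})
    (i c : ℕ) (hi : i = orderOf (q : ZMod r)) (hc : c = if Even i then i else 2 * i) :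
    (∀ x : GL (Fin d ⊕ Fin d) F, x ∈ Cfsg.Geo.omegaGL (Cfsg.quadFormPlus d F) →
      (∃ z : F, ((x ^ r : GL (Fin d ⊕ Fin d) F) : Matrix (Fin d ⊕ Fin d) (Fin d ⊕ Fin d) F) = z • (1 : Matrix (Fin d ⊕ Fin d) (Fin d ⊕ Fin d) F)) →
      (∀ z : F, (x : Matrix (Fin d ⊕ Fin d) (Fin d ⊕ Fin d) F) ≠ z • (1 : Matrix (Fin d ⊕ Fin d) (Fin d ⊕ Fin d) F)) →
      ∃ W : Submodule F (Fin d ⊕ Fin d → F), (Module.finrank F ↥W = m ∧ Cfsg.Geo.IsNondegenerateOn (QuadraticMap.polar (Cfsg.quadFormPlus d F)) W ∧ ¬ Cfsg.Geo.IsPlusTypeOn (Cfsg.quadFormPlus d F) W) ∧ W.map (Matrix.toLin' (x : Matrix (Fin d ⊕ Fin d) (Fin d ⊕ Fin d) F)) ≤ W) ↔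
    ((r = 2 ∧ p ≠ 2 ∧ ((Even d ∧ q % 4 = 3 ∧ m % 4 = 2) ∨ (Odd d ∧ q % 8 ≠ 1))) ∨
     (r ≠ p ∧ 2 < r ∧ Odd i ∧ c ≤ m ∧ 0 < m % c ∧ m % c < (2 * d) % c) ∨
     (r ≠ p ∧ 2 < r ∧ Even i ∧
       (((2 * d) % c = 0 ∧ (Odd ((2 * d) / i) ∨ (m % c = 0 ∧ Odd (m / i)))) ∨
        (i ≤ m ∧ ((0 < m % c ∧ m % c < (2 * d) % c) ∨
                  (0 < m % c ∧ m % c = (2 * d) % c ∧ Odd ((2 * d + m - 2 * ((2 * d) % c)) / i)) ∨
                  (m % c = 0 ∧ 0 < (2 * d) % c ∧ Odd (m / i))))))) := by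
  classical
  subst hq
  have hf : Cfsg.quadFormPlus d F = ⇑(QuadClassify.qPlus d F) := (QuadClassify.qPlus_coe d).symm
  have hQ : (QuadraticMap.polarBilin (QuadClassify.qPlus d F)).Nondegenerate := OmegaStd.nondeg_plus
  have hn : finrank F (Fin d ⊕ Fin d → F) = 2 * d := OmegaStd.finrank_plus
  have htop := plus_top_plus (F := F) d
  haveI : Nonempty (Fin d ⊕ Fin d) := ⟨Sum.inl ⟨0, by omega⟩⟩
  have hexc : Fintype.card F ≠ 2 ∨ finrank F (Fin d ⊕ Fin d → F) ≠ 4 := Or.inr (by omega)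
  obtain ⟨h, rfl⟩ : ∃ h, m = 2 * h := by obtain ⟨h, rfl⟩ := hme; exact ⟨h, by omega⟩
  obtain ⟨T, hT, hTd, hTp⟩ := (exists_types hQ (h := h) (by omega) (by omega)).2
  have hP := class_minus hf (m := 2 * h) rfl hT hTd hTp
  have hmT : 1 ≤ finrank F T := by omega
  have hmnT : finrank F T < finrank F (Fin d ⊕ Fin d → F) := by omega
  by_cases hrp : r = p
  · subst hrp
    refine iff_of_false ?_ (by rintro (⟨h, h', -⟩ | h | h); exacts [h' h, h.1 rfl, h.1 rfl])
    obtain ⟨g, hu, hg1, hgg, hU, hall⟩ :=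
      OrthUnipDerange61.exists_plus_only_even hQ hn (by omega) htop
    exact (OrthUnipDerange61.not_allProj hQ hf hexc hP hu hg1 (Or.inr ⟨hgg, hU⟩) fun ⟨W, hW, hWg, hWT⟩ =>
      hTp (hWT.plus (hall W hW hWg (hWT.finrank_eq ▸ hTd ▸ even_two_mul h)))).1
  by_cases hr2 : r = 2
  · subst hr2
    have hodd := card_odd (F := F) (p := p) (Ne.symm hrp)
    have hmod : Fintype.card F % 2 = 1 := Nat.odd_iff.1 hodd
    refine (allProj_two_iff (odd_card_two_ne hodd) hQ hf hn (by omega) hexc hT hmT hmnT hP).trans ?_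
    rw [hTd]
    simp only [htop, hTp, par_iff hmod, isSquare_two_pow_iff hmod, true_iff, false_iff, Nat.even_iff,
      Nat.odd_iff, ne_eq, Ne.symm hrp, lt_irrefl, false_and, and_false, or_false, not_false_eq_true,
      true_and]
    omega
  have h2r : 2 < r := lt_of_le_of_ne (Fact.out : r.Prime).two_le (Ne.symm hr2)
  have hr : (r : F) ≠ 0 := fun e => hrp ((Nat.prime_dvd_prime_iff_eq (Fact.out : p.Prime) Fact.out).1
    ((CharP.cast_eq_zero_iff F p r).1 e)).symm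
  have hc' : blockDim F r = c := by subst hi; subst hc; rfl
  obtain ⟨hiff, hcm⟩ := allFix_cond hQ hr2 hr hT (Or.inr (hTd ▸ even_two_mul h)) hmT hmnT hP hrΩ
  refine ((allProj_iff hQ hf hexc hr2 hr hP).trans hiff).trans ?_
  rw [cond_even hQ hr hr2 hi hc'.symm hn hT hTd] at hcm ⊢
  rw [hc', hTd] at hcm
  have hcpos : 0 < c := hc' ▸ blockDim_pos hr
  rcases Nat.even_or_odd i with he | ho
  · obtain rfl : c = i := by rw [hc, if_pos he]
    obtain ⟨d1, d2, d3, d4⟩ := div_facts hcpos (show 2 * h ≤ 2 * d by omega)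
    simp only [FreeDim, htop, hTp, he, h2r, hrp, hr2, ne_eq, not_false_eq_true, true_and, false_and,
      and_false, or_false, false_or, iff_true, iff_false, Nat.not_odd_iff_even, Nat.not_even_iff_odd,
      d1] at hcm ⊢
    simp only [Nat.even_iff, Nat.odd_iff] at hcm ⊢ he
    omega
  · have hne : ¬ Even i := Nat.not_even_iff_odd.2 ho
    simp only [FreeDim, htop, hTp, ho, hne, h2r, hrp, hr2, ne_eq, not_false_eq_true, true_and, false_and,
      and_false, and_true, or_false, false_or, iff_true, iff_false] at hcm ⊢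
    omega

end Cfsg.Agent.S5988
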