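import Cfsg.Statements.S5989
import Cfsg.Agent.Lib.OrthDerangeEven61

set_option autoImplicit false
open scoped MatrixGroups
open Cfsg
open Module
open Cfsg.Agent.OrthBlocks61 Cfsg.Agent.OrthIsoClasses61 Cfsg.Agent.OrthSubspaceFix61
open Cfsg.Agent.OrthDerangeBase61 Cfsg.Agent.OrthDerangeGlue61 Cfsg.Agent.OrthDerangeEven61

namespace Cfsg.Agent.S5989

/-- Elements of prime order of PΩ⁺_n(q), q odd, with no fixed nondegenerate `m`-space of odd dimension. Here `T = PΩ⁺_n(F)`, `n = 2d ≥ 8`, realised through `Ω⁺_n(q)`, the commutator subgroup of the isometry group of `Q = Σ xᵢyᵢ` over the field `F` with `q` elements; an element of `T` of prime order `r` is an element `x` of `Ω⁺_n(q)` with `x^r` scalar and `x` not scalar; `q` and `m` are odd, `1 ≤ m < n/2`. The nondegenerate `m`-spaces (subspaces on which the polar form is nondegenerate) fall into two isometry classes, each an orbit of `T`, and the two actions are equivalent; fix one such space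 `W₀` and let Ω be the set of nondegenerate `m`-spaces isometric to `W₀` (some linear isomorphism preserves `Q`). Let `r` be a prime dividing the size of Ω; for `r ≠ p` let `i` be the multiplicative order of `q` modulo `r`, `c = i` for `i` even and `c = 2i` for `i` odd, and write `k = n mod c`, `ℓ = m mod i`, `ℓ' = m mod c`, `n' = ⌊n/i⌋`, `m' = ⌊m/i⌋`, `t = (r−1)/i`. Then every element of `T` of order `r` fixes a member of Ω if and only if one of: (i) `r = 2`, `n ≡ 2 (mod 4)` and `q ≢ 1 (mod 8)`; (ii) `r ≠ p` odd, `i` odd, `c ≤ m` and `k > ℓ' > 0`; (iii) `r ≠ p` odd, `i` even, and either `k = 0` and `n/i` odd, or `i ≤ m` and `k > ℓ' > 0`. (For `r = p` there is always an element of order `p` fixing no member of Ω.) -/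
theorem result {F : Type*} [Field F] [Fintype F] {p : ℕ} [Fact p.Prime] [CharP F p] {q : ℕ} (hq : Fintype.card F = q)
    (hodd : Odd q) (d m : ℕ) (hd : 4 ≤ d) (hm : Odd m) (hmd : m < d)
    (W₀ : Submodule F (Fin d ⊕ Fin d → F)) (hW₀ : Module.finrank F ↥W₀ = m ∧ Cfsg.Geo.IsNondegenerateOn (QuadraticMap.polar (Cfsg.quadFormPlus d F)) W₀)
    (r : ℕ) [Fact r.Prime]
    (hrΩ : r ∣ Nat.card {W : Submodule F (Fin d ⊕ Fin d → F) // Module.finrank F ↥W = m ∧ Cfsg.Geo.IsNondegenerateOn (QuadraticMap.polar (Cfsg.quadFormPlus d F)) W ∧ Cfsg.Geo.AreIsometricFor (Cfsg.quadFormPlus d F) W W₀})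
    (i c : ℕ) (hi : i = orderOf (q : ZMod r)) (hc : c = if Even i then i else 2 * i) :
    (∀ x : GL (Fin d ⊕ Fin d) F, x ∈ Cfsg.Geo.omegaGL (Cfsg.quadFormPlus d F) →
      (∃ z : F, ((x ^ r : GL (Fin d ⊕ Fin d) F) : Matrix (Fin d ⊕ Fin d) (Fin d ⊕ Fin d) F) = z • (1 : Matrix (Fin d ⊕ Fin d) (Fin d ⊕ Fin d) F)) →
      (∀ z : F, (x : Matrix (Fin d ⊕ Fin d) (Fin d ⊕ Fin d) F) ≠ z • (1 : Matrix (Fin d ⊕ Fin d) (Fin d ⊕ Fin d) F)) →
      ∃ W : Submodule F (Fin d ⊕ Fin d → F), (Module.finrank F ↥W = m ∧ Cfsg.Geo.IsNondegenerateOn (QuadraticMap.polar (Cfsg.quadFormPlus d F)) W ∧ Cfsg.Geo.AreIsometricFor (Cfsg.quadFormPlus d F) W W₀) ∧ W.map (Matrix.toLin' (x : Matrix (Fin d ⊕ Fin d) (Fin d ⊕ Fin d) F)) ≤ W) ↔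
    ((r = 2 ∧ Odd d ∧ q % 8 ≠ 1) ∨
     (r ≠ p ∧ 2 < r ∧ Odd i ∧ c ≤ m ∧ 0 < m % c ∧ m % c < (2 * d) % c) ∨
     (r ≠ p ∧ 2 < r ∧ Even i ∧ (((2 * d) % c = 0 ∧ Odd ((2 * d) / i)) ∨ (i ≤ m ∧ 0 < m % c ∧ m % c < (2 * d) % c)))) := by
  classical
  subst hq
  have hf : Cfsg.quadFormPlus d F = ⇑(QuadClassify.qPlus d F) := (QuadClassify.qPlus_coe d).symm
  have hQ : (QuadraticMap.polarBilin (QuadClassify.qPlus d F)).Nondegenerate := OmegaStd.nondeg_plus
  have hn : finrank F (Fin d ⊕ Fin d → F) = 2 * d := OmegaStd.finrank_plus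
  have htop := plus_top_plus (F := F) d
  haveI : Nonempty (Fin d ⊕ Fin d) := ⟨Sum.inl ⟨0, by omega⟩⟩
  have hexc : Fintype.card F ≠ 2 ∨ finrank F (Fin d ⊕ Fin d → F) ≠ 4 := Or.inr (by omega)
  obtain ⟨hTd, hT'⟩ := hW₀
  have hT := (nondeg_iff hf W₀).1 hT'
  have hP := class_iso hf (T := W₀) hTd
  have hmpos := hm.pos
  have hmT : 1 ≤ finrank F W₀ := by omega
  have hmnT : finrank F W₀ < finrank F (Fin d ⊕ Fin d → F) := by omega
  have h2 := odd_card_two_ne (F := F) hodd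
  have hmod : Fintype.card F % 2 = 1 := Nat.odd_iff.1 hodd
  by_cases hr2 : r = 2
  · subst hr2
    refine (allProj_two_iff h2 hQ hf hn (by omega) hexc hT hmT hmnT hP).trans ?_
    rw [hTd]
    simp only [htop, Nat.not_even_iff_odd.2 hm, par_iff hmod, isSquare_two_pow_iff hmod, true_iff, false_iff,
      Nat.even_iff, Nat.odd_iff, ne_eq, lt_irrefl, false_and, and_false, or_false, not_false_eq_true,
      true_and]
    omega
  by_cases hrp : r = p
  · subst hrp
    refine iff_of_false ?_ (by rintro (h | h | h); exacts [hr2 h.1, h.1 rfl, h.1 rfl])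
    obtain ⟨g, hu, hg1, hfix⟩ := OrthUnipDerange61.exists_odd_derange hQ h2 hn (by omega) hT (hTd ▸ hm)
    exact (OrthUnipDerange61.not_allProj hQ hf hexc hP hu hg1 (Or.inl hr2) hfix).1
  have h2r : 2 < r := lt_of_le_of_ne (Fact.out : r.Prime).two_le (Ne.symm hr2)
  have hr : (r : F) ≠ 0 := fun e => hrp ((Nat.prime_dvd_prime_iff_eq (Fact.out : p.Prime) Fact.out).1
    ((CharP.cast_eq_zero_iff F p r).1 e)).symm
  have hc' : blockDim F r = c := by subst hi; subst hc; rfl
  obtain ⟨hiff, hcm⟩ := allFix_cond hQ hr2 hr hT (Or.inl h2) hmT hmnT hP hrΩ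
  refine ((allProj_iff hQ hf hexc hr2 hr hP).trans hiff).trans ?_
  rw [cond_odd hQ hr hr2 hi hc'.symm hn hT hTd hm] at hcm ⊢
  rw [hc', hTd] at hcm
  have hcpos : 0 < c := hc' ▸ blockDim_pos hr
  have hl : 0 < m % c := Nat.pos_of_ne_zero fun e => Nat.not_even_iff_odd.2 hm
    ((hc' ▸ blockDim_even : Even c).trans_dvd (Nat.dvd_of_mod_eq_zero e))
  rcases Nat.even_or_odd i with he | ho
  · obtain rfl : c = i := by rw [hc, if_pos he]
    simp only [FreeDim, htop, he, h2r, hrp, hr2, ne_eq, not_false_eq_true, true_and, false_and,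
      and_false, or_false, false_or, iff_true, iff_false, Nat.not_odd_iff_even, Nat.not_even_iff_odd]
      at hcm ⊢
    simp only [Nat.even_iff, Nat.odd_iff] at hcm ⊢ he
    omega
  · have hne : ¬ Even i := Nat.not_even_iff_odd.2 ho
    simp only [FreeDim, htop, ho, hne, h2r, hrp, hr2, ne_eq, not_false_eq_true, true_and, false_and,
      and_false, and_true, or_false, false_or, iff_true, iff_false] at hcm ⊢
    omega

end Cfsg.Agent.S5989
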