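import Cfsg.Statements.S5990
import Cfsg.Agent.Lib.OrthCharTwoInvol61

set_option autoImplicit false
open scoped MatrixGroups
open Cfsg
open Module
open Cfsg.Agent.OrthBlocks61 Cfsg.Agent.OrthIsoClasses61 Cfsg.Agent.OrthSubspaceFix61
open Cfsg.Agent.OrthDerangeBase61 Cfsg.Agent.OrthDerangeGlue61 Cfsg.Agent.OrthDerangeEven61

namespace Cfsg.Agent.S5990

set_option maxHeartbeats 800000 in
/-- Elements of prime order of PΩ⁻_n(q) with no fixed elliptic `m`-space. Here `T = PΩ⁻_n(F)`, `n = 2d ≥ 8`, realised through `Ω⁻_n(q)`, the commutator subgroup of the isometry group of `Q = Σ_{i<d−1} xᵢyᵢ + z₁² + a z₁z₂ + b z₂²` with `z₁² + a z₁z₂ + b z₂²` anisotropic, over the field `F` with `q` elements; an element of `T` of prime order `r` is an element `x` of `Ω⁻_n(q)` with `x^r` scalar and `x` not scalar; a nondegenerate `m`-space (even `m`) is a subspace on which the polar form of `Q` is nondegenerate; it is hyperbolic if it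 contains an `m/2`-dimensional subspace on which `Q` vanishes, elliptic otherwise. Let `m` be even with `2 ≤ m ≤ n − 2` (no restriction `m < n/2`: fixing an elliptic `m`-space is the same as fixing its hyperbolic orthogonal complement) and let `r` be a prime dividing the number of elliptic `m`-spaces, with `r = 2` or `r ≠ p`; for `r ≠ p` let `i` be the multiplicative order of `q` modulo `r`, `c = i` for `i` even and `c = 2i` for `i` odd, and write `k = n mod c`, `ℓ = m mod i`, `ℓ' = m mod c`, `n' = ⌊n/i⌋`, `m' = ⌊m/i⌋`, `t = (r−1)/i`. Then every element of `T` of order `r` fixes some elliptic `m`-space if and only if one of: (i) `r = p = 2` and (`n ≡ 0 (mod 4)` or `m ≡ 2 (mod 4)`); (ii) `r = 2 ≠ p` and (`n ≡ 0 (mod 4)`, or `q ≢ 7 (mod 8)`, or `m ≡ 2 (mod 4)`); (iii) `r ≠ p` odd, `i` odd, and `k = 0` or (`c ≤ m` and `k ≥ ℓ' > 0`); (iv) `r ≠ p` odd, `i` even, and either `k = 0` and (`n/i` even, or `ℓ' = 0` and `m/i`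 odd), or `k > 0`, `i ≤ m` and (`k > ℓ' > 0`, or `ℓ' = 0` and `m/i` odd, or `k = ℓ'` and `(n + m − 2k)/i` even). (Odd `r = p` is not covered by this statement.) -/
theorem result {F : Type*} [Field F] [Fintype F] {p : ℕ} [Fact p.Prime] [CharP F p] {q : ℕ} (hq : Fintype.card F = q)
    (d m : ℕ) (hd : 4 ≤ d) (hm : 2 ≤ m) (hme : Even m) (hmn : m + 2 ≤ 2 * d) (a b : F) (hab : ∀ x y : F, x ^ 2 + a * x * y + b * y ^ 2 = 0 → x = 0 ∧ y = 0)
    (r : ℕ) [Fact r.Prime] (hr : r = 2 ∨ r ≠ p)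
    (hrΩ : r ∣ Nat.card {W : Submodule F ((Fin (d - 1) ⊕ Fin (d - 1)) ⊕ Fin 2 → F) // Module.finrank F ↥W = m ∧ Cfsg.Geo.IsNondegenerateOn (QuadraticMap.polar (Cfsg.quadFormMinus (d - 1) F a b)) W ∧ ¬ Cfsg.Geo.IsPlusTypeOn (Cfsg.quadFormMinus (d - 1) F a b) W})
    (i c : ℕ) (hi : i = orderOf (q : ZMod r)) (hc : c = if Even i then i else 2 * i) :
    (∀ x : GL ((Fin (d - 1) ⊕ Fin (d - 1)) ⊕ Fin 2) F, x ∈ Cfsg.Geo.omegaGL (Cfsg.quadFormMinus (d - 1) F a b) →
      (∃ z : F, ((x ^ r : GL ((Fin (d - 1) ⊕ Fin (d - 1)) ⊕ Fin 2) F) : Matrix ((Fin (d - 1) ⊕ Fin (d - 1)) ⊕ Fin 2) ((Fin (d - 1) ⊕ Fin (d - 1)) ⊕ Fin 2) F) = z • (1 : Matrix ((Fin (d - 1) ⊕ Fin (d - 1)) ⊕ Fin 2) ((Fin (d - 1) ⊕ Fin (d - 1)) ⊕ Fin 2) F)) →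
      (∀ z : F, (x : Matrix ((Fin (d - 1) ⊕ Fin (d - 1)) ⊕ Fin 2) ((Fin (d - 1) ⊕ Fin (d - 1)) ⊕ Fin 2) F) ≠ z • (1 : Matrix ((Fin (d - 1) ⊕ Fin (d - 1)) ⊕ Fin 2) ((Fin (d - 1) ⊕ Fin (d - 1)) ⊕ Fin 2) F)) →
      ∃ W : Submodule F ((Fin (d - 1) ⊕ Fin (d - 1)) ⊕ Fin 2 → F), (Module.finrank F ↥W = m ∧ Cfsg.Geo.IsNondegenerateOn (QuadraticMap.polar (Cfsg.quadFormMinus (d - 1) F a b)) W ∧ ¬ Cfsg.Geo.IsPlusTypeOn (Cfsg.quadFormMinus (d - 1) F a b) W) ∧ W.map (Matrix.toLin' (x : Matrix ((Fin (d - 1) ⊕ Fin (d - 1)) ⊕ Fin 2) ((Fin (d - 1) ⊕ Fin (d - 1)) ⊕ Fin 2) F)) ≤ W) ↔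
    ((r = 2 ∧ p = 2 ∧ (Even d ∨ m % 4 = 2)) ∨
     (r = 2 ∧ p ≠ 2 ∧ (Even d ∨ q % 8 ≠ 7 ∨ m % 4 = 2)) ∨
     (r ≠ p ∧ 2 < r ∧ Odd i ∧ ((2 * d) % c = 0 ∨ (c ≤ m ∧ 0 < m % c ∧ m % c ≤ (2 * d) % c))) ∨
     (r ≠ p ∧ 2 < r ∧ Even i ∧
       (((2 * d) % c = 0 ∧ (Even ((2 * d) / i) ∨ (m % c = 0 ∧ Odd (m / i)))) ∨
        (0 < (2 * d) % c ∧ i ≤ m ∧ ((0 < m % c ∧ m % c < (2 * d) % c) ∨ (m % c = 0 ∧ Odd (m / i)) ∨
                                    (m % c = (2 * d) % c ∧ Even ((2 * d + m - 2 * ((2 * d) % c)) / i))))))) := by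
  classical
  subst hq
  have hf : Cfsg.quadFormMinus (d - 1) F a b = ⇑(QuadClassify.qMinus (d - 1) F a b) :=
    (QuadClassify.qMinus_coe (d - 1) a b).symm
  have hQ := OrthPrimeOrderClasses73.nd_minus (F := F) (d - 1) hab
  have hn : finrank F ((Fin (d - 1) ⊕ Fin (d - 1)) ⊕ Fin 2 → F) = 2 * d := by
    rw [Module.finrank_pi]; simp only [Fintype.card_sum, Fintype.card_fin]; omega
  have htop := not_plus_top_minus (F := F) (d - 1) hab
  have hexc : Fintype.card F ≠ 2 ∨ finrank F ((Fin (d - 1) ⊕ Fin (d - 1)) ⊕ Fin 2 → F) ≠ 4 := Or.inr (by omega)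
  obtain ⟨h, rfl⟩ : ∃ h, m = 2 * h := by obtain ⟨h, rfl⟩ := hme; exact ⟨h, by omega⟩
  obtain ⟨T, hT, hTd, hTp⟩ := (exists_types hQ (h := h) (by omega) (by omega)).2
  have hP := class_minus hf (m := 2 * h) rfl hT hTd hTp
  have hmT : 1 ≤ finrank F T := by omega
  have hmnT : finrank F T < finrank F ((Fin (d - 1) ⊕ Fin (d - 1)) ⊕ Fin 2 → F) := by omega
  by_cases hr2 : r = 2
  · subst hr2
    by_cases hp2 : p = 2
    · subst hp2
      have h20 : (2 : F) = 0 := CharP.cast_eq_zero F 2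
      constructor
      · intro hall
        refine Or.inl ⟨rfl, rfl, ?_⟩
        by_contra hno
        rw [not_or, Nat.not_even_iff_odd] at hno
        obtain ⟨hdodd, hm4⟩ := hno
        obtain ⟨k, hk, hkk, hk1, hW⟩ := OrthCharTwoInvol61.exists_derange h20 hQ hn hd hdodd
        have hlin : (Matrix.toLin' (OmegaGeo.toGL _ k : Matrix ((Fin (d - 1) ⊕ Fin (d - 1)) ⊕ Fin 2) ((Fin (d - 1) ⊕ Fin (d - 1)) ⊕ Fin 2) F) :
            ((Fin (d - 1) ⊕ Fin (d - 1)) ⊕ Fin 2 → F) →ₗ[F] ((Fin (d - 1) ⊕ Fin (d - 1)) ⊕ Fin 2 → F)) = (k.1 : ((Fin (d - 1) ⊕ Fin (d - 1)) ⊕ Fin 2 → F) →ₗ[F] ((Fin (d - 1) ⊕ Fin (d - 1)) ⊕ Fin 2 → F)) := LinearMap.ext fun v => by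
          rw [Matrix.toLin'_apply, OmegaGeo.toGL_mulVec]; rfl
        have hx : OmegaGeo.toGL (QuadClassify.qMinus (d - 1) F a b) k ∈
            Cfsg.Geo.omegaGL (Cfsg.quadFormMinus (d - 1) F a b) := hf ▸ OmegaGeo.toGL_mem hk
        have hpow : ((OmegaGeo.toGL (QuadClassify.qMinus (d - 1) F a b) k ^ 2 :
            GL ((Fin (d - 1) ⊕ Fin (d - 1)) ⊕ Fin 2) F) : Matrix ((Fin (d - 1) ⊕ Fin (d - 1)) ⊕ Fin 2) ((Fin (d - 1) ⊕ Fin (d - 1)) ⊕ Fin 2) F) = (1 : F) • 1 := by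
          rw [Units.val_pow_eq_pow_val, one_smul]
          refine Matrix.toLin'.injective ?_
          rw [Matrix.toLin'_pow, hlin, Matrix.toLin'_one, pow_two]
          exact LinearMap.ext hkk
        have hns : ∀ z : F, (OmegaGeo.toGL (QuadClassify.qMinus (d - 1) F a b) k :
            Matrix ((Fin (d - 1) ⊕ Fin (d - 1)) ⊕ Fin 2) ((Fin (d - 1) ⊕ Fin (d - 1)) ⊕ Fin 2) F) ≠ z • 1 := by
          intro z hz
          refine hk1 (Subtype.ext (LinearEquiv.ext fun v => ?_))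
          have hzv : ∀ v, k.1 v = z • v := fun v => by
            have := LinearMap.congr_fun hlin v
            rw [hz, map_smul, Matrix.toLin'_one] at this
            exact this.symm
          obtain ⟨u, -, hu⟩ := OmegaClasses.nondeg_represents (QuadClassify.nondeg_top hQ)
            (by rw [finrank_top]; omega) 1
          have hzz := k.2 u
          rw [hzv, QuadraticMap.map_smul, hu, smul_eq_mul, mul_one] at hzz
          have hz1 : z = 1 := by
            have h' : (z - 1) * (z - 1) = 0 := by linear_combination hzz - (z - 1) * h20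
            exact sub_eq_zero.1 (mul_self_eq_zero.1 h')
          rw [hzv, hz1, one_smul]
          rfl
        obtain ⟨W, hW', hWx⟩ := hall _ hx ⟨1, hpow⟩ hns
        have hW'' := (hP W).1 hW'
        have hWd := hW'.1
        have hmod : finrank F W % 8 = 0 ∨ finrank F W % 8 = 4 := by omega
        exact hTp (hW''.2.plus (hW W hW''.1 (fun v hv => hWx ⟨v, hv, LinearMap.congr_fun hlin v⟩) hmod))
      · intro hrhs x hx hz hns
        have hcond : Even d ∨ Odd h := by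
          rcases hrhs with ⟨-, -, h' | h'⟩ | ⟨-, h', -⟩ | ⟨-, h', -⟩ | ⟨-, h', -⟩
          · exact Or.inl h'
          · exact Or.inr (Nat.odd_iff.2 (by omega))
          all_goals omega
        obtain ⟨z, hz⟩ := hz
        have hg : ∀ v, QuadClassify.qMinus (d - 1) F a b (Matrix.toLin' (x : Matrix ((Fin (d - 1) ⊕ Fin (d - 1)) ⊕ Fin 2) ((Fin (d - 1) ⊕ Fin (d - 1)) ⊕ Fin 2) F) v) =
            QuadClassify.qMinus (d - 1) F a b v :=
          form_of_mem hf hx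
        have hgz : ∀ v, Matrix.toLin' (x : Matrix ((Fin (d - 1) ⊕ Fin (d - 1)) ⊕ Fin 2) ((Fin (d - 1) ⊕ Fin (d - 1)) ⊕ Fin 2) F) (Matrix.toLin' (x : Matrix ((Fin (d - 1) ⊕ Fin (d - 1)) ⊕ Fin 2) ((Fin (d - 1) ⊕ Fin (d - 1)) ⊕ Fin 2) F) v) = z • v := by
          intro v
          rw [← Matrix.toLin'_mul_apply, ← pow_two, ← Units.val_pow_eq_pow_val, hz, map_smul,
            Matrix.toLin'_one]
          rfl
        obtain ⟨u, -, hu⟩ := OmegaClasses.nondeg_represents (QuadClassify.nondeg_top hQ)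
          (by rw [finrank_top]; omega) 1
        have hzz := (hg (Matrix.toLin' (x : Matrix ((Fin (d - 1) ⊕ Fin (d - 1)) ⊕ Fin 2) ((Fin (d - 1) ⊕ Fin (d - 1)) ⊕ Fin 2) F) u)).trans (hg u)
        rw [hgz, QuadraticMap.map_smul, hu, smul_eq_mul, mul_one] at hzz
        have hz1 : z = 1 := by
          have h' : (z - 1) * (z - 1) = 0 := by linear_combination hzz - (z - 1) * h20
          exact sub_eq_zero.1 (mul_self_eq_zero.1 h')
        exact stab_of_fix hP one_ne_zero (one_smul F _).symm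
          (OrthCharTwoInvol61.fix_minus h20 hQ hg (fun v => by rw [hgz, hz1, one_smul]) hn htop hT hTd hTp
            (by omega) (by omega) hcond)
    · have hodd := card_odd (F := F) (p := p) hp2
      have hmod : Fintype.card F % 2 = 1 := Nat.odd_iff.1 hodd
      refine (allProj_two_iff (odd_card_two_ne hodd) hQ hf hn (by omega) hexc hT hmT hmnT hP).trans ?_
      rw [hTd]
      simp only [htop, hTp, hp2, par_iff hmod, isSquare_two_pow_iff hmod, true_iff, false_iff, Nat.even_iff,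
        Nat.odd_iff, ne_eq, lt_irrefl, false_and, and_false, or_false, false_or, not_false_eq_true,
        true_and]
      omega
  have hrp : r ≠ p := hr.resolve_left hr2
  have h2r : 2 < r := lt_of_le_of_ne (Fact.out : r.Prime).two_le (Ne.symm hr2)
  have hr0 : (r : F) ≠ 0 := fun e => hrp ((Nat.prime_dvd_prime_iff_eq (Fact.out : p.Prime) Fact.out).1
    ((CharP.cast_eq_zero_iff F p r).1 e)).symm
  have hc' : blockDim F r = c := by subst hi; subst hc; rfl
  obtain ⟨hiff, hcm⟩ := allFix_cond hQ hr2 hr0 hT (Or.inr (hTd ▸ even_two_mul h)) hmT hmnT hP hrΩ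
  refine ((allProj_iff hQ hf hexc hr2 hr0 hP).trans hiff).trans ?_
  rw [cond_even hQ hr0 hr2 hi hc'.symm hn hT hTd] at hcm ⊢
  rw [hc', hTd] at hcm
  have hcpos : 0 < c := hc' ▸ blockDim_pos hr0
  obtain ⟨d1, d2, d3, d4⟩ := div_facts hcpos (show 2 * h ≤ 2 * d by omega)
  rcases Nat.even_or_odd i with he | ho
  · obtain rfl : c = i := by rw [hc, if_pos he]
    simp only [FreeDim, htop, hTp, he, h2r, hrp, hr2, ne_eq, not_false_eq_true, true_and, false_and,
      and_false, or_false, false_or, iff_true, iff_false, Nat.not_odd_iff_even, Nat.not_even_iff_odd,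
      d1] at hcm ⊢
    simp only [Nat.even_iff, Nat.odd_iff] at hcm ⊢ he
    omega
  · have hne : ¬ Even i := Nat.not_even_iff_odd.2 ho
    simp only [FreeDim, htop, hTp, ho, hne, h2r, hrp, hr2, ne_eq, not_false_eq_true, true_and, false_and,
      and_false, and_true, or_false, false_or, iff_true, iff_false, d1] at hcm ⊢
    omega

end Cfsg.Agent.S5990
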