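import Cfsg.Statements.S5991
import Cfsg.Agent.Lib.OrthDerangeEven61

set_option autoImplicit false
open scoped MatrixGroups
open Cfsg
open Module
open Cfsg.Agent.OrthBlocks61 Cfsg.Agent.OrthIsoClasses61 Cfsg.Agent.OrthSubspaceFix61
open Cfsg.Agent.OrthDerangeBase61 Cfsg.Agent.OrthDerangeGlue61 Cfsg.Agent.OrthDerangeEven61

namespace Cfsg.Agent.S5991

/-- Elements of prime order of PΩ⁻_n(q), q odd, with no fixed nondegenerate `m`-space of odd dimension. Here `T = PΩ⁻_n(F)`, `n = 2d ≥ 8`, realised through `Ω⁻_n(q)`, the commutator subgroup of the isometry group of `Q = Σ_{i<d−1} xᵢyᵢ + z₁² + a z₁z₂ + b z₂²` with `z₁² + a z₁z₂ + b z₂²` anisotropic, over the field `F` with `q` elements; an element of `T` of prime order `r` is an element `x` of `Ω⁻_n(q)` with `x^r` scalar and `x` not scalar; `q` and `m` are odd, `1 ≤ m < n/2`. The nondegenerate `m`-spaces fall into two isometry classes, each an orbit of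 `T`, with equivalent actions; fix one such space `W₀` and let Ω be the set of nondegenerate `m`-spaces isometric to `W₀`. Let `r` be a prime dividing the size of Ω; for `r ≠ p` let `i` be the multiplicative order of `q` modulo `r`, `c = i` for `i` even and `c = 2i` for `i` odd, and write `k = n mod c`, `ℓ = m mod i`, `ℓ' = m mod c`, `n' = ⌊n/i⌋`, `m' = ⌊m/i⌋`, `t = (r−1)/i`. Then every element of `T` of order `r` fixes a member of Ω if and only if one of: (i) `r = 2` and (`n ≡ 0 (mod 4)` or `q ≢ 7 (mod 8)`); (ii) `r ≠ p` odd, `i` odd, and `k = 0` or (`c ≤ m` and `k > ℓ' > 0`); (iii) `r ≠ p` odd, `i` even, and either `k = 0` and `n/i` even, or `k > 0`, `i ≤ m` and `k > ℓ' > 0`. (For `r = p` there is always an element of order `p` fixing no member of Ω.) -/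
theorem result {F : Type*} [Field F] [Fintype F] {p : ℕ} [Fact p.Prime] [CharP F p] {q : ℕ} (hq : Fintype.card F = q)
    (hodd : Odd q) (d m : ℕ) (hd : 4 ≤ d) (hm : Odd m) (hmd : m < d) (a b : F) (hab : ∀ x y : F, x ^ 2 + a * x * y + b * y ^ 2 = 0 → x = 0 ∧ y = 0)
    (W₀ : Submodule F ((Fin (d - 1) ⊕ Fin (d - 1)) ⊕ Fin 2 → F)) (hW₀ : Module.finrank F ↥W₀ = m ∧ Cfsg.Geo.IsNondegenerateOn (QuadraticMap.polar (Cfsg.quadFormMinus (d - 1) F a b)) W₀)
    (r : ℕ) [Fact r.Prime]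
    (hrΩ : r ∣ Nat.card {W : Submodule F ((Fin (d - 1) ⊕ Fin (d - 1)) ⊕ Fin 2 → F) // Module.finrank F ↥W = m ∧ Cfsg.Geo.IsNondegenerateOn (QuadraticMap.polar (Cfsg.quadFormMinus (d - 1) F a b)) W ∧ Cfsg.Geo.AreIsometricFor (Cfsg.quadFormMinus (d - 1) F a b) W W₀})
    (i c : ℕ) (hi : i = orderOf (q : ZMod r)) (hc : c = if Even i then i else 2 * i) :
    (∀ x : GL ((Fin (d - 1) ⊕ Fin (d - 1)) ⊕ Fin 2) F, x ∈ Cfsg.Geo.omegaGL (Cfsg.quadFormMinus (d - 1) F a b) →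
      (∃ z : F, ((x ^ r : GL ((Fin (d - 1) ⊕ Fin (d - 1)) ⊕ Fin 2) F) : Matrix ((Fin (d - 1) ⊕ Fin (d - 1)) ⊕ Fin 2) ((Fin (d - 1) ⊕ Fin (d - 1)) ⊕ Fin 2) F) = z • (1 : Matrix ((Fin (d - 1) ⊕ Fin (d - 1)) ⊕ Fin 2) ((Fin (d - 1) ⊕ Fin (d - 1)) ⊕ Fin 2) F)) →
      (∀ z : F, (x : Matrix ((Fin (d - 1) ⊕ Fin (d - 1)) ⊕ Fin 2) ((Fin (d - 1) ⊕ Fin (d - 1)) ⊕ Fin 2) F) ≠ z • (1 : Matrix ((Fin (d - 1) ⊕ Fin (d - 1)) ⊕ Fin 2) ((Fin (d - 1) ⊕ Fin (d - 1)) ⊕ Fin 2) F)) →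
      ∃ W : Submodule F ((Fin (d - 1) ⊕ Fin (d - 1)) ⊕ Fin 2 → F), (Module.finrank F ↥W = m ∧ Cfsg.Geo.IsNondegenerateOn (QuadraticMap.polar (Cfsg.quadFormMinus (d - 1) F a b)) W ∧ Cfsg.Geo.AreIsometricFor (Cfsg.quadFormMinus (d - 1) F a b) W W₀) ∧ W.map (Matrix.toLin' (x : Matrix ((Fin (d - 1) ⊕ Fin (d - 1)) ⊕ Fin 2) ((Fin (d - 1) ⊕ Fin (d - 1)) ⊕ Fin 2) F)) ≤ W) ↔
    ((r = 2 ∧ (Even d ∨ q % 8 ≠ 7)) ∨
     (r ≠ p ∧ 2 < r ∧ Odd i ∧ ((2 * d) % c = 0 ∨ (c ≤ m ∧ 0 < m % c ∧ m % c < (2 * d) % c))) ∨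
     (r ≠ p ∧ 2 < r ∧ Even i ∧ (((2 * d) % c = 0 ∧ Even ((2 * d) / i)) ∨ (0 < (2 * d) % c ∧ i ≤ m ∧ 0 < m % c ∧ m % c < (2 * d) % c)))) := by
  classical
  subst hq
  have hf : Cfsg.quadFormMinus (d - 1) F a b = ⇑(QuadClassify.qMinus (d - 1) F a b) :=
    (QuadClassify.qMinus_coe (d - 1) a b).symm
  have hQ := OrthPrimeOrderClasses73.nd_minus (F := F) (d - 1) hab
  have hn : finrank F ((Fin (d - 1) ⊕ Fin (d - 1)) ⊕ Fin 2 → F) = 2 * d := by
    rw [Module.finrank_pi]; simp only [Fintype.card_sum, Fintype.card_fin]; omega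
  have htop := not_plus_top_minus (F := F) (d - 1) hab
  have hexc : Fintype.card F ≠ 2 ∨ finrank F ((Fin (d - 1) ⊕ Fin (d - 1)) ⊕ Fin 2 → F) ≠ 4 := Or.inr (by omega)
  obtain ⟨hTd, hT'⟩ := hW₀
  have hT := (nondeg_iff hf W₀).1 hT'
  have hP := class_iso hf (T := W₀) hTd
  have hmpos := hm.pos
  have hmT : 1 ≤ finrank F W₀ := by omega
  have hmnT : finrank F W₀ < finrank F ((Fin (d - 1) ⊕ Fin (d - 1)) ⊕ Fin 2 → F) := by omega
  have h2 := odd_card_two_ne (F := F) hodd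
  have hmod : Fintype.card F % 2 = 1 := Nat.odd_iff.1 hodd
  by_cases hr2 : r = 2
  · subst hr2
    refine (allProj_two_iff h2 hQ hf hn (by omega) hexc hT hmT hmnT hP).trans ?_
    rw [hTd]
    simp only [htop, Nat.not_even_iff_odd.2 hm, par_iff hmod, isSquare_two_pow_iff hmod, true_iff, false_iff,
      Nat.even_iff, Nat.odd_iff, ne_eq, lt_irrefl, false_and, and_false, or_false, not_false_eq_true,
      true_and]
    omega
  by_cases hrp : r = p
  · subst hrp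
    refine iff_of_false ?_ (by rintro (h | h | h); exacts [hr2 h.1, h.1 rfl, h.1 rfl])
    obtain ⟨g, hu, hg1, hfix⟩ := OrthUnipDerange61.exists_odd_derange hQ h2 hn (by omega) hT (hTd ▸ hm)
    exact (OrthUnipDerange61.not_allProj hQ hf hexc hP hu hg1 (Or.inl hr2) hfix).1
  have h2r : 2 < r := lt_of_le_of_ne (Fact.out : r.Prime).two_le (Ne.symm hr2)
  have hr : (r : F) ≠ 0 := fun e => hrp ((Nat.prime_dvd_prime_iff_eq (Fact.out : p.Prime) Fact.out).1
    ((CharP.cast_eq_zero_iff F p r).1 e)).symm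
  have hc' : blockDim F r = c := by subst hi; subst hc; rfl
  obtain ⟨hiff, hcm⟩ := allFix_cond hQ hr2 hr hT (Or.inl h2) hmT hmnT hP hrΩ
  refine ((allProj_iff hQ hf hexc hr2 hr hP).trans hiff).trans ?_
  rw [cond_odd hQ hr hr2 hi hc'.symm hn hT hTd hm] at hcm ⊢
  rw [hc', hTd] at hcm
  have hcpos : 0 < c := hc' ▸ blockDim_pos hr
  have hl : 0 < m % c := Nat.pos_of_ne_zero fun e => Nat.not_even_iff_odd.2 hm
    ((hc' ▸ blockDim_even : Even c).trans_dvd (Nat.dvd_of_mod_eq_zero e))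
  rcases Nat.even_or_odd i with he | ho
  · obtain rfl : c = i := by rw [hc, if_pos he]
    simp only [FreeDim, htop, he, h2r, hrp, hr2, ne_eq, not_false_eq_true, true_and, false_and,
      and_false, or_false, false_or, iff_true, iff_false, Nat.not_odd_iff_even, Nat.not_even_iff_odd]
      at hcm ⊢
    simp only [Nat.even_iff, Nat.odd_iff] at hcm ⊢ he
    omega
  · have hne : ¬ Even i := Nat.not_even_iff_odd.2 ho
    simp only [FreeDim, htop, ho, hne, h2r, hrp, hr2, ne_eq, not_false_eq_true, true_and, false_and,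
      and_false, and_true, or_false, false_or, iff_true, iff_false] at hcm ⊢
    omega

end Cfsg.Agent.S5991
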