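import Cfsg.Statements.S5993
import Cfsg.Agent.Lib.OrthUnipDerange61

set_option autoImplicit false
open scoped MatrixGroups
open Cfsg
open Module
open Cfsg.Agent.OrthBlocks61 Cfsg.Agent.OrthIsoClasses61 Cfsg.Agent.OrthSubspaceFix61
open Cfsg.Agent.OrthDerangeBase61 Cfsg.Agent.OrthDerangeGlue61

namespace Cfsg.Agent.S5993

/-- Elements of prime order of Ω_n(q), nq odd, with no fixed elliptic `m`-space. Here `T = Ω_n(F)`, `n = 2d+1 ≥ 7`, `q` odd, realised as the commutator subgroup of the isometry group of `Q = x₀² + Σ xᵢyᵢ` over the field `F` with `q` elements (trivial centre, so its elements of prime order `r` are used directly); a nondegenerate `m`-space (even `m`) is a subspace on which the polar form of `Q` is nondegenerate; it is hyperbolic if it contains an `m/2`-dimensional subspace on which `Q` vanishes, elliptic otherwise. Let `m` be even with `2 ≤ m ≤ n − 1` (no restriction `m < n/2`) and let `r` be a prime dividing the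 number of elliptic `m`-spaces; for `r ≠ p` let `i` be the multiplicative order of `q` modulo `r`, `c = i` for `i` even and `c = 2i` for `i` odd, and write `k = n mod c`, `ℓ' = m mod c`. Then every element of `T` of order `r` fixes some elliptic `m`-space if and only if `r = 2`, or `r ≠ p` is odd and one of: (i) `i` odd, `c ≤ m` and `k > ℓ' > 0`; (ii) `i` even, `i ≤ m`, `k > ℓ'`, and `m/i` odd whenever `ℓ' = 0`. (For `r = p` there is always an element of order `p` fixing no elliptic `m`-space.) -/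
theorem result {F : Type*} [Field F] [Fintype F] {p : ℕ} [Fact p.Prime] [CharP F p] {q : ℕ} (hq : Fintype.card F = q) (hqodd : Odd q)
    (d m : ℕ) (hd : 3 ≤ d) (hm : 2 ≤ m) (hme : Even m) (hmn : m ≤ 2 * d)
    (r : ℕ) [Fact r.Prime]
    (hrΩ : r ∣ Nat.card {W : Submodule F (Unit ⊕ (Fin d ⊕ Fin d) → F) // Module.finrank F ↥W = m ∧ Cfsg.Geo.IsNondegenerateOn (QuadraticMap.polar (Cfsg.quadFormOdd d F)) W ∧ ¬ Cfsg.Geo.IsPlusTypeOn (Cfsg.quadFormOdd d F) W})
    (i c : ℕ) (hi : i = orderOf (q : ZMod r)) (hc : c = if Even i then i else 2 * i) :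
    (∀ x : GL (Unit ⊕ (Fin d ⊕ Fin d)) F, x ∈ Cfsg.Geo.omegaGL (Cfsg.quadFormOdd d F) → orderOf x = r →
      ∃ W : Submodule F (Unit ⊕ (Fin d ⊕ Fin d) → F), (Module.finrank F ↥W = m ∧ Cfsg.Geo.IsNondegenerateOn (QuadraticMap.polar (Cfsg.quadFormOdd d F)) W ∧ ¬ Cfsg.Geo.IsPlusTypeOn (Cfsg.quadFormOdd d F) W) ∧ W.map (Matrix.toLin' (x : Matrix (Unit ⊕ (Fin d ⊕ Fin d)) (Unit ⊕ (Fin d ⊕ Fin d)) F)) ≤ W) ↔
    (r = 2 ∨
     (r ≠ p ∧ 2 < r ∧ Odd i ∧ c ≤ m ∧ 0 < m % c ∧ m % c < (2 * d + 1) % c) ∨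
     (r ≠ p ∧ 2 < r ∧ Even i ∧ i ≤ m ∧ m % c < (2 * d + 1) % c ∧ (0 < m % c ∨ Odd (m / i)))) := by
  classical
  subst hq
  have h2 := odd_card_two_ne (F := F) hqodd
  have hf : Cfsg.quadFormOdd d F = ⇑(QuadClassify.qOdd d F) := (QuadClassify.qOdd_coe d).symm
  have hQ := OmegaMaxGlue.nondeg_odd (F := F) (m := d) h2
  have hn : finrank F (Unit ⊕ (Fin d ⊕ Fin d) → F) = 2 * d + 1 := by
    rw [Module.finrank_pi]; simp only [Fintype.card_sum, Fintype.card_fin, Fintype.card_unit]; omega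
  have hexc : Fintype.card F ≠ 2 ∨ finrank F (Unit ⊕ (Fin d ⊕ Fin d) → F) ≠ 4 := Or.inr (by omega)
  obtain ⟨h, rfl⟩ : ∃ h, m = 2 * h := by obtain ⟨h, rfl⟩ := hme; exact ⟨h, by omega⟩
  obtain ⟨T, hT, hTd, hTp⟩ := (exists_types hQ (h := h) (by omega) (by omega)).2
  have hP := class_minus hf (m := 2 * h) rfl hT hTd hTp
  have hmT : 1 ≤ finrank F T := by omega
  have hmnT : finrank F T < finrank F (Unit ⊕ (Fin d ⊕ Fin d) → F) := by omega
  by_cases hr2 : r = 2
  · subst hr2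
    refine iff_of_true ?_ (Or.inl rfl)
    exact allOrd_two h2 hQ hf (by omega) hT hmT hmnT hP
  have h2r : 2 < r := lt_of_le_of_ne (Fact.out : r.Prime).two_le (Ne.symm hr2)
  by_cases hrp : r = p
  · subst hrp
    refine iff_of_false ?_ (by rintro (h | h | h); exacts [hr2 h, h.1 rfl, h.1 rfl])
    obtain ⟨g, hu, hg1, hall⟩ := OrthUnipDerange61.exists_plus_only_odd hQ h2 hn (by omega)
    exact (OrthUnipDerange61.not_allProj hQ hf hexc hP hu hg1 (Or.inl hr2) fun ⟨W, hW, hWg, hWT⟩ =>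
      hTp (hWT.plus (hall W hW hWg (hWT.finrank_eq ▸ hTd ▸ even_two_mul h)))).2
  have hr : (r : F) ≠ 0 := fun e => hrp ((Nat.prime_dvd_prime_iff_eq (Fact.out : p.Prime) Fact.out).1
    ((CharP.cast_eq_zero_iff F p r).1 e)).symm
  have hc' : blockDim F r = c := by subst hi; subst hc; rfl
  obtain ⟨hiff, hcm⟩ := allFix_cond hQ hr2 hr hT (Or.inl h2) hmT hmnT hP hrΩ
  refine ((allOrd_iff hQ hf hexc hr2 hr hP).trans hiff).trans ?_
  rw [hc', hTd] at hcm
  obtain ⟨hPn, hPd, -⟩ := nd_perp hQ hT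
  have hceven : Even c := hc' ▸ blockDim_even
  have hcpos : 0 < c := hc' ▸ blockDim_pos hr
  have hodd : ∀ W : Submodule F (Unit ⊕ (Fin d ⊕ Fin d) → F), Odd (finrank F W) →
      ¬ Free (QuadClassify.qOdd d F) r W := fun W hW hfr =>
    Nat.not_even_iff_odd.2 hW (hceven.trans_dvd (hc' ▸ hfr.1))
  have hP1 := hodd (perp (QuadClassify.qOdd d F) T) (Nat.odd_iff.2 (by omega))
  have hT1 := hodd ⊤ (by rw [finrank_top, hn]; exact odd_two_mul_add_one d)
  have hk : 0 < (2 * d + 1) % c := Nat.pos_of_ne_zero fun e => Nat.not_even_iff_odd.2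
    (odd_two_mul_add_one d) (hceven.trans_dvd (Nat.dvd_of_mod_eq_zero e))
  have hfree := free_iff hr hr2 hT hi hc'.symm
  rw [hTd] at hfree
  unfold Cond at hcm ⊢
  simp only [hc', hTd, hn, hP1, hT1, hfree, hTp, Nat.dvd_iff_mod_eq_zero, hk.ne', false_or, or_false,
    false_and, and_false, and_true, true_and, iff_true, iff_false, not_false_eq_true] at hcm ⊢
  have hci : Even i → c = i := fun he => by rw [hc, if_pos he]
  constructor
  · rintro (⟨h0, he, hev⟩ | h1)
    · refine Or.inr (Or.inr ⟨hrp, h2r, he, hci he ▸ hcm (Or.inl ⟨h0, he, hev⟩), by omega, Or.inr ?_⟩)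
      exact Nat.not_even_iff_odd.1 hev
    · rcases Nat.even_or_odd i with he | ho
      · exact Or.inr (Or.inr ⟨hrp, h2r, he, hci he ▸ hcm (Or.inr h1), h1.2, Or.inl h1.1⟩)
      · exact Or.inr (Or.inl ⟨hrp, h2r, ho, hcm (Or.inr h1), h1⟩)
  · rintro (e | ⟨-, -, -, -, h1⟩ | ⟨-, -, he, -, hlt, h1⟩)
    · exact absurd e hr2
    · exact Or.inr h1
    · rcases Nat.eq_zero_or_pos (2 * h % c) with h0 | h0
      · exact Or.inl ⟨h0, he, Nat.not_even_iff_odd.2 (h1.resolve_left (by omega))⟩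
      · exact Or.inr ⟨h0, hlt⟩

end Cfsg.Agent.S5993
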