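import Cfsg.Statements.S5994
import Cfsg.Agent.Lib.OrthPartition98

set_option autoImplicit false
open scoped MatrixGroups
open Cfsg

namespace Cfsg.Agent.S5994

/-- A necessary condition for every element of order p of PΩ⁻_n(q), q odd, to fix an elliptic `m`-space. Here `T = PΩ⁻_n(F)`, `n = 2d ≥ 8`, realised through `Ω⁻_n(q)`, the commutator subgroup of the isometry group of `Q = Σ_{i<d−1} xᵢyᵢ + z₁² + a z₁z₂ + b z₂²` with `z₁² + a z₁z₂ + b z₂²` anisotropic, over the field `F` with `q` elements; an element of `T` of prime order `r` is an element `x` of `Ω⁻_n(q)` with `x^r` scalar and `x` not scalar; `q` is odd; a nondegenerate `m`-space (even `m`) is a subspace on which the polar form of `Q` is nondegenerate; it is hyperbolic if it contains an `m/2`-dimensional subspace on which `Q` vanishes, elliptic otherwise. Let `m` be even with `2 ≤ m ≤ n − 2` and suppose `p` divides the number of elliptic `m`-spaces. If every element of `T` of order `p` fixes some elliptic `m`-space,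 then `n ≡ m (mod 4)` and every partition of `n` into parts of size at most `p` in which every even part has even multiplicity contains (as a sub-multiset) a partition of `m` in which every even part has even multiplicity. -/
theorem result {F : Type*} [Field F] [Fintype F] {p : ℕ} [Fact p.Prime] [CharP F p] {q : ℕ} (hq : Fintype.card F = q) (hqodd : Odd q)
    (d m : ℕ) (hd : 4 ≤ d) (hm : 2 ≤ m) (hme : Even m) (hmn : m + 2 ≤ 2 * d) (a b : F) (hab : ∀ x y : F, x ^ 2 + a * x * y + b * y ^ 2 = 0 → x = 0 ∧ y = 0)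
    (hpΩ : p ∣ Nat.card {W : Submodule F ((Fin (d - 1) ⊕ Fin (d - 1)) ⊕ Fin 2 → F) // Module.finrank F ↥W = m ∧ Cfsg.Geo.IsNondegenerateOn (QuadraticMap.polar (Cfsg.quadFormMinus (d - 1) F a b)) W ∧ ¬ Cfsg.Geo.IsPlusTypeOn (Cfsg.quadFormMinus (d - 1) F a b) W}) :
    (∀ x : GL ((Fin (d - 1) ⊕ Fin (d - 1)) ⊕ Fin 2) F, x ∈ Cfsg.Geo.omegaGL (Cfsg.quadFormMinus (d - 1) F a b) →
      (∃ z : F, ((x ^ p : GL ((Fin (d - 1) ⊕ Fin (d - 1)) ⊕ Fin 2) F) : Matrix ((Fin (d - 1) ⊕ Fin (d - 1)) ⊕ Fin 2) ((Fin (d - 1) ⊕ Fin (d - 1)) ⊕ Fin 2) F) = z • (1 : Matrix ((Fin (d - 1) ⊕ Fin (d - 1)) ⊕ Fin 2) ((Fin (d - 1) ⊕ Fin (d - 1)) ⊕ Fin 2) F)) →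
      (∀ z : F, (x : Matrix ((Fin (d - 1) ⊕ Fin (d - 1)) ⊕ Fin 2) ((Fin (d - 1) ⊕ Fin (d - 1)) ⊕ Fin 2) F) ≠ z • (1 : Matrix ((Fin (d - 1) ⊕ Fin (d - 1)) ⊕ Fin 2) ((Fin (d - 1) ⊕ Fin (d - 1)) ⊕ Fin 2) F)) →
      ∃ W : Submodule F ((Fin (d - 1) ⊕ Fin (d - 1)) ⊕ Fin 2 → F), (Module.finrank F ↥W = m ∧ Cfsg.Geo.IsNondegenerateOn (QuadraticMap.polar (Cfsg.quadFormMinus (d - 1) F a b)) W ∧ ¬ Cfsg.Geo.IsPlusTypeOn (Cfsg.quadFormMinus (d - 1) F a b) W) ∧ W.map (Matrix.toLin' (x : Matrix ((Fin (d - 1) ⊕ Fin (d - 1)) ⊕ Fin 2) ((Fin (d - 1) ⊕ Fin (d - 1)) ⊕ Fin 2) F)) ≤ W) →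
    ((2 * d) % 4 = m % 4 ∧ (∀ μ : Multiset ℕ, (∀ e ∈ μ, 0 < e ∧ e ≤ p) → (∀ e : ℕ, Even e → Even (μ.count e)) → μ.sum = 2 * d →
        ∃ ν : Multiset ℕ, ν ≤ μ ∧ ν.sum = m ∧ ∀ e : ℕ, Even e → Even (ν.count e))) := by
  intro h
  haveI : Finite F := Finite.of_fintype F
  have hp : Odd p := OrthPartition98.odd_char hq hqodd
  have hp3 : 3 ≤ p := by
    obtain ⟨j, rfl⟩ := hp
    have := (Fact.out : (2 * j + 1).Prime).two_le
    omega
  have h2 : (2 : F) ≠ 0 := Ring.two_ne_zero (by rw [ringChar.eq F p]; omega)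
  have hQ : (QuadraticMap.polarBilin (QuadClassify.qMinus (d - 1) F a b)).Nondegenerate :=
    OrthPartition98.nondeg_minus hab
  have hcard : Fintype.card ((Fin (d - 1) ⊕ Fin (d - 1)) ⊕ Fin 2) = 2 * d := by simp; omega
  have hall : OrthPartition98.AllFix (QuadClassify.qMinus (d - 1) F a b) p m
      (fun W => ¬ Cfsg.Geo.IsPlusTypeOn (Cfsg.quadFormMinus (d - 1) F a b) W) := by
    intro x hx hxp hns
    rw [QuadClassify.qMinus_coe] at hx ⊢
    obtain ⟨W, ⟨h1, h3, h5⟩, h4⟩ := h x hx ⟨1, by rw [hxp, one_smul, Units.val_one]⟩ hns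
    exact ⟨W, h1, h3, h5, h4⟩
  have key : ∀ μ : Multiset ℕ, (∀ e ∈ μ, 0 < e ∧ e ≤ p) → (∀ e : ℕ, Even e → Even (μ.count e)) →
      μ.sum = 2 * d → ∃ ν : Multiset ℕ, ν ≤ μ ∧ ν.sum = m ∧ ∀ e : ℕ, Even e → Even (ν.count e) := by
    intro μ hμ heven hsum
    exact OrthPartition98.necessary hp _ hQ hme (by omega) (by omega) hall μ hμ heven
      (by rw [hsum, hcard])
  refine ⟨?_, key⟩
  obtain ⟨i, rfl⟩ := hme
  rcases Nat.even_or_odd d with ⟨j, rfl⟩ | ⟨j, rfl⟩
  · obtain ⟨ν, hν, hs, hev⟩ := key (3 ::ₘ 1 ::ₘ Multiset.replicate (2 * (j - 1)) 2)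
      (fun e he => by
        rcases Multiset.mem_cons.1 he with rfl | he
        · omega
        rcases Multiset.mem_cons.1 he with rfl | he
        · omega
        rw [Multiset.eq_of_mem_replicate he]; omega)
      (fun e he => by
        rw [Multiset.count_cons, Multiset.count_cons, Multiset.count_replicate,
          if_neg (fun h : e = 3 => absurd (h ▸ he) (by decide)),
          if_neg (fun h : e = 1 => absurd (h ▸ he) Nat.not_even_one)]
        split_ifs
        · exact ⟨j - 1, by omega⟩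
        · exact ⟨0, rfl⟩)
      (by simp; omega)
    obtain ⟨c, hc⟩ := hev 2 even_two
    by_cases h3 : 3 ∈ ν
    · obtain ⟨s, rfl⟩ := Multiset.exists_cons_of_mem h3
      rw [Multiset.cons_le_cons_iff] at hν
      by_cases h1 : 1 ∈ s
      · obtain ⟨r, rfl⟩ := Multiset.exists_cons_of_mem h1
        rw [Multiset.cons_le_cons_iff, Multiset.le_replicate_iff] at hν
        obtain ⟨k, -, rfl⟩ := hν
        simp at hc hs
        omega
      · rw [Multiset.le_cons_of_notMem h1, Multiset.le_replicate_iff] at hν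
        obtain ⟨k, -, rfl⟩ := hν
        simp at hc hs
        omega
    · rw [Multiset.le_cons_of_notMem h3] at hν
      by_cases h1 : 1 ∈ ν
      · obtain ⟨r, rfl⟩ := Multiset.exists_cons_of_mem h1
        rw [Multiset.cons_le_cons_iff, Multiset.le_replicate_iff] at hν
        obtain ⟨k, -, rfl⟩ := hν
        simp at hc hs
        omega
      · rw [Multiset.le_cons_of_notMem h1, Multiset.le_replicate_iff] at hν
        obtain ⟨k, -, rfl⟩ := hν
        simp at hc hs
        omega
  · rcases Nat.even_or_odd i with ⟨l, rfl⟩ | ⟨l, rfl⟩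
    · exfalso
      let μ : Multiset ℕ := Multiset.replicate 2 1 + Multiset.replicate (2 * j) 2
      have hμ : ∀ e ∈ μ, 0 < e ∧ e ≤ p := fun e he => by
        rcases Multiset.mem_add.1 he with he | he <;> rw [Multiset.eq_of_mem_replicate he] <;> omega
      have heven : OrthPartition98.EvenParts μ := fun e he => by
        simp only [μ, Multiset.count_add, Multiset.count_replicate]
        split_ifs <;> simp [Nat.even_add]
      obtain ⟨g, hg, hNp, W, C, hWd, hWnd, hWP, hWC, hWi, hCi⟩ := OrthPartition98.exists_fixed hp _ hQ hall μ hμ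
        heven ⟨1, by simp [μ], odd_one⟩ ⟨2, by simp [μ, Multiset.mem_replicate]; omega, by norm_num⟩
        (by rw [hcard]; simp [μ]; omega)
      have hN2 := OrthPartition98.pow_p_eq_zero hg (p := 2) fun e he => by
        rcases Multiset.mem_add.1 he with he | he <;> rw [Multiset.eq_of_mem_replicate he] <;> omega
      set N := (g.1.toLinearMap : Module.End F _) - 1 with hN
      have hWN := OrthPartition98.map_nil _ hWi
      have hCN := OrthPartition98.map_nil _ hCi
      have hsum := NilpotentPartition.finrank_map_add N hWN hCN hWC 1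
      rw [hg 1] at hsum
      have hμ1 : (μ.map (· - 1)).sum = 2 * j := by simp [μ]
      rw [hμ1, pow_one] at hsum
      have hnd : ∀ w ∈ W, w ≠ 0 →
          ∃ x ∈ W, QuadraticMap.polar (QuadClassify.qMinus (2 * j + 1 - 1) F a b) x w ≠ 0 :=
        fun w hw h0 => (hWnd w hw h0).1
      obtain ⟨r, hr⟩ := OrthPartition98.even_rank h2 _ _ g.2 ⟨p, hNp⟩ hWi hnd 0
      rw [Nat.mul_zero, Nat.zero_add, pow_one, ← hN] at hr
      have bound : ∀ U : Submodule F _, U.map N ≤ U → 2 * Module.finrank F ↥(U.map N) ≤ Module.finrank F U := by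
        intro U hU
        have hstep := NilpotentPartition.finrank_map_pow_step N U 0
        have hle : Module.finrank F ↥(U.map N) ≤ Module.finrank F ↥(U.map (N ^ 0) ⊓ LinearMap.ker N) := by
          apply Submodule.finrank_mono
          rintro _ ⟨v, hv, rfl⟩
          refine ⟨⟨N v, hU ⟨v, hv, rfl⟩, by simp⟩, ?_⟩
          have := LinearMap.congr_fun hN2 v
          rw [pow_two] at this
          exact this
        have h0 : U.map (N ^ 0) = U := by rw [pow_zero, Module.End.one_eq_id, Submodule.map_id]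
        rw [zero_add, pow_one, h0] at hstep
        rw [h0] at hle
        omega
      have bW := bound W hWN
      have bC := bound C hCN
      have hdim := Submodule.finrank_add_eq_of_isCompl hWC
      rw [Module.finrank_fintype_fun_eq_card, hcard] at hdim
      refine hWP ?_
      rw [← QuadClassify.qMinus_coe]
      exact OrthPartition98.isPlusTypeOn h2 _ g hWi hN2 (by rw [← hN]; omega)
    · omega

end Cfsg.Agent.S5994
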