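import Cfsg.Statements.S5995
import Cfsg.Agent.Lib.OrthPartition98

set_option autoImplicit false
open scoped MatrixGroups
open Cfsg

namespace Cfsg.Agent.S5995

/-- A necessary condition for every element of order p of Ω_n(q), nq odd, to fix a hyperbolic `m`-space. Here `T = Ω_n(F)`, `n = 2d+1 ≥ 7`, `q` odd, realised as the commutator subgroup of the isometry group of `Q = x₀² + Σ xᵢyᵢ` over the field `F` with `q` elements (trivial centre, so its elements of prime order `r` are used directly); a nondegenerate `m`-space (even `m`) is a subspace on which the polar form of `Q` is nondegenerate; it is hyperbolic if it contains an `m/2`-dimensional subspace on which `Q` vanishes, elliptic otherwise. Let `m` be even with `2 ≤ m ≤ n − 1` and suppose `p` divides the number of hyperbolic `m`-spaces. If every element of `T` of order `p` fixes some hyperbolic `m`-space, then `m ≡ 0 (mod 4)` and every partition of `n` into parts of size at most `p` in which every even part has even multiplicity contains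 (as a sub-multiset) a partition of `m` in which every even part has even multiplicity. -/
theorem result {F : Type*} [Field F] [Fintype F] {p : ℕ} [Fact p.Prime] [CharP F p] {q : ℕ} (hq : Fintype.card F = q) (hqodd : Odd q)
    (d m : ℕ) (hd : 3 ≤ d) (hm : 2 ≤ m) (hme : Even m) (hmn : m ≤ 2 * d)
    (hpΩ : p ∣ Nat.card {W : Submodule F (Unit ⊕ (Fin d ⊕ Fin d) → F) // Module.finrank F ↥W = m ∧ Cfsg.Geo.IsNondegenerateOn (QuadraticMap.polar (Cfsg.quadFormOdd d F)) W ∧ Cfsg.Geo.IsPlusTypeOn (Cfsg.quadFormOdd d F) W}) :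
    (∀ x : GL (Unit ⊕ (Fin d ⊕ Fin d)) F, x ∈ Cfsg.Geo.omegaGL (Cfsg.quadFormOdd d F) → orderOf x = p →
      ∃ W : Submodule F (Unit ⊕ (Fin d ⊕ Fin d) → F), (Module.finrank F ↥W = m ∧ Cfsg.Geo.IsNondegenerateOn (QuadraticMap.polar (Cfsg.quadFormOdd d F)) W ∧ Cfsg.Geo.IsPlusTypeOn (Cfsg.quadFormOdd d F) W) ∧ W.map (Matrix.toLin' (x : Matrix (Unit ⊕ (Fin d ⊕ Fin d)) (Unit ⊕ (Fin d ⊕ Fin d)) F)) ≤ W) →
    (m % 4 = 0 ∧ (∀ μ : Multiset ℕ, (∀ e ∈ μ, 0 < e ∧ e ≤ p) → (∀ e : ℕ, Even e → Even (μ.count e)) → μ.sum = 2 * d + 1 →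
        ∃ ν : Multiset ℕ, ν ≤ μ ∧ ν.sum = m ∧ ∀ e : ℕ, Even e → Even (ν.count e))) := by
  intro h
  haveI : Finite F := Finite.of_fintype F
  have hp : Odd p := OrthPartition98.odd_char hq hqodd
  have hp3 : 3 ≤ p := by
    obtain ⟨j, rfl⟩ := hp
    have := (Fact.out : (2 * j + 1).Prime).two_le
    omega
  have h2 : (2 : F) ≠ 0 := Ring.two_ne_zero (by rw [ringChar.eq F p]; omega)
  have hQ : (QuadraticMap.polarBilin (QuadClassify.qOdd d F)).Nondegenerate := OmegaMaxGlue.nondeg_odd h2
  have hall : OrthPartition98.AllFix (QuadClassify.qOdd d F) p m (fun _ => True) := by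
    intro x hx hxp hns
    rw [QuadClassify.qOdd_coe] at hx ⊢
    have hord : orderOf x = p := orderOf_eq_prime hxp fun h1 => hns 1 (by rw [h1, one_smul, Units.val_one])
    obtain ⟨W, ⟨h1, h3, -⟩, h4⟩ := h x hx hord
    exact ⟨W, h1, h3, trivial, h4⟩
  have key : ∀ μ : Multiset ℕ, (∀ e ∈ μ, 0 < e ∧ e ≤ p) → (∀ e : ℕ, Even e → Even (μ.count e)) →
      μ.sum = 2 * d + 1 → ∃ ν : Multiset ℕ, ν ≤ μ ∧ ν.sum = m ∧ ∀ e : ℕ, Even e → Even (ν.count e) := by
    intro μ hμ heven hsum
    exact OrthPartition98.necessary hp _ hQ hme (by simp; omega) (by simp) hall μ hμ heven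
      (by rw [hsum, Fintype.card_sum, Fintype.card_unit, Fintype.card_sum, Fintype.card_fin]; omega)
  refine ⟨?_, key⟩
  rcases Nat.even_or_odd d with ⟨j, rfl⟩ | ⟨j, rfl⟩
  · obtain ⟨ν, hν, hs, hev⟩ := key (1 ::ₘ Multiset.replicate (j + j) 2)
      (fun e he => by
        rcases Multiset.mem_cons.1 he with rfl | he
        · omega
        · rw [Multiset.eq_of_mem_replicate he]; omega)
      (fun e he => by
        rw [Multiset.count_cons, Multiset.count_replicate,
          if_neg (fun h : e = 1 => absurd (h ▸ he) Nat.not_even_one)]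
        split_ifs
        · exact ⟨j, by omega⟩
        · exact ⟨0, rfl⟩)
      (by simp; omega)
    obtain ⟨a, ha⟩ := hev 2 even_two
    by_cases h1 : 1 ∈ ν
    · obtain ⟨s, rfl⟩ := Multiset.exists_cons_of_mem h1
      rw [Multiset.cons_le_cons_iff, Multiset.le_replicate_iff] at hν
      obtain ⟨k, -, rfl⟩ := hν
      simp at ha hs
      obtain ⟨i, hi⟩ := hme; omega
    · rw [Multiset.le_cons_of_notMem h1, Multiset.le_replicate_iff] at hν
      obtain ⟨k, -, rfl⟩ := hν
      simp at ha hs
      omega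
  · obtain ⟨ν, hν, hs, hev⟩ := key (3 ::ₘ Multiset.replicate (2 * j) 2)
      (fun e he => by
        rcases Multiset.mem_cons.1 he with rfl | he
        · omega
        · rw [Multiset.eq_of_mem_replicate he]; omega)
      (fun e he => by
        rw [Multiset.count_cons, Multiset.count_replicate,
          if_neg (fun h : e = 3 => absurd (h ▸ he) (by decide))]
        split_ifs
        · exact ⟨j, by omega⟩
        · exact ⟨0, rfl⟩)
      (by simp; omega)
    obtain ⟨a, ha⟩ := hev 2 even_two
    by_cases h1 : 3 ∈ ν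
    · obtain ⟨s, rfl⟩ := Multiset.exists_cons_of_mem h1
      rw [Multiset.cons_le_cons_iff, Multiset.le_replicate_iff] at hν
      obtain ⟨k, -, rfl⟩ := hν
      simp at ha hs
      obtain ⟨i, hi⟩ := hme; omega
    · rw [Multiset.le_cons_of_notMem h1, Multiset.le_replicate_iff] at hν
      obtain ⟨k, -, rfl⟩ := hν
      simp at ha hs
      omega

end Cfsg.Agent.S5995
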