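import Cfsg.Statements.S5997

set_option autoImplicit false
open scoped MatrixGroups
open Cfsg

namespace Cfsg.Agent.S5997

open Matrix

variable {F : Type*} [Field F]

abbrev M2 (F : Type*) := Matrix (Fin 2) (Fin 2) F

theorem cayley (M : M2 F) : M * M = M.trace • M - M.det • (1 : M2 F) := by
  ext i j
  fin_cases i <;> fin_cases j <;>
    simp [Matrix.mul_apply, Fin.sum_univ_two, Matrix.trace_fin_two, Matrix.det_fin_two] <;> ring

/-- `M` is not a scalar matrix. -/
def NS (M : M2 F) : Prop := ∀ c : F, M ≠ c • (1 : M2 F)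

theorem quad_coeff {M : M2 F} (hM : NS M) {a b : F}
    (h : M * M + a • M + b • (1 : M2 F) = 0) : M.trace = -a ∧ M.det = b := by
  rw [cayley] at h
  have h' : (M.trace + a) • M = (M.det - b) • (1 : M2 F) := by
    rw [add_smul, sub_smul]; rw [← sub_eq_zero, ← h]; abel
  by_cases hc : M.trace + a = 0
  · rw [hc, zero_smul] at h'
    have h0 := congrFun (congrFun h' 0) 0
    simp at h0
    exact ⟨by linear_combination hc, by linear_combination -h0⟩
  · refine absurd ?_ (hM ((M.trace + a)⁻¹ * (M.det - b)))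
    rw [mul_smul, ← h', inv_smul_smul₀ hc]

theorem commutant {C M : M2 F} (hC : NS C) (h : M * C = C * M) :
    ∃ a b : F, M = a • (1 : M2 F) + b • C := by
  have e00 := congrFun (congrFun h 0) 0
  have e01 := congrFun (congrFun h 0) 1
  have e10 := congrFun (congrFun h 1) 0
  simp only [Matrix.mul_apply, Fin.sum_univ_two] at e00 e01 e10
  by_cases h01 : C 0 1 = 0
  · by_cases h10 : C 1 0 = 0
    · have hne : C 0 0 - C 1 1 ≠ 0 := by
        intro h0
        refine hC (C 0 0) ?_
        ext i j; fin_cases i <;> fin_cases j <;> simp [h01, h10]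
        linear_combination -h0
      obtain ⟨b, hb⟩ : ∃ b, b * (C 0 0 - C 1 1) = M 0 0 - M 1 1 :=
        ⟨(M 0 0 - M 1 1) / (C 0 0 - C 1 1), div_mul_cancel₀ _ hne⟩
      have hm01 : M 0 1 = 0 := by
        rw [h01] at e01; exact (mul_eq_zero.mp (by linear_combination -e01 :
          M 0 1 * (C 0 0 - C 1 1) = 0)).resolve_right hne
      have hm10 : M 1 0 = 0 := by
        rw [h10] at e10; exact (mul_eq_zero.mp (by linear_combination e10 :
          M 1 0 * (C 0 0 - C 1 1) = 0)).resolve_right hne
      refine ⟨M 0 0 - b * C 0 0, b, ?_⟩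
      ext i j; fin_cases i <;> fin_cases j <;> simp [h01, h10, hm01, hm10]
      linear_combination hb
    · refine ⟨M 0 0 - M 1 0 / C 1 0 * C 0 0, M 1 0 / C 1 0, ?_⟩
      ext i j; fin_cases i <;> fin_cases j <;> simp <;> field_simp
      · linear_combination e00
      · linear_combination e10
  · refine ⟨M 0 0 - M 0 1 / C 0 1 * C 0 0, M 0 1 / C 0 1, ?_⟩
    ext i j; fin_cases i <;> fin_cases j <;> simp <;> field_simp
    · linear_combination -e00
    · linear_combination -e01

theorem ns_of_anticomm (h2 : (2 : F) ≠ 0) {A B : M2 F} (hA : A * A = -1) (hB : B * B = -1)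
    (hBA : B * A = -(A * B)) : NS A := by
  intro c hc
  have hAB : A * B = 0 := by
    have h0 : (2 : F) • (A * B) = 0 := by
      rw [two_smul]
      nth_rewrite 2 [show A * B = -(B * A) by rw [hBA, neg_neg]]
      rw [hc, smul_mul_assoc, mul_smul_comm, one_mul, mul_one, add_neg_cancel]
    exact (smul_eq_zero.mp h0).resolve_left h2
  have h1 : A = 0 := by
    calc A = -((A * B) * B) := by rw [mul_assoc, hB, mul_neg, mul_one, neg_neg]
      _ = 0 := by rw [hAB, zero_mul, neg_zero]
  rw [h1, mul_zero] at hA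
  exact one_ne_zero (neg_eq_zero.mp hA.symm)

theorem quat_k {A B : M2 F} (hA : A * A = -1) (hB : B * B = -1) (hBA : B * A = -(A * B)) :
    B * (A * B) = A ∧ (A * B) * A = B ∧ A * (A * B) = -B ∧ (A * B) * B = -A ∧
      (A * B) * (A * B) = -1 := by
  have h1 : B * (A * B) = A := by
    rw [← mul_assoc, hBA, neg_mul, mul_assoc, hB, mul_neg, mul_one, neg_neg]
  refine ⟨h1, ?_, ?_, ?_, ?_⟩
  · rw [mul_assoc, hBA, mul_neg, ← mul_assoc, hA, neg_mul, one_mul, neg_neg]
  · rw [← mul_assoc, hA, neg_mul, one_mul]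
  · rw [mul_assoc, hB, mul_neg, mul_one]
  · rw [mul_assoc, h1, hA]

/-- `-(1 + i + j + k) / 2`. -/
def omegaM (A B : M2 F) : M2 F := (-(2 : F)⁻¹) • (1 + A + B + A * B)

theorem omegaM_mul_left (h2 : (2 : F) ≠ 0) {A B : M2 F} (hA : A * A = -1) (hB : B * B = -1)
    (hBA : B * A = -(A * B)) :
    omegaM A B * omegaM A B + (1 : F) • omegaM A B + (1 : F) • (1 : M2 F) = 0 ∧
      omegaM A B * A = B * omegaM A B ∧ omegaM A B * B = (A * B) * omegaM A B := by
  obtain ⟨k1, k2, k3, k4, k5⟩ := quat_k hA hB hBA
  refine ⟨?_, ?_, ?_⟩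
  · have hS : (1 + A + B + A * B) * (1 + A + B + A * B) =
        (2 : F) • (1 + A + B + A * B) - (4 : F) • (1 : M2 F) := by
      simp only [add_mul, mul_add, one_mul, mul_one, hA, hB, hBA, k1, k2, k3, k4, k5]
      module
    rw [omegaM, smul_mul_smul_comm, hS]
    match_scalars <;> field_simp <;> ring
  · rw [omegaM, smul_mul_assoc, mul_smul_comm]
    congr 1
    simp only [add_mul, mul_add, one_mul, mul_one, hA, hB, hBA, k1, k2, k3, k4]
    module
  · rw [omegaM, smul_mul_assoc, mul_smul_comm]
    congr 1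
    simp only [add_mul, mul_add, one_mul, mul_one, hA, hB, hBA, k1, k2, k3, k4, k5]
    module

theorem rep_one [Fintype F] (h2 : (2 : F) ≠ 0) {A B C : F} (hd : B * B - 4 * A * C ≠ 0) :
    ∃ a b : F, A * a * a + B * a * b + C * b * b = 1 := by
  by_cases hA : A = 0
  · subst hA
    have hB : B ≠ 0 := fun h => hd (by rw [h]; ring)
    exact ⟨(1 - C) / B, 1, by field_simp; ring⟩
  have hodd : Fintype.card F % 2 = 1 := FiniteField.odd_card_of_char_ne_two fun h => h2 (by
    have := ringChar.Nat.cast_ringChar (R := F)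
    rw [h] at this; exact_mod_cast this)
  set c := C - B * B / (4 * A) with hc
  have h4 : (4 : F) * A ≠ 0 := mul_ne_zero (by
    rw [show (4 : F) = 2 * 2 by norm_num]; exact mul_ne_zero h2 h2) hA
  have hc0 : c ≠ 0 := by
    intro h
    apply hd
    have h' : c * (4 * A) = 0 := by rw [h, zero_mul]
    rw [hc, sub_mul, div_mul_cancel₀ _ h4] at h'
    linear_combination -h'
  obtain ⟨u, v, huv⟩ := FiniteField.exists_root_sum_quadratic
    (f := Polynomial.C A * Polynomial.X ^ 2)
    (g := Polynomial.C c * Polynomial.X ^ 2 - Polynomial.C 1)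
    (Polynomial.degree_C_mul_X_pow 2 hA)
    (by
      rw [Polynomial.degree_sub_eq_left_of_degree_lt] <;>
        rw [Polynomial.degree_C_mul_X_pow 2 hc0]
      · rfl
      · exact lt_of_le_of_lt Polynomial.degree_C_le (by decide))
    hodd
  simp only [Polynomial.eval_sub, Polynomial.eval_mul, Polynomial.eval_C, Polynomial.eval_pow,
    Polynomial.eval_X] at huv
  obtain ⟨w, hw⟩ : ∃ w, w = B / (2 * A) := ⟨_, rfl⟩
  have hB : B = 2 * A * w := by rw [hw, mul_div_cancel₀ _ (mul_ne_zero h2 hA)]
  have hC : C = c + A * w * w := by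
    have h4' := left_ne_zero_of_mul h4
    rw [hc, hB]; field_simp; ring
  refine ⟨u - w * v, v, ?_⟩
  rw [hB, hC]
  linear_combination huv

theorem exists_companion [Fintype F] (h2 : (2 : F) ≠ 0) {M : M2 F}
    (hdet : M.det = 1) (ht : M.trace * M.trace - 4 ≠ 0) :
    ∃ P : M2 F, P.det = 1 ∧ M * P = P * !![0, -1; 1, M.trace] := by
  rw [Matrix.det_fin_two] at hdet
  rw [Matrix.trace_fin_two] at ht ⊢
  obtain ⟨a, b, hab⟩ := rep_one h2 (A := M 1 0) (B := M 1 1 - M 0 0) (C := -M 0 1)
    (by intro h; apply ht; linear_combination h + 4 * hdet)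
  refine ⟨!![a, M 0 0 * a + M 0 1 * b; b, M 1 0 * a + M 1 1 * b], ?_, ?_⟩
  · simp [Matrix.det_fin_two]; linear_combination hab
  · ext i j
    fin_cases i <;> fin_cases j <;> simp [Matrix.mul_apply, Fin.sum_univ_two]
    · linear_combination (-a) * hdet
    · linear_combination (-b) * hdet

theorem conj_of_same_trace [Fintype F] (h2 : (2 : F) ≠ 0) {X Y : GL (Fin 2) F}
    (hX : (X : M2 F).det = 1) (hY : (Y : M2 F).det = 1)
    (htr : (X : M2 F).trace = (Y : M2 F).trace) (ht : (X : M2 F).trace * (X : M2 F).trace - 4 ≠ 0) :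
    ∃ g ∈ Cfsg.Geo.specialLinear (Fin 2) F, g⁻¹ * X * g = Y := by
  obtain ⟨P, hP1, hP⟩ := exists_companion h2 hX ht
  obtain ⟨Q, hQ1, hQ⟩ := exists_companion h2 hY (htr ▸ ht)
  let Pu : GL (Fin 2) F := Matrix.GeneralLinearGroup.mkOfDetNeZero P (by rw [hP1]; exact one_ne_zero)
  let Qu : GL (Fin 2) F := Matrix.GeneralLinearGroup.mkOfDetNeZero Q (by rw [hQ1]; exact one_ne_zero)
  have hPv : (Pu : M2 F) = P := rfl
  have hQv : (Qu : M2 F) = Q := rfl
  refine ⟨Pu * Qu⁻¹, ?_, ?_⟩
  · have hPs : Pu ∈ Cfsg.Geo.specialLinear (Fin 2) F := MonoidHom.mem_ker.mpr (Units.ext hP1)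
    have hQs : Qu ∈ Cfsg.Geo.specialLinear (Fin 2) F := MonoidHom.mem_ker.mpr (Units.ext hQ1)
    exact Subgroup.mul_mem _ hPs (Subgroup.inv_mem _ hQs)
  · let Cu : GL (Fin 2) F := Pu⁻¹ * X * Pu
    have hC : (Cu : M2 F) = !![0, -1; 1, (X : M2 F).trace] := by
      show (Pu⁻¹ : GL (Fin 2) F).val * X.val * Pu.val = _
      rw [mul_assoc, hPv, hP, ← mul_assoc, ← hPv, ← Units.val_mul, inv_mul_cancel, Units.val_one,
        one_mul]
    have hC' : Y * Qu = Qu * Cu := by
      ext1
      rw [Units.val_mul, Units.val_mul, hC, hQv, htr, hQ]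
    have e1 : (Pu * Qu⁻¹)⁻¹ * X * (Pu * Qu⁻¹) = Qu * Cu * Qu⁻¹ := by
      simp [Cu, mul_assoc]
    rw [e1, ← hC', mul_inv_cancel_right]

theorem a_pow (k : ℕ) : (QuaternionGroup.a 1 : QuaternionGroup 2) ^ k = QuaternionGroup.a k :=
  QuaternionGroup.a_one_pow k

theorem quat_gen : Subgroup.closure
    ({QuaternionGroup.a 1, QuaternionGroup.xa 0} : Set (QuaternionGroup 2)) = ⊤ := by
  rw [eq_top_iff]
  intro x _
  set S : Subgroup (QuaternionGroup 2) :=
    Subgroup.closure ({QuaternionGroup.a 1, QuaternionGroup.xa 0} : Set (QuaternionGroup 2))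
  have ha : ∀ k : ZMod (2 * 2), QuaternionGroup.a k ∈ S := fun k => by
    rw [← ZMod.natCast_zmod_val k, ← a_pow]
    exact S.pow_mem (Subgroup.subset_closure (Set.mem_insert _ _)) _
  rcases x with k | k
  · exact ha k
  · have : (QuaternionGroup.xa k : QuaternionGroup 2) = QuaternionGroup.xa 0 * QuaternionGroup.a k := by
      rw [QuaternionGroup.xa_mul_a, zero_add]
    rw [this]
    exact S.mul_mem (Subgroup.subset_closure (Set.mem_insert_of_mem _ rfl)) (ha k)

theorem perm_fix_of_five_le {Q : Type*} [Group Q] [Fintype Q] [DecidableEq Q]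
    (hQ : Fintype.card Q = 8) (c : Q) (hc : c ≠ 1) (π : Equiv.Perm Q) (r : ℕ) (hr : r.Prime)
    (hr5 : 5 ≤ r) (hpi : π ^ r = 1) (h1 : π 1 = 1) (hcm : ∀ u, π (c * u) = c * π u) : π = 1 := by
  by_contra hne
  have : Fact r.Prime := ⟨hr⟩
  have hord : orderOf π = r := orderOf_eq_prime hpi hne
  obtain ⟨n, hn⟩ := Equiv.Perm.cycleType_prime_order (σ := π) (by rw [hord]; exact hr)
  have hs := π.sum_cycleType
  rw [hn, hord, Multiset.sum_replicate, smul_eq_mul] at hs
  have hπc : π c = c := by simpa [h1] using hcm 1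
  have hsub : π.support ⊆ Finset.univ \ {1, c} := fun y hy => by
    rw [Equiv.Perm.mem_support] at hy
    simp only [Finset.mem_sdiff, Finset.mem_univ, Finset.mem_insert, Finset.mem_singleton, true_and]
    rintro (rfl | rfl) <;> contradiction
  have hle := Finset.card_le_card hsub
  rw [Finset.card_sdiff_of_subset (Finset.subset_univ _), Finset.card_pair hc.symm,
    Finset.card_univ, hQ] at hle
  have h5 : π.support.card = r := by
    rcases Nat.eq_zero_or_pos n with rfl | hn0
    · omega
    · have := Nat.mul_le_mul_right r (show 2 ≤ n + 1 by omega)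
      omega
  obtain ⟨u, hu⟩ : ∃ u, u ∈ (Finset.univ \ {1, c}) \ π.support := by
    apply Finset.card_pos.mp
    rw [Finset.card_sdiff_of_subset hsub, Finset.card_sdiff_of_subset (Finset.subset_univ _),
      Finset.card_pair hc.symm, Finset.card_univ, hQ, h5]
    have hr6 : r ≠ 6 := fun h => by rw [h] at hr; norm_num at hr
    omega
  simp only [Finset.mem_sdiff, Finset.mem_univ, Finset.mem_insert, Finset.mem_singleton, true_and,
    Equiv.Perm.mem_support, not_or, ne_eq, not_not] at hu
  obtain ⟨⟨hu1, huc⟩, hπu⟩ := hu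
  have hsub2 : π.support ⊆ (Finset.univ \ {1, c}) \ ({u, c * u} : Finset Q) := fun y hy => by
    have hy' := hsub hy
    rw [Equiv.Perm.mem_support] at hy
    simp only [Finset.mem_sdiff, Finset.mem_univ, Finset.mem_insert, Finset.mem_singleton, true_and,
      not_or] at hy' ⊢
    refine ⟨hy', fun h => hy (h ▸ hπu), fun h => hy ?_⟩
    rw [h, hcm, hπu]
  have hcu : u ≠ c * u := fun h => hc (mul_eq_right.mp h.symm)
  by_cases hsq : c * u = 1
  · -- then `π` fixes `c⁻¹`, distinct from `1`, `c`, or equal to `c`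
    have hinv : u = c⁻¹ := eq_inv_of_mul_eq_one_right hsq
    have hcne : c * c ≠ 1 := fun h => huc (hinv.trans (inv_eq_of_mul_eq_one_left h))
    have hc2 : π (c * c) = c * c := by rw [hcm, hπc]
    have hsub3 : π.support ⊆ Finset.univ \ ({1, c, u, c * c} : Finset Q) := fun y hy => by
      rw [Equiv.Perm.mem_support] at hy
      simp only [Finset.mem_sdiff, Finset.mem_univ, Finset.mem_insert, Finset.mem_singleton, true_and]
      rintro (rfl | rfl | rfl | rfl) <;> contradiction
    by_cases hccu : c * c = u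
    · -- `c` has order three, impossible in a group of order eight
      have h3 : c ^ 3 = 1 := by rw [pow_succ', pow_two, hccu, hsq]
      have := orderOf_eq_prime (p := 3) h3 hc
      have hd : orderOf c ∣ Fintype.card Q := orderOf_dvd_card
      rw [this, hQ] at hd; omega
    have hcard4 : ({1, c, u, c * c} : Finset Q).card = 4 := by
      rw [Finset.card_insert_of_notMem (by simp [Ne.symm hc, Ne.symm hu1, Ne.symm hcne]),
        Finset.card_insert_of_notMem (by simp [Ne.symm huc, hc]),
        Finset.card_pair (Ne.symm hccu)]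
    have := Finset.card_le_card hsub3
    rw [Finset.card_sdiff_of_subset (Finset.subset_univ _), hcard4, Finset.card_univ, hQ] at this
    omega
  · have hcuc : c * u ≠ c := fun h => hu1 (mul_eq_left.mp h)
    have := Finset.card_le_card hsub2
    rw [Finset.card_sdiff_of_subset, Finset.card_sdiff_of_subset (Finset.subset_univ _),
      Finset.card_pair hc.symm, Finset.card_pair hcu, Finset.card_univ, hQ] at this
    · omega
    · intro y hy
      simp only [Finset.mem_insert, Finset.mem_singleton] at hy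
      simp only [Finset.mem_sdiff, Finset.mem_univ, Finset.mem_insert, Finset.mem_singleton, true_and, not_or]
      rcases hy with rfl | rfl <;> constructor <;> assumption


/-- Elements of prime order of PSL_2(p) and the normalizer of a quaternion subgroup. Here `T = PSL_2(F)` for the field `F` with `p` elements, `p ≥ 5` prime; `R` is a subgroup of GL_2(F) isomorphic to the quaternion group of order 8 (an absolutely irreducible 2-group of symplectic type), and `H` is the subgroup of matrices of determinant 1 normalizing `R` — a subgroup of type 2^{1+2}.O₂⁻(2), isomorphic modulo scalars to A₄ or S₄ (maximality is not assumed). Ω is the set of cosets of `H` in `T`, so an element of `T` of prime order `r` (a matrix `x` of determinant 1 with `x^r` scalar, `x` not scalar) fixes a point of Ω exactly when some conjugate of `x` by a matrix of determinant 1 normalizes `R`. Let `r` be a prime dividing the index of `H`. Then every element of `T` of order `r` fixes a point of Ω if and only if `r = 2` or `r = 3`.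 -/
theorem result {F : Type*} [Field F] [Fintype F] {p : ℕ} [Fact p.Prime] [CharP F p] (hF : Fintype.card F = p) (hp : 5 ≤ p)
    (R : Subgroup (GL (Fin 2) F)) (hR : Nonempty (↥R ≃* QuaternionGroup 2))
    (r : ℕ) [Fact r.Prime]
    (hΩ : r ∣ (Cfsg.Geo.subgroupNormalizer R).relIndex (Cfsg.Geo.specialLinear (Fin 2) F)) :
    (∀ x ∈ Cfsg.Geo.specialLinear (Fin 2) F, (∃ z : F, ((x ^ r : GL (Fin 2) F) : Matrix (Fin 2) (Fin 2) F) = z • (1 : Matrix (Fin 2) (Fin 2) F)) →
      (∀ z : F, (x : Matrix (Fin 2) (Fin 2) F) ≠ z • (1 : Matrix (Fin 2) (Fin 2) F)) →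
      ∃ g ∈ Cfsg.Geo.specialLinear (Fin 2) F, g⁻¹ * x * g ∈ Cfsg.Geo.subgroupNormalizer R) ↔ (r = 2 ∨ r = 3) := by
  classical
  have h2 : (2 : F) ≠ 0 := by
    intro h
    have : p ∣ 2 := (CharP.cast_eq_zero_iff F p 2).mp (by exact_mod_cast h)
    have := Nat.le_of_dvd (by norm_num) this
    omega
  obtain ⟨e⟩ := hR
  set iu : GL (Fin 2) F := ((e.symm (QuaternionGroup.a 1) : ↥R) : GL (Fin 2) F) with hiu
  set ju : GL (Fin 2) F := ((e.symm (QuaternionGroup.xa 0) : ↥R) : GL (Fin 2) F) with hju
  set cu : GL (Fin 2) F := ((e.symm (QuaternionGroup.a 2) : ↥R) : GL (Fin 2) F) with hcu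
  have hcast : ∀ u v : QuaternionGroup 2, u = v →
      ((e.symm u : ↥R) : GL (Fin 2) F) = ((e.symm v : ↥R) : GL (Fin 2) F) := fun u v h => by rw [h]
  have hii : iu * iu = cu := by
    rw [hiu, hcu, ← Subgroup.coe_mul, ← map_mul]; exact hcast _ _ (by decide)
  have hjj : ju * ju = cu := by
    rw [hju, hcu, ← Subgroup.coe_mul, ← map_mul]; exact hcast _ _ (by decide)
  have hji : ju * iu = cu * (iu * ju) := by
    rw [hiu, hju, hcu, ← Subgroup.coe_mul, ← map_mul, ← Subgroup.coe_mul, ← map_mul,
      ← Subgroup.coe_mul, ← map_mul]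
    exact hcast _ _ (by decide)
  have hcne : cu ≠ 1 := fun h => by
    have h' : (e.symm (QuaternionGroup.a 2) : ↥R) = e.symm 1 := by
      rw [map_one]; exact Subtype.ext h
    exact absurd (e.symm.injective h') (by decide)
  have hc2 : cu * cu = 1 := by
    rw [hcu, ← Subgroup.coe_mul, ← map_mul, show (QuaternionGroup.a 2 : QuaternionGroup 2) * QuaternionGroup.a 2 = 1 by decide,
      map_one, Subgroup.coe_one]
  have hij_ne : iu * ju ≠ ju * iu := fun h => by
    rw [hji] at h
    exact hcne (mul_eq_right.mp h.symm)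
  have hci : cu * iu = iu * cu := by rw [← hii, mul_assoc]
  have hcj : cu * ju = ju * cu := by rw [← hjj, mul_assoc]
  have hc : (cu : M2 F) = -1 := by
    by_cases hs : NS (cu : M2 F)
    · obtain ⟨a, b, hab⟩ := commutant hs (M := (iu : M2 F)) (by rw [← Units.val_mul, ← hci, Units.val_mul])
      obtain ⟨a', b', hab'⟩ := commutant hs (M := (ju : M2 F)) (by rw [← Units.val_mul, ← hcj, Units.val_mul])
      refine absurd (Units.ext ?_) hij_ne
      rw [Units.val_mul, Units.val_mul, hab, hab']
      simp only [add_mul, mul_add, smul_mul_smul_comm, one_mul, mul_one]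
      match_scalars <;> ring
    · simp only [NS, ne_eq, not_forall, not_not] at hs
      obtain ⟨c, hc⟩ := hs
      have h1 := congrArg Units.val hc2
      rw [Units.val_mul, hc, smul_mul_smul_comm, mul_one, Units.val_one] at h1
      have h00 := congrFun (congrFun h1 0) 0
      simp at h00
      rcases (mul_self_eq_one_iff.mp h00) with rfl | rfl
      · exact absurd (Units.ext (by rw [hc, one_smul, Units.val_one])) hcne
      · rw [hc, neg_one_smul]
  set A : M2 F := (iu : M2 F) with hAdef
  set B : M2 F := (ju : M2 F) with hBdef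
  have hA : A * A = -1 := by rw [hAdef, ← Units.val_mul, hii, hc]
  have hB : B * B = -1 := by rw [hBdef, ← Units.val_mul, hjj, hc]
  have hBA : B * A = -(A * B) := by
    rw [hBdef, hAdef, ← Units.val_mul, hji, Units.val_mul, Units.val_mul, hc, neg_one_mul]
  have hAns := ns_of_anticomm h2 hA hB hBA
  obtain ⟨hAtr, hAdet⟩ := quad_coeff hAns (a := 0) (b := 1) (by rw [hA, zero_smul, one_smul, add_zero, neg_add_cancel])
  obtain ⟨hw1, hw2, hw3⟩ := omegaM_mul_left h2 hA hB hBA
  have hwns : NS (omegaM A B) := fun c h => by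
    rw [h, smul_mul_assoc, mul_smul_comm, one_mul, mul_one] at hw2
    by_cases hc0 : c = 0
    · rw [h, hc0] at hw1
      have := congrFun (congrFun hw1 0) 0
      simp at this
    · have hAB : A = B := smul_right_injective _ hc0 hw2
      apply hij_ne
      rw [show iu = ju from Units.ext hAB]
  obtain ⟨hwtr, hwdet⟩ := quad_coeff hwns hw1
  let wu : GL (Fin 2) F :=
    Matrix.GeneralLinearGroup.mkOfDetNeZero (omegaM A B) (by rw [hwdet]; exact one_ne_zero)
  have hwv : (wu : M2 F) = omegaM A B := rfl
  set N := Cfsg.Geo.subgroupNormalizer R with hN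
  have hRN : R ≤ N := Subgroup.le_normalizer
  have hiR : iu ∈ R := (e.symm _).2
  have hjR : ju ∈ R := (e.symm _).2
  have hgen : R ≤ Subgroup.closure {iu, ju} := by
    intro x hx
    have h1 : e ⟨x, hx⟩ ∈ Subgroup.closure
        ({QuaternionGroup.a 1, QuaternionGroup.xa 0} : Set (QuaternionGroup 2)) := by
      rw [quat_gen]; exact Subgroup.mem_top _
    have h2 := Subgroup.mem_map_of_mem (R.subtype.comp e.symm.toMonoidHom) h1
    rw [MonoidHom.map_closure, Set.image_insert_eq, Set.image_singleton] at h2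
    simpa using h2
  have hwi : wu * iu * wu⁻¹ = ju := by
    rw [mul_inv_eq_iff_eq_mul]; exact Units.ext hw2
  have hwj : wu * ju * wu⁻¹ = iu * ju := by
    rw [mul_inv_eq_iff_eq_mul]; exact Units.ext hw3
  have hwN : wu ∈ N := by
    have hconj : R.map (MulAut.conj wu).toMonoidHom ≤ R := by
      refine (Subgroup.map_mono hgen).trans ?_
      rw [MonoidHom.map_closure, Subgroup.closure_le, Set.image_insert_eq, Set.image_singleton]
      rintro x (rfl | rfl)
      · show wu * iu * wu⁻¹ ∈ R
        rw [hwi]; exact hjR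
      · show wu * ju * wu⁻¹ ∈ R
        rw [hwj]; exact R.mul_mem hiR hjR
    have hfin : Finite R := Finite.of_equiv _ e.symm.toEquiv
    have heq : R.map (MulAut.conj wu).toMonoidHom = R :=
      Subgroup.eq_of_le_of_card_ge hconj
        (by rw [Subgroup.card_map_of_injective (MulAut.conj wu).injective])
    show wu ∈ Subgroup.normalizer (R : Set (GL (Fin 2) F))
    rw [Subgroup.mem_normalizer_iff]
    intro x
    conv_rhs => rw [← heq]
    constructor
    · exact fun hx => ⟨x, hx, rfl⟩
    · rintro ⟨y, hy, hyx⟩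
      rwa [← (MulAut.conj wu).injective hyx]
  have hnegN : cu ∈ N := hRN (e.symm _).2
  have hSL : ∀ g : GL (Fin 2) F, g ∈ Cfsg.Geo.specialLinear (Fin 2) F ↔ (g : M2 F).det = 1 :=
    fun g => by
      show g ∈ MonoidHom.ker _ ↔ _
      rw [MonoidHom.mem_ker, Units.ext_iff]; rfl
  have hscal : ∀ X : GL (Fin 2) F, (X : M2 F).det = 1 → ∀ z : F, ∀ k : ℕ,
      ((X ^ k : GL (Fin 2) F) : M2 F) = z • (1 : M2 F) → z = 1 ∨ z = -1 := by
    intro X hX z k hz
    have h := congrArg Matrix.det hz
    rw [Units.val_pow_eq_pow_val, Matrix.det_pow, hX, one_pow, Matrix.det_smul, Fintype.card_fin,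
      Matrix.det_one, mul_one] at h
    exact mul_self_eq_one_iff.mp (by linear_combination -h)
  constructor
  · intro hall
    by_contra hr
    push Not at hr
    have hrp : r.Prime := Fact.out
    have hr5 : 5 ≤ r := by
      by_contra hlt
      have := hrp.two_le
      have h4 : r ≠ 4 := fun h => by rw [h] at hrp; norm_num at hrp
      omega
    have hdvd : r ∣ Nat.card (Cfsg.Geo.specialLinear (Fin 2) F) := hΩ.trans (Subgroup.relIndex_dvd_card _ _)
    obtain ⟨x, hx⟩ := exists_prime_orderOf_dvd_card' (G := Cfsg.Geo.specialLinear (Fin 2) F) r hdvd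
    have hxo : orderOf (x : GL (Fin 2) F) = r := by rw [Subgroup.orderOf_coe, hx]
    have hxr : (x : GL (Fin 2) F) ^ r = 1 := by rw [← hxo]; exact pow_orderOf_eq_one _
    have hxns : NS ((x : GL (Fin 2) F) : M2 F) := by
      intro z hz
      rcases hscal x ((hSL _).mp x.2) z 1 (by rw [pow_one]; exact hz) with rfl | rfl
      · have : (x : GL (Fin 2) F) = 1 := Units.ext (by rw [hz, one_smul, Units.val_one])
        rw [this, orderOf_one] at hxo; omega
      · have : (x : GL (Fin 2) F) ^ 2 = 1 := Units.ext (by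
          rw [Units.val_pow_eq_pow_val, hz, neg_one_smul, neg_one_sq, Units.val_one])
        have := Nat.le_of_dvd (by norm_num) (hxo ▸ orderOf_dvd_of_pow_eq_one this)
        omega
    obtain ⟨g, -, hg⟩ := hall x x.2 ⟨1, by rw [hxr, one_smul, Units.val_one]⟩ hxns
    obtain ⟨y, hy⟩ : ∃ y, y = g⁻¹ * (x : GL (Fin 2) F) * g := ⟨_, rfl⟩
    rw [← hy] at hg
    have hyr : y ^ r = 1 := by
      have := conj_pow (i := r) (a := g⁻¹) (b := (x : GL (Fin 2) F))
      rw [inv_inv] at this
      rw [hy, this, hxr, mul_one, inv_mul_cancel]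
    let : Fintype R := Fintype.ofEquiv _ e.symm.toEquiv
    have hcardR : Fintype.card R = 8 := by rw [Fintype.card_congr e.toEquiv, QuaternionGroup.card]
    let π : Equiv.Perm R :=
      { toFun := fun u => ⟨y * u * y⁻¹, (Subgroup.mem_normalizer_iff.mp hg u).mp u.2⟩
        invFun := fun u => ⟨y⁻¹ * u * y, by
          have := (Subgroup.mem_normalizer_iff.mp (inv_mem hg) u).mp u.2
          rwa [inv_inv] at this⟩
        left_inv := fun u => Subtype.ext (by simp [mul_assoc])
        right_inv := fun u => Subtype.ext (by simp [mul_assoc]) }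
    have hπk : ∀ (k : ℕ) (u : R), ((π ^ k) u : GL (Fin 2) F) = y ^ k * u * (y ^ k)⁻¹ := by
      intro k
      induction k with
      | zero => intro u; simp
      | succ k ih =>
        intro u
        rw [pow_succ', Equiv.Perm.mul_apply]
        show y * ((π ^ k) u : GL (Fin 2) F) * y⁻¹ = _
        rw [ih, pow_succ', _root_.mul_inv_rev]
        simp [mul_assoc]
    have hπ := perm_fix_of_five_le hcardR (e.symm (QuaternionGroup.a 2))
      (fun h => hcne (congrArg Subtype.val h)) π r hrp hr5
      (by ext1 u; exact Subtype.ext (by rw [hπk, hyr]; simp))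
      (Subtype.ext (by simp [π]))
      (fun u => Subtype.ext (by
        show y * (cu * (u : GL (Fin 2) F)) * y⁻¹ = cu * (y * u * y⁻¹)
        have hcomm : ∀ z : GL (Fin 2) F, cu * z = z * cu := fun z => Units.ext (by
          rw [Units.val_mul, Units.val_mul, hc, neg_one_mul, mul_neg_one])
        rw [← mul_assoc y, ← hcomm y]; simp [mul_assoc]))
    have hcom : ∀ u : R, ((y : GL (Fin 2) F) : M2 F) * ((u : GL (Fin 2) F) : M2 F) =
        ((u : GL (Fin 2) F) : M2 F) * (y : M2 F) := by
      intro u
      have h : y * (u : GL (Fin 2) F) * y⁻¹ = u := congrArg Subtype.val (Equiv.Perm.ext_iff.mp hπ u)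
      rw [← Units.val_mul, ← Units.val_mul, mul_inv_eq_iff_eq_mul.mp h]
    obtain ⟨a, b, hab⟩ := commutant hAns (hcom ⟨iu, hiR⟩)
    have hb : b = 0 := by
      have h := hcom ⟨ju, hjR⟩
      simp only [hab, ← hBdef, add_mul, mul_add, smul_mul_assoc, mul_smul_comm, one_mul, mul_one, hBA] at h
      have h' : ((2 : F) * b) • (A * B) = 0 := by
        rw [mul_smul, two_smul]
        nth_rewrite 2 [show b • (A * B) = -(b • -(A * B)) by rw [smul_neg, neg_neg]]
        rw [← sub_eq_add_neg, sub_eq_zero]
        exact add_left_cancel h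
      rcases smul_eq_zero.mp h' with h'' | h''
      · exact (mul_eq_zero.mp h'').resolve_left h2
      · exact absurd h'' (iu * ju).ne_zero
    rw [hb, zero_smul, add_zero] at hab
    refine hxns a ?_
    have hxy : (x : GL (Fin 2) F) = g * y * g⁻¹ := by simp [hy, mul_assoc]
    rw [hxy, Units.val_mul, Units.val_mul, hab, mul_smul_comm, mul_one, smul_mul_assoc,
      ← Units.val_mul, mul_inv_cancel, Units.val_one]
  · intro hr x hx hz hns
    obtain ⟨z, hz⟩ := hz
    have hxdet := (hSL x).mp hx
    rcases hr with rfl | rfl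
    · have hz' := hscal x hxdet z 2 hz
      rw [Units.val_pow_eq_pow_val, pow_two] at hz
      obtain ⟨htr, hdet⟩ := quad_coeff (M := (x : M2 F)) hns (a := 0) (b := -z)
        (by rw [hz, zero_smul, add_zero, neg_smul, add_neg_cancel])
      rcases hz' with rfl | rfl
      · exfalso
        exact h2 (by linear_combination hdet - hxdet)
      rw [neg_zero] at htr hAtr
      obtain ⟨g, hg, hge⟩ := conj_of_same_trace (X := x) (Y := iu) h2 hxdet hAdet
        (htr.trans hAtr.symm) (by
          rw [htr, show (0 : F) * 0 - 4 = -((2 : F) * 2) by ring, neg_ne_zero]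
          exact mul_ne_zero h2 h2)
      exact ⟨g, hg, by rw [hge]; exact hRN hiR⟩
    · have hz' := hscal x hxdet z 3 hz
      have h3 : (3 : F) ≠ 0 := fun h => by
        have : p ∣ 3 := (CharP.cast_eq_zero_iff F p 3).mp (by exact_mod_cast h)
        have := Nat.le_of_dvd (by norm_num) this
        omega
      rw [Units.val_pow_eq_pow_val, pow_succ, pow_two, cayley (x : M2 F), hxdet, sub_mul,
        smul_mul_assoc, smul_mul_assoc, one_mul, one_smul, cayley (x : M2 F), hxdet, one_smul] at hz
      set t := (x : M2 F).trace with htdef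
      have hcoef : (t * t - 1) • (x : M2 F) = (t + z) • (1 : M2 F) := by
        rw [add_smul, ← hz]; module
      have ht1 : t * t - 1 = 0 := by
        by_contra hne
        refine hns ((t * t - 1)⁻¹ * (t + z)) ?_
        rw [mul_smul, ← hcoef, inv_smul_smul₀ hne]
      have htz : t = -z := by
        rw [ht1, zero_smul] at hcoef
        have := congrFun (congrFun hcoef 0) 0
        simp at this
        linear_combination -this
      have hdisc : t * t - 4 ≠ 0 := fun h => h3 (by linear_combination ht1 - h)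
      rcases hz' with rfl | rfl
      · obtain ⟨g, hg, hge⟩ := conj_of_same_trace (X := x) (Y := wu) h2 hxdet (hwv ▸ hwdet)
          (by rw [hwv, hwtr]; exact htz) hdisc
        exact ⟨g, hg, by rw [hge]; exact hwN⟩
      · have hd' : ((cu * wu : GL (Fin 2) F) : M2 F).det = 1 := by
          rw [Units.val_mul, hc, neg_one_mul, Matrix.det_neg, Fintype.card_fin, hwv, hwdet]; simp
        obtain ⟨g, hg, hge⟩ := conj_of_same_trace (X := x) (Y := cu * wu) h2 hxdet hd'
          (by
            rw [Units.val_mul, hc, neg_one_mul, Matrix.trace_neg, hwv, hwtr]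
            exact htz) hdisc
        exact ⟨g, hg, by rw [hge]; exact N.mul_mem hnegN hwN⟩

end Cfsg.Agent.S5997
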