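import Cfsg.Statements.S5998
import Cfsg.Agent.Lib.HeisenbergThree

set_option autoImplicit false
open scoped MatrixGroups
open Cfsg

namespace Cfsg.Agent.S5998

open Matrix
open Cfsg.Agent.HeisenbergThree

variable {F : Type*} [Field F]

/-- The fixed points of a permutation of prime order. -/
theorem fixed_mod {α : Type*} [Fintype α] [DecidableEq α] (φ : Equiv.Perm α) {r : ℕ} [Fact r.Prime]
    (h : φ ^ r = 1) : Fintype.card (Function.fixedPoints φ) ≡ Fintype.card α [MOD r] := by
  let f : Function.End α := (φ : α → α)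
  have hf : ∀ n : ℕ, f ^ n = ((φ ^ n : Equiv.Perm α) : α → α) := by
    intro n
    induction n with
    | zero => rfl
    | succ n ih => rw [pow_succ, pow_succ, ih]; rfl
  exact (Equiv.Perm.card_fixedPoints_modEq (f := f) (p := r) (n := 1)
    (by rw [hf, pow_one, h]; rfl)).symm

theorem val_sc_pow (x : GL (Fin 3) F) {z : F} {r : ℕ}
    (h : ((x ^ r : GL (Fin 3) F) : Matrix (Fin 3) (Fin 3) F) = z • 1) (hx : x ∈ Cfsg.Geo.specialLinear (Fin 3) F) :
    z ^ 3 = 1 := by
  have hd : GeneralLinearGroup.det (x ^ r) = 1 := by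
    rw [map_pow, show GeneralLinearGroup.det x = 1 from hx, one_pow]
  have := congrArg Units.val hd
  rw [GeneralLinearGroup.val_det_apply, h, det_smul, det_one, mul_one, Units.val_one, Fintype.card_fin] at this
  exact this

theorem card_sl [Fintype F] {p : ℕ} (hF : Fintype.card F = p) :
    Nat.card (Cfsg.Geo.specialLinear (Fin 3) F) * (p - 1) = (p ^ 3 - 1) * (p ^ 3 - p) * (p ^ 3 - p ^ 2) := by
  have hs : Function.Surjective (GeneralLinearGroup.det : GL (Fin 3) F →* Fˣ) := fun u =>
    ⟨dg ![u, 1, 1], Units.ext (by simp [GeneralLinearGroup.val_det_apply, dg_val, Fin.prod_univ_three])⟩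
  have h := Subgroup.card_mul_index (GeneralLinearGroup.det : GL (Fin 3) F →* Fˣ).ker
  rw [Subgroup.index_ker, MonoidHom.range_eq_top.mpr hs, Subgroup.card_top, Nat.card_units,
    Nat.card_eq_fintype_card (α := F), hF, Matrix.card_GL_field, Fin.prod_univ_three, hF] at h
  simpa [Cfsg.Geo.specialLinear] using h

/-- Elements of prime order of PSL_3(p), p ≡ 1 (mod 3), and the normalizer of an extraspecial subgroup of order 27. Here `T = PSL_3(F)` for the field `F` with `p` elements, `p` a prime with `p ≡ 1 (mod 3)`; `R` is a non-abelian subgroup of GL_3(F) of order 27 and exponent 3 (an extraspecial group 3^{1+2}, acting absolutely irreducibly), and `H` is the subgroup of matrices of determinant 1 normalizing `R` — a subgroup of type 3^{1+2}.Sp₂(3) (maximality is not assumed). Ω is the set of cosets of `H` in `T`, so an element of `T` of prime order `r` (a matrix `x` of determinant 1 with `x^r` scalar, `x` not scalar) fixes a point of Ω exactly when some conjugate of `x` by a matrix of determinant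 1 normalizes `R`. Let `r` be a prime dividing the index of `H`. Then every element of `T` of order `r` fixes a point of Ω if and only if `r = 2`, or `r = 3` and `p ≡ 1 (mod 9)`. -/
theorem result {F : Type*} [Field F] [Fintype F] {p : ℕ} [Fact p.Prime] [CharP F p] (hF : Fintype.card F = p) (hp3 : p % 3 = 1)
    (R : Subgroup (GL (Fin 3) F)) (hR : Nat.card R = 27) (hRe : Monoid.exponent R = 3) (hRna : ¬ IsMulCommutative R)
    (r : ℕ) [Fact r.Prime]
    (hΩ : r ∣ (Cfsg.Geo.subgroupNormalizer R).relIndex (Cfsg.Geo.specialLinear (Fin 3) F)) :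
    (∀ x ∈ Cfsg.Geo.specialLinear (Fin 3) F, (∃ z : F, ((x ^ r : GL (Fin 3) F) : Matrix (Fin 3) (Fin 3) F) = z • (1 : Matrix (Fin 3) (Fin 3) F)) →
      (∀ z : F, (x : Matrix (Fin 3) (Fin 3) F) ≠ z • (1 : Matrix (Fin 3) (Fin 3) F)) →
      ∃ g ∈ Cfsg.Geo.specialLinear (Fin 3) F, g⁻¹ * x * g ∈ Cfsg.Geo.subgroupNormalizer R) ↔ (r = 2 ∨ (r = 3 ∧ p % 9 = 1)) := by
  classical
  have hpr := Fact.out (p := p.Prime)
  have hp2 : p ≠ 2 := by omega
  have hp3' : p ≠ 3 := by omega
  have h2F : (2 : F) ≠ 0 := fun e => hp2 ((Nat.prime_dvd_prime_iff_eq hpr Nat.prime_two).mp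
    ((CharP.cast_eq_zero_iff F p 2).mp (by exact_mod_cast e)))
  have h3F : (3 : F) ≠ 0 := fun e => hp3' ((Nat.prime_dvd_prime_iff_eq hpr Nat.prime_three).mp
    ((CharP.cast_eq_zero_iff F p 3).mp (by exact_mod_cast e)))
  -- roots of unity
  have root : ∀ d : ℕ, d ∣ p - 1 → ∃ η : F, orderOf η = d := by
    intro d hd
    obtain ⟨g, hg⟩ := IsCyclic.exists_ofOrder_eq_natCard (α := Fˣ)
    rw [Nat.card_units, Nat.card_eq_fintype_card, hF] at hg
    obtain ⟨m, hm⟩ := hd
    have hp1 : 0 < p - 1 := by have := hpr.two_le; omega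
    have hm0 : m ≠ 0 := fun e => by rw [e, mul_zero] at hm; omega
    refine ⟨((g ^ m : Fˣ) : F), ?_⟩
    rw [orderOf_units, orderOf_pow_of_dvd hm0 ⟨d, by rw [hg, hm, mul_comm]⟩, hg, hm,
      Nat.mul_div_left _ (Nat.pos_of_ne_zero hm0)]
  obtain ⟨ω₀, hω₀⟩ := root 3 (by omega)
  have hw3 : ω₀ ^ 3 = 1 := by rw [← hω₀]; exact pow_orderOf_eq_one ω₀
  have hw1 : ω₀ ≠ 1 := fun e => by rw [e, orderOf_one] at hω₀; omega
  obtain ⟨T⟩ := exists_form h3F hw3 hw1 R hR hRe hRna
  have hTw3 : (T.ω : F) ^ 3 = 1 := by rw [← Units.val_pow_eq_pow_val, T.cube, Units.val_one]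
  have hTw1 : (T.ω : F) ≠ 1 := fun e => T.ne (Units.ext e)
  constructor
  · intro hall
    by_cases hr3 : r = 3
    · subst hr3
      refine Or.inr ⟨rfl, ?_⟩
      by_contra h9
      -- the index is prime to 3
      have hRS : R ≤ Cfsg.Geo.subgroupNormalizer R ⊓ Cfsg.Geo.specialLinear (Fin 3) F :=
        le_inf Subgroup.le_normalizer fun g hg => T.det_one hg
      have h27 : 27 ∣ Nat.card ↥(Cfsg.Geo.subgroupNormalizer R ⊓ Cfsg.Geo.specialLinear (Fin 3) F) :=
        hR ▸ Subgroup.card_dvd_of_le hRS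
      have hmul : Nat.card ↥(Cfsg.Geo.subgroupNormalizer R ⊓ Cfsg.Geo.specialLinear (Fin 3) F) *
          (Cfsg.Geo.subgroupNormalizer R).relIndex (Cfsg.Geo.specialLinear (Fin 3) F) =
          Nat.card (Cfsg.Geo.specialLinear (Fin 3) F) := by
        rw [← Subgroup.inf_relIndex_right, ← Subgroup.card_mul_index
          ((Cfsg.Geo.subgroupNormalizer R ⊓ Cfsg.Geo.specialLinear (Fin 3) F).subgroupOf
            (Cfsg.Geo.specialLinear (Fin 3) F)), Nat.card_congr (Subgroup.subgroupOfEquivOfLe
            (inf_le_right : Cfsg.Geo.subgroupNormalizer R ⊓ Cfsg.Geo.specialLinear (Fin 3) F ≤ _)).toEquiv]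
        rfl
      obtain ⟨a, ha⟩ := h27
      obtain ⟨b, hb⟩ := hΩ
      rw [ha, hb] at hmul
      have hc := card_sl (F := F) hF
      rw [← hmul] at hc
      obtain ⟨k, rfl⟩ : ∃ k, p = 3 * k + 1 := ⟨p / 3, by omega⟩
      have e1 : (3 * k + 1) ^ 3 - 1 = 9 * k * (3 * k ^ 2 + 3 * k + 1) := by
        rw [show (3 * k + 1) ^ 3 = 9 * k * (3 * k ^ 2 + 3 * k + 1) + 1 by ring, Nat.add_sub_cancel]
      have e2 : (3 * k + 1) ^ 3 - (3 * k + 1) = 3 * k * (3 * k + 1) * (3 * k + 2) := by
        rw [show (3 * k + 1) ^ 3 = 3 * k * (3 * k + 1) * (3 * k + 2) + (3 * k + 1) by ring, Nat.add_sub_cancel]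
      have e3 : (3 * k + 1) ^ 3 - (3 * k + 1) ^ 2 = 3 * k * (3 * k + 1) ^ 2 := by
        rw [show (3 * k + 1) ^ 3 = 3 * k * (3 * k + 1) ^ 2 + (3 * k + 1) ^ 2 by ring, Nat.add_sub_cancel]
      rw [Nat.add_sub_cancel, e1, e2, e3] at hc
      have hk0 : 0 < k := by have := hpr.two_le; omega
      have e : 3 * (a * b) = (k * k * (3 * k ^ 2 + 3 * k + 1)) * ((3 * k + 1) ^ 3 * (3 * k + 2)) := by
        apply Nat.eq_of_mul_eq_mul_left (show 0 < 81 * k by omega)
        linear_combination hc
      have h3 : 3 ∣ (k * k * (3 * k ^ 2 + 3 * k + 1)) * ((3 * k + 1) ^ 3 * (3 * k + 2)) := ⟨_, e.symm⟩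
      rcases Nat.prime_three.dvd_mul.mp h3 with h | h
      · rcases Nat.prime_three.dvd_mul.mp h with h | h
        · rcases Nat.prime_three.dvd_mul.mp h with h | h <;> omega
        · have hd : 3 ∣ 3 * k ^ 2 + 3 * k := ⟨k ^ 2 + k, by ring⟩
          have := (Nat.dvd_add_right hd).mp h
          omega
      · rcases Nat.prime_three.dvd_mul.mp h with h | h
        · have := Nat.prime_three.dvd_of_dvd_pow h; omega
        · omega
    · refine Or.inl ?_
      by_contra hr2
      have hdvd : r ∣ Nat.card (Cfsg.Geo.specialLinear (Fin 3) F) :=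
        hΩ.trans (Subgroup.relIndex_dvd_card _ _)
      obtain ⟨⟨x, hx⟩, hxo⟩ := exists_prime_orderOf_dvd_card' r hdvd
      rw [Subgroup.orderOf_mk] at hxo
      have hxr : x ^ r = 1 := hxo ▸ pow_orderOf_eq_one x
      have hns : ∀ z : F, (x : Matrix (Fin 3) (Fin 3) F) ≠ z • 1 := fun z hz => by
        have hz3 := val_sc_pow x (r := 1) (by rw [pow_one]; exact hz) hx
        have : x ^ 3 = 1 := Units.ext (by
          rw [Units.val_pow_eq_pow_val, hz, smul_pow, one_pow, hz3, one_smul, Units.val_one])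
        have := orderOf_dvd_of_pow_eq_one this
        rw [hxo, Nat.prime_dvd_prime_iff_eq (Fact.out) Nat.prime_three] at this
        exact hr3 this
      obtain ⟨g, -, hg⟩ := hall x hx ⟨1, by rw [hxr, one_smul, Units.val_one]⟩ hns
      set y := g⁻¹ * x * g with hy
      -- `y` centralises `R`
      let φ : Equiv.Perm R :=
        { toFun := fun u => ⟨y * u * y⁻¹, (Subgroup.mem_set_normalizer_iff.mp hg u).mp u.2⟩
          invFun := fun u => ⟨y⁻¹ * u * y, (Subgroup.mem_set_normalizer_iff.mp hg _).mpr (by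
            have : y * (y⁻¹ * (u : GL (Fin 3) F) * y) * y⁻¹ = u := by group
            rw [this]; exact u.2)⟩
          left_inv := fun u => Subtype.ext (by simp only; group)
          right_inv := fun u => Subtype.ext (by simp only; group) }
      have hpow : ∀ (n : ℕ) (u : R), (((φ ^ n) u : R) : GL (Fin 3) F) = y ^ n * u * (y ^ n)⁻¹ := by
        intro n
        induction n with
        | zero => intro u; simp
        | succ n ih =>
          intro u
          rw [pow_succ', Equiv.Perm.mul_apply]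
          show y * ((φ ^ n) u : GL (Fin 3) F) * y⁻¹ = _
          rw [ih u]; group
      have hyr : y ^ r = 1 := by
        rw [hy, show g⁻¹ * x * g = g⁻¹ * x * g⁻¹⁻¹ by rw [inv_inv], conj_pow, hxr, mul_one,
          mul_inv_cancel]
      have hφ : φ ^ r ^ 1 = 1 := Equiv.ext fun u => Subtype.ext (by
        rw [pow_one, hpow, hyr]; simp)
      let C : Subgroup (GL (Fin 3) F) := Subgroup.centralizer {y} ⊓ R
      haveI : Fintype R := Fintype.ofFinite _
      have hfix : Nat.card (Function.fixedPoints φ) = Nat.card C := by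
        refine Nat.card_congr
          { toFun := fun u => ⟨u.1.1, Subgroup.mem_centralizer_iff.mpr (fun h hh => ?_), u.1.2⟩
            invFun := fun u => ⟨⟨u.1, u.2.2⟩, ?_⟩
            left_inv := fun u => rfl
            right_inv := fun u => rfl }
        · rw [Set.mem_singleton_iff.mp hh]
          have := congrArg Subtype.val u.2
          exact mul_inv_eq_iff_eq_mul.mp this
        · apply Subtype.ext
          show y * u.1 * y⁻¹ = u.1
          rw [mul_inv_eq_iff_eq_mul]
          exact Subgroup.mem_centralizer_iff.mp u.2.1 y rfl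
      have hmod : Fintype.card (Function.fixedPoints φ) ≡ Fintype.card R [MOD r] :=
        fixed_mod φ (by rwa [pow_one] at hφ)
      rw [← Nat.card_eq_fintype_card, ← Nat.card_eq_fintype_card, hfix, hR] at hmod
      have hscC : sc T.ω ∈ C := ⟨Subgroup.mem_centralizer_iff.mpr (fun h hh => by
        rw [Set.mem_singleton_iff.mp hh]; exact (sc_comm _ _).symm), T.scal⟩
      have hdiv : Nat.card C ∣ 3 ^ 3 := by
        rw [show (3 : ℕ) ^ 3 = Nat.card R by rw [hR]; norm_num]; exact Subgroup.card_dvd_of_le inf_le_right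
      obtain ⟨n, hn, hcard⟩ := (Nat.dvd_prime_pow Nat.prime_three).mp hdiv
      haveI : Finite C := Nat.finite_of_card_ne_zero (by rw [hcard]; positivity)
      have hn0 : n ≠ 0 := fun e0 => by
        subst e0
        haveI := (Nat.card_eq_one_iff_unique.mp (hcard.trans (pow_zero 3))).1
        have e := congrArg Subtype.val (Subsingleton.elim (⟨_, hscC⟩ : C) 1)
        refine hTw1 ?_
        have := congrFun (congrFun (congrArg (fun g : GL (Fin 3) F => (g : Matrix (Fin 3) (Fin 3) F)) e) 0) 0
        simpa [sc_val] using this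
      have hCR : C = R := by
        refine Subgroup.eq_of_le_of_card_ge inf_le_right ?_
        rw [hR, hcard]
        by_contra hlt
        have hn2 : n = 1 ∨ n = 2 := by
          rcases (show n = 0 ∨ n = 1 ∨ n = 2 ∨ n = 3 by omega) with h | h | h | h
          · omega
          · exact Or.inl h
          · exact Or.inr h
          · subst h; norm_num at hlt
        have hd : r ∣ 27 - 3 ^ n := (Nat.modEq_iff_dvd' (by rcases hn2 with rfl | rfl <;> norm_num)).mp
          (hcard ▸ hmod)
        have hrp := Fact.out (p := r.Prime)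
        rcases hn2 with rfl | rfl <;> norm_num at hd
        · rw [show 24 = 2 ^ 3 * 3 by norm_num] at hd
          rcases hrp.dvd_mul.mp hd with h | h
          · exact hr2 ((Nat.prime_dvd_prime_iff_eq hrp Nat.prime_two).mp (hrp.dvd_of_dvd_pow h))
          · exact hr3 ((Nat.prime_dvd_prime_iff_eq hrp Nat.prime_three).mp h)
        · rw [show 18 = 2 * 3 ^ 2 by norm_num] at hd
          rcases hrp.dvd_mul.mp hd with h | h
          · exact hr2 ((Nat.prime_dvd_prime_iff_eq hrp Nat.prime_two).mp h)
          · exact hr3 ((Nat.prime_dvd_prime_iff_eq hrp Nat.prime_three).mp (hrp.dvd_of_dvd_pow h))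
      obtain ⟨z, hz⟩ := T.centralizer (x := y) fun u hu =>
        Subgroup.mem_centralizer_iff.mp (hCR.ge hu).1 y rfl
      refine hns z ?_
      have : x = g * y * g⁻¹ := by rw [hy]; group
      rw [this, Units.val_mul, Units.val_mul, hz, mul_smul_comm, mul_one, smul_mul_assoc, Units.mul_inv]
  · intro hr x hx ⟨z, hz⟩ hns
    have hz3 := val_sc_pow x hz hx
    have hz0 : z ≠ 0 := fun e => by simp [e] at hz3
    rcases hr with rfl | ⟨rfl, h9⟩
    · -- involutions
      have hxx : (x : Matrix (Fin 3) (Fin 3) F) * x = z • 1 := by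
        rw [← Units.val_mul, ← pow_two]; exact hz
      obtain ⟨P, l, hl, hP⟩ := diag_two h2F (X := z • (x : Matrix (Fin 3) (Fin 3) F)) (by
        rw [smul_mul_smul_comm, hxx, smul_smul, show z * z * z = 1 by linear_combination hz3, one_smul])
      have hdetx : (x : Matrix (Fin 3) (Fin 3) F).det = 1 := by
        rw [← GeneralLinearGroup.val_det_apply, show GeneralLinearGroup.det x = 1 from hx, Units.val_one]
      have hprod : l 0 * l 1 * l 2 = 1 := by
        have e := congrArg Matrix.det hP
        rw [det_mul, det_mul, det_diagonal, det_smul, hdetx, Fintype.card_fin, hz3, Fin.prod_univ_three] at e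
        have hPd : (P : Matrix (Fin 3) (Fin 3) F).det ≠ 0 := by
          rw [← GeneralLinearGroup.val_det_apply]; exact Units.ne_zero _
        exact mul_left_cancel₀ hPd (by rw [← e]; ring)
      have hnc : ¬ ∀ i j, l i = l j := by
        intro hc
        have hd : diagonal l = l 0 • (1 : Matrix (Fin 3) (Fin 3) F) := by
          rw [smul_one_eq_diagonal]; exact congrArg diagonal (funext fun i => hc i 0)
        rw [hd, mul_smul_comm, mul_one] at hP
        have hzx : z • (x : Matrix (Fin 3) (Fin 3) F) = l 0 • 1 := by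
          calc z • (x : Matrix (Fin 3) (Fin 3) F) =
              z • (x : Matrix (Fin 3) (Fin 3) F) * (P : Matrix (Fin 3) (Fin 3) F) *
                ((P⁻¹ : GL (Fin 3) F) : Matrix (Fin 3) (Fin 3) F) := by rw [mul_assoc, Units.mul_inv, mul_one]
            _ = _ := by rw [hP, smul_mul_assoc, Units.mul_inv]
        refine hns (z⁻¹ * l 0) ?_
        rw [← smul_smul, ← hzx, smul_smul, inv_mul_cancel₀ hz0, one_smul]
      obtain ⟨π, hπ⟩ : ∃ π : Equiv.Perm (Fin 3), l ∘ π = ![-1, -1, 1] := by
        rcases hl 0 with a | a <;> rcases hl 1 with b | b <;> rcases hl 2 with c | c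
        · exact absurd (fun i j => by fin_cases i <;> fin_cases j <;> simp [a, b, c]) hnc
        · rw [a, b, c] at hprod; exact absurd (by linear_combination -hprod) h2F
        · rw [a, b, c] at hprod; exact absurd (by linear_combination -hprod) h2F
        · exact ⟨Equiv.swap 0 2, funext fun i => by fin_cases i <;> simp [Equiv.swap_apply_def, a, b, c]⟩
        · rw [a, b, c] at hprod; exact absurd (by linear_combination -hprod) h2F
        · exact ⟨Equiv.swap 1 2, funext fun i => by fin_cases i <;> simp [Equiv.swap_apply_def, a, b, c]⟩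
        · exact ⟨1, funext fun i => by fin_cases i <;> simp [a, b, c]⟩
        · rw [a, b, c] at hprod; exact absurd (by linear_combination -hprod) h2F
      have hunit : IsUnit ((P : Matrix (Fin 3) (Fin 3) F).submatrix id π) :=
        (Matrix.isUnit_submatrix_equiv (Equiv.refl _) π).mpr P.isUnit
      have hQ : IsUnit (!![1, 0, 0; 0, 1, 1; 0, 1, -1] : Matrix (Fin 3) (Fin 3) F) := by
        rw [Matrix.isUnit_iff_isUnit_det, isUnit_iff_ne_zero, det_fin_three]
        simp
        intro e; exact h2F (by linear_combination -e)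
      set z' : Fˣ := Units.mk0 (z ^ 2) (pow_ne_zero 2 hz0) with hz'
      have hxP : (x : Matrix (Fin 3) (Fin 3) F) * (hunit.unit : GL (Fin 3) F) =
          (hunit.unit : GL (Fin 3) F) * diagonal (fun i => z ^ 2 * (![-1, -1, 1] : Fin 3 → F) i) := by
        rw [IsUnit.unit_spec]
        ext i j
        have e := congrFun (congrFun hP i) (π j)
        rw [mul_diagonal, smul_mul_assoc, Matrix.smul_apply, smul_eq_mul] at e
        rw [mul_diagonal, ← hπ]
        simp only [Function.comp_apply, submatrix_apply, id]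
        have eM : ((x : Matrix (Fin 3) (Fin 3) F) * (P : Matrix (Fin 3) (Fin 3) F).submatrix id π) i j =
            ((x : Matrix (Fin 3) (Fin 3) F) * (P : Matrix (Fin 3) (Fin 3) F)) i (π j) := rfl
        rw [eM]
        linear_combination (z ^ 2) * e - ((x : Matrix (Fin 3) (Fin 3) F) * (P : Matrix (Fin 3) (Fin 3) F)) i (π j) * hz3
      have hy : ((T.P * (sc z' * inv2) * T.P⁻¹ : GL (Fin 3) F) : Matrix (Fin 3) (Fin 3) F) *
          (T.P * hQ.unit : GL (Fin 3) F) =
          (T.P * hQ.unit : GL (Fin 3) F) * diagonal (fun i => z ^ 2 * (![-1, -1, 1] : Fin 3 → F) i) := by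
        rw [← Units.val_mul, show T.P * (sc z' * inv2) * T.P⁻¹ * (T.P * hQ.unit) =
          T.P * ((sc z' * inv2) * hQ.unit) by group, Units.val_mul, Units.val_mul _ hQ.unit, Units.val_mul T.P, mul_assoc]
        congr 1
        rw [Units.val_mul, sc_val, IsUnit.unit_spec, smul_mul_assoc, one_mul, smul_mul_assoc]
        ext i j
        rw [Matrix.smul_apply, mul_diagonal, smul_eq_mul, hz']
        fin_cases i <;> fin_cases j <;> simp [inv2, mul_apply, Fin.sum_univ_three] <;> ring
      obtain ⟨g, hg, hge⟩ := conj_of_diag hxP hy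
      refine ⟨g, hg, ?_⟩
      rw [hge, show T.P * (sc z' * inv2) * T.P⁻¹ = sc z' * (T.P * inv2 * T.P⁻¹) by
        rw [← mul_assoc T.P, ← sc_comm z' T.P]; group]
      refine Subgroup.mul_mem _ ?_ T.inv2_mem
      rw [Cfsg.Geo.subgroupNormalizer, Subgroup.mem_set_normalizer_iff]
      intro u
      rw [sc_comm, mul_inv_cancel_right]
    · -- elements of order three
      obtain ⟨η, hη⟩ := root 9 (by omega)
      have hη3 : IsPrimitiveRoot (η ^ 3) 3 := by
        refine IsPrimitiveRoot.iff_orderOf.mpr ?_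
        rw [orderOf_pow_of_dvd (by omega) (by rw [hη]; norm_num), hη]
      obtain ⟨i, -, hi⟩ := hη3.eq_pow_of_pow_eq_one hz3
      have hη0 : η ^ i ≠ 0 := pow_ne_zero _ (fun e => by
        rw [e, orderOf_zero] at hη; omega)
      set ζ : Fˣ := Units.mk0 (η ^ i) hη0 with hζ
      have hζ3 : (ζ : F) ^ 3 = z := by rw [hζ, Units.val_mk0, ← hi, ← pow_mul, ← pow_mul, mul_comm]
      have hxxx : (x : Matrix (Fin 3) (Fin 3) F) * x * x = z • 1 := by
        rw [← Units.val_mul, ← Units.val_mul, ← pow_two, ← pow_succ]; exact hz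
      obtain ⟨P, l, hl, hP⟩ := diag_of_span ((ζ : F)⁻¹ • (x : Matrix (Fin 3) (Fin 3) F))
        {t | ∃ k : ℕ, t = (T.ω : F) ^ k} (span_three hTw3 hTw1 h3F (by
          rw [smul_mul_smul_comm, smul_mul_smul_comm, hxxx, smul_smul, ← hζ3]
          rw [show (ζ : F)⁻¹ * (ζ : F)⁻¹ * (ζ : F)⁻¹ * (ζ : F) ^ 3 = 1 by field_simp, one_smul]))
      choose k hk using hl
      set d := dg (fun i => ζ * T.ω ^ k i) with hd
      have hxP : (x : Matrix (Fin 3) (Fin 3) F) * P =
          (P : Matrix (Fin 3) (Fin 3) F) * diagonal (fun i => (ζ : F) * (T.ω : F) ^ k i) := by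
        calc (x : Matrix (Fin 3) (Fin 3) F) * P
            = (ζ : F) • ((ζ : F)⁻¹ • (x : Matrix (Fin 3) (Fin 3) F) * P) := by
              rw [smul_mul_assoc, smul_smul, mul_inv_cancel₀ ζ.ne_zero, one_smul]
          _ = _ := by
              rw [hP, ← mul_smul_comm, ← diagonal_smul]
              congr 2; funext i; simp [hk]
      have hy : ((T.P * d * T.P⁻¹ : GL (Fin 3) F) : Matrix (Fin 3) (Fin 3) F) * T.P =
          (T.P : Matrix (Fin 3) (Fin 3) F) * diagonal (fun i => (ζ : F) * (T.ω : F) ^ k i) := by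
        rw [← Units.val_mul, inv_mul_cancel_right, Units.val_mul, hd, dg_val]
        simp
      obtain ⟨g, hg, hge⟩ := conj_of_diag hxP hy
      exact ⟨g, hg, hge ▸ T.diag_mem ζ k⟩

end Cfsg.Agent.S5998
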