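import Cfsg.Statements.S6000
import Cfsg.Agent.Lib.PauliFour
import Cfsg.Agent.S5968
-- import your own Cfsg.Agent.* helpers here

set_option autoImplicit false
set_option maxHeartbeats 1600000
open scoped MatrixGroups
open Cfsg

namespace Cfsg.Agent.S6000

open Matrix Polynomial
open Cfsg.Agent.PauliFour

variable {F : Type*} [Field F]

theorem trace_eq {A B : Matrix (Fin 4) (Fin 4) F} (h : A.charpoly = B.charpoly) :
    Matrix.trace A = Matrix.trace B := by
  rw [Matrix.trace_eq_neg_charpoly_coeff, Matrix.trace_eq_neg_charpoly_coeff, h]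

theorem charpoly_one' : (1 : Matrix (Fin 4) (Fin 4) F).charpoly = (X - C 1) ^ 4 := by
  rw [← diagonal_one, charpoly_diagonal]
  simp

/-- The shape of the characteristic polynomial of an element of prime order. -/
theorem shape [Finite F] {r : ℕ} [Fact r.Prime] (hrF : (r : F) ≠ 0) (hirr : Irreducible (cyclotomic r F))
    {A : Matrix (Fin 4) (Fin 4) F} (h : A ^ r = 1) (h1 : A ≠ 1) :
    ∃ a b : ℕ, A.charpoly = (X - C 1) ^ a * cyclotomic r F ^ b ∧ a + b * (r - 1) = 4 ∧ 1 ≤ b := by
  have hr := Fact.out (p := r.Prime)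
  obtain ⟨a, b, e, hn⟩ := charpoly_shape (A := A) (irreducible_X_sub_C (1 : F)) (monic_X_sub_C 1) hirr
    (cyclotomic.monic r F) (by
      rw [map_one, mul_comm, cyclotomic_prime_mul_X_sub_one, map_sub, map_pow, aeval_X, map_one, h, sub_self])
  rw [natDegree_X_sub_C, mul_one, natDegree_cyclotomic, Nat.totient_prime hr] at hn
  refine ⟨a, b, e, hn, Nat.pos_of_ne_zero fun hb => h1 ?_⟩
  subst hb
  rw [Nat.zero_mul, add_zero] at hn
  rw [pow_zero, mul_one, hn, ← charpoly_one'] at e
  have hA : Module.End.IsSemisimple (Matrix.toLin' A) := SemisimpleConjGL.isSemisimple_of_pow_eq_one hrF h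
  have h1' : Module.End.IsSemisimple (Matrix.toLin' (1 : Matrix (Fin 4) (Fin 4) F)) :=
    SemisimpleConjGL.isSemisimple_of_pow_eq_one hrF (one_pow r)
  obtain ⟨P, hP⟩ := SemisimpleConjGL.exists_gl_conj hA h1' e
  rw [one_mul] at hP
  calc A = ((P⁻¹ : GL (Fin 4) F) : Matrix (Fin 4) (Fin 4) F) * ((P : Matrix (Fin 4) (Fin 4) F) * A) := by
        rw [← mul_assoc, Units.inv_mul, one_mul]
    _ = 1 := by rw [hP, Units.inv_mul]

/-- Reduction to a scaled element of the model normaliser. -/
theorem finish [Finite F] {I : Fˣ} (P : GL (Fin 4) F) {x y : GL (Fin 4) F} (ζ : Fˣ) {m : ℕ} (hm : (m : F) ≠ 0)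
    (hxm : ((sc ζ⁻¹ * x : GL (Fin 4) F) : Matrix (Fin 4) (Fin 4) F) ^ m = 1)
    (hym : (y : Matrix (Fin 4) (Fin 4) F) ^ m = 1) (hy : y ∈ Cfsg.Geo.subgroupNormalizer (std I))
    (h : ((sc ζ⁻¹ * x : GL (Fin 4) F) : Matrix (Fin 4) (Fin 4) F).charpoly =
      (y : Matrix (Fin 4) (Fin 4) F).charpoly) :
    ∃ g ∈ Cfsg.Geo.specialLinear (Fin 4) F,
      g⁻¹ * x * g ∈ Cfsg.Geo.subgroupNormalizer ((std I).map (MulAut.conj P).toMonoidHom) := by
  have hy' : P * y * P⁻¹ ∈ Cfsg.Geo.subgroupNormalizer ((std I).map (MulAut.conj P).toMonoidHom) := by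
    rw [Cfsg.Geo.subgroupNormalizer, Subgroup.mem_set_normalizer_iff] at hy ⊢
    intro g
    simp only [Subgroup.map_equiv_eq_comap_symm', SetLike.mem_coe, Subgroup.mem_comap,
      MulEquiv.coe_toMonoidHom, MulAut.conj_symm_apply]
    refine (hy _).trans ?_
    rw [show P⁻¹ * (P * y * P⁻¹ * g * (P * y * P⁻¹)⁻¹) * P = y * (P⁻¹ * g * P) * y⁻¹ by group]
    rfl
  have hym' : (((P * y * P⁻¹ : GL (Fin 4) F)) : Matrix (Fin 4) (Fin 4) F) ^ m = 1 := by
    rw [← Units.val_pow_eq_pow_val, conj_pow, show y ^ m = 1 from Units.ext (by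
      rw [Units.val_pow_eq_pow_val, hym, Units.val_one]), mul_one, mul_inv_cancel, Units.val_one]
  obtain ⟨g, hg, hge⟩ := conj_SL (x := sc ζ⁻¹ * x) (y := P * y * P⁻¹)
    (SemisimpleConjGL.isSemisimple_of_pow_eq_one hm hxm) (SemisimpleConjGL.isSemisimple_of_pow_eq_one hm hym')
    (by rw [h, Units.val_mul, Units.val_mul, Matrix.coe_units_inv, Matrix.charpoly_units_conj])
  refine ⟨g, hg, ?_⟩
  have hinv : sc ζ * sc ζ⁻¹ = (1 : GL (Fin 4) F) := Units.ext (by
    rw [Units.val_mul, sc_val, sc_val, smul_mul_smul_comm, one_mul, ← Units.val_mul, mul_inv_cancel,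
      Units.val_one, one_smul, Units.val_one])
  have : g⁻¹ * x * g = sc ζ * (P * y * P⁻¹) := by
    rw [← hge]
    symm
    calc sc ζ * (g⁻¹ * (sc ζ⁻¹ * x) * g) = (sc ζ * g⁻¹) * (sc ζ⁻¹ * x) * g := by group
      _ = g⁻¹ * (sc ζ * sc ζ⁻¹) * x * g := by rw [sc_comm]; group
      _ = _ := by rw [hinv, mul_one]
  rw [this]
  exact Subgroup.mul_mem _ (sc_mem_normalizer _ ζ) hy'

/-- Elements of prime order of PSL_4(p), p ≡ 1 (mod 4), and the normalizer of a 2-group of symplectic type of order 2⁶. Here `T = PSL_4(F)` for the field `F` with `p` elements, `p` a prime with `p ≡ 1 (mod 4)`; `R` is an absolutely irreducible subgroup of GL_4(F) of order 2⁶ that is a 2-group of symplectic type of exponent 4 with centre of order 4 (the central product of the scalars of order 4 with an extraspecial group 2^{1+4}), and `H` is the subgroup of matrices of determinant 1 normalizing `R` — a subgroup of type 2⁴.Sp₄(2) (maximality is not assumed). Ω is the set of cosets of `H` in `T`, so an element of `T` of prime order `r` (a matrix `x` of determinant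 1 with `x^r` scalar, `x` not scalar) fixes a point of Ω exactly when some conjugate of `x` by a matrix of determinant 1 normalizes `R`. Let `r` be a prime dividing the index of `H`. Then every element of `T` of order `r` fixes a point of Ω if and only if `r = 2`, or `r = 3` and `p ≡ 2 (mod 3)`, or `r = 5` and `p ≡ ±2 (mod 5)` (`p` has multiplicative order 4 modulo 5). -/
theorem result {F : Type*} [Field F] [Fintype F] {p : ℕ} [Fact p.Prime] [CharP F p] (hF : Fintype.card F = p) (hp4 : p % 4 = 1)
    (R : Subgroup (GL (Fin 4) F)) (hR : Cfsg.Geo.IsLinearSymplecticTypeData 2 R) (hR6 : Nat.card R = 2 ^ 6)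
    (r : ℕ) [Fact r.Prime]
    (hΩ : r ∣ (Cfsg.Geo.subgroupNormalizer R).relIndex (Cfsg.Geo.specialLinear (Fin 4) F)) :
    (∀ x ∈ Cfsg.Geo.specialLinear (Fin 4) F, (∃ z : F, ((x ^ r : GL (Fin 4) F) : Matrix (Fin 4) (Fin 4) F) = z • (1 : Matrix (Fin 4) (Fin 4) F)) →
      (∀ z : F, (x : Matrix (Fin 4) (Fin 4) F) ≠ z • (1 : Matrix (Fin 4) (Fin 4) F)) →
      ∃ g ∈ Cfsg.Geo.specialLinear (Fin 4) F, g⁻¹ * x * g ∈ Cfsg.Geo.subgroupNormalizer R) ↔ (r = 2 ∨ (r = 3 ∧ p % 3 = 2) ∨ (r = 5 ∧ orderOf (p : ZMod 5) = 4)) := by
  classical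
  have hpr := Fact.out (p := p.Prime)
  have hp2 : p ≠ 2 := by omega
  have cast0 : ∀ n : ℕ, n.Prime → (n : F) = 0 → p = n := fun n hn e =>
    (Nat.prime_dvd_prime_iff_eq hpr hn).mp ((CharP.cast_eq_zero_iff F p n).mp e)
  have h2F : (2 : F) ≠ 0 := fun e => hp2 (cast0 2 Nat.prime_two (by exact_mod_cast e))
  have h3F : (3 : F) ≠ 0 := fun e => by
    have := cast0 3 Nat.prime_three (by exact_mod_cast e); omega
  haveI : Finite R := Nat.finite_of_card_ne_zero (by rw [hR6]; norm_num)
  obtain ⟨p₀, e₀, -, -, hcases⟩ := hR.field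
  have hZ : Nat.card (Subgroup.center R) = 4 := by
    rcases hcases with ⟨h, -⟩ | ⟨-, -, h, -⟩ | ⟨-, -, h, -⟩
    · exact absurd h (by decide)
    · exact h
    · rw [Fintype.card_fin] at h; omega
  have S := SympTypeTwo.Setup.mk' h2F hR.symplecticType hR.absIrred (by rw [hZ]; norm_num)
  obtain ⟨I, P, hI, hRP⟩ := exists_std S hR6 hZ
  -- roots of unity
  have root : ∀ d : ℕ, d ∣ p - 1 → ∃ η : F, orderOf η = d := by
    intro d hd
    obtain ⟨g, hg⟩ := IsCyclic.exists_ofOrder_eq_natCard (α := Fˣ)
    rw [Nat.card_units, Nat.card_eq_fintype_card, hF] at hg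
    obtain ⟨m, hm⟩ := hd
    have hp1 : 0 < p - 1 := by have := hpr.two_le; omega
    have hm0 : m ≠ 0 := fun e => by rw [e, mul_zero] at hm; omega
    refine ⟨((g ^ m : Fˣ) : F), ?_⟩
    rw [orderOf_units, orderOf_pow_of_dvd hm0 ⟨d, by rw [hg, hm, mul_comm]⟩, hg, hm,
      Nat.mul_div_left _ (Nat.pos_of_ne_zero hm0)]
  have detOne : ∀ g ∈ Cfsg.Geo.specialLinear (Fin 4) F, (g : Matrix (Fin 4) (Fin 4) F).det = 1 :=
    fun g hg => by
      rw [← GeneralLinearGroup.val_det_apply, show GeneralLinearGroup.det g = 1 from hg, Units.val_one]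
  constructor
  · intro hall
    by_contra hnot
    push Not at hnot
    obtain ⟨hr2, hr3, hr5⟩ := hnot
    suffices H : ∃ x ∈ Cfsg.Geo.specialLinear (Fin 4) F, ∃ z : F,
        ((x ^ r : GL (Fin 4) F) : Matrix (Fin 4) (Fin 4) F) = z • 1 ∧
        (∀ z : F, (x : Matrix (Fin 4) (Fin 4) F) ≠ z • 1) ∧
        ∀ g : GL (Fin 4) F, g⁻¹ * x * g ∉ Cfsg.Geo.subgroupNormalizer R by
      obtain ⟨x, hx, z, hz, hns, hno⟩ := H
      obtain ⟨g, -, hg⟩ := hall x hx ⟨z, hz⟩ hns
      exact hno g hg
    have hodd := (Fact.out (p := r.Prime)).odd_of_ne_two hr2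
    -- consequences of normalising
    have conjdata : ∀ (x g : GL (Fin 4) F) (z : F), ((x ^ r : GL (Fin 4) F) : Matrix (Fin 4) (Fin 4) F) = z • 1 →
        (∀ z : F, (x : Matrix (Fin 4) (Fin 4) F) ≠ z • 1) →
        (((g⁻¹ * x * g) ^ r : GL (Fin 4) F) : Matrix (Fin 4) (Fin 4) F) = z • 1 ∧
        ∀ z : F, ((g⁻¹ * x * g : GL (Fin 4) F) : Matrix (Fin 4) (Fin 4) F) ≠ z • 1 := by
      intro x g z hz hns
      refine ⟨?_, fun c hc => hns c ?_⟩
      · rw [show g⁻¹ * x * g = g⁻¹ * x * g⁻¹⁻¹ by rw [inv_inv], conj_pow, inv_inv, Units.val_mul,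
          Units.val_mul, hz, mul_smul_comm, mul_one, smul_mul_assoc, Units.inv_mul]
      · have : x = g * (g⁻¹ * x * g) * g⁻¹ := by group
        rw [this, Units.val_mul, Units.val_mul, hc, mul_smul_comm, mul_one, smul_mul_assoc, Units.mul_inv]
    have tr : ∀ (x g : GL (Fin 4) F) (z : F), ((x ^ r : GL (Fin 4) F) : Matrix (Fin 4) (Fin 4) F) = z • 1 →
        (∀ z : F, (x : Matrix (Fin 4) (Fin 4) F) ≠ z • 1) →
        g⁻¹ * x * g ∈ Cfsg.Geo.subgroupNormalizer R →
        Matrix.trace (x : Matrix (Fin 4) (Fin 4) F) * Matrix.trace ((x⁻¹ : GL (Fin 4) F) : Matrix (Fin 4) (Fin 4) F) = 1 ∨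
        (r = 3 ∧ Matrix.trace (x : Matrix (Fin 4) (Fin 4) F) *
          Matrix.trace ((x⁻¹ : GL (Fin 4) F) : Matrix (Fin 4) (Fin 4) F) = 4) := by
      intro x g z hz hns hg
      obtain ⟨h1, h2⟩ := conjdata x g z hz hns
      have h := S.trace_mem (Fintype.card_fin 4) (a := 2) hR6 hZ hg hr2 h1 h2
      have e1 : (g⁻¹ * x * g)⁻¹ = g⁻¹ * x⁻¹ * g := by group
      rw [e1, Units.val_mul, Units.val_mul, Units.val_mul, Units.val_mul, trace_units_conj',
        trace_units_conj'] at h
      exact h
    by_cases h3 : r = 3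
    · subst h3
      have hp3 : p % 3 = 1 := by
        have h := hr3 rfl
        have : p % 3 ≠ 0 := fun e => by
          have := (Nat.prime_dvd_prime_iff_eq Nat.prime_three hpr).mp (Nat.dvd_of_mod_eq_zero e); omega
        omega
      obtain ⟨ω, hω⟩ := root 3 (by omega)
      have hw3 : ω ^ 3 = 1 := by rw [← hω]; exact pow_orderOf_eq_one ω
      have hw1 : ω ≠ 1 := fun e => by rw [e, orderOf_one] at hω; omega
      have hsum : 1 + ω + ω ^ 2 = 0 :=
        (mul_eq_zero.mp (show (ω - 1) * (1 + ω + ω ^ 2) = 0 by linear_combination hw3)).resolve_left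
          (sub_ne_zero.mpr hw1)
      set w : Fˣ := Units.mk0 ω (fun e => by simp [e] at hw3)
      have hwinv : ((w⁻¹ : Fˣ) : F) = ω ^ 2 := by
        rw [Units.val_inv_eq_inv_val, inv_eq_of_mul_eq_one_right]
        show ω * ω ^ 2 = 1
        linear_combination hw3
      refine ⟨dg ![w, w, w, 1], Units.ext ?_, 1, ?_, fun c hc => ?_, fun g hg => ?_⟩
      · rw [GeneralLinearGroup.val_det_apply, dg_val, det_diagonal, Fin.prod_univ_four, Units.val_one]
        simp [w]; linear_combination hw3
      · rw [one_smul, Units.val_pow_eq_pow_val, dg_val, diagonal_pow, ← diagonal_one]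
        exact congrArg diagonal (funext fun i => by fin_cases i <;> simp [w, hw3])
      · have e0 := congrFun (congrFun hc 0) 0
        have e3 := congrFun (congrFun hc 3) 3
        simp [dg_val, w] at e0 e3
        exact hw1 (e0.trans e3.symm)
      · rcases tr _ g 1 (by
          rw [one_smul, Units.val_pow_eq_pow_val, dg_val, diagonal_pow, ← diagonal_one]
          exact congrArg diagonal (funext fun i => by fin_cases i <;> simp [w, hw3]))
          (fun c hc => by
            have e0 := congrFun (congrFun hc 0) 0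
            have e3 := congrFun (congrFun hc 3) 3
            simp [dg_val, w] at e0 e3
            exact hw1 (e0.trans e3.symm)) hg with h | ⟨-, h⟩ <;>
          simp only [dg, Units.inv_mk, Matrix.trace_diagonal, Fin.sum_univ_four] at h <;>
          simp [w, hwinv] at h
        · exact h2F ((mul_eq_zero.mp (show (2 : F) * 3 = 0 by
            linear_combination h - 9 * hw3 - 3 * hsum)).resolve_right h3F)
        · exact h3F (by linear_combination h - 9 * hw3 - 3 * hsum)
    by_cases h5 : r = 5
    · subst h5
      have hord := hr5 rfl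
      rcases Decidable.em (p = 5) with hp5 | hp5
      · subst hp5
        set N : Matrix (Fin 4) (Fin 4) F := Matrix.single 0 1 1 with hN
        have hNN : N * N = 0 := by
          rw [hN]; exact Matrix.single_mul_single_of_ne _ _ _ _ (by decide) _
        let x : GL (Fin 4) F := ⟨1 + N, 1 - N, by rw [mul_sub, mul_one, add_mul, one_mul, hNN]; abel,
          by rw [sub_mul, one_mul, mul_add, mul_one, hNN]; abel⟩
        have hpow : ∀ n : ℕ, ((1 : Matrix (Fin 4) (Fin 4) F) + N) ^ n = 1 + (n : F) • N := by
          intro n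
          induction n with
          | zero => simp
          | succ n ih =>
            rw [pow_succ, ih, mul_add, mul_one, add_mul, one_mul, smul_mul_assoc, hNN, smul_zero, add_zero,
              Nat.cast_succ, add_smul, one_smul]
            abel
        have hN0 : N ≠ 0 := fun e => by
          have := congrFun (congrFun e 0) 1
          simp [hN] at this
        have hx5 : ((x ^ 5 : GL (Fin 4) F) : Matrix (Fin 4) (Fin 4) F) = 1 := by
          rw [Units.val_pow_eq_pow_val]
          show (1 + N) ^ 5 = 1
          rw [hpow, CharP.cast_eq_zero F 5, zero_smul, add_zero]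
        refine ⟨x, Units.ext ?_, 1, by rw [one_smul]; exact hx5, fun c hc => ?_, fun g hg => ?_⟩
        · show ((1 : Matrix (Fin 4) (Fin 4) F) + N).det = 1
          rw [det_of_upperTriangular]
          · simp [hN, Fin.prod_univ_four, Matrix.single_apply]
          · intro i j hij
            fin_cases i <;> fin_cases j <;> simp [hN] at hij ⊢
        · have := congrFun (congrFun hc 0) 1
          simp [x, hN] at this
        · set gi := ((g⁻¹ : GL (Fin 4) F) : Matrix (Fin 4) (Fin 4) F) with hgi
          set gm := (g : Matrix (Fin 4) (Fin 4) F) with hgm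
          have hgg : gm * gi = 1 := Units.mul_inv g
          have hgg' : gi * gm = 1 := Units.inv_mul g
          refine S.no_transvection (Fintype.card_fin 4) (N := gi * N * gm) hg hodd ?_ ?_ ?_ ?_ ?_
          · exact ((conjdata x g 1 (by rw [one_smul]; exact hx5) (fun c hc => by
              have := congrFun (congrFun hc 0) 1
              simp [x, hN] at this)).1).trans (one_smul F 1)
          · rw [Units.val_mul, Units.val_mul]
            show gi * (1 + N) * gm = _
            rw [mul_add, mul_one, add_mul, hgg']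
          · intro e
            refine hN0 ?_
            calc N = (gm * gi) * N * (gm * gi) := by rw [hgg, one_mul, mul_one]
              _ = gm * (gi * N * gm) * gi := by simp only [mul_assoc]
              _ = 0 := by rw [e, mul_zero, zero_mul]
          · calc gi * N * gm * (gi * N * gm) = gi * N * (gm * gi) * N * gm := by simp only [mul_assoc]
              _ = 0 := by rw [hgg, mul_one, mul_assoc gi, hNN, mul_zero, zero_mul]
          · intro X
            have key : ∀ Y, N * Y * N = Matrix.trace (Y * N) • N := fun Y => by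
              rw [hN, Matrix.trace_mul_single, Matrix.single_mul_mul_single, Matrix.smul_single]
              simp
            calc gi * N * gm * X * (gi * N * gm) = gi * (N * (gm * X * gi) * N) * gm := by simp only [mul_assoc]
              _ = Matrix.trace (gm * X * gi * N) • (gi * N * gm) := by
                rw [key, mul_smul_comm, smul_mul_assoc]
              _ = _ := by
                congr 1
                rw [show gm * X * gi * N = gm * (X * gi * N) by simp only [mul_assoc], Matrix.trace_mul_comm]
                simp only [mul_assoc]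
      · have hp50 : p % 5 ≠ 0 := fun e =>
          hp5 ((Nat.prime_dvd_prime_iff_eq (by norm_num) hpr).mp (Nat.dvd_of_mod_eq_zero e)).symm
        have hp14 : p % 5 = 1 ∨ p % 5 = 4 := by
          by_contra hc
          refine hord ?_
          rw [← ZMod.natCast_mod p 5]
          rcases (show p % 5 = 2 ∨ p % 5 = 3 by omega) with e | e <;> rw [e] <;>
            exact orderOf_eq_prime_pow (p := 2) (n := 1) (by decide) (by decide)
        rcases hp14 with hp15 | hp45
        · obtain ⟨ζ, hζ⟩ := root 5 (by omega)
          have hz5 : ζ ^ 5 = 1 := by rw [← hζ]; exact pow_orderOf_eq_one ζ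
          have hz1 : ζ ≠ 1 := fun e => by rw [e, orderOf_one] at hζ; omega
          have hsum : ζ ^ 4 + ζ ^ 3 + ζ ^ 2 + ζ + 1 = 0 :=
            (mul_eq_zero.mp (show (ζ - 1) * (ζ ^ 4 + ζ ^ 3 + ζ ^ 2 + ζ + 1) = 0 by
              linear_combination hz5)).resolve_left (sub_ne_zero.mpr hz1)
          have hz0 : ζ ≠ 0 := fun e => by simp [e] at hz5
          set w : Fˣ := Units.mk0 ζ hz0
          have hwinv : ((w⁻¹ : Fˣ) : F) = ζ ^ 4 := by
            rw [Units.val_inv_eq_inv_val, inv_eq_of_mul_eq_one_right]
            show ζ * ζ ^ 4 = 1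
            linear_combination hz5
          have hpw : (((dg ![w, w, w, w * w]) ^ 5 : GL (Fin 4) F) : Matrix (Fin 4) (Fin 4) F) = (1 : F) • 1 := by
            rw [one_smul, Units.val_pow_eq_pow_val, dg_val, diagonal_pow, ← diagonal_one]
            exact congrArg diagonal (funext fun i => by fin_cases i <;> simp [w, hz5, mul_pow])
          have hns : ∀ c : F, ((dg ![w, w, w, w * w] : GL (Fin 4) F) : Matrix (Fin 4) (Fin 4) F) ≠ c • 1 := by
            intro c hc
            have e0 := congrFun (congrFun hc 0) 0
            have e3 := congrFun (congrFun hc 3) 3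
            simp [dg_val, w] at e0 e3
            exact hz1 (mul_left_cancel₀ hz0 (by rw [mul_one, e3, e0]))
          refine ⟨dg ![w, w, w, w * w], Units.ext ?_, 1, hpw, hns, fun g hg => ?_⟩
          · rw [GeneralLinearGroup.val_det_apply, dg_val, det_diagonal, Fin.prod_univ_four, Units.val_one]
            simp [w]; linear_combination hz5
          · rcases tr _ g 1 hpw hns hg with h | ⟨h', -⟩
            · simp only [dg, Units.inv_mk, Matrix.trace_diagonal, Fin.sum_univ_four] at h
              simp [w, hwinv, mul_inv] at h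
              have hs : 3 * (ζ + ζ ^ 4) + 9 = 0 := by
                have hi : ζ⁻¹ = ζ ^ 4 := inv_eq_of_mul_eq_one_right (by linear_combination hz5)
                try simp only [hi] at h
                linear_combination h - (9 + 3 * ζ ^ 4 + 3 * ζ + ζ ^ 5 + 1) * hz5
              have hs' : ζ + ζ ^ 4 = -3 :=
                mul_left_cancel₀ h3F (by linear_combination hs)
              have h50 : (5 : F) = 0 := by
                linear_combination hsum - (ζ + ζ ^ 4 - 2) * hs' + (2 + ζ ^ 3) * hz5
              exact hp5 (cast0 5 (by norm_num) (by exact_mod_cast h50))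
            · omega
        · -- an element of order five in dimension two
          have hc := S5968.card_SL_mul (F := F) (k := 2) hF (by norm_num)
          have h5S : 5 ∣ Nat.card (SpecialLinearGroup (Fin 2) F) := by
            have h55 : 5 ∣ ∏ i ∈ Finset.range 2, (p ^ 2 - p ^ i) := by
              rw [Finset.prod_range_succ, Finset.prod_range_one]
              refine Dvd.dvd.mul_right ?_ _
              obtain ⟨k, rfl⟩ : ∃ k, p = 5 * k + 4 := ⟨p / 5, by omega⟩
              rw [pow_zero, show (5 * k + 4) ^ 2 = 5 * (5 * k * k + 8 * k + 3) + 1 by ring, Nat.add_sub_cancel]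
              exact dvd_mul_right _ _
            rw [← hc] at h55
            rcases (show Nat.Prime 5 by norm_num).dvd_mul.mp h55 with h | h
            · exact h
            · omega
          haveI : Fact (Nat.Prime 5) := ⟨by norm_num⟩
          obtain ⟨m, hm⟩ := exists_prime_orderOf_dvd_card' 5 h5S
          set M := (m : Matrix (Fin 2) (Fin 2) F) with hM
          set s := Matrix.trace M with hs
          have hch : M * M = s • M - 1 := by
            have hd : M 0 0 * M 1 1 - M 0 1 * M 1 0 = 1 := by rw [← det_fin_two]; exact m.2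
            ext i j
            fin_cases i <;> fin_cases j <;> simp [mul_apply, Fin.sum_univ_two, s, Matrix.trace_fin_two] <;>
              first | ring1 | linear_combination -hd
          have hM5 : M ^ 5 = 1 := by
            have h' : m ^ 5 = 1 := by rw [← hm]; exact pow_orderOf_eq_one m
            simpa [hM] using congrArg (fun u : SpecialLinearGroup (Fin 2) F => (u : Matrix (Fin 2) (Fin 2) F)) h'
          have hMns : ∀ c : F, M ≠ c • 1 := by
            intro c hc'
            have hd : M.det = 1 := m.2
            simp [hc'] at hd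
            rw [hc', _root_.smul_pow, one_pow] at hM5
            have h5c : c ^ 5 = 1 := by
              have := congrFun (congrFun hM5 0) 0
              simpa using this
            have hc1 : c = 1 := by
              rcases hd with h | h
              · exact h
              · exact absurd (by rw [h] at h5c; linear_combination -h5c) h2F
            have : m = 1 := Subtype.ext (by rw [← hM, hc', hc1, one_smul]; rfl)
            rw [this, orderOf_one] at hm
            omega
          have hexp : (s ^ 4 - 3 * s ^ 2 + 1) • M = (s ^ 3 - 2 * s + 1) • (1 : Matrix (Fin 2) (Fin 2) F) := by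
            have h3' : M * M * M = (s ^ 2 - 1) • M - s • 1 := by
              rw [hch, sub_mul, smul_mul_assoc, hch, one_mul]; module
            have e : M ^ 5 = (M * M * M) * (M * M) := by simp only [pow_succ, pow_zero, one_mul, mul_assoc]
            rw [e, h3', hch] at hM5
            simp only [sub_mul, mul_sub, smul_mul_assoc, mul_smul_comm, mul_one, one_mul, hch] at hM5
            linear_combination (norm := module) hM5
          have hk0 : s ^ 4 - 3 * s ^ 2 + 1 = 0 := by
            by_contra hk
            exact hMns ((s ^ 4 - 3 * s ^ 2 + 1)⁻¹ * (s ^ 3 - 2 * s + 1))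
              (by rw [← smul_smul, ← hexp, smul_smul, inv_mul_cancel₀ hk, one_smul])
          have hk1 : s ^ 3 - 2 * s + 1 = 0 := by
            rw [hk0, zero_smul] at hexp
            have := congrFun (congrFun hexp.symm 0) 0
            simpa using this
          let x : GL (Fin 4) F := ⟨!![0, -1, 0, 0; 1, s, 0, 0; 0, 0, 1, 0; 0, 0, 0, 1],
            !![s, 1, 0, 0; -1, 0, 0, 0; 0, 0, 1, 0; 0, 0, 0, 1],
            by ext i j; fin_cases i <;> fin_cases j <;> simp [mul_apply, Fin.sum_univ_four],
            by ext i j; fin_cases i <;> fin_cases j <;> simp [mul_apply, Fin.sum_univ_four]⟩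
          have hpw : ((x ^ 5 : GL (Fin 4) F) : Matrix (Fin 4) (Fin 4) F) = (1 : F) • 1 := by
            rw [one_smul, Units.val_pow_eq_pow_val, show 5 = 2 + 2 + 1 from rfl, pow_succ, pow_add, pow_two]
            ext i j
            fin_cases i <;> fin_cases j <;> simp [x, mul_apply, Fin.sum_univ_four] <;>
              first | linear_combination hk0 | linear_combination -hk0 | linear_combination hk1 |
                linear_combination -hk1 | linear_combination s * hk0 - hk1 | linear_combination -s * hk0 + hk1
          have hns : ∀ c : F, (x : Matrix (Fin 4) (Fin 4) F) ≠ c • 1 := fun c hc' => by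
            have := congrFun (congrFun hc' 1) 0
            simp [x] at this
          refine ⟨x, Units.ext ?_, 1, hpw, hns, fun g hg => ?_⟩
          · show (x : Matrix (Fin 4) (Fin 4) F).det = 1
            simp [x, det_succ_row_zero, Fin.sum_univ_succ, Fin.succAbove]
          · rcases tr x g 1 hpw hns hg with h | ⟨h', -⟩
            · simp [x, Matrix.trace, Fin.sum_univ_four] at h
              rcases mul_eq_zero.mp (show (s + 1) * (s + 3) = 0 by linear_combination h) with e | e
              · exact h2F (by linear_combination hk1 - (s ^ 2 - s - 1) * e)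
              · have h20 : (2 : F) ^ 2 * 5 = 0 := by linear_combination -hk1 + (s ^ 2 - 3 * s + 7) * e
                rcases mul_eq_zero.mp h20 with e' | e'
                · exact h2F (pow_eq_zero_iff (by norm_num) |>.mp e')
                · exact hp5 (cast0 5 (by norm_num) (by exact_mod_cast e'))
            · omega
    · -- large primes
      have hdvd : r ∣ Nat.card ↥(Cfsg.Geo.specialLinear (Fin 4) F) :=
        hΩ.trans (Subgroup.relIndex_dvd_card _ _)
      obtain ⟨⟨x, hx⟩, hxo⟩ := exists_prime_orderOf_dvd_card' r hdvd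
      rw [Subgroup.orderOf_mk] at hxo
      have hxr : ((x ^ r : GL (Fin 4) F) : Matrix (Fin 4) (Fin 4) F) = (1 : F) • 1 := by
        rw [← hxo, pow_orderOf_eq_one, one_smul, Units.val_one]
      have hns : ∀ c : F, (x : Matrix (Fin 4) (Fin 4) F) ≠ c • 1 := fun c hc => by
        have hd := detOne x hx
        rw [hc, det_smul, det_one, mul_one, Fintype.card_fin] at hd
        have : x ^ 4 = 1 := Units.ext (by
          rw [Units.val_pow_eq_pow_val, hc, _root_.smul_pow, one_pow, hd, one_smul, Units.val_one])
        have h4 := orderOf_dvd_of_pow_eq_one this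
        rw [hxo, show 4 = 2 ^ 2 from rfl] at h4
        exact hr2 ((Nat.prime_dvd_prime_iff_eq Fact.out Nat.prime_two).mp ((Fact.out (p := r.Prime)).dvd_of_dvd_pow h4))
      refine ⟨x, hx, 1, hxr, hns, fun g hg => ?_⟩
      obtain ⟨h1, h2⟩ := conjdata x g 1 hxr hns
      rcases (S.fixed_card (a := 2) hR6 hZ hg hr2 h1 h2).1 with h | h <;> contradiction
  · intro hr x hx ⟨z, hz⟩ hns
    have hdx := detOne x hx
    have hz4 : z ^ 4 = 1 := by
      have e := congrArg Matrix.det hz
      rw [Units.val_pow_eq_pow_val, det_pow, hdx, one_pow, det_smul, det_one, mul_one, Fintype.card_fin] at e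
      exact e.symm
    have hz0 : z ≠ 0 := fun e => by simp [e] at hz4
    rw [Units.val_pow_eq_pow_val] at hz
    rw [hRP]
    have hh : ((2 : F)⁻¹) * 2 = 1 := inv_mul_cancel₀ h2F
    have scaled : ∀ (ζ : Fˣ), (ζ : F) ^ r = z →
        ((sc ζ⁻¹ * x : GL (Fin 4) F) : Matrix (Fin 4) (Fin 4) F) ^ r = 1 ∧
        ((sc ζ⁻¹ * x : GL (Fin 4) F) : Matrix (Fin 4) (Fin 4) F) ≠ 1 := by
      intro ζ hζ
      rw [Units.val_mul, sc_val, smul_mul_assoc, one_mul]
      refine ⟨?_, fun e => hns ζ ?_⟩
      · rw [_root_.smul_pow, hz, smul_smul, ← hζ, ← mul_pow, ← Units.val_mul, inv_mul_cancel, Units.val_one,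
          one_pow, one_smul]
      · rw [← e, smul_smul, ← Units.val_mul, mul_inv_cancel, Units.val_one, one_smul]
    rcases hr with rfl | ⟨rfl, hp3⟩ | ⟨rfl, hp5⟩
    · by_cases hsq : ∃ l : F, l ^ 2 = z
      · obtain ⟨l, hl⟩ := hsq
        have hl0 : l ≠ 0 := fun e => hz0 (by rw [← hl, e]; norm_num)
        set ζ : Fˣ := Units.mk0 l hl0
        obtain ⟨hx1, -⟩ := scaled ζ hl
        obtain ⟨a, b, e, hab⟩ := charpoly_shape
          (A := ((sc ζ⁻¹ * x : GL (Fin 4) F) : Matrix (Fin 4) (Fin 4) F)) (irreducible_X_sub_C (1 : F))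
          (monic_X_sub_C 1) (irreducible_X_sub_C (-1 : F)) (monic_X_sub_C _) (by
            rw [show (X - C (1 : F)) * (X - C (-1)) = X ^ 2 - 1 by rw [map_neg, map_one]; ring, map_sub,
              map_pow, aeval_X, map_one, hx1, sub_self])
        rw [natDegree_X_sub_C, natDegree_X_sub_C, mul_one, mul_one] at hab
        let d : Fin 4 → Fˣ := fun i => if (i : ℕ) < a then 1 else -1
        refine finish P ζ (y := dg d) (by exact_mod_cast h2F) hx1 ?_ (sign_mem hI d fun i => ?_) ?_
        · rw [dg_val, diagonal_pow, ← diagonal_one]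
          exact congrArg diagonal (funext fun i => by simp only [Pi.pow_apply, d]; split_ifs <;> simp)
        · simp only [d]; split_ifs <;> simp
        · rw [e, dg_val, charpoly_diagonal, Fin.prod_univ_four]
          obtain rfl : b = 4 - a := by omega
          have : a ≤ 4 := by omega
          simp only [d]
          interval_cases a <;> simp [-mul_eq_mul_left_iff, -mul_eq_mul_right_iff, -mul_eq_zero] <;> ring
      · exfalso
        have hirr : Irreducible (X ^ 2 - C z) := by
          refine (Monic.irreducible_iff_roots_eq_zero_of_degree_le_three (monic_X_pow_sub_C z (by norm_num))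
            (by rw [natDegree_X_pow_sub_C]) (by rw [natDegree_X_pow_sub_C]; norm_num)).mpr ?_
          rw [Multiset.eq_zero_iff_forall_notMem]
          intro l hl
          rw [mem_roots (monic_X_pow_sub_C z (by norm_num)).ne_zero] at hl
          exact hsq ⟨l, by simpa [sub_eq_zero] using hl⟩
        obtain ⟨a, b, e, hab⟩ := charpoly_shape (A := (x : Matrix (Fin 4) (Fin 4) F)) hirr
          (monic_X_pow_sub_C z (by norm_num)) hirr (monic_X_pow_sub_C z (by norm_num)) (by
            rw [map_mul, map_sub, map_pow, aeval_X, aeval_C, hz, Algebra.algebraMap_eq_smul_one, sub_self,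
              mul_zero])
        rw [natDegree_X_pow_sub_C] at hab
        have hd := Matrix.det_eq_sign_charpoly_coeff (x : Matrix (Fin 4) (Fin 4) F)
        rw [hdx, e, ← pow_add, show a + b = 2 by omega, coeff_zero_eq_eval_zero] at hd
        simp at hd
        rcases mul_self_eq_one_iff.mp (show z * z = 1 by linear_combination -hd) with h | h
        · exact hsq ⟨1, by rw [h, one_pow]⟩
        · exact hsq ⟨I, by rw [h, pow_two, hI]⟩
    · haveI : Fact (Nat.Prime 3) := ⟨Nat.prime_three⟩
      have hirr : Irreducible (cyclotomic 3 F) := by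
        refine irreducible_of_dvd_cyclotomic_of_natDegree (p := p) (f := 1) ?_ ?_ dvd_rfl ?_
        · rw [hF, pow_one]
        · exact (Nat.coprime_primes hpr Nat.prime_three).mpr (by omega)
        · rw [natDegree_cyclotomic, Nat.totient_prime Nat.prime_three, show 3 - 1 = 2 from rfl]
          refine (orderOf_eq_prime ?_ ?_).symm
          · apply Units.ext
            simp only [Units.val_pow_eq_pow_val, ZMod.coe_unitOfCoprime, pow_one, Units.val_one]
            rw [← ZMod.natCast_mod, hp3]; decide
          · intro e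
            have := congrArg Units.val e
            simp only [ZMod.coe_unitOfCoprime, pow_one, Units.val_one] at this
            rw [← ZMod.natCast_mod, hp3] at this
            exact absurd this (by decide)
      set ζ : Fˣ := Units.mk0 (z ^ 3) (pow_ne_zero _ hz0)
      obtain ⟨hx1, hxne⟩ := scaled ζ (by
        show (z ^ 3) ^ 3 = z
        linear_combination (z ^ 5 + z) * hz4)
      have h3' : ((3 : ℕ) : F) ≠ 0 := by exact_mod_cast h3F
      obtain ⟨o1, o2, -⟩ := cliff_order hI hh
      obtain ⟨t1, t2, -⟩ := cliff_trace hI hh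
      have h4 : Matrix.trace (1 : Matrix (Fin 4) (Fin 4) F) = 4 := by rw [trace_one, Fintype.card_fin]; norm_num
      have n1 : (cliffT (I : F) (2 : F)⁻¹ hI hh : Matrix (Fin 4) (Fin 4) F) ≠ 1 := fun e => by
        rw [e, h4] at t1
        exact h2F ((mul_eq_zero.mp (show (2 : F) * 3 = 0 by linear_combination t1)).resolve_right h3F)
      have n2 : (cliffTT (I : F) (2 : F)⁻¹ hI hh : Matrix (Fin 4) (Fin 4) F) ≠ 1 := fun e => by
        rw [e, h4] at t2
        exact h3F (by linear_combination t2)
      obtain ⟨a, b, e, hab, hb⟩ := shape h3' hirr hx1 hxne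
      obtain ⟨a1, b1, e1, hab1, hb1⟩ := shape h3' hirr o1 n1
      obtain ⟨a2, b2, e2, hab2, hb2⟩ := shape h3' hirr o2 n2
      have hne : b1 ≠ b2 := fun hb => by
        have : a1 = a2 := by omega
        have := trace_eq (e1.trans (this ▸ hb ▸ e2.symm))
        rw [t1, t2] at this
        exact h3F (by linear_combination -this)
      rcases (show b = b1 ∨ b = b2 by omega) with hb' | hb'
      · exact finish P ζ h3' hx1 o1 (cliffT_mem hI hh) (by
          rw [e, e1, hb', show a = a1 by omega])
      · exact finish P ζ h3' hx1 o2 (cliffTT_mem hI hh) (by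
          rw [e, e2, hb', show a = a2 by omega])
    · haveI : Fact (Nat.Prime 5) := ⟨by norm_num⟩
      have hp5' : p ≠ 5 := fun e => by
        rw [e, show ((5 : ℕ) : ZMod 5) = 0 from ZMod.natCast_self 5] at hp5
        simp at hp5
      have hirr : Irreducible (cyclotomic 5 F) := by
        refine irreducible_of_dvd_cyclotomic_of_natDegree (p := p) (f := 1) ?_ ?_ dvd_rfl ?_
        · rw [hF, pow_one]
        · exact (Nat.coprime_primes hpr (by norm_num)).mpr hp5'
        · rw [natDegree_cyclotomic, Nat.totient_prime (by norm_num : Nat.Prime 5), ← orderOf_units,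
            ZMod.coe_unitOfCoprime, pow_one, hp5]
      set ζ : Fˣ := Units.mk0 z hz0
      obtain ⟨hx1, hxne⟩ := scaled ζ (by
        show z ^ 5 = z
        linear_combination z * hz4)
      have h5F : ((5 : ℕ) : F) ≠ 0 := fun e => hp5' (cast0 5 (by norm_num) e)
      obtain ⟨-, -, o3⟩ := cliff_order hI hh
      obtain ⟨-, -, t3⟩ := cliff_trace hI hh
      have n3 : (cliffF (I : F) (2 : F)⁻¹ hI hh : Matrix (Fin 4) (Fin 4) F) ≠ 1 := fun e => by
        rw [e, trace_one, Fintype.card_fin] at t3
        exact h5F (by push_cast at t3 ⊢; linear_combination t3)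
      obtain ⟨a, b, e, hab, hb⟩ := shape h5F hirr hx1 hxne
      obtain ⟨a3, b3, e3, hab3, hb3⟩ := shape h5F hirr o3 n3
      exact finish P ζ h5F hx1 o3 (cliffF_mem hI hh) (by
        rw [e, e3, show a = a3 by omega, show b = b3 by omega])

end Cfsg.Agent.S6000
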