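import Cfsg.Statements.S6001
import Cfsg.Agent.Lib.PauliFourUnitary
import Cfsg.Agent.Lib.OrthUnitaryTransvection
-- import your own Cfsg.Agent.* helpers here

set_option autoImplicit false
set_option maxHeartbeats 1600000
open scoped MatrixGroups
open Cfsg

namespace Cfsg.Agent.S6001

open Matrix Polynomial
open Cfsg.Agent.PauliFour Cfsg.Agent.PauliFourUnitary
open Cfsg.Agent.HermitianFactor (ct)

variable {F : Type*} [Field F]

theorem quad_irred {t : F} (h : ∀ l : F, l ^ 2 - t * l + 1 ≠ 0) : Irreducible (X ^ 2 - C t * X + C 1) := by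
  have hm : (X ^ 2 - C t * X + C 1 : F[X]).Monic := by monicity!
  have hd : (X ^ 2 - C t * X + C 1 : F[X]).natDegree = 2 := by compute_degree!
  refine (Monic.irreducible_iff_roots_eq_zero_of_degree_le_three hm (by omega) (by omega)).mpr ?_
  rw [Multiset.eq_zero_iff_forall_notMem]
  intro l hl
  rw [mem_roots hm.ne_zero] at hl
  exact h l (by simpa using hl)

theorem nonsq_five : ∀ w : ZMod 5, ((2 : ℕ) : ZMod 5) ≠ w * w ∧ ((3 : ℕ) : ZMod 5) ≠ w * w := by decide

theorem fourth {z : F} (h : z ^ 4 = 1) {p : ℕ} (hp : p % 4 = 3) : z ^ (p + 1) = 1 := by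
  obtain ⟨k, hk⟩ : 4 ∣ p + 1 := by omega
  rw [hk, pow_mul, h, one_pow]

theorem trace_eq {A B : Matrix (Fin 4) (Fin 4) F} (h : A.charpoly = B.charpoly) :
    Matrix.trace A = Matrix.trace B := by
  rw [Matrix.trace_eq_neg_charpoly_coeff, Matrix.trace_eq_neg_charpoly_coeff, h]

/-- Reduction to a scaled element of the model normaliser. -/
theorem finishU [Fintype F] {σ : F →+* F} {p : ℕ} (hF : Fintype.card F = p ^ 2) (hq : ∀ x, σ x = x ^ p)
    (hσ : ∀ x, σ (σ x) = x) {c : F} (hc : σ c ≠ c) {I : Fˣ} {P : GL (Fin 4) F} (hPU : P ∈ Cfsg.GU 4 F p)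
    {x y : GL (Fin 4) F} (hx : x ∈ Cfsg.GU 4 F p) (ζ : Fˣ) (hζ : (ζ : F) ^ (p + 1) = 1) {m : ℕ}
    (hm : (m : F) ≠ 0) (hxm : ((sc ζ⁻¹ * x : GL (Fin 4) F) : Matrix (Fin 4) (Fin 4) F) ^ m = 1)
    (hym : (y : Matrix (Fin 4) (Fin 4) F) ^ m = 1) (hy : y ∈ Cfsg.Geo.subgroupNormalizer (std I))
    (hyU : y ∈ Cfsg.GU 4 F p)
    (h : ((sc ζ⁻¹ * x : GL (Fin 4) F) : Matrix (Fin 4) (Fin 4) F).charpoly =
      (y : Matrix (Fin 4) (Fin 4) F).charpoly)
    (hdet : ∀ s : Fˣ, (s : F) ^ (p + 1) = 1 →
      ∃ u ∈ Cfsg.GU 4 F p, GeneralLinearGroup.det u = s ∧ u * y = y * u) :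
    ∃ g ∈ Cfsg.GU 4 F p ⊓ Cfsg.Geo.specialLinear (Fin 4) F,
      g⁻¹ * x * g ∈ Cfsg.Geo.subgroupNormalizer ((std I).map (MulAut.conj P).toMonoidHom) := by
  have hy' : P * y * P⁻¹ ∈ Cfsg.Geo.subgroupNormalizer ((std I).map (MulAut.conj P).toMonoidHom) := by
    rw [Cfsg.Geo.subgroupNormalizer, Subgroup.mem_set_normalizer_iff] at hy ⊢
    intro g
    simp only [Subgroup.map_equiv_eq_comap_symm', SetLike.mem_coe, Subgroup.mem_comap,
      MulEquiv.coe_toMonoidHom, MulAut.conj_symm_apply]
    refine (hy _).trans ?_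
    rw [show P⁻¹ * (P * y * P⁻¹ * g * (P * y * P⁻¹)⁻¹) * P = y * (P⁻¹ * g * P) * y⁻¹ by group]
    rfl
  have hym' : (((P * y * P⁻¹ : GL (Fin 4) F)) : Matrix (Fin 4) (Fin 4) F) ^ m = 1 := by
    rw [← Units.val_pow_eq_pow_val, conj_pow, show y ^ m = 1 from Units.ext (by
      rw [Units.val_pow_eq_pow_val, hym, Units.val_one]), mul_one, mul_inv_cancel, Units.val_one]
  have hyU' : P * y * P⁻¹ ∈ Cfsg.GU 4 F p :=
    Subgroup.mul_mem _ (Subgroup.mul_mem _ hPU hyU) (Subgroup.inv_mem _ hPU)
  obtain ⟨g₀, -, hg₀⟩ := conj_SL (x := sc ζ⁻¹ * x) (y := P * y * P⁻¹)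
    (SemisimpleConjGL.isSemisimple_of_pow_eq_one hm hxm) (SemisimpleConjGL.isSemisimple_of_pow_eq_one hm hym')
    (by rw [h, Units.val_mul, Units.val_mul, Matrix.coe_units_inv, Matrix.charpoly_units_conj])
  have hζi : (((ζ⁻¹ : Fˣ)) : F) ^ (p + 1) = 1 := by
    rw [Units.val_inv_eq_inv_val, inv_pow, hζ, inv_one]
  obtain ⟨g, hg, hge⟩ := conj_SU hF hq hσ hc (x := sc ζ⁻¹ * x)
    (Subgroup.mul_mem _ (sc_mem_GU hq hσ hζi) hx) hyU' ⟨g₀, hg₀⟩ fun s hs => by
      obtain ⟨u, hu, hud, huy⟩ := hdet s hs
      refine ⟨P * u * P⁻¹, Subgroup.mul_mem _ (Subgroup.mul_mem _ hPU hu) (Subgroup.inv_mem _ hPU), ?_, ?_⟩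
      · rw [map_mul, map_mul, map_inv, hud, mul_comm (GeneralLinearGroup.det P), mul_inv_cancel_right]
      · calc P * u * P⁻¹ * (P * y * P⁻¹) = P * (u * y) * P⁻¹ := by group
          _ = P * (y * u) * P⁻¹ := by rw [huy]
          _ = _ := by group
  refine ⟨g, hg, ?_⟩
  have hinv : sc ζ * sc ζ⁻¹ = (1 : GL (Fin 4) F) := Units.ext (by
    rw [Units.val_mul, sc_val, sc_val, smul_mul_smul_comm, one_mul, ← Units.val_mul, mul_inv_cancel,
      Units.val_one, one_smul, Units.val_one])
  have : g⁻¹ * x * g = sc ζ * (P * y * P⁻¹) := by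
    rw [← hge]
    symm
    calc sc ζ * (g⁻¹ * (sc ζ⁻¹ * x) * g) = (sc ζ * g⁻¹) * (sc ζ⁻¹ * x) * g := by group
      _ = g⁻¹ * (sc ζ * sc ζ⁻¹) * x * g := by rw [sc_comm]; group
      _ = _ := by rw [hinv, mul_one]
  rw [this]
  exact Subgroup.mul_mem _ (sc_mem_normalizer _ ζ) hy'

/-- Elements of prime order of PSU_4(p), p ≡ 3 (mod 4), and the normalizer of a 2-group of symplectic type of order 2⁶. Here `T = PSU_4(p)` for a prime `p ≡ 3 (mod 4)`, realised through `SU_4(p)`, the matrices of determinant 1 over the field `F` with `p²` elements preserving the hermitian form `f = Σ uᵢvᵢ^p`; `R` is an absolutely irreducible subgroup of the full unitary group of `f` of order 2⁶ that is a 2-group of symplectic type of exponent 4 with centre of order 4, and `H` is the subgroup of `SU_4(p)` normalizing `R` — a subgroup of type 2⁴.Sp₄(2) (maximality is not assumed). Ω is the set of cosets of `H`, so an element of `T` of prime order `r` (`x ∈ SU_4(p)` with `x^r` scalar, `x` not scalar) fixes a point of Ω exactly when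 some `SU_4(p)`-conjugate of `x` normalizes `R`. Let `r` be a prime dividing the index of `H`. Then every element of `T` of order `r` fixes a point of Ω if and only if `r = 2`, or `r = 3` and `p ≡ 1 (mod 3)`, or `r = 5` and `p ≡ ±2 (mod 5)` (`p` has multiplicative order 4 modulo 5). -/
theorem result {F : Type*} [Field F] [Fintype F] {p : ℕ} [Fact p.Prime] [CharP F p] (hF : Fintype.card F = p ^ 2) (hp4 : p % 4 = 3)
    (R : Subgroup (GL (Fin 4) F)) (hRs : Cfsg.Geo.IsSymplecticTypeGroup 2 R) (hRi : Cfsg.Geo.ActsAbsolutelyIrreducibly (Cfsg.Geo.matrixSet R))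
    (hRU : R ≤ Cfsg.GU 4 F p) (hR6 : Nat.card R = 2 ^ 6) (hRZ : Nat.card (Subgroup.center R) = 4)
    (r : ℕ) [Fact r.Prime]
    (hΩ : r ∣ (Cfsg.Geo.subgroupNormalizer R).relIndex (Cfsg.GU 4 F p ⊓ Cfsg.Geo.specialLinear (Fin 4) F)) :
    (∀ x ∈ Cfsg.GU 4 F p ⊓ Cfsg.Geo.specialLinear (Fin 4) F, (∃ z : F, ((x ^ r : GL (Fin 4) F) : Matrix (Fin 4) (Fin 4) F) = z • (1 : Matrix (Fin 4) (Fin 4) F)) →
      (∀ z : F, (x : Matrix (Fin 4) (Fin 4) F) ≠ z • (1 : Matrix (Fin 4) (Fin 4) F)) →
      ∃ g ∈ Cfsg.GU 4 F p ⊓ Cfsg.Geo.specialLinear (Fin 4) F, g⁻¹ * x * g ∈ Cfsg.Geo.subgroupNormalizer R) ↔ (r = 2 ∨ (r = 3 ∧ p % 3 = 1) ∨ (r = 5 ∧ orderOf (p : ZMod 5) = 4)) := by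
  classical
  have hpr := Fact.out (p := p.Prime)
  have hp2 : p ≠ 2 := by omega
  have cast0 : ∀ n : ℕ, n.Prime → (n : F) = 0 → p = n := fun n hn e =>
    (Nat.prime_dvd_prime_iff_eq hpr hn).mp ((CharP.cast_eq_zero_iff F p n).mp e)
  have h2F : (2 : F) ≠ 0 := fun e => hp2 (cast0 2 Nat.prime_two (by exact_mod_cast e))
  haveI : Finite R := Nat.finite_of_card_ne_zero (by rw [hR6]; norm_num)
  obtain ⟨σ, hq, hσ, c₀, hc₀⟩ := HermitianFactor.exists_conjugation hF
  have S := SympTypeTwo.Setup.mk' h2F hRs hRi (by rw [hRZ]; norm_num)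
  obtain ⟨I, P, hI, hPU, hRP⟩ := PauliFourUnitary.exists_std hF hq hσ hp4 S hR6 hRZ hRU
  have root : ∀ d : ℕ, d ∣ p ^ 2 - 1 → ∃ η : F, orderOf η = d := by
    intro d hd
    obtain ⟨g, hg⟩ := IsCyclic.exists_ofOrder_eq_natCard (α := Fˣ)
    rw [Nat.card_units, Nat.card_eq_fintype_card, hF] at hg
    obtain ⟨m, hm⟩ := hd
    have hp1 : 0 < p ^ 2 - 1 := by
      have := hpr.two_le
      have : 4 ≤ p ^ 2 := by nlinarith
      omega
    have hm0 : m ≠ 0 := fun e => by rw [e, mul_zero] at hm; omega
    refine ⟨((g ^ m : Fˣ) : F), ?_⟩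
    rw [orderOf_units, orderOf_pow_of_dvd hm0 ⟨d, by rw [hg, hm, mul_comm]⟩, hg, hm,
      Nat.mul_div_left _ (Nat.pos_of_ne_zero hm0)]
  have hsq1 : p ^ 2 - 1 = (p + 1) * (p - 1) := by rw [← Nat.sq_sub_sq, one_pow]
  have detOne : ∀ g ∈ Cfsg.Geo.specialLinear (Fin 4) F, (g : Matrix (Fin 4) (Fin 4) F).det = 1 :=
    fun g hg => by
      rw [← GeneralLinearGroup.val_det_apply, show GeneralLinearGroup.det g = 1 from hg, Units.val_one]
  constructor
  · intro hall
    by_contra hnot
    push Not at hnot
    obtain ⟨hr2, hr3, hr5⟩ := hnot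
    suffices H : ∃ x ∈ Cfsg.GU 4 F p ⊓ Cfsg.Geo.specialLinear (Fin 4) F, ∃ z : F,
        ((x ^ r : GL (Fin 4) F) : Matrix (Fin 4) (Fin 4) F) = z • 1 ∧
        (∀ z : F, (x : Matrix (Fin 4) (Fin 4) F) ≠ z • 1) ∧
        ∀ g : GL (Fin 4) F, g⁻¹ * x * g ∉ Cfsg.Geo.subgroupNormalizer R by
      obtain ⟨x, hx, z, hz, hns, hno⟩ := H
      obtain ⟨g, -, hg⟩ := hall x hx ⟨z, hz⟩ hns
      exact hno g hg
    have hodd := (Fact.out (p := r.Prime)).odd_of_ne_two hr2
    have conjdata : ∀ (x g : GL (Fin 4) F) (z : F), ((x ^ r : GL (Fin 4) F) : Matrix (Fin 4) (Fin 4) F) = z • 1 →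
        (∀ z : F, (x : Matrix (Fin 4) (Fin 4) F) ≠ z • 1) →
        (((g⁻¹ * x * g) ^ r : GL (Fin 4) F) : Matrix (Fin 4) (Fin 4) F) = z • 1 ∧
        ∀ z : F, ((g⁻¹ * x * g : GL (Fin 4) F) : Matrix (Fin 4) (Fin 4) F) ≠ z • 1 := by
      intro x g z hz hns
      refine ⟨?_, fun c hc => hns c ?_⟩
      · rw [show g⁻¹ * x * g = g⁻¹ * x * g⁻¹⁻¹ by rw [inv_inv], conj_pow, inv_inv, Units.val_mul,
          Units.val_mul, hz, mul_smul_comm, mul_one, smul_mul_assoc, Units.inv_mul]
      · have : x = g * (g⁻¹ * x * g) * g⁻¹ := by group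
        rw [this, Units.val_mul, Units.val_mul, hc, mul_smul_comm, mul_one, smul_mul_assoc, Units.mul_inv]
    have tr : ∀ (x g : GL (Fin 4) F) (z : F), ((x ^ r : GL (Fin 4) F) : Matrix (Fin 4) (Fin 4) F) = z • 1 →
        (∀ z : F, (x : Matrix (Fin 4) (Fin 4) F) ≠ z • 1) →
        g⁻¹ * x * g ∈ Cfsg.Geo.subgroupNormalizer R →
        Matrix.trace (x : Matrix (Fin 4) (Fin 4) F) * Matrix.trace ((x⁻¹ : GL (Fin 4) F) : Matrix (Fin 4) (Fin 4) F) = 1 ∨
        (r = 3 ∧ Matrix.trace (x : Matrix (Fin 4) (Fin 4) F) *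
          Matrix.trace ((x⁻¹ : GL (Fin 4) F) : Matrix (Fin 4) (Fin 4) F) = 4) := by
      intro x g z hz hns hg
      obtain ⟨h1, h2⟩ := conjdata x g z hz hns
      have h := S.trace_mem (Fintype.card_fin 4) (a := 2) hR6 hRZ hg hr2 h1 h2
      have e1 : (g⁻¹ * x * g)⁻¹ = g⁻¹ * x⁻¹ * g := by group
      rw [e1, Units.val_mul, Units.val_mul, Units.val_mul, Units.val_mul, trace_units_conj',
        trace_units_conj'] at h
      exact h
    by_cases h3 : r = 3
    · subst h3
      by_cases hp3 : p = 3
      · -- a transvection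
        subst hp3
        set v : Fin 4 → F := ![1, 1, 1, 0] with hv
        set c : F := c₀ - σ c₀ with hcdef
        have hc0 : c ≠ 0 := sub_ne_zero.mpr (Ne.symm hc₀)
        have hσc : σ c = -c := by rw [hcdef, map_sub, hσ, neg_sub]
        have hσv : ∀ i, σ (v i) = v i := fun i => by fin_cases i <;> simp [hv]
        have hvv : v ⬝ᵥ v = 0 := by
          have h3 : (3 : F) = 0 := by exact_mod_cast CharP.cast_eq_zero F 3
          simp [hv, dotProduct, Fin.sum_univ_four]
          linear_combination h3
        set N : Matrix (Fin 4) (Fin 4) F := c • vecMulVec v v with hN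
        have hNN : N * N = 0 := by
          rw [hN, smul_mul_smul_comm, vecMulVec_mul_vecMulVec, hvv]; simp
        have hctN : ct σ N = -N := by
          ext i j
          simp [-mul_eq_mul_left_iff, -mul_eq_mul_right_iff, hN, ct, vecMulVec_apply, hσc, hσv]; ring
        have hN0 : N ≠ 0 := fun e => hc0 (by
          have := congrFun (congrFun e 0) 0
          simpa [hN, hv, vecMulVec_apply] using this)
        let x : GL (Fin 4) F := ⟨1 + N, 1 - N, by rw [mul_sub, mul_one, add_mul, one_mul, hNN]; abel,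
          by rw [sub_mul, one_mul, mul_add, mul_one, hNN]; abel⟩
        have hpow : ∀ n : ℕ, ((1 : Matrix (Fin 4) (Fin 4) F) + N) ^ n = 1 + (n : F) • N := by
          intro n
          induction n with
          | zero => simp
          | succ n ih =>
            rw [pow_succ, ih, mul_add, mul_one, add_mul, one_mul, smul_mul_assoc, hNN, smul_zero, add_zero,
              Nat.cast_succ, add_smul, one_smul]
            abel
        have hx3 : ((x ^ 3 : GL (Fin 4) F) : Matrix (Fin 4) (Fin 4) F) = 1 := by
          rw [Units.val_pow_eq_pow_val]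
          show (1 + N) ^ 3 = 1
          rw [hpow, CharP.cast_eq_zero F 3, zero_smul, add_zero]
        have hns : ∀ z : F, (x : Matrix (Fin 4) (Fin 4) F) ≠ z • 1 := fun z hz => by
          have := congrFun (congrFun hz 0) 1
          simp [x, hN, hv, vecMulVec_apply, hc0] at this
        have hxU : x ∈ Cfsg.GU 4 F 3 := by
          rw [HermitianFactor.mem_GU_iff hq hσ]
          show ct σ (1 + N) * (1 + N) = 1
          rw [HermitianFactor.ct_add, HermitianFactor.ct_one, hctN, mul_add, mul_one, add_mul, one_mul,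
            neg_mul, hNN]
          abel
        have hxd : x ∈ Cfsg.Geo.specialLinear (Fin 4) F := Units.ext (by
          rw [GeneralLinearGroup.val_det_apply, Units.val_one]
          have h := congrArg Matrix.det hx3
          rw [Units.val_pow_eq_pow_val, det_pow, det_one] at h
          have h3 : (3 : F) = 0 := by exact_mod_cast CharP.cast_eq_zero F 3
          set d := (x : Matrix (Fin 4) (Fin 4) F).det
          exact sub_eq_zero.mp (pow_eq_zero_iff (show (3 : ℕ) ≠ 0 by norm_num) |>.mp
            (show (d - 1) ^ 3 = 0 by linear_combination h + (d - d ^ 2) * h3)))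
        refine ⟨x, ⟨hxU, hxd⟩, 1, by rw [one_smul]; exact hx3, hns, fun g hg => ?_⟩
        set gi := ((g⁻¹ : GL (Fin 4) F) : Matrix (Fin 4) (Fin 4) F) with hgi
        set gm := (g : Matrix (Fin 4) (Fin 4) F) with hgm
        have hgg : gm * gi = 1 := Units.mul_inv g
        have hgg' : gi * gm = 1 := Units.inv_mul g
        refine S.no_transvection (Fintype.card_fin 4) (N := gi * N * gm) hg hodd ?_ ?_ ?_ ?_ ?_
        · exact ((conjdata x g 1 (by rw [one_smul]; exact hx3) hns).1).trans (one_smul F 1)
        · rw [Units.val_mul, Units.val_mul]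
          show gi * (1 + N) * gm = _
          rw [mul_add, mul_one, add_mul, hgg']
        · intro e
          refine hN0 ?_
          calc N = (gm * gi) * N * (gm * gi) := by rw [hgg, one_mul, mul_one]
            _ = gm * (gi * N * gm) * gi := by simp only [mul_assoc]
            _ = 0 := by rw [e, mul_zero, zero_mul]
        · calc gi * N * gm * (gi * N * gm) = gi * N * (gm * gi) * N * gm := by simp only [mul_assoc]
            _ = 0 := by rw [hgg, mul_one, mul_assoc gi, hNN, mul_zero, zero_mul]
        · intro X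
          have key : ∀ Y, N * Y * N = Matrix.trace (Y * N) • N := fun Y => by
            ext i j
            simp only [hN, mul_apply, Matrix.trace, Matrix.diag, Fin.sum_univ_four, Matrix.smul_apply,
              vecMulVec_apply, smul_eq_mul]
            ring
          calc gi * N * gm * X * (gi * N * gm) = gi * (N * (gm * X * gi) * N) * gm := by simp only [mul_assoc]
            _ = Matrix.trace (gm * X * gi * N) • (gi * N * gm) := by
              rw [key, mul_smul_comm, smul_mul_assoc]
            _ = _ := by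
              congr 1
              rw [show gm * X * gi * N = gm * (X * gi * N) by simp only [mul_assoc], Matrix.trace_mul_comm]
              simp only [mul_assoc]
      · have hp32 : p % 3 = 2 := by
          have h := hr3 rfl
          have : p % 3 ≠ 0 := fun e =>
            hp3 ((Nat.prime_dvd_prime_iff_eq Nat.prime_three hpr).mp (Nat.dvd_of_mod_eq_zero e)).symm
          omega
        have h3F : (3 : F) ≠ 0 := fun e => hp3 (cast0 3 Nat.prime_three (by exact_mod_cast e))
        obtain ⟨ω, hω⟩ := root 3 (hsq1 ▸ Dvd.dvd.mul_right (by omega) _)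
        have hw3 : ω ^ 3 = 1 := by rw [← hω]; exact pow_orderOf_eq_one ω
        have hw1 : ω ≠ 1 := fun e => by rw [e, orderOf_one] at hω; omega
        have hwn : ω ^ (p + 1) = 1 := by
          obtain ⟨k, hk⟩ : 3 ∣ p + 1 := by omega
          rw [hk, pow_mul, hw3, one_pow]
        have hsum : 1 + ω + ω ^ 2 = 0 :=
          (mul_eq_zero.mp (show (ω - 1) * (1 + ω + ω ^ 2) = 0 by linear_combination hw3)).resolve_left
            (sub_ne_zero.mpr hw1)
        set w : Fˣ := Units.mk0 ω (fun e => by simp [e] at hw3)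
        have hwinv : ((w⁻¹ : Fˣ) : F) = ω ^ 2 := by
          rw [Units.val_inv_eq_inv_val, inv_eq_of_mul_eq_one_right]
          show ω * ω ^ 2 = 1
          linear_combination hw3
        have hpw : ((dg ![w, w, w, 1] ^ 3 : GL (Fin 4) F) : Matrix (Fin 4) (Fin 4) F) = (1 : F) • 1 := by
          rw [one_smul, Units.val_pow_eq_pow_val, dg_val, diagonal_pow, ← diagonal_one]
          exact congrArg diagonal (funext fun i => by fin_cases i <;> simp [w, hw3])
        have hns : ∀ z : F, ((dg ![w, w, w, 1] : GL (Fin 4) F) : Matrix (Fin 4) (Fin 4) F) ≠ z • 1 := by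
          intro z hc
          have e0 := congrFun (congrFun hc 0) 0
          have e3 := congrFun (congrFun hc 3) 3
          simp [dg_val, w] at e0 e3
          exact hw1 (e0.trans e3.symm)
        refine ⟨dg ![w, w, w, 1], ⟨dg_mem_GU hq hσ fun i => by fin_cases i <;> simp [w, hwn], Units.ext ?_⟩,
          1, hpw, hns, fun g hg => ?_⟩
        · rw [GeneralLinearGroup.val_det_apply, dg_val, det_diagonal, Fin.prod_univ_four, Units.val_one]
          simp [w]; linear_combination hw3
        · rcases tr _ g 1 hpw hns hg with h | ⟨-, h⟩ <;>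
            simp only [dg, Units.inv_mk, Matrix.trace_diagonal, Fin.sum_univ_four] at h <;>
            simp [w, hwinv] at h
          · exact h2F ((mul_eq_zero.mp (show (2 : F) * 3 = 0 by
              linear_combination h - 9 * hw3 - 3 * hsum)).resolve_right h3F)
          · exact h3F (by linear_combination h - 9 * hw3 - 3 * hsum)
    by_cases h5 : r = 5
    · subst h5
      have hord := hr5 rfl
      have hp5 : p ≠ 5 := by omega
      have h3F : (3 : F) ≠ 0 ∨ p = 3 := by
        by_cases h : p = 3
        · exact Or.inr h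
        · exact Or.inl fun e => h (cast0 3 Nat.prime_three (by exact_mod_cast e))
      have hp50 : p % 5 ≠ 0 := fun e =>
        hp5 ((Nat.prime_dvd_prime_iff_eq (by norm_num) hpr).mp (Nat.dvd_of_mod_eq_zero e)).symm
      have hp14 : p % 5 = 1 ∨ p % 5 = 4 := by
        by_contra hc
        refine hord ?_
        rw [← ZMod.natCast_mod p 5]
        rcases (show p % 5 = 2 ∨ p % 5 = 3 by omega) with e | e <;> rw [e] <;>
          exact orderOf_eq_prime_pow (p := 2) (n := 1) (by decide) (by decide)
      have h3F' : (3 : F) ≠ 0 := h3F.resolve_right (by omega)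
      obtain ⟨ζ, hζ⟩ := root 5 (by
        rw [hsq1]
        rcases hp14 with h | h
        · exact Dvd.dvd.mul_left (by omega) _
        · exact Dvd.dvd.mul_right (by omega) _)
      have hz5 : ζ ^ 5 = 1 := by rw [← hζ]; exact pow_orderOf_eq_one ζ
      have hz1 : ζ ≠ 1 := fun e => by rw [e, orderOf_one] at hζ; omega
      have hsum : ζ ^ 4 + ζ ^ 3 + ζ ^ 2 + ζ + 1 = 0 :=
        (mul_eq_zero.mp (show (ζ - 1) * (ζ ^ 4 + ζ ^ 3 + ζ ^ 2 + ζ + 1) = 0 by
          linear_combination hz5)).resolve_left (sub_ne_zero.mpr hz1)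
      have hz0 : ζ ≠ 0 := fun e => by simp [e] at hz5
      set s := ζ + ζ ^ 4 with hs
      have hss : s ^ 2 + s - 1 = 0 := by rw [hs]; linear_combination hsum + (2 + ζ ^ 3) * hz5
      have hsne : ∀ (k : F), (k = -1 ∨ k = -3) → s ≠ k := by
        intro k hk e
        rw [e] at hss
        have h50 : (5 : F) = 0 ∨ (1 : F) = 0 := by
          rcases hk with rfl | rfl
          · exact Or.inr (by linear_combination -hss)
          · exact Or.inl (by linear_combination hss)
        rcases h50 with e' | e'
        · exact hp5 (cast0 5 (by norm_num) (by exact_mod_cast e'))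
        · exact one_ne_zero e'
      rcases hp14 with hp15 | hp45
      · -- a hyperbolic pair
        have hσz : σ ζ = ζ := by
          obtain ⟨k, hk⟩ : 5 ∣ p - 1 := by omega
          rw [hq, show p = 5 * k + 1 by omega, pow_succ, pow_mul, hz5, one_pow, one_mul]
        have hσs : σ s = s := by rw [hs, map_add, map_pow, hσz]
        obtain ⟨a, ha⟩ := OrthUnitaryTransvection.exists_trace hF (a := s) (by rw [← hq, hσs])
        obtain ⟨b, hb⟩ := OrthUnitaryHerm.exists_norm_eq hF (a := 1 - a * σ a) (by
          rw [← hq, map_sub, map_one, map_mul, hσ, mul_comm (σ a)])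
        rw [← hq] at ha
        rw [pow_succ, ← hq] at hb
        let x : GL (Fin 4) F := ⟨!![a, b, 0, 0; -σ b, σ a, 0, 0; 0, 0, 1, 0; 0, 0, 0, 1],
          !![σ a, -b, 0, 0; σ b, a, 0, 0; 0, 0, 1, 0; 0, 0, 0, 1],
          by ext i j; fin_cases i <;> fin_cases j <;> simp [mul_apply, Fin.sum_univ_four] <;>
              first | ring1 | linear_combination hb | linear_combination -hb,
          by ext i j; fin_cases i <;> fin_cases j <;> simp [mul_apply, Fin.sum_univ_four] <;>
              first | ring1 | linear_combination hb | linear_combination -hb⟩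
        have hxU : x ∈ Cfsg.GU 4 F p := by
          rw [mem_iff hq hσ]
          ext i j
          fin_cases i <;> fin_cases j <;> simp [x, ct, hσ, Units.inv_mk]
        have hxd : x ∈ Cfsg.Geo.specialLinear (Fin 4) F := Units.ext (by
          rw [GeneralLinearGroup.val_det_apply, Units.val_one]
          simp [x, det_succ_row_zero, Fin.sum_univ_succ, Fin.succAbove]
          linear_combination hb)
        set X₀ := (x : Matrix (Fin 4) (Fin 4) F)
        have hkey : (X₀ - 1) * (X₀ * X₀ - s • X₀ + 1) = 0 := by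
          have e1 : ∀ i j : Fin 4, (i : ℕ) < 2 → (X₀ * X₀ - s • X₀ + 1) i j = 0 := by
            intro i j hi
            fin_cases i <;> fin_cases j <;> simp [X₀, x, mul_apply, Fin.sum_univ_four] at hi ⊢ <;>
              first | linear_combination a * ha - hb | linear_combination b * ha |
                linear_combination -σ b * ha | linear_combination σ a * ha - hb
          ext i j
          rw [mul_apply, Fin.sum_univ_four, e1 0 j (by simp), e1 1 j (by simp)]
          fin_cases i <;> simp [X₀, x]
        have hpw : ((x ^ 5 : GL (Fin 4) F) : Matrix (Fin 4) (Fin 4) F) = (1 : F) • 1 := by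
          rw [one_smul, Units.val_pow_eq_pow_val]
          have e : (X₀ - 1) * (X₀ * X₀ - s • X₀ + 1) * (X₀ * X₀ - (-1 - s) • X₀ + 1) = X₀ ^ 5 - 1 := by
            simp only [pow_succ, pow_zero, one_mul, mul_add, add_mul, mul_sub, sub_mul, mul_one,
              smul_mul_assoc, mul_smul_comm, mul_assoc, smul_smul, smul_add, smul_sub]
            match_scalars <;> first | ring1 | linear_combination hss | linear_combination -hss
          rw [hkey, zero_mul] at e
          exact sub_eq_zero.mp e.symm
        have hs2 : s ≠ 2 := fun e => hp5 (cast0 5 (by norm_num) (by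
          rw [e] at hss; push_cast; linear_combination hss))
        have hns : ∀ z : F, X₀ ≠ z • 1 := by
          intro z hz
          have e3 := congrFun (congrFun hz 3) 3
          have e0 := congrFun (congrFun hz 0) 0
          have e1 := congrFun (congrFun hz 1) 1
          simp [X₀, x] at e3 e0 e1
          exact hs2 (by linear_combination -ha + e0 + e1 - 2 * e3)
        refine ⟨x, ⟨hxU, hxd⟩, 1, hpw, hns, fun g hg => ?_⟩
        rcases tr x g 1 hpw hns hg with h | ⟨h', -⟩
        · simp [x, Matrix.trace, Fin.sum_univ_four] at h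
          rcases mul_eq_zero.mp (show (s + 1) * (s + 3) = 0 by
            linear_combination h - (s + a + σ a + 4) * ha) with e | e
          · exact hsne (-1) (Or.inl rfl) (by linear_combination e)
          · exact hsne (-3) (Or.inr rfl) (by linear_combination e)
        · omega
      · set w : Fˣ := Units.mk0 ζ hz0
        have hwinv : ((w⁻¹ : Fˣ) : F) = ζ ^ 4 := by
          rw [Units.val_inv_eq_inv_val, inv_eq_of_mul_eq_one_right]
          show ζ * ζ ^ 4 = 1
          linear_combination hz5
        have hwn : ζ ^ (p + 1) = 1 := by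
          obtain ⟨k, hk⟩ : 5 ∣ p + 1 := by omega
          rw [hk, pow_mul, hz5, one_pow]
        have hpw : (((dg ![w, w, w, w * w]) ^ 5 : GL (Fin 4) F) : Matrix (Fin 4) (Fin 4) F) = (1 : F) • 1 := by
          rw [one_smul, Units.val_pow_eq_pow_val, dg_val, diagonal_pow, ← diagonal_one]
          exact congrArg diagonal (funext fun i => by fin_cases i <;> simp [w, hz5, mul_pow])
        have hns : ∀ c : F, ((dg ![w, w, w, w * w] : GL (Fin 4) F) : Matrix (Fin 4) (Fin 4) F) ≠ c • 1 := by
          intro c hc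
          have e0 := congrFun (congrFun hc 0) 0
          have e3 := congrFun (congrFun hc 3) 3
          simp [dg_val, w] at e0 e3
          exact hz1 (mul_left_cancel₀ hz0 (by rw [mul_one, e3, e0]))
        refine ⟨dg ![w, w, w, w * w], ⟨dg_mem_GU hq hσ fun i => by
          fin_cases i <;> simp [w, hwn, mul_pow], Units.ext ?_⟩, 1, hpw, hns, fun g hg => ?_⟩
        · rw [GeneralLinearGroup.val_det_apply, dg_val, det_diagonal, Fin.prod_univ_four, Units.val_one]
          simp [w]; linear_combination hz5
        · rcases tr _ g 1 hpw hns hg with h | ⟨h', -⟩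
          · simp only [dg, Units.inv_mk, Matrix.trace_diagonal, Fin.sum_univ_four] at h
            simp [w, hwinv, mul_inv] at h
            have hi : ζ⁻¹ = ζ ^ 4 := inv_eq_of_mul_eq_one_right (by linear_combination hz5)
            try simp only [hi] at h
            have hs3 : 3 * s + 9 = 0 := by
              rw [hs]; linear_combination h - (9 + 3 * ζ ^ 4 + 3 * ζ + ζ ^ 5 + 1) * hz5
            exact hsne (-3) (Or.inr rfl) (mul_left_cancel₀ h3F' (by linear_combination hs3))
          · omega
    · -- large primes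
      have hdvd : r ∣ Nat.card ↥(Cfsg.GU 4 F p ⊓ Cfsg.Geo.specialLinear (Fin 4) F) :=
        hΩ.trans (Subgroup.relIndex_dvd_card _ _)
      obtain ⟨⟨x, hx⟩, hxo⟩ := exists_prime_orderOf_dvd_card' r hdvd
      rw [Subgroup.orderOf_mk] at hxo
      have hxr : ((x ^ r : GL (Fin 4) F) : Matrix (Fin 4) (Fin 4) F) = (1 : F) • 1 := by
        rw [← hxo, pow_orderOf_eq_one, one_smul, Units.val_one]
      have hns : ∀ c : F, (x : Matrix (Fin 4) (Fin 4) F) ≠ c • 1 := fun c hc => by
        have hd := detOne x hx.2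
        rw [hc, det_smul, det_one, mul_one, Fintype.card_fin] at hd
        have : x ^ 4 = 1 := Units.ext (by
          rw [Units.val_pow_eq_pow_val, hc, _root_.smul_pow, one_pow, hd, one_smul, Units.val_one])
        have h4 := orderOf_dvd_of_pow_eq_one this
        rw [hxo, show 4 = 2 ^ 2 from rfl] at h4
        exact hr2 ((Nat.prime_dvd_prime_iff_eq Fact.out Nat.prime_two).mp ((Fact.out (p := r.Prime)).dvd_of_dvd_pow h4))
      refine ⟨x, hx, 1, hxr, hns, fun g hg => ?_⟩
      obtain ⟨h1, h2⟩ := conjdata x g 1 hxr hns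
      rcases (S.fixed_card (a := 2) hR6 hRZ hg hr2 h1 h2).1 with h | h <;> contradiction
  · intro hr x hx ⟨z, hz⟩ hns
    have hdx := detOne x hx.2
    have hz4 : z ^ 4 = 1 := by
      have e := congrArg Matrix.det hz
      rw [Units.val_pow_eq_pow_val, det_pow, hdx, one_pow, det_smul, det_one, mul_one, Fintype.card_fin] at e
      exact e.symm
    have hz0 : z ≠ 0 := fun e => by simp [e] at hz4
    rw [Units.val_pow_eq_pow_val] at hz
    rw [hRP]
    have hh : ((2 : F)⁻¹) * 2 = 1 := inv_mul_cancel₀ h2F
    obtain ⟨mT, mTT, mF⟩ := cliff_mem_GU hq hσ hI hh hp4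
    obtain ⟨o1, o2, o3⟩ := cliff_order hI hh
    obtain ⟨t1, t2, t3⟩ := cliff_trace hI hh
    have scaled : ∀ (ζ : Fˣ), (ζ : F) ^ r = z →
        ((sc ζ⁻¹ * x : GL (Fin 4) F) : Matrix (Fin 4) (Fin 4) F) ^ r = 1 ∧
        ((sc ζ⁻¹ * x : GL (Fin 4) F) : Matrix (Fin 4) (Fin 4) F) ≠ 1 := by
      intro ζ hζ
      rw [Units.val_mul, sc_val, smul_mul_assoc, one_mul]
      refine ⟨?_, fun e => hns ζ ?_⟩
      · rw [_root_.smul_pow, hz, smul_smul, ← hζ, ← mul_pow, ← Units.val_mul, inv_mul_cancel, Units.val_one,
          one_pow, one_smul]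
      · rw [← e, smul_smul, ← Units.val_mul, mul_inv_cancel, Units.val_one, one_smul]
    have scU : ∀ (ζ : Fˣ), (ζ : F) ^ (p + 1) = 1 → sc ζ⁻¹ * x ∈ Cfsg.GU 4 F p := fun ζ h =>
      Subgroup.mul_mem _ (sc_mem_GU hq hσ (by rw [Units.val_inv_eq_inv_val, inv_pow, h, inv_one])) hx.1
    rcases hr with rfl | ⟨rfl, hp3⟩ | ⟨rfl, hp5⟩
    · -- involutions
      obtain ⟨η, hη⟩ := root 8 (by
        obtain ⟨k, rfl⟩ : ∃ k, p = 4 * k + 3 := ⟨p / 4, by omega⟩
        rw [show (4 * k + 3) ^ 2 = 8 * (2 * k * k + 3 * k + 1) + 1 by ring, Nat.add_sub_cancel]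
        exact dvd_mul_right _ _)
      have hη4 : IsPrimitiveRoot (η ^ 2) 4 := by
        refine IsPrimitiveRoot.iff_orderOf.mpr ?_
        rw [orderOf_pow_of_dvd (by omega) (by rw [hη]; norm_num), hη]
      obtain ⟨k, -, hk⟩ := hη4.eq_pow_of_pow_eq_one hz4
      have hl : (η ^ k) ^ 2 = z := by rw [← hk, ← pow_mul, ← pow_mul, mul_comm]
      have hl0 : η ^ k ≠ 0 := fun e => hz0 (by rw [← hl, e]; norm_num)
      set ζ : Fˣ := Units.mk0 (η ^ k) hl0
      have hζz : (ζ : F) ^ 2 = z := hl
      obtain ⟨hx1, -⟩ := scaled ζ hζz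
      obtain ⟨a, b, e, hab⟩ := charpoly_shape
        (A := ((sc ζ⁻¹ * x : GL (Fin 4) F) : Matrix (Fin 4) (Fin 4) F)) (irreducible_X_sub_C (1 : F))
        (monic_X_sub_C 1) (irreducible_X_sub_C (-1 : F)) (monic_X_sub_C _) (by
          rw [show (X - C (1 : F)) * (X - C (-1)) = X ^ 2 - 1 by rw [map_neg, map_one]; ring, map_sub,
            map_pow, aeval_X, map_one, hx1, sub_self])
      rw [natDegree_X_sub_C, natDegree_X_sub_C, mul_one, mul_one] at hab
      let d : Fin 4 → Fˣ := fun i => if (i : ℕ) < a then 1 else -1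
      have hd : (((sc ζ⁻¹ * x : GL (Fin 4) F)) : Matrix (Fin 4) (Fin 4) F).charpoly =
          (dg d : Matrix (Fin 4) (Fin 4) F).charpoly := by
        rw [e, dg_val, charpoly_diagonal, Fin.prod_univ_four]
        obtain rfl : b = 4 - a := by omega
        have : a ≤ 4 := by omega
        simp only [d]
        interval_cases a <;> simp [-mul_eq_mul_left_iff, -mul_eq_mul_right_iff, -mul_eq_zero] <;> ring
      have hm1 : ((-1 : F)) ^ (p + 1) = 1 := Even.neg_one_pow ⟨(p + 1) / 2, by omega⟩
      have hdn : ∀ i, (d i : F) ^ (p + 1) = 1 := fun i => by simp only [d]; split_ifs <;> simp [hm1]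
      -- the scalar has norm one
      have hζn : (ζ : F) ^ (p + 1) = 1 := by
        have hdetd : ((sc ζ⁻¹ * x : GL (Fin 4) F) : Matrix (Fin 4) (Fin 4) F).det =
            (dg d : Matrix (Fin 4) (Fin 4) F).det := by
          rw [Matrix.det_eq_sign_charpoly_coeff, Matrix.det_eq_sign_charpoly_coeff, hd]
        have htr : Matrix.trace (x : Matrix (Fin 4) (Fin 4) F) =
            (ζ : F) * Matrix.trace (dg d : Matrix (Fin 4) (Fin 4) F) := by
          rw [← trace_eq hd, Units.val_mul, sc_val, smul_mul_assoc, one_mul, trace_smul, smul_eq_mul,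
            ← mul_assoc, ← Units.val_mul, mul_inv_cancel, Units.val_one, one_mul]
        set T := Matrix.trace (dg d : Matrix (Fin 4) (Fin 4) F) with hT
        by_cases heven : b % 2 = 0
        · -- determinant
          refine fourth ?_ hp4
          rw [Units.val_mul, sc_val, smul_mul_assoc, one_mul, det_smul, hdx, mul_one, Fintype.card_fin, dg_val,
            det_diagonal, Fin.prod_univ_four, Units.val_inv_eq_inv_val, inv_pow] at hdetd
          obtain rfl : b = 4 - a := by omega
          have : a ≤ 4 := by omega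
          simp only [d] at hdetd
          interval_cases a <;> simp at heven hdetd ⊢ <;> exact hdetd
        · -- trace
          have hTne : T ≠ 0 ∧ σ T = T := by
            refine ⟨?_, ?_⟩
            · rw [hT, dg_val, trace_diagonal, Fin.sum_univ_four]
              obtain rfl : b = 4 - a := by omega
              have : a ≤ 4 := by omega
              simp only [d]
              interval_cases a <;> simp at heven ⊢ <;> intro h0 <;>
                exact h2F (by first | linear_combination h0 | linear_combination -h0)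
            · rw [hT, dg_val, trace_diagonal, map_sum]
              exact Finset.sum_congr rfl fun i _ => by simp only [d]; split_ifs <;> simp
          have hxinv : ((x⁻¹ : GL (Fin 4) F) : Matrix (Fin 4) (Fin 4) F) = z⁻¹ • (x : Matrix (Fin 4) (Fin 4) F) := by
            refine Units.inv_eq_of_mul_eq_one_right ?_
            rw [mul_smul_comm, ← pow_two, hz, smul_smul, inv_mul_cancel₀ hz0, one_smul]
          have h := congrArg Matrix.trace ((mem_iff hq hσ x).1 hx.1)
          rw [hxinv, trace_smul, smul_eq_mul, htr, ct, trace_transpose,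
            show Matrix.trace ((x : Matrix (Fin 4) (Fin 4) F).map σ) = σ (Matrix.trace (x : Matrix (Fin 4) (Fin 4) F))
              from by simp [Matrix.trace, map_sum], htr, map_mul, hTne.2, hq, ← hζz, ← mul_assoc] at h
          have h' := mul_right_cancel₀ hTne.1 h
          rw [pow_succ, h']
          field_simp
      refine finishU hF hq hσ hc₀ hPU hx.1 ζ hζn (y := dg d) (m := 2) (by exact_mod_cast h2F) hx1 ?_
        (sign_mem hI d fun i => ?_) (dg_mem_GU hq hσ hdn) hd fun s hs => ?_
      · rw [dg_val, diagonal_pow, ← diagonal_one]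
        exact congrArg diagonal (funext fun i => by simp only [Pi.pow_apply, d]; split_ifs <;> simp)
      · simp only [d]; split_ifs <;> simp
      · refine ⟨dg ![s, 1, 1, 1], dg_mem_GU hq hσ fun i => by fin_cases i <;> simp [hs], ?_, ?_⟩
        · apply Units.ext
          simp [GeneralLinearGroup.val_det_apply, dg_val, Fin.prod_univ_four]
        · apply Units.ext
          rw [Units.val_mul, Units.val_mul, dg_val, dg_val, diagonal_mul_diagonal, diagonal_mul_diagonal]
          exact congrArg diagonal (funext fun i => mul_comm _ _)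
    · -- elements of order three
      have hp7 : 5 ≤ p := by omega
      have h3F : (3 : F) ≠ 0 := fun e => by
        have := cast0 3 Nat.prime_three (by exact_mod_cast e); omega
      obtain ⟨ω, hω⟩ := root 3 (hsq1 ▸ Dvd.dvd.mul_left (by omega) _)
      have hw3 : ω ^ 3 = 1 := by rw [← hω]; exact pow_orderOf_eq_one ω
      have hw1 : ω ≠ 1 := fun e => by rw [e, orderOf_one] at hω; omega
      have hsum : 1 + ω + ω ^ 2 = 0 :=
        (mul_eq_zero.mp (show (ω - 1) * (1 + ω + ω ^ 2) = 0 by linear_combination hw3)).resolve_left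
          (sub_ne_zero.mpr hw1)
      have hσw : σ ω = ω := by
        obtain ⟨k, hk⟩ : 3 ∣ p - 1 := by omega
        rw [hq, show p = 3 * k + 1 by omega, pow_succ, pow_mul, hw3, one_pow, one_mul]
      set ζ : Fˣ := Units.mk0 (z ^ 3) (pow_ne_zero _ hz0)
      have hζn : (ζ : F) ^ (p + 1) = 1 := fourth (by
        show (z ^ 3) ^ 4 = 1
        rw [← pow_mul, mul_comm, pow_mul, hz4, one_pow]) hp4
      obtain ⟨hx1, hxne⟩ := scaled ζ (by
        show (z ^ 3) ^ 3 = z
        linear_combination (z ^ 5 + z) * hz4)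
      have h3' : ((3 : ℕ) : F) ≠ 0 := by exact_mod_cast h3F
      have hne : ω ≠ ω ^ 2 := fun e => hw1 (mul_left_cancel₀ (show ω ≠ 0 from fun e0 => by simp [e0] at hw3)
        (by rw [mul_one, ← pow_two]; exact e.symm))
      have hne1 : (1 : F) ≠ ω ^ 2 := fun e => hw1 (by linear_combination hw3 + ω * e)
      have sh : ∀ A : GL (Fin 4) F, A ∈ Cfsg.GU 4 F p → (A : Matrix (Fin 4) (Fin 4) F) ^ 3 = 1 →
          (A : Matrix (Fin 4) (Fin 4) F) ≠ 1 → ∃ a b : ℕ, (A : Matrix (Fin 4) (Fin 4) F).charpoly =
            (X - C 1) ^ a * (X - C ω) ^ b * (X - C (ω ^ 2)) ^ b ∧ a + 2 * b = 4 ∧ 1 ≤ b := by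
        intro A hA hA3 hA1
        obtain ⟨a, b, e, hab, hb⟩ := shapeU hq hσ hA h3' hA3 hA1 (irreducible_X_sub_C ω) (monic_X_sub_C ω)
          (irreducible_X_sub_C (ω ^ 2)) (monic_X_sub_C _) (by
            have hs2 : C (1 : F) + C ω + C ω ^ 2 = 0 := by rw [← map_pow, ← map_add, ← map_add, hsum, map_zero]
            have hw3' : (C ω : F[X]) ^ 3 = 1 := by rw [← map_pow, hw3, map_one]
            rw [map_pow, map_one] at *
            linear_combination (-(X : F[X]) ^ 2 + C ω * X) * hs2 + (X * 0 - 1) * hw3')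
          (by rw [natDegree_X_sub_C, natDegree_X_sub_C])
          ⟨fun e => hw1 (C_injective (sub_right_injective e)).symm,
            fun e => hne1 (C_injective (sub_right_injective e))⟩
          (fun e => hne (C_injective (sub_right_injective e)))
          (dual_X_sub_C (by simp)) (dual_X_sub_C (by rw [hσw]; linear_combination hw3))
          (dual_X_sub_C (by rw [map_pow, hσw]; linear_combination hw3))
        rw [natDegree_X_sub_C, mul_one] at hab
        exact ⟨a, b, e, hab, hb⟩
      have h4 : Matrix.trace (1 : Matrix (Fin 4) (Fin 4) F) = 4 := by rw [trace_one, Fintype.card_fin]; norm_num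
      have n1 : (cliffT (I : F) (2 : F)⁻¹ hI hh : Matrix (Fin 4) (Fin 4) F) ≠ 1 := fun e => by
        rw [e, h4] at t1
        exact h2F ((mul_eq_zero.mp (show (2 : F) * 3 = 0 by linear_combination t1)).resolve_right h3F)
      have n2 : (cliffTT (I : F) (2 : F)⁻¹ hI hh : Matrix (Fin 4) (Fin 4) F) ≠ 1 := fun e => by
        rw [e, h4] at t2
        exact h3F (by linear_combination t2)
      obtain ⟨a, b, e, hab, hb⟩ := sh _ (scU ζ hζn) hx1 hxne
      obtain ⟨a1, b1, e1, hab1, hb1⟩ := sh _ mT o1 n1
      obtain ⟨a2, b2, e2, hab2, hb2⟩ := sh _ mTT o2 n2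
      have hnb : b1 ≠ b2 := fun hb => by
        have : a1 = a2 := by omega
        have := trace_eq (e1.trans (this ▸ hb ▸ e2.symm))
        rw [t1, t2] at this
        exact h3F (by linear_combination -this)
      rcases (show b = b1 ∨ b = b2 by omega) with hb' | hb'
      · refine finishU hF hq hσ hc₀ hPU hx.1 ζ hζn h3' hx1 o1 (cliffT_mem hI hh) mT (by
          rw [e, e1, hb', show a = a1 by omega]) fun s hs => ?_
        exact three_det hF hp7 hq hσ hw3 hsum hσw mT o1
          (Q := diagonal ![1, 0, 1, 0]) (by rw [diagonal_mul_diagonal]; congr 1; ext i; fin_cases i <;> simp)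
          (by ext i j; fin_cases i <;> fin_cases j <;> simp [ct])
          (by ext i j; fin_cases i <;> fin_cases j <;> simp [cliffT, diagonal_mul, mul_diagonal])
          (a := 2) (b := -1) (by simp [Matrix.trace, Fin.sum_univ_four]; norm_num)
          (by simp [cliffT, Matrix.trace, Fin.sum_univ_four, mul_diagonal, vecMul_diagonal]; linear_combination -hh)
          (by
            simp [cliffT, Matrix.trace, Fin.sum_univ_four, mul_diagonal, vecMul_diagonal, mul_apply]
            linear_combination (4 * (2 : F)⁻¹ ^ 2) * hI - (2 * (2 : F)⁻¹ + 1) * hh)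
          (by norm_num) s hs
      · refine finishU hF hq hσ hc₀ hPU hx.1 ζ hζn h3' hx1 o2 (cliffTT_mem hI hh) mTT (by
          rw [e, e2, hb', show a = a2 by omega]) fun s hs => ?_
        exact three_det hF hp7 hq hσ hw3 hsum hσw mTT o2 (Q := 1) (one_mul 1) HermitianFactor.ct_one
          (by rw [one_mul, mul_one]) (a := 4) (b := 1) h4 (by rw [mul_one]; exact t2)
          (by
            rw [mul_one]
            simp [cliffTT, Matrix.trace, Fin.sum_univ_four, mul_apply]
            linear_combination (2 * (2 : F)⁻¹ + 1) * hh)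
          (by norm_num) s hs
    · -- elements of order five
      have hp50 : p % 5 ≠ 0 := fun e => by
        rw [← ZMod.natCast_mod, e] at hp5; simp at hp5
      have hp23 : p % 5 = 2 ∨ p % 5 = 3 := by
        by_contra hc
        rw [← ZMod.natCast_mod] at hp5
        rcases (show p % 5 = 1 ∨ p % 5 = 4 by omega) with e | e <;> rw [e] at hp5
        · simp at hp5
        · have hd : orderOf ((4 : ℕ) : ZMod 5) ∣ 2 := orderOf_dvd_of_pow_eq_one (by rfl)
          rw [hp5] at hd
          omega
      have h5F : ((5 : ℕ) : F) ≠ 0 := fun e => hp50 (by rw [cast0 5 (by norm_num) e])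
      have h5F' : (5 : F) ≠ 0 := by exact_mod_cast h5F
      obtain ⟨r₅, hr₅⟩ : IsSquare (5 : F) := by
        refine (FiniteField.isSquare_iff (by rw [ringChar.eq F p]; exact hp2) h5F').mpr ?_
        obtain ⟨k, rfl⟩ : ∃ k, p = 2 * k + 1 := ⟨p / 2, by omega⟩
        have hsplit : Fintype.card F / 2 = (2 * k + 1 - 1) * (k + 1) := by
          rw [hF, Nat.add_sub_cancel, show (2 * k + 1) ^ 2 = 2 * (2 * k * (k + 1)) + 1 by ring]; omega
        have h5p : (5 : F) ^ (2 * k + 1) = 5 := by
          haveI : ExpChar F (2 * k + 1) := ExpChar.prime hpr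
          exact map_ofNat (frobenius F (2 * k + 1)) 5
        have h1 : (5 : F) ^ (2 * k + 1 - 1) = 1 := by
          rw [pow_succ] at h5p
          rw [Nat.add_sub_cancel]
          exact (mul_eq_right₀ h5F').mp h5p
        rw [hsplit, pow_mul, h1, one_pow]
      set t : F := (-1 + r₅) * (2 : F)⁻¹ with htdef
      have htt : t ^ 2 + t - 1 = 0 := by
        rw [htdef]
        have h2 : (2 : F)⁻¹ * 2 = 1 := inv_mul_cancel₀ h2F
        linear_combination (-((2 : F)⁻¹) ^ 2) * hr₅ + (3 * (2 : F)⁻¹ - r₅ * (2 : F)⁻¹ + 1) * h2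
      have noroot : ∀ u l : F, u ^ 2 + u - 1 = 0 → l ^ 2 - u * l + 1 ≠ 0 := by
        intro u l hu hl
        have h5l : l ^ 5 = 1 := by
          linear_combination (l - 1) * (l ^ 2 + (u + 1) * l + 1) * hl + ((l - 1) * l ^ 2) * hu
        have hl1 : l ≠ 1 := fun e => by
          rw [e] at hl
          have : u = 2 := by linear_combination -hl
          rw [this] at hu
          exact h5F' (by linear_combination hu)
        have hl0 : l ≠ 0 := fun e => by simp [e] at hl
        haveI : Fact (Nat.Prime 5) := ⟨by norm_num⟩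
        have h := FiniteField.pow_card_sub_one_eq_one l hl0
        have hd := orderOf_dvd_of_pow_eq_one h
        rw [orderOf_eq_prime h5l hl1, hF] at hd
        have h21 : 1 ≤ p ^ 2 := Nat.one_le_pow _ _ hpr.pos
        have hm : p ^ 2 % 5 = 1 := by
          obtain ⟨k, hk⟩ := hd
          omega
        rw [Nat.pow_mod] at hm
        rcases hp23 with e | e <;> rw [e] at hm <;> norm_num at hm
      set t' : F := -1 - t with ht'def
      have htt' : t' ^ 2 + t' - 1 = 0 := by rw [ht'def]; linear_combination htt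
      have htne : t ≠ t' := fun e => by
        rw [ht'def] at e
        exact h5F' (by linear_combination -4 * htt + (2 * t + 1) * e)
      have hσt : σ t = t' := by
        haveI : ExpChar F p := ExpChar.prime hpr
        have hr5p : σ r₅ = -r₅ ∨ σ r₅ = r₅ := by
          have : σ r₅ * σ r₅ = r₅ * r₅ := by rw [← map_mul, ← hr₅, map_ofNat]
          exact (mul_self_eq_mul_self_iff.mp this).symm
        rcases hr5p with h | h
        · rw [ht'def, htdef, map_mul, map_add, map_neg, map_one, map_inv₀, map_ofNat, h]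
          linear_combination (-1 : F) * inv_mul_cancel₀ h2F
        · exfalso
          -- then `t` lies in the prime field and five is a square modulo `p`
          have hσt : t ^ p = t := by
            rw [← hq, htdef, map_mul, map_add, map_neg, map_one, map_inv₀, map_ofNat, h]
          haveI : Fact (Nat.Prime 5) := ⟨by norm_num⟩
          have hr50 : r₅ ≠ 0 := fun e => h5F' (by rw [hr₅, e, mul_zero])
          have h5p : ((5 : ℕ) : ZMod p) ≠ 0 := fun e => hp50 (by
            have := (ZMod.natCast_eq_zero_iff _ _).mp e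
            rw [(Nat.prime_dvd_prime_iff_eq hpr (by norm_num)).mp this])
          have hsq : IsSquare ((5 : ℕ) : ZMod p) := (ZMod.euler_criterion p h5p).mpr ((ZMod.castHom dvd_rfl F).injective (by
            rw [map_pow, map_natCast, map_one, Nat.cast_ofNat, hr₅, ← pow_two, ← pow_mul]
            have hp' : r₅ ^ p = r₅ := by rw [← hq, h]
            obtain ⟨k, hk⟩ : ∃ k, p = 2 * k + 1 := ⟨p / 2, by omega⟩
            rw [show 2 * (p / 2) = p - 1 by omega]
            exact (mul_eq_right₀ hr50).mp (by rw [← pow_succ, Nat.sub_add_cancel hpr.pos, hp'])))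
          have := (ZMod.exists_sq_eq_prime_iff_of_mod_four_eq_one (p := 5) (q := p) (by norm_num) hp2).mpr hsq
          obtain ⟨w, hw⟩ := this
          rw [← ZMod.natCast_mod] at hw
          rcases hp23 with e | e <;> rw [e] at hw
          exacts [(nonsq_five w).1 hw, (nonsq_five w).2 hw]
      set ζ : Fˣ := Units.mk0 z hz0
      have hζn : (ζ : F) ^ (p + 1) = 1 := fourth hz4 hp4
      obtain ⟨hx1, hxne⟩ := scaled ζ (by
        show z ^ 5 = z
        linear_combination z * hz4)
      have sh : ∀ A : GL (Fin 4) F, A ∈ Cfsg.GU 4 F p → (A : Matrix (Fin 4) (Fin 4) F) ^ 5 = 1 →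
          (A : Matrix (Fin 4) (Fin 4) F) ≠ 1 → (A : Matrix (Fin 4) (Fin 4) F).charpoly =
            (X ^ 2 - C t * X + C 1) * (X ^ 2 - C t' * X + C 1) := by
        intro A hA hA5 hA1
        have hdt : (X ^ 2 - C t * X + C 1 : F[X]).natDegree = 2 := by compute_degree!
        have hdt' : (X ^ 2 - C t' * X + C 1 : F[X]).natDegree = 2 := by compute_degree!
        obtain ⟨a, b, e, hab, hb⟩ := shapeU hq hσ hA h5F hA5 hA1 (quad_irred fun l => noroot t l htt)
          (by monicity!) (quad_irred fun l => noroot t' l htt') (by monicity!) (by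
            have hC1 : C t' = -1 - C t := by rw [ht'def, map_sub, map_neg, map_one]
            have hC2 : (C t : F[X]) ^ 2 + C t - 1 = 0 := by
              rw [← map_pow, ← map_add, ← map_one C, ← map_sub, htt, map_zero]
            rw [hC1, map_one]
            linear_combination (-(X : F[X]) ^ 2 * (X - 1)) * hC2)
          (by rw [hdt, hdt'])
          ⟨fun e => by
              have := congrArg natDegree e
              rw [natDegree_X_sub_C, hdt] at this
              omega,
            fun e => by
              have := congrArg natDegree e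
              rw [natDegree_X_sub_C, hdt'] at this
              omega⟩
          (fun e => htne (by
            have := congrArg (fun q => q.coeff 1) e
            simpa [coeff_X_pow, coeff_one] using this))
          (dual_X_sub_C (by simp)) (by rw [dual_quad, hσt]) (by
            rw [dual_quad, show σ t' = t by rw [← hσt, hσ]])
        rw [hdt] at hab
        rw [e, show a = 0 by omega, show b = 1 by omega]
        simp
      have n3 : (cliffF (I : F) (2 : F)⁻¹ hI hh : Matrix (Fin 4) (Fin 4) F) ≠ 1 := fun e => by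
        rw [e, trace_one, Fintype.card_fin] at t3
        exact h5F' (by push_cast at t3 ⊢; linear_combination t3)
      refine finishU hF hq hσ hc₀ hPU hx.1 ζ hζn h5F hx1 o3 (cliffF_mem hI hh) mF (by
        rw [sh _ (scU ζ hζn) hx1 hxne, sh _ mF o3 n3]) fun s hs => ?_
      refine five_det hF hpr.two_le hq hσ mF (SemisimpleConjGL.isSemisimple_of_pow_eq_one h5F o3)
        (v := Pi.single 0 1) ?_ s hs
      have hI0 : (-1 : F) - (I : F) ≠ 0 := fun e => h2F (by linear_combination ((I : F) - 1) * e + hI)
      have hI1 : (-1 : F) + (I : F) ≠ 0 := fun e => h2F (by linear_combination (-(I : F) - 1) * e + hI)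
      rw [Fintype.linearIndependent_iff]
      intro f hf
      have e : ∀ i, ∑ k : Fin 4, f k * (((cliffF (I : F) (2 : F)⁻¹ hI hh : Matrix (Fin 4) (Fin 4) F) ^ (k : ℕ)) *ᵥ
          Pi.single 0 1) i = 0 := fun i => by
        simpa [Finset.sum_apply] using congrFun hf i
      have q0 := e 0
      have q1 := e 1
      have q2 := e 2
      have q3 := e 3
      simp [Fin.sum_univ_four, cliffF, pow_succ, mulVec_single, mul_apply] at q0 q1 q2 q3
      set h : F := (2 : F)⁻¹ with hhdef
      have hz : h * (-1 + (I : F)) ≠ 0 := mul_ne_zero (inv_ne_zero h2F) hI1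
      have hw : h * (-1 - (I : F)) ≠ 0 := mul_ne_zero (inv_ne_zero h2F) hI0
      set u : F := h * (-1 + (I : F)) with hu
      set v : F := h * (-1 - (I : F)) with hv
      have huv : u + v = -1 := by rw [hu, hv]; linear_combination -hh
      have a1 : f 2 + f 3 * (u - v) = 0 := by
        refine (mul_eq_zero.mp (show (u * v) * (f 2 + f 3 * (u - v)) = 0 from ?_)).resolve_left
          (mul_ne_zero hz hw)
        rw [hu, hv] at *
        linear_combination q1
      have a3 : f 2 + f 3 * (u + v) = 0 := by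
        refine (mul_eq_zero.mp (show (v * v) * (f 2 + f 3 * (u + v)) = 0 from ?_)).resolve_left
          (mul_ne_zero hw hw)
        rw [hu, hv] at *
        linear_combination q3
      have b3 : f 3 = 0 := by
        refine (mul_eq_zero.mp (show f 3 * (1 + (I : F)) = 0 from ?_)).resolve_right
          fun e => hI0 (by linear_combination -e)
        rw [huv] at a3
        rw [hu, hv] at a1
        linear_combination a1 - a3 - f 3 * (I : F) * hh
      have b2 : f 2 = 0 := by rw [b3] at a1; linear_combination a1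
      rw [b2, b3] at q2 q0
      have b1 : f 1 = 0 := (mul_eq_zero.mp (show f 1 * v = 0 by linear_combination q2)).resolve_right hw
      rw [b1] at q0
      have b0 : f 0 = 0 := by linear_combination q0
      intro k
      fin_cases k <;> assumption

end Cfsg.Agent.S6001
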