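import Cfsg.Statements.S6002
import Cfsg.Agent.Lib.PauliFour
import Cfsg.Agent.Lib.SympSemisimpleClasses
import Cfsg.Agent.S5968
-- import your own Cfsg.Agent.* helpers here

set_option autoImplicit false
set_option maxHeartbeats 1600000
set_option linter.style.haveILetI false
open scoped MatrixGroups
open Cfsg

namespace Cfsg.Agent.S6002

open Matrix Polynomial
open Cfsg.Agent.SympTypeTwo
open Cfsg.Agent.SymplecticBasic

variable {F : Type*} [Field F]

local notation "ι" => (Fin 2 ⊕ Fin 2)

theorem mem_spGL_iff (x : GL ι F) : x ∈ Cfsg.spGL 2 F ↔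
    ∀ u v, Cfsg.sympForm 2 F ((x : Matrix ι ι F) *ᵥ u) ((x : Matrix ι ι F) *ᵥ v) = Cfsg.sympForm 2 F u v := Iff.rfl

theorem det_eq_one {x : GL ι F} (hx : x ∈ Cfsg.spGL 2 F) : (x : Matrix ι ι F).det = 1 :=
  SymplecticGroup.det_eq_one (mem_sp_iff_form.mpr ((mem_spGL_iff x).mp hx))

/-- Characteristic polynomials with two irreducible factors. -/
theorem shapeSum {A : Matrix ι ι F} {f g : F[X]} (hf : Irreducible f) (hfm : f.Monic) (hg : Irreducible g)
    (hgm : g.Monic) (h : aeval A (f * g) = 0) :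
    ∃ a b : ℕ, A.charpoly = f ^ a * g ^ b ∧ a * f.natDegree + b * g.natDegree = 4 := by
  set e : ι ≃ Fin 4 := finSumFinEquiv
  have h' : aeval (Matrix.reindexAlgEquiv F F e A) (f * g) = 0 := by rw [aeval_algHom_apply, h, map_zero]
  obtain ⟨a, b, h1, h2⟩ := PauliFour.charpoly_shape hf hfm hg hgm h'
  exact ⟨a, b, by rw [← h1, Matrix.reindexAlgEquiv_apply, Matrix.charpoly_reindex], h2⟩

theorem charpoly_scalar (l : F) : (l • (1 : Matrix ι ι F)).charpoly = (X - C l) ^ 4 := by
  rw [smul_one_eq_diagonal, charpoly_diagonal]; simp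

/-- A semisimple element with the characteristic polynomial of a scalar is scalar. -/
theorem eq_scalar {A : Matrix ι ι F} {l : F} {m : ℕ} (hm : (m : F) ≠ 0) (hA : A ^ m = 1) (hl : l ^ m = 1)
    (h : A.charpoly = (X - C l) ^ 4) : A = l • 1 := by
  obtain ⟨P, hP⟩ := SemisimpleConjGL.exists_gl_conj (SemisimpleConjGL.isSemisimple_of_pow_eq_one hm hA)
    (SemisimpleConjGL.isSemisimple_of_pow_eq_one (A := l • (1 : Matrix ι ι F)) hm
      (by rw [_root_.smul_pow, one_pow, hl, one_smul])) (h.trans (charpoly_scalar l).symm)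
  rw [smul_mul_assoc, one_mul] at hP
  calc A = ((P⁻¹ : GL ι F) : Matrix ι ι F) * ((P : Matrix ι ι F) * A) := by
        rw [← mul_assoc, Units.inv_mul, one_mul]
    _ = _ := by rw [hP, mul_smul_comm, Units.inv_mul]

/-- Elements squaring to `z = ± 1`. -/
theorem sq_charpoly (h2 : (2 : F) ≠ 0) {z : F} (hz : z = 1 ∨ z = -1) {x : GL ι F} (hx : x ∈ Cfsg.spGL 2 F)
    (hxz : (x : Matrix ι ι F) * x = z • 1) (hns : ∀ c : F, (x : Matrix ι ι F) ≠ c • 1) :
    (x : Matrix ι ι F).charpoly = (X ^ 2 - C z) ^ 2 := by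
  have hdet := det_eq_one hx
  have h4 : (x : Matrix ι ι F) ^ 4 = 1 := by
    rw [show (x : Matrix ι ι F) ^ 4 = ((x : Matrix ι ι F) * x) * ((x : Matrix ι ι F) * x) by
      simp only [pow_succ, pow_zero, one_mul, mul_assoc], hxz, smul_mul_smul_comm, one_mul]
    rcases hz with rfl | rfl <;> simp
  have h4F : ((4 : ℕ) : F) ≠ 0 := by
    push_cast; rw [show (4 : F) = 2 * 2 by norm_num]; exact mul_ne_zero h2 h2
  have hann : aeval (x : Matrix ι ι F) (X ^ 2 - C z) = 0 := by
    rw [map_sub, map_pow, aeval_X, aeval_C, pow_two, hxz, Algebra.algebraMap_eq_smul_one, sub_self]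
  by_cases hsq : ∃ l : F, l ^ 2 = z
  · obtain ⟨l, hl⟩ := hsq
    have hl0 : l ≠ 0 := fun e => by rcases hz with h | h <;> simp [h, e] at hl
    have hfac : (X - C l) * (X - C (-l)) = (X ^ 2 - C z : F[X]) := by rw [← hl, map_neg, map_pow]; ring
    obtain ⟨a, b, e, hab⟩ := shapeSum (irreducible_X_sub_C l) (monic_X_sub_C l) (irreducible_X_sub_C (-l))
      (monic_X_sub_C _) (by rw [hfac]; exact hann)
    rw [natDegree_X_sub_C, natDegree_X_sub_C, mul_one, mul_one] at hab
    have hl4 : l ^ 4 = 1 := by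
      rw [show l ^ 4 = (l ^ 2) ^ 2 by ring, hl]; rcases hz with rfl | rfl <;> simp
    have hd := Matrix.det_eq_sign_charpoly_coeff (x : Matrix ι ι F)
    rw [hdet, e, coeff_zero_eq_eval_zero] at hd
    simp only [eval_mul, eval_pow, eval_sub, eval_X, eval_C, zero_sub, neg_neg, Fintype.card_sum,
      Fintype.card_fin] at hd
    have hb4 : b ≤ 4 := by omega
    obtain rfl : a = 4 - b := by omega
    interval_cases b
    · exact absurd (eq_scalar h4F h4 hl4 (by rw [e]; simp)) (hns l)
    · exfalso; exact h2 (by linear_combination hd - hl4)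
    · rw [e, ← hfac, mul_pow]
    · exfalso; exact h2 (by linear_combination hd - hl4)
    · exact absurd (eq_scalar h4F h4 (l := -l) (by linear_combination hl4) (by rw [e]; simp)) (hns (-l))
  · have hm : (X ^ 2 - C z : F[X]).Monic := monic_X_pow_sub_C z (by norm_num)
    have hirr : Irreducible (X ^ 2 - C z) := by
      refine (Monic.irreducible_iff_roots_eq_zero_of_degree_le_three hm
        (by rw [natDegree_X_pow_sub_C]) (by rw [natDegree_X_pow_sub_C]; norm_num)).mpr ?_
      rw [Multiset.eq_zero_iff_forall_notMem]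
      intro l hl
      rw [mem_roots hm.ne_zero] at hl
      exact hsq ⟨l, by simpa [sub_eq_zero] using hl⟩
    obtain ⟨a, b, e, hab⟩ := shapeSum (A := (x : Matrix ι ι F)) hirr hm hirr hm (by rw [map_mul, hann, mul_zero])
    rw [natDegree_X_pow_sub_C] at hab
    rw [e, ← pow_add, show a + b = 2 by omega]

/-- Symplectic conjugacy. -/
theorem conj_spGL [Finite F] {p : ℕ} [Fact p.Prime] [CharP F p] {x y : GL ι F} {m : ℕ} (hm : m.Coprime p)
    (hx : x ∈ Cfsg.spGL 2 F) (hy : y ∈ Cfsg.spGL 2 F) (hxm : x ^ m = 1) (hym : y ^ m = 1)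
    (h : (x : Matrix ι ι F).charpoly = (y : Matrix ι ι F).charpoly) :
    ∃ g ∈ Cfsg.spGL 2 F, g⁻¹ * x * g = y := by
  let X' : ↥(symplecticGroup (Fin 2) F) := ⟨x, mem_sp_iff_form.mpr ((mem_spGL_iff x).mp hx)⟩
  let Y' : ↥(symplecticGroup (Fin 2) F) := ⟨y, mem_sp_iff_form.mpr ((mem_spGL_iff y).mp hy)⟩
  have hX : X' ^ m = 1 := Subtype.ext (by
    simpa [X'] using congrArg (fun g : GL ι F => (g : Matrix ι ι F)) hxm)
  have hY : Y' ^ m = 1 := Subtype.ext (by
    simpa [Y'] using congrArg (fun g : GL ι F => (g : Matrix ι ι F)) hym)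
  obtain ⟨k, hk⟩ := isConj_iff.1 (SympSemisimpleClasses.isConj_of_charpoly (p := p) X' Y'
    (hm.coprime_dvd_left (orderOf_dvd_of_pow_eq_one hX)) (hm.coprime_dvd_left (orderOf_dvd_of_pow_eq_one hY)) h)
  set K := SympSemisimpleClasses.unitsHom 2 F k
  have hK : K ∈ Cfsg.spGL 2 F := (mem_spGL_iff K).mpr (mem_sp_iff_form.mp k.2)
  refine ⟨K⁻¹, Subgroup.inv_mem _ hK, ?_⟩
  have h' := congrArg (SympSemisimpleClasses.unitsHom 2 F) hk
  rw [map_mul, map_mul, map_inv] at h'
  have ex : SympSemisimpleClasses.unitsHom 2 F X' = x := Units.ext rfl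
  have ey : SympSemisimpleClasses.unitsHom 2 F Y' = y := Units.ext rfl
  rw [ex, ey] at h'
  rw [inv_inv]
  exact h'

/-- An extraspecial group of order 32 of minus type has no three commuting independent involutions. -/
theorem no_eight [Finite F] {R : Subgroup (GL ι F)} (S : Setup R) (hRm : Cfsg.Geo.IsOfMinusType 2 R) {a m : GL ι F}
    (ha : a ∈ R) (hm : m ∈ R) (haa : a * a = 1) (hmm : m * m = 1) (ham : a * m = m * a)
    (ha1 : a ≠ 1 ∧ a ≠ -1) (hm1 : m ≠ 1 ∧ m ≠ -1) (hma : m ≠ a ∧ m ≠ -a) : False := by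
  classical
  haveI hne : (-1 : GL ι F) ≠ 1 := fun e => by
    have h' := congrArg (fun g : GL ι F => (g : Matrix ι ι F)) e
    simp only [Units.val_neg, Units.val_one] at h'
    have : (2 : F) • (1 : Matrix ι ι F) = 0 := by
      rw [two_smul]; exact add_eq_zero_iff_eq_neg.mpr h'.symm
    exact (smul_eq_zero.mp this).elim S.h2 one_ne_zero
  set n' : R := ⟨-1, S.neg⟩
  set a' : R := ⟨a, ha⟩
  set m' : R := ⟨m, hm⟩
  have cn : ∀ u : R, n' * u = u * n' := fun u => Subtype.ext (by simp [n'])
  have cam : a' * m' = m' * a' := Subtype.ext ham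
  set A : Subgroup R := Subgroup.closure {n', a', m'}
  have hcomm : IsMulCommutative A := Subgroup.isMulCommutative_closure (by
    rintro x (rfl | rfl | rfl) y (rfl | rfl | rfl) <;>
      first | rfl | exact cn _ | exact (cn _).symm | exact cam | exact cam.symm)
  have hsq : ∀ x ∈ A, x * x = 1 := by
    intro x hx
    induction hx using Subgroup.closure_induction with
    | mem x hx =>
      rcases hx with rfl | rfl | rfl
      · exact Subtype.ext (by simp [n'])
      · exact Subtype.ext haa
      · exact Subtype.ext hmm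
    | one => simp
    | mul x y hx hy ihx ihy =>
      have hc : x * y = y * x := congrArg Subtype.val (hcomm.is_comm.comm ⟨x, hx⟩ ⟨y, hy⟩)
      calc x * y * (x * y) = x * (y * x) * y := by group
        _ = x * (x * y) * y := by rw [hc]
        _ = _ := by rw [← mul_assoc x x, ihx, one_mul, ihy]
    | inv x _ ih => rw [← _root_.mul_inv_rev, ih, inv_one]
  have h8 := hRm A hcomm hsq
  let w : Fin 4 → GL ι F := ![1, a, m, a * m]
  have hw : ∀ k, w k ∈ R := fun k => by
    fin_cases k
    exacts [R.one_mem, ha, hm, R.mul_mem ha hm]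
  let g : Bool × Fin 4 → R := fun q => (if q.1 then n' else 1) * ⟨w q.2, hw q.2⟩
  have hgA : ∀ q, g q ∈ A := fun q => by
    refine A.mul_mem ?_ ?_
    · split_ifs
      · exact Subgroup.subset_closure (Or.inl rfl)
      · exact A.one_mem
    · have hA : ∀ x : R, x = a' ∨ x = m' → x ∈ A := fun x hx => Subgroup.subset_closure (by
        rcases hx with rfl | rfl <;> simp)
      obtain ⟨s, k⟩ := q
      fin_cases k
      · exact A.one_mem
      · exact hA a' (Or.inl rfl)
      · exact hA m' (Or.inr rfl)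
      · exact A.mul_mem (hA a' (Or.inl rfl)) (hA m' (Or.inr rfl))
  have hinj : Function.Injective (fun q => (⟨g q, hgA q⟩ : A)) := by
    intro q q' e
    have e' : (g q : GL ι F) = g q' := congrArg (fun x : A => ((x : R) : GL ι F)) e
    have neg_inj' : ∀ x y : GL ι F, -x = y ↔ x = -y := fun x y => neg_eq_iff_eq_neg
    have hpm : ∀ k l, (w k = w l ∨ w k = -w l) → k = l := by
      have c1 : a * m ≠ 1 := fun e => hma.1 (mul_left_cancel (e.trans haa.symm))
      have c2 : a * m ≠ -1 := fun e => hma.2 (mul_left_cancel (a := a) (by rw [e, mul_neg, haa]))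
      have c3 : a * m ≠ a := fun e => hm1.1 (mul_eq_left.mp e)
      have c4 : a * m ≠ -a := fun e => hm1.2 (mul_left_cancel (a := a) (by rw [e, mul_neg_one]))
      have c5 : a * m ≠ m := fun e => ha1.1 (mul_eq_right.mp e)
      have c6 : a * m ≠ -m := fun e => ha1.2 (mul_right_cancel (b := m) (by rw [e, neg_one_mul]))
      obtain ⟨a1, a2⟩ := ha1
      obtain ⟨m1, m2⟩ := hm1
      obtain ⟨d1, d2⟩ := hma
      have six : ∀ k l : Fin 4, k < l → ¬ (w k = w l ∨ w k = -w l) := by
        intro k l hkl h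
        fin_cases k <;> fin_cases l <;> simp at hkl <;> simp [w] at h
        · exact h.elim (fun h => a1 h.symm) (fun h => a2 (by rw [h, neg_neg]))
        · exact h.elim (fun h => m1 h.symm) (fun h => m2 (by rw [h, neg_neg]))
        · exact h.elim (fun h => c1 h.symm) (fun h => c2 (by rw [h, neg_neg]))
        · exact h.elim (fun h => d1 h.symm) (fun h => d2 (by rw [h, neg_neg]))
        · exact h.elim (fun h => m1 h) (fun h => c4 (neg_eq_iff_eq_neg.mp h.symm))
        · exact h.elim (fun h => a1 h) (fun h => c6 (neg_eq_iff_eq_neg.mp h.symm))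
      intro k l h
      rcases lt_trichotomy k l with hkl | hkl | hkl
      · exact absurd h (six k l hkl)
      · exact hkl
      · exact absurd (h.imp Eq.symm (fun e => (by rw [e, neg_neg] : w l = -w k))) (six l k hkl)
    obtain ⟨s, k⟩ := q
    obtain ⟨t, l⟩ := q'
    have hkl : k = l := hpm k l (by
      cases s <;> cases t <;> simp [g, n', neg_eq_iff_eq_neg] at e' <;> tauto)
    subst hkl
    have : (((if s then n' else 1) : R) : GL ι F) = (((if t then n' else 1) : R) : GL ι F) :=
      mul_right_cancel (b := w k) e'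
    refine Prod.ext ?_ rfl
    cases s <;> cases t <;> first | rfl | (exfalso; simp [n'] at this; first | exact hne this | exact hne this.symm)
  have := Nat.card_le_card_of_injective _ hinj
  simp [Nat.card_eq_fintype_card] at this
  omega

/-- An element of the normaliser of order five, built from four similitudes. -/
theorem exists_five [Finite F] {p : ℕ} [Fact p.Prime] [CharP F p] {R : Subgroup (GL ι F)} (S : Setup R)
    (hRf : R ≤ Cfsg.spGL 2 F) {a b c d : GL ι F} (ha : a ∈ R) (hb : b ∈ R) (hc : c ∈ R) (hd : d ∈ R)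
    (haa : a * a = 1) (hbb : b * b = 1) (hcc : c * c = -1) (hdd : d * d = -1) (hba : b * a = -(a * b))
    (hca : c * a = a * c) (hcb : c * b = b * c) (hda : d * a = a * d) (hdb : d * b = b * d)
    (hdc : d * c = -(c * d))
    (hgen : ∀ M : Matrix ι ι F, M * a = a * M → M * b = b * M → M * c = c * M → M * d = d * M →
      ∃ l : F, M = l • 1) :
    ∃ y ∈ Cfsg.spGL 2 F ⊓ Cfsg.Geo.subgroupNormalizer R,
      (y : Matrix ι ι F) ^ 5 = 1 ∧ (y : Matrix ι ι F) ≠ 1 := by
  have h2 := S.h2
  set h : F := (2 : F)⁻¹ with hh'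
  have hh : h * 2 = 1 := inv_mul_cancel₀ h2
  -- one factor
  have factor : ∀ u ∈ R, u * u = -1 → ∃ T : GL ι F, (T : Matrix ι ι F) = 1 + (u : Matrix ι ι F) ∧
      T ∈ Cfsg.Geo.subgroupNormalizer R ∧
      ∀ x y, Cfsg.sympForm 2 F ((T : Matrix ι ι F) *ᵥ x) ((T : Matrix ι ι F) *ᵥ y) =
        2 * Cfsg.sympForm 2 F x y := by
    intro u hu huu
    set U := (u : Matrix ι ι F) with hU
    have hUU : U * U = -1 := by rw [hU, ← Units.val_mul, huu, Units.val_neg, Units.val_one]
    let T : GL ι F := ⟨1 + U, h • (1 - U),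
      by
        rw [mul_smul_comm, add_mul, one_mul, mul_sub, mul_one, hUU]
        rw [show (1 - U + (U - -1)) = (2 : F) • (1 : Matrix ι ι F) by module, smul_smul, hh, one_smul],
      by
        rw [smul_mul_assoc, sub_mul, one_mul, mul_add, mul_one, hUU]
        rw [show (1 + U - (U + -1)) = (2 : F) • (1 : Matrix ι ι F) by module, smul_smul, hh, one_smul]⟩
    refine ⟨T, rfl, ?_, fun x y => ?_⟩
    · have key : ∀ v ∈ R, T * v * T⁻¹ ∈ R := by
        intro v hv
        rcases S.conj v hv u hu with e | e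
        · have hc : T * v = v * T := Units.ext (by
            show (1 + U) * (v : Matrix ι ι F) = (v : Matrix ι ι F) * (1 + U)
            rw [add_mul, mul_add, one_mul, mul_one, hU, ← Units.val_mul, ← Units.val_mul,
              mul_inv_eq_iff_eq_mul.mp e])
          rw [hc, mul_inv_cancel_right]; exact hv
        · have e1 : T * v = (u * v) * T := Units.ext (by
            show (1 + U) * (v : Matrix ι ι F) = ((u * v : GL ι F) : Matrix ι ι F) * (1 + U)
            have h1 : (v : Matrix ι ι F) * U = -(U * (v : Matrix ι ι F)) := by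
              rw [hU, ← Units.val_mul, mul_inv_eq_iff_eq_mul.mp e, Units.val_mul, Units.val_neg, neg_mul]
            rw [Units.val_mul, ← hU, add_mul, one_mul, mul_add, mul_one, mul_assoc, h1, mul_neg, ← mul_assoc,
              hUU, neg_mul, one_mul, neg_neg, add_comm])
          rw [e1, mul_inv_cancel_right]; exact R.mul_mem hu hv
      have hle : R.map (MulAut.conj T).toMonoidHom ≤ R := by
        rintro _ ⟨v, hv, rfl⟩
        exact key v hv
      have heq : R.map (MulAut.conj T).toMonoidHom = R := Subgroup.eq_of_le_of_card_ge hle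
        (by rw [Subgroup.card_map_of_injective (MulAut.conj T).injective])
      rw [Cfsg.Geo.subgroupNormalizer, Subgroup.mem_set_normalizer_iff]
      intro g
      constructor
      · exact fun hg => hle ⟨g, hg, rfl⟩
      · intro hg
        obtain ⟨g', hg', e⟩ := heq.ge hg
        simp only [MulEquiv.coe_toMonoidHom, MulAut.conj_apply] at e
        rwa [mul_left_cancel (mul_right_cancel e)] at hg'
    · have hf := (mem_spGL_iff u).mp (hRf hu)
      show Cfsg.sympForm 2 F ((1 + U) *ᵥ x) ((1 + U) *ᵥ y) = _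
      have hxu : Cfsg.sympForm 2 F x (U *ᵥ y) = - Cfsg.sympForm 2 F (U *ᵥ x) y := by
        rw [← hf x (U *ᵥ y), ← hU, mulVec_mulVec, hUU, neg_mulVec, one_mulVec, ← neg_one_smul F y,
          form_smul_right, neg_one_mul]
      rw [add_mulVec, add_mulVec, one_mulVec, one_mulVec, form_add_left, form_add_right, form_add_right, hf,
        hxu]
      ring
  have sq_ac : a * c * (a * c) = -1 := by
    rw [mul_assoc, ← mul_assoc c, hca, mul_assoc a c, hcc, mul_neg_one, mul_neg, haa]
  have sq_ab : a * b * (a * b) = -1 := by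
    rw [mul_assoc, ← mul_assoc b, hba, neg_mul, mul_assoc a b, hbb, mul_one, mul_neg, haa]
  obtain ⟨T1, v1, n1, f1⟩ := factor c hc hcc
  obtain ⟨T2, v2, n2, f2⟩ := factor d hd hdd
  obtain ⟨T3, v3, n3, f3⟩ := factor (a * c) (R.mul_mem ha hc) sq_ac
  obtain ⟨T4, v4, n4, f4⟩ := factor (a * b) (R.mul_mem ha hb) sq_ab
  set A := (a : Matrix ι ι F) with hA
  set B := (b : Matrix ι ι F) with hB
  set C := (c : Matrix ι ι F) with hC
  set D := (d : Matrix ι ι F) with hD
  have vm : ∀ {g g' : GL ι F}, g = g' → (g : Matrix ι ι F) = g' := fun e => congrArg Units.val e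
  have AA : A * A = 1 := by simpa using vm haa
  have BB : B * B = 1 := by simpa using vm hbb
  have CC : C * C = -1 := by simpa using vm hcc
  have DD : D * D = -1 := by simpa using vm hdd
  have BA : B * A = -(A * B) := by simpa using vm hba
  have CA : C * A = A * C := by simpa using vm hca
  have CB : C * B = B * C := by simpa using vm hcb
  have DA : D * A = A * D := by simpa using vm hda
  have DB : D * B = B * D := by simpa using vm hdb
  have DC : D * C = -(C * D) := by simpa using vm hdc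
  have AA' : ∀ X, A * (A * X) = X := fun X => by rw [← mul_assoc, AA, one_mul]
  have BB' : ∀ X, B * (B * X) = X := fun X => by rw [← mul_assoc, BB, one_mul]
  have CC' : ∀ X, C * (C * X) = -X := fun X => by rw [← mul_assoc, CC, neg_one_mul]
  have DD' : ∀ X, D * (D * X) = -X := fun X => by rw [← mul_assoc, DD, neg_one_mul]
  have BA' : ∀ X, B * (A * X) = -(A * (B * X)) := fun X => by rw [← mul_assoc, BA, neg_mul, mul_assoc]
  have CA' : ∀ X, C * (A * X) = A * (C * X) := fun X => by rw [← mul_assoc, CA, mul_assoc]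
  have CB' : ∀ X, C * (B * X) = B * (C * X) := fun X => by rw [← mul_assoc, CB, mul_assoc]
  have DA' : ∀ X, D * (A * X) = A * (D * X) := fun X => by rw [← mul_assoc, DA, mul_assoc]
  have DB' : ∀ X, D * (B * X) = B * (D * X) := fun X => by rw [← mul_assoc, DB, mul_assoc]
  have DC' : ∀ X, D * (C * X) = -(C * (D * X)) := fun X => by rw [← mul_assoc, DC, neg_mul, mul_assoc]
  set T := T1 * T2 * (T3 * T4) with hT
  set Y := (T : Matrix ι ι F) with hY
  have hY' : Y = (T1 : Matrix ι ι F) * T2 * ((T3 : Matrix ι ι F) * T4) := by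
    rw [hY, hT, Units.val_mul, Units.val_mul, Units.val_mul]
  have hYv : Y = (1 + C) * (1 + D) * ((1 + A * C) * (1 + A * B)) := by
    rw [hY', v1, v2, v3, v4, Units.val_mul, Units.val_mul]
  -- scaling factor
  have hmult : ∀ x y, Cfsg.sympForm 2 F (Y *ᵥ x) (Y *ᵥ y) = 16 * Cfsg.sympForm 2 F x y := by
    intro x y
    simp only [hY', ← mulVec_mulVec, f1, f2, f3, f4]
    ring
  have e1 : Y * B = A * Y := by
    rw [hYv]
    simp only [mul_assoc, add_mul, mul_add, one_mul, mul_one, mul_neg, neg_mul, neg_neg, AA, BB, CC, DD, BA, CA,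
      CB, DA, DB, DC, AA', BB', CC', DD', BA', CA', CB', DA', DB', DC']
    abel
  have e2 : Y * A = -(A * B * D) * Y := by
    rw [hYv]
    simp only [mul_assoc, add_mul, mul_add, one_mul, mul_one, mul_neg, neg_mul, neg_neg, neg_add, AA, BB, CC,
      DD, BA, CA, CB, DA, DB, DC, AA', BB', CC', DD', BA', CA', CB', DA', DB', DC']
    abel
  have e3 : Y * (A * B * D) = A * B * (C * D) * Y := by
    rw [hYv]
    simp only [mul_assoc, add_mul, mul_add, one_mul, mul_one, mul_neg, neg_mul, neg_neg, neg_add, AA, BB, CC,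
      DD, BA, CA, CB, DA, DB, DC, AA', BB', CC', DD', BA', CA', CB', DA', DB', DC']
    abel
  have e4 : Y * (A * B * (C * D)) = A * B * C * Y := by
    rw [hYv]
    simp only [mul_assoc, add_mul, mul_add, one_mul, mul_one, mul_neg, neg_mul, neg_neg, neg_add, AA, BB, CC,
      DD, BA, CA, CB, DA, DB, DC, AA', BB', CC', DD', BA', CA', CB', DA', DB', DC']
    abel
  have e5 : Y * (A * B * C) = -B * Y := by
    rw [hYv]
    simp only [mul_assoc, add_mul, mul_add, one_mul, mul_one, mul_neg, neg_mul, neg_neg, neg_add, AA, BB, CC,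
      DD, BA, CA, CB, DA, DB, DC, AA', BB', CC', DD', BA', CA', CB', DA', DB', DC']
    abel
  clear_value Y
  set V3 := A * B * D with hV3
  set V4 := A * B * (C * D) with hV4
  set V5 := A * B * C with hV5
  have p5 : Y ^ 5 = Y * (Y * (Y * (Y * Y))) := by simp only [pow_succ, pow_zero, one_mul, mul_assoc]
  have E1 : ∀ X, Y * (B * X) = A * (Y * X) := fun X => by rw [← mul_assoc, e1, mul_assoc]
  have E2 : ∀ X, Y * (A * X) = -(V3 * (Y * X)) := fun X => by rw [← mul_assoc, e2, neg_mul, neg_mul, mul_assoc]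
  have E3 : ∀ X, Y * (V3 * X) = V4 * (Y * X) := fun X => by rw [← mul_assoc, e3, mul_assoc]
  have E4 : ∀ X, Y * (V4 * X) = V5 * (Y * X) := fun X => by rw [← mul_assoc, e4, mul_assoc]
  have E5 : ∀ X, Y * (V5 * X) = -(B * (Y * X)) := fun X => by rw [← mul_assoc, e5, neg_mul, neg_mul, mul_assoc]
  have F1 : Y * B = A * Y := e1
  have F2 : Y * A = -(V3 * Y) := by rw [e2, neg_mul]
  have F3 : Y * V3 = V4 * Y := e3
  have F4 : Y * V4 = V5 * Y := e4
  have F5 : Y * V5 = -(B * Y) := by rw [e5, neg_mul]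
  have cb : Y ^ 5 * B = B * Y ^ 5 := by
    simp only [p5, mul_assoc, mul_neg, neg_neg, F1, F2, F3, F4, F5, E1, E2, E3, E4, E5]
  have ca : Y ^ 5 * A = A * Y ^ 5 := by
    simp only [p5, mul_assoc, mul_neg, neg_neg, F1, F2, F3, F4, F5, E1, E2, E3, E4, E5]
  have c3 : Y ^ 5 * V3 = V3 * Y ^ 5 := by
    simp only [p5, mul_assoc, mul_neg, neg_neg, F1, F2, F3, F4, F5, E1, E2, E3, E4, E5]
  have c5 : Y ^ 5 * V5 = V5 * Y ^ 5 := by
    simp only [p5, mul_assoc, mul_neg, neg_neg, F1, F2, F3, F4, F5, E1, E2, E3, E4, E5]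
  have cd : Commute (Y ^ 5) D := by
    have e : D = B * A * V3 := by rw [hV3]; simp only [mul_assoc, AA', BB']
    rw [e]
    exact ((show Commute (Y ^ 5) B from cb).mul_right ca).mul_right c3
  have cc : Commute (Y ^ 5) C := by
    have e : C = B * A * V5 := by rw [hV5]; simp only [mul_assoc, AA', BB']
    rw [e]
    exact ((show Commute (Y ^ 5) B from cb).mul_right ca).mul_right c5
  obtain ⟨lam, hlam⟩ := hgen (Y ^ 5) ca cb cc.eq cd.eq
  have h4u : (4 : F) ≠ 0 := by rw [show (4 : F) = 2 * 2 by norm_num]; exact mul_ne_zero h2 h2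
  set s : Fˣ := Units.mk0 (4 : F)⁻¹ (inv_ne_zero h4u)
  let sg : Fˣ → GL ι F := fun z => Units.map (algebraMap F (Matrix ι ι F)).toMonoidHom z
  have sg_val : ∀ z : Fˣ, (sg z : Matrix ι ι F) = (z : F) • 1 := fun z => Algebra.algebraMap_eq_smul_one _
  set y1 := sg s * T with hy1
  have y1v : (y1 : Matrix ι ι F) = (4 : F)⁻¹ • Y := by
    rw [hy1, Units.val_mul, sg_val, smul_mul_assoc, one_mul, hY, Units.val_mk0]
  have y1f : ∀ u v, Cfsg.sympForm 2 F ((y1 : Matrix ι ι F) *ᵥ u) ((y1 : Matrix ι ι F) *ᵥ v) =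
      Cfsg.sympForm 2 F u v := by
    intro u v
    rw [y1v, smul_mulVec, smul_mulVec, form_smul_left, form_smul_right, hmult]
    field_simp
    ring
  have hy1S : y1 ∈ Cfsg.spGL 2 F := (mem_spGL_iff y1).mpr y1f
  have sgN : ∀ z : Fˣ, sg z ∈ Cfsg.Geo.subgroupNormalizer R := by
    intro z
    rw [Cfsg.Geo.subgroupNormalizer, Subgroup.mem_set_normalizer_iff]
    intro g
    have : sg z * g = g * sg z := Units.ext (by
      simp only [Units.val_mul, sg_val, smul_mul_assoc, one_mul, mul_smul_comm, mul_one])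
    rw [this, mul_inv_cancel_right]
  have hTN : T ∈ Cfsg.Geo.subgroupNormalizer R :=
    Subgroup.mul_mem _ (Subgroup.mul_mem _ n1 n2) (Subgroup.mul_mem _ n3 n4)
  set μ : F := ((4 : F)⁻¹) ^ 5 * lam with hμ
  have hy15 : ((y1 ^ 5 : GL ι F) : Matrix ι ι F) = μ • 1 := by
    rw [Units.val_pow_eq_pow_val, y1v, _root_.smul_pow, hlam, smul_smul]
  have hμ2 : μ * μ = 1 := by
    have h5 := (mem_spGL_iff _).mp (Subgroup.pow_mem _ hy1S 5)
    have e := h5 (Pi.single (Sum.inl 0) 1) (Pi.single (Sum.inr 0) 1)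
    rw [hy15, smul_mulVec, smul_mulVec, one_mulVec, one_mulVec, form_smul_left, form_smul_right] at e
    have hne : Cfsg.sympForm 2 F (Pi.single (Sum.inl 0) 1) (Pi.single (Sum.inr 0) 1) ≠ 0 := by
      simp [Cfsg.sympForm, Matrix.J]
    exact mul_right_cancel₀ hne (by rw [one_mul, mul_assoc]; exact e)
  have hμ0 : μ ≠ 0 := fun e => by simp [e] at hμ2
  set m : Fˣ := Units.mk0 μ hμ0
  refine ⟨sg m * y1, ⟨Subgroup.mul_mem _ ((mem_spGL_iff _).mpr fun u v => ?_) hy1S,
    Subgroup.mul_mem _ (sgN m) (Subgroup.mul_mem _ (sgN s) hTN)⟩, ?_, ?_⟩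
  · rw [sg_val, smul_mulVec, smul_mulVec, one_mulVec, one_mulVec, form_smul_left, form_smul_right, ← mul_assoc,
      Units.val_mk0, hμ2, one_mul]
  · rw [Units.val_mul, sg_val, smul_mul_assoc, one_mul, Units.val_mk0, _root_.smul_pow, ← Units.val_pow_eq_pow_val,
      hy15, smul_smul]
    rw [show μ ^ 5 * μ = (μ * μ) ^ 3 by ring, hμ2, one_pow, one_smul]
  · intro e
    rw [Units.val_mul, sg_val, smul_mul_assoc, one_mul, y1v, smul_smul, Units.val_mk0] at e
    have hc0 : μ * (4 : F)⁻¹ ≠ 0 := mul_ne_zero hμ0 (inv_ne_zero h4u)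
    have hYs : Y = (μ * (4 : F)⁻¹)⁻¹ • 1 := by rw [← e, smul_smul, inv_mul_cancel₀ hc0, one_smul]
    rw [hYs, smul_mul_assoc, one_mul, mul_smul_comm, mul_one] at e1
    have hBA : B = A := smul_right_injective _ (inv_ne_zero hc0) e1
    rw [hBA, AA] at BA
    have : (2 : F) • (1 : Matrix ι ι F) = 0 := by rw [two_smul]; exact add_eq_zero_iff_eq_neg.mpr BA
    exact (smul_eq_zero.mp this).elim h2 one_ne_zero

/-- Elements of prime order of PSp_4(p), p odd, and the normalizer of an extraspecial 2-group of order 2⁵ of minus type. Here `T = PSp_4(F)` for the field `F` with `p` elements, `p` an odd prime, realised through the matrices preserving the standard alternating form `f`; `R` is an absolutely irreducible subgroup of `T` (it preserves `f`) that is a 2-group of symplectic type of exponent 4, order 2⁵ and centre of order 2, of minus type (no elementary abelian subgroup of order 2³), and `H` is the subgroup of `T` normalizing `R` — a subgroup of type 2^{1+4}.O₄⁻(2) (maximality is not assumed).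 Ω is the set of cosets of `H` in `T`, so an element of `T` of prime order `r` (`x ∈ T` with `x^r` scalar, `x` not scalar) fixes a point of Ω exactly when some `T`-conjugate of `x` normalizes `R`. Let `r` be a prime dividing the index of `H`. Then every element of `T` of order `r` fixes a point of Ω if and only if `r = 2`, or `r = 5` and `p` has multiplicative order 4 modulo 5. -/
theorem result {F : Type*} [Field F] [Fintype F] {p : ℕ} [Fact p.Prime] [CharP F p] (hF : Fintype.card F = p) (hodd : Odd p)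
    (R : Subgroup (GL (Fin 2 ⊕ Fin 2) F)) (hRs : Cfsg.Geo.IsSymplecticTypeGroup 2 R) (hRi : Cfsg.Geo.ActsAbsolutelyIrreducibly (Cfsg.Geo.matrixSet R))
    (hRf : R ≤ Cfsg.spGL 2 F) (hR5 : Nat.card R = 2 ^ 5) (hRZ : Nat.card (Subgroup.center R) = 2) (hRm : Cfsg.Geo.IsOfMinusType 2 R)
    (r : ℕ) [Fact r.Prime]
    (hΩ : r ∣ (Cfsg.Geo.subgroupNormalizer R).relIndex (Cfsg.spGL 2 F)) :
    (∀ x ∈ Cfsg.spGL 2 F, (∃ z : F, ((x ^ r : GL (Fin 2 ⊕ Fin 2) F) : Matrix (Fin 2 ⊕ Fin 2) (Fin 2 ⊕ Fin 2) F) = z • (1 : Matrix (Fin 2 ⊕ Fin 2) (Fin 2 ⊕ Fin 2) F)) →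
      (∀ z : F, (x : Matrix (Fin 2 ⊕ Fin 2) (Fin 2 ⊕ Fin 2) F) ≠ z • (1 : Matrix (Fin 2 ⊕ Fin 2) (Fin 2 ⊕ Fin 2) F)) →
      ∃ g ∈ Cfsg.spGL 2 F, g⁻¹ * x * g ∈ Cfsg.Geo.subgroupNormalizer R) ↔ (r = 2 ∨ (r = 5 ∧ orderOf (p : ZMod 5) = 4)) := by
  classical
  have hpr := Fact.out (p := p.Prime)
  have hp2 : p ≠ 2 := fun e => by rw [e] at hodd; exact absurd hodd (by decide)
  have cast0 : ∀ n : ℕ, n.Prime → (n : F) = 0 → p = n := fun n hn e =>
    (Nat.prime_dvd_prime_iff_eq hpr hn).mp ((CharP.cast_eq_zero_iff F p n).mp e)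
  have h2F : (2 : F) ≠ 0 := fun e => hp2 (cast0 2 Nat.prime_two (by exact_mod_cast e))
  haveI : Finite R := Nat.finite_of_card_ne_zero (by rw [hR5]; norm_num)
  have S := SympTypeTwo.Setup.mk' h2F hRs hRi (by rw [hRZ])
  have hι : Fintype.card ι = 4 := rfl
  have negne : ∀ g : GL ι F, -g ≠ g := fun g e => by
    have h' := congrArg (fun g : GL ι F => (g : Matrix ι ι F)) e
    simp only [Units.val_neg] at h'
    have : (2 : F) • (g : Matrix ι ι F) = 0 := by
      rw [two_smul]; exact add_eq_zero_iff_eq_neg.mpr h'.symm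
    exact (smul_eq_zero.mp this).elim h2F (Units.ne_zero g)
  have nscal : ∀ u ∈ R, u ≠ 1 → u ≠ -1 → ∀ l : F, (u : Matrix ι ι F) ≠ l • 1 := by
    intro u hu h1 h1' l hl
    have hsub : ({1, -1, u} : Finset (GL ι F)).card ≤ Nat.card ((Subgroup.center R).map R.subtype) := by
      rw [← Nat.card_eq_finsetCard]
      refine Nat.card_le_card_of_injective (fun g => ⟨g.1, ?_⟩) fun g g' e => Subtype.ext
        (congrArg (fun z : ((Subgroup.center R).map R.subtype) => (z : GL ι F)) e)
      have hg : g.1 = 1 ∨ g.1 = -1 ∨ g.1 = u := by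
        have := g.2; simp only [Finset.mem_insert, Finset.mem_singleton] at this; exact this
      rcases hg with e | e | e <;> rw [e]
      · exact one_mem _
      · exact ⟨⟨-1, S.neg⟩, Subgroup.mem_center_iff.mpr fun v => Subtype.ext (by simp), rfl⟩
      · exact ⟨⟨u, hu⟩, Subgroup.mem_center_iff.mpr fun v => Subtype.ext (Units.ext (by simp [hl])), rfl⟩
    rw [Subgroup.card_map_of_injective R.subtype_injective, hRZ,
      Finset.card_eq_three.mpr ⟨1, -1, u, (negne 1).symm, Ne.symm h1, Ne.symm h1', rfl⟩] at hsub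
    omega
  have dich : ∀ v ∈ R, ∀ u ∈ R, v * u = u * v ∨ v * u = -(u * v) := fun v hv u hu => by
    rcases S.conj v hv u hu with e | e
    · exact Or.inl (mul_inv_eq_iff_eq_mul.mp e)
    · exact Or.inr (by rw [mul_inv_eq_iff_eq_mul.mp e, neg_mul])
  have partner : ∀ u ∈ R, u ≠ 1 → u ≠ -1 → ∃ v ∈ R, v * u = -(u * v) := fun u hu h1 h1' => by
    obtain ⟨v, hv, e⟩ := S.partner hu (nscal u hu h1 h1')
    exact ⟨v, hv, by rw [mul_inv_eq_iff_eq_mul.mp e, neg_mul]⟩
  have anti_ne : ∀ u v : GL ι F, v * u = -(u * v) → u ≠ 1 ∧ u ≠ -1 := fun u v e => by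
    refine ⟨fun h => negne v ?_, fun h => negne v ?_⟩ <;> subst h <;> simp at e
    · exact e.symm
    · exact e
  have proj : ∀ a ∈ R, ∀ b ∈ R, b * a = -(a * b) → ∀ u ∈ R, ∃ w ∈ ({1, a, b, a * b} : Finset (GL ι F)),
      a * (w * u) = w * u * a ∧ b * (w * u) = w * u * b := by
    intro a ha b hb hba u hu
    have hab : a * b = -(b * a) := by rw [hba, neg_neg]
    rcases dich a ha u hu with ea | ea <;> rcases dich b hb u hu with eb | eb
    · exact ⟨1, by simp, by rw [one_mul, ea], by rw [one_mul, eb]⟩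
    · refine ⟨a, by simp, by rw [mul_assoc a u a, ← ea], ?_⟩
      rw [← mul_assoc, hba, neg_mul, mul_assoc, eb, mul_neg, neg_neg, mul_assoc]
    · refine ⟨b, by simp, ?_, by rw [mul_assoc b u b, ← eb]⟩
      rw [← mul_assoc, hab, neg_mul, mul_assoc, ea, mul_neg, neg_neg, mul_assoc]
    · refine ⟨a * b, by simp, ?_, ?_⟩
      · rw [mul_assoc (a * b) u a, show u * a = -(a * u) by rw [ea, neg_neg], mul_neg, ← mul_assoc (a * b) a u,
          show a * b * a = -(a * (a * b)) by rw [mul_assoc, hba, mul_neg], neg_mul, neg_neg]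
        simp only [mul_assoc]
      · rw [mul_assoc (a * b) u b, show u * b = -(b * u) by rw [eb, neg_neg], mul_neg, ← mul_assoc b (a * b) u,
          ← mul_assoc b a b, hba, neg_mul, neg_mul]
        simp only [mul_assoc]
  obtain ⟨u₀, hu₀, hu1, hu1'⟩ : ∃ u ∈ R, u ≠ 1 ∧ u ≠ -1 := by
    by_contra hno
    push Not at hno
    have h : Nat.card R ≤ ({1, -1} : Finset (GL ι F)).card := by
      rw [← Nat.card_eq_finsetCard]
      refine Nat.card_le_card_of_injective (fun g : R => ⟨g.1, ?_⟩) fun g g' e => Subtype.ext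
        (congrArg (fun z : ({1, -1} : Finset (GL ι F)) => (z : GL ι F)) e)
      rcases eq_or_ne g.1 1 with e | e
      · simp [e]
      · simp [hno g.1 g.2 e]
    rw [hR5] at h
    have := Finset.card_le_two (a := (1 : GL ι F)) (b := -1)
    omega
  obtain ⟨v₀, hv₀, hv₀u⟩ := partner u₀ hu₀ hu1 hu1'
  have exists_c : ∀ a ∈ R, ∀ b ∈ R, b * a = -(a * b) →
      ∃ c ∈ R, (c ≠ 1 ∧ c ≠ -1) ∧ c * a = a * c ∧ c * b = b * c := by
    intro a ha b hb hba
    by_contra hno
    push Not at hno
    let T : Finset (GL ι F) := {1, a, b, a * b}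
    let Q : Finset (GL ι F) := {1, -1}
    have hwR : ∀ w ∈ T, w ∈ R := by
      intro w hw
      simp only [T, Finset.mem_insert, Finset.mem_singleton] at hw
      rcases hw with rfl | rfl | rfl | rfl
      exacts [R.one_mem, ha, hb, R.mul_mem ha hb]
    have hcov : ∀ u ∈ R, ∃ w ∈ T, w * u ∈ Q := by
      intro u hu
      obtain ⟨w, hw, h1, h2⟩ := proj a ha b hb hba u hu
      refine ⟨w, hw, ?_⟩
      by_contra hQ
      simp only [Q, Finset.mem_insert, Finset.mem_singleton, not_or] at hQ
      exact hno _ (R.mul_mem (hwR w hw) hu) hQ h1.symm h2.symm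
    choose w hw hwQ using hcov
    have hle : Nat.card R ≤ T.card * Q.card := by
      rw [← Finset.card_product, ← Nat.card_eq_finsetCard]
      refine Nat.card_le_card_of_injective
        (fun u : R => ⟨(w u u.2, w u u.2 * u), Finset.mem_product.mpr ⟨hw u u.2, hwQ u u.2⟩⟩) fun u u' e => ?_
      simp only [Subtype.mk.injEq, Prod.mk.injEq] at e
      refine Subtype.ext (mul_left_cancel (a := w u u.2) ?_)
      rw [e.2, e.1]
    have h1 : T.card ≤ 4 := Finset.card_le_four
    have h2 : Q.card ≤ 2 := Finset.card_le_two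
    have := Nat.mul_le_mul h1 h2
    omega
  obtain ⟨a, ha, haa, ha1⟩ : ∃ a ∈ R, a * a = 1 ∧ (a ≠ 1 ∧ a ≠ -1) := by
    rcases S.sq u₀ hu₀ with e | e
    · exact ⟨u₀, hu₀, e, hu1, hu1'⟩
    obtain ⟨c, hc, ⟨hc1, hc1'⟩, hcu, hcv⟩ := exists_c u₀ hu₀ v₀ hv₀ hv₀u
    rcases S.sq c hc with e' | e'
    · exact ⟨c, hc, e', hc1, hc1'⟩
    · refine ⟨u₀ * c, R.mul_mem hu₀ hc, ?_, anti_ne _ v₀ ?_⟩
      · rw [mul_assoc, ← mul_assoc c, hcu, mul_assoc u₀ c, e', mul_neg_one, mul_neg, e, neg_neg]
      · rw [← mul_assoc, hv₀u, neg_mul, mul_assoc, ← hcv, ← mul_assoc]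
  obtain ⟨b, hb, hbb, hba⟩ : ∃ b ∈ R, b * b = 1 ∧ b * a = -(a * b) := by
    obtain ⟨v, hv, hva⟩ := partner a ha ha1.1 ha1.2
    rcases S.sq v hv with e | e
    · exact ⟨v, hv, e, hva⟩
    · refine ⟨a * v, R.mul_mem ha hv, ?_, ?_⟩
      · rw [mul_assoc, ← mul_assoc v, hva, neg_mul, mul_assoc a v, e, mul_neg_one, neg_neg, haa]
      · rw [mul_assoc, hva, mul_neg]
  have sqneg : ∀ c ∈ R, c ≠ 1 → c ≠ -1 → c * a = a * c → c * b = b * c → c * c = -1 := by
    intro c hc h1 h1' hca hcb
    refine (S.sq c hc).resolve_left fun e => no_eight S hRm ha hc haa e hca.symm ha1 ⟨h1, h1'⟩ ⟨?_, ?_⟩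
    · intro h
      subst h
      rw [hba] at hcb
      exact negne _ hcb.symm
    · intro h
      subst h
      rw [neg_mul, mul_neg, hba, neg_neg] at hcb
      exact negne _ hcb
  obtain ⟨c, hc, hc1, hca, hcb⟩ := exists_c a ha b hb hba
  have hcc := sqneg c hc hc1.1 hc1.2 hca hcb
  obtain ⟨d, hd, hda, hdb, hdc⟩ : ∃ d ∈ R, d * a = a * d ∧ d * b = b * d ∧ d * c = -(c * d) := by
    obtain ⟨v, hv, hvc⟩ := partner c hc hc1.1 hc1.2
    obtain ⟨w, hw, h1, h2⟩ := proj a ha b hb hba v hv
    have hwc : w * c = c * w ∧ w ∈ R := by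
      simp only [Finset.mem_insert, Finset.mem_singleton] at hw
      rcases hw with rfl | rfl | rfl | rfl
      · exact ⟨by simp, R.one_mem⟩
      · exact ⟨hca.symm, ha⟩
      · exact ⟨hcb.symm, hb⟩
      · exact ⟨by rw [mul_assoc, ← hcb, ← mul_assoc, ← hca, mul_assoc], R.mul_mem ha hb⟩
    exact ⟨w * v, R.mul_mem hwc.2 hv, h1.symm, h2.symm, by
      rw [mul_assoc, hvc, mul_neg, ← mul_assoc, hwc.1, mul_assoc]⟩
  have hd1 : d ≠ 1 ∧ d ≠ -1 := anti_ne d c (by rw [hdc, neg_neg])
  have hdd := sqneg d hd hd1.1 hd1.2 hda hdb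
  have central : ∀ m ∈ R, m * a = a * m → m * b = b * m → m * c = c * m → m * d = d * m → m = 1 ∨ m = -1 := by
    intro m hm hma hmb hmc hmd
    by_contra hne
    rw [not_or] at hne
    have hmm := sqneg m hm hne.1 hne.2 hma hmb
    have hsq : m * c * (m * c) = 1 := by
      rw [mul_assoc, ← mul_assoc c, ← hmc, mul_assoc m c, hcc, mul_neg_one, mul_neg, hmm, neg_neg]
    have h' : d * (m * c) = -(m * c * d) := by
      rw [← mul_assoc, ← hmd, mul_assoc, hdc, mul_neg, mul_assoc]
    have hx := anti_ne (m * c) d h'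
    have ca' : m * c * a = a * (m * c) := by rw [mul_assoc, hca, ← mul_assoc, hma, mul_assoc]
    have cb' : m * c * b = b * (m * c) := by rw [mul_assoc, hcb, ← mul_assoc, hmb, mul_assoc]
    have := sqneg (m * c) (R.mul_mem hm hc) hx.1 hx.2 ca' cb'
    rw [hsq] at this
    exact negne 1 this.symm
  have hgen : ∀ M : Matrix ι ι F, M * a = a * M → M * b = b * M → M * c = c * M → M * d = d * M →
      ∃ l : F, M = l • 1 := by
    intro M ea eb ec ed
    refine S.cent M fun u hu => ?_
    obtain ⟨w, hw, h1, h2⟩ := proj a ha b hb hba u hu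
    have hwR : w ∈ R := by
      simp only [Finset.mem_insert, Finset.mem_singleton] at hw
      rcases hw with rfl | rfl | rfl | rfl
      exacts [R.one_mem, ha, hb, R.mul_mem ha hb]
    obtain ⟨w', hw', h3, h4⟩ := proj c hc d hd hdc (w * u) (R.mul_mem hwR hu)
    let K : Subgroup (GL ι F) :=
      { carrier := {g | M * (g : Matrix ι ι F) = (g : Matrix ι ι F) * M}
        one_mem' := by simp
        mul_mem' := fun {g g'} (hg : M * (g : Matrix ι ι F) = (g : Matrix ι ι F) * M)
            (hg' : M * (g' : Matrix ι ι F) = (g' : Matrix ι ι F) * M) => by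
          show M * ((g * g' : GL ι F) : Matrix ι ι F) = _ * M
          rw [Units.val_mul, ← mul_assoc, hg, mul_assoc, hg', ← mul_assoc]
        inv_mem' := fun {g} (hg : M * (g : Matrix ι ι F) = (g : Matrix ι ι F) * M) =>
          (Commute.units_inv_right (show Commute M (g : Matrix ι ι F) from hg)).eq }
    have haK : a ∈ K := ea
    have hbK : b ∈ K := eb
    have hcK : c ∈ K := ec
    have hdK : d ∈ K := ed
    have hwK : w ∈ K := by
      simp only [Finset.mem_insert, Finset.mem_singleton] at hw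
      rcases hw with rfl | rfl | rfl | rfl
      exacts [K.one_mem, haK, hbK, K.mul_mem haK hbK]
    obtain ⟨hw'K, hw'R, hw'a, hw'b⟩ : w' ∈ K ∧ w' ∈ R ∧ w' * a = a * w' ∧ w' * b = b * w' := by
      simp only [Finset.mem_insert, Finset.mem_singleton] at hw'
      rcases hw' with rfl | rfl | rfl | rfl
      · exact ⟨K.one_mem, R.one_mem, by simp, by simp⟩
      · exact ⟨hcK, hc, hca, hcb⟩
      · exact ⟨hdK, hd, hda, hdb⟩
      · exact ⟨K.mul_mem hcK hdK, R.mul_mem hc hd, by rw [mul_assoc, hda, ← mul_assoc, hca, mul_assoc],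
          by rw [mul_assoc, hdb, ← mul_assoc, hcb, mul_assoc]⟩
    have hm : w' * (w * u) = 1 ∨ w' * (w * u) = -1 := central _ (R.mul_mem hw'R (R.mul_mem hwR hu))
      (by rw [← mul_assoc a, ← hw'a, mul_assoc w' a, h1, mul_assoc])
      (by rw [← mul_assoc b, ← hw'b, mul_assoc w' b, h2, mul_assoc]) h3.symm h4.symm
    have hK : w' * (w * u) ∈ K := by
      rcases hm with e | e <;> rw [e]
      · exact K.one_mem
      · show M * ((-1 : GL ι F) : Matrix ι ι F) = _ * M
        simp
    have : u = w⁻¹ * (w'⁻¹ * (w' * (w * u))) := by group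
    rw [this]
    exact K.mul_mem (K.inv_mem hwK) (K.mul_mem (K.inv_mem hw'K) hK)
  constructor
  · intro hall
    by_contra hnot
    push Not at hnot
    obtain ⟨hr2, hr5⟩ := hnot
    suffices H : ∃ x ∈ Cfsg.spGL 2 F, ∃ z : F, ((x ^ r : GL ι F) : Matrix ι ι F) = z • 1 ∧
        (∀ z : F, (x : Matrix ι ι F) ≠ z • 1) ∧ ∀ g : GL ι F, g⁻¹ * x * g ∉ Cfsg.Geo.subgroupNormalizer R by
      obtain ⟨x, hx, z, hz, hns, hno⟩ := H
      obtain ⟨g, -, hg⟩ := hall x hx ⟨z, hz⟩ hns
      exact hno g hg
    have hoddr := (Fact.out (p := r.Prime)).odd_of_ne_two hr2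
    have conjdata : ∀ (x g : GL ι F) (z : F), ((x ^ r : GL ι F) : Matrix ι ι F) = z • 1 →
        (∀ z : F, (x : Matrix ι ι F) ≠ z • 1) →
        (((g⁻¹ * x * g) ^ r : GL ι F) : Matrix ι ι F) = z • 1 ∧
        ∀ z : F, ((g⁻¹ * x * g : GL ι F) : Matrix ι ι F) ≠ z • 1 := by
      intro x g z hz hns
      refine ⟨?_, fun c hc => hns c ?_⟩
      · rw [show g⁻¹ * x * g = g⁻¹ * x * g⁻¹⁻¹ by rw [inv_inv], conj_pow, inv_inv, Units.val_mul,
          Units.val_mul, hz, mul_smul_comm, mul_one, smul_mul_assoc, Units.inv_mul]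
      · have : x = g * (g⁻¹ * x * g) * g⁻¹ := by group
        rw [this, Units.val_mul, Units.val_mul, hc, mul_smul_comm, mul_one, smul_mul_assoc, Units.mul_inv]
    by_cases hrp : r = p
    · -- transvections
      subst hrp
      set N : Matrix ι ι F := Matrix.single (Sum.inl 0) (Sum.inr 0) 1 with hN
      have hNN : N * N = 0 := by
        rw [hN]; exact Matrix.single_mul_single_of_ne _ _ _ _ (by decide) _
      let x : GL ι F := ⟨1 + N, 1 - N, by rw [mul_sub, mul_one, add_mul, one_mul, hNN]; abel,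
        by rw [sub_mul, one_mul, mul_add, mul_one, hNN]; abel⟩
      have hpow : ∀ n : ℕ, ((1 : Matrix ι ι F) + N) ^ n = 1 + (n : F) • N := by
        intro n
        induction n with
        | zero => simp
        | succ n ih =>
          rw [pow_succ, ih, mul_add, mul_one, add_mul, one_mul, smul_mul_assoc, hNN, smul_zero, add_zero,
            Nat.cast_succ, add_smul, one_smul]
          abel
      have hN0 : N ≠ 0 := fun e => by
        have := congrFun (congrFun e (Sum.inl 0)) (Sum.inr 0)
        simp [hN] at this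
      have hxr : ((x ^ r : GL ι F) : Matrix ι ι F) = 1 := by
        rw [Units.val_pow_eq_pow_val]
        show (1 + N) ^ r = 1
        rw [hpow, CharP.cast_eq_zero F r, zero_smul, add_zero]
      have hns : ∀ c : F, (x : Matrix ι ι F) ≠ c • 1 := fun c hc => by
        have := congrFun (congrFun hc (Sum.inl 0)) (Sum.inr 0)
        simp [x, hN] at this
      have hxS : x ∈ Cfsg.spGL 2 F := by
        refine (mem_spGL_iff x).mpr fun u v => ?_
        show Cfsg.sympForm 2 F ((1 + N) *ᵥ u) ((1 + N) *ᵥ v) = _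
        simp [form_eq_sum, hN, add_mulVec, Matrix.single_mulVec, Function.update_apply, Fin.sum_univ_two]
        ring
      refine ⟨x, hxS, 1, by rw [one_smul]; exact hxr, hns, fun g hg => ?_⟩
      set gi := ((g⁻¹ : GL ι F) : Matrix ι ι F) with hgi
      set gm := (g : Matrix ι ι F) with hgm
      have hgg : gm * gi = 1 := Units.mul_inv g
      have hgg' : gi * gm = 1 := Units.inv_mul g
      refine S.no_transvection hι (N := gi * N * gm) hg hoddr ?_ ?_ ?_ ?_ ?_
      · exact ((conjdata x g 1 (by rw [one_smul]; exact hxr) hns).1).trans (one_smul F 1)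
      · rw [Units.val_mul, Units.val_mul]
        show gi * (1 + N) * gm = _
        rw [mul_add, mul_one, add_mul, hgg']
      · intro e
        refine hN0 ?_
        calc N = (gm * gi) * N * (gm * gi) := by rw [hgg, one_mul, mul_one]
          _ = gm * (gi * N * gm) * gi := by simp only [mul_assoc]
          _ = 0 := by rw [e, mul_zero, zero_mul]
      · calc gi * N * gm * (gi * N * gm) = gi * N * (gm * gi) * N * gm := by simp only [mul_assoc]
          _ = 0 := by rw [hgg, mul_one, mul_assoc gi, hNN, mul_zero, zero_mul]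
      · intro X
        have key : ∀ Y, N * Y * N = Matrix.trace (Y * N) • N := fun Y => by
          rw [hN, Matrix.trace_mul_single, Matrix.single_mul_mul_single, Matrix.smul_single]
          simp
        calc gi * N * gm * X * (gi * N * gm) = gi * (N * (gm * X * gi) * N) * gm := by simp only [mul_assoc]
          _ = Matrix.trace (gm * X * gi * N) • (gi * N * gm) := by
            rw [key, mul_smul_comm, smul_mul_assoc]
          _ = _ := by
            congr 1
            rw [show gm * X * gi * N = gm * (X * gi * N) by simp only [mul_assoc], Matrix.trace_mul_comm]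
            simp only [mul_assoc]
    have five_sl : r = 5 → p % 5 = 1 ∨ p % 5 = 4 := by
      rintro rfl
      have hp50 : p % 5 ≠ 0 := fun e =>
        hrp ((Nat.prime_dvd_prime_iff_eq (by norm_num) hpr).mp (Nat.dvd_of_mod_eq_zero e))
      by_contra hc
      refine hr5 rfl ?_
      rw [← ZMod.natCast_mod p 5]
      rcases (show p % 5 = 2 ∨ p % 5 = 3 by omega) with e | e <;> rw [e] <;>
        exact orderOf_eq_prime_pow (p := 2) (n := 1) (by decide) (by decide)
    by_cases h3 : r = 3
    · subst h3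
      have h3F : (3 : F) ≠ 0 := fun e => hrp (cast0 3 Nat.prime_three (by exact_mod_cast e)).symm
      let x : GL ι F := ⟨Matrix.fromBlocks !![0, 0; 0, 1] !![-1, 0; 0, 0] !![1, 0; 0, 0] !![-1, 0; 0, 1],
        Matrix.fromBlocks !![-1, 0; 0, 1] !![1, 0; 0, 0] !![-1, 0; 0, 0] !![0, 0; 0, 1],
        by
          rw [fromBlocks_multiply, ← fromBlocks_one]
          congr 1 <;> ext i j <;> fin_cases i <;> fin_cases j <;> simp,
        by
          rw [fromBlocks_multiply, ← fromBlocks_one]
          congr 1 <;> ext i j <;> fin_cases i <;> fin_cases j <;> simp⟩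
      have hx3 : ((x ^ 3 : GL ι F) : Matrix ι ι F) = (1 : F) • 1 := by
        rw [one_smul, Units.val_pow_eq_pow_val, pow_succ, pow_two]
        show Matrix.fromBlocks _ _ _ _ * Matrix.fromBlocks _ _ _ _ * Matrix.fromBlocks _ _ _ _ = _
        rw [fromBlocks_multiply, fromBlocks_multiply, ← fromBlocks_one]
        congr 1 <;> ext i j <;> fin_cases i <;> fin_cases j <;> simp
      have hns : ∀ c : F, (x : Matrix ι ι F) ≠ c • 1 := fun c hc => by
        have := congrFun (congrFun hc (Sum.inr 0)) (Sum.inl 0)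
        simp [x] at this
      have hxS : x ∈ Cfsg.spGL 2 F := by
        refine (mem_spGL_iff x).mpr fun u v => ?_
        show Cfsg.sympForm 2 F (Matrix.fromBlocks _ _ _ _ *ᵥ u) (Matrix.fromBlocks _ _ _ _ *ᵥ v) = _
        simp [form_eq_sum, mulVec, dotProduct, Fintype.sum_sum_type, Fin.sum_univ_two]
        ring
      refine ⟨x, hxS, 1, hx3, hns, fun g hg => ?_⟩
      obtain ⟨h1, h2⟩ := conjdata x g 1 hx3 hns
      obtain ⟨-, f, hf, hC⟩ := S.fixed_card (a := 1) hR5 hRZ hg hr2 h1 h2
      rcases hf with rfl | ⟨rfl, -⟩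
      · -- only the centre is fixed
        set y := g⁻¹ * x * g
        have hCZ : ∀ w ∈ R, y * w = w * y → w = 1 ∨ w = -1 := by
          intro w hw hyw
          by_contra hne
          rw [not_or] at hne
          haveI : Finite ↥(Subgroup.centralizer {y} ⊓ R) :=
            Finite.Set.subset (R : Set (GL ι F)) (fun x hx => hx.2)
          have hn : ∀ v, v = 1 ∨ v = -1 ∨ v = w → v ∈ Subgroup.centralizer {y} ⊓ R := by
            rintro v (rfl | rfl | rfl)
            · exact one_mem _
            · exact ⟨Subgroup.mem_centralizer_iff.mpr (by simp), S.neg⟩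
            · exact ⟨Subgroup.mem_centralizer_iff.mpr (by simpa using hyw), hw⟩
          have : ({1, -1, w} : Finset (GL ι F)).card ≤ Nat.card ↥(Subgroup.centralizer {y} ⊓ R) := by
            rw [← Nat.card_eq_finsetCard]
            exact Nat.card_le_card_of_injective (fun v => ⟨v.1, hn v.1 (by
                have := v.2; simp only [Finset.mem_insert, Finset.mem_singleton] at this; exact this)⟩)
              fun v v' e => Subtype.ext (congrArg (fun u : ↥(Subgroup.centralizer {y} ⊓ R) => (u : GL ι F)) e)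
          rw [hC, Finset.card_eq_three.mpr ⟨1, -1, w, (negne 1).symm, Ne.symm hne.1, Ne.symm hne.2, rfl⟩] at this
          norm_num at this
        have hy3 : ∀ v, y * (y * (y * v * y⁻¹) * y⁻¹) * y⁻¹ = v := by
          intro v
          have e : y ^ 3 * v = v * y ^ 3 := Units.ext (by
            simp only [Units.val_mul, h1, smul_mul_assoc, one_mul, mul_smul_comm, mul_one])
          calc y * (y * (y * v * y⁻¹) * y⁻¹) * y⁻¹ = y ^ 3 * v * (y ^ 3)⁻¹ := by
                simp only [pow_succ, pow_zero, one_mul, _root_.mul_inv_rev, mul_assoc]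
            _ = v := by rw [e, mul_inv_cancel_right]
        have hmem : ∀ v ∈ R, y * v * y⁻¹ ∈ R := fun v hv => (Subgroup.mem_set_normalizer_iff.mp hg v).mp hv
        -- the three images of an involution
        set u' := y * a * y⁻¹ with hu'
        set u'' := y * u' * y⁻¹ with hu''
        have huR' : u' ∈ R := hmem _ ha
        have huR'' : u'' ∈ R := hmem _ huR'
        have sq1 : u' * u' = 1 := by
          rw [hu']; calc y * a * y⁻¹ * (y * a * y⁻¹) = y * (a * a) * y⁻¹ := by group
            _ = 1 := by rw [haa]; group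
        have sq2 : u'' * u'' = 1 := by
          rw [hu'']; calc y * u' * y⁻¹ * (y * u' * y⁻¹) = y * (u' * u') * y⁻¹ := by group
            _ = 1 := by rw [sq1]; group
        have hy'' : y * u'' * y⁻¹ = a := hy3 a
        set W := a * u' * u'' with hW
        have hWR : W ∈ R := R.mul_mem (R.mul_mem ha huR') huR''
        have hWc : y * W * y⁻¹ * W⁻¹ = 1 ∨ y * W * y⁻¹ * W⁻¹ = -1 := by
          have e : y * W * y⁻¹ = u' * u'' * a := by
            calc y * W * y⁻¹ = (y * a * y⁻¹) * (y * u' * y⁻¹) * (y * u'' * y⁻¹) := by rw [hW]; group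
              _ = _ := by rw [hy'', ← hu', ← hu'']
          rcases dich _ (R.mul_mem huR' huR'') _ ha with e' | e'
          · refine Or.inl ?_
            rw [e, e', hW, ← mul_assoc, mul_inv_cancel]
          · refine Or.inr ?_
            rw [e, e', hW, ← mul_assoc, neg_mul, mul_inv_cancel]
        have hWy : y * W = W * y := by
          rcases hWc with e | e
          · exact mul_inv_eq_iff_eq_mul.mp (mul_inv_eq_one.mp e)
          · have := S.comm_scalar hoddr h1 (by rw [e]; exact S.neg) (c := -1) (by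
              rw [e, Units.val_neg, Units.val_one, neg_one_smul])
            exact mul_inv_eq_iff_eq_mul.mp (mul_inv_eq_one.mp this)
        have hu''eq : u'' = u' * a ∨ u'' = -(u' * a) := by
          have e : u'' = u' * a * W := by
            rw [hW, show u' * a * (a * u' * u'') = u' * ((a * a) * u') * u'' by group, haa, one_mul, sq1, one_mul]
          rcases hCZ W hWR hWy with h | h <;> rw [h] at e
          · exact Or.inl (by rw [e, mul_one])
          · exact Or.inr (by rw [e, mul_neg_one])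
        have hne' : u' ≠ a ∧ u' ≠ -a := by
          refine ⟨fun e => ?_, fun e => ?_⟩
          · rcases hCZ a ha (mul_inv_eq_iff_eq_mul.mp (hu'.symm.trans e)) with h | h
            exacts [ha1.1 h, ha1.2 h]
          · have h3' := hy3 a
            rw [← hu', e, mul_neg, neg_mul, ← hu', e, neg_neg, ← hu', e] at h3'
            exact negne a h3'
        have hu'1 : u' ≠ 1 ∧ u' ≠ -1 := by
          refine ⟨fun e => ha1.1 ?_, fun e => ha1.2 ?_⟩
          · have : a = y⁻¹ * u' * y := by rw [hu']; group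
            rw [this, e]; group
          · have : a = y⁻¹ * u' * y := by rw [hu']; group
            rw [this, e, mul_neg_one, neg_mul, inv_mul_cancel]
        rcases dich u' huR' a ha with e | e
        · exact no_eight S hRm ha huR' haa sq1 e.symm ha1 hu'1 hne'
        · have hsq : u' * a * (u' * a) = -1 := by
            rw [mul_assoc, ← mul_assoc a, show a * u' = -(u' * a) by rw [e, neg_neg], neg_mul, mul_assoc u' a,
              haa, mul_one, mul_neg, sq1]
          rcases hu''eq with h | h <;> rw [h] at sq2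
          · rw [hsq] at sq2; exact negne 1 sq2
          · rw [neg_mul_neg, hsq] at sq2; exact negne 1 sq2
      · have h := S.trace_count hg hoddr h1
        rw [hι, hC, hR5, show (g⁻¹ * x * g)⁻¹ = g⁻¹ * x⁻¹ * g by group, Units.val_mul, Units.val_mul,
          Units.val_mul, Units.val_mul, trace_units_conj', trace_units_conj'] at h
        simp [x, Matrix.trace, Fintype.sum_sum_type, Fin.sum_univ_two] at h
        exact mul_ne_zero (pow_ne_zero 5 h2F) h3F (by push_cast at h; linear_combination h)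
    by_cases h5 : r = 5
    · subst h5
      have hp14 := five_sl rfl
      have hp5 : p ≠ 5 := fun e => hrp e.symm
      have hc := S5968.card_SL_mul (F := F) (k := 2) hF (by norm_num)
      have h5S : 5 ∣ Nat.card (SpecialLinearGroup (Fin 2) F) := by
        obtain ⟨k, rfl⟩ : ∃ k, p = k + 1 := ⟨p - 1, by have := hpr.two_le; omega⟩
        rw [Finset.prod_range_succ, Finset.prod_range_one, pow_zero, pow_one, Nat.add_sub_cancel,
          show (k + 1) ^ 2 = k * (k + 2) + 1 by ring, Nat.add_sub_cancel,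
          show k * (k + 2) + 1 = k * (k + 1) + (k + 1) by ring, Nat.add_sub_cancel] at hc
        have hk : 0 < k := by have := hpr.two_le; omega
        rw [Nat.eq_of_mul_eq_mul_right hk (hc.trans
          (show k * (k + 2) * (k * (k + 1)) = (k * (k + 2) * (k + 1)) * k by ring))]
        refine Dvd.dvd.mul_right ?_ _
        rcases hp14 with e | e
        · exact Dvd.dvd.mul_right (by omega) _
        · exact Dvd.dvd.mul_left (by omega) _
      haveI : Fact (Nat.Prime 5) := ⟨by norm_num⟩
      obtain ⟨m, hm⟩ := exists_prime_orderOf_dvd_card' 5 h5S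
      set M := (m : Matrix (Fin 2) (Fin 2) F) with hM
      set s := Matrix.trace M with hs
      have hch : M * M = s • M - 1 := by
        have hd : M 0 0 * M 1 1 - M 0 1 * M 1 0 = 1 := by rw [← det_fin_two]; exact m.2
        ext i j
        fin_cases i <;> fin_cases j <;> simp [mul_apply, Fin.sum_univ_two, s, Matrix.trace_fin_two] <;>
          first | ring1 | linear_combination -hd
      have hM5 : M ^ 5 = 1 := by
        have h' : m ^ 5 = 1 := by rw [← hm]; exact pow_orderOf_eq_one m
        simpa [hM] using congrArg (fun u : SpecialLinearGroup (Fin 2) F => (u : Matrix (Fin 2) (Fin 2) F)) h'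
      have hMns : ∀ c : F, M ≠ c • 1 := by
        intro c hc'
        have hd : M.det = 1 := m.2
        simp [hc'] at hd
        rw [hc', _root_.smul_pow, one_pow] at hM5
        have h5c : c ^ 5 = 1 := by
          have := congrFun (congrFun hM5 0) 0
          simpa using this
        have hc1 : c = 1 := by
          rcases hd with h | h
          · exact h
          · exact absurd (by rw [h] at h5c; linear_combination -h5c) h2F
        have : m = 1 := Subtype.ext (by rw [← hM, hc', hc1, one_smul]; rfl)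
        rw [this, orderOf_one] at hm
        omega
      have hexp : (s ^ 4 - 3 * s ^ 2 + 1) • M = (s ^ 3 - 2 * s + 1) • (1 : Matrix (Fin 2) (Fin 2) F) := by
        have h3' : M * M * M = (s ^ 2 - 1) • M - s • 1 := by
          rw [hch, sub_mul, smul_mul_assoc, hch, one_mul]; module
        have e : M ^ 5 = (M * M * M) * (M * M) := by simp only [pow_succ, pow_zero, one_mul, mul_assoc]
        rw [e, h3', hch] at hM5
        simp only [sub_mul, mul_sub, smul_mul_assoc, mul_smul_comm, mul_one, one_mul, hch] at hM5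
        linear_combination (norm := module) hM5
      have hk0 : s ^ 4 - 3 * s ^ 2 + 1 = 0 := by
        by_contra hk
        exact hMns ((s ^ 4 - 3 * s ^ 2 + 1)⁻¹ * (s ^ 3 - 2 * s + 1))
          (by rw [← smul_smul, ← hexp, smul_smul, inv_mul_cancel₀ hk, one_smul])
      have hk1 : s ^ 3 - 2 * s + 1 = 0 := by
        rw [hk0, zero_smul] at hexp
        have := congrFun (congrFun hexp.symm 0) 0
        simpa using this
      let x : GL ι F := ⟨Matrix.fromBlocks !![0, 0; 0, 1] !![-1, 0; 0, 0] !![1, 0; 0, 0] !![s, 0; 0, 1],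
        Matrix.fromBlocks !![s, 0; 0, 1] !![1, 0; 0, 0] !![-1, 0; 0, 0] !![0, 0; 0, 1],
        by
          rw [fromBlocks_multiply, ← fromBlocks_one]
          congr 1 <;> ext i j <;> fin_cases i <;> fin_cases j <;> simp,
        by
          rw [fromBlocks_multiply, ← fromBlocks_one]
          congr 1 <;> ext i j <;> fin_cases i <;> fin_cases j <;> simp⟩
      have hpw : ((x ^ 5 : GL ι F) : Matrix ι ι F) = (1 : F) • 1 := by
        rw [one_smul, Units.val_pow_eq_pow_val, show 5 = 2 + 2 + 1 from rfl, pow_succ, pow_add, pow_two]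
        show Matrix.fromBlocks _ _ _ _ * Matrix.fromBlocks _ _ _ _ *
          (Matrix.fromBlocks _ _ _ _ * Matrix.fromBlocks _ _ _ _) * Matrix.fromBlocks _ _ _ _ = _
        simp only [fromBlocks_multiply]
        rw [← fromBlocks_one]
        congr 1 <;> ext i j <;> fin_cases i <;> fin_cases j <;> simp <;>
          first | linear_combination hk0 | linear_combination -hk0 | linear_combination hk1 |
            linear_combination -hk1 | linear_combination s * hk0 - hk1 | linear_combination -s * hk0 + hk1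
      have hns : ∀ c : F, (x : Matrix ι ι F) ≠ c • 1 := fun c hc' => by
        have := congrFun (congrFun hc' (Sum.inr 0)) (Sum.inl 0)
        simp [x] at this
      have hxS : x ∈ Cfsg.spGL 2 F := by
        refine (mem_spGL_iff x).mpr fun u v => ?_
        show Cfsg.sympForm 2 F (Matrix.fromBlocks _ _ _ _ *ᵥ u) (Matrix.fromBlocks _ _ _ _ *ᵥ v) = _
        simp [form_eq_sum, mulVec, dotProduct, Fintype.sum_sum_type, Fin.sum_univ_two]
        ring
      refine ⟨x, hxS, 1, hpw, hns, fun g hg => ?_⟩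
      obtain ⟨h1, h2⟩ := conjdata x g 1 hpw hns
      rcases S.trace_mem hι (a := 1) hR5 hRZ hg hr2 h1 h2 with h | ⟨h', -⟩
      · rw [show (g⁻¹ * x * g)⁻¹ = g⁻¹ * x⁻¹ * g by group, Units.val_mul, Units.val_mul,
          Units.val_mul, Units.val_mul, trace_units_conj', trace_units_conj'] at h
        simp [x, Matrix.trace, Fintype.sum_sum_type, Fin.sum_univ_two] at h
        rcases mul_eq_zero.mp (show (s + 1) * (s + 3) = 0 by linear_combination h) with e | e
        · exact h2F (by linear_combination hk1 - (s ^ 2 - s - 1) * e)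
        · have h20 : (2 : F) ^ 2 * 5 = 0 := by linear_combination -hk1 + (s ^ 2 - 3 * s + 7) * e
          rcases mul_eq_zero.mp h20 with e' | e'
          · exact h2F (pow_eq_zero_iff (by norm_num) |>.mp e')
          · exact hp5 (cast0 5 (by norm_num) (by exact_mod_cast e'))
      · omega
    · have hdvd : r ∣ Nat.card ↥(Cfsg.spGL 2 F) := hΩ.trans (Subgroup.relIndex_dvd_card _ _)
      obtain ⟨⟨x, hx⟩, hxo⟩ := exists_prime_orderOf_dvd_card' r hdvd
      rw [Subgroup.orderOf_mk] at hxo
      have hxr : ((x ^ r : GL ι F) : Matrix ι ι F) = (1 : F) • 1 := by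
        rw [← hxo, pow_orderOf_eq_one, one_smul, Units.val_one]
      have hns : ∀ c : F, (x : Matrix ι ι F) ≠ c • 1 := fun c hc => by
        have hd := det_eq_one hx
        rw [hc, det_smul, det_one, mul_one, hι] at hd
        have : x ^ 4 = 1 := Units.ext (by
          rw [Units.val_pow_eq_pow_val, hc, _root_.smul_pow, one_pow, hd, one_smul, Units.val_one])
        have h4 := orderOf_dvd_of_pow_eq_one this
        rw [hxo, show 4 = 2 ^ 2 from rfl] at h4
        exact hr2 ((Nat.prime_dvd_prime_iff_eq Fact.out Nat.prime_two).mp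
          ((Fact.out (p := r.Prime)).dvd_of_dvd_pow h4))
      refine ⟨x, hx, 1, hxr, hns, fun g hg => ?_⟩
      obtain ⟨h1, h2⟩ := conjdata x g 1 hxr hns
      rcases (S.fixed_card (a := 1) hR5 hRZ hg hr2 h1 h2).1 with h | h <;> contradiction
  · intro hr x hx ⟨z, hz⟩ hns
    have hz1 : z = 1 ∨ z = -1 := by
      have h' := (mem_spGL_iff _).mp (Subgroup.pow_mem _ hx r)
      have e := h' (Pi.single (Sum.inl 0) 1) (Pi.single (Sum.inr 0) 1)
      rw [hz, smul_mulVec, smul_mulVec, one_mulVec, one_mulVec, form_smul_left, form_smul_right] at e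
      have hne : Cfsg.sympForm 2 F (Pi.single (Sum.inl 0) 1) (Pi.single (Sum.inr 0) 1) ≠ 0 := by
        simp [Cfsg.sympForm, Matrix.J]
      exact mul_self_eq_one_iff.mp (mul_right_cancel₀ hne (by rw [one_mul, mul_assoc]; exact e))
    have inR : ∀ u ∈ R, u ∈ Cfsg.Geo.subgroupNormalizer R := fun u hu => Subgroup.le_normalizer hu
    have cop : ∀ n : ℕ, ¬ p ∣ n → n.Coprime p := fun n hn => (hpr.coprime_iff_not_dvd.mpr hn).symm
    rw [Units.val_pow_eq_pow_val] at hz
    rcases hr with rfl | ⟨rfl, hp5⟩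
    · -- involutions
      rw [pow_two] at hz
      have key : ∀ u ∈ R, u ≠ 1 → u ≠ -1 → ((u : Matrix ι ι F) * u = z • 1) →
          ∃ g ∈ Cfsg.spGL 2 F, g⁻¹ * x * g ∈ Cfsg.Geo.subgroupNormalizer R := by
        intro u hu h1 h1' huz
        have h4 : ∀ g : GL ι F, (g : Matrix ι ι F) * g = z • 1 → g ^ 4 = 1 := fun g hg => Units.ext (by
          rw [Units.val_pow_eq_pow_val, show (g : Matrix ι ι F) ^ 4 = ((g : Matrix ι ι F) * g) *
            ((g : Matrix ι ι F) * g) by simp only [pow_succ, pow_zero, one_mul, mul_assoc], hg,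
            smul_mul_smul_comm, one_mul, Units.val_one]
          rcases hz1 with rfl | rfl <;> simp)
        obtain ⟨g, hg, hge⟩ := conj_spGL (p := p) (m := 4) (cop 4 fun h =>
          hp2 ((Nat.prime_dvd_prime_iff_eq hpr Nat.prime_two).mp (hpr.dvd_of_dvd_pow (show p ∣ 2 ^ 2 from h))))
          hx (hRf hu) (h4 x hz) (h4 u huz)
          (by rw [sq_charpoly h2F hz1 hx hz hns, sq_charpoly h2F hz1 (hRf hu) huz (nscal u hu h1 h1')])
        exact ⟨g, hg, hge ▸ inR u hu⟩
      rcases hz1 with rfl | rfl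
      · exact key a ha ha1.1 ha1.2 (by rw [← Units.val_mul, haa, one_smul, Units.val_one])
      · exact key c hc hc1.1 hc1.2 (by rw [← Units.val_mul, hcc, neg_one_smul, Units.val_neg, Units.val_one])
    · haveI : Fact (Nat.Prime 5) := ⟨by norm_num⟩
      have hp5' : p ≠ 5 := fun e => by
        rw [e, show ((5 : ℕ) : ZMod 5) = 0 from ZMod.natCast_self 5] at hp5
        simp at hp5
      have hirr : Irreducible (cyclotomic 5 F) := by
        refine irreducible_of_dvd_cyclotomic_of_natDegree (p := p) (f := 1) ?_ ?_ dvd_rfl ?_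
        · rw [hF, pow_one]
        · exact (Nat.coprime_primes hpr (by norm_num)).mpr hp5'
        · rw [natDegree_cyclotomic, Nat.totient_prime (by norm_num : Nat.Prime 5), ← orderOf_units,
            ZMod.coe_unitOfCoprime, pow_one, hp5]
      have h5F : ((5 : ℕ) : F) ≠ 0 := fun e => hp5' (cast0 5 (by norm_num) e)
      have shape : ∀ A : Matrix ι ι F, A ^ 5 = 1 → A ≠ 1 → A.charpoly = cyclotomic 5 F := by
        intro A hA hA1
        obtain ⟨a, b, e, hab⟩ := shapeSum (A := A) (irreducible_X_sub_C (1 : F)) (monic_X_sub_C 1) hirr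
          (cyclotomic.monic 5 F) (by
            rw [map_one, mul_comm, cyclotomic_prime_mul_X_sub_one, map_sub, map_pow, aeval_X, map_one, hA,
              sub_self])
        rw [natDegree_X_sub_C, mul_one, natDegree_cyclotomic, Nat.totient_prime (by norm_num : Nat.Prime 5)] at hab
        rcases Nat.eq_zero_or_pos b with hb | hb
        · subst hb
          refine absurd ?_ hA1
          rw [← one_smul F (1 : Matrix ι ι F)]
          exact eq_scalar h5F hA (one_pow 5) (by rw [e, show a = 4 by omega, pow_zero, mul_one])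
        · rw [e, show a = 0 by omega, show b = 1 by omega, pow_zero, one_mul, pow_one]
      obtain ⟨y, ⟨hyS, hyN⟩, hy5, hy1⟩ :=
        exists_five (p := p) S hRf ha hb hc hd haa hbb hcc hdd hba hca hcb hda hdb hdc hgen
      have hzinv : z * z = 1 := by rcases hz1 with rfl | rfl <;> simp
      obtain ⟨w, hwR, hwv⟩ : ∃ w ∈ R, (w : Matrix ι ι F) = z • 1 := by
        rcases hz1 with rfl | rfl
        · exact ⟨1, R.one_mem, by simp⟩
        · exact ⟨-1, S.neg, by simp⟩
      set x' := w * x with hx'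
      have hx'5 : (x' : Matrix ι ι F) ^ 5 = 1 := by
        rw [hx', Units.val_mul, hwv, smul_mul_assoc, one_mul, _root_.smul_pow, hz, smul_smul,
          show z ^ 5 * z = (z * z) ^ 3 by ring, hzinv, one_pow, one_smul]
      have hx'1 : (x' : Matrix ι ι F) ≠ 1 := fun e => hns z (by
        rw [hx', Units.val_mul, hwv, smul_mul_assoc, one_mul] at e
        rw [← e, smul_smul, hzinv, one_smul])
      obtain ⟨g, hg, hge⟩ := conj_spGL (p := p) (m := 5) (cop 5 fun h =>
          hp5' ((Nat.prime_dvd_prime_iff_eq hpr (by norm_num)).mp h))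
        (Subgroup.mul_mem _ (hRf hwR) hx) hyS (Units.ext (by rw [Units.val_pow_eq_pow_val, hx'5, Units.val_one]))
        (Units.ext (by rw [Units.val_pow_eq_pow_val, hy5, Units.val_one]))
        (by rw [shape _ hx'5 hx'1, shape _ hy5 hy1])
      refine ⟨g, hg, ?_⟩
      have hww : w * w = 1 := Units.ext (by
        rw [Units.val_mul, hwv, smul_mul_smul_comm, hzinv, one_mul, one_smul, Units.val_one])
      have hwc : g⁻¹ * w = w * g⁻¹ := Units.ext (by
        simp only [Units.val_mul, hwv, smul_mul_assoc, one_mul, mul_smul_comm, mul_one])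
      have : g⁻¹ * x * g = w * y := by
        rw [← hge]
        calc g⁻¹ * x * g = (w * w) * (g⁻¹ * x * g) := by rw [hww, one_mul]
          _ = w * ((w * g⁻¹) * x * g) := by simp only [mul_assoc]
          _ = _ := by rw [← hwc]; simp only [mul_assoc]
      rw [this]
      exact Subgroup.mul_mem _ (inR w hwR) hyN

end Cfsg.Agent.S6002
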